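import Cfsg.Statements.S2956
import Cfsg.Agent.S2957
import Cfsg.Agent.Lib.Helper13.FamilyCtl
import Mathlib.Data.Fintype.Lattice

set_option autoImplicit false
open Cfsg

namespace Cfsg.Agent.S2956

open Cfsg.Agent.Lib.Helper18 Cfsg.Agent.Lib.Helper13 Cfsg.Agent.S2939 Cfsg.Agent.S2957

section
variable {G : Type*} [Group G]

theorem conjRight_mul (a b : G) (E : Set G) : conjRight (a * b) E = conjRight b (conjRight a E) := by
  ext x
  constructor
  · rintro ⟨e, he, rfl⟩
    exact ⟨a⁻¹ * e * a, ⟨e, he, rfl⟩, by group⟩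
  · rintro ⟨_, ⟨e, he, rfl⟩, rfl⟩
    exact ⟨e, he, by group⟩

theorem conjRight_one (E : Set G) : conjRight (1 : G) E = E := by
  ext x
  constructor
  · rintro ⟨e, he, rfl⟩
    simpa using he
  · intro hx
    exact ⟨x, hx, by simp⟩

theorem conjRight_mono {E E' : Set G} (h : E' ⊆ E) (a : G) : conjRight a E' ⊆ conjRight a E := by
  rintro _ ⟨e, he, rfl⟩
  exact ⟨e, h he, rfl⟩

theorem conjRight_inv_cancel (a : G) (E : Set G) : conjRight a⁻¹ (conjRight a E) = E := by
  rw [← conjRight_mul, mul_inv_cancel, conjRight_one]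

theorem coe_rc (R : Subgroup G) (g : G) : ((rc R g : Subgroup G) : Set G) = conjRight g (R : Set G) := by
  ext x
  constructor
  · intro hx
    have := mem_rc.mp hx
    exact ⟨g * x * g⁻¹, this, by group⟩
  · rintro ⟨r, hr, rfl⟩
    exact rc_mem hr

theorem rc_eq_conjSub (R : Subgroup G) (g : G) : rc R g = conjSub g⁻¹ R := rfl

theorem conjRight_nonid {E : Set G} (h : ∃ a ∈ E, a ≠ 1) (g : G) : ∃ a ∈ conjRight g E, a ≠ 1 := by
  obtain ⟨a, ha, ha1⟩ := h
  refine ⟨g⁻¹ * a * g, ⟨a, ha, rfl⟩, ?_⟩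
  intro h1
  apply ha1
  have : a = g * (g⁻¹ * a * g) * g⁻¹ := by group
  rw [this, h1]; group

end

section
variable {G : Type*} [Group G] [Finite G] {p : ℕ} [Fact p.Prime]

/-- decomposition paths for a family `𝓗` relative to `S` -/
inductive Path (p : ℕ) (𝓗 : Set (Subgroup G)) (S : Subgroup G) : Set G → G → Prop
  | base (E : Set G) (y₀ : G) (h : y₀ ∈ Subgroup.normalizer (S : Set G)) : Path p 𝓗 S E y₀
  | cons (E : Set G) (Y : Subgroup G) (y x : G) (hY : Y ∈ sylowMembers p 𝓗 S) (hy : y ∈ Y)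
      (hE : conjRight y E ⊆ (S : Set G) ∩ (Y : Set G)) (h : Path p 𝓗 S (conjRight y E) x) :
      Path p 𝓗 S E (y * x)

namespace Path

variable {𝓗 : Set (Subgroup G)} {S : Subgroup G}

theorem mono {E : Set G} {x : G} (h : Path p 𝓗 S E x) : ∀ {E' : Set G}, E' ⊆ E → Path p 𝓗 S E' x := by
  induction h with
  | base E y₀ h => intro E' _; exact Path.base E' y₀ h
  | cons E Y y x hY hy hE _ ih =>
    intro E' hE'
    exact Path.cons E' Y y x hY hy ((conjRight_mono hE' y).trans hE) (ih (conjRight_mono hE' y))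

theorem single {E : Set G} {Y : Subgroup G} {y : G} (hY : Y ∈ sylowMembers p 𝓗 S) (hy : y ∈ Y)
    (hE : conjRight y E ⊆ (S : Set G) ∩ (Y : Set G)) : Path p 𝓗 S E y := by
  have := Path.cons E Y y 1 hY hy hE (Path.base _ 1 (Subgroup.one_mem _))
  rwa [mul_one] at this

/-- left multiplication by an element of `N(S)` -/
theorem normalizer_mul (h𝓗 : IsNormalSet 𝓗) {y₀ : G} (hy₀ : y₀ ∈ Subgroup.normalizer (S : Set G))
    {E' : Set G} {x : G} (h : Path p 𝓗 S E' x) :
    ∀ {E : Set G}, conjRight y₀ E = E' → Path p 𝓗 S E (y₀ * x) := by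
  induction h with
  | base E' z h =>
    intro E _
    exact Path.base E _ (Subgroup.mul_mem _ hy₀ h)
  | cons E' Y y x hY hy hE _ ih =>
    intro E hEE
    have hYc : conjSub y₀ Y ∈ sylowMembers p 𝓗 S := by
      have := sylowMembers_conj h𝓗 hY y₀
      rwa [conjSub_eq_of_mem_normalizer hy₀] at this
    have e : y₀ * (y * x) = (y₀ * y * y₀⁻¹) * (y₀ * x) := by group
    rw [e]
    have hsub : conjRight (y₀ * y * y₀⁻¹) E ⊆ (S : Set G) ∩ (conjSub y₀ Y : Subgroup G) := by
      rintro _ ⟨a, ha, rfl⟩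
      have h1 : y⁻¹ * (y₀⁻¹ * a * y₀) * y ∈ (S : Set G) ∩ (Y : Set G) :=
        hE ⟨y₀⁻¹ * a * y₀, hEE ▸ ⟨a, ha, rfl⟩, rfl⟩
      have e2 : (y₀ * y * y₀⁻¹)⁻¹ * a * (y₀ * y * y₀⁻¹) = y₀ * (y⁻¹ * (y₀⁻¹ * a * y₀) * y) * y₀⁻¹ := by
        group
      show (y₀ * y * y₀⁻¹)⁻¹ * a * (y₀ * y * y₀⁻¹) ∈ _
      rw [e2]
      refine ⟨?_, conj_mem_conjSub h1.2⟩
      exact (Subgroup.mem_normalizer_iff.mp hy₀ _).mp h1.1
    apply Path.cons E (conjSub y₀ Y) (y₀ * y * y₀⁻¹) (y₀ * x) hYc (conj_mem_conjSub hy) hsub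
    apply ih
    rw [← conjRight_mul, ← hEE, ← conjRight_mul]
    congr 1
    group

theorem append (h𝓗 : IsNormalSet 𝓗) {E : Set G} {x : G} (h : Path p 𝓗 S E x) :
    ∀ {k : G}, Path p 𝓗 S (conjRight x E) k → Path p 𝓗 S E (x * k) := by
  induction h with
  | base E y₀ h =>
    intro k hk
    exact normalizer_mul h𝓗 h hk rfl
  | cons E Y y x hY hy hE _ ih =>
    intro k hk
    rw [mul_assoc]
    apply Path.cons E Y y (x * k) hY hy hE
    apply ih
    rwa [conjRight_mul] at hk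

theorem reverse (h𝓗 : IsNormalSet 𝓗) {E : Set G} {x : G} (h : Path p 𝓗 S E x) :
    E ⊆ (S : Set G) → Path p 𝓗 S (conjRight x E) x⁻¹ := by
  induction h with
  | base E y₀ h =>
    intro _
    exact Path.base _ _ (Subgroup.inv_mem _ h)
  | cons E Y y x hY hy hE _ ih =>
    intro hES
    rw [mul_inv_rev, conjRight_mul]
    apply (ih (fun a ha => (hE ha).1)).append h𝓗
    rw [conjRight_inv_cancel]
    apply Path.single hY (Y.inv_mem hy)
    rw [conjRight_inv_cancel]
    intro a ha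
    refine ⟨hES ha, ?_⟩
    have h1 : y⁻¹ * a * y ∈ Y := (hE ⟨a, ha, rfl⟩).2
    have : a = y * (y⁻¹ * a * y) * y⁻¹ := by group
    rw [this]
    exact Y.mul_mem (Y.mul_mem hy h1) (Y.inv_mem hy)

theorem conj (h𝓗 : IsNormalSet 𝓗) {E : Set G} {x : G} (h : Path p 𝓗 S E x) (c : G) :
    Path p 𝓗 (conjSub c⁻¹ S) (conjRight c E) (c⁻¹ * x * c) := by
  induction h with
  | base E y₀ h =>
    apply Path.base
    rw [normalizer_conjSub, mem_conjSub]
    have : c⁻¹⁻¹ * (c⁻¹ * y₀ * c) * c⁻¹ = y₀ := by group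
    rw [this]; exact h
  | cons E Y y x hY hy hE _ ih =>
    have e : c⁻¹ * (y * x) * c = (c⁻¹ * y * c) * (c⁻¹ * x * c) := by group
    rw [e]
    have hy' : c⁻¹ * y * c ∈ conjSub c⁻¹ Y := by
      have := conj_mem_conjSub (g := c⁻¹) hy
      rwa [inv_inv] at this
    have hsub : conjRight (c⁻¹ * y * c) (conjRight c E) ⊆
        ((conjSub c⁻¹ S : Subgroup G) : Set G) ∩ ((conjSub c⁻¹ Y : Subgroup G) : Set G) := by
      rintro _ ⟨_, ⟨a, ha, rfl⟩, rfl⟩
      have h1 := hE ⟨a, ha, rfl⟩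
      have e2 : (c⁻¹ * y * c)⁻¹ * (c⁻¹ * a * c) * (c⁻¹ * y * c) = c⁻¹ * (y⁻¹ * a * y) * c⁻¹⁻¹ := by
        group
      show (c⁻¹ * y * c)⁻¹ * (c⁻¹ * a * c) * (c⁻¹ * y * c) ∈ _
      rw [e2]
      exact ⟨conj_mem_conjSub h1.1, conj_mem_conjSub h1.2⟩
    apply Path.cons _ (conjSub c⁻¹ Y) _ _ (sylowMembers_conj h𝓗 hY c⁻¹) hy' hsub
    have e3 : conjRight (c⁻¹ * y * c) (conjRight c E) = conjRight c (conjRight y E) := by
      rw [← conjRight_mul, ← conjRight_mul]
      congr 1
      group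
    rw [e3]
    exact ih

/-- conversion to the `Fin`-indexed form used in `FamilyStronglyControlsFusion` -/
theorem exists_fin {E : Set G} {x : G} (h : Path p 𝓗 S E x) :
    ∃ (n : ℕ) (Y : Fin n → Subgroup G) (y : Fin n → G) (y₀ : G),
      y₀ ∈ Subgroup.normalizer (S : Set G) ∧
      (∀ i : Fin n, Y i ∈ sylowMembers p 𝓗 S ∧ y i ∈ Y i) ∧
      x = (List.ofFn y).prod * y₀ ∧
      ∀ i : Fin n, conjRight (((List.ofFn y).take (i.val + 1)).prod) E ⊆ (S : Set G) ∩ (Y i : Set G) := by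
  induction h with
  | base E y₀ h =>
    exact ⟨0, Fin.elim0, Fin.elim0, y₀, h, fun i => i.elim0, by simp, fun i => i.elim0⟩
  | cons E Y y x hY hy hE _ ih =>
    obtain ⟨n, Y', y', y₀, hy₀, hYy, hx, hstep⟩ := ih
    have hlist : List.ofFn (Fin.cons y y' : Fin (n + 1) → G) = y :: List.ofFn y' := by
      rw [List.ofFn_succ]
      simp
    refine ⟨n + 1, Fin.cons Y Y', Fin.cons y y', y₀, hy₀, ?_, ?_, ?_⟩
    · intro i
      refine Fin.cases ?_ (fun j => ?_) i
      · simpa using ⟨hY, hy⟩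
      · simpa using hYy j
    · rw [hlist, List.prod_cons, hx, mul_assoc]
    · intro i
      refine Fin.cases ?_ (fun j => ?_) i
      · rw [hlist]
        simpa using hE
      · rw [hlist, Fin.cons_succ]
        have : (Fin.succ j).val + 1 = (j.val + 1) + 1 := by simp
        rw [this, List.take_succ_cons, List.prod_cons, conjRight_mul]
        exact hstep j

end Path

end

section
variable {G : Type*} [Group G] [Finite G] {p : ℕ} [Fact p.Prime]

theorem exists_maximal_pLocal_ge {N : Subgroup G} (hN : IsPLocal p N) :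
    ∃ M : Subgroup G, IsMaximalPLocal p M ∧ N ≤ M := by
  classical
  have : Nonempty {L : Subgroup G // IsPLocal p L ∧ N ≤ L} := ⟨⟨N, hN, le_rfl⟩⟩
  obtain ⟨M, hM⟩ := Finite.exists_max (fun L : {L : Subgroup G // IsPLocal p L ∧ N ≤ L} => Nat.card (L.1))
  refine ⟨M.1, ⟨M.2.1, ?_⟩, M.2.2⟩
  intro N' hN' hMN'
  have := hM ⟨N', hN', M.2.2.trans hMN'⟩
  exact (Subgroup.eq_of_le_of_card_ge hMN' this).symm

/-- the family `𝓕 ∪ 𝓕'` -/
def fam (p : ℕ) (f : Subgroup G → Set (Subgroup G)) : Set (Subgroup G) :=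
  functorFamily p f ⊤ ∪ {M | IsMaximalPLocal p M ∧ ¬ IsFunctorRegular p f M}

theorem mem_functorFamily_top {f : Subgroup G → Set (Subgroup G)} {X : Subgroup G} :
    X ∈ functorFamily p f ⊤ ↔ ∃ S₁ : Sylow p G, ∃ F ∈ f (S₁ : Subgroup G),
      X = Subgroup.normalizer (F : Set G) := by
  constructor
  · rintro ⟨P, F, hF, rfl⟩
    have h1 : IsSylowIn p ((P : Subgroup ↥(⊤ : Subgroup G)).map (⊤ : Subgroup G).subtype) ⊤ :=
      isSylowIn_of_sylow P
    have h2 : ¬ p ∣ ((P : Subgroup ↥(⊤ : Subgroup G)).map (⊤ : Subgroup G).subtype).index := by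
      have := h1.not_dvd
      rwa [Subgroup.relIndex_top_right] at this
    refine ⟨h1.isPGroup.toSylow h2, F, hF, ?_⟩
    rw [top_inf_eq]
  · rintro ⟨S₁, F, hF, rfl⟩
    obtain ⟨P, hP⟩ := (isSylowIn_top_of_sylow S₁).exists_sylow
    refine ⟨P, F, ?_, ?_⟩
    · rw [hP, Subgroup.map_subgroupOf_eq_of_le le_top]
      exact hF
    · rw [top_inf_eq]

theorem isPLocal_conjSub {N : Subgroup G} (hN : IsPLocal p N) (c : G) : IsPLocal p (conjSub c N) := by
  obtain ⟨Q, hQ, hQ1, rfl⟩ := hN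
  refine ⟨conjSub c Q, conjSub_isPGroup hQ, ?_, (normalizer_conjSub c Q).symm⟩
  intro h
  apply hQ1
  have h2 : Nat.card ↥(conjSub c Q) = 1 := by rw [h]; exact Subgroup.card_bot
  rw [card_conjSub] at h2
  exact Subgroup.card_eq_one.mp h2

theorem conjSub_inv_conjSub (c : G) (N : Subgroup G) : conjSub c⁻¹ (conjSub c N) = N := by
  rw [conjSub_mul, inv_mul_cancel, conjSub_one]

theorem conjSub_conjSub_inv (c : G) (N : Subgroup G) : conjSub c (conjSub c⁻¹ N) = N := by
  rw [conjSub_mul, mul_inv_cancel, conjSub_one]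

theorem isMaximalPLocal_conjSub {M : Subgroup G} (hM : IsMaximalPLocal p M) (c : G) :
    IsMaximalPLocal p (conjSub c M) := by
  refine ⟨isPLocal_conjSub hM.1 c, ?_⟩
  intro N' hN' hle
  have h1 : M ≤ conjSub c⁻¹ N' := by
    have := conjSub_mono (g := c⁻¹) hle
    rwa [conjSub_inv_conjSub] at this
  have h2 := hM.2 _ (isPLocal_conjSub hN' c⁻¹) h1
  rw [← h2, conjSub_conjSub_inv]

theorem regAt_conj_gen {f : Subgroup G → Set (Subgroup G)} (hf : IsNormalizerFunctor p f)
    {M P : Subgroup G} (hPp : IsPGroup p ↥P) (h : RegAt f M P) (m : G) :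
    RegAt f (conjSub m M) (conjSub m P) := by
  intro A g hgM hAP hA1 hAg
  have hB : conjRight m A ⊆ (P : Set G) := by
    rintro _ ⟨a, ha, rfl⟩
    exact mem_conjSub.mp (hAP ha)
  have hB1 : ∃ b ∈ conjRight m A, b ≠ 1 := conjRight_nonid hA1 m
  have hg'M : m⁻¹ * g * m ∈ M := mem_conjSub.mp hgM
  have hBg : conjRight (m⁻¹ * g * m) (conjRight m A) ⊆ (P : Set G) := by
    rintro _ ⟨_, ⟨a, ha, rfl⟩, rfl⟩
    have h1 := mem_conjSub.mp (hAg ⟨a, ha, rfl⟩)
    have e : (m⁻¹ * g * m)⁻¹ * (m⁻¹ * a * m) * (m⁻¹ * g * m) = m⁻¹ * (g⁻¹ * a * g) * m := by group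
    show (m⁻¹ * g * m)⁻¹ * (m⁻¹ * a * m) * (m⁻¹ * g * m) ∈ P
    rw [e]
    exact h1
  obtain ⟨n, F, y, y₀, hy₀M, hy₀N, hF, hg, hstep⟩ := h _ _ hg'M hB hB1 hBg
  refine ⟨n, fun i => conjSub m (F i), fun i => m * y i * m⁻¹, m * y₀ * m⁻¹,
    conj_mem_conjSub hy₀M, conj_mem_normalizer_conjSub hy₀N, ?_, ?_, ?_⟩
  · intro i
    refine ⟨?_, conj_mem_conjSub (hF i).2.1, conj_mem_normalizer_conjSub (hF i).2.2⟩
    show conjSub m (F i) ∈ f (P.map (MulAut.conj m).toMonoidHom)
    rw [(hf P hPp).2 m]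
    exact ⟨F i, (hF i).1, rfl⟩
  · rw [prod_conj]
    have : g = m * (m⁻¹ * g * m) * m⁻¹ := by group
    rw [this, hg]
    group
  · intro i
    rintro _ ⟨a, ha, rfl⟩
    rw [take_prod_conj m y _ i.2]
    have h1 := hstep i ⟨m⁻¹ * a * m, ⟨a, ha, rfl⟩, rfl⟩
    show _ ∈ conjSub m P
    rw [mem_conjSub]
    have e : m⁻¹ * ((m * ((List.ofFn y).take (i.val + 1)).prod * m⁻¹)⁻¹ * a *
        (m * ((List.ofFn y).take (i.val + 1)).prod * m⁻¹)) * m =
        (((List.ofFn y).take (i.val + 1)).prod)⁻¹ * (m⁻¹ * a * m) *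
          ((List.ofFn y).take (i.val + 1)).prod := by group
    rw [e]
    exact h1

theorem regular_conjSub {f : Subgroup G → Set (Subgroup G)} (hf : IsNormalizerFunctor p f)
    {M : Subgroup G} (c : G) (h : IsFunctorRegular p f (conjSub c M)) : IsFunctorRegular p f M := by
  apply regular_of_regAt hf M
  intro P hP
  have h1 : RegAt f (conjSub c M) (conjSub c P) := regAt_of_regular hf h (hP.conjSub c)
  have h2 := regAt_conj_gen hf (conjSub_isPGroup hP.isPGroup) h1 c⁻¹
  rwa [conjSub_inv_conjSub, conjSub_inv_conjSub] at h2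

theorem fam_normal {f : Subgroup G → Set (Subgroup G)} (hf : IsNormalizerFunctor p f) :
    IsNormalSet (fam p f) := by
  intro X hX g
  show conjSub g⁻¹ X ∈ fam p f
  rcases hX with hX | ⟨hXm, hXr⟩
  · left
    rw [mem_functorFamily_top] at hX ⊢
    obtain ⟨S₁, F, hF, rfl⟩ := hX
    refine ⟨g⁻¹ • S₁, conjSub g⁻¹ F, ?_, (normalizer_conjSub g⁻¹ F).symm⟩
    rw [coe_smul_sylow]
    show conjSub g⁻¹ F ∈ f ((S₁ : Subgroup G).map (MulAut.conj g⁻¹).toMonoidHom)
    rw [(hf _ S₁.isPGroup').2 g⁻¹]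
    exact ⟨F, hF, rfl⟩
  · right
    refine ⟨isMaximalPLocal_conjSub hXm g⁻¹, ?_⟩
    intro hr
    exact hXr (regular_conjSub hf g⁻¹ hr)

end

section
variable {G : Type*} [Group G] [Finite G] {p : ℕ} [Fact p.Prime]

def Good (p : ℕ) [Fact p.Prime] (f : Subgroup G → Set (Subgroup G)) (μ : ℕ) : Prop :=
  ∀ (S : Sylow p G) (D : Subgroup G), D ≤ (S : Subgroup G) → μ ≤ Nat.card ↥D →
    ∀ x : G, rc D x ≤ (S : Subgroup G) → Path p (fam p f) (S : Subgroup G) (D : Set G) x

def Local (p : ℕ) [Fact p.Prime] (f : Subgroup G → Set (Subgroup G)) (μ : ℕ) : Prop :=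
  ∀ (S : Sylow p G) (T : Subgroup G), T ≤ (S : Subgroup G) → μ ≤ Nat.card ↥T →
    ∀ x : G, x ∈ Subgroup.normalizer (T : Set G) → Path p (fam p f) (S : Subgroup G) (T : Set G) x

theorem path_of_conjChain {𝓗 : Set (Subgroup G)} (h𝓗 : IsNormalSet 𝓗) {S : Subgroup G}
    {𝓣 : Set (Subgroup G)}
    (h𝓣 : ∀ T ∈ 𝓣, ∀ x ∈ Subgroup.normalizer (T : Set G), Path p 𝓗 S (T : Set G) x)
    {R : Subgroup G} {x : G} (h : ConjChain 𝓣 R x) : Path p 𝓗 S (R : Set G) x := by
  induction h with
  | nil R => exact Path.base _ 1 (Subgroup.one_mem _)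
  | cons R T x g hT hx hRT _ ih =>
    have h1 : Path p 𝓗 S (R : Set G) x := (h𝓣 T hT x hx).mono (fun a ha => hRT ha)
    apply h1.append h𝓗
    rw [← coe_rc]
    exact ih

theorem good_of_local {f : Subgroup G → Set (Subgroup G)} (hf : IsNormalizerFunctor p f) {μ : ℕ}
    (h : Local p f μ) : Good p f μ := by
  intro S D hDS hμ x hx
  have h1 := (conjChain_fullyNormalized S D hDS x hx).restrict_card
  apply path_of_conjChain (fam_normal hf) _ h1
  rintro T ⟨hT, hcard⟩ y hy
  exact h S T (fullyNormalized_le hT) (hμ.trans hcard) y hy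

theorem sylow_card_eq' (P R : Sylow p G) : Nat.card (R : Subgroup G) = Nat.card (P : Subgroup G) := by
  rw [Sylow.card_eq_multiplicity, Sylow.card_eq_multiplicity]

/-- transport along a large Sylow intersection -/
theorem transport {f : Subgroup G → Set (Subgroup G)} (hf : IsNormalizerFunctor p f) {μ : ℕ}
    (hG : Good p f (μ + 1)) (S S₁ : Sylow p G)
    (hμ : μ < Nat.card ↥((S : Subgroup G) ⊓ (S₁ : Subgroup G))) {E : Set G} {x : G}
    (hE : E ⊆ (((S : Subgroup G) ⊓ (S₁ : Subgroup G) : Subgroup G) : Set G))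
    (hEx : conjRight x E ⊆ (((S : Subgroup G) ⊓ (S₁ : Subgroup G) : Subgroup G) : Set G))
    (h : Path p (fam p f) (S₁ : Subgroup G) E x) : Path p (fam p f) (S : Subgroup G) E x := by
  have h𝓗 := fam_normal (p := p) hf
  obtain ⟨g, hg⟩ := MulAction.exists_smul_eq G S₁ S
  obtain ⟨c, hc⟩ : ∃ c : G, c = g⁻¹ := ⟨_, rfl⟩
  have hcS : conjSub c⁻¹ (S₁ : Subgroup G) = (S : Subgroup G) := by
    rw [hc, inv_inv, ← coe_smul_sylow, hg]
  have hD' : rc ((S : Subgroup G) ⊓ (S₁ : Subgroup G)) c ≤ (S : Subgroup G) := by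
    rw [rc_eq_conjSub, ← hcS]
    exact conjSub_mono inf_le_right
  have p0 : Path p (fam p f) (S : Subgroup G)
      ((((S : Subgroup G) ⊓ (S₁ : Subgroup G) : Subgroup G)) : Set G) c :=
    hG S _ inf_le_left hμ c hD'
  have p1 : Path p (fam p f) (S : Subgroup G) E c := p0.mono hE
  have p2 : Path p (fam p f) (S : Subgroup G) (conjRight c E) (c⁻¹ * x * c) := by
    have := h.conj h𝓗 c
    rwa [hcS] at this
  have p3 : Path p (fam p f) (S : Subgroup G) (conjRight (c⁻¹ * x * c) (conjRight c E)) c⁻¹ := by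
    have q1 : Path p (fam p f) (S : Subgroup G) (conjRight x E) c := p0.mono hEx
    have q2 := q1.reverse h𝓗 (fun a ha => (hEx ha).1)
    have e : conjRight (c⁻¹ * x * c) (conjRight c E) = conjRight c (conjRight x E) := by
      rw [← conjRight_mul, ← conjRight_mul]
      congr 1
      group
    rw [e]
    exact q2
  have := p1.append h𝓗 (p2.append h𝓗 p3)
  have e : c * (c⁻¹ * x * c * c⁻¹) = x := by group
  rwa [e] at this

theorem path_prod {𝓗 : Set (Subgroup G)} (h𝓗 : IsNormalSet 𝓗) {S : Subgroup G} {E : Set G} {n : ℕ}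
    (y : Fin n → G)
    (h : ∀ i : Fin n, Path p 𝓗 S (conjRight (((List.ofFn y).take i.val).prod) E) (y i)) :
    ∀ k, k ≤ n → Path p 𝓗 S E (((List.ofFn y).take k).prod) := by
  intro k
  induction k with
  | zero =>
    intro _
    simp only [List.take_zero, List.prod_nil]
    exact Path.base _ 1 (Subgroup.one_mem _)
  | succ k ih =>
    intro hk
    have hk' : k < n := hk
    rw [take_prod_succ y k hk']
    exact (ih hk'.le).append h𝓗 (h ⟨k, hk'⟩)

theorem psi {f : Subgroup G → Set (Subgroup G)} (hf : IsNormalizerFunctor p f)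
    (hf1 : ∀ P : Subgroup G, IsPGroup p ↥P → P ≠ ⊥ → ∀ F ∈ f P, F ≠ ⊥) {μ : ℕ}
    (hG : Good p f (μ + 1)) :
    ∀ (k : ℕ) (M P : Subgroup G) (S' : Sylow p G), IsMaximalPLocal p M → IsSylowIn p P M →
      P ≤ (S' : Subgroup G) → μ ≤ Nat.card ↥P → Nat.card ↥(S' : Subgroup G) - Nat.card ↥P ≤ k →
      ∀ E : Set G, E ⊆ (P : Set G) → (∃ a ∈ E, a ≠ 1) → ∀ z ∈ M, conjRight z E ⊆ (P : Set G) →
        Path p (fam p f) (S' : Subgroup G) E z := by
  have h𝓗 := fam_normal (p := p) hf
  intro k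
  induction k using Nat.strong_induction_on with
  | _ k ih =>
  intro M P S' hM hP hPS hμP hk E hEP hE1 z hzM hzE
  have hPp : IsPGroup p ↥P := hP.isPGroup
  have hSM : (S' : Subgroup G) ⊓ M = P :=
    hP.eq_of_le inf_le_right (S'.isPGroup'.to_le inf_le_left) (le_inf hPS hP.le)
  have hP1 : P ≠ ⊥ := by
    obtain ⟨a, ha, ha1⟩ := hE1
    intro h
    have := hEP ha
    rw [h] at this
    exact ha1 (Subgroup.mem_bot.mp this)
  by_cases hreg : IsFunctorRegular p f M
  · -- regular case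
    have hRA : RegAt f M P := regAt_of_regular hf hreg hP
    obtain ⟨n, F, y, y₀, hy₀M, hy₀N, hF, hz, hstep⟩ := hRA E z hzM hEP hE1 hzE
    -- the key sublemma
    have theta : ∀ R : Subgroup G, IsPGroup p ↥R → R ≠ ⊥ →
        Subgroup.normalizer (P : Set G) ≤ Subgroup.normalizer (R : Set G) →
        (P = (S' : Subgroup G) → ∀ w ∈ Subgroup.normalizer (R : Set G), ∀ E' : Set G,
          E' ⊆ (P : Set G) → conjRight w E' ⊆ (P : Set G) →
          Path p (fam p f) (S' : Subgroup G) E' w) →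
        ∀ w ∈ Subgroup.normalizer (R : Set G), ∀ E' : Set G, E' ⊆ (P : Set G) →
          (∃ a ∈ E', a ≠ 1) → conjRight w E' ⊆ (P : Set G) →
          Path p (fam p f) (S' : Subgroup G) E' w := by
      intro R hRp hR1 hNPR htop w hw E' hE'P hE'1 hwE'
      by_cases hPtop : P = (S' : Subgroup G)
      · exact htop hPtop w hw E' hE'P hwE'
      · have hlt := card_lt_card_inf_normalizer S'.isPGroup' hPS hPtop
        obtain ⟨M', hM', hLM'⟩ := exists_maximal_pLocal_ge (p := p) ⟨R, hRp, hR1, rfl⟩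
        have hP'M' : (S' : Subgroup G) ⊓ Subgroup.normalizer (P : Set G) ≤ M' :=
          (inf_le_right.trans hNPR).trans hLM'
        obtain ⟨P₂, hP'P₂, hP₂M', hP₂p, hP₂i⟩ :=
          exists_sylow_between (p := p) hP'M' (S'.isPGroup'.to_le inf_le_left)
        obtain ⟨S₂, hS₂⟩ := hP₂p.exists_le_sylow
        have hPP₂ : P ≤ P₂ := (le_inf hPS Subgroup.le_normalizer).trans hP'P₂
        have hcard2 : Nat.card ↥((S' : Subgroup G) ⊓ Subgroup.normalizer (P : Set G)) ≤ Nat.card ↥P₂ :=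
          Subgroup.card_le_of_le hP'P₂
        have hP₂le : Nat.card ↥P₂ ≤ Nat.card ↥(S₂ : Subgroup G) := Subgroup.card_le_of_le hS₂
        have hk2 : Nat.card ↥(S₂ : Subgroup G) - Nat.card ↥P₂ < k := by
          have hSS := sylow_card_eq' S' S₂
          have := Subgroup.card_le_of_le hPS
          omega
        have q1 : Path p (fam p f) (S₂ : Subgroup G) E' w :=
          ih _ hk2 M' P₂ S₂ hM' ⟨hP₂M', hP₂p, hP₂i⟩ hS₂
            (hμP.trans (Subgroup.card_le_of_le hPP₂)) le_rfl E' (hE'P.trans hPP₂) hE'1 w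
            (hLM' hw) (hwE'.trans hPP₂)
        have hPle : P ≤ (S' : Subgroup G) ⊓ (S₂ : Subgroup G) := le_inf hPS (hPP₂.trans hS₂)
        have hcard3 : μ < Nat.card ↥((S' : Subgroup G) ⊓ (S₂ : Subgroup G)) := by
          have : (S' : Subgroup G) ⊓ Subgroup.normalizer (P : Set G) ≤
              (S' : Subgroup G) ⊓ (S₂ : Subgroup G) := le_inf inf_le_left (hP'P₂.trans hS₂)
          have := Subgroup.card_le_of_le this
          omega
        exact transport hf hG S' S₂ hcard3 (hE'P.trans hPle) (hwE'.trans hPle) q1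
    -- each step
    have hEi : ∀ i : Fin n, conjRight (((List.ofFn y).take i.val).prod) E ⊆ (P : Set G) := by
      rintro ⟨i, hi⟩
      cases i with
      | zero =>
        simp only [List.take_zero, List.prod_nil]
        rw [conjRight_one]; exact hEP
      | succ j => exact hstep ⟨j, by omega⟩
    have hsteps : ∀ i : Fin n, Path p (fam p f) (S' : Subgroup G)
        (conjRight (((List.ofFn y).take i.val).prod) E) (y i) := by
      intro i
      have hFi := hF i
      have hFiP := (hf P hPp).1 (F i) hFi.1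
      apply theta (F i) (hPp.to_le hFiP.1) (hf1 P hPp hP1 (F i) hFi.1) hFiP.2 _ (y i) hFi.2.2 _
        (hEi i) (conjRight_nonid hE1 _)
      · rw [← conjRight_mul, ← take_prod_succ y i.val i.2]
        exact hstep i
      · intro hPtop w hw E' hE'P hwE'
        have hmem : Subgroup.normalizer ((F i : Subgroup G) : Set G) ∈ fam p f := by
          left
          rw [mem_functorFamily_top]
          exact ⟨S', F i, hPtop ▸ hFi.1, rfl⟩
        have hSle : (S' : Subgroup G) ≤ Subgroup.normalizer ((F i : Subgroup G) : Set G) := by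
          rw [← hPtop]
          exact Subgroup.le_normalizer.trans hFiP.2
        have hsm : Subgroup.normalizer ((F i : Subgroup G) : Set G) ∈
            sylowMembers p (fam p f) (S' : Subgroup G) := by
          rw [mem_sylowMembers_iff]
          refine ⟨hmem, ?_⟩
          rw [inf_eq_left.mpr hSle]
          exact isSylowIn_of_sylow_le S' hSle
        apply Path.single hsm hw
        intro a ha
        have := hwE' ha
        exact ⟨hPS this, hSle (hPS this)⟩
    have hprod := path_prod h𝓗 y hsteps n le_rfl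
    rw [take_prod_all] at hprod
    rw [hz]
    apply hprod.append h𝓗
    have hlast : conjRight (List.ofFn y).prod E ⊆ (P : Set G) := by
      rcases Nat.eq_zero_or_pos n with h0 | h0
      · subst h0
        simp only [List.ofFn_zero, List.prod_nil]
        rw [conjRight_one]; exact hEP
      · have := hstep ⟨n - 1, by omega⟩
        have e : n - 1 + 1 = n := by omega
        simp only [e] at this
        rwa [take_prod_all] at this
    apply theta P hPp hP1 le_rfl _ y₀ hy₀N _ hlast (conjRight_nonid hE1 _)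
    · rintro _ ⟨a, ha, rfl⟩
      have h1 := hlast ha
      have hinv := Subgroup.inv_mem _ hy₀N
      have := (Subgroup.mem_normalizer_iff.mp hinv a).mp h1
      rwa [inv_inv] at this
    · intro hPtop w hw E' _ _
      apply Path.base
      rw [← hPtop]; exact hw
  · -- singular case
    have hmem : M ∈ fam p f := Or.inr ⟨hM, hreg⟩
    have hsm : M ∈ sylowMembers p (fam p f) (S' : Subgroup G) := by
      rw [mem_sylowMembers_iff]
      refine ⟨hmem, ?_⟩
      rw [hSM]; exact hP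
    apply Path.single hsm hzM
    intro a ha
    have := hzE ha
    exact ⟨hPS this, hP.le this⟩

theorem local_of_good {f : Subgroup G → Set (Subgroup G)} (hf : IsNormalizerFunctor p f)
    (hf1 : ∀ P : Subgroup G, IsPGroup p ↥P → P ≠ ⊥ → ∀ F ∈ f P, F ≠ ⊥) {μ : ℕ} (hμ2 : 2 ≤ μ)
    (hG : Good p f (μ + 1)) : Local p f μ := by
  intro S T hTS hμ x hx
  have hTx : rc T x = T := rc_of_mem_normalizer hx
  by_cases hbig : μ + 1 ≤ Nat.card ↥T
  · exact hG S T hTS hbig x (by rw [hTx]; exact hTS)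
  have hcardT : Nat.card ↥T = μ := by omega
  by_cases hTtop : T = (S : Subgroup G)
  · apply Path.base
    rw [← hTtop]; exact hx
  have hTp : IsPGroup p ↥T := S.isPGroup'.to_le hTS
  have hT1 : T ≠ ⊥ := by
    intro h
    rw [h, Subgroup.card_bot] at hcardT
    omega
  have hlt := card_lt_card_inf_normalizer S.isPGroup' hTS hTtop
  obtain ⟨M, hM, hNM⟩ := exists_maximal_pLocal_ge (p := p) ⟨T, hTp, hT1, rfl⟩
  obtain ⟨P₁, hNP₁, hP₁M, hP₁p, hP₁i⟩ :=
    exists_sylow_between (p := p) ((inf_le_right : (S : Subgroup G) ⊓ Subgroup.normalizer (T : Set G) ≤ _).trans hNM)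
      (S.isPGroup'.to_le inf_le_left)
  obtain ⟨S₁, hS₁⟩ := hP₁p.exists_le_sylow
  have hTP₁ : T ≤ P₁ := (le_inf hTS Subgroup.le_normalizer).trans hNP₁
  have hT1' : ∃ a ∈ (T : Set G), a ≠ 1 := by
    by_contra hcon
    push Not at hcon
    apply hT1
    rw [Subgroup.eq_bot_iff_forall]
    exact fun a ha => hcon a ha
  have hxT : conjRight x (T : Set G) = (T : Set G) := by rw [← coe_rc, hTx]
  have q1 : Path p (fam p f) (S₁ : Subgroup G) (T : Set G) x :=
    psi hf hf1 hG _ M P₁ S₁ hM ⟨hP₁M, hP₁p, hP₁i⟩ hS₁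
      (hcardT ▸ Subgroup.card_le_of_le hTP₁) le_rfl (T : Set G) (fun a ha => hTP₁ ha) hT1' x (hNM hx)
      (by rw [hxT]; exact fun a ha => hTP₁ ha)
  have hTle : T ≤ (S : Subgroup G) ⊓ (S₁ : Subgroup G) := le_inf hTS (hTP₁.trans hS₁)
  have hcard3 : μ < Nat.card ↥((S : Subgroup G) ⊓ (S₁ : Subgroup G)) := by
    have : (S : Subgroup G) ⊓ Subgroup.normalizer (T : Set G) ≤
        (S : Subgroup G) ⊓ (S₁ : Subgroup G) := le_inf inf_le_left (hNP₁.trans hS₁)
    have := Subgroup.card_le_of_le this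
    omega
  exact transport hf hG S S₁ hcard3 (fun a ha => hTle ha) (by rw [hxT]; exact fun a ha => hTle ha) q1

theorem good_all {f : Subgroup G → Set (Subgroup G)} (hf : IsNormalizerFunctor p f)
    (hf1 : ∀ P : Subgroup G, IsPGroup p ↥P → P ≠ ⊥ → ∀ F ∈ f P, F ≠ ⊥) :
    ∀ k : ℕ, Good p f (Nat.card G + 2 - k + 2) := by
  intro k
  induction k with
  | zero =>
    intro S D _ hμ
    have := Subgroup.card_le_card_group D
    omega
  | succ k ih =>
    by_cases h : Nat.card G + 2 - k = 0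
    · have e : Nat.card G + 2 - (k + 1) = Nat.card G + 2 - k := by omega
      rw [e]; exact ih
    · have e : Nat.card G + 2 - k + 2 = (Nat.card G + 2 - (k + 1) + 2) + 1 := by omega
      rw [e] at ih
      exact good_of_local hf (local_of_good hf hf1 (by omega) ih)

theorem good_two {f : Subgroup G → Set (Subgroup G)} (hf : IsNormalizerFunctor p f)
    (hf1 : ∀ P : Subgroup G, IsPGroup p ↥P → P ≠ ⊥ → ∀ F ∈ f P, F ≠ ⊥) : Good p f 2 := by
  have := good_all hf hf1 (Nat.card G + 2)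
  simpa using this

end


/-- Let p be a prime dividing the order of the finite group G, and f an assignment to every p-subgroup P of a set f(P) of subgroups of P, each normalized by N_G(P), compatible with conjugation, such that for P ≠ 1 the members of f(P) are nontrivial. Let 𝓕 be the family of the normalizers N_G(F) of the members F of f(S) over the Sylow p-subgroups S of G, and 𝓕' the family of the maximal p-local subgroups M of G that are singular for f (the corresponding family of normalizers inside M does not control Sylow p-intersections in M). Then 𝓕 ∪ 𝓕' controls Sylow p-intersections in G. -/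
theorem result {G : Type*} [Group G] [Finite G] (p : ℕ) [Fact p.Prime] (hdiv : p ∣ Nat.card G)
    (f : Subgroup G → Set (Subgroup G)) (hf : Cfsg.IsNormalizerFunctor p f)
    (hf1 : ∀ P : Subgroup G, IsPGroup p ↥P → P ≠ ⊥ → ∀ F ∈ f P, F ≠ ⊥)
    (𝓕 𝓕' : Set (Subgroup G)) (h𝓕 : 𝓕 = Cfsg.functorFamily p f ⊤)
    (h𝓕' : 𝓕' = {M | Cfsg.IsMaximalPLocal p M ∧ ¬ Cfsg.IsFunctorRegular p f M}) :
    Cfsg.ControlsSylowIntersections p (𝓕 ∪ 𝓕') := by
  have hfam : 𝓕 ∪ 𝓕' = fam p f := by rw [h𝓕, h𝓕']; rfl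
  rw [hfam]
  apply csi_of_fscf (fam_normal hf)
  intro S A g hAS hA1 hAg
  have hD : Subgroup.closure A ≤ (S : Subgroup G) := (Subgroup.closure_le _).mpr hAS
  have hcard : 2 ≤ Nat.card ↥(Subgroup.closure A) := by
    obtain ⟨a, ha, ha1⟩ := hA1
    have hne : Subgroup.closure A ≠ ⊥ := by
      intro h
      have := Subgroup.subset_closure ha
      rw [h] at this
      exact ha1 (Subgroup.mem_bot.mp this)
    exact (Subgroup.closure A).one_lt_card_iff_ne_bot.mpr hne
  have hrc : rc (Subgroup.closure A) g ≤ (S : Subgroup G) := by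
    have h1 : Subgroup.closure A ≤ conjSub g (S : Subgroup G) := by
      rw [Subgroup.closure_le]
      intro a ha
      show a ∈ conjSub g (S : Subgroup G)
      rw [mem_conjSub]
      exact hAg ⟨a, ha, rfl⟩
    have h2 := rc_mono h1 g
    rwa [rc_eq_conjSub (conjSub g (S : Subgroup G)) g, conjSub_inv_conjSub] at h2
  have hp := good_two hf hf1 S (Subgroup.closure A) hD hcard g hrc
  exact (hp.mono Subgroup.subset_closure).exists_fin

end Cfsg.Agent.S2956
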