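import Cfsg.Statements.S2958

set_option autoImplicit false
open Cfsg

namespace Cfsg.Agent.S2958

theorem conj_map_mul {G : Type*} [Group G] (X : Subgroup G) (a g : G) :
    (X.map (MulAut.conj g).toMonoidHom).map (MulAut.conj a).toMonoidHom
      = X.map (MulAut.conj (a * g)).toMonoidHom := by
  rw [Subgroup.map_map]
  congr 1
  ext x
  simp [mul_assoc]

/-- Let X, A, B be subgroups of a group G such that G is generated by the conjugates of X and every conjugate of X is contained in A or in B. Then A = G or B = G. -/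
theorem result {G : Type*} [Group G] (X A B : Subgroup G) (hgen : (⨆ g : G, X.map (MulAut.conj g).toMonoidHom) = ⊤) (hcover : ∀ g : G, X.map (MulAut.conj g).toMonoidHom ≤ A ∨ X.map (MulAut.conj g).toMonoidHom ≤ B) : A = ⊤ ∨ B = ⊤ := by
  by_cases hall : ∀ g : G, X.map (MulAut.conj g).toMonoidHom ≤ A
  · left
    rw [eq_top_iff, ← hgen]
    exact iSup_le hall
  · right
    rw [not_forall] at hall
    obtain ⟨g₀, hg₀⟩ := hall
    set B₀ : Subgroup G := ⨆ g : {g : G // ¬ X.map (MulAut.conj g).toMonoidHom ≤ A},
      X.map (MulAut.conj (g : G)).toMonoidHom with hB₀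
    have hB₀B : B₀ ≤ B := by
      apply iSup_le
      rintro ⟨g, hg⟩
      exact (hcover g).resolve_left hg
    have hmemA : ∀ a ∈ A, a ∈ Subgroup.normalizer (B₀ : Set G) := by
      intro a ha
      have key : ∀ b ∈ A, B₀.map (MulAut.conj b).toMonoidHom ≤ B₀ := by
        intro b hb
        rw [hB₀, Subgroup.map_iSup]
        apply iSup_le
        rintro ⟨g, hg⟩
        rw [conj_map_mul]
        have : ¬ X.map (MulAut.conj (b * g)).toMonoidHom ≤ A := by
          intro hle
          apply hg
          have h2 : X.map (MulAut.conj g).toMonoidHom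
              = (X.map (MulAut.conj (b * g)).toMonoidHom).map (MulAut.conj b⁻¹).toMonoidHom := by
            rw [conj_map_mul]; simp
          rw [h2]
          rintro _ ⟨y, hy, rfl⟩
          have hyA : y ∈ A := hle hy
          simp only [MulEquiv.coe_toMonoidHom, MulAut.conj_apply]
          exact A.mul_mem (A.mul_mem (A.inv_mem hb) hyA) (by simpa using hb)
        exact le_iSup (fun g : {g : G // ¬ X.map (MulAut.conj g).toMonoidHom ≤ A} =>
          X.map (MulAut.conj (g : G)).toMonoidHom) ⟨b * g, this⟩
      rw [Subgroup.mem_normalizer_iff_map_conj_eq]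
      apply le_antisymm (key a ha)
      intro y hy
      have h1 := key a⁻¹ (A.inv_mem ha)
      refine ⟨a⁻¹ * y * a, ?_, by simp [mul_assoc]⟩
      have := h1 (Subgroup.mem_map_of_mem _ hy)
      simpa using this
    have hnorm : Subgroup.normalizer (B₀ : Set G) = ⊤ := by
      rw [eq_top_iff, ← hgen]
      apply iSup_le
      intro g
      by_cases hg : X.map (MulAut.conj g).toMonoidHom ≤ A
      · intro y hy
        exact hmemA y (hg hy)
      · refine le_trans ?_ Subgroup.le_normalizer
        exact le_iSup (fun g : {g : G // ¬ X.map (MulAut.conj g).toMonoidHom ≤ A} =>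
          X.map (MulAut.conj (g : G)).toMonoidHom) ⟨g, hg⟩
    have hB₀n : B₀.Normal := Subgroup.normalizer_eq_top_iff.mp hnorm
    have hg₀B : X.map (MulAut.conj g₀).toMonoidHom ≤ B₀ :=
      le_iSup (fun g : {g : G // ¬ X.map (MulAut.conj g).toMonoidHom ≤ A} =>
          X.map (MulAut.conj (g : G)).toMonoidHom) ⟨g₀, hg₀⟩
    have hB₀top : B₀ = ⊤ := by
      rw [eq_top_iff, ← hgen]
      apply iSup_le
      intro g
      have h2 : X.map (MulAut.conj g).toMonoidHom
          = (X.map (MulAut.conj g₀).toMonoidHom).map (MulAut.conj (g * g₀⁻¹)).toMonoidHom := by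
        rw [conj_map_mul]; simp
      rw [h2]
      rintro _ ⟨y, hy, rfl⟩
      simp only [MulEquiv.coe_toMonoidHom, MulAut.conj_apply]
      exact hB₀n.conj_mem y (hg₀B hy) _
    rw [eq_top_iff, ← hB₀top]
    exact hB₀B

end Cfsg.Agent.S2958
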