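import Cfsg.Statements.S2960
import Cfsg.Agent.Lib.Helper9.FStarP
import Cfsg.Agent.Lib.Helper18.PCore

set_option autoImplicit false
open Cfsg

namespace Cfsg.Agent.S2960

/-- In a group of characteristic `p`, a `p`-subgroup `Q` containing `C_{O_p(G)}(Q)` has
a centralizer that is a `p`-group. -/
theorem centralizer_isPGroup {G : Type*} [Group G] [Finite G] {p : ℕ} [Fact p.Prime]
    (hG : Subgroup.centralizer (Cfsg.pCore p G : Set G) ≤ Cfsg.pCore p G)
    (Q : Subgroup G) (hQp : IsPGroup p Q)
    (hC : Cfsg.pCore p G ⊓ Subgroup.centralizer (Q : Set G) ≤ Q) :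
    IsPGroup p (Subgroup.centralizer (Q : Set G)) := by
  have hVn : (Cfsg.pCore p G).Normal := Cfsg.Agent.Lib.Helper18.pCore_normal_h18 p G
  have hVp : IsPGroup p (Cfsg.pCore p G) := Cfsg.Agent.Lib.Helper18.pCore_isPGroup p G
  apply Cfsg.Agent.Lib.Helper18.isPGroup_of_forall_coprime_eq_one
  rintro ⟨x, hx⟩ hxo
  have hxo' : (orderOf x).Coprime p := by
    have : orderOf (⟨x, hx⟩ : Subgroup.centralizer (Q : Set G)) = orderOf x :=
      Subgroup.orderOf_mk x hx
    rwa [this] at hxo
  have hYle : Subgroup.zpowers x ≤ Subgroup.centralizer (Q : Set G) := by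
    rw [Subgroup.zpowers_le]; exact hx
  have hY : Subgroup.zpowers x = ⊥ := by
    apply Cfsg.Agent.Lib.Helper9.eq_bot_of_thompson p Q (Cfsg.pCore p G) (Subgroup.zpowers x)
      hQp hVp
    · rw [Nat.card_zpowers]; exact hxo'
    · rw [Subgroup.normalizer_eq_top]; exact le_top
    · rw [Subgroup.normalizer_eq_top]; exact le_top
    · intro y hy q hq
      have := hYle hy
      rw [Subgroup.mem_centralizer_iff] at this
      exact (this q hq).symm
    · intro y hy v hv hcomm
      have hvC : v ∈ Subgroup.centralizer (Q : Set G) := by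
        rw [Subgroup.mem_centralizer_iff]
        intro u hu
        exact hcomm u hu
      have hvQ : v ∈ Q := hC (Subgroup.mem_inf.2 ⟨hv, hvC⟩)
      have := hYle hy
      rw [Subgroup.mem_centralizer_iff] at this
      exact (this v hvQ).symm
    · intro h; exact h.trans hG
  have : x = 1 := by
    rw [Subgroup.zpowers_eq_bot] at hY; exact hY
  exact Subtype.ext this


/-- Let G be a finite group of characteristic p (C_G(O_p(G)) ≤ O_p(G)), p prime, T a Sylow p-subgroup of G and Q a normal subgroup of T with C_T(Q) ≤ Q. Then C_G(Q) ≤ Q. -/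
theorem result {G : Type*} [Group G] [Finite G] {p : ℕ} [Fact p.Prime] (hG : Subgroup.centralizer (Cfsg.pCore p G : Set G) ≤ Cfsg.pCore p G) (T : Sylow p G) (Q : Subgroup G) (hQT : Q ≤ (T : Subgroup G)) (hQn : (T : Subgroup G) ≤ Subgroup.normalizer (Q : Set G)) (hC : (T : Subgroup G) ⊓ Subgroup.centralizer (Q : Set G) ≤ Q) : Subgroup.centralizer (Q : Set G) ≤ Q := by
  have hVn : (Cfsg.pCore p G).Normal := Cfsg.Agent.Lib.Helper18.pCore_normal_h18 p G
  have hVp : IsPGroup p (Cfsg.pCore p G) := Cfsg.Agent.Lib.Helper18.pCore_isPGroup p G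
  have hVT : Cfsg.pCore p G ≤ T := hVp.le_sylow_of_normal T
  have hQp : IsPGroup p Q := T.2.to_le hQT
  have hCp : IsPGroup p (Subgroup.centralizer (Q : Set G)) :=
    centralizer_isPGroup hG Q hQp ((inf_le_inf_right _ hVT).trans hC)
  have hTn : (T : Subgroup G) ≤ Subgroup.normalizer (Subgroup.centralizer (Q : Set G) : Set G) := by
    intro t ht
    have htQ := hQn ht
    rw [Subgroup.mem_normalizer_iff] at htQ ⊢
    intro c
    simp only [Subgroup.mem_centralizer_iff]
    constructor
    · intro hc q hq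
      have h1 : t⁻¹ * q * t⁻¹⁻¹ ∈ Q := by
        have := (htQ (t⁻¹ * q * t⁻¹⁻¹)).2
        apply this
        simpa [mul_assoc] using hq
      have h2 := hc _ h1
      simp only [inv_inv] at h2
      calc q * (t * c * t⁻¹) = t * ((t⁻¹ * q * t) * c) * t⁻¹ := by group
        _ = t * (c * (t⁻¹ * q * t)) * t⁻¹ := by rw [h2]
        _ = t * c * t⁻¹ * q := by group
    · intro hc q hq
      have h1 : t * q * t⁻¹ ∈ Q := (htQ q).1 hq
      have h2 := hc _ h1
      calc q * c = t⁻¹ * ((t * q * t⁻¹) * (t * c * t⁻¹)) * t := by group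
        _ = t⁻¹ * ((t * c * t⁻¹) * (t * q * t⁻¹)) * t := by rw [h2]
        _ = c * q := by group
  have hsup : IsPGroup p (Subgroup.centralizer (Q : Set G) ⊔ (T : Subgroup G) : Subgroup G) :=
    IsPGroup.to_sup_of_normal_left' hCp T.2 hTn
  have hle : Subgroup.centralizer (Q : Set G) ≤ T := by
    have := T.is_maximal' hsup le_sup_right
    rw [← this]; exact le_sup_left
  exact (le_inf hle le_rfl).trans hC

end Cfsg.Agent.S2960
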