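import Cfsg.Statements.S2961
import Cfsg.Agent.S2960
import Cfsg.Agent.Lib.Helper18.PCore
import Cfsg.Agent.Lib.helper17.Subn

set_option autoImplicit false
open Cfsg

namespace Cfsg.Agent.S2961

section Stab

variable {G : Type*} [Group G]

/-- stability group of the chain `V ≥ Q₀ ≥ 1` -/
def stab (V Q₀ : Subgroup G) [V.Normal] : Subgroup G where
  carrier := {g | (∀ w ∈ Q₀, g * w = w * g) ∧ ∀ v ∈ V, v⁻¹ * g⁻¹ * v * g ∈ Q₀}
  one_mem' := by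
    refine ⟨fun w _ => by simp, fun v _ => ?_⟩
    simp
  mul_mem' := by
    rintro g h ⟨hg1, hg2⟩ ⟨hh1, hh2⟩
    refine ⟨fun w hw => ?_, fun v hv => ?_⟩
    · rw [mul_assoc, hh1 w hw, ← mul_assoc, hg1 w hw, mul_assoc]
    · have e : v⁻¹ * (g * h)⁻¹ * v * (g * h)
          = (v⁻¹ * h⁻¹ * v * h) * (h⁻¹ * (v⁻¹ * g⁻¹ * v * g) * h) := by group
      rw [e]
      have hc : h⁻¹ * (v⁻¹ * g⁻¹ * v * g) * h = v⁻¹ * g⁻¹ * v * g := by
        have := hh1 _ (hg2 v hv)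
        rw [mul_assoc, ← this, ← mul_assoc, inv_mul_cancel, one_mul]
      rw [hc]
      exact Q₀.mul_mem (hh2 v hv) (hg2 v hv)
  inv_mem' := by
    rintro g ⟨hg1, hg2⟩
    refine ⟨fun w hw => ?_, fun v hv => ?_⟩
    · have := hg1 w hw
      calc g⁻¹ * w = g⁻¹ * (w * g) * g⁻¹ := by group
        _ = g⁻¹ * (g * w) * g⁻¹ := by rw [this]
        _ = w * g⁻¹ := by group
    · have hv' : g * v * g⁻¹ ∈ V := ‹V.Normal›.conj_mem v hv g
      have := Q₀.inv_mem (hg2 _ hv')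
      have e : ((g * v * g⁻¹)⁻¹ * g⁻¹ * (g * v * g⁻¹) * g)⁻¹ = v⁻¹ * g⁻¹⁻¹ * v * g⁻¹ := by group
      rwa [e] at this

theorem mem_stab {V Q₀ : Subgroup G} [V.Normal] {g : G} :
    g ∈ stab V Q₀ ↔ (∀ w ∈ Q₀, g * w = w * g) ∧ ∀ v ∈ V, v⁻¹ * g⁻¹ * v * g ∈ Q₀ := Iff.rfl

theorem stab_pow {V Q₀ : Subgroup G} [V.Normal] {g : G} (hg : g ∈ stab V Q₀) (v : G) (hv : v ∈ V)
    (n : ℕ) : (g ^ n)⁻¹ * v * g ^ n = v * (v⁻¹ * g⁻¹ * v * g) ^ n := by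
  induction n with
  | zero => simp
  | succ n ih =>
    have hw := hg.1 _ (Subgroup.pow_mem _ (hg.2 v hv) n)
    calc (g ^ (n + 1))⁻¹ * v * g ^ (n + 1) = g⁻¹ * ((g ^ n)⁻¹ * v * g ^ n) * g := by
          rw [pow_succ]; group
      _ = g⁻¹ * (v * (v⁻¹ * g⁻¹ * v * g) ^ n) * g := by rw [ih]
      _ = g⁻¹ * v * ((v⁻¹ * g⁻¹ * v * g) ^ n * g) := by group
      _ = g⁻¹ * v * (g * (v⁻¹ * g⁻¹ * v * g) ^ n) := by rw [hw]
      _ = v * ((v⁻¹ * g⁻¹ * v * g) * (v⁻¹ * g⁻¹ * v * g) ^ n) := by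
          generalize (v⁻¹ * g⁻¹ * v * g) ^ n = X
          group
      _ = v * (v⁻¹ * g⁻¹ * v * g) ^ (n + 1) := by rw [← pow_succ']

theorem stab_isPGroup [Finite G] {p : ℕ} [Fact p.Prime] {V Q₀ : Subgroup G} [V.Normal]
    (hV : IsPGroup p V) (hQ₀ : IsPGroup p Q₀)
    (hCV : Subgroup.centralizer (V : Set G) ≤ V) : IsPGroup p (stab V Q₀) := by
  obtain ⟨k, hk⟩ := IsPGroup.iff_card.1 hQ₀
  rintro ⟨g, hg⟩
  have h1 : g ^ (p ^ k) ∈ Subgroup.centralizer (V : Set G) := by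
    rw [Subgroup.mem_centralizer_iff]
    intro v hv
    have h2 := stab_pow hg v hv (p ^ k)
    have h3 : (v⁻¹ * g⁻¹ * v * g) ^ (p ^ k) = 1 := by
      have := pow_card_eq_one' (G := Q₀) (x := ⟨_, hg.2 v hv⟩)
      rw [hk] at this
      exact congrArg Subtype.val this
    rw [h3, mul_one] at h2
    calc v * g ^ (p ^ k) = g ^ (p ^ k) * ((g ^ (p ^ k))⁻¹ * v * g ^ (p ^ k)) := by group
      _ = g ^ (p ^ k) * v := by rw [h2]
  obtain ⟨m, hm⟩ := hV ⟨_, hCV h1⟩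
  refine ⟨k + m, ?_⟩
  apply Subtype.ext
  have : (g ^ (p ^ k)) ^ (p ^ m) = 1 := congrArg Subtype.val hm
  simpa [pow_add, pow_mul] using this

theorem conj_mem_stab {V Q₀ : Subgroup G} [V.Normal] {c g : G}
    (hc : ∀ w ∈ Q₀, c * w = w * c) (hg : g ∈ stab V Q₀) : c * g * c⁻¹ ∈ stab V Q₀ := by
  have hc' : ∀ w ∈ Q₀, c⁻¹ * w = w * c⁻¹ := by
    intro w hw
    have := hc w hw
    calc c⁻¹ * w = c⁻¹ * (w * c) * c⁻¹ := by group
      _ = c⁻¹ * (c * w) * c⁻¹ := by rw [this]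
      _ = w * c⁻¹ := by group
  refine ⟨fun w hw => ?_, fun v hv => ?_⟩
  · calc c * g * c⁻¹ * w = c * g * (c⁻¹ * w) := by group
      _ = c * g * (w * c⁻¹) := by rw [hc' w hw]
      _ = c * (g * w) * c⁻¹ := by group
      _ = c * (w * g) * c⁻¹ := by rw [hg.1 w hw]
      _ = (c * w) * g * c⁻¹ := by group
      _ = (w * c) * g * c⁻¹ := by rw [hc w hw]
      _ = w * (c * g * c⁻¹) := by group
  · have hv' : c⁻¹ * v * c⁻¹⁻¹ ∈ V := ‹V.Normal›.conj_mem v hv c⁻¹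
    have h1 := hg.2 _ hv'
    have h2 := hc _ h1
    have e : v⁻¹ * (c * g * c⁻¹)⁻¹ * v * (c * g * c⁻¹)
        = c * ((c⁻¹ * v * c⁻¹⁻¹)⁻¹ * g⁻¹ * (c⁻¹ * v * c⁻¹⁻¹) * g) * c⁻¹ := by group
    rw [e, h2, mul_assoc, mul_inv_cancel, mul_one]
    exact h1

theorem comm_mem_stab {V Q₀ : Subgroup G} [V.Normal] {q y : G}
    (hq1 : ∀ v ∈ V, v⁻¹ * q⁻¹ * v * q ∈ Q₀) (hq1' : ∀ v ∈ V, v⁻¹ * q * v * q⁻¹ ∈ Q₀)
    (hq2 : ∀ w ∈ Q₀, q * w * q⁻¹ ∈ Q₀)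
    (hy : ∀ w ∈ Q₀, y * w = w * y)
    (hd : ∀ w ∈ Q₀, (q * y * q⁻¹ * y⁻¹) * w = w * (q * y * q⁻¹ * y⁻¹)) :
    q * y * q⁻¹ * y⁻¹ ∈ stab V Q₀ := by
  refine ⟨hd, fun v hv => ?_⟩
  -- w₁ = v⁻¹ q⁻¹ v q, v₂ = y⁻¹ v y, w₂ = v₂⁻¹ q v₂ q⁻¹, w₃ = q w₁ q⁻¹
  have hv2 : y⁻¹ * v * y⁻¹⁻¹ ∈ V := ‹V.Normal›.conj_mem v hv y⁻¹
  have hw1 := hq1 v hv
  have hw2 := hq1' _ hv2
  have hw3 := hq2 _ hw1
  have hy' : ∀ w ∈ Q₀, y * w * y⁻¹ = w := by
    intro w hw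
    rw [hy w hw, mul_assoc, mul_inv_cancel, mul_one]
  have hy'' : ∀ w ∈ Q₀, y⁻¹ * w * y = w := by
    intro w hw
    rw [mul_assoc, ← hy w hw, ← mul_assoc, inv_mul_cancel, one_mul]
  have e : v⁻¹ * (q * y * q⁻¹ * y⁻¹)⁻¹ * v * (q * y * q⁻¹ * y⁻¹)
      = y * (((y⁻¹ * v * y⁻¹⁻¹)⁻¹ * q * (y⁻¹ * v * y⁻¹⁻¹) * q⁻¹)
        * (q * (y⁻¹ * (v⁻¹ * q⁻¹ * v * q) * y) * q⁻¹)) * y⁻¹ := by group
  rw [e, hy'' _ hw1, hy' _ (Q₀.mul_mem hw2 hw3)]
  exact Q₀.mul_mem hw2 hw3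


end Stab


/-- Let G be a finite group of characteristic p (C_G(O_p(G)) ≤ O_p(G)), p prime, T a Sylow p-subgroup of G and Q a normal subgroup of T with C_T(Q) ≤ Q. Then every subgroup L of G containing Q has characteristic p: C_L(O_p(L)) ≤ O_p(L). -/
theorem result {G : Type*} [Group G] [Finite G] {p : ℕ} [Fact p.Prime] (hG : Subgroup.centralizer (Cfsg.pCore p G : Set G) ≤ Cfsg.pCore p G) (T : Sylow p G) (Q : Subgroup G) (hQT : Q ≤ (T : Subgroup G)) (hQn : (T : Subgroup G) ≤ Subgroup.normalizer (Q : Set G)) (hC : (T : Subgroup G) ⊓ Subgroup.centralizer (Q : Set G) ≤ Q) (L : Subgroup G) (hQL : Q ≤ L) : Subgroup.centralizer (Cfsg.pCore p ↥L : Set ↥L) ≤ Cfsg.pCore p ↥L := by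
  have hp : p.Prime := Fact.out
  have hCQ : Subgroup.centralizer (Q : Set G) ≤ Q := Cfsg.Agent.S2960.result hG T Q hQT hQn hC
  have hVn : (Cfsg.pCore p G).Normal := Cfsg.Agent.Lib.Helper18.pCore_normal_h18 p G
  have hVp : IsPGroup p (Cfsg.pCore p G) := Cfsg.Agent.Lib.Helper18.pCore_isPGroup p G
  have hVT : Cfsg.pCore p G ≤ T := hVp.le_sylow_of_normal T
  have hQp : IsPGroup p Q := T.2.to_le hQT
  have hRn : (Cfsg.pCore p ↥L).Normal := Cfsg.Agent.Lib.Helper18.pCore_normal_h18 p ↥L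
  have hRp : IsPGroup p (Cfsg.pCore p ↥L) := Cfsg.Agent.Lib.Helper18.pCore_isPGroup p ↥L
  have hCn : (Subgroup.centralizer (Cfsg.pCore p ↥L : Set ↥L)).Normal := inferInstance
  -- Q₀ = Q ⊓ V
  have hQ₀p : IsPGroup p (Q ⊓ Cfsg.pCore p G : Subgroup G) := hQp.to_le inf_le_left
  -- commutators of V with Q land in Q₀
  have hcomm : ∀ q ∈ Q, ∀ v ∈ Cfsg.pCore p G, v⁻¹ * q⁻¹ * v * q ∈ Q ⊓ Cfsg.pCore p G := by
    intro q hq v hv
    refine Subgroup.mem_inf.2 ⟨?_, ?_⟩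
    · have hvN := hQn (hVT hv)
      rw [Subgroup.mem_normalizer_iff] at hvN
      have h1 : v⁻¹ * q⁻¹ * v ∈ Q := by
        have := (hvN (v⁻¹ * q⁻¹ * v)).2
        apply this
        have e : v * (v⁻¹ * q⁻¹ * v) * v⁻¹ = q⁻¹ := by group
        rw [e]; exact Q.inv_mem hq
      exact Q.mul_mem h1 hq
    · have h1 : q⁻¹ * v * q⁻¹⁻¹ ∈ Cfsg.pCore p G := hVn.conj_mem v hv q⁻¹
      have e : v⁻¹ * q⁻¹ * v * q = v⁻¹ * (q⁻¹ * v * q⁻¹⁻¹) := by group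
      rw [e]
      exact Subgroup.mul_mem _ (Subgroup.inv_mem _ hv) h1
  have hQ₀norm : ∀ q ∈ Q, ∀ w ∈ Q ⊓ Cfsg.pCore p G, q * w * q⁻¹ ∈ Q ⊓ Cfsg.pCore p G := by
    intro q hq w hw
    obtain ⟨hw1, hw2⟩ := Subgroup.mem_inf.1 hw
    exact Subgroup.mem_inf.2 ⟨Q.mul_mem (Q.mul_mem hq hw1) (Q.inv_mem hq), hVn.conj_mem w hw2 q⟩
  -- Q₀ ≤ R
  have hQ₀R : ∀ w ∈ Q ⊓ Cfsg.pCore p G, ∀ hw : w ∈ L, (⟨w, hw⟩ : ↥L) ∈ Cfsg.pCore p ↥L := by
    intro w hw hwL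
    have hle : (Cfsg.pCore p G).subgroupOf L ≤ Cfsg.pCore p ↥L := by
      apply Cfsg.Agent.Lib.Helper18.le_pCore
      · exact Subgroup.Normal.subgroupOf hVn L
      · exact hVp.comap_subtype
    apply hle
    rw [Subgroup.mem_subgroupOf]
    exact (Subgroup.mem_inf.1 hw).2
  -- elements of C centralize Q₀
  have hCQ₀ : ∀ c : ↥L, c ∈ Subgroup.centralizer (Cfsg.pCore p ↥L : Set ↥L) →
      ∀ w ∈ Q ⊓ Cfsg.pCore p G, (c : G) * w = w * (c : G) := by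
    intro c hc w hw
    have hwL : w ∈ L := hQL (Subgroup.mem_inf.1 hw).1
    rw [Subgroup.mem_centralizer_iff] at hc
    have := hc ⟨w, hwL⟩ (hQ₀R w hw hwL)
    exact (congrArg Subtype.val this).symm
  -- the normal p-subgroup P of C
  set P : Subgroup ↥L :=
    (stab (Cfsg.pCore p G) (Q ⊓ Cfsg.pCore p G)).subgroupOf L ⊓
      Subgroup.centralizer (Cfsg.pCore p ↥L : Set ↥L) with hP
  have hPp : IsPGroup p P :=
    (IsPGroup.comap_subtype (stab_isPGroup hVp hQ₀p hG)).to_le inf_le_left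
  have hPsub : P.IsSubnormal := by
    refine Subgroup.IsSubnormal.step P _ inf_le_right (Subgroup.Normal.isSubnormal hCn) ?_
    constructor
    rintro ⟨n, hnC⟩ hn ⟨c, hcC⟩
    rw [Subgroup.mem_subgroupOf] at hn ⊢
    obtain ⟨hn1, hn2⟩ := Subgroup.mem_inf.1 hn
    refine Subgroup.mem_inf.2 ⟨?_, ?_⟩
    · rw [Subgroup.mem_subgroupOf] at hn1 ⊢
      exact conj_mem_stab (hCQ₀ c hcC) hn1
    · exact hCn.conj_mem n hn2 c
  have hPR : P ≤ Cfsg.pCore p ↥L :=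
    Cfsg.Agent.Lib.helper17.le_pCore_of_subnormal_isPGroup hPsub hPp
  -- now the main argument
  apply Cfsg.Agent.Lib.Helper18.le_pCore hCn
  apply Cfsg.Agent.Lib.Helper18.isPGroup_of_forall_coprime_eq_one
  rintro ⟨y, hy⟩ hyo
  have hyo' : (orderOf y).Coprime p := by
    have : orderOf (⟨y, hy⟩ : Subgroup.centralizer (Cfsg.pCore p ↥L : Set ↥L)) = orderOf y :=
      Subgroup.orderOf_mk y hy
    rwa [this] at hyo
  have hycomm : ∀ q ∈ Q, (y : G) * q = q * (y : G) := by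
    intro q hq
    set q' : ↥L := ⟨q, hQL hq⟩ with hq'
    set d : ↥L := q' * y * q'⁻¹ * y⁻¹ with hd
    have hdC : d ∈ Subgroup.centralizer (Cfsg.pCore p ↥L : Set ↥L) :=
      Subgroup.mul_mem _ (hCn.conj_mem y hy q') (Subgroup.inv_mem _ hy)
    have hdS : (d : G) ∈ stab (Cfsg.pCore p G) (Q ⊓ Cfsg.pCore p G) := by
      have e : (d : G) = q * (y : G) * q⁻¹ * (y : G)⁻¹ := by
        simp [hd, hq']
      rw [e]
      apply comm_mem_stab (hcomm q hq)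
      · intro v hv
        have := hcomm q⁻¹ (Q.inv_mem hq) v hv
        simpa using this
      · exact hQ₀norm q hq
      · exact hCQ₀ y hy
      · rw [← e]; exact hCQ₀ d hdC
    have hdP : d ∈ P := Subgroup.mem_inf.2 ⟨Subgroup.mem_subgroupOf.2 hdS, hdC⟩
    have hdR : d ∈ Cfsg.pCore p ↥L := hPR hdP
    have hdy : Commute d y := by
      rw [Subgroup.mem_centralizer_iff] at hy
      exact hy d hdR
    obtain ⟨k, hk⟩ := hRp ⟨d, hdR⟩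
    have hk' : d ^ (p ^ k) = 1 := congrArg Subtype.val hk
    have hd1 : d = 1 := by
      apply Cfsg.Agent.Lib.Helper18.eq_one_of_conj_eq_mul_of_coprime (r := q') (x := y) (d := d)
        (m := orderOf y) (k := p ^ k) _ hdy (pow_orderOf_eq_one y) hk'
        (Nat.Coprime.pow_right k hyo')
      rw [hd]; group
    have h2 : q' * y * q'⁻¹ * y⁻¹ = 1 := by rw [← hd]; exact hd1
    have h3 : q' * y = y * q' := by
      calc q' * y = (q' * y * q'⁻¹ * y⁻¹) * y * q' := by group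
        _ = y * q' := by rw [h2, one_mul]
    have := congrArg Subtype.val h3
    simpa [hq'] using this.symm
  have hyQ : (y : G) ∈ Q := by
    apply hCQ
    rw [Subgroup.mem_centralizer_iff]
    intro q hq
    exact (hycomm q hq).symm
  obtain ⟨k, hk⟩ := hQp ⟨(y : G), hyQ⟩
  have hk' : y ^ (p ^ k) = 1 := by
    have := congrArg Subtype.val hk
    apply Subtype.ext
    simpa using this
  have h1 : orderOf y ∣ p ^ k := orderOf_dvd_of_pow_eq_one hk'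
  have h2 : orderOf y = 1 := by
    have := Nat.Coprime.eq_one_of_dvd (Nat.Coprime.pow_right k hyo') h1
    exact this
  apply Subtype.ext
  exact orderOf_eq_one_iff.1 h2

end Cfsg.Agent.S2961
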