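import Cfsg.Statements.S2963
-- import your own Cfsg.Agent.* helpers here

set_option autoImplicit false
open Cfsg

namespace Cfsg.Agent.S2963

open scoped Pointwise


/-- Let n be odd. If the symmetric group of degree n is a minimal parabolic group for the prime 2, that is, a Sylow 2-subgroup is not normal and lies in exactly one maximal subgroup, then n = 2^m + 1 for some natural number m. -/
theorem result (n : ℕ) (hn : Odd n) (h : Cfsg.IsPMinimal 2 (Equiv.Perm (Fin n))) : ∃ m : ℕ, n = 2 ^ m + 1 := by
  have : Fact (Nat.Prime 2) := ⟨Nat.prime_two⟩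
  obtain ⟨T⟩ : Nonempty (Sylow 2 (Equiv.Perm (Fin n))) := inferInstance
  obtain ⟨hnn, M, ⟨hMc, hTM⟩, huniq⟩ := h T
  -- a fixed point of T
  have hcard : Nat.card (Fin n) = n := by simp
  have hnd : ¬ 2 ∣ Nat.card (Fin n) := by
    rw [hcard]
    exact fun h2 => (Nat.not_even_iff_odd.2 hn) (even_iff_two_dvd.2 h2)
  obtain ⟨a, ha⟩ := T.2.nonempty_fixed_point_of_prime_not_dvd_card (Fin n) hnd
  have haT : ∀ g ∈ (T : Subgroup (Equiv.Perm (Fin n))), g a = a := by
    intro g hg
    exact ha ⟨g, hg⟩
  -- n ≠ 1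
  by_cases h1 : ∀ b : Fin n, b = a
  · exfalso
    apply hnn
    have hsub : Subsingleton (Equiv.Perm (Fin n)) := by
      constructor
      intro σ τ
      ext b
      rw [h1 (σ b), h1 (τ b)]
    constructor
    intro x hx g
    have : g * x * g⁻¹ = x := Subsingleton.elim _ _
    rw [this]; exact hx
  push Not at h1
  obtain ⟨b, hb⟩ := h1
  -- the orbit of b
  set O : Set (Fin n) := MulAction.orbit ↥(T : Subgroup (Equiv.Perm (Fin n))) b with hO
  have hbO : b ∈ O := MulAction.mem_orbit_self b
  have haO : a ∉ O := by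
    rintro ⟨g, hg⟩
    apply hb
    have h2 : (g : Equiv.Perm (Fin n)) b = a := hg
    have h3 : (g : Equiv.Perm (Fin n)) a = a := haT g g.2
    exact (g : Equiv.Perm (Fin n)).injective (h2.trans h3.symm)
  obtain ⟨m, hm⟩ := T.2.card_orbit b
  -- stabilizers
  have hTa : (T : Subgroup (Equiv.Perm (Fin n))) ≤
      MulAction.stabilizer (Equiv.Perm (Fin n)) ({a} : Set (Fin n)) := by
    intro g hg
    rw [MulAction.mem_stabilizer_iff]
    ext x
    simp only [Set.mem_smul_set, Set.mem_singleton_iff, exists_eq_left]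
    constructor
    · rintro rfl
      exact haT g hg
    · rintro rfl
      exact haT g hg
  have hTO : (T : Subgroup (Equiv.Perm (Fin n))) ≤
      MulAction.stabilizer (Equiv.Perm (Fin n)) O := by
    intro g hg
    rw [MulAction.mem_stabilizer_iff]
    have := MulAction.smul_orbit (⟨g, hg⟩ : ↥(T : Subgroup (Equiv.Perm (Fin n)))) b
    exact this
  have hodd2 : ∀ k : ℕ, Nat.card (Fin n) ≠ 2 * k := by
    intro k hk
    apply hnd
    rw [hk]; exact dvd_mul_right 2 k
  have hco1 : IsCoatom (MulAction.stabilizer (Equiv.Perm (Fin n)) ({a} : Set (Fin n))) := by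
    apply Equiv.Perm.isCoatom_stabilizer (Set.singleton_nonempty a)
    · exact ⟨b, by simpa using hb⟩
    · exact hodd2 _
  have hco2 : IsCoatom (MulAction.stabilizer (Equiv.Perm (Fin n)) O) := by
    apply Equiv.Perm.isCoatom_stabilizer ⟨b, hbO⟩
    · exact ⟨a, haO⟩
    · exact hodd2 _
  have e1 := huniq _ ⟨hco1, hTa⟩
  have e2 := huniq _ ⟨hco2, hTO⟩
  -- O is the complement of {a}
  have hOc : ∀ c : Fin n, c ≠ a → c ∈ O := by
    intro c hca
    by_contra hcO
    have hbc : b ≠ c := fun hbc => hcO (hbc ▸ hbO)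
    have hs1 : Equiv.swap b c ∈ MulAction.stabilizer (Equiv.Perm (Fin n)) ({a} : Set (Fin n)) := by
      rw [MulAction.mem_stabilizer_iff]
      ext x
      simp only [Set.mem_smul_set, Set.mem_singleton_iff, exists_eq_left]
      have hfix : Equiv.swap b c a = a := Equiv.swap_apply_of_ne_of_ne (Ne.symm hb) (Ne.symm hca)
      constructor
      · rintro rfl
        exact hfix
      · rintro rfl
        exact hfix
    rw [e1, ← e2, MulAction.mem_stabilizer_iff] at hs1
    apply hcO
    have : Equiv.swap b c • b ∈ Equiv.swap b c • O := Set.smul_mem_smul_set hbO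
    rw [hs1] at this
    simpa using this
  -- count
  have hOeq : O = ({a} : Set (Fin n))ᶜ := by
    ext c
    simp only [Set.mem_compl_iff, Set.mem_singleton_iff]
    constructor
    · intro hc hca
      exact haO (hca ▸ hc)
    · exact hOc c
  refine ⟨m, ?_⟩
  have h3 : Nat.card O = n - 1 := by
    rw [hOeq, Nat.card_coe_set_eq, Set.ncard_compl, Set.ncard_singleton, hcard]
  rw [hm] at h3
  have : 1 ≤ n := hn.pos
  omega

end Cfsg.Agent.S2963
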