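import Cfsg.Statements.S2968
import Cfsg.Agent.Lib.Helper18.Isolated

set_option autoImplicit false
open Cfsg

namespace Cfsg.Agent.S2968

open Cfsg.Agent.Lib.Helper18

theorem result {G : Type*} [Group G] [Finite G] {p : ℕ} [Fact p.Prime] (P : Sylow p G) (x : G) (hxP : x ∈ (P : Subgroup G)) (hx : ∃ k : ℕ, orderOf x = p ^ k) (hiso : Cfsg.IsIsolated x) : x ∈ (P : Subgroup G) ⊓ Subgroup.centralizer ((P : Subgroup G) : Set G) ∧ Cfsg.IsStronglyClosed (Subgroup.zpowers x) (P : Subgroup G) ∧ Cfsg.IsWeaklyClosed (Subgroup.zpowers x) (P : Subgroup G) := by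
  have hcomm : ∀ r ∈ (P : Subgroup G), Commute r x :=
    isIsolated_commute_of_mem_pGroup hiso P.isPGroup' hxP
  have hzP : Subgroup.zpowers x ≤ (P : Subgroup G) := by
    rw [Subgroup.zpowers_le]; exact hxP
  refine ⟨⟨hxP, ?_⟩, ⟨hzP, ?_⟩, ⟨hzP, ?_⟩⟩
  · show x ∈ Subgroup.centralizer ((P : Subgroup G) : Set G)
    rw [Subgroup.mem_centralizer_iff]
    intro r hr
    exact (hcomm r hr).eq
  · intro y hy g hg
    obtain ⟨k, rfl⟩ := Subgroup.mem_zpowers_iff.mp hy
    have h1 : Commute x (g * x ^ k * g⁻¹) := (hcomm _ hg).symm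
    rw [isIsolated_conj_zpow_eq hiso hx k g h1]
    exact hy
  · intro g hg
    have h1 : g * x * g⁻¹ ∈ (P : Subgroup G) := by
      apply hg
      exact ⟨x, Subgroup.mem_zpowers x, by simp [MulAut.conj_apply]⟩
    have h2 : g * x * g⁻¹ = x := hiso g (hcomm _ h1).symm
    rw [MonoidHom.map_zpowers]
    simp only [MulEquiv.coe_toMonoidHom, MulAut.conj_apply]
    rw [h2]

end Cfsg.Agent.S2968
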