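import Cfsg.Statements.S2969
import Cfsg.Agent.Lib.Helper18.Isolated

set_option autoImplicit false
open Cfsg

namespace Cfsg.Agent.S2969

open Cfsg.Agent.Lib.Helper18

theorem result {G : Type*} [Group G] [Finite G] {p : ℕ} [Fact p.Prime] (x : G) (hx : ∃ k : ℕ, orderOf x = p ^ k) (hiso : Cfsg.IsIsolated x) : (∀ R : Subgroup G, IsPGroup p ↥R → x ∈ R → Subgroup.normalizer (R : Set G) ≤ Subgroup.centralizer ({x} : Set G)) ∧ (∀ H N : Subgroup G, N ≤ H → H ≤ Subgroup.normalizer (N : Set G) → x ∈ N → N ⊔ (H ⊓ Subgroup.centralizer ({x} : Set G)) = H) := by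
  refine ⟨fun R hR hxR => isIsolated_normalizer_le_centralizer hiso hR hxR, ?_⟩
  intro H N hNH hHN hxN
  apply le_antisymm
  · exact sup_le hNH inf_le_left
  · intro h hh
    have hzN : Subgroup.zpowers x ≤ N := by
      rw [Subgroup.zpowers_le]; exact hxN
    obtain ⟨Q, hQ, hQx⟩ := exists_isSylowIn_ge hzN (isPGroup_zpowers_of_orderOf hx)
    obtain ⟨n, hn, hnh⟩ := hQ.frattini (hHN hh)
    have hxQ : x ∈ Q := hQx (Subgroup.mem_zpowers x)
    have h1 : n * h ∈ Subgroup.centralizer ({x} : Set G) :=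
      isIsolated_normalizer_le_centralizer hiso hQ.isPGroup hxQ hnh
    have h2 : n * h ∈ H := H.mul_mem (hNH hn) hh
    have h3 : h = n⁻¹ * (n * h) := by simp
    rw [h3]
    exact Subgroup.mul_mem_sup (N.inv_mem hn) ⟨h2, h1⟩

end Cfsg.Agent.S2969
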