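import Cfsg.Statements.S2970
import Cfsg.Agent.Lib.Helper18.Isolated
import Cfsg.Agent.Lib.Helper18.CyclicSylow

set_option autoImplicit false
open Cfsg

namespace Cfsg.Agent.S2970

open Cfsg.Agent.Lib.Helper18

theorem result {G : Type*} [Group G] [Finite G] {p : ℕ} [Fact p.Prime] (x : G) (hx : ∃ k : ℕ, orderOf x = p ^ k) (hiso : Cfsg.IsIsolated x) : (∀ (N : Subgroup G) [N.Normal], Cfsg.IsIsolated (QuotientGroup.mk x : G ⧸ N)) ∧ (x ≠ 1 → (∀ P : Sylow p G, IsCyclic ↥(P : Subgroup G)) → Cfsg.HasNormalPComplement p G) := by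
  refine ⟨?_, ?_⟩
  · intro N _ q hq
    obtain ⟨g, rfl⟩ := QuotientGroup.mk_surjective q
    set x' : G := g * x * g⁻¹ with hx'
    have hq' : Commute (QuotientGroup.mk x : G ⧸ N) (QuotientGroup.mk x' : G ⧸ N) := by
      simpa [hx'] using hq
    set M : Subgroup G := (Subgroup.centralizer ({(QuotientGroup.mk x : G ⧸ N)} : Set (G ⧸ N))).comap
      (QuotientGroup.mk' N) with hM
    have hmemM : ∀ y : G, y ∈ M ↔ Commute (QuotientGroup.mk y : G ⧸ N) (QuotientGroup.mk x : G ⧸ N) := by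
      intro y
      rw [hM, Subgroup.mem_comap, Subgroup.mem_centralizer_iff]
      constructor
      · intro h
        exact (h _ (Set.mem_singleton _)).symm
      · intro h z hz
        rw [Set.mem_singleton_iff] at hz
        rw [hz]
        exact h.eq.symm
    have hxM : x ∈ M := (hmemM x).mpr (Commute.refl _)
    have hx'M : x' ∈ M := (hmemM x').mpr hq'.symm
    have hox' : ∃ k : ℕ, orderOf x' = p ^ k := by
      obtain ⟨n, hn⟩ := hx
      exact ⟨n, by rw [hx', orderOf_conj_h18, hn]⟩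
    have hzx : Subgroup.zpowers x ≤ M := by rw [Subgroup.zpowers_le]; exact hxM
    have hzx' : Subgroup.zpowers x' ≤ M := by rw [Subgroup.zpowers_le]; exact hx'M
    obtain ⟨S, hS, hSx⟩ := exists_isSylowIn_ge hzx (isPGroup_zpowers_of_orderOf hx)
    obtain ⟨k, hkM, hkle⟩ := hS.exists_conj_le hzx' (isPGroup_zpowers_of_orderOf hox')
    have h1 : k * x' * k⁻¹ ∈ S := hkle (conj_mem_conjSub (Subgroup.mem_zpowers x'))
    have h2 : Commute (k * x' * k⁻¹) x :=
      isIsolated_commute_of_mem_pGroup hiso hS.isPGroup (hSx (Subgroup.mem_zpowers x)) _ h1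
    have h3 : k * x' * k⁻¹ = (k * g) * x * (k * g)⁻¹ := by
      rw [hx']; simp [mul_assoc]
    have h4 : (k * g) * x * (k * g)⁻¹ = x := hiso _ (by rw [← h3]; exact h2.symm)
    have h5 : x' = k⁻¹ * x * k := by
      rw [← h4, ← h3]; simp [mul_assoc]
    have h6 := (hmemM k).mp hkM
    have h7 : (QuotientGroup.mk x' : G ⧸ N) = QuotientGroup.mk x := by
      rw [h5, QuotientGroup.mk_mul, QuotientGroup.mk_mul, QuotientGroup.mk_inv]
      calc ((k : G ⧸ N))⁻¹ * (x : G ⧸ N) * (k : G ⧸ N) = ((k : G ⧸ N))⁻¹ * ((k : G ⧸ N) * (x : G ⧸ N)) := by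
            rw [mul_assoc, h6.eq]
        _ = (x : G ⧸ N) := by simp
    simpa [hx'] using h7
  · intro hx1 hcyc
    have hzp : IsPGroup p (Subgroup.zpowers x) := isPGroup_zpowers_of_orderOf hx
    obtain ⟨P, hP⟩ := hzp.exists_le_sylow
    have hxP : x ∈ (P : Subgroup G) := hP (Subgroup.mem_zpowers x)
    have hN := isIsolated_normalizer_le_centralizer hiso P.isPGroup' hxP
    have hNC := normalizer_le_centralizer_of_cyclic_sylow P (hcyc P) hxP hx1 hN
    exact ⟨P, (MonoidHom.transferSylow P hNC).ker, MonoidHom.normal_ker _,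
      MonoidHom.ker_transferSylow_isComplement' P hNC⟩

end Cfsg.Agent.S2970
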