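import Cfsg.Statements.S2971
import Cfsg.Agent.S2970
import Cfsg.Agent.Lib.Helper29.OddCyclic
import Cfsg.Agent.Lib.Helper1.Cores

set_option autoImplicit false
open Cfsg

namespace Cfsg.Agent.S2971

/-- in a group of `p`-rank at most one, a `p`-subgroup has a unique subgroup of order `p` -/
theorem unique_of_pRankLE {G : Type*} [Group G] [Finite G] {p : ℕ} [hp : Fact p.Prime]
    (hrk : Cfsg.PRankLE p 1 G) (P : Subgroup G) (hP : IsPGroup p P)
    (H K : Subgroup ↥P) (hH : Nat.card H = p) (hK : Nat.card K = p) : H = K := by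
  have hp1 : 1 < p := hp.out.one_lt
  have hnt : Nontrivial ↥P := by
    have : Nontrivial ↥H := by
      rw [← Finite.one_lt_card_iff_nontrivial, hH]; exact hp1
    obtain ⟨a, b, hab⟩ := this
    exact ⟨⟨a.1, b.1, fun h => hab (Subtype.ext h)⟩⟩
  have hZnt : Nontrivial (Subgroup.center ↥P) := hP.center_nontrivial
  have hZp : IsPGroup p (Subgroup.center ↥P) := hP.to_subgroup _
  have hdvd : p ∣ Nat.card (Subgroup.center ↥P) := by
    obtain ⟨n, hn0, hn⟩ := hZp.nontrivial_iff_card.1 hZnt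
    rw [hn]; exact dvd_pow_self p (by omega)
  obtain ⟨z, hz⟩ := exists_prime_orderOf_dvd_card' (G := Subgroup.center ↥P) p hdvd
  have hzc : ∀ g : ↥P, g * (z : ↥P) = (z : ↥P) * g := fun g => Subgroup.mem_center_iff.1 z.2 g
  have hoz : orderOf (z : ↥P) = p := by rw [Subgroup.orderOf_coe]; exact hz
  set Z₀ : Subgroup ↥P := Subgroup.zpowers (z : ↥P) with hZ₀
  have hZ₀card : Nat.card Z₀ = p := by rw [Nat.card_zpowers, hoz]
  have hZ₀c : ∀ n ∈ Z₀, ∀ g : ↥P, g * n = n * g := by
    intro n hn g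
    have : Z₀ ≤ Subgroup.center ↥P := by
      rw [hZ₀, Subgroup.zpowers_le]; exact z.2
    exact Subgroup.mem_center_iff.1 (this hn) g
  have hZ₀n : Z₀.Normal := by
    constructor
    intro n hn g
    rw [hZ₀c n hn g, mul_assoc, mul_inv_cancel, mul_one]
    exact hn
  -- key claim
  have claim : ∀ L : Subgroup ↥P, Nat.card L = p → L = Z₀ := by
    intro L hL
    have hLcyc : IsCyclic ↥L := isCyclic_of_prime_card hL
    have hLcomm : ∀ a ∈ L, ∀ b ∈ L, a * b = b * a := by
      intro a ha b hb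
      exact congrArg Subtype.val (hLcyc.commGroup.mul_comm ⟨a, ha⟩ ⟨b, hb⟩)
    have hLpow : ∀ a ∈ L, a ^ p = 1 := by
      intro a ha
      have := pow_card_eq_one' (G := ↥L) (x := ⟨a, ha⟩)
      rw [hL] at this
      exact congrArg Subtype.val this
    have hZpow : ∀ a ∈ Z₀, a ^ p = 1 := by
      intro a ha
      have := pow_card_eq_one' (G := ↥Z₀) (x := ⟨a, ha⟩)
      rw [hZ₀card] at this
      exact congrArg Subtype.val this
    set A : Subgroup ↥P := L ⊔ Z₀ with hA
    have hAmem : ∀ a ∈ A, ∃ y ∈ L, ∃ n ∈ Z₀, y * n = a := fun a ha =>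
      Subgroup.mem_sup_of_normal_right.1 ha
    have hAcomm : IsMulCommutative ↥(A.map P.subtype) := by
      refine ⟨⟨?_⟩⟩
      rintro ⟨_, a, ha, rfl⟩ ⟨_, b, hb, rfl⟩
      apply Subtype.ext
      change P.subtype a * P.subtype b = P.subtype b * P.subtype a
      rw [← map_mul, ← map_mul]
      congr 1
      obtain ⟨y, hy, n, hn, rfl⟩ := hAmem a ha
      obtain ⟨y', hy', n', hn', rfl⟩ := hAmem b hb
      calc y * n * (y' * n') = y * (n * y') * n' := by group
        _ = y * (y' * n) * n' := by rw [hZ₀c n hn y']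
        _ = (y * y') * (n * n') := by group
        _ = (y' * y) * (n' * n) := by rw [hLcomm y hy y' hy', hZ₀c n hn n']
        _ = y' * (y * n') * n := by group
        _ = y' * (n' * y) * n := by rw [hZ₀c n' hn' y]
        _ = y' * n' * (y * n) := by group
    have hApow : ∀ a ∈ A.map P.subtype, a ^ p = 1 := by
      rintro _ ⟨a, ha, rfl⟩
      rw [← map_pow]
      obtain ⟨y, hy, n, hn, rfl⟩ := hAmem a ha
      have hc : Commute y n := (hZ₀c n hn y)
      rw [hc.mul_pow, hLpow y hy, hZpow n hn, mul_one, map_one]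
    have hcardA : Nat.card A ≤ p := by
      have := hrk (A.map P.subtype) hAcomm hApow
      rwa [pow_one, Subgroup.card_map_of_injective P.subtype_injective] at this
    have e1 : L = A := Subgroup.eq_of_le_of_card_ge le_sup_left (by rw [hL]; exact hcardA)
    have e2 : Z₀ = A := Subgroup.eq_of_le_of_card_ge le_sup_right (by rw [hZ₀card]; exact hcardA)
    rw [e1, ← e2]
  rw [claim H hH, claim K hK]


/-- Let G be a finite group and p an odd prime such that G has p-rank at most 1 (no elementary abelian subgroup of order p²). If x ∈ G is an isolated element of order p, then x is central modulo the largest normal subgroup of G of order prime to p. -/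
theorem result {G : Type*} [Group G] [Finite G] {p : ℕ} [Fact p.Prime] (hp : p ≠ 2) (hrk : Cfsg.PRankLE p 1 G) (x : G) (hx : orderOf x = p) (hiso : Cfsg.IsIsolated x) : Cfsg.InZStar p x := by
  have hpp : p.Prime := Fact.out
  have hx1 : x ≠ 1 := by
    intro h
    rw [h, orderOf_one] at hx
    exact hpp.one_lt.ne hx
  have hcyc : ∀ P : Sylow p G, IsCyclic ↥(P : Subgroup G) := by
    intro P
    exact Cfsg.Agent.Lib.Helper29.isCyclic_of_unique_subgroup_odd p hp P.2
      (fun H K hH hK => unique_of_pRankLE hrk (P : Subgroup G) P.2 H K hH hK)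
  obtain ⟨P, N, hN, hcomp⟩ :=
    (Cfsg.Agent.S2970.result x ⟨1, by rw [pow_one]; exact hx⟩ hiso).2 hx1 hcyc
  -- N ≤ O_{p'}(G)
  have hNcard : Nat.card N = (P : Subgroup G).index := by
    have h1 := hcomp.card_mul_card
    have h2 := (P : Subgroup G).card_mul_index
    rw [← h2, mul_comm] at h1
    exact Nat.eq_of_mul_eq_mul_left Nat.card_pos h1
  have hNcop : (Nat.card N).Coprime p := by
    rw [hNcard]
    exact ((Nat.Prime.coprime_iff_not_dvd hpp).2 P.not_dvd_index).symm
  have hNle : N ≤ Cfsg.pPrimeCore p G := Cfsg.Agent.Lib.Helper1.le_pPrimeCore hN hNcop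
  -- G = N P
  have hsup : N ⊔ (P : Subgroup G) = ⊤ := hcomp.sup_eq_top
  have hdec : ∀ g : G, ∃ n ∈ N, ∃ u ∈ (P : Subgroup G), n * u = g := by
    intro g
    have : g ∈ N ⊔ (P : Subgroup G) := by rw [hsup]; exact Subgroup.mem_top g
    exact Subgroup.mem_sup_of_normal_left.1 this
  have hPcomm : ∀ a ∈ (P : Subgroup G), ∀ b ∈ (P : Subgroup G), a * b = b * a := by
    intro a ha b hb
    exact congrArg Subtype.val ((hcyc P).commGroup.mul_comm ⟨a, ha⟩ ⟨b, hb⟩)
  intro g
  apply hNle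
  obtain ⟨n₁, hn₁, u₁, hu₁, rfl⟩ := hdec g
  obtain ⟨n₂, hn₂, u₂, hu₂, hxe⟩ := hdec x
  rw [← QuotientGroup.eq_one_iff]
  have e1 : ((n₁ * u₁ : G) : G ⧸ N) = (u₁ : G ⧸ N) := by
    rw [QuotientGroup.mk_mul, (QuotientGroup.eq_one_iff n₁).2 hn₁, one_mul]
  have e2 : ((x : G) : G ⧸ N) = (u₂ : G ⧸ N) := by
    rw [← hxe, QuotientGroup.mk_mul, (QuotientGroup.eq_one_iff n₂).2 hn₂, one_mul]
  have e3 : ((n₁ * u₁ * x * (n₁ * u₁)⁻¹ * x⁻¹ : G) : G ⧸ N)
      = ((n₁ * u₁ : G) : G ⧸ N) * (x : G ⧸ N) * ((n₁ * u₁ : G) : G ⧸ N)⁻¹ * (x : G ⧸ N)⁻¹ := by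
    simp
  rw [e3, e1, e2, ← QuotientGroup.mk_mul, hPcomm u₁ hu₁ u₂ hu₂, QuotientGroup.mk_mul]
  group

end Cfsg.Agent.S2971
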