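import Cfsg.Statements.S2998
import Cfsg.Agent.Lib.Helper18.SylowIn

set_option autoImplicit false
open Cfsg

namespace Cfsg.Agent.S2998

open Cfsg.Agent.Lib.Helper18

theorem centralizer_le_normalizer_zpowers {G : Type*} [Group G] (y : G) :
    Subgroup.centralizer ({y} : Set G) ≤ Subgroup.normalizer ((Subgroup.zpowers y : Subgroup G) : Set G) := by
  intro c hc
  have hcy : y * c = c * y := Subgroup.mem_centralizer_iff.mp hc y rfl
  have key : ∀ z ∈ Subgroup.zpowers y, c * z * c⁻¹ = z := by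
    intro z hz
    obtain ⟨k, rfl⟩ := Subgroup.mem_zpowers_iff.mp hz
    have : Commute c (y ^ k) := (Commute.zpow_right (show Commute c y from hcy.symm) k)
    rw [this.eq, mul_inv_cancel_right]
  rw [Subgroup.mem_normalizer_iff]
  intro z
  constructor
  · intro hz
    rw [key z hz]; exact hz
  · intro hz
    have h1 := key _ hz
    have h2 : z = c⁻¹ * (c * z * c⁻¹) * c := by simp [mul_assoc]
    have h3 : c⁻¹ ∈ Subgroup.centralizer ({y} : Set G) := Subgroup.inv_mem _ hc
    have hcy' : y * c⁻¹ = c⁻¹ * y := Subgroup.mem_centralizer_iff.mp h3 y rfl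
    obtain ⟨k, hk⟩ := Subgroup.mem_zpowers_iff.mp hz
    have : Commute c⁻¹ (y ^ k) := (Commute.zpow_right (show Commute c⁻¹ y from hcy'.symm) k)
    rw [h2, ← hk, this.eq, mul_assoc, inv_mul_cancel, mul_one]
    exact Subgroup.zpow_mem_zpowers y k

/-- Let G be a finite group, p a prime, P a Sylow p-subgroup of G and x ∈ P an element such that N_G(R) ≤ C_G(x) for every nontrivial subgroup R of P. Then P ≤ C_G(x); every G-conjugate of x lying in P equals x (so g ∈ C_G(x) whenever g x g⁻¹ ∈ P); and for every normal subgroup N of G, the image of x in G ⧸ N has the same property with respect to the image of P: the normalizer of every nontrivial subgroup of the image of P centralizes the image of x. -/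
theorem result {G : Type*} [Group G] [Finite G] {p : ℕ} [Fact p.Prime] (P : Sylow p G) (x : G) (hxP : x ∈ (P : Subgroup G)) (hlc : ∀ R : Subgroup G, R ≤ (P : Subgroup G) → R ≠ ⊥ → Subgroup.normalizer (R : Set G) ≤ Subgroup.centralizer ({x} : Set G)) : (P : Subgroup G) ≤ Subgroup.centralizer ({x} : Set G) ∧ (∀ g : G, g * x * g⁻¹ ∈ (P : Subgroup G) → g * x * g⁻¹ = x) ∧ ∀ (N : Subgroup G) [N.Normal], ∀ R : Subgroup (G ⧸ N), R ≤ (P : Subgroup G).map (QuotientGroup.mk' N) → R ≠ ⊥ → Subgroup.normalizer (R : Set (G ⧸ N)) ≤ Subgroup.centralizer ({(QuotientGroup.mk x : G ⧸ N)} : Set (G ⧸ N)) := by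
  have hP1 : x ≠ 1 → (P : Subgroup G) ≠ ⊥ := by
    intro hx1 hbot
    rw [hbot] at hxP
    exact hx1 (Subgroup.mem_bot.mp hxP)
  have hNP : x ≠ 1 → Subgroup.normalizer ((P : Subgroup G) : Set G) ≤ Subgroup.centralizer ({x} : Set G) :=
    fun hx1 => hlc P le_rfl (hP1 hx1)
  have part1 : (P : Subgroup G) ≤ Subgroup.centralizer ({x} : Set G) := by
    by_cases hx1 : x = 1
    · subst hx1
      intro y _
      rw [Subgroup.mem_centralizer_iff]
      intro h hh
      rw [Set.mem_singleton_iff] at hh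
      subst hh
      simp
    · exact Subgroup.le_normalizer.trans (hNP hx1)
  have part2 : ∀ g : G, g * x * g⁻¹ ∈ (P : Subgroup G) → g * x * g⁻¹ = x := by
    intro g hy
    by_cases hx1 : x = 1
    · subst hx1; simp
    set y := g * x * g⁻¹ with hydef
    have hy1 : y ≠ 1 := by
      intro h
      apply hx1
      have : x = g⁻¹ * y * g := by simp [hydef, mul_assoc]
      rw [this, h]; simp
    have hR : Subgroup.zpowers y ≤ (P : Subgroup G) := by
      rw [Subgroup.zpowers_le]; exact hy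
    have hRne : Subgroup.zpowers y ≠ ⊥ := by
      intro h
      exact hy1 (Subgroup.zpowers_eq_bot.mp h)
    have hCy : Subgroup.centralizer ({y} : Set G) ≤ Subgroup.centralizer ({x} : Set G) :=
      (centralizer_le_normalizer_zpowers y).trans (hlc _ hR hRne)
    have hQ : conjSub g (P : Subgroup G) ≤ Subgroup.centralizer ({x} : Set G) := by
      refine le_trans ?_ hCy
      rintro _ ⟨z, hz, rfl⟩
      rw [Subgroup.mem_centralizer_iff]
      intro h hh
      rw [Set.mem_singleton_iff] at hh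
      subst hh
      have hzx : x * z = z * x := Subgroup.mem_centralizer_iff.mp (part1 hz) x rfl
      simp only [MulEquiv.coe_toMonoidHom, MulAut.conj_apply, hydef]
      calc g * x * g⁻¹ * (g * z * g⁻¹) = g * (x * z) * g⁻¹ := by simp [mul_assoc]
        _ = g * (z * x) * g⁻¹ := by rw [hzx]
        _ = g * z * g⁻¹ * (g * x * g⁻¹) := by simp [mul_assoc]
    have hSyl : IsSylowIn p (P : Subgroup G) (Subgroup.centralizer ({x} : Set G)) :=
      isSylowIn_of_sylow_le P part1
    obtain ⟨c, hc, hle⟩ := hSyl.exists_conj_le hQ (conjSub_isPGroup P.isPGroup')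
    rw [conjSub_mul] at hle
    have h1 : c * g ∈ Subgroup.centralizer ({x} : Set G) := hNP hx1 (mem_normalizer_of_conjSub_le hle)
    have h2 : g ∈ Subgroup.centralizer ({x} : Set G) := by
      have : g = c⁻¹ * (c * g) := by simp
      rw [this]
      exact Subgroup.mul_mem _ (Subgroup.inv_mem _ hc) h1
    have h3 : x * g = g * x := Subgroup.mem_centralizer_iff.mp h2 x rfl
    rw [hydef, ← h3]; simp
  refine ⟨part1, part2, ?_⟩
  intro N _ R hRP hRne gbar hgbar
  rw [Subgroup.mem_centralizer_iff]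
  intro h hh
  rw [Set.mem_singleton_iff] at hh
  subst hh
  by_cases hx1 : x = 1
  · subst hx1; simp
  obtain ⟨g, rfl⟩ := QuotientGroup.mk_surjective gbar
  set L : Subgroup G := R.comap (QuotientGroup.mk' N) with hLdef
  have hmemL : ∀ l, l ∈ L ↔ (QuotientGroup.mk l : G ⧸ N) ∈ R := fun l => Iff.rfl
  have hNL : N ≤ L := by
    intro n hn
    rw [hmemL]
    have : (QuotientGroup.mk n : G ⧸ N) = 1 := (QuotientGroup.eq_one_iff n).mpr hn
    rw [this]; exact R.one_mem
  have hgL : g ∈ Subgroup.normalizer (L : Set G) := by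
    rw [Subgroup.mem_normalizer_iff]
    intro l
    rw [hmemL, hmemL]
    have := (Subgroup.mem_normalizer_iff.mp hgbar) (QuotientGroup.mk l)
    simpa using this
  -- lifting elements of R to P ⊓ L
  have hlift : ∀ l ∈ L, ∃ r ∈ (P : Subgroup G) ⊓ L, (QuotientGroup.mk r : G ⧸ N) = QuotientGroup.mk l := by
    intro l hl
    obtain ⟨r, hr, hrl⟩ := hRP ((hmemL l).mp hl)
    have hrL : r ∈ L := by
      rw [hmemL]
      have : (QuotientGroup.mk r : G ⧸ N) = QuotientGroup.mk l := hrl
      rw [this]; exact hl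
    exact ⟨r, ⟨hr, hrL⟩, hrl⟩
  have hLsup : L ≤ ((P : Subgroup G) ⊓ L) ⊔ N := by
    intro l hl
    obtain ⟨r, hr, hrl⟩ := hlift l hl
    have h1 : r⁻¹ * l ∈ N := QuotientGroup.eq.mp hrl
    have : l = r * (r⁻¹ * l) := by simp
    rw [this]
    exact Subgroup.mul_mem_sup hr h1
  have hSyl : IsSylowIn p ((P : Subgroup G) ⊓ L) L := by
    apply (isSylowIn_top_of_sylow P).inf_of_le_sup hNL le_top _ hLsup
    rw [Subgroup.normalizer_eq_top]
  have hR1ne : (P : Subgroup G) ⊓ L ≠ ⊥ := by
    obtain ⟨rbar, hrbar, hrbar1⟩ := (Subgroup.ne_bot_iff_exists_ne_one).mp hRne |>.imp (fun a ha => ha) |> fun ⟨a, ha⟩ => (⟨a.1, a.2, fun h => ha (Subtype.ext h)⟩ : ∃ r : G ⧸ N, r ∈ R ∧ r ≠ 1)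
    obtain ⟨l, rfl⟩ := QuotientGroup.mk_surjective rbar
    obtain ⟨r, hr, hrl⟩ := hlift l hrbar
    intro hbot
    rw [hbot, Subgroup.mem_bot] at hr
    subst hr
    apply hrbar1
    rw [← hrl]; rfl
  obtain ⟨n, hn, hng⟩ := hSyl.frattini hgL
  have hng' : n * g ∈ Subgroup.centralizer ({x} : Set G) := hlc _ inf_le_left hR1ne hng
  obtain ⟨r, hr, hrn⟩ := hlift n hn
  have hrx : x * r = r * x := Subgroup.mem_centralizer_iff.mp (part1 hr.1) x rfl
  have hngx : x * (n * g) = n * g * x := Subgroup.mem_centralizer_iff.mp hng' x rfl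
  have e1 : (QuotientGroup.mk x : G ⧸ N) * QuotientGroup.mk n = QuotientGroup.mk n * QuotientGroup.mk x := by
    rw [← hrn, ← QuotientGroup.mk_mul, ← QuotientGroup.mk_mul, hrx]
  have e2 : (QuotientGroup.mk x : G ⧸ N) * (QuotientGroup.mk n * QuotientGroup.mk g)
      = QuotientGroup.mk n * QuotientGroup.mk g * QuotientGroup.mk x := by
    rw [← QuotientGroup.mk_mul, ← QuotientGroup.mk_mul, ← QuotientGroup.mk_mul, hngx]
  have e3 : (QuotientGroup.mk n : G ⧸ N) * (QuotientGroup.mk x * QuotientGroup.mk g)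
      = QuotientGroup.mk n * (QuotientGroup.mk g * QuotientGroup.mk x) := by
    rw [← mul_assoc, ← e1, mul_assoc, e2, mul_assoc]
  exact mul_left_cancel e3

end Cfsg.Agent.S2998
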