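import Cfsg.Statements.S3003
import Cfsg.Agent.Lib.Helper18.NoncyclicSup
import Cfsg.Agent.Lib.Helper18.SylowIn
import Cfsg.Agent.Lib.Helper18.ChermakDelgado
import Cfsg.Agent.S0058
import Mathlib.Data.Set.Finite.Lemmas

set_option autoImplicit false
open Cfsg

namespace Cfsg.Agent.S3003

open Cfsg.Agent.Lib.Helper18

variable {G : Type*} [Group G]

theorem inf_eq_bot_of_pgroup_coprime [Finite G] {p : ℕ} [Fact p.Prime] {Q R : Subgroup G} (hQp : IsPGroup p Q)
    (hR : (Nat.card R).Coprime p) : Q ⊓ R = ⊥ := by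
  have hpg : IsPGroup p ↥(Q ⊓ R) := hQp.to_le inf_le_left
  rcases hpg.card_eq_or_dvd with h0 | h0
  · exact Subgroup.card_eq_one.mp h0
  · exfalso
    have h1 : p ∣ Nat.card R := dvd_trans h0 (Subgroup.card_dvd_of_le inf_le_right)
    have := Nat.Coprime.eq_one_of_dvd hR.symm h1
    exact (Fact.out : p.Prime).one_lt.ne' this

/-- centralizer of a nontrivial central element of the large subgroup meets `R` trivially. -/
theorem key_central [Finite G] {p : ℕ} [Fact p.Prime] {Q : Subgroup G} (hQp : IsPGroup p Q)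
    (hlarge : Cfsg.IsLarge Q) {R : Subgroup G} (hR : (Nat.card R).Coprime p)
    (hQR : Q ≤ Subgroup.normalizer (R : Set G)) {z : G} (hz : z ∈ Q ⊓ Subgroup.centralizer (Q : Set G))
    (hz1 : z ≠ 1) : R ⊓ Subgroup.centralizer ({z} : Set G) = ⊥ := by
  have hQR0 : Q ⊓ R = ⊥ := inf_eq_bot_of_pgroup_coprime hQp hR
  rw [eq_bot_iff]
  intro d hd
  rw [Subgroup.mem_bot]
  have hdz : d * z = z * d := ((Subgroup.mem_centralizer_iff.mp hd.2) z (Set.mem_singleton z)).symm
  -- d normalizes Q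
  have hZ1 : Subgroup.zpowers z ≠ ⊥ := by
    intro h
    apply hz1
    have : z ∈ Subgroup.zpowers z := Subgroup.mem_zpowers z
    rw [h, Subgroup.mem_bot] at this
    exact this
  have hdN : d ∈ Subgroup.normalizer (Q : Set G) := by
    apply hlarge.2 (Subgroup.zpowers z) (by rw [Subgroup.zpowers_le]; exact hz.2) hZ1
    apply mem_normalizer_of_conjSub_le
    rintro _ ⟨y, hy, rfl⟩
    obtain ⟨k, rfl⟩ := Subgroup.mem_zpowers_iff.mp hy
    have : (MulAut.conj d).toMonoidHom (z ^ k) = z ^ k := by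
      show d * z ^ k * d⁻¹ = z ^ k
      have hc : Commute d z := hdz
      rw [(hc.zpow_right k).eq, mul_assoc, mul_inv_cancel, mul_one]
    rw [this]
    exact Subgroup.zpow_mem _ (Subgroup.mem_zpowers z) k
  -- d centralizes Q
  have hdC : d ∈ Subgroup.centralizer (Q : Set G) := by
    rw [Subgroup.mem_centralizer_iff]
    intro q hq
    have hqz : q * z = z * q := (Subgroup.mem_centralizer_iff.mp hz.2) q hq
    have h1 : q * d * q⁻¹ * d⁻¹ ∈ Q ⊓ R := by
      refine Subgroup.mem_inf.mpr ⟨?_, ?_⟩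
      · have : q * d * q⁻¹ * d⁻¹ = q * (d * q⁻¹ * d⁻¹) := by group
        rw [this]
        refine Q.mul_mem hq ?_
        have h2 := (Subgroup.mem_normalizer_iff.mp hdN q⁻¹).mp (Q.inv_mem hq)
        exact h2
      · refine R.mul_mem ?_ (R.inv_mem hd.1)
        exact (Subgroup.mem_normalizer_iff.mp (hQR hq) d).mp hd.1
    rw [hQR0, Subgroup.mem_bot] at h1
    calc q * d = (q * d * q⁻¹ * d⁻¹) * (d * q) := by group
      _ = d * q := by rw [h1, one_mul]
  have : d ∈ Q ⊓ R := ⟨hlarge.1 hdC, hd.1⟩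
  rw [hQR0, Subgroup.mem_bot] at this
  exact this

theorem key_conj [Finite G] {p : ℕ} [Fact p.Prime] {Q : Subgroup G} (hQp : IsPGroup p Q)
    (hlarge : Cfsg.IsLarge Q) {G₁ : Subgroup G} (hQG : Q ≤ G₁) {R : Subgroup G} (hR : (Nat.card R).Coprime p)
    (hGR : G₁ ≤ Subgroup.normalizer (R : Set G)) {x g : G} (hx1 : x ≠ 1) (hg : g ∈ G₁)
    (hz : g * x * g⁻¹ ∈ Q ⊓ Subgroup.centralizer (Q : Set G)) :
    R ⊓ Subgroup.centralizer ({x} : Set G) = ⊥ := by
  have hz1 : g * x * g⁻¹ ≠ 1 := by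
    intro h
    apply hx1
    have : x = g⁻¹ * (g * x * g⁻¹) * g := by group
    rw [this, h]; group
  have h0 := key_central hQp hlarge hR (hQG.trans hGR) hz hz1
  rw [eq_bot_iff]
  intro r hr
  rw [Subgroup.mem_bot]
  have hrx : r * x = x * r := ((Subgroup.mem_centralizer_iff.mp hr.2) x (Set.mem_singleton x)).symm
  have h1 : g * r * g⁻¹ ∈ R ⊓ Subgroup.centralizer ({g * x * g⁻¹} : Set G) := by
    refine Subgroup.mem_inf.mpr ⟨?_, ?_⟩
    · exact (Subgroup.mem_normalizer_iff.mp (hGR hg) r).mp hr.1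
    · rw [Subgroup.mem_centralizer_iff]
      intro y hy
      rw [Set.mem_singleton_iff] at hy
      subst hy
      calc g * x * g⁻¹ * (g * r * g⁻¹) = g * (x * r) * g⁻¹ := by group
        _ = g * (r * x) * g⁻¹ := by rw [hrx]
        _ = g * r * g⁻¹ * (g * x * g⁻¹) := by group
  rw [h0, Subgroup.mem_bot] at h1
  have : r = g⁻¹ * (g * r * g⁻¹) * g := by group
  rw [this, h1]; group

theorem centralizer_le_singleton {U : Subgroup G} {x : G} (hx : x ∈ U) :
    Subgroup.centralizer (U : Set G) ≤ Subgroup.centralizer ({x} : Set G) :=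
  Subgroup.centralizer_le (by simpa using hx)

theorem mem_normalizer_inf {g : G} {H K : Subgroup G} (hH : g ∈ Subgroup.normalizer (H : Set G))
    (hK : g ∈ Subgroup.normalizer (K : Set G)) : g ∈ Subgroup.normalizer ((H ⊓ K : Subgroup G) : Set G) := by
  rw [Subgroup.mem_normalizer_iff]
  intro h
  rw [Subgroup.mem_inf, Subgroup.mem_inf, ← Subgroup.mem_normalizer_iff.mp hH h,
    ← Subgroup.mem_normalizer_iff.mp hK h]

theorem result {G : Type*} [Group G] [Finite G] {p : ℕ} [Fact p.Prime] (Q : Subgroup G) (hQp : IsPGroup p ↥Q) (hlarge : Cfsg.IsLarge Q) (G₁ : Subgroup G) (hQG : Q ≤ G₁) (R : Subgroup G) (hR : (Nat.card ↥R).Coprime p) (hGR : G₁ ≤ Subgroup.normalizer (R : Set G)) (U : Subgroup G) (hUG : U ≤ G₁) (hUp : IsPGroup p ↥U) : ((∃ x ∈ U, x ≠ 1 ∧ ∃ g ∈ G₁, g * x * g⁻¹ ∈ Q ⊓ Subgroup.centralizer (Q : Set G)) → R ⊓ Subgroup.centralizer (U : Set G) = ⊥) ∧ (Cfsg.IsElementaryAbelian p U → p ^ 2 ≤ Nat.card ↥U → (∀ U₀ : Subgroup G, U₀ ≤ U → IsCoatom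 (U₀.subgroupOf U) → ∃ x ∈ U₀, x ≠ 1 ∧ ∃ g ∈ G₁, g * x * g⁻¹ ∈ Q ⊓ Subgroup.centralizer (Q : Set G)) → R = ⊥) := by
  classical
  have hp : p.Prime := Fact.out
  refine ⟨?_, ?_⟩
  · rintro ⟨x, hxU, hx1, g, hg, hz⟩
    have h0 := key_conj hQp hlarge hQG hR hGR hx1 hg hz
    rw [eq_bot_iff, ← h0]
    exact inf_le_inf_left R (centralizer_le_singleton hxU)
  · intro hUe hUcard hyp
    by_contra hRne
    -- the family
    let 𝒲 : Set (Subgroup G) := {W | W ≤ U ∧ R ⊓ Subgroup.centralizer (W : Set G) ≠ ⊥}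
    have hbot : (⊥ : Subgroup G) ∈ 𝒲 := by
      refine ⟨bot_le, ?_⟩
      have : Subgroup.centralizer (((⊥ : Subgroup G) : Subgroup G) : Set G) = ⊤ := by
        rw [eq_top_iff]
        intro x _
        rw [Subgroup.mem_centralizer_iff]
        intro y hy
        have : y = 1 := by simpa using hy
        subst this; simp
      rw [this, inf_top_eq]
      exact hRne
    obtain ⟨W, hW, hWmax⟩ := Set.exists_max_image 𝒲 (fun W => Nat.card W) (Set.toFinite 𝒲) ⟨⊥, hbot⟩
    -- no element of W is conjugate into Z(Q)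
    have hnoW : ¬ ∃ x ∈ W, x ≠ 1 ∧ ∃ g ∈ G₁, g * x * g⁻¹ ∈ Q ⊓ Subgroup.centralizer (Q : Set G) := by
      rintro ⟨x, hxW, hx1, g, hg, hz⟩
      apply hW.2
      have h0 := key_conj hQp hlarge hQG hR hGR hx1 hg hz
      rw [eq_bot_iff, ← h0]
      exact inf_le_inf_left R (centralizer_le_singleton hxW)
    have hUcomm : ∀ x ∈ U, ∀ y ∈ U, x * y = y * x := by
      intro x hx y hy
      have := hUe.1.is_comm.comm ⟨x, hx⟩ ⟨y, hy⟩
      exact congrArg Subtype.val this
    -- W is neither U nor a coatom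
    have hWU : W ≠ U := by
      intro hWU
      have hnt : (⊥ : Subgroup ↥U) ≠ ⊤ := by
        intro h
        have h1 : Nat.card (⊤ : Subgroup ↥U) = 1 := by rw [← h]; simp
        rw [Subgroup.card_top] at h1
        have : p ^ 2 ≤ 1 := h1 ▸ hUcard
        have := hp.one_lt
        nlinarith
      rcases eq_top_or_exists_le_coatom (⊥ : Subgroup ↥U) with h | ⟨C, hC, -⟩
      · exact hnt h
      · have hCU : C.map U.subtype ≤ U := by
          rintro _ ⟨y, _, rfl⟩; exact y.2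
        have hCeq : (C.map U.subtype).subgroupOf U = C := by
          ext y
          simp [Subgroup.mem_subgroupOf]
        obtain ⟨x, hx, hx1, g, hg, hz⟩ := hyp (C.map U.subtype) hCU (by rw [hCeq]; exact hC)
        exact hnoW ⟨x, by rw [hWU]; exact hCU hx, hx1, g, hg, hz⟩
    have hWco : ¬ IsCoatom (W.subgroupOf U) := by
      intro hco
      exact hnoW (hyp W hW.1 hco)
    have hWne : W.subgroupOf U ≠ ⊤ := by
      intro h
      rw [Subgroup.subgroupOf_eq_top] at h
      exact hWU (le_antisymm hW.1 h)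
    obtain ⟨X, hX1, hX2⟩ : ∃ X : Subgroup ↥U, W.subgroupOf U < X ∧ X ≠ ⊤ := by
      by_contra hcon
      push Not at hcon
      exact hWco ⟨hWne, fun b hb => hcon b hb⟩
    -- pick a, b
    obtain ⟨a', haX, haW⟩ := SetLike.exists_of_lt hX1
    obtain ⟨b', hbX⟩ : ∃ b' : ↥U, b' ∉ X := by
      by_contra hcon
      push Not at hcon
      apply hX2
      rw [eq_top_iff]
      intro y _
      exact hcon y
    obtain ⟨a, haU⟩ := a'
    obtain ⟨b, hbU⟩ := b'
    have haW' : a ∉ W := by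
      intro h
      apply haW
      rw [Subgroup.mem_subgroupOf]
      exact h
    let W₁ : Subgroup G := X.map U.subtype
    have hW₁U : W₁ ≤ U := by
      rintro _ ⟨y, _, rfl⟩; exact y.2
    have hWW₁ : W ≤ W₁ := by
      intro w hw
      refine ⟨⟨w, hW.1 hw⟩, hX1.le (by rw [Subgroup.mem_subgroupOf]; exact hw), rfl⟩
    have haW₁ : a ∈ W₁ := ⟨⟨a, haU⟩, haX, rfl⟩
    have hbW₁ : b ∉ W₁ := by
      rintro ⟨y, hy, hyb⟩
      apply hbX
      have : y = ⟨b, hbU⟩ := Subtype.ext hyb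
      rw [← this]; exact hy
    have hap : a ^ p = 1 := hUe.2 a haU
    have hbp : b ^ p = 1 := hUe.2 b hbU
    have ha1 : a ≠ 1 := fun h => haW' (h ▸ W.one_mem)
    have hb1 : b ≠ 1 := fun h => hbW₁ (h ▸ W₁.one_mem)
    have hao : orderOf a = p := orderOf_eq_prime hap ha1
    have hbo : orderOf b = p := orderOf_eq_prime hbp hb1
    have hab : a * b = b * a := hUcomm a haU b hbU
    have hba : b ∉ Subgroup.zpowers a := fun h => hbW₁ ((Subgroup.zpowers_le.mpr haW₁) h)
    set E := Subgroup.zpowers a ⊔ Subgroup.zpowers b with hE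
    have hEU : E ≤ U := sup_le (Subgroup.zpowers_le.mpr haU) (Subgroup.zpowers_le.mpr hbU)
    have hEc : IsMulCommutative ↥E := isMulCommutative_sup_zpowers hab
    have hEnc : ¬ IsCyclic ↥E := not_isCyclic_sup_zpowers hao hbp hab hba
    set R₁ := R ⊓ Subgroup.centralizer (W : Set G) with hR₁
    have hER₁ : E ≤ Subgroup.normalizer (R₁ : Set G) := by
      intro e he
      apply mem_normalizer_inf (hGR (hUG (hEU he)))
      apply Subgroup.le_normalizer
      rw [Subgroup.mem_centralizer_iff]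
      intro w hw
      exact hUcomm w (hW.1 hw) e (hEU he)
    have hcop : (Nat.card ↥E).Coprime (Nat.card ↥R₁) := by
      have hEp : IsPGroup p ↥E := hUp.to_le hEU
      obtain ⟨n, hn⟩ := IsPGroup.iff_card.mp hEp
      rw [hn]
      apply Nat.Coprime.pow_left
      exact (Nat.Coprime.coprime_dvd_left (Subgroup.card_dvd_of_le inf_le_left) hR).symm
    have hgen := Cfsg.Agent.S0058.result E R₁ hEnc hER₁ hcop
    apply hW.2
    rw [← hR₁, ← hgen, eq_bot_iff]
    apply iSup₂_le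
    rintro e ⟨heE, he1⟩
    -- e ∉ W
    have heW : e ∉ W := by
      intro heW
      apply he1
      obtain ⟨i, j, rfl⟩ := exists_zpow_mul_zpow_of_mem_sup hab e heE
      have h1 : b ^ j ∈ W₁ ⊓ Subgroup.zpowers b := by
        refine ⟨?_, Subgroup.zpow_mem _ (Subgroup.mem_zpowers b) j⟩
        have : b ^ j = (a ^ i)⁻¹ * (a ^ i * b ^ j) := by group
        rw [this]
        exact W₁.mul_mem (W₁.inv_mem (W₁.zpow_mem haW₁ i)) (hWW₁ heW)
      rw [inf_zpowers_eq_bot hbo hbW₁, Subgroup.mem_bot] at h1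
      rw [h1, mul_one] at heW ⊢
      have h2 : a ^ i ∈ W ⊓ Subgroup.zpowers a := ⟨heW, Subgroup.zpow_mem _ (Subgroup.mem_zpowers a) i⟩
      rw [inf_zpowers_eq_bot hao haW', Subgroup.mem_bot] at h2
      exact h2
    -- W ⊔ zpowers e is bigger, so not in the family
    have hW' : W ⊔ Subgroup.zpowers e ∉ 𝒲 := by
      intro hmem
      have h1 := hWmax _ hmem
      have h2 : W = W ⊔ Subgroup.zpowers e := Subgroup.eq_of_le_of_card_ge le_sup_left h1
      apply heW
      rw [h2]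
      exact Subgroup.mem_sup_right (Subgroup.mem_zpowers e)
    have h3 : R ⊓ Subgroup.centralizer ((W ⊔ Subgroup.zpowers e : Subgroup G) : Set G) = ⊥ := by
      by_contra hne
      exact hW' ⟨sup_le hW.1 (Subgroup.zpowers_le.mpr (hEU heE)), hne⟩
    rw [← h3, centralizer_sup_h18, hR₁, inf_assoc]
    apply inf_le_inf_left
    apply inf_le_inf_left
    intro y hy
    rw [Subgroup.mem_centralizer_iff] at hy ⊢
    intro w hw
    obtain ⟨k, rfl⟩ := Subgroup.mem_zpowers_iff.mp hw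
    have hc : Commute e y := hy e (Set.mem_singleton e)
    exact (hc.zpow_left k).eq

end Cfsg.Agent.S3003
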