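import Cfsg.Statements.S3004
import Cfsg.Agent.Lib.Helper18.ChermakDelgado2

set_option autoImplicit false
open scoped Pointwise
open Cfsg

namespace Cfsg.Agent.S3004

open Cfsg.Agent.Lib.Helper18

theorem result {p : ℕ} [Fact p.Prime] (P : Type*) [Group P] [Finite P] (hP : IsPGroup p P) (Q R : Subgroup P) (hQ : Cfsg.IsCentralizerLarge Q) (hR : Cfsg.IsCentralizerLarge R) : ((Q ⊔ R : Subgroup P) : Set P) = (Q : Set P) * (R : Set P) ∧ Cfsg.IsCentralizerLarge (Q ⊔ R) ∧ Cfsg.IsCentralizerLarge (Q ⊓ R) ∧ Cfsg.IsCentralizerLarge (Subgroup.centralizer (Q : Set P)) ∧ Q = Subgroup.centralizer ((Subgroup.centralizer (Q : Set P) : Subgroup P) : Set P) ∧ ((Subgroup.centralizer (Q : Set P) ⊔ Subgroup.centralizer (R : Set P) : Subgroup P) : Set P) = (Subgroup.centralizer (Q : Set P) : Set P) * (Subgroup.centralizer (R : Set P) : Set P) ∧ Subgroup.centralizer ((Q ⊓ R : Subgroup P) : Set P) = Subgroup.centralizer (Q : Set P) ⊔ Subgroup.centralizer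 (R : Set P) := by
  have hM : ∀ H : Subgroup P, cdm H ≤ Cfsg.maxCentralizerProduct P := cdm_le_max
  have hQ' : cdm Q = Cfsg.maxCentralizerProduct P := hQ
  have hR' : cdm R = Cfsg.maxCentralizerProduct P := hR
  obtain ⟨e1, e2, e3, e4⟩ := cd_core _ hM Q R hQ' hR'
  obtain ⟨hCQ, hQCC⟩ := cd_centralizer hQ
  obtain ⟨hCR, _⟩ := cd_centralizer hR
  have hCQ' : cdm (Subgroup.centralizer (Q : Set P)) = Cfsg.maxCentralizerProduct P := hCQ
  have hCR' : cdm (Subgroup.centralizer (R : Set P)) = Cfsg.maxCentralizerProduct P := hCR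
  obtain ⟨f1, _, _, _⟩ := cd_core _ hM _ _ hCQ' hCR'
  refine ⟨e1, e2, e3, hCQ, hQCC, f1, ?_⟩
  symm
  apply Subgroup.eq_of_le_of_card_ge (centralizer_sup_le_centralizer_inf Q R)
  rw [e4]
  have : Nat.card ↥(Subgroup.centralizer (Q : Set P) ⊔ Subgroup.centralizer (R : Set P)) =
      Nat.card (((Subgroup.centralizer (Q : Set P) ⊔ Subgroup.centralizer (R : Set P) : Subgroup P)) : Set P) := rfl
  rw [this, f1]

end Cfsg.Agent.S3004
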