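import Cfsg.Statements.S3006
import Cfsg.Agent.Lib.Helper18.ChermakDelgado4

set_option autoImplicit false
open scoped Pointwise
open Cfsg

namespace Cfsg.Agent.S3006

open Cfsg.Agent.Lib.Helper18

theorem result {p : ℕ} [Fact p.Prime] (P : Type*) [Group P] [Finite P] (hP : IsPGroup p P) (Q A : Subgroup P) (hQ : Cfsg.IsCentrallyLarge Q) (hA : A ∈ Cfsg.maxAbelianSubgroups P) : ((Q ⊔ A : Subgroup P) : Set P) = (Q : Set P) * (A : Set P) ∧ Cfsg.IsCentrallyLarge (Q ⊔ A) ∧ (Q ⊔ A) ⊓ Subgroup.centralizer ((Q ⊓ A : Subgroup P) : Set P) = (Q ⊓ Subgroup.centralizer (Q : Set P)) ⊔ A ∧ (((Q ⊓ Subgroup.centralizer (Q : Set P)) ⊔ A : Subgroup P) : Set P) = ((Q ⊓ Subgroup.centralizer (Q : Set P)) : Set P) * (A : Set P) ∧ Subgroup.centralizer ((Cfsg.thompsonSubgroupA P ⊓ Subgroup.centralizer (Cfsg.thompsonSubgroupA P : Set P) : Subgroup P) : Set P) ≤ Cfsg.centrallyLargeJoin P := by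
  obtain ⟨e1, e2, hBmax⟩ := cl_sup_maxAbelian hQ hA
  obtain ⟨hQ1, hQ2⟩ := centrallyLarge_centralizerLarge hQ
  have hCA := centralizer_eq_of_mem_maxAbelian hA
  have hCB := centralizer_eq_of_mem_maxAbelian hBmax
  have hAab : A ≤ Subgroup.centralizer (A : Set P) := by rw [hCA]
  have hZQ : Q ≤ Subgroup.centralizer ((zOf Q : Subgroup P) : Set P) := by
    rw [Subgroup.le_centralizer_iff]; exact inf_le_right
  have hkey : ∀ x ∈ (Q ⊔ A) ⊓ Subgroup.centralizer ((Q ⊓ A : Subgroup P) : Set P),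
      x ∈ ((zOf Q : Subgroup P) : Set P) * (A : Set P) := by
    rintro x ⟨hx1, hx2⟩
    have hx1' : x ∈ ((Q ⊔ A : Subgroup P) : Set P) := hx1
    rw [e1] at hx1'
    obtain ⟨q, hq, a, ha, rfl⟩ := hx1'
    have haC : a ∈ Subgroup.centralizer ((Q ⊓ A : Subgroup P) : Set P) :=
      Subgroup.centralizer_le (by exact_mod_cast (inf_le_right : Q ⊓ A ≤ A)) (hAab ha)
    have hqC : q ∈ Subgroup.centralizer ((Q ⊓ A : Subgroup P) : Set P) := by
      have : q = (q * a) * a⁻¹ := by simp
      rw [this]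
      exact Subgroup.mul_mem _ hx2 (Subgroup.inv_mem _ haC)
    have hqB : q ∈ (Q ⊓ A) ⊔ zOf Q := by
      rw [← hCB, centralizer_sup_h18]
      exact ⟨hqC, hZQ hq⟩
    have hnorm : Q ⊓ A ≤ Subgroup.normalizer ((zOf Q : Subgroup P) : Set P) :=
      le_trans inf_le_left (le_trans hZQ (Subgroup.centralizer_le_normalizer _))
    have hqB' : q ∈ (((Q ⊓ A) ⊔ zOf Q : Subgroup P) : Set P) := hqB
    rw [Subgroup.coe_mul_of_left_le_normalizer_right _ _ hnorm] at hqB'
    obtain ⟨c, hc, z, hz, rfl⟩ := hqB'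
    have hcz : c * z = z * c := by
      have := hZQ (hc.1) z hz
      exact this.symm
    refine ⟨z, hz, c * a, A.mul_mem hc.2 ha, ?_⟩
    show z * (c * a) = c * z * a
    rw [hcz, mul_assoc]
  have hge : zOf Q ⊔ A ≤ (Q ⊔ A) ⊓ Subgroup.centralizer ((Q ⊓ A : Subgroup P) : Set P) := by
    apply sup_le
    · refine le_inf (le_trans inf_le_left le_sup_left) ?_
      exact le_trans inf_le_right (Subgroup.centralizer_le (by exact_mod_cast (inf_le_left : Q ⊓ A ≤ Q)))
    · refine le_inf le_sup_right ?_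
      exact le_trans hAab (Subgroup.centralizer_le (by exact_mod_cast (inf_le_right : Q ⊓ A ≤ A)))
  have h3 : (Q ⊔ A) ⊓ Subgroup.centralizer ((Q ⊓ A : Subgroup P) : Set P) = zOf Q ⊔ A := by
    apply le_antisymm _ hge
    intro x hx
    exact mul_subset_sup _ _ (hkey x hx)
  have h4 : ((zOf Q ⊔ A : Subgroup P) : Set P) = ((zOf Q : Subgroup P) : Set P) * (A : Set P) := by
    apply Set.Subset.antisymm
    · intro x hx
      exact hkey x (hge hx)
    · exact mul_subset_sup _ _
  refine ⟨e1, e2, h3, h4, ?_⟩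
  · have hCL : Cfsg.IsCentrallyLarge (Cfsg.centrallyLargeJoin P) := by
      unfold Cfsg.centrallyLargeJoin
      exact centrallyLarge_sSup _ exists_isCentrallyLarge (fun R hR => hR)
    obtain ⟨hCL1, hCL2⟩ := centrallyLarge_centralizerLarge hCL
    have hAle : ∀ A' ∈ Cfsg.maxAbelianSubgroups P, A' ≤ Cfsg.centrallyLargeJoin P := by
      intro A' hA'
      have h := (cl_sup_maxAbelian hCL hA').2.1
      have : Cfsg.centrallyLargeJoin P ⊔ A' ≤ Cfsg.centrallyLargeJoin P := le_sSup h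
      exact le_trans le_sup_right this
    have hJle : Cfsg.thompsonSubgroupA P ≤ Cfsg.centrallyLargeJoin P := sSup_le hAle
    have hCJ : Subgroup.centralizer (Cfsg.thompsonSubgroupA P : Set P) ≤ Cfsg.thompsonSubgroupA P := by
      obtain ⟨A', hA'⟩ := exists_mem_maxAbelian (G := P)
      have hA'J : A' ≤ Cfsg.thompsonSubgroupA P := le_sSup hA'
      calc Subgroup.centralizer (Cfsg.thompsonSubgroupA P : Set P)
          ≤ Subgroup.centralizer (A' : Set P) := Subgroup.centralizer_le (by exact_mod_cast hA'J)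
        _ = A' := centralizer_eq_of_mem_maxAbelian hA'
        _ ≤ Cfsg.thompsonSubgroupA P := hA'J
    have h5 : Subgroup.centralizer (Cfsg.centrallyLargeJoin P : Set P) ≤
        Cfsg.thompsonSubgroupA P ⊓ Subgroup.centralizer (Cfsg.thompsonSubgroupA P : Set P) := by
      have : Subgroup.centralizer (Cfsg.centrallyLargeJoin P : Set P) ≤
          Subgroup.centralizer (Cfsg.thompsonSubgroupA P : Set P) :=
        Subgroup.centralizer_le (by exact_mod_cast hJle)
      exact le_inf (le_trans this hCJ) this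
    calc Subgroup.centralizer ((Cfsg.thompsonSubgroupA P ⊓ Subgroup.centralizer (Cfsg.thompsonSubgroupA P : Set P) : Subgroup P) : Set P)
        ≤ Subgroup.centralizer ((Subgroup.centralizer (Cfsg.centrallyLargeJoin P : Set P) : Subgroup P) : Set P) :=
          Subgroup.centralizer_le (by exact_mod_cast h5)
      _ = Cfsg.centrallyLargeJoin P := (cd_centralizer hCL1).2.symm

end Cfsg.Agent.S3006
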