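import Cfsg.Statements.S3009

import Cfsg.Agent.Lib.helper15.QS6
set_option autoImplicit false
open Cfsg

namespace Cfsg.Agent.S3009


open Matrix Cfsg.Agent.Lib.helper15.NatMod Cfsg.Agent.Lib.helper15.QS

/-- Let p be a prime and let G and V be subgroups of a finite group with V elementary abelian and normalized by G, and G isomorphic to SL₂(F) for a finite field F with pⁿ elements. Suppose G acts irreducibly and nontrivially on V by conjugation (no G-invariant subgroups of V other than 1 and V, and [V, G] ≠ 1), and let S be a Sylow p-subgroup of G and V₀ = C_V(S). If [V, S, S] = 1 or |V| ≤ |V₀|², then G acts on V as SL₂(F) on its natural two-dimensional module; in particular |V| = |F|². -/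
theorem result {X : Type*} [Group X] [Finite X] {p : ℕ} [Fact p.Prime] (G V : Subgroup X) (hV : Cfsg.IsElementaryAbelian p V) (hGV : G ≤ Subgroup.normalizer (V : Set X)) (F : Type) [Field F] [Fintype F] (n : ℕ) (hF : Fintype.card F = p ^ n) (hG : Nonempty (↥G ≃* Matrix.SpecialLinearGroup (Fin 2) F)) (hirr : ∀ U : Subgroup X, U ≤ V → G ≤ Subgroup.normalizer (U : Set X) → U = ⊥ ∨ U = V) (hnt : ⁅V, G⁆ ≠ ⊥) (S : Sylow p ↥G) (hyp : ⁅⁅V, (S : Subgroup ↥G).map G.subtype⁆, (S : Subgroup ↥G).map G.subtype⁆ = ⊥ ∨ Nat.card ↥V ≤ Nat.card ↥(V ⊓ Subgroup.centralizer (((S : Subgroup ↥G).map G.subtype : Subgroup X) : Set X)) ^ 2) : Cfsg.ActsAsSL2OnSection F ⊤ G V ⊥ := by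
  obtain ⟨e₀⟩ := hG
  have : IsMulCommutative ↥V := hV.1
  have hsurj : Function.Surjective e₀.toMonoidHom := e₀.surjective
  obtain ⟨g₀, hg₀⟩ := exists_conj_Uu hF (S.mapSurjective hsurj)
  let e : ↥G ≃* SpecialLinearGroup (Fin 2) F := e₀.trans (MulAut.conj g₀⁻¹)
  have he : ∀ x : ↥G, e x = g₀⁻¹ * e₀ x * g₀ := by
    intro x
    show (MulAut.conj g₀⁻¹) (e₀ x) = _
    rw [MulAut.conj_apply, inv_inv]
  have hS : ∀ x : ↥G, x ∈ S ↔ e x ∈ (Uu : Subgroup (SpecialLinearGroup (Fin 2) F)) := by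
    intro x
    rw [he, ← hg₀]
    have h1 : e₀ x ∈ S.mapSurjective hsurj ↔ e₀ x ∈ (S : Subgroup ↥G).map e₀.toMonoidHom := by
      rw [← Sylow.coe_mapSurjective hsurj S]; rfl
    rw [h1, Subgroup.mem_map]
    constructor
    · intro h; exact ⟨x, h, rfl⟩
    · rintro ⟨x', hx', h⟩
      have : x' = x := e₀.injective h
      rwa [← this]
  have hSu : ∀ t : F, ((e.symm (uu t) : ↥G) : X) ∈ (S : Subgroup ↥G).map G.subtype := by
    intro t
    refine ⟨e.symm (uu t), ?_, rfl⟩
    show e.symm (uu t) ∈ S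
    rw [hS, e.apply_symm_apply]
    exact uu_mem t
  have hnt' : ∃ (g : ↥G) (v : ↥V), (g : X) * (v : X) * (g : X)⁻¹ ≠ (v : X) := by
    by_contra hcon
    apply hnt
    rw [Subgroup.commutator_eq_bot_iff_le_centralizer]
    intro v hv
    rw [Subgroup.mem_centralizer_iff]
    intro g hg
    by_contra hne
    apply hcon
    refine ⟨⟨g, hg⟩, ⟨v, hv⟩, fun h => hne ?_⟩
    show g * v = v * g
    have h' : g * v * g⁻¹ = v := h
    calc g * v = (g * v * g⁻¹) * g := by group
      _ = v * g := by rw [h']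
  have hyp' : (∀ (s t : F) (v : ↥V),
        ((e.symm (uu s) : ↥G) : X) * (((e.symm (uu t) : ↥G) : X) * (v : X) *
            ((e.symm (uu t) : ↥G) : X)⁻¹ * (v : X)⁻¹) * ((e.symm (uu s) : ↥G) : X)⁻¹
          = ((e.symm (uu t) : ↥G) : X) * (v : X) * ((e.symm (uu t) : ↥G) : X)⁻¹ * (v : X)⁻¹) ∨
      Nat.card ↥V ≤ Nat.card {v : ↥V // ∀ t : F, ((e.symm (uu t) : ↥G) : X) * (v : X) *
        ((e.symm (uu t) : ↥G) : X)⁻¹ = (v : X)} ^ 2 := by
    rcases hyp with h | h
    · left
      rw [Subgroup.commutator_eq_bot_iff_le_centralizer] at h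
      intro s t v
      have hc : ((e.symm (uu t) : ↥G) : X) * (v : X) * ((e.symm (uu t) : ↥G) : X)⁻¹ * (v : X)⁻¹ ∈
          ⁅V, (S : Subgroup ↥G).map G.subtype⁆ := by
        rw [Subgroup.commutator_comm]
        exact Subgroup.commutator_mem_commutator (hSu t) v.2
      have h1 := (Subgroup.mem_centralizer_iff.mp (h hc)) _ (hSu s)
      rw [h1, mul_inv_cancel_right]
    · right
      refine le_trans h (Nat.pow_le_pow_left ?_ 2)
      refine Nat.card_le_card_of_injective
        (fun x : ↥(V ⊓ Subgroup.centralizer (((S : Subgroup ↥G).map G.subtype : Subgroup X) : Set X)) =>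
          (⟨⟨x.1, x.2.1⟩, fun t => by
            have h1 := (Subgroup.mem_centralizer_iff.mp x.2.2) _ (hSu t)
            show ((e.symm (uu t) : ↥G) : X) * (x : X) * ((e.symm (uu t) : ↥G) : X)⁻¹ = (x : X)
            rw [h1, mul_inv_cancel_right]⟩ :
            {v : ↥V // ∀ t : F, ((e.symm (uu t) : ↥G) : X) * (v : X) *
              ((e.symm (uu t) : ↥G) : X)⁻¹ = (v : X)})) ?_
      intro x y hxy
      have h1 := congrArg (fun z : {v : ↥V // ∀ t : F, ((e.symm (uu t) : ↥G) : X) * (v : X) *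
              ((e.symm (uu t) : ↥G) : X)⁻¹ = (v : X)} => ((z : ↥V) : X)) hxy
      exact Subtype.ext h1
  obtain ⟨ψ, hψ⟩ := transfer hV.2 hGV hF e hirr hnt' hyp'
  let ψ' : ↥V →* Multiplicative (Fin 2 → F) :=
    { toFun := fun v => Multiplicative.ofAdd (ψ (Additive.ofMul v))
      map_one' := by
        show Multiplicative.ofAdd (ψ (Additive.ofMul (1 : ↥V))) = 1
        rw [ofMul_one, map_zero, ofAdd_zero]
      map_mul' := by
        intro a b
        show Multiplicative.ofAdd (ψ (Additive.ofMul (a * b))) =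
          Multiplicative.ofAdd (ψ (Additive.ofMul a)) * Multiplicative.ofAdd (ψ (Additive.ofMul b))
        rw [ofMul_mul, map_add, ofAdd_add] }
  refine ⟨hGV, bot_le, e.toMonoidHom, ψ', ?_, ?_, ?_, ?_⟩
  · exact MonoidHom.range_eq_top.mpr e.surjective
  · intro w
    obtain ⟨a, ha⟩ := ψ.surjective (Multiplicative.toAdd w)
    refine ⟨Additive.toMul a, ?_⟩
    show Multiplicative.ofAdd (ψ (Additive.ofMul (Additive.toMul a))) = w
    rw [ofMul_toMul, ha, ofAdd_toAdd]
  · intro u
    rw [Subgroup.mem_bot]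
    constructor
    · intro h
      have h1 : Multiplicative.ofAdd (ψ (Additive.ofMul u)) = 1 := h
      have h2 : ψ (Additive.ofMul u) = 0 := by
        have := congrArg Multiplicative.toAdd h1
        rwa [toAdd_ofAdd, toAdd_one] at this
      have h3 : Additive.ofMul u = 0 := by
        rw [← map_zero ψ] at h2
        exact ψ.injective h2
      have h4 : u = 1 := by
        have := congrArg Additive.toMul h3
        rwa [toMul_ofMul, toMul_zero] at this
      rw [h4, Subgroup.coe_one]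
    · intro h
      have h4 : u = 1 := Subtype.ext h
      show Multiplicative.ofAdd (ψ (Additive.ofMul u)) = 1
      rw [h4, ofMul_one, map_zero, ofAdd_zero]
  · intro g u
    refine ⟨⟨(g : X) * (u : X) * (g : X)⁻¹, conj_mem_V hGV g u⟩, rfl, ?_⟩
    show ψ (Additive.ofMul _) = _
    rw [hψ]
    rfl

end Cfsg.Agent.S3009
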