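import Cfsg.Statements.S3014
import Cfsg.Agent.Lib.Helper9.Transfer

set_option autoImplicit false
open Cfsg

namespace Cfsg.Agent.S3014

universe u

/-- consequences of `H.subgroupOf M` being a coatom -/
theorem eq_of_coatom {G : Type*} [Group G] {H M : Subgroup G}
    (hco : IsCoatom (H.subgroupOf M)) {X : Subgroup G} (hHX : H ≤ X) (hXM : X ≤ M)
    (hne : ¬ X ≤ H) : X = M := by
  apply le_antisymm hXM
  have hlt : H.subgroupOf M < X.subgroupOf M := by
    refine lt_of_le_of_ne (fun x hx => hHX hx) ?_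
    intro h
    apply hne
    intro x hx
    have : (⟨x, hXM hx⟩ : M) ∈ X.subgroupOf M := hx
    rw [← h] at this
    exact this
  have := hco.2 _ hlt
  intro m hm
  have h1 : (⟨m, hm⟩ : M) ∈ X.subgroupOf M := by rw [this]; trivial
  exact h1

/-- Lemma T: transfer into `M/H` when `M` meets its other conjugates inside `H`. -/
theorem exists_hom_ker_inf {G : Type u} [Group G] [Finite G] (H M : Subgroup G)
    (hHn : (H.subgroupOf M).Normal) (hco : IsCoatom (H.subgroupOf M))
    (hTI : ∀ g : G, g ∉ M → M ⊓ M.map (MulAut.conj g).toMonoidHom ≤ H) :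
    ∃ (A : Type u) (_ : CommGroup A) (f : G →* A), ∀ m ∈ M, f m = 1 ↔ m ∈ H := by
  classical
  have := hHn
  set H' := H.subgroupOf M with hH'
  -- a generator
  obtain ⟨x₀, hx₀⟩ : ∃ x₀ : M, x₀ ∉ H' := by
    by_contra hcon
    push Not at hcon
    exact hco.1 (eq_top_iff.mpr (fun x _ => hcon x))
  have hgen : H' ⊔ Subgroup.zpowers x₀ = ⊤ := by
    apply hco.2
    refine lt_of_le_of_ne le_sup_left ?_
    intro h
    apply hx₀
    rw [h]
    exact le_sup_right (a := H') (Subgroup.mem_zpowers x₀)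
  let ϕ : M →* (M ⧸ H') := QuotientGroup.mk' H'
  have hϕ1 : ∀ x : M, ϕ x = 1 ↔ (x : G) ∈ H := by
    intro x
    exact (QuotientGroup.eq_one_iff x).trans Subgroup.mem_subgroupOf
  have hcyc : IsCyclic (M ⧸ H') := by
    refine ⟨⟨ϕ x₀, ?_⟩⟩
    intro y
    obtain ⟨m, rfl⟩ := QuotientGroup.mk'_surjective H' y
    have hm : m ∈ H' ⊔ Subgroup.zpowers x₀ := by rw [hgen]; trivial
    obtain ⟨h, hh, z, hz, rfl⟩ := Subgroup.mem_sup_of_normal_left.mp hm
    obtain ⟨k, rfl⟩ := Subgroup.mem_zpowers_iff.mp hz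
    refine ⟨k, ?_⟩
    change ϕ x₀ ^ k = ϕ (h * x₀ ^ k)
    rw [map_mul, (hϕ1 h).mpr (Subgroup.mem_subgroupOf.mp hh), one_mul, map_zpow]
  let inst : CommGroup (M ⧸ H') := IsCyclic.commGroup
  -- simplicity of the quotient
  have hsimple : IsSimpleGroup (M ⧸ H') := by
    have : Nontrivial (M ⧸ H') := by
      refine ⟨⟨ϕ x₀, 1, ?_⟩⟩
      intro h
      exact hx₀ (Subgroup.mem_subgroupOf.mpr ((hϕ1 x₀).mp h))
    refine ⟨fun L _ => ?_⟩
    have hle : H' ≤ L.comap ϕ := by
      intro x hx
      change ϕ x ∈ L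
      rw [(hϕ1 x).mpr (Subgroup.mem_subgroupOf.mp hx)]
      exact L.one_mem
    rcases eq_or_lt_of_le hle with h | h
    · left
      rw [eq_bot_iff]
      intro y hy
      obtain ⟨m, rfl⟩ := QuotientGroup.mk'_surjective H' y
      have : m ∈ L.comap ϕ := hy
      rw [← h] at this
      rw [Subgroup.mem_bot]
      exact (hϕ1 m).mpr (Subgroup.mem_subgroupOf.mp this)
    · right
      have := hco.2 _ h
      rw [eq_top_iff]
      intro y _
      obtain ⟨m, rfl⟩ := QuotientGroup.mk'_surjective H' y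
      have hm : m ∈ L.comap ϕ := by rw [this]; trivial
      exact hm
  have hq : (Nat.card (M ⧸ H')).Prime := IsSimpleGroup.prime_card
  set q := Nat.card (M ⧸ H') with hqdef
  have : Fact q.Prime := ⟨hq⟩
  have hidx : H'.index = q := Subgroup.index_eq_card H'
  -- a Sylow q-subgroup of M not inside H
  obtain ⟨PM⟩ : Nonempty (Sylow q M) := inferInstance
  obtain ⟨z, hzP, hzH⟩ : ∃ z : M, z ∈ (PM : Subgroup M) ∧ z ∉ H' := by
    by_contra hcon
    push Not at hcon
    have hle : (PM : Subgroup M) ≤ H' := fun z hz => hcon z hz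
    have := Subgroup.index_dvd_of_le hle
    rw [hidx] at this
    exact PM.not_dvd_index this
  -- the index of M is prime to q
  have hcop : ¬ q ∣ M.index := by
    let P : Subgroup G := (PM : Subgroup M).map M.subtype
    have hP : IsPGroup q P := PM.2.map M.subtype
    have hmod := hP.card_modEq_card_fixedPoints (G ⧸ M)
    have hfix : MulAction.fixedPoints P (G ⧸ M) = {((1 : G) : G ⧸ M)} := by
      ext a
      constructor
      · intro ha
        obtain ⟨g, rfl⟩ := QuotientGroup.mk_surjective a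
        rw [Set.mem_singleton_iff]
        by_contra hne
        have hgM : g ∉ M := by
          intro hg
          apply hne
          rw [QuotientGroup.eq]
          simpa using hg
        apply hzH
        rw [Subgroup.mem_subgroupOf]
        apply hTI g hgM
        refine ⟨z.2, ?_⟩
        have hzP' : (z : G) ∈ P := ⟨z, hzP, rfl⟩
        have h1 := ha ⟨(z : G), hzP'⟩
        change (((z : G) * g : G) : G ⧸ M) = (g : G ⧸ M) at h1
        rw [QuotientGroup.eq] at h1
        refine ⟨g⁻¹ * (z : G) * g, ?_, ?_⟩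
        · have := M.inv_mem h1
          simpa [mul_assoc] using this
        · simp [MulAut.conj_apply, mul_assoc]
      · intro ha
        rw [Set.mem_singleton_iff] at ha
        subst ha
        rintro ⟨p, m, hm, rfl⟩
        change ((((M.subtype m) * 1 : G)) : G ⧸ M) = ((1 : G) : G ⧸ M)
        rw [QuotientGroup.eq]
        simp
    have hc1 : Nat.card (MulAction.fixedPoints P (G ⧸ M)) = 1 := by
      rw [hfix]; simp
    rw [hc1, ← Subgroup.index_eq_card] at hmod
    intro hdvd
    have h0 : M.index ≡ 0 [MOD q] := (Nat.modEq_zero_iff_dvd).mpr hdvd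
    have h01 : 0 ≡ 1 [MOD q] := h0.symm.trans hmod
    have := (Nat.modEq_iff_dvd' (by norm_num : 0 ≤ 1)).mp h01
    simp at this
    exact hq.one_lt.ne' this
  -- the transfer
  refine ⟨M ⧸ H', inst, MonoidHom.transfer ϕ, ?_⟩
  intro m hm
  have key : ∀ (k : ℕ) (g₀ : G) (h : g₀⁻¹ * m ^ k * g₀ ∈ M),
      ϕ ⟨g₀⁻¹ * m ^ k * g₀, h⟩ = ϕ ⟨m, hm⟩ ^ k := by
    intro k g₀ h
    by_cases hg₀ : g₀ ∈ M
    · have e : (⟨g₀⁻¹ * m ^ k * g₀, h⟩ : M) = (⟨g₀, hg₀⟩ : M)⁻¹ * ⟨m, hm⟩ ^ k * ⟨g₀, hg₀⟩ := by
        apply Subtype.ext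
        simp
      rw [e, map_mul, map_mul, map_inv, map_pow, mul_comm, mul_inv_cancel_left]
    · have h1 : g₀⁻¹ * m ^ k * g₀ ∈ H := by
        have hg₀' : g₀⁻¹ ∉ M := fun hh => hg₀ (by simpa using M.inv_mem hh)
        apply hTI g₀⁻¹ hg₀'
        refine ⟨h, m ^ k, M.pow_mem hm k, ?_⟩
        simp
      have h2 : m ^ k ∈ H := by
        apply hTI g₀ hg₀
        refine ⟨M.pow_mem hm k, g₀⁻¹ * m ^ k * g₀, h, ?_⟩
        simp [MulAut.conj_apply, mul_assoc]
      rw [(hϕ1 _).mpr h1, ← map_pow]
      symm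
      exact (hϕ1 _).mpr h2
  rw [Cfsg.Agent.Lib.Helper9.transfer_eq_pow_of_ctrl ϕ m hm key]
  constructor
  · intro h
    have h1 : orderOf (ϕ ⟨m, hm⟩) ∣ M.index := orderOf_dvd_of_pow_eq_one h
    have h2 : orderOf (ϕ ⟨m, hm⟩) ∣ q := orderOf_dvd_natCard _
    have hcop' : Nat.Coprime M.index q := (hq.coprime_iff_not_dvd.mpr hcop).symm
    have h3 := Nat.eq_one_of_dvd_coprimes hcop' h1 h2
    rw [orderOf_eq_one_iff] at h3
    exact (hϕ1 _).mp h3
  · intro h
    rw [(hϕ1 ⟨m, hm⟩).mpr h, one_pow]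

theorem le_normalizer_of_conj_mem {G : Type*} [Group G] {H K : Subgroup G}
    (h : ∀ k ∈ K, ∀ x ∈ H, k * x * k⁻¹ ∈ H) : K ≤ Subgroup.normalizer (H : Set G) := by
  intro k hk
  rw [Subgroup.mem_set_normalizer_iff]
  intro x
  refine ⟨h k hk x, fun hx => ?_⟩
  have := h k⁻¹ (K.inv_mem hk) _ hx
  simpa [mul_assoc] using this


/-- Let G be a finite group and H ≤ M ≤ G subgroups such that for every g ∈ G the subgroup generated by H and g H g⁻¹ meets M exactly in H. If H is a maximal subgroup of M and M is a maximal subgroup of G, then the normal closure of H in G meets M exactly in H. -/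
theorem result {G : Type*} [Group G] [Finite G] (H M : Subgroup G) (hHM : H ≤ M) (hcl : ∀ g : G, (H ⊔ H.map (MulAut.conj g).toMonoidHom) ⊓ M = H) (hmaxH : IsCoatom (H.subgroupOf M)) (hmaxM : IsCoatom M) : Subgroup.normalClosure (H : Set G) ⊓ M = H := by
  have hstr : ∀ g : G, H.map (MulAut.conj g).toMonoidHom ⊓ M ≤ H := fun g =>
    (inf_le_inf_right M le_sup_right).trans (hcl g).le
  have hHn' : ∀ m ∈ M, ∀ x ∈ H, m * x * m⁻¹ ∈ H := by
    intro m hm x hx
    apply hstr m
    refine ⟨⟨x, hx, by simp [MulAut.conj_apply]⟩, ?_⟩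
    exact M.mul_mem (M.mul_mem hm (hHM hx)) (M.inv_mem hm)
  have hHn : (H.subgroupOf M).Normal := by
    constructor
    intro n hn g
    rw [Subgroup.mem_subgroupOf] at hn ⊢
    simpa using hHn' g g.2 n hn
  apply le_antisymm
  swap
  · exact le_inf Subgroup.le_normalClosure hHM
  by_cases hc : ∀ g : G, g ∉ M → M ⊓ M.map (MulAut.conj g).toMonoidHom ≤ H
  · obtain ⟨A, _, f, hf⟩ := exists_hom_ker_inf H M hHn hmaxH hc
    have hle : Subgroup.normalClosure (H : Set G) ≤ f.ker := by
      apply Subgroup.normalClosure_le_normal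
      intro h hh
      exact (hf h (hHM hh)).mpr hh
    intro x hx
    exact (hf x hx.2).mp (hle hx.1)
  push Not at hc
  obtain ⟨g, hgM, hnle⟩ := hc
  obtain ⟨y, hyMM, hyH⟩ := SetLike.not_le_iff_exists.mp hnle
  obtain ⟨hyM, hyMg⟩ := hyMM
  by_cases hMg : M.map (MulAut.conj g).toMonoidHom = M
  · -- `M` is normal, hence so is `H`
    have hgn : g ∈ Subgroup.normalizer (M : Set G) := by
      rw [Subgroup.mem_set_normalizer_iff]
      intro x
      constructor
      · intro hx
        rw [← hMg]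
        exact ⟨x, hx, by simp [MulAut.conj_apply]⟩
      · intro hx
        rw [← hMg] at hx
        obtain ⟨m, hm, hmx⟩ := hx
        simp only [MulEquiv.coe_toMonoidHom, MulAut.conj_apply] at hmx
        have : m = x := by
          have := congrArg (fun t => g⁻¹ * t * g) hmx
          simpa [mul_assoc] using this
        rwa [← this]
    have hlt : M < Subgroup.normalizer (M : Set G) :=
      lt_of_le_of_ne Subgroup.le_normalizer (fun h => hgM (h ▸ hgn))
    have hMn : M.Normal := Subgroup.normalizer_eq_top_iff.mp (hmaxM.2 _ hlt)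
    have hHnG : H.Normal := by
      constructor
      intro x hx k
      apply hstr k
      refine ⟨⟨x, hx, by simp [MulAut.conj_apply]⟩, ?_⟩
      exact hMn.conj_mem x (hHM hx) k
    exact inf_le_left.trans (Subgroup.normalClosure_le_normal (N := H) le_rfl)
  · -- `M` and its conjugate generate `G`
    have hMgle : ¬ M.map (MulAut.conj g).toMonoidHom ≤ M := by
      intro hle
      apply hMg
      apply Subgroup.eq_of_le_of_card_ge hle
      rw [Subgroup.card_map_of_injective (MulAut.conj g).injective]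
    have htop : M ⊔ M.map (MulAut.conj g).toMonoidHom = ⊤ := by
      apply hmaxM.2
      refine lt_of_le_of_ne le_sup_left ?_
      intro h
      exact hMgle (le_sup_right.trans h.ge)
    obtain ⟨Hg, hHg⟩ : ∃ Hg : Subgroup G, Hg = H.map (MulAut.conj g).toMonoidHom := ⟨_, rfl⟩
    obtain ⟨D, hD⟩ : ∃ D : Subgroup G, D = H ⊔ Hg := ⟨_, rfl⟩
    have hclg : D ⊓ M = H := by rw [hD, hHg]; exact hcl g
    have hHD : H ≤ D := by rw [hD]; exact le_sup_left
    have hHgD : Hg ≤ D := by rw [hD]; exact le_sup_right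
    have hyHg : y ∉ Hg := fun h => hyH (hstr g ⟨hHg ▸ h, hyM⟩)
    -- M = H ⊔ ⟨y⟩
    have hM1 : H ⊔ Subgroup.zpowers y = M := by
      apply eq_of_coatom hmaxH le_sup_left
        (sup_le hHM (by rw [Subgroup.zpowers_le]; exact hyM))
      intro h
      exact hyH (h (le_sup_right (a := H) (Subgroup.mem_zpowers y)))
    obtain ⟨y', hy'M, hy'y⟩ := hyMg
    simp only [MulEquiv.coe_toMonoidHom, MulAut.conj_apply] at hy'y
    have hy'H : y' ∉ H := by
      intro h
      apply hyHg
      rw [hHg]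
      exact ⟨y', h, by simp [MulAut.conj_apply, hy'y]⟩
    have hM1' : H ⊔ Subgroup.zpowers y' = M := by
      apply eq_of_coatom hmaxH le_sup_left
        (sup_le hHM (by rw [Subgroup.zpowers_le]; exact hy'M))
      intro h
      exact hy'H (h (le_sup_right (a := H) (Subgroup.mem_zpowers y')))
    have hM2 : Hg ⊔ Subgroup.zpowers y = M.map (MulAut.conj g).toMonoidHom := by
      rw [← hM1', Subgroup.map_sup, MonoidHom.map_zpowers, hHg]
      simp only [MulEquiv.coe_toMonoidHom, MulAut.conj_apply, hy'y]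
    -- elements of M ⊓ M^g normalize D
    have hnorm : ∀ k ∈ M ⊓ M.map (MulAut.conj g).toMonoidHom, ∀ x ∈ D, k * x * k⁻¹ ∈ D := by
      rintro k ⟨hkM, m, hm, hmk⟩
      simp only [MulEquiv.coe_toMonoidHom, MulAut.conj_apply] at hmk
      have : H ⊔ Hg ≤ D.comap (MulAut.conj k).toMonoidHom := by
        apply sup_le
        · intro x hx
          show k * x * k⁻¹ ∈ D
          exact hHD (hHn' k hkM x hx)
        · intro x hx
          rw [hHg] at hx
          obtain ⟨h, hh, rfl⟩ := hx
          show k * (MulAut.conj g h) * k⁻¹ ∈ D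
          apply hHgD
          rw [hHg]
          refine ⟨m * h * m⁻¹, hHn' m hm h hh, ?_⟩
          simp only [MulEquiv.coe_toMonoidHom, MulAut.conj_apply, ← hmk]
          group
      intro x hx
      rw [hD] at hx
      exact this hx
    have hzn : Subgroup.zpowers y ≤ Subgroup.normalizer (D : Set G) := by
      apply Cfsg.Agent.S3014.le_normalizer_of_conj_mem
      intro k hk x hx
      have hk' : k ∈ M ⊓ M.map (MulAut.conj g).toMonoidHom := by
        have hle : Subgroup.zpowers y ≤ M ⊓ M.map (MulAut.conj g).toMonoidHom := by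
          rw [Subgroup.zpowers_le]
          exact ⟨hyM, ⟨y', hy'M, by simp [MulAut.conj_apply, hy'y]⟩⟩
        exact hle hk
      exact hnorm k hk' x hx
    have hDn : D.Normal := by
      apply Subgroup.normalizer_eq_top_iff.mp
      have e : (⊤ : Subgroup G) = (H ⊔ Subgroup.zpowers y) ⊔ (Hg ⊔ Subgroup.zpowers y) := by
        rw [hM1, hM2, htop]
      rw [eq_top_iff, e]
      have h1 : H ≤ Subgroup.normalizer (D : Set G) := hHD.trans Subgroup.le_normalizer
      have h2 : Hg ≤ Subgroup.normalizer (D : Set G) := hHgD.trans Subgroup.le_normalizer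
      exact sup_le (sup_le h1 hzn) (sup_le h2 hzn)
    have hle : Subgroup.normalClosure (H : Set G) ≤ D :=
      Subgroup.normalClosure_le_normal (N := D) hHD
    exact (inf_le_inf_right M hle).trans hclg.le

end Cfsg.Agent.S3014
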