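import Cfsg.Statements.S3015
import Cfsg.Agent.S3014
import Cfsg.Agent.Lib.Helper1.Frat

set_option autoImplicit false
open Cfsg

namespace Cfsg.Agent.S3015

universe u

theorem card_mul_relIndex_of_le' {G : Type*} [Group G] {H K : Subgroup G} (h : H ≤ K) :
    Nat.card H * H.relIndex K = Nat.card K := by
  rw [← Subgroup.relIndex_bot_left, ← Subgroup.relIndex_bot_left (H := K)]
  exact Subgroup.relIndex_mul_relIndex ⊥ H K bot_le h

/-- a subgroup of prime index is a coatom -/
theorem isCoatom_of_prime_index {X : Type*} [Group X] [Finite X] (L : Subgroup X)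
    (hL : L.index.Prime) : IsCoatom L := by
  constructor
  · intro h
    rw [h, Subgroup.index_top] at hL
    exact Nat.not_prime_one hL
  · intro L' hlt
    have h1 := Subgroup.relIndex_mul_index hlt.le
    have hdvd : L'.index ∣ L.index := Dvd.intro_left _ h1
    rcases (Nat.dvd_prime hL).mp hdvd with h2 | h2
    · exact Subgroup.index_eq_one.mp h2
    · exfalso
      rw [h2] at h1
      have h3 : L.relIndex L' = 1 := by
        have hpos : 0 < L.index := hL.pos
        nlinarith
      exact (not_le_of_gt hlt) (Subgroup.relIndex_eq_one.mp h3)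

theorem mem_normalizer_of_map_conj_le {G : Type*} [Group G] [Finite G] (K : Subgroup G) (g : G)
    (h : K.map (MulAut.conj g).toMonoidHom ≤ K) : g ∈ Subgroup.normalizer (K : Set G) := by
  have heq : K.map (MulAut.conj g).toMonoidHom = K := by
    apply Subgroup.eq_of_le_of_card_ge h
    rw [Subgroup.card_map_of_injective (MulAut.conj g).injective]
  rw [Subgroup.mem_set_normalizer_iff]
  intro x
  constructor
  · intro hx
    rw [← heq]
    exact ⟨x, hx, by simp [MulAut.conj_apply]⟩
  · intro hx
    rw [← heq] at hx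
    obtain ⟨m, hm, hmx⟩ := hx
    simp only [MulEquiv.coe_toMonoidHom, MulAut.conj_apply] at hmx
    have : m = x := by
      have := congrArg (fun t => g⁻¹ * t * g) hmx
      simpa [mul_assoc] using this
    rwa [← this]


/-- Let G be a finite non-abelian simple group, M a maximal subgroup of G and H a normal subgroup of M of prime index in M. Then G is generated by H together with one of its conjugates. -/
theorem result {G : Type*} [Group G] [Finite G] [IsSimpleGroup G] (hG : ¬ IsMulCommutative G) (M H : Subgroup G) (hmaxM : IsCoatom M) (hHM : H ≤ M) (hHn : (H.subgroupOf M).Normal) (hidx : (H.relIndex M).Prime) : ∃ g : G, H ⊔ H.map (MulAut.conj g).toMonoidHom = ⊤ := by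
  classical
  by_contra hcon
  push Not at hcon
  set q := H.relIndex M with hq
  have : Fact q.Prime := ⟨hidx⟩
  have hco : IsCoatom (H.subgroupOf M) := isCoatom_of_prime_index _ hidx
  have hHneM : H ≠ M := by
    intro h
    have : H.relIndex M = 1 := by rw [h]; exact Subgroup.relIndex_self M
    rw [← hq] at this
    exact hidx.one_lt.ne' this
  -- M is not normal, hence self-normalizing
  have hMnn : ¬ M.Normal := by
    intro hn
    rcases hn.eq_bot_or_eq_top with h | h
    · apply hHneM
      rw [h] at hHM ⊢
      exact le_bot_iff.mp hHM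
    · exact hmaxM.1 h
  have hNM : ∀ g : G, g ∈ Subgroup.normalizer (M : Set G) → g ∈ M := by
    intro g hg
    by_contra hgM
    have hlt : M < Subgroup.normalizer (M : Set G) :=
      lt_of_le_of_ne Subgroup.le_normalizer (fun h => hgM (h ▸ hg))
    exact hMnn (Subgroup.normalizer_eq_top_iff.mp (hmaxM.2 _ hlt))
  have hMconj : ∀ g : G, g ∉ M → M ⊔ M.map (MulAut.conj g).toMonoidHom = ⊤ := by
    intro g hgM
    apply hmaxM.2
    refine lt_of_le_of_ne le_sup_left ?_
    intro h
    apply hgM
    apply hNM
    apply mem_normalizer_of_map_conj_le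
    exact le_sup_right.trans h.ge
  have hHnorm : ∀ m ∈ M, ∀ x ∈ H, m * x * m⁻¹ ∈ H := by
    intro m hm x hx
    have := hHn.conj_mem ⟨x, hHM hx⟩ (Subgroup.mem_subgroupOf.mpr hx) ⟨m, hm⟩
    simpa [Subgroup.mem_subgroupOf] using this
  have hcardconj : ∀ g : G, Nat.card (H.map (MulAut.conj g).toMonoidHom) = Nat.card H := fun g =>
    Subgroup.card_map_of_injective (MulAut.conj g).injective
  -- weak closure
  have hWC : ∀ g : G, H.map (MulAut.conj g).toMonoidHom ≤ M →
      H.map (MulAut.conj g).toMonoidHom = H := by
    intro g hgle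
    by_cases hgM : g ∈ M
    · apply Subgroup.eq_of_le_of_card_ge
      · rintro _ ⟨x, hx, rfl⟩
        exact hHnorm g hgM x hx
      · rw [hcardconj]
    -- the subgroup generated by the q'-elements of M
    obtain ⟨K, hK⟩ : ∃ K : Subgroup G, K = Subgroup.closure {x : G | x ∈ M ∧ (orderOf x).Coprime q} :=
      ⟨_, rfl⟩
    have hgenH : ∀ x : G, x ∈ M → (orderOf x).Coprime q → x ∈ H := by
      intro x hxM hxo
      have := hHn
      have h1 : orderOf ((⟨x, hxM⟩ : M) : M ⧸ H.subgroupOf M) ∣ q := by
        have := orderOf_dvd_natCard ((⟨x, hxM⟩ : M) : M ⧸ H.subgroupOf M)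
        rwa [← Subgroup.index_eq_card] at this
      have h2 : orderOf ((⟨x, hxM⟩ : M) : M ⧸ H.subgroupOf M) ∣ orderOf x := by
        have := orderOf_map_dvd (QuotientGroup.mk' (H.subgroupOf M)) (⟨x, hxM⟩ : M)
        rwa [Subgroup.orderOf_mk] at this
      have h3 := Nat.eq_one_of_dvd_coprimes hxo h2 h1
      rw [orderOf_eq_one_iff, QuotientGroup.eq_one_iff] at h3
      exact h3
    have hKH : K ≤ H := by
      rw [hK, Subgroup.closure_le]
      rintro x ⟨hxM, hxo⟩
      exact hgenH x hxM hxo
    have hKconj : ∀ a : G, (∀ x ∈ H, a * x * a⁻¹ ∈ M) →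
        K.map (MulAut.conj a).toMonoidHom ≤ K := by
      intro a ha
      rw [hK, MonoidHom.map_closure, Subgroup.closure_le]
      rintro _ ⟨x, ⟨hxM, hxo⟩, rfl⟩
      apply Subgroup.subset_closure
      refine ⟨ha x (hgenH x hxM hxo), ?_⟩
      simp only [MulEquiv.coe_toMonoidHom]
      rw [MulEquiv.orderOf_eq]
      exact hxo
    have hKM : M ≤ Subgroup.normalizer (K : Set G) := by
      intro m hm
      apply mem_normalizer_of_map_conj_le
      apply hKconj
      intro x hx
      exact hHM (hHnorm m hm x hx)
    have hKg : g ∈ Subgroup.normalizer (K : Set G) := by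
      apply mem_normalizer_of_map_conj_le
      apply hKconj
      intro x hx
      exact hgle ⟨x, hx, by simp [MulAut.conj_apply]⟩
    have hKn : K.Normal := by
      have hlt : M < Subgroup.normalizer (K : Set G) :=
        lt_of_le_of_ne hKM (fun h => hgM (h ▸ hKg))
      exact Subgroup.normalizer_eq_top_iff.mp (hmaxM.2 _ hlt)
    have hKbot : K = ⊥ := by
      rcases hKn.eq_bot_or_eq_top with h | h
      · exact h
      · exfalso
        apply hmaxM.1
        rw [eq_top_iff, ← h]
        exact hKH.trans hHM
    -- M is a q-group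
    have hMq : IsPGroup q M := by
      intro x
      have hpos : 0 < orderOf (x : G) := orderOf_pos _
      obtain ⟨a, m, hm, hn⟩ :=
        Nat.exists_eq_pow_mul_and_not_dvd hpos.ne' q hidx.ne_one
      refine ⟨a, ?_⟩
      have h1 : orderOf ((x : G) ^ q ^ a) = m := by
        rw [orderOf_pow' (x : G) (pow_ne_zero a hidx.ne_zero), hn,
          Nat.gcd_eq_right (Dvd.intro _ rfl), Nat.mul_div_cancel_left _ (pow_pos hidx.pos a)]
      have h2 : (x : G) ^ q ^ a ∈ K := by
        rw [hK]
        apply Subgroup.subset_closure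
        refine ⟨M.pow_mem x.2 _, ?_⟩
        rw [h1]
        exact (hidx.coprime_iff_not_dvd.mpr hm).symm
      rw [hKbot, Subgroup.mem_bot] at h2
      exact Subtype.ext (by simpa using h2)
    -- H^g is normal in M
    have hidxg : ((H.map (MulAut.conj g).toMonoidHom).subgroupOf M).index = q := by
      have e1 := card_mul_relIndex_of_le' hgle
      have e2 := card_mul_relIndex_of_le' hHM
      rw [hcardconj] at e1
      have hpos : 0 < Nat.card H := Nat.card_pos
      have : (H.map (MulAut.conj g).toMonoidHom).relIndex M = H.relIndex M :=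
        Nat.eq_of_mul_eq_mul_left hpos (e1.trans e2.symm)
      exact this
    have hcog : IsCoatom ((H.map (MulAut.conj g).toMonoidHom).subgroupOf M) :=
      isCoatom_of_prime_index _ (hidxg ▸ hidx)
    have hng : ((H.map (MulAut.conj g).toMonoidHom).subgroupOf M).Normal :=
      Cfsg.Agent.Lib.Helper1.pgroup_coatom_normal hMq hcog
    have hHgn : (H.map (MulAut.conj g).toMonoidHom).Normal := by
      apply Subgroup.normalizer_eq_top_iff.mp
      rw [eq_top_iff, ← hMconj g hgM]
      apply sup_le
      · exact (Subgroup.normal_subgroupOf_iff_le_normalizer hgle).mp hng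
      · apply Cfsg.Agent.S3014.le_normalizer_of_conj_mem
        rintro _ ⟨m, hm, rfl⟩ _ ⟨x, hx, rfl⟩
        refine ⟨m * x * m⁻¹, hHnorm m hm x hx, ?_⟩
        simp only [MulEquiv.coe_toMonoidHom, MulAut.conj_apply]
        group
    rcases hHgn.eq_bot_or_eq_top with h | h
    · have hHbot : H = ⊥ := by
        apply Subgroup.eq_bot_of_card_eq
        rw [← hcardconj g, h, Subgroup.card_bot]
      rw [h, hHbot]
    · exfalso
      apply hmaxM.1
      rw [eq_top_iff, ← h]
      exact hgle
  -- extremely closed
  have hEC : ∀ g : G, (H ⊔ H.map (MulAut.conj g).toMonoidHom) ⊓ M = H := by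
    intro g
    by_contra hne
    have hle : H ≤ (H ⊔ H.map (MulAut.conj g).toMonoidHom) ⊓ M := le_inf le_sup_left hHM
    have hnle : ¬ (H ⊔ H.map (MulAut.conj g).toMonoidHom) ⊓ M ≤ H := fun h =>
      hne (le_antisymm h hle)
    have h1 := Cfsg.Agent.S3014.eq_of_coatom hco hle inf_le_right hnle
    have hMD : M ≤ H ⊔ H.map (MulAut.conj g).toMonoidHom := inf_eq_right.mp h1
    have hDM : H ⊔ H.map (MulAut.conj g).toMonoidHom = M := by
      by_contra hne'
      exact hcon g (hmaxM.2 _ (lt_of_le_of_ne hMD (Ne.symm hne')))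
    have h2 : H.map (MulAut.conj g).toMonoidHom = H := hWC g (hDM ▸ le_sup_right)
    rw [h2, sup_idem] at hDM
    exact hHneM hDM
  have hres := Cfsg.Agent.S3014.result H M hHM hEC hco hmaxM
  rcases (Subgroup.normalClosure_normal (s := (H : Set G))).eq_bot_or_eq_top with h | h
  · -- H = ⊥
    have hHbot : H = ⊥ := by
      rw [← hres, h, bot_inf_eq]
    have hTI : ∀ g : G, g ∉ M → M ⊓ M.map (MulAut.conj g).toMonoidHom ≤ H := by
      intro g hgM
      by_contra hnle
      have hle : H ≤ M ⊓ M.map (MulAut.conj g).toMonoidHom := by rw [hHbot]; exact bot_le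
      have h1 := Cfsg.Agent.S3014.eq_of_coatom hco hle inf_le_left hnle
      have h2 : M ≤ M.map (MulAut.conj g).toMonoidHom := inf_eq_left.mp h1
      have h3 : M.map (MulAut.conj g).toMonoidHom = M := by
        symm
        apply Subgroup.eq_of_le_of_card_ge h2
        rw [Subgroup.card_map_of_injective (MulAut.conj g).injective]
      exact hgM (hNM g (mem_normalizer_of_map_conj_le M g h3.le))
    obtain ⟨A, _, f, hf⟩ := Cfsg.Agent.S3014.exists_hom_ker_inf H M hHn hco hTI
    rcases (MonoidHom.normal_ker f).eq_bot_or_eq_top with hk | hk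
    · apply hG
      rw [isMulCommutative_iff]
      intro a b
      have hinj : Function.Injective f := (MonoidHom.ker_eq_bot_iff f).mp hk
      apply hinj
      rw [map_mul, map_mul, mul_comm]
    · apply hHneM
      apply le_antisymm hHM
      intro m hm
      have : m ∈ f.ker := by rw [hk]; trivial
      exact (hf m hm).mp this
  · apply hHneM
    rw [h, top_inf_eq] at hres
    exact hres.symm

end Cfsg.Agent.S3015
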