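import Cfsg.Statements.S3020
import Cfsg.Agent.Lib.Helper18.ExtremelyClosed
import Cfsg.Agent.Lib.Helper18.Isolated
import Mathlib.GroupTheory.Transfer

set_option autoImplicit false
open Cfsg

namespace Cfsg.Agent.S3020

open Cfsg.Agent.Lib.Helper18

theorem result {G : Type*} [Group G] [Finite G] {p : ℕ} [Fact p.Prime] (H : Subgroup G) (hHp : IsPGroup p H) (hHab : IsMulCommutative H) (hcl : Cfsg.IsExtremelyClosed H) (g : G) (T : Subgroup G) (hT : T = H ⊔ H.map (MulAut.conj g).toMonoidHom) : H ⊔ (Cfsg.pPrimeCore p ↥T).map T.subtype = T ∧ H ⊓ (Cfsg.pPrimeCore p ↥T).map T.subtype = ⊥ := by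
  subst hT
  set T : Subgroup G := H ⊔ H.map (MulAut.conj g).toMonoidHom with hT
  have hHT : H ≤ T := le_sup_left
  have hTN : T ⊓ Subgroup.normalizer (H : Set G) = H := hcl g
  have hSyl : IsSylowIn p H T := by
    obtain ⟨Q, hQ, hHQ⟩ := exists_isSylowIn_ge hHT hHp
    have h1 : Q ≤ Subgroup.normalizer (H : Set G) :=
      le_trans Subgroup.le_normalizer (extremelyClosed_normalizer_le hcl hQ.isPGroup hHQ)
    have h2 : Q ≤ H := by
      rw [← hTN]; exact le_inf hQ.le h1
    have h3 : Q = H := le_antisymm h2 hHQ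
    rwa [h3] at hQ
  obtain ⟨P', hP'⟩ := hSyl.exists_sylow
  have hNC : Subgroup.normalizer ((P' : Subgroup ↥T) : Set ↥T) ≤ Subgroup.centralizer ((P' : Subgroup ↥T) : Set ↥T) := by
    intro z hz
    have hzN : (z : G) ∈ Subgroup.normalizer (H : Set G) := by
      rw [Subgroup.mem_normalizer_iff] at hz ⊢
      intro h
      constructor
      · intro hh
        have := (hz ⟨h, hHT hh⟩).mp (by rw [hP']; simpa [Subgroup.mem_subgroupOf] using hh)
        rw [hP'] at this
        simpa [Subgroup.mem_subgroupOf] using this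
      · intro hh
        have hhT : h ∈ T := by
          have h2 : (z : G) * h * (z : G)⁻¹ ∈ T := hHT hh
          have h3 : h = (z : G)⁻¹ * ((z : G) * h * (z : G)⁻¹) * (z : G) := by simp [mul_assoc]
          rw [h3]
          exact T.mul_mem (T.mul_mem (T.inv_mem z.2) h2) z.2
        have := (hz ⟨h, hhT⟩).mpr (by rw [hP']; simpa [Subgroup.mem_subgroupOf] using hh)
        rw [hP'] at this
        simpa [Subgroup.mem_subgroupOf] using this
    have hzH : (z : G) ∈ H := by
      rw [← hTN]; exact ⟨z.2, hzN⟩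
    rw [Subgroup.mem_centralizer_iff]
    intro y hy
    have hyH : (y : G) ∈ H := by
      have : y ∈ (P' : Subgroup ↥T) := hy
      rw [hP'] at this
      simpa [Subgroup.mem_subgroupOf] using this
    apply Subtype.ext
    simp only [Subgroup.coe_mul]
    have := hHab.is_comm.comm (⟨(y : G), hyH⟩ : ↥H) ⟨(z : G), hzH⟩
    exact congrArg Subtype.val this
  set K : Subgroup ↥T := (MonoidHom.transferSylow P' hNC).ker with hK
  have hKn : K.Normal := MonoidHom.normal_ker _
  have hKc : Subgroup.IsComplement' K (P' : Subgroup ↥T) := MonoidHom.ker_transferSylow_isComplement' P' hNC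
  have hKp : ¬ p ∣ Nat.card K := MonoidHom.not_dvd_card_ker_transferSylow P' hNC
  have hKle : K ≤ Cfsg.pPrimeCore p ↥T := by
    apply le_pPrimeCore_h18 hKn
    exact ((Nat.Prime.coprime_iff_not_dvd Fact.out).mpr hKp).symm
  have hmapP' : (P' : Subgroup ↥T).map T.subtype = H := by
    rw [hP']
    exact Subgroup.map_subgroupOf_eq_of_le hHT
  refine ⟨?_, ?_⟩
  · apply le_antisymm
    · apply sup_le hHT
      rintro _ ⟨y, _, rfl⟩
      exact y.2
    · have h1 : K ⊔ (P' : Subgroup ↥T) = ⊤ := hKc.sup_eq_top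
      have h2 : (K ⊔ (P' : Subgroup ↥T)).map T.subtype = T := by
        rw [h1, ← MonoidHom.range_eq_map, Subgroup.range_subtype]
      rw [Subgroup.map_sup, hmapP'] at h2
      have h3 : Subgroup.map T.subtype K ⊔ H ≤ H ⊔ (Cfsg.pPrimeCore p ↥T).map T.subtype :=
        sup_le (le_trans (Subgroup.map_mono hKle) le_sup_right) le_sup_left
      exact le_of_eq_of_le h2.symm h3
  · rw [eq_bot_iff]
    rintro x ⟨hxH, ⟨y, hy, rfl⟩⟩
    have h1 : IsPGroup p (H.subgroupOf T) := hHp.comap_subtype
    have h2 : y ∈ H.subgroupOf T := by simpa [Subgroup.mem_subgroupOf] using hxH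
    have h3 : y = 1 := eq_one_of_mem_pGroup_of_mem_coprime h1 (pPrimeCore_card_coprime_h18 p) h2 hy
    rw [h3]
    simp

end Cfsg.Agent.S3020
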