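import Mathlib
import Cfsg.Statements.S3025
import Cfsg.Agent.Lib.Helper10.MinSub2
import Cfsg.Agent.S0016

set_option autoImplicit false
open Cfsg

namespace Cfsg.Agent.S3025

open Cfsg.Agent.Lib.Helper10.MinSub

theorem result {F : Type*} [Group F] [Finite F] (H : Subgroup F) (hH : H ≠ ⊥)
    (hmin : ∀ R : Subgroup F, R ≠ ⊥ → H ≤ Subgroup.normalizer (R : Set F) → H ≤ R) :
    ∃ N : Subgroup F, N.Normal ∧ N ≠ ⊥ ∧ (∀ M : Subgroup F, M.Normal → M ≠ ⊥ → N ≤ M) ∧ IsSimpleGroup ↥N ∧
      (Subgroup.centralizer (N : Set F) = ⊥ ∨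
       (H = N ∧ (Nat.card N).Prime ∧ IsCyclic ↥(Subgroup.centralizer (N : Set F)) ∧
          (∃ k : ℕ, 1 ≤ k ∧ Nat.card ↥(Subgroup.centralizer (N : Set F)) = Nat.card N ^ k) ∧
          (∃ g : F, Subgroup.centralizer (N : Set F) ⊔ Subgroup.zpowers g = ⊤) ∧
          (Subgroup.centralizer (N : Set F)).index ∣ Nat.card N - 1) ∨
       (H = N ∧ Nat.card N = 2 ∧ Subgroup.centralizer (N : Set F) = ⊤ ∧
          ∃ k : ℕ, 1 ≤ k ∧ Nonempty (F ≃* QuaternionGroup (2 ^ k)))) := by
  obtain ⟨N, hNdef⟩ : ∃ N : Subgroup F, N = Subgroup.normalClosure (H : Set F) := ⟨_, rfl⟩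
  have hNn : N.Normal := by rw [hNdef]; exact Subgroup.normalClosure_normal
  obtain ⟨hNne, hNmin⟩ := closure_props hH hmin
  have hsimple := simple_closure hH hmin
  rw [← hNdef] at hNne hNmin hsimple
  have hHN : H ≤ N := by rw [hNdef]; exact Subgroup.le_normalClosure
  refine ⟨N, hNn, hNne, hNmin, hsimple, ?_⟩
  by_cases hC : Subgroup.centralizer (N : Set F) = ⊥
  · exact Or.inl hC
  · right
    obtain ⟨C, hCdef⟩ : ∃ C : Subgroup F, C = Subgroup.centralizer (N : Set F) := ⟨_, rfl⟩
    rw [← hCdef] at hC ⊢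
    have hCn : C.Normal := by rw [hCdef]; infer_instance
    have hNC : N ≤ C := hNmin C hCn hC
    have hNab : ∀ x ∈ N, ∀ y ∈ N, x * y = y * x := by
      intro x hx y hy
      have := hNC hx
      rw [hCdef, Subgroup.mem_centralizer_iff] at this
      exact (this y hy).symm
    have hprime := prime_card_of_simple_comm N hsimple hNab
    obtain ⟨p, hpdef⟩ : ∃ p, p = Nat.card N := ⟨_, rfl⟩
    rw [← hpdef] at hprime ⊢
    have hpf : Fact p.Prime := ⟨hprime⟩
    have hHeq : H = N := by
      apply Subgroup.eq_of_le_of_card_ge hHN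
      have h1 := Subgroup.card_dvd_of_le hHN
      rw [← hpdef] at h1 ⊢
      rcases (Nat.dvd_prime hprime).1 h1 with h | h
      · exact absurd (Subgroup.card_eq_one.1 h) hH
      · exact h.ge
    have hall : ∀ R : Subgroup F, R ≤ C → R ≠ ⊥ → N ≤ R := by
      intro R hRC hRne
      rw [← hHeq]
      apply hmin R hRne
      intro h hh
      rw [Subgroup.mem_normalizer_iff]
      intro r
      by_cases hr : r ∈ R
      · have h1 := hRC hr
        rw [hCdef, Subgroup.mem_centralizer_iff] at h1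
        have h2 := h1 h (hHN hh)
        have h3 : h * r * h⁻¹ = r := by rw [h2]; group
        rw [h3]
      · constructor
        · intro h1; exact absurd h1 hr
        · intro h1
          exfalso; apply hr
          have h2 := hRC h1
          rw [hCdef, Subgroup.mem_centralizer_iff] at h2
          have h3 := h2 h (hHN hh)
          have h4 : h * r * h⁻¹ = r := by
            calc h * r * h⁻¹ = h⁻¹ * (h * (h * r * h⁻¹)) := by group
              _ = h⁻¹ * ((h * r * h⁻¹) * h) := by rw [h3]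
              _ = r := by group
          rw [← h4]; exact h1
    obtain ⟨hCp, huniq⟩ := pgroup_unique N C hpdef.symm hall
    obtain ⟨hgen, hidx⟩ := quotient_props N hprime hpdef.symm
    rw [← hCdef] at hgen hidx
    have hcardC : ∃ k : ℕ, 1 ≤ k ∧ Nat.card C = p ^ k := by
      obtain ⟨k, hk⟩ := (IsPGroup.iff_card).1 hCp
      refine ⟨k, ?_, hk⟩
      by_contra h0
      have : k = 0 := by omega
      rw [this, pow_zero] at hk
      exact hC (Subgroup.card_eq_one.1 hk)
    have hcyc_case : IsCyclic C →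
        (H = N ∧ p.Prime ∧ IsCyclic ↥C ∧ (∃ k : ℕ, 1 ≤ k ∧ Nat.card ↥C = p ^ k) ∧
          (∃ g : F, C ⊔ Subgroup.zpowers g = ⊤) ∧ C.index ∣ p - 1) :=
      fun hcyc => ⟨hHeq, hprime, hcyc, hcardC, hgen, hidx⟩
    rcases Cfsg.Agent.S0016.result p hCp huniq with hcyc | ⟨hp2, n, ⟨e⟩⟩
    · exact Or.inl (hcyc_case hcyc)
    · rcases Nat.eq_zero_or_pos n with hn | hn
      · left
        apply hcyc_case
        rw [hn, pow_zero] at e
        have := QuaternionGroup.quaternionGroup_one_isCyclic
        exact isCyclic_of_surjective e.symm e.symm.surjective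
      · right
        have hCtop : C = ⊤ := by
          rw [hp2] at hidx
          have : C.index = 1 := Nat.dvd_one.1 hidx
          exact Subgroup.index_eq_one.1 this
        refine ⟨hHeq, hp2, hCtop, n, hn, ⟨?_⟩⟩
        have e1 : (⊤ : Subgroup F) ≃* F := Subgroup.topEquiv
        have e2 : C ≃* (⊤ : Subgroup F) := MulEquiv.subgroupCongr hCtop
        exact (e1.symm.trans (e2.symm.trans e))

end Cfsg.Agent.S3025
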