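import Cfsg.Statements.S3027
import Mathlib.Data.Set.Finite.Lemmas
import Mathlib.GroupTheory.QuotientGroup.Basic

set_option autoImplicit false
open Cfsg

namespace Cfsg.Agent.S3027

open scoped commutatorElement Pointwise

theorem comm_mem_sup {G : Type*} [Group G] (D : Subgroup G) [D.Normal] {L₁ L₂ : Subgroup G}
    (h1 : L₁ ⊔ D = ⊤) (h2 : L₂ ⊔ D = ⊤)
    (hn12 : L₁ ≤ Subgroup.normalizer (L₂ : Set G)) (hn21 : L₂ ≤ Subgroup.normalizer (L₁ : Set G)) :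
    ⁅(⊤ : Subgroup G), (⊤ : Subgroup G)⁆ ≤ (L₁ ⊓ L₂) ⊔ D := by
  rw [Subgroup.commutator_le]
  intro g₁ _ g₂ _
  have hg₁ : g₁ ∈ ((L₁ ⊔ D : Subgroup G) : Set G) := by rw [h1]; trivial
  have hg₂ : g₂ ∈ ((L₂ ⊔ D : Subgroup G) : Set G) := by rw [h2]; trivial
  rw [Subgroup.mul_normal] at hg₁ hg₂
  obtain ⟨l₁, hl₁, d₁, hd₁, rfl⟩ := hg₁
  obtain ⟨l₂, hl₂, d₂, hd₂, rfl⟩ := hg₂
  have hI : ⁅l₁, l₂⁆ ∈ L₁ ⊓ L₂ := by
    refine ⟨?_, ?_⟩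
    · have h3 : l₂ * l₁⁻¹ * l₂⁻¹ ∈ L₁ :=
        (Subgroup.mem_normalizer_iff.mp (hn21 hl₂) l₁⁻¹).mp (L₁.inv_mem hl₁)
      have : ⁅l₁, l₂⁆ = l₁ * (l₂ * l₁⁻¹ * l₂⁻¹) := by rw [commutatorElement_def]; group
      rw [this]
      exact L₁.mul_mem hl₁ h3
    · have h3 : l₁ * l₂ * l₁⁻¹ ∈ L₂ :=
        (Subgroup.mem_normalizer_iff.mp (hn12 hl₁) l₂).mp hl₂
      rw [commutatorElement_def]
      exact L₂.mul_mem h3 (L₂.inv_mem hl₂)
  have hq : (QuotientGroup.mk' D) ⁅l₁ * d₁, l₂ * d₂⁆ = (QuotientGroup.mk' D) ⁅l₁, l₂⁆ := by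
    have e1 : (QuotientGroup.mk' D) (l₁ * d₁) = (QuotientGroup.mk' D) l₁ := by
      have hone : (QuotientGroup.mk' D) d₁ = 1 := (QuotientGroup.eq_one_iff d₁).mpr hd₁
      rw [map_mul, hone, mul_one]
    have e2 : (QuotientGroup.mk' D) (l₂ * d₂) = (QuotientGroup.mk' D) l₂ := by
      have hone : (QuotientGroup.mk' D) d₂ = 1 := (QuotientGroup.eq_one_iff d₂).mpr hd₂
      rw [map_mul, hone, mul_one]
    rw [map_commutatorElement, map_commutatorElement, e1, e2]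
  have hd : ⁅l₁, l₂⁆⁻¹ * ⁅l₁ * d₁, l₂ * d₂⁆ ∈ D := by
    have := QuotientGroup.eq.mp hq.symm
    exact this
  have : ⁅l₁ * d₁, l₂ * d₂⁆ = ⁅l₁, l₂⁆ * (⁅l₁, l₂⁆⁻¹ * ⁅l₁ * d₁, l₂ * d₂⁆) := by group
  rw [this]
  exact Subgroup.mul_mem _ ((le_sup_left : L₁ ⊓ L₂ ≤ (L₁ ⊓ L₂) ⊔ D) hI)
    ((le_sup_right : D ≤ (L₁ ⊓ L₂) ⊔ D) hd)

theorem inf_supplement_of_normalizing {G : Type*} [Group G] (D : Subgroup G) [D.Normal]
    (hperf : ⁅(⊤ : Subgroup G), (⊤ : Subgroup G)⁆ ⊔ D = ⊤) {L₁ L₂ : Subgroup G}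
    (h1 : L₁ ⊔ D = ⊤) (h2 : L₂ ⊔ D = ⊤)
    (hn12 : L₁ ≤ Subgroup.normalizer (L₂ : Set G)) (hn21 : L₂ ≤ Subgroup.normalizer (L₁ : Set G)) :
    (L₁ ⊓ L₂) ⊔ D = ⊤ := by
  rw [eq_top_iff, ← hperf]
  exact sup_le (comm_mem_sup D h1 h2 hn12 hn21) le_sup_right

theorem inf_supplement {G : Type*} [Group G] (D : Subgroup G) [D.Normal]
    (hperf : ⁅(⊤ : Subgroup G), (⊤ : Subgroup G)⁆ ⊔ D = ⊤) {B₁ : Subgroup G} (hB₁ : B₁.IsSubnormal) :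
    ∀ {B₂ : Subgroup G}, B₂.IsSubnormal → B₁ ⊔ D = ⊤ → B₂ ⊔ D = ⊤ → (B₁ ⊓ B₂) ⊔ D = ⊤ := by
  induction hB₁ with
  | top =>
    intro B₂ _ _ h2
    rw [top_inf_eq]; exact h2
  | step B₁ K₁ hle₁ hK₁ hN₁ ih₁ =>
    intro B₂ hB₂
    induction hB₂ with
    | top =>
      intro h1 _
      rw [inf_top_eq]; exact h1
    | step B₂ K₂ hle₂ hK₂ hN₂ ih₂ =>
      intro h1 h2
      have hK₁D : K₁ ⊔ D = ⊤ := eq_top_iff.mpr (h1 ▸ sup_le_sup_right hle₁ D)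
      have hK₂D : K₂ ⊔ D = ⊤ := eq_top_iff.mpr (h2 ▸ sup_le_sup_right hle₂ D)
      rw [Subgroup.normal_subgroupOf_iff_le_normalizer hle₁] at hN₁
      rw [Subgroup.normal_subgroupOf_iff_le_normalizer hle₂] at hN₂
      have hL₁ : (B₁ ⊓ K₂) ⊔ D = ⊤ := ih₂ h1 hK₂D
      have hL₂ : (K₁ ⊓ B₂) ⊔ D = ⊤ := ih₁ (Subgroup.IsSubnormal.step B₂ K₂ hle₂ hK₂
        ((Subgroup.normal_subgroupOf_iff_le_normalizer hle₂).mpr hN₂)) hK₁D h2
      have hnK₁ : K₁ ≤ Subgroup.normalizer (K₁ : Set G) := Subgroup.le_normalizer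
      have hnK₂ : K₂ ≤ Subgroup.normalizer (K₂ : Set G) := Subgroup.le_normalizer
      have hnorm_inf : ∀ {X Y Z : Subgroup G}, Z ≤ Subgroup.normalizer (X : Set G) →
          Z ≤ Subgroup.normalizer (Y : Set G) → Z ≤ Subgroup.normalizer ((X ⊓ Y : Subgroup G) : Set G) := by
        intro X Y Z hX hY z hz
        rw [Subgroup.mem_normalizer_iff]
        intro h
        have hx := Subgroup.mem_normalizer_iff.mp (hX hz) h
        have hy := Subgroup.mem_normalizer_iff.mp (hY hz) h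
        exact ⟨fun hh => ⟨hx.mp hh.1, hy.mp hh.2⟩, fun hh => ⟨hx.mpr hh.1, hy.mpr hh.2⟩⟩
      have hn12 : B₁ ⊓ K₂ ≤ Subgroup.normalizer ((K₁ ⊓ B₂ : Subgroup G) : Set G) :=
        hnorm_inf (le_trans (le_trans inf_le_left hle₁) hnK₁) (le_trans inf_le_right hN₂)
      have hn21 : K₁ ⊓ B₂ ≤ Subgroup.normalizer ((B₁ ⊓ K₂ : Subgroup G) : Set G) :=
        hnorm_inf (le_trans inf_le_left hN₁) (le_trans (le_trans inf_le_right hle₂) hnK₂)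
      have := inf_supplement_of_normalizing D hperf hL₁ hL₂ hn12 hn21
      have heq : (B₁ ⊓ K₂) ⊓ (K₁ ⊓ B₂) = B₁ ⊓ B₂ := by
        apply le_antisymm
        · exact le_inf (le_trans inf_le_left inf_le_left) (le_trans inf_le_right inf_le_right)
        · exact le_inf (le_inf inf_le_left (le_trans inf_le_right hle₂))
            (le_inf (le_trans inf_le_left hle₁) inf_le_right)
      rw [heq] at this
      exact this

theorem result {G : Type*} [Group G] [Finite G] (D : Subgroup G) [D.Normal] (hperf : ⁅(⊤ : Subgroup G), (⊤ : Subgroup G)⁆ ⊔ D = ⊤) :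
    ∃ B : Subgroup G, B.Normal ∧ B ⊔ D = ⊤ ∧ ∀ B' : Subgroup G, B'.IsSubnormal → B' ⊔ D = ⊤ → B ≤ B' := by
  obtain ⟨B, ⟨hBsn, hBD⟩, hmin⟩ := Set.exists_min_image
    {B : Subgroup G | B.IsSubnormal ∧ B ⊔ D = ⊤} (fun B => Nat.card B) (Set.toFinite _)
    ⟨⊤, Subgroup.IsSubnormal.top, top_sup_eq _⟩
  have hleast : ∀ B' : Subgroup G, B'.IsSubnormal → B' ⊔ D = ⊤ → B ≤ B' := by
    intro B' hB' hB'D
    have h1 : (B ⊓ B') ⊔ D = ⊤ := inf_supplement D hperf hBsn hB' hBD hB'D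
    have h2 := hmin (B ⊓ B') ⟨hBsn.inf hB', h1⟩
    have h3 : B ⊓ B' = B := Subgroup.eq_of_le_of_card_ge inf_le_left h2
    rw [← h3]
    exact inf_le_right
  refine ⟨B, ?_, hBD, hleast⟩
  constructor
  intro n hn g
  have hsn : (B.map (MulAut.conj g⁻¹).toMonoidHom).IsSubnormal :=
    hBsn.map (MulAut.conj g⁻¹).surjective
  have hD : D.map (MulAut.conj g⁻¹).toMonoidHom = D := by
    ext x
    constructor
    · rintro ⟨y, hy, rfl⟩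
      have := ‹D.Normal›.conj_mem y hy g⁻¹
      simpa using this
    · intro hx
      refine ⟨g * x * g⁻¹, ‹D.Normal›.conj_mem x hx g, ?_⟩
      simp [mul_assoc]
  have hsup : B.map (MulAut.conj g⁻¹).toMonoidHom ⊔ D = ⊤ := by
    rw [← hD, ← Subgroup.map_sup, hBD, ← MonoidHom.range_eq_map, MonoidHom.range_eq_top]
    exact (MulAut.conj g⁻¹).surjective
  have := hleast _ hsn hsup hn
  obtain ⟨y, hy, hyn⟩ := this
  have : g * n * g⁻¹ = y := by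
    rw [← hyn]
    simp [mul_assoc]
  rw [this]
  exact hy

end Cfsg.Agent.S3027
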