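import Cfsg.Statements.S3036
import Cfsg.Agent.Lib.Helper18.ChermakDelgado3
import Cfsg.Agent.Lib.Helper18.SylowIn
import Mathlib.Data.Set.Finite.Lemmas

set_option autoImplicit false
open Cfsg

namespace Cfsg.Agent.S3036

open Cfsg.Agent.Lib.Helper18
open scoped Pointwise

theorem mem_centralizer_conjSub {G : Type*} [Group G] (g x : G) (H : Subgroup G) :
    x ∈ Subgroup.centralizer ((conjSub g H : Subgroup G) : Set G) ↔
      x ∈ conjSub g (Subgroup.centralizer (H : Set G)) := by
  rw [mem_conjSub, Subgroup.mem_centralizer_iff, Subgroup.mem_centralizer_iff]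
  constructor
  · intro h y hy
    have h1 := h (g * y * g⁻¹) (conj_mem_conjSub hy)
    have : y * (g⁻¹ * x * g) = g⁻¹ * ((g * y * g⁻¹) * x) * g := by group
    rw [this, h1]; group
  · intro h y hy
    have hy' : g⁻¹ * y * g ∈ H := mem_conjSub.mp hy
    have h1 := h _ hy'
    have : y * x = g * ((g⁻¹ * y * g) * (g⁻¹ * x * g)) * g⁻¹ := by group
    rw [this, h1]; group

theorem cdm_conjSub {G : Type*} [Group G] (g : G) (H : Subgroup G) : cdm (conjSub g H) = cdm H := by
  unfold cdm
  have : Subgroup.centralizer ((conjSub g H : Subgroup G) : Set G) =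
      conjSub g (Subgroup.centralizer (H : Set G)) := by
    ext x; exact mem_centralizer_conjSub g x H
  rw [this, card_conjSub, card_conjSub]

theorem cdm_bot {G : Type*} [Group G] : cdm (⊥ : Subgroup G) = Nat.card G := by
  unfold cdm
  have : Subgroup.centralizer (((⊥ : Subgroup G) : Subgroup G) : Set G) = ⊤ := by
    rw [eq_top_iff]
    intro x _
    rw [Subgroup.mem_centralizer_iff]
    intro y hy
    have : y = 1 := by simpa using hy
    subst this; simp
  rw [this]; simp

theorem cdm_top {G : Type*} [Group G] (hZ : Subgroup.center G = ⊥) : cdm (⊤ : Subgroup G) = Nat.card G := by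
  unfold cdm
  rw [Subgroup.coe_top, Subgroup.centralizer_univ, hZ]; simp

theorem conj_le_of_sup_top {G : Type*} [Group G] (g : G) (H : Subgroup G)
    (h : (H : Set G) * (conjSub g H : Set G) = Set.univ) : g ∈ H := by
  have h1 : g⁻¹ ∈ (H : Set G) * (conjSub g H : Set G) := by rw [h]; trivial
  obtain ⟨a, ha, b, hb, hab⟩ := h1
  have hb' : g⁻¹ * b * g ∈ H := mem_conjSub.mp hb
  have : g = a⁻¹ * (g⁻¹ * b * g)⁻¹ := by
    have : b = a⁻¹ * g⁻¹ := by rw [← hab]; group
    rw [this]; group
  rw [this]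
  exact H.mul_mem (H.inv_mem ha) (H.inv_mem hb')

theorem cd_trivial {G : Type*} [Group G] [Finite G] [IsSimpleGroup G] (K : Subgroup G)
    (hK : cdm K = Cfsg.maxCentralizerProduct G) : K = ⊥ ∨ K = ⊤ := by
  classical
  by_cases hKt : K = ⊤
  · exact Or.inr hKt
  left
  set M := Cfsg.maxCentralizerProduct G with hM
  let S : Set (Subgroup G) := {H | cdm H = M ∧ H ≠ ⊤}
  have hSne : S.Nonempty := ⟨K, hK, hKt⟩
  obtain ⟨H, hHS, hHmax⟩ := Set.exists_max_image S (fun H => Nat.card H) (Set.toFinite S) hSne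
  have hconj : ∀ g : G, conjSub g H ≤ H := by
    intro g
    obtain ⟨e1, e2, -, -⟩ := cd_core M (fun L => cdm_le_max L) H (conjSub g H) hHS.1
      ((cdm_conjSub g H).trans hHS.1)
    by_cases hT : H ⊔ conjSub g H = ⊤
    · rw [hT, Subgroup.coe_top] at e1
      exact conjSub_le_of_mem le_rfl (conj_le_of_sup_top g H e1.symm)
    · have h1 := hHmax (H ⊔ conjSub g H) ⟨e2, hT⟩
      have h2 : H = H ⊔ conjSub g H := Subgroup.eq_of_le_of_card_ge le_sup_left h1
      calc conjSub g H ≤ H ⊔ conjSub g H := le_sup_right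
        _ = H := h2.symm
  have hHn : H.Normal := by
    constructor
    intro n hn g
    exact hconj g (conj_mem_conjSub hn)
  have hHb : H = ⊥ := (hHn.eq_bot_or_eq_top).resolve_right hHS.2
  have h3 := hHmax K ⟨hK, hKt⟩
  rw [hHb] at h3
  have : Nat.card K = 1 := le_antisymm (by simpa using h3) Nat.card_pos
  exact Subgroup.card_eq_one.mp this

theorem result {G : Type*} [Group G] [Finite G] [IsSimpleGroup G] (hG : ¬ IsMulCommutative G) (A : Subgroup G) (hA1 : A ≠ ⊥) (hA2 : A ≠ ⊤) : Nat.card A * Nat.card ↥(Subgroup.centralizer (A : Set G)) < Nat.card G := by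
  have hZ : Subgroup.center G = ⊥ := by
    rcases (inferInstance : (Subgroup.center G).Normal).eq_bot_or_eq_top with h | h
    · exact h
    · exfalso
      apply hG
      refine ⟨⟨fun a b => ?_⟩⟩
      have hb : b ∈ Subgroup.center G := by rw [h]; trivial
      exact (Subgroup.mem_center_iff.mp hb) a
  obtain ⟨R, hR⟩ := exists_cdm_eq_max (G := G)
  have hMG : Cfsg.maxCentralizerProduct G = Nat.card G := by
    rcases cd_trivial R hR with h | h
    · rw [← hR, h, cdm_bot]
    · rw [← hR, h, cdm_top hZ]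
  have hle : cdm A ≤ Nat.card G := hMG ▸ cdm_le_max A
  rcases lt_or_eq_of_le hle with h | h
  · exact h
  · exfalso
    rcases cd_trivial A (h.trans hMG.symm) with h' | h'
    · exact hA1 h'
    · exact hA2 h'

end Cfsg.Agent.S3036
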