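import Cfsg.Statements.S3037
import Cfsg.Agent.Lib.Helper18.ChermakDelgado
import Cfsg.Agent.Lib.Helper18.SylowIn

set_option autoImplicit false
open Cfsg

namespace Cfsg.Agent.S3037

open Cfsg.Agent.Lib.Helper18
open scoped Pointwise

variable {X : Type*} [Group X]

/-- order of the fixed points of `B` on `V`. -/
noncomputable def cv (V B : Subgroup X) : ℕ := Nat.card ↥(V ⊓ Subgroup.centralizer (B : Set X))

theorem cv_pos [Finite X] (V B : Subgroup X) : 0 < cv V B := Nat.card_pos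

theorem log_mul_le {a b c d : ℕ} (ha : 0 < a) (hb : 0 < b) (hc : 0 < c) (hd : 0 < d) (h : a * b ≤ c * d) :
    Real.log a + Real.log b ≤ Real.log c + Real.log d := by
  have ha' : (0 : ℝ) < a := Nat.cast_pos.mpr ha
  have hb' : (0 : ℝ) < b := Nat.cast_pos.mpr hb
  have hc' : (0 : ℝ) < c := Nat.cast_pos.mpr hc
  have hd' : (0 : ℝ) < d := Nat.cast_pos.mpr hd
  rw [← Real.log_mul ha'.ne' hb'.ne', ← Real.log_mul hc'.ne' hd'.ne']
  apply Real.log_le_log (mul_pos ha' hb')
  exact_mod_cast h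

theorem card_mul_le_sup_inf [Finite X] (H K : Subgroup X) :
    Nat.card H * Nat.card K ≤ Nat.card ↥(H ⊔ K) * Nat.card ↥(H ⊓ K) := by
  rw [← card_mul_set_mul_card_inf]
  exact Nat.mul_le_mul_right _ (card_mul_set_le_card_sup H K)

theorem cv_mul_le [Finite X] (V B₁ B₂ : Subgroup X) :
    cv V B₁ * cv V B₂ ≤ cv V (B₁ ⊔ B₂) * cv V (B₁ ⊓ B₂) := by
  unfold cv
  set C₁ := V ⊓ Subgroup.centralizer (B₁ : Set X)
  set C₂ := V ⊓ Subgroup.centralizer (B₂ : Set X)
  have h1 := card_mul_le_sup_inf C₁ C₂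
  have h2 : C₁ ⊓ C₂ = V ⊓ Subgroup.centralizer ((B₁ ⊔ B₂ : Subgroup X) : Set X) := by
    rw [centralizer_sup_h18]
    ext x
    simp only [C₁, C₂, Subgroup.mem_inf]
    tauto
  have h3 : C₁ ⊔ C₂ ≤ V ⊓ Subgroup.centralizer ((B₁ ⊓ B₂ : Subgroup X) : Set X) := by
    apply le_inf
    · exact sup_le inf_le_left inf_le_left
    · exact le_trans (sup_le_sup inf_le_right inf_le_right) (centralizer_sup_le_centralizer_inf B₁ B₂)
  calc Nat.card C₁ * Nat.card C₂ ≤ Nat.card ↥(C₁ ⊔ C₂) * Nat.card ↥(C₁ ⊓ C₂) := h1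
    _ ≤ Nat.card ↥(V ⊓ Subgroup.centralizer ((B₁ ⊓ B₂ : Subgroup X) : Set X)) * Nat.card ↥(C₁ ⊓ C₂) :=
        Nat.mul_le_mul_right _ (Subgroup.card_le_of_le h3)
    _ = _ := by rw [h2, mul_comm]

theorem mem_centralizer_conjSub' (g x : X) (H : Subgroup X) :
    x ∈ Subgroup.centralizer ((conjSub g H : Subgroup X) : Set X) ↔
      g⁻¹ * x * g ∈ Subgroup.centralizer (H : Set X) := by
  rw [Subgroup.mem_centralizer_iff, Subgroup.mem_centralizer_iff]
  constructor
  · intro h y hy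
    have h1 := h (g * y * g⁻¹) (conj_mem_conjSub hy)
    have : y * (g⁻¹ * x * g) = g⁻¹ * ((g * y * g⁻¹) * x) * g := by group
    rw [this, h1]; group
  · intro h y hy
    have hy' : g⁻¹ * y * g ∈ H := mem_conjSub.mp hy
    have h1 := h _ hy'
    have : y * x = g * ((g⁻¹ * y * g) * (g⁻¹ * x * g)) * g⁻¹ := by group
    rw [this, h1]; group

theorem fix_conjSub (V B : Subgroup X) (g : X) (hg : g ∈ Subgroup.normalizer (V : Set X)) :
    V ⊓ Subgroup.centralizer ((conjSub g B : Subgroup X) : Set X) =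
      conjSub g (V ⊓ Subgroup.centralizer (B : Set X)) := by
  ext x
  rw [mem_conjSub, Subgroup.mem_inf, Subgroup.mem_inf, mem_centralizer_conjSub']
  have hV : x ∈ V ↔ g⁻¹ * x * g ∈ V := by
    have h1 := conjSub_eq_of_mem_normalizer hg
    constructor
    · intro hx
      rw [← h1] at hx
      exact mem_conjSub.mp hx
    · intro hx
      rw [← h1]
      exact mem_conjSub.mpr hx
  rw [hV]

theorem cv_conjSub (V B : Subgroup X) (g : X) (hg : g ∈ Subgroup.normalizer (V : Set X)) :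
    cv V (conjSub g B) = cv V B := by
  unfold cv
  rw [fix_conjSub V B g hg, card_conjSub]

theorem result {X : Type*} [Group X] [Finite X] {p : ℕ} [Fact p.Prime] (V G : Subgroup X) (hV : Cfsg.IsElementaryAbelian p V)
    (hGV : G ≤ Subgroup.normalizer (V : Set X)) (hfaith : G ⊓ Subgroup.centralizer (V : Set X) = ⊥)
    (hirr : ∀ W : Subgroup X, W ≤ V → G ≤ Subgroup.normalizer (W : Set X) → W = ⊥ ∨ W = V)
    (A : Subgroup X) (hA : A ≤ G) (hA1 : A ≠ ⊥) (α : ℝ) (hα : 0 < α)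
    (hbig : (Nat.card V : ℝ) ≤ (Nat.card A : ℝ) ^ α * (Nat.card ↥(V ⊓ Subgroup.centralizer (A : Set X)) : ℝ)) :
    (Nat.card V : ℝ) ≤ (Nat.card G : ℝ) ^ α := by
  classical
  -- notation
  let f : Subgroup X → ℝ := fun B => Real.log (Nat.card V) - Real.log (cv V B)
  let b : Subgroup X → ℝ := fun B => Real.log (Nat.card B)
  have hVpos : (0 : ℝ) < Nat.card V := Nat.cast_pos.mpr Nat.card_pos
  have hb_nonneg : ∀ B : Subgroup X, 0 ≤ b B := fun B =>
    Real.log_nonneg (by exact_mod_cast (Nat.card_pos : 0 < Nat.card B))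
  have hb_pos : ∀ B : Subgroup X, B ≠ ⊥ → 0 < b B := by
    intro B hB
    apply Real.log_pos
    have : 1 < Nat.card B := by
      rcases Nat.lt_or_ge 1 (Nat.card B) with h | h
      · exact h
      · exfalso
        apply hB
        apply Subgroup.card_eq_one.mp
        exact le_antisymm h Nat.card_pos
    exact_mod_cast this
  have hf_bot : f ⊥ = 0 := by
    simp only [f, cv]
    have : V ⊓ Subgroup.centralizer (((⊥ : Subgroup X) : Subgroup X) : Set X) = V := by
      apply inf_eq_left.mpr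
      intro x _
      rw [Subgroup.mem_centralizer_iff]
      intro y hy
      have : y = 1 := by simpa using hy
      subst this; simp
    rw [this, sub_self]
  have hb_bot : b ⊥ = 0 := by simp [b]
  -- submodularity
  have hb_sub : ∀ B₁ B₂ : Subgroup X, b B₁ + b B₂ ≤ b (B₁ ⊔ B₂) + b (B₁ ⊓ B₂) := by
    intro B₁ B₂
    exact log_mul_le Nat.card_pos Nat.card_pos Nat.card_pos Nat.card_pos (card_mul_le_sup_inf B₁ B₂)
  have hf_sub : ∀ B₁ B₂ : Subgroup X, f (B₁ ⊔ B₂) + f (B₁ ⊓ B₂) ≤ f B₁ + f B₂ := by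
    intro B₁ B₂
    have := log_mul_le (cv_pos V B₁) (cv_pos V B₂) (cv_pos V (B₁ ⊔ B₂)) (cv_pos V (B₁ ⊓ B₂)) (cv_mul_le V B₁ B₂)
    simp only [f]
    linarith
  -- the minimizing ratio
  let 𝒮 : Set (Subgroup X) := {B | B ≤ G ∧ B ≠ ⊥}
  have h𝒮 : 𝒮.Nonempty := ⟨A, hA, hA1⟩
  obtain ⟨B₀, hB₀, hmin⟩ := Set.exists_min_image 𝒮 (fun B => f B / b B) (Set.toFinite 𝒮) h𝒮
  set α₀ := f B₀ / b B₀ with hα₀
  have hf_nonneg : ∀ B : Subgroup X, 0 ≤ f B := by
    intro B
    simp only [f, sub_nonneg]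
    apply Real.log_le_log (Nat.cast_pos.mpr (cv_pos V B))
    have : cv V B ≤ Nat.card V := Subgroup.card_le_of_le inf_le_left
    exact_mod_cast this
  have hα₀_nonneg : 0 ≤ α₀ := div_nonneg (hf_nonneg B₀) (hb_nonneg B₀)
  have h3 : ∀ B : Subgroup X, B ≤ G → α₀ * b B ≤ f B := by
    intro B hB
    by_cases hB1 : B = ⊥
    · rw [hB1, hb_bot, hf_bot, mul_zero]
    · have := hmin B ⟨hB, hB1⟩
      exact (le_div_iff₀ (hb_pos B hB1)).mp this
  have hα₀_le : α₀ ≤ α := by
    have h1 : α₀ ≤ f A / b A := hmin A ⟨hA, hA1⟩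
    refine le_trans h1 ?_
    rw [div_le_iff₀ (hb_pos A hA1)]
    have hcvpos : (0 : ℝ) < cv V A := Nat.cast_pos.mpr (cv_pos V A)
    have hApos : (0 : ℝ) < Nat.card A := Nat.cast_pos.mpr Nat.card_pos
    have hbig' : (Nat.card V : ℝ) ≤ (Nat.card A : ℝ) ^ α * (cv V A : ℝ) := hbig
    have h2 := Real.log_le_log hVpos hbig'
    rw [Real.log_mul (Real.rpow_pos_of_pos hApos α).ne' hcvpos.ne', Real.log_rpow hApos] at h2
    simp only [f, b]
    linarith
  -- the equality set
  let E : Set (Subgroup X) := {B | B ≤ G ∧ f B = α₀ * b B}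
  have hE_sup : ∀ B₁ ∈ E, ∀ B₂ ∈ E, B₁ ⊔ B₂ ∈ E := by
    intro B₁ h1 B₂ h2
    refine ⟨sup_le h1.1 h2.1, ?_⟩
    have e1 := h3 (B₁ ⊔ B₂) (sup_le h1.1 h2.1)
    have e2 := h3 (B₁ ⊓ B₂) (le_trans inf_le_left h1.1)
    have e3 := hf_sub B₁ B₂
    have e4 := hb_sub B₁ B₂
    have e5 := mul_le_mul_of_nonneg_left e4 hα₀_nonneg
    rw [h1.2, h2.2] at e3
    nlinarith
  have hE_conj : ∀ B ∈ E, ∀ g ∈ G, conjSub g B ∈ E := by
    intro B hB g hg
    refine ⟨conjSub_le_of_mem hB.1 hg, ?_⟩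
    have e1 : f (conjSub g B) = f B := by
      simp only [f]
      rw [cv_conjSub V B g (hGV hg)]
    have e2 : b (conjSub g B) = b B := by
      simp only [b]
      rw [card_conjSub]
    rw [e1, e2]; exact hB.2
  have hB₀E : B₀ ∈ E := by
    refine ⟨hB₀.1, ?_⟩
    rw [hα₀, div_mul_cancel₀ _ (hb_pos B₀ hB₀.2).ne']
  obtain ⟨B, hBE, hBmax⟩ := Set.exists_max_image E (fun B => Nat.card B) (Set.toFinite E) ⟨B₀, hB₀E⟩
  have hBne : B ≠ ⊥ := by
    intro hb0
    have h1 := hBmax B₀ hB₀E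
    rw [hb0] at h1
    simp at h1
    exact hB₀.2 (Subgroup.card_eq_one.mp (le_antisymm h1 Nat.card_pos))
  have hBnorm : G ≤ Subgroup.normalizer (B : Set X) := by
    intro g hg
    apply mem_normalizer_of_conjSub_le
    have h1 := hE_sup B hBE (conjSub g B) (hE_conj B hBE g hg)
    have h2 := hBmax _ h1
    have h3' : B = B ⊔ conjSub g B := Subgroup.eq_of_le_of_card_ge le_sup_left h2
    calc conjSub g B ≤ B ⊔ conjSub g B := le_sup_right
      _ = B := h3'.symm
  -- the fixed points of B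
  set W := V ⊓ Subgroup.centralizer (B : Set X) with hW
  have hWnorm : G ≤ Subgroup.normalizer (W : Set X) := by
    intro g hg
    apply mem_normalizer_of_conjSub_le
    rw [hW, ← fix_conjSub V B g (hGV hg), conjSub_eq_of_mem_normalizer (hBnorm hg)]
  have hWbot : W = ⊥ := by
    rcases hirr W inf_le_left hWnorm with h | h
    · exact h
    · exfalso
      apply hBne
      have hBC : B ≤ G ⊓ Subgroup.centralizer (V : Set X) := by
        refine le_inf hBE.1 ?_
        intro x hx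
        rw [Subgroup.mem_centralizer_iff]
        intro v hv
        have : v ∈ W := by rw [h]; exact hv
        have := (Subgroup.mem_centralizer_iff.mp this.2) x hx
        exact this.symm
      rw [hfaith] at hBC
      exact le_bot_iff.mp hBC
  have hfB : f B = Real.log (Nat.card V) := by
    simp only [f, cv]
    rw [← hW, hWbot]
    simp
  have hGpos : (0 : ℝ) < Nat.card G := Nat.cast_pos.mpr Nat.card_pos
  have hlogG : 0 ≤ Real.log (Nat.card G) := Real.log_nonneg (by exact_mod_cast (Nat.card_pos : 0 < Nat.card G))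
  have hbBG : b B ≤ Real.log (Nat.card G) := by
    simp only [b]
    apply Real.log_le_log (Nat.cast_pos.mpr Nat.card_pos)
    have : Nat.card B ≤ Nat.card G := Subgroup.card_le_of_le hBE.1
    exact_mod_cast this
  have hfinal : Real.log (Nat.card V) ≤ α * Real.log (Nat.card G) := by
    rw [← hfB, hBE.2]
    calc α₀ * b B ≤ α₀ * Real.log (Nat.card G) := mul_le_mul_of_nonneg_left hbBG hα₀_nonneg
      _ ≤ α * Real.log (Nat.card G) := mul_le_mul_of_nonneg_right hα₀_le hlogG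
  rw [← Real.log_rpow hGpos] at hfinal
  exact (Real.log_le_log_iff hVpos (Real.rpow_pos_of_pos hGpos α)).mp hfinal

end Cfsg.Agent.S3037
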