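import Cfsg.Statements.S3048
import Cfsg.Agent.Lib.Helper13.SidkiH

set_option autoImplicit false
universe u
open Cfsg

namespace Cfsg.Agent.S3048

/-- Minimal counterexample reduction for the Sidki pair problem. Let G be a finite group and V a nontrivial elementary abelian 2-subgroup satisfying the Sidki pair condition with V ∩ O₂(G) = 1. Suppose that for every finite group H of smaller order, every nontrivial elementary abelian 2-subgroup W of H satisfying the Sidki pair condition meets O₂(H) nontrivially, and that the same holds in G for every such subgroup W of order smaller than that of V. Then the generalized Fitting subgroup F*(G) is a non-abelian simple group and G = V F*(G). -/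
theorem result {G : Type u} [Group G] [Finite G] (V : Subgroup G) (hV : Cfsg.IsElementaryAbelian 2 V) (hV1 : V ≠ ⊥) (hS : Cfsg.IsSidkiPair V) (hVO : V ⊓ Cfsg.pCore 2 G = ⊥) (hminG : ∀ (H : Type u) [Group H] [Finite H] (W : Subgroup H), Nat.card H < Nat.card G → Cfsg.IsElementaryAbelian 2 W → W ≠ ⊥ → Cfsg.IsSidkiPair W → W ⊓ Cfsg.pCore 2 H ≠ ⊥) (hminV : ∀ W : Subgroup G, Nat.card W < Nat.card V → Cfsg.IsElementaryAbelian 2 W → W ≠ ⊥ → Cfsg.IsSidkiPair W → W ⊓ Cfsg.pCore 2 G ≠ ⊥) : IsSimpleGroup ↥(Cfsg.generalizedFittingSubgroup G) ∧ ¬ IsMulCommutative ↥(Cfsg.generalizedFittingSubgroup G) ∧ V ⊔ Cfsg.generalizedFittingSubgroup G = ⊤ := by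
  classical
  have hmin : Cfsg.Agent.Lib.Helper13.SkMin G := hminG
  have hO : Cfsg.pCore 2 G = ⊥ := Cfsg.Agent.Lib.Helper13.sk_core_bot hmin hV hV1 hS hVO
  have hZ : Subgroup.center G = ⊥ := Cfsg.Agent.Lib.Helper13.sk_center_bot hmin hV hV1 hS hO
  haveI : Nontrivial G := by
    obtain ⟨v, hv⟩ := (Subgroup.ne_bot_iff_exists_ne_one).mp hV1
    exact ⟨⟨(v : G), 1, fun h => hv (Subtype.ext h)⟩⟩
  obtain ⟨N, hN⟩ := Cfsg.Agent.Lib.Helper13.sk_exists_minNormal (G := G)
  have hc : ¬ (∀ a ∈ N, ∀ b ∈ N, a * b = b * a) :=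
    Cfsg.Agent.Lib.Helper13.sk_minNormal_not_comm hmin hV hV1 hS hO hZ hN
  have c : Cfsg.Agent.Lib.Helper13.SkCtx0 V N := ⟨hmin, hV, hV1, hS, hO, hZ, hN, hc⟩
  have hF : Cfsg.generalizedFittingSubgroup G = N := c.gfs_eq
  haveI := hN.normal
  rw [hF]
  refine ⟨c.isSimpleGroup, ?_, ?_⟩
  · intro h
    apply c.not_comm'
    intro a b
    exact h.is_comm.comm a b
  · rw [sup_comm]
    exact Cfsg.Agent.Lib.Helper13.sk_sup_eq_top hmin hV hV1 hS hO hZ N hN.ne_bot

end Cfsg.Agent.S3048
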