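import Cfsg.Statements.S3053
import Mathlib
import Cfsg.Agent.Lib.Helper18.SylowIn
import Cfsg.Agent.Lib.Helper18.NoncyclicSup
import Cfsg.Agent.Lib.Helper18.ChermakDelgado

set_option autoImplicit false
open Cfsg

namespace Cfsg.Agent.S3053

open Cfsg.Agent.Lib.Helper18
open scoped Pointwise
open scoped commutatorElement

section aux
variable {G : Type*} [Group G]

theorem conj_pow_of_comm {x y c : G} (h : x * y * x⁻¹ = c * y) (hc : c * x = x * c) :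
    ∀ n : ℕ, x ^ n * y * (x ^ n)⁻¹ = c ^ n * y := by
  intro n
  induction n with
  | zero => simp
  | succ n ih =>
    have hcn : c ^ n * x = x * c ^ n := ((show Commute c x from hc).pow_left n).eq
    calc x ^ (n + 1) * y * (x ^ (n + 1))⁻¹ = x * (x ^ n * y * (x ^ n)⁻¹) * x⁻¹ := by
          rw [pow_succ']; group
      _ = x * (c ^ n * y) * x⁻¹ := by rw [ih]
      _ = (x * c ^ n) * y * x⁻¹ := by group
      _ = (c ^ n * x) * y * x⁻¹ := by rw [hcn]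
      _ = c ^ n * (x * y * x⁻¹) := by group
      _ = c ^ n * (c * y) := by rw [h]
      _ = c ^ (n + 1) * y := by rw [pow_succ]; group

theorem mul_pow_of_comm {x e c : G} (h : x * e * x⁻¹ = c * e) (hcx : c * x = x * c) (hce : c * e = e * c) :
    ∀ n : ℕ, ∃ m : ℕ, 2 * m = n * (n + 1) ∧ (x * e) ^ n = c ^ m * e ^ n * x ^ n := by
  intro n
  induction n with
  | zero => exact ⟨0, by simp, by simp⟩
  | succ n ih =>
    obtain ⟨m, hm, hpow⟩ := ih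
    refine ⟨m + (n + 1), by rw [mul_add, hm]; ring, ?_⟩
    have h1 := conj_pow_of_comm h hcx (n + 1)
    have h2 : x ^ (n + 1) * e = c ^ (n + 1) * e * x ^ (n + 1) := by
      calc x ^ (n + 1) * e = (x ^ (n + 1) * e * (x ^ (n + 1))⁻¹) * x ^ (n + 1) := by group
        _ = c ^ (n + 1) * e * x ^ (n + 1) := by rw [h1]
    have hce' : e ^ n * c ^ (n + 1) = c ^ (n + 1) * e ^ n :=
      (((show Commute c e from hce).pow_pow (n + 1) n).eq).symm
    calc (x * e) ^ (n + 1) = (x * e) ^ n * (x * e) := pow_succ _ _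
      _ = c ^ m * e ^ n * x ^ n * (x * e) := by rw [hpow]
      _ = c ^ m * e ^ n * (x ^ (n + 1) * e) := by rw [pow_succ x n]; group
      _ = c ^ m * e ^ n * (c ^ (n + 1) * e * x ^ (n + 1)) := by rw [h2]
      _ = c ^ m * (e ^ n * c ^ (n + 1)) * e * x ^ (n + 1) := by group
      _ = c ^ m * (c ^ (n + 1) * e ^ n) * e * x ^ (n + 1) := by rw [hce']
      _ = c ^ (m + (n + 1)) * e ^ (n + 1) * x ^ (n + 1) := by rw [pow_succ e n, pow_add c m (n + 1)]; group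

end aux

theorem core {G : Type*} [Group G] [Finite G] {p : ℕ} [Fact p.Prime] (hp : p ≠ 2) (P : Sylow p G)
    (Z : Subgroup G) (hZP : Z ≤ (P : Subgroup G))
    (hZc : ∀ c ∈ Z, ∀ y ∈ (P : Subgroup G), c * y = y * c)
    (hcomm : ∀ x ∈ (P : Subgroup G), ∀ y ∈ (P : Subgroup G), x * y * x⁻¹ * y⁻¹ ∈ Z)
    (hcen : ∀ y ∈ (P : Subgroup G), (∀ u ∈ (P : Subgroup G), y * u = u * y) → y ∈ Z)
    (hZcard : Nat.card Z = p) (hPcard : Nat.card (P : Subgroup G) = p ^ 3)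
    (x₀ : G) (hx₀ : x₀ ∈ (P : Subgroup G)) (hx₀p : x₀ ^ p ≠ 1)
    (z : G) (hz : z ∈ Z) (g : G) (hg : g * z * g⁻¹ ∈ (P : Subgroup G)) : g * z * g⁻¹ ∈ Z := by
  classical
  by_contra hz'Z
  set PG : Subgroup G := (P : Subgroup G) with hPG
  set z' := g * z * g⁻¹ with hz'
  have hp' : p.Prime := Fact.out
  have hZpow : ∀ c ∈ Z, c ^ p = 1 := by
    intro c hc
    have := pow_card_eq_one' (G := ↥Z) (x := ⟨c, hc⟩)
    rw [hZcard] at this
    exact congrArg Subtype.val this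
  have hZgen : ∀ c ∈ Z, c ≠ 1 → ∀ d ∈ Z, ∃ i : ℕ, c ^ i = d := by
    intro c hc hc1 d hd
    have ho : orderOf c = p := orderOf_eq_prime (hZpow c hc) hc1
    have hle : Subgroup.zpowers c ≤ Z := by rw [Subgroup.zpowers_le]; exact hc
    have heq : Subgroup.zpowers c = Z := by
      apply Subgroup.eq_of_le_of_card_ge hle
      rw [Nat.card_zpowers, ho, hZcard]
    have hd' : d ∈ Subgroup.zpowers c := by rw [heq]; exact hd
    have hd'' : d ∈ Submonoid.powers c := by rwa [mem_powers_iff_mem_zpowers]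
    exact hd''
  have hz1 : z ≠ 1 := by
    intro h
    apply hz'Z
    rw [hz', h]
    simp [Z.one_mem]
  have hzp : z ^ p = 1 := hZpow z hz
  have hzo : orderOf z = p := orderOf_eq_prime hzp hz1
  have hz'p : z' ^ p = 1 := by rw [hz', conj_pow, hzp]; group
  have hz'1 : z' ≠ 1 := fun h => hz'Z (by rw [h]; exact Z.one_mem)
  have hz'o : orderOf z' = p := orderOf_eq_prime hz'p hz'1
  have hzP : z ∈ PG := hZP hz
  have hzz' : z * z' = z' * z := hZc z hz z' hg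
  -- the plane E
  set E : Subgroup G := Subgroup.zpowers z ⊔ Subgroup.zpowers z' with hE
  have hEP : E ≤ PG :=
    sup_le (by rw [Subgroup.zpowers_le]; exact hzP) (by rw [Subgroup.zpowers_le]; exact hg)
  have hEpow : ∀ e ∈ E, e ^ p = 1 := pow_eq_one_of_mem_sup_zpowers hzp hz'p hzz'
  have hEcz' : ∀ e ∈ E, e * z' = z' * e := by
    intro e he
    obtain ⟨i, j, rfl⟩ := exists_zpow_mul_zpow_of_mem_sup hzz' e he
    have h1 : Commute z z' := hzz'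
    have h2 : Commute (z ^ i) z' := h1.zpow_left i
    have h3 : Commute (z' ^ j) z' := (Commute.refl z').zpow_left j
    exact (h2.mul_left h3).eq
  have hinf : Z ⊓ Subgroup.zpowers z' = ⊥ := inf_zpowers_eq_bot hz'o hz'Z
  have hZz : Subgroup.zpowers z = Z := by
    apply Subgroup.eq_of_le_of_card_ge (by rw [Subgroup.zpowers_le]; exact hz)
    rw [Nat.card_zpowers, hzo, hZcard]
  have hEcard : p ^ 2 ≤ Nat.card E := by
    have h1 := card_mul_set_mul_card_inf Z (Subgroup.zpowers z')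
    rw [hinf, Subgroup.card_bot, mul_one, hZcard, Nat.card_zpowers, hz'o] at h1
    have h2 : Nat.card ((Z : Set G) * (Subgroup.zpowers z' : Set G) : Set G) ≤ Nat.card (E : Set G) := by
      apply Nat.card_mono (Set.toFinite _)
      rw [hE, hZz]; exact mul_subset_sup _ _
    rw [h1] at h2
    rw [pow_two]; exact h2
  set CP : Subgroup G := PG ⊓ Subgroup.centralizer {z'} with hCP
  have hECP : E ≤ CP := by
    intro e he
    refine Subgroup.mem_inf.mpr ⟨hEP he, ?_⟩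
    rw [Subgroup.mem_centralizer_iff]
    intro y hy
    rw [Set.mem_singleton_iff] at hy
    rw [hy]; exact (hEcz' e he).symm
  have hCPne : CP ≠ PG := by
    intro h
    apply hz'Z
    apply hcen z' hg
    intro u hu
    have hu' : u ∈ CP := by rw [h]; exact hu
    have h2 := (Subgroup.mem_inf.mp hu').2
    rw [Subgroup.mem_centralizer_iff] at h2
    exact h2 z' (Set.mem_singleton _)
  have hCPcard : Nat.card CP = p ^ 2 := by
    have hd : Nat.card CP ∣ p ^ 3 := by rw [← hPcard]; exact Subgroup.card_dvd_of_le inf_le_left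
    obtain ⟨i, hi, hi'⟩ := (Nat.dvd_prime_pow hp').mp hd
    have h1 : p ^ 2 ≤ Nat.card CP := hEcard.trans (Subgroup.card_le_of_le hECP)
    have h3 : Nat.card CP ≠ p ^ 3 := by
      intro h; apply hCPne
      apply Subgroup.eq_of_le_of_card_ge inf_le_left
      rw [h, hPcard]
    have h2le := hp'.two_le
    interval_cases i
    · exfalso; rw [hi', pow_zero] at h1; nlinarith
    · exfalso; rw [hi', pow_one] at h1; nlinarith
    · exact hi'
    · exact absurd hi' h3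
  have hCPE : CP = E := by
    symm
    apply Subgroup.eq_of_le_of_card_ge hECP
    rw [hCPcard]; exact hEcard
  have hcentE : ∀ y ∈ PG, y * z' = z' * y → y ∈ E := by
    intro y hy hyz
    rw [← hCPE]
    refine Subgroup.mem_inf.mpr ⟨hy, ?_⟩
    rw [Subgroup.mem_centralizer_iff]
    intro u hu
    rw [Set.mem_singleton_iff] at hu
    rw [hu]; exact hyz.symm
  -- p-th powers are central
  have hpowZ : ∀ y ∈ PG, y ^ p ∈ Z := by
    intro y hy
    apply hcen _ (PG.pow_mem hy p)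
    intro u hu
    have hcZ : y * u * y⁻¹ * u⁻¹ ∈ Z := hcomm y hy u hu
    have h1 : y * u * y⁻¹ = (y * u * y⁻¹ * u⁻¹) * u := by group
    have h2 : (y * u * y⁻¹ * u⁻¹) * y = y * (y * u * y⁻¹ * u⁻¹) := hZc _ hcZ y hy
    have h3 := conj_pow_of_comm h1 h2 p
    rw [hZpow _ hcZ, one_mul] at h3
    calc y ^ p * u = (y ^ p * u * (y ^ p)⁻¹) * y ^ p := by group
      _ = u * y ^ p := by rw [h3]
  obtain ⟨j, hj⟩ := hZgen (x₀ ^ p) (hpowZ x₀ hx₀) hx₀p z hz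
  set x := x₀ ^ j with hx
  have hxP : x ∈ PG := PG.pow_mem hx₀ j
  have hxp : x ^ p = z := by rw [hx, ← pow_mul, mul_comm, pow_mul, hj]
  -- action of x on z'
  set c := x * z' * x⁻¹ * z'⁻¹ with hc
  have hcZ : c ∈ Z := hcomm x hxP z' hg
  have hxz' : x * z' * x⁻¹ = c * z' := by rw [hc]; group
  have hcx : c * x = x * c := hZc c hcZ x hxP
  have hc1 : c ≠ 1 := by
    intro h
    rw [h, one_mul] at hxz'
    have h1 : x * z' = z' * x := by
      calc x * z' = (x * z' * x⁻¹) * x := by group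
        _ = z' * x := by rw [hxz']
    have hxE := hcentE x hxP h1
    have h2 := hEpow x hxE
    rw [hxp] at h2
    exact hz1 h2
  obtain ⟨i₁, hi₁⟩ := hZgen c hcZ hc1 z hz
  set g₁ := x ^ i₁ with hg₁
  have hg₁P : g₁ ∈ PG := PG.pow_mem hxP i₁
  have h1z : g₁ * z * g₁⁻¹ = z := by
    have h := hZc z hz g₁ hg₁P
    calc g₁ * z * g₁⁻¹ = (z * g₁) * g₁⁻¹ := by rw [h]
      _ = z := by group
  have h1z' : g₁ * z' * g₁⁻¹ = z * z' := by
    have h := conj_pow_of_comm hxz' hcx i₁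
    rw [hi₁] at h
    exact h
  -- a second Sylow subgroup containing E with centre generated by z'
  set C : Subgroup G := Subgroup.centralizer {z'} with hC
  have hgPC : conjSub g PG ≤ C := by
    intro y hy
    rw [mem_conjSub] at hy
    rw [hC, Subgroup.mem_centralizer_iff]
    intro u hu
    rw [Set.mem_singleton_iff] at hu
    rw [hu]
    have h := hZc z hz _ hy
    calc z' * y = g * (z * (g⁻¹ * y * g)) * g⁻¹ := by rw [hz']; group
      _ = g * ((g⁻¹ * y * g) * z) * g⁻¹ := by rw [h]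
      _ = y * z' := by rw [hz']; group
  have hSylC : IsSylowIn p (conjSub g PG) C := by
    have h1 := (isSylowIn_top_of_sylow P).conjSub g
    have h2 : conjSub g (⊤ : Subgroup G) = ⊤ := by
      rw [eq_top_iff]
      intro y _
      rw [mem_conjSub]; exact Subgroup.mem_top _
    rw [h2] at h1
    exact h1.of_le hgPC le_top
  have hEC : E ≤ C := by
    intro e he
    rw [hC, Subgroup.mem_centralizer_iff]
    intro u hu
    rw [Set.mem_singleton_iff] at hu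
    rw [hu]; exact (hEcz' e he).symm
  obtain ⟨h, hhC, hle⟩ := hSylC.exists_conj_le hEC (P.isPGroup'.to_le hEP)
  set k := h⁻¹ * g with hk
  have hEk : E ≤ conjSub k PG := by
    rw [conjSub_le_iff, conjSub_mul] at hle
    exact hle
  have hkz : k * z * k⁻¹ = z' := by
    have h1 : z' * h = h * z' := by
      rw [hC, Subgroup.mem_centralizer_iff] at hhC
      exact hhC z' (Set.mem_singleton _)
    calc k * z * k⁻¹ = h⁻¹ * ((g * z * g⁻¹) * h) := by rw [hk]; group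
      _ = h⁻¹ * (z' * h) := by rw [← hz']
      _ = h⁻¹ * (h * z') := by rw [h1]
      _ = z' := by group
  have hzk : k⁻¹ * z * k ∈ PG := by
    have h1 : z ∈ conjSub k PG := hEk (Subgroup.mem_sup_left (Subgroup.mem_zpowers z))
    rwa [mem_conjSub] at h1
  set z₀ := k⁻¹ * z * k with hz₀
  have hz₀Z : z₀ ∉ Z := by
    intro h0
    obtain ⟨i, hi⟩ := hZgen z hz hz1 z₀ h0
    have h1 : z = z' ^ i := by
      calc z = k * z₀ * k⁻¹ := by rw [hz₀]; group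
        _ = k * z ^ i * k⁻¹ := by rw [hi]
        _ = (k * z * k⁻¹) ^ i := by rw [conj_pow]
        _ = z' ^ i := by rw [hkz]
    have h3 : z' ^ i ∈ Subgroup.zpowers z' := Subgroup.pow_mem _ (Subgroup.mem_zpowers z') i
    rw [← h1] at h3
    have h2 : z ∈ Z ⊓ Subgroup.zpowers z' := Subgroup.mem_inf.mpr ⟨hz, h3⟩
    rw [hinf, Subgroup.mem_bot] at h2
    exact hz1 h2
  obtain ⟨u₀, hu₀P, hu₀⟩ : ∃ u₀ ∈ PG, z₀ * u₀ ≠ u₀ * z₀ := by
    by_contra hcon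
    push Not at hcon
    exact hz₀Z (hcen z₀ hzk hcon)
  set d₀ := u₀ * z₀ * u₀⁻¹ * z₀⁻¹ with hd₀
  have hd₀Z : d₀ ∈ Z := hcomm u₀ hu₀P z₀ hzk
  have hu₀z₀ : u₀ * z₀ * u₀⁻¹ = d₀ * z₀ := by rw [hd₀]; group
  have hd₀1 : d₀ ≠ 1 := by
    intro h0
    apply hu₀
    rw [h0, one_mul] at hu₀z₀
    calc z₀ * u₀ = (u₀ * z₀ * u₀⁻¹) * u₀ := by rw [hu₀z₀]
      _ = u₀ * z₀ := by group
  obtain ⟨i₂, hi₂⟩ := hZgen d₀ hd₀Z hd₀1 z⁻¹ (Z.inv_mem hz)
  have hd₀u₀ : d₀ * u₀ = u₀ * d₀ := hZc d₀ hd₀Z u₀ hu₀P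
  set g₂₀ := u₀ ^ i₂ with hg₂₀
  have hg₂₀P : g₂₀ ∈ PG := PG.pow_mem hu₀P i₂
  have h20z₀ : g₂₀ * z₀ * g₂₀⁻¹ = z⁻¹ * z₀ := by
    have h0 := conj_pow_of_comm hu₀z₀ hd₀u₀ i₂
    rw [hi₂] at h0; exact h0
  have h20z : g₂₀ * z * g₂₀⁻¹ = z := by
    have h0 := hZc z hz g₂₀ hg₂₀P
    calc g₂₀ * z * g₂₀⁻¹ = (z * g₂₀) * g₂₀⁻¹ := by rw [h0]
      _ = z := by group
  set g₂ := k * g₂₀ * k⁻¹ with hg₂
  have h2z : g₂ * z * g₂⁻¹ = z'⁻¹ * z := by
    calc g₂ * z * g₂⁻¹ = k * (g₂₀ * (k⁻¹ * z * k) * g₂₀⁻¹) * k⁻¹ := by rw [hg₂]; group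
      _ = k * (z⁻¹ * z₀) * k⁻¹ := by rw [← hz₀, h20z₀]
      _ = (k * z * k⁻¹)⁻¹ * (k * z₀ * k⁻¹) := by group
      _ = z'⁻¹ * z := by rw [hkz, hz₀]; group
  have h2z' : g₂ * z' * g₂⁻¹ = z' := by
    calc g₂ * z' * g₂⁻¹ = k * (g₂₀ * (k⁻¹ * z' * k) * g₂₀⁻¹) * k⁻¹ := by rw [hg₂]; group
      _ = k * (g₂₀ * z * g₂₀⁻¹) * k⁻¹ := by rw [← hkz]; group
      _ = z' := by rw [h20z, hkz]
  -- the inverting element
  set w := g₁ * g₂ * g₁ with hw
  have hwz : w * z * w⁻¹ = z'⁻¹ := by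
    calc w * z * w⁻¹ = g₁ * (g₂ * (g₁ * z * g₁⁻¹) * g₂⁻¹) * g₁⁻¹ := by rw [hw]; group
      _ = g₁ * (z'⁻¹ * z) * g₁⁻¹ := by rw [h1z, h2z]
      _ = (g₁ * z' * g₁⁻¹)⁻¹ * (g₁ * z * g₁⁻¹) := by group
      _ = (z * z')⁻¹ * z := by rw [h1z', h1z]
      _ = z'⁻¹ := by group
  have hwz' : w * z' * w⁻¹ = z := by
    calc w * z' * w⁻¹ = g₁ * (g₂ * (g₁ * z' * g₁⁻¹) * g₂⁻¹) * g₁⁻¹ := by rw [hw]; group
      _ = g₁ * (g₂ * (z * z') * g₂⁻¹) * g₁⁻¹ := by rw [h1z']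
      _ = g₁ * ((g₂ * z * g₂⁻¹) * (g₂ * z' * g₂⁻¹)) * g₁⁻¹ := by group
      _ = g₁ * (z'⁻¹ * z * z') * g₁⁻¹ := by rw [h2z, h2z']
      _ = g₁ * z * g₁⁻¹ := by
        have h0 : z'⁻¹ * z * z' = z := by rw [mul_assoc, hzz', ← mul_assoc, inv_mul_cancel, one_mul]
        rw [h0]
      _ = z := h1z
  set n₀ := w * w with hn₀
  have hnz : n₀ * z * n₀⁻¹ = z⁻¹ := by
    calc n₀ * z * n₀⁻¹ = w * (w * z * w⁻¹) * w⁻¹ := by rw [hn₀]; group
      _ = (w * z' * w⁻¹)⁻¹ := by rw [hwz]; group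
      _ = z⁻¹ := by rw [hwz']
  have hnz' : n₀ * z' * n₀⁻¹ = z'⁻¹ := by
    calc n₀ * z' * n₀⁻¹ = w * (w * z' * w⁻¹) * w⁻¹ := by rw [hn₀]; group
      _ = w * z * w⁻¹ := by rw [hwz']
      _ = z'⁻¹ := hwz
  have hnZ : ∀ d ∈ Z, n₀ * d * n₀⁻¹ = d⁻¹ := by
    intro d hd
    obtain ⟨a, ha⟩ := hZgen z hz hz1 d hd
    rw [← ha, ← conj_pow, hnz, inv_pow]
  set x' := n₀ * x * n₀⁻¹ with hx'
  have hx'p : x' ^ p = z⁻¹ := by rw [hx', conj_pow, hxp, hnz]
  have hn_z' : n₀⁻¹ * z' * n₀ = z'⁻¹ := by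
    have h0 : n₀⁻¹ * z'⁻¹ * n₀ = z' := by rw [← hnz']; group
    calc n₀⁻¹ * z' * n₀ = (n₀⁻¹ * z'⁻¹ * n₀)⁻¹ := by group
      _ = z'⁻¹ := by rw [h0]
  have hn_z : n₀⁻¹ * z * n₀ = z⁻¹ := by
    have h0 : n₀⁻¹ * z⁻¹ * n₀ = z := by rw [← hnz]; group
    calc n₀⁻¹ * z * n₀ = (n₀⁻¹ * z⁻¹ * n₀)⁻¹ := by group
      _ = z⁻¹ := by rw [h0]
  have hx'z' : x' * z' * x'⁻¹ = c * z' := by
    calc x' * z' * x'⁻¹ = n₀ * (x * (n₀⁻¹ * z' * n₀) * x⁻¹) * n₀⁻¹ := by rw [hx']; group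
      _ = n₀ * (x * z' * x⁻¹)⁻¹ * n₀⁻¹ := by rw [hn_z']; group
      _ = n₀ * (c * z')⁻¹ * n₀⁻¹ := by rw [hxz']
      _ = (n₀ * z' * n₀⁻¹)⁻¹ * (n₀ * c * n₀⁻¹)⁻¹ := by group
      _ = z' * c := by rw [hnz', hnZ c hcZ, inv_inv, inv_inv]
      _ = c * z' := (hZc c hcZ z' hg).symm
  have hx'z : x' * z * x'⁻¹ = z := by
    have hxz : x * z⁻¹ * x⁻¹ = z⁻¹ := by
      have h0 := hZc z⁻¹ (Z.inv_mem hz) x hxP
      calc x * z⁻¹ * x⁻¹ = (z⁻¹ * x) * x⁻¹ := by rw [h0]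
        _ = z⁻¹ := by group
    calc x' * z * x'⁻¹ = n₀ * (x * (n₀⁻¹ * z * n₀) * x⁻¹) * n₀⁻¹ := by rw [hx']; group
      _ = n₀ * z⁻¹ * n₀⁻¹ := by rw [hn_z, hxz]
      _ = (n₀ * z * n₀⁻¹)⁻¹ := by group
      _ = z := by rw [hnz, inv_inv]
  -- the unipotent-type subgroup M
  have hcentZ : ∀ m : G, m * z * m⁻¹ = z → ∀ d ∈ Z, m * d * m⁻¹ = d := by
    intro m hm d hd
    obtain ⟨a, ha⟩ := hZgen z hz hz1 d hd
    rw [← ha, ← conj_pow, hm]
  let M : Subgroup G :=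
    { carrier := {m | m * z * m⁻¹ = z ∧ m * z' * m⁻¹ * z'⁻¹ ∈ Z}
      one_mem' := ⟨by group, by simp [Z.one_mem]⟩
      mul_mem' := by
        rintro a b ⟨ha1, ha2⟩ ⟨hb1, hb2⟩
        refine ⟨?_, ?_⟩
        · calc a * b * z * (a * b)⁻¹ = a * (b * z * b⁻¹) * a⁻¹ := by group
            _ = z := by rw [hb1, ha1]
        · have h1 : a * b * z' * (a * b)⁻¹ * z'⁻¹
              = (a * (b * z' * b⁻¹ * z'⁻¹) * a⁻¹) * (a * z' * a⁻¹ * z'⁻¹) := by group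
          rw [h1, hcentZ a ha1 _ hb2]
          exact Z.mul_mem hb2 ha2
      inv_mem' := by
        rintro a ⟨ha1, ha2⟩
        have h1 : a⁻¹ * z * a⁻¹⁻¹ = z := by
          calc a⁻¹ * z * a⁻¹⁻¹ = a⁻¹ * (a * z * a⁻¹) * a := by rw [ha1]; group
            _ = z := by group
        refine ⟨h1, ?_⟩
        have h2 : a⁻¹ * z' * a⁻¹⁻¹ * z'⁻¹ = a⁻¹ * (a * z' * a⁻¹ * z'⁻¹)⁻¹ * a⁻¹⁻¹ := by group
        rw [h2, hcentZ a⁻¹ h1 _ (Z.inv_mem ha2)]
        exact Z.inv_mem ha2 }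
  have hMmem : ∀ m, m ∈ M ↔ m * z * m⁻¹ = z ∧ m * z' * m⁻¹ * z'⁻¹ ∈ Z := fun m => Iff.rfl
  have hPM : PG ≤ M := by
    intro y hy
    rw [hMmem]
    refine ⟨?_, hcomm y hy z' hg⟩
    have h0 := hZc z hz y hy
    calc y * z * y⁻¹ = (z * y) * y⁻¹ := by rw [h0]
      _ = z := by group
  have hx'M : x' ∈ M := by
    rw [hMmem]
    refine ⟨hx'z, ?_⟩
    rw [hx'z']
    have : c * z' * z'⁻¹ = c := by group
    rw [this]; exact hcZ
  have hSylM : IsSylowIn p PG M := isSylowIn_of_sylow_le P hPM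
  have hx'pp : x' ^ (p ^ 2) = 1 := by rw [pow_two, pow_mul, hx'p, inv_pow, hzp, inv_one]
  have hRp : IsPGroup p (Subgroup.zpowers x') := by
    have hd : orderOf x' ∣ p ^ 2 := orderOf_dvd_of_pow_eq_one hx'pp
    obtain ⟨i, _, hi⟩ := (Nat.dvd_prime_pow hp').mp hd
    apply IsPGroup.of_card (n := i)
    rw [Nat.card_zpowers, hi]
  obtain ⟨m, hmM, hmle⟩ := hSylM.exists_conj_le (by rw [Subgroup.zpowers_le]; exact hx'M) hRp
  have hx''P : m * x' * m⁻¹ ∈ PG := hmle (conj_mem_conjSub (Subgroup.mem_zpowers x'))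
  set x'' := m * x' * m⁻¹ with hx''
  obtain ⟨hm1, hm2⟩ := (hMmem m).mp hmM
  set d := m * z' * m⁻¹ * z'⁻¹ with hd
  have hx''p : x'' ^ p = z⁻¹ := by
    rw [hx'', conj_pow, hx'p]
    calc m * z⁻¹ * m⁻¹ = (m * z * m⁻¹)⁻¹ := by group
      _ = z⁻¹ := by rw [hm1]
  have hmz' : m * z' * m⁻¹ = d * z' := by rw [hd]; group
  have hm_z' : m⁻¹ * z' * m = d⁻¹ * z' := by
    have h1 : m⁻¹ * d * m = d := by
      have h0 := hcentZ m hm1 d hm2
      calc m⁻¹ * d * m = m⁻¹ * (m * d * m⁻¹) * m := by rw [h0]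
        _ = d := by group
    calc m⁻¹ * z' * m = d⁻¹ * (d * (m⁻¹ * z' * m)) := by group
      _ = d⁻¹ * ((m⁻¹ * d * m) * (m⁻¹ * z' * m)) := by rw [h1]
      _ = d⁻¹ * (m⁻¹ * (d * z') * m) := by group
      _ = d⁻¹ * (m⁻¹ * (m * z' * m⁻¹) * m) := by rw [hmz']
      _ = d⁻¹ * z' := by group
  have hx''z' : x'' * z' * x''⁻¹ = c * z' := by
    have hx'd : x' * d⁻¹ * x'⁻¹ = d⁻¹ := hcentZ x' hx'z d⁻¹ (Z.inv_mem hm2)
    have hmc : m * c * m⁻¹ = c := hcentZ m hm1 c hcZ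
    have hmd : m * d⁻¹ * m⁻¹ = d⁻¹ := hcentZ m hm1 d⁻¹ (Z.inv_mem hm2)
    calc x'' * z' * x''⁻¹ = m * (x' * (m⁻¹ * z' * m) * x'⁻¹) * m⁻¹ := by rw [hx'']; group
      _ = m * ((x' * d⁻¹ * x'⁻¹) * (x' * z' * x'⁻¹)) * m⁻¹ := by rw [hm_z']; group
      _ = m * (d⁻¹ * (c * z')) * m⁻¹ := by rw [hx'd, hx'z']
      _ = (m * d⁻¹ * m⁻¹) * (m * c * m⁻¹) * (m * z' * m⁻¹) := by group
      _ = d⁻¹ * c * (d * z') := by rw [hmd, hmc, hmz']
      _ = c * z' := by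
        have h0 : d⁻¹ * c = c * d⁻¹ := hZc d⁻¹ (Z.inv_mem hm2) c (hZP hcZ)
        rw [h0]; group
  -- x'' = x * e with e in E
  have heP : x⁻¹ * x'' ∈ PG := PG.mul_mem (PG.inv_mem hxP) hx''P
  set e := x⁻¹ * x'' with he
  have hez' : e * z' = z' * e := by
    have h0 : e * z' * e⁻¹ = z' := by
      calc e * z' * e⁻¹ = x⁻¹ * (x'' * z' * x''⁻¹) * x := by rw [he]; group
        _ = x⁻¹ * (x * z' * x⁻¹) * x := by rw [hx''z', hxz']
        _ = z' := by group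
    calc e * z' = (e * z' * e⁻¹) * e := by group
      _ = z' * e := by rw [h0]
  have heE : e ∈ E := hcentE e heP hez'
  have hep : e ^ p = 1 := hEpow e heE
  have hxe : x'' = x * e := by rw [he]; group
  have hc₂Z : x * e * x⁻¹ * e⁻¹ ∈ Z := hcomm x hxP e heP
  obtain ⟨mm, hmm, hpw⟩ := mul_pow_of_comm (x := x) (e := e) (c := x * e * x⁻¹ * e⁻¹) (by group)
    (hZc _ hc₂Z x hxP) (hZc _ hc₂Z e heP) p
  have hpm : p ∣ mm := by
    have h1 : p ∣ 2 * mm := by rw [hmm]; exact dvd_mul_right p _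
    have h2 : Nat.Coprime p 2 := by
      rw [Nat.coprime_primes hp' Nat.prime_two]; exact hp
    exact h2.dvd_of_dvd_mul_left h1
  obtain ⟨q, hq⟩ := hpm
  have hc₂m : (x * e * x⁻¹ * e⁻¹) ^ mm = 1 := by rw [hq, pow_mul, hZpow _ hc₂Z, one_pow]
  rw [hc₂m, hep, one_mul, one_mul, ← hxe, hx''p, hxp] at hpw
  have hz2 : z ^ 2 = 1 := by
    rw [pow_two]
    calc z * z = z * z⁻¹ := by rw [hpw]
      _ = 1 := mul_inv_cancel z
  have hdvd : orderOf z ∣ 2 := orderOf_dvd_of_pow_eq_one hz2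
  rw [hzo] at hdvd
  exact hp ((Nat.prime_dvd_prime_iff_eq hp' Nat.prime_two).mp hdvd)

theorem result {G : Type*} [Group G] [Finite G]
    {p : ℕ} [Fact p.Prime] (hp : p ≠ 2) (P : Sylow p G) (hE : Cfsg.IsExtraspecial p ↥P)
    (hcard : Nat.card P = p ^ 3) (hexp : Monoid.exponent ↥P = p ^ 2) :
    Cfsg.IsStronglyClosed ((Subgroup.center ↥P).map (P : Subgroup G).subtype) (P : Subgroup G) := by
  classical
  have hp' : p.Prime := Fact.out
  obtain ⟨⟨hPp, hfr, hcm⟩, hcc⟩ := hE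
  have hZP : (Subgroup.center ↥P).map (P : Subgroup G).subtype ≤ (P : Subgroup G) := by
    rintro _ ⟨y, _, rfl⟩; exact y.2
  refine ⟨hZP, ?_⟩
  intro z hz g hg
  have hZc : ∀ c ∈ (Subgroup.center ↥P).map (P : Subgroup G).subtype, ∀ y ∈ (P : Subgroup G), c * y = y * c := by
    rintro _ ⟨c, hc, rfl⟩ y hy
    have := Subgroup.mem_center_iff.mp hc ⟨y, hy⟩
    exact (congrArg Subtype.val this).symm
  have hcomm : ∀ x ∈ (P : Subgroup G), ∀ y ∈ (P : Subgroup G),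
      x * y * x⁻¹ * y⁻¹ ∈ (Subgroup.center ↥P).map (P : Subgroup G).subtype := by
    intro x hx y hy
    have h1 : ⁅(⟨x, hx⟩ : ↥P), ⟨y, hy⟩⁆ ∈ commutator ↥P :=
      Subgroup.commutator_mem_commutator (Subgroup.mem_top _) (Subgroup.mem_top _)
    rw [hcm] at h1
    refine ⟨_, h1, ?_⟩
    simp [commutatorElement_def]
  have hcen : ∀ y ∈ (P : Subgroup G), (∀ u ∈ (P : Subgroup G), y * u = u * y) →
      y ∈ (Subgroup.center ↥P).map (P : Subgroup G).subtype := by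
    intro y hy h
    refine ⟨⟨y, hy⟩, ?_, rfl⟩
    exact Subgroup.mem_center_iff.mpr (fun u => Subtype.ext (h u u.2).symm)
  have hZcard : Nat.card ((Subgroup.center ↥P).map (P : Subgroup G).subtype) = p := by
    rw [Subgroup.card_map_of_injective (P : Subgroup G).subtype_injective]
    exact hcc
  obtain ⟨x₀, hx₀⟩ : ∃ x₀ : ↥P, x₀ ^ p ≠ 1 := by
    by_contra hcon
    push Not at hcon
    have h1 : Monoid.exponent ↥P ∣ p := Monoid.exponent_dvd_of_forall_pow_eq_one hcon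
    rw [hexp] at h1
    have h2 := Nat.le_of_dvd hp'.pos h1
    have h3 := hp'.two_le
    nlinarith
  exact core hp P _ hZP hZc hcomm hcen hZcard hcard x₀ x₀.2
    (fun h => hx₀ (Subtype.ext (by simpa using h))) z hz g hg

end Cfsg.Agent.S3053
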