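import Cfsg.Statements.S3054
import Cfsg.Agent.Lib.Helper5.Ex3Grp4

set_option autoImplicit false
open Cfsg

namespace Cfsg.Agent.S3054

open Cfsg.Agent.Lib.Helper5.Ex3Grp Cfsg.Agent.Lib.Helper5.Ex3Br

/-- Let p be an odd prime and G a finite group with a Sylow p-subgroup P that is extraspecial of order p³ and exponent p. Suppose P contains three distinct subgroups A of order p² (each is elementary abelian of rank 2) such that every automorphism of A of order p is induced by conjugation by an element of G; equivalently the automorphism group induced on A by its normalizer contains the special linear group of A. Then p ≤ 13. -/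
theorem result {G : Type*} [Group G] [Finite G]
    {p : ℕ} [Fact p.Prime] (hp : p ≠ 2) (P : Sylow p G) (hE : Cfsg.IsExtraspecial p ↥P)
    (hcard : Nat.card P = p ^ 3) (hexp : Monoid.exponent ↥P = p)
    (A : Fin 3 → Subgroup G) (hA : Function.Injective A) (hAP : ∀ i, A i ≤ (P : Subgroup G))
    (hAcard : ∀ i, Nat.card ↥(A i) = p ^ 2)
    (hSL : ∀ i, ∀ φ : MulAut ↥(A i), orderOf φ = p → ∃ g : G, ∀ a : ↥(A i), (φ a : G) = g * (a : G) * g⁻¹) :
    p ≤ 13 := by
  have hpP : p.Prime := Fact.out
  have hS := ex3_of_sylow P hE hcard hexp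
  have hcomm : commutator ↥(P : Subgroup G) =
      ((Subgroup.center ↥P).map (P : Subgroup G).subtype).subgroupOf (P : Subgroup G) := by
    have h1 : commutator ↥(P : Subgroup G) = Subgroup.center ↥(P : Subgroup G) := hE.1.2.2
    rw [h1]
    exact (Subgroup.comap_map_eq_self_of_injective (Subgroup.subtype_injective _) _).symm
  obtain ⟨a, u, u', k, ha, hu, hu', hk⟩ := exists_prim (p := p)
  choose x hx hxA hxZ φ hφ hT using fun i =>
    hS.plane_gtor hcomm (A i) (hAP i) (hAcard i) (hSL i) hk
  apply grp_le13 hp hS.abel_exp (hS.abel_card hcomm) (HE (P : Subgroup G)) (HE_coprime P) ha hu hu'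
    φ (fun i => Abelianization.of ⟨x i, hx i⟩) hφ hT
  intro i j hij n hn
  apply hij
  apply hA
  have h1 : Abelianization.of ((⟨x j, hx j⟩ : ↥(P : Subgroup G)) * (⟨x i, hx i⟩ ^ n)⁻¹) = 1 := by
    rw [map_mul, map_inv, map_pow, hn, mul_inv_cancel]
  rw [hS.of_eq_one hcomm] at h1
  have h2 : x j ∈ A i := by
    rw [hS.eq_Vsub_of_card (A i) (hAP i) (hAcard i) (hxA i) (hxZ i), mem_Vsub]
    refine ⟨_, h1, (n : ℤ), ?_⟩
    simp
  rw [hS.eq_Vsub_of_card (A i) (hAP i) (hAcard i) h2 (hxZ j),
    hS.eq_Vsub_of_card (A j) (hAP j) (hAcard j) (hxA j) (hxZ j)]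

end Cfsg.Agent.S3054
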