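import Cfsg.Statements.S3055
import Cfsg.Agent.Lib.Helper5.Ex3Grp3
import Cfsg.Agent.Lib.Helper5.Ex3Br

set_option autoImplicit false
open Cfsg

namespace Cfsg.Agent.S3055

open Cfsg.Agent.Lib.Helper5.Ex3Grp Cfsg.Agent.Lib.Helper5.Ex3Br

/-- Let p be an odd prime and G a finite group with a Sylow p-subgroup P that is extraspecial of order p³ and exponent p. If all nonidentity elements of P are conjugate in G, then p ≤ 7. -/
theorem result {G : Type*} [Group G] [Finite G]
    {p : ℕ} [Fact p.Prime] (hp : p ≠ 2) (P : Sylow p G) (hE : Cfsg.IsExtraspecial p ↥P)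
    (hcard : Nat.card P = p ^ 3) (hexp : Monoid.exponent ↥P = p)
    (hconj : ∀ x y : ↥P, x ≠ 1 → y ≠ 1 → ∃ g : G, g * (x : G) * g⁻¹ = (y : G)) :
    p ≤ 7 := by
  have hpP : p.Prime := Fact.out
  have hS := ex3_of_sylow P hE hcard hexp
  have hcomm : commutator ↥(P : Subgroup G) =
      ((Subgroup.center ↥P).map (P : Subgroup G).subtype).subgroupOf (P : Subgroup G) := by
    have h1 : commutator ↥(P : Subgroup G) = Subgroup.center ↥(P : Subgroup G) := hE.1.2.2
    rw [h1]
    exact (Subgroup.comap_map_eq_self_of_injective (Subgroup.subtype_injective _) _).symm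
  obtain ⟨a, u, u', k, ha, hu, hu', hk⟩ := exists_prim (p := p)
  obtain ⟨z', hz', hz'1⟩ : ∃ z' ∈ (Subgroup.center ↥P).map (P : Subgroup G).subtype, z' ≠ 1 := by
    have h1 : 1 < Nat.card ↥((Subgroup.center ↥P).map (P : Subgroup G).subtype) := by
      rw [hS.cardZ]; exact hpP.one_lt
    haveI : Finite ↥((Subgroup.center ↥P).map (P : Subgroup G).subtype) := inferInstance
    rw [Finite.one_lt_card_iff_nontrivial] at h1
    obtain ⟨w, hw⟩ := exists_ne (1 : ↥((Subgroup.center ↥P).map (P : Subgroup G).subtype))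
    exact ⟨w, w.2, fun h => hw (Subtype.ext h)⟩
  apply grp_le7 hp hS.abel_exp (hS.abel_card hcomm) (HE (P : Subgroup G)) (HE_coprime P) ha hu hu'
  intro e he
  obtain ⟨⟨x, hx⟩, rfl⟩ := of_surj e
  have hxZ : x ∉ (Subgroup.center ↥P).map (P : Subgroup G).subtype := by
    intro h
    exact he ((hS.of_eq_one hcomm _).mpr h)
  obtain ⟨h, hh⟩ := hconj ⟨z', hS.le hz'⟩ ⟨x, hx⟩ (fun h => hz'1 (congrArg Subtype.val h))
    (fun h => hxZ (by
      have := congrArg Subtype.val h
      simp only at this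
      rw [this]
      exact Subgroup.one_mem _))
  obtain ⟨z0, hz0, hz01, t, ht0, ht1⟩ := hS.exists_t_of_conj hx hxZ hz' hz'1 hh
  obtain ⟨m, hm, hm0, z, hz, hm1⟩ := hS.exists_normalizing_torus hx hxZ hz0 hz01 ht0 ht1 hk
  exact ⟨actE (P : Subgroup G) m hm, actE_mem_HE hm, hS.gtor hcomm hx hxZ hz0 hz01 hm hk hm0 hz hm1⟩

end Cfsg.Agent.S3055
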