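import Cfsg.Statements.S3057
import Mathlib
import Cfsg.Agent.S3056
import Cfsg.Agent.S0058
import Cfsg.Agent.Lib.Helper18.PCore
import Cfsg.Agent.Lib.Helper18.StronglyEmbedded
import Cfsg.Agent.Lib.Helper18.ThompsonReplacement
import Cfsg.Agent.Lib.Helper18.NoncyclicSup
import Cfsg.Agent.Lib.Helper29.OddCyclic
import Cfsg.Agent.Lib.Helper19.UniqueInvolution
import Cfsg.Agent.Lib.helper14.Quat

set_option autoImplicit false
open Cfsg

namespace Cfsg.Agent.S3057

open Cfsg.Agent.Lib.Helper18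

section pieces
variable {G : Type*} [Group G]

theorem orderOf_conj_h18 (g v : G) : orderOf (g * v * g⁻¹) = orderOf v := (MulAut.conj g).orderOf_eq v

theorem orderOf_conj_inv_h18 (g v : G) : orderOf (g⁻¹ * v * g) = orderOf v := by
  have h := orderOf_conj_h18 g⁻¹ v
  rwa [inv_inv] at h

theorem conjSub_zpowers_h18 (g v : G) :
    conjSub g (Subgroup.zpowers v) = Subgroup.zpowers (g * v * g⁻¹) :=
  MonoidHom.map_zpowers _ v

/-- uniqueness of the subgroup of order `p` inside `P`. -/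
def UniqIn (p : ℕ) (P : Subgroup G) : Prop :=
  ∀ H K : Subgroup G, H ≤ P → K ≤ P → Nat.card H = p → Nat.card K = p → H = K

variable [Finite G] {p : ℕ} [Fact p.Prime]

theorem not_conn_of_uniq (P : Sylow p G) (hP1 : (P : Subgroup G) ≠ ⊥) (hcore : Cfsg.pCore p G = ⊥)
    (huniq : UniqIn p (P : Subgroup G)) : ¬ Cfsg.IsSylowChainConnected p G := by
  have hp : p.Prime := Fact.out
  have hPdvd : p ∣ Nat.card (P : Subgroup G) := by
    rcases P.isPGroup'.card_eq_or_dvd with h0 | h0
    · exact absurd (Subgroup.card_eq_one.mp h0) hP1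
    · exact h0
  obtain ⟨y', hy'⟩ := exists_prime_orderOf_dvd_card' (G := ↥(P : Subgroup G)) p hPdvd
  have hyo : orderOf (y' : G) = p := (Subgroup.orderOf_coe y').trans hy'
  obtain ⟨y, hyP⟩ := y'
  simp only at hyo
  set Z := Subgroup.zpowers y with hZ
  have hZP : Z ≤ (P : Subgroup G) := Subgroup.zpowers_le.mpr hyP
  have hZcard : Nat.card Z = p := by rw [hZ, Nat.card_zpowers, hyo]
  have hkey1 : ∀ u ∈ (P : Subgroup G), orderOf u = p → Subgroup.zpowers u = Z := by
    intro u hu huo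
    exact huniq _ _ (Subgroup.zpowers_le.mpr hu) hZP (by rw [Nat.card_zpowers, huo]) hZcard
  set H := Subgroup.normalizer (Z : Set G) with hH
  have hPH : (P : Subgroup G) ≤ H := by
    intro s hs
    apply mem_normalizer_of_conjSub_le
    rw [hZ, conjSub_zpowers_h18, ← hZ]
    exact le_of_eq (hkey1 (s * y * s⁻¹)
      ((P : Subgroup G).mul_mem ((P : Subgroup G).mul_mem hs hyP) ((P : Subgroup G).inv_mem hs))
      (by rw [orderOf_conj_h18]; exact hyo))
  have hkey2 : ∀ v ∈ H, orderOf v = p → Subgroup.zpowers v = Z := by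
    intro v hv hvo
    obtain ⟨h, hh, hconj⟩ := Cfsg.Agent.S3056.exists_conj_mem_sylow P hPH hv hvo
    have h1 := hkey1 _ hconj (by rw [orderOf_conj_h18]; exact hvo)
    have h2 : conjSub h (Subgroup.zpowers v) = Z := by
      rw [conjSub_zpowers_h18]; exact h1
    have h3 : conjSub h⁻¹ Z = Z := conjSub_eq_of_mem_normalizer (H.inv_mem hh)
    calc Subgroup.zpowers v = conjSub h⁻¹ (conjSub h (Subgroup.zpowers v)) := by
          rw [conjSub_mul, inv_mul_cancel, conjSub_one]
      _ = Z := by rw [h2, h3]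
  apply Cfsg.Agent.S3056.backward H
  · intro htop
    have hZn : Z.Normal := Subgroup.normalizer_eq_top_iff.mp htop
    have hle : Z ≤ Cfsg.pCore p G := le_pCore hZn (P.isPGroup'.to_le hZP)
    rw [hcore, le_bot_iff] at hle
    rw [hle, Subgroup.card_bot] at hZcard
    exact hp.one_lt.ne hZcard
  · exact dvd_trans hPdvd (Subgroup.card_dvd_of_le hPH)
  · intro g hg hdvd
    apply hg
    obtain ⟨v', hv'⟩ := exists_prime_orderOf_dvd_card'
      (G := ↥(H ⊓ H.map (MulAut.conj g).toMonoidHom)) p hdvd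
    have hvo : orderOf (v' : G) = p := (Subgroup.orderOf_coe v').trans hv'
    obtain ⟨v, hvH, hvg⟩ := v'
    simp only at hvo
    have e1 := hkey2 v hvH hvo
    have hvg' : g⁻¹ * v * g ∈ H := mem_conjSub.mp hvg
    have e2 := hkey2 _ hvg' (by rw [orderOf_conj_inv_h18]; exact hvo)
    have e3 : conjSub g⁻¹ Z = Z := by
      have h0 := conjSub_zpowers_h18 g⁻¹ v
      rw [inv_inv, e1, e2] at h0
      exact h0
    have hgi : g⁻¹ ∈ H := mem_normalizer_of_conjSub_le (le_of_eq e3)
    have := H.inv_mem hgi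
    rwa [inv_inv] at this

theorem core_eq_bot_of_spe {H : Subgroup G} (hH : IsSPE p H) : Cfsg.pCore p G = ⊥ := by
  by_contra hne
  obtain ⟨S, hSH⟩ := hH.exists_sylow_le
  have hQn : (Cfsg.pCore p G).Normal := pCore_normal_h18 p G
  have hQp := pCore_isPGroup p G
  have hnorm : ∀ g : G, g ∈ Subgroup.normalizer ((Cfsg.pCore p G : Subgroup G) : Set G) := by
    intro g; rw [Subgroup.normalizer_eq_top]; trivial
  have hQS : Cfsg.pCore p G ≤ (S : Subgroup G) := by
    obtain ⟨x, _, hle⟩ := (isSylowIn_top_of_sylow S).exists_conj_le (R := Cfsg.pCore p G) le_top hQp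
    rwa [conjSub_eq_of_mem_normalizer (hnorm x)] at hle
  apply hH.1
  rw [eq_top_iff]
  intro g _
  apply hH.mem_of_le hQp hne (hQS.trans hSH)
  calc Cfsg.pCore p G = conjSub g (Cfsg.pCore p G) := (conjSub_eq_of_mem_normalizer (hnorm g)).symm
    _ ≤ conjSub g H := conjSub_mono (hQS.trans hSH)

theorem uniq_of_spe (hsol : Cfsg.IsPSolvable p G) (hdiv : p ∣ Nat.card G) {H : Subgroup G}
    (hH : IsSPE p H) (P : Sylow p G) (hPH : (P : Subgroup G) ≤ H) : UniqIn p (P : Subgroup G) := by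
  have hp : p.Prime := Fact.out
  by_contra hnu
  unfold UniqIn at hnu
  push Not at hnu
  obtain ⟨H₁, K₁, hH₁P, hK₁P, hH₁c, hK₁c, hne⟩ := hnu
  have hP1 : (P : Subgroup G) ≠ ⊥ := P.ne_bot_of_dvd_card hdiv
  haveI : Nontrivial ↥(P : Subgroup G) := (Subgroup.nontrivial_iff_ne_bot _).mpr hP1
  have hcn : Nontrivial (Subgroup.center ↥(P : Subgroup G)) := P.isPGroup'.center_nontrivial
  have hcp : IsPGroup p (Subgroup.center ↥(P : Subgroup G)) := P.isPGroup'.to_subgroup _
  have hcd : p ∣ Nat.card (Subgroup.center ↥(P : Subgroup G)) := by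
    rcases hcp.card_eq_or_dvd with h0 | h0
    · exact absurd hcn (not_nontrivial_iff_subsingleton.mpr (Nat.card_eq_one_iff_unique.mp h0).1)
    · exact h0
  obtain ⟨z', hz'⟩ := exists_prime_orderOf_dvd_card' (G := ↥(Subgroup.center ↥(P : Subgroup G))) p hcd
  have hzo : orderOf (((z' : ↥(P : Subgroup G)) : G)) = p :=
    ((Subgroup.orderOf_coe (z' : ↥(P : Subgroup G))).trans (Subgroup.orderOf_coe z')).trans hz'
  have hzc : ∀ u ∈ (P : Subgroup G), ((z' : ↥(P : Subgroup G)) : G) * u = u * ((z' : ↥(P : Subgroup G)) : G) := by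
    intro u hu
    have := Subgroup.mem_center_iff.mp z'.2 ⟨u, hu⟩
    exact (congrArg Subtype.val this).symm
  have hzP : ((z' : ↥(P : Subgroup G)) : G) ∈ (P : Subgroup G) := (z' : ↥(P : Subgroup G)).2
  generalize ((z' : ↥(P : Subgroup G)) : G) = z at hzo hzc hzP
  -- a subgroup of order p different from ⟨z⟩
  have hzcard : Nat.card (Subgroup.zpowers z) = p := by rw [Nat.card_zpowers, hzo]
  obtain ⟨Y, hYP, hYc, hYne⟩ : ∃ Y : Subgroup G, Y ≤ (P : Subgroup G) ∧ Nat.card Y = p ∧ Y ≠ Subgroup.zpowers z := by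
    by_cases h1 : H₁ = Subgroup.zpowers z
    · exact ⟨K₁, hK₁P, hK₁c, fun h2 => hne (h1.trans h2.symm)⟩
    · exact ⟨H₁, hH₁P, hH₁c, h1⟩
  obtain ⟨y, hyY, hy1⟩ : ∃ y ∈ Y, y ≠ 1 := by
    by_contra hcon
    push Not at hcon
    have : Y = ⊥ := by
      rw [eq_bot_iff]; intro x hx; rw [Subgroup.mem_bot]; exact hcon x hx
    rw [this, Subgroup.card_bot] at hYc
    exact hp.one_lt.ne hYc
  have hyo : orderOf y = p := by
    have h1 : orderOf y ∣ p := by rw [← hYc]; exact Subgroup.orderOf_dvd_natCard Y hyY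
    rcases (Nat.dvd_prime hp).mp h1 with h2 | h2
    · exact absurd (orderOf_eq_one_iff.mp h2) hy1
    · exact h2
  have hyzp : Subgroup.zpowers y = Y := by
    apply Subgroup.eq_of_le_of_card_ge (Subgroup.zpowers_le.mpr hyY)
    rw [Nat.card_zpowers, hyo, hYc]
  have hyP : y ∈ (P : Subgroup G) := hYP hyY
  have hyz : y ∉ Subgroup.zpowers z := by
    intro hmem
    apply hYne
    rw [← hyzp]
    apply Subgroup.eq_of_le_of_card_ge (Subgroup.zpowers_le.mpr hmem)
    rw [hzcard, Nat.card_zpowers, hyo]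
  have hzy : z * y = y * z := hzc y hyP
  set E := Subgroup.zpowers z ⊔ Subgroup.zpowers y with hE
  have hEP : E ≤ (P : Subgroup G) :=
    sup_le (Subgroup.zpowers_le.mpr hzP) (Subgroup.zpowers_le.mpr hyP)
  haveI hEc : IsMulCommutative ↥E := isMulCommutative_sup_zpowers hzy
  have hEnc : ¬ IsCyclic ↥E :=
    not_isCyclic_sup_zpowers hzo (by rw [← hyo]; exact pow_orderOf_eq_one y) hzy hyz
  -- the p-solvable series
  obtain ⟨n, Hc, h0, hlast, hmono, hnorm, hstep⟩ := hsol
  have hex : ∃ i : Fin n, ¬ p ∣ Nat.card (Hc i.castSucc) ∧ p ∣ Nat.card (Hc i.succ) := by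
    by_contra hcon
    push Not at hcon
    have hall : ∀ i : Fin (n + 1), ¬ p ∣ Nat.card (Hc i) := by
      intro i
      induction i using Fin.induction with
      | zero =>
        rw [h0, Subgroup.card_bot]
        intro h1
        exact hp.one_lt.ne' (Nat.dvd_one.mp h1)
      | succ i ih => exact hcon i ih
    apply hall (Fin.last n)
    rw [hlast, Subgroup.card_top]; exact hdiv
  obtain ⟨i, hi1, hi2⟩ := hex
  set M := Hc i.castSucc with hM
  set N := Hc i.succ with hN
  haveI hMn : M.Normal := hnorm _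
  haveI hNn : N.Normal := hnorm _
  have hMN : M ≤ N := hmono (le_of_lt Fin.castSucc_lt_succ)
  have hcardN := card_eq_card_mul_relIndex hMN
  have hprel : p ∣ M.relIndex N := by
    rw [hcardN] at hi2
    exact (hp.dvd_mul.mp hi2).resolve_left hi1
  obtain ⟨m, hm⟩ : ∃ m, M.relIndex N = p ^ m := by
    rcases hstep i with h | h
    · exact h
    · exfalso
      exact (Nat.Prime.coprime_iff_not_dvd hp).mp h.symm hprel
  have hEM : E ≤ Subgroup.normalizer (M : Set G) := by rw [Subgroup.normalizer_eq_top]; exact le_top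
  have hcop : (Nat.card ↥E).Coprime (Nat.card ↥M) := by
    obtain ⟨n', hn'⟩ := IsPGroup.iff_card.mp (P.isPGroup'.to_le hEP)
    rw [hn']
    exact Nat.Coprime.pow_left n' ((Nat.Prime.coprime_iff_not_dvd hp).mpr hi1)
  have hgen := Cfsg.Agent.S0058.result E M hEnc hEM hcop
  have hMH : M ≤ H := by
    rw [← hgen]
    apply iSup₂_le
    rintro e ⟨heE, he1⟩
    exact le_trans inf_le_right (hH.centralizer_le (hPH (hEP heE)) he1
      (P.isPGroup'.to_le (Subgroup.zpowers_le.mpr (hEP heE))))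
  have hQ : IsSylowIn p ((P : Subgroup G) ⊓ N) N :=
    (isSylowIn_top_of_sylow P).inf_of_normal le_top (by rw [Subgroup.normalizer_eq_top])
  set Q := (P : Subgroup G) ⊓ N with hQdef
  have hQne : Q ≠ ⊥ := by
    intro h0
    apply hQ.not_dvd
    rw [h0, Subgroup.relIndex_bot_left]; exact hi2
  have hNle : N ≤ M ⊔ Q := by
    rw [← Subgroup.relIndex_eq_one]
    have d1 : (M ⊔ Q).relIndex N ∣ M.relIndex N := Subgroup.relIndex_dvd_of_le_left N le_sup_left
    have d2 : (M ⊔ Q).relIndex N ∣ Q.relIndex N := Subgroup.relIndex_dvd_of_le_left N le_sup_right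
    rw [hm] at d1
    obtain ⟨j, _, hj⟩ := (Nat.dvd_prime_pow hp).mp d1
    rcases Nat.eq_zero_or_pos j with h0 | hpos
    · rw [hj, h0, pow_zero]
    · exfalso
      apply hQ.not_dvd
      exact dvd_trans (by rw [hj]; exact dvd_pow_self p hpos.ne') d2
  have hNH : N ≤ H := hNle.trans (sup_le hMH (inf_le_left.trans hPH))
  apply hH.1
  rw [eq_top_iff]
  intro g _
  obtain ⟨n', hn', hng⟩ := hQ.frattini (g := g) (by rw [Subgroup.normalizer_eq_top]; trivial)
  have h1 : n' * g ∈ H := hH.normalizer_le hQ.isPGroup hQne (inf_le_left.trans hPH) hng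
  have h2 : g = n'⁻¹ * (n' * g) := by group
  rw [h2]; exact H.mul_mem (H.inv_mem (hNH hn')) h1

theorem uniq_of_cyclic (P : Subgroup G) (hc : IsCyclic ↥P) : UniqIn p P := by
  have hp : p.Prime := Fact.out
  intro H K hHP hKP hH hK
  by_contra hne
  -- generators
  have gen : ∀ L : Subgroup G, Nat.card L = p → ∃ a ∈ L, orderOf a = p ∧ Subgroup.zpowers a = L := by
    intro L hL
    obtain ⟨a, haL, ha1⟩ : ∃ a ∈ L, a ≠ 1 := by
      by_contra hcon
      push Not at hcon
      have : L = ⊥ := by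
        rw [eq_bot_iff]; intro x hx; rw [Subgroup.mem_bot]; exact hcon x hx
      rw [this, Subgroup.card_bot] at hL
      exact hp.one_lt.ne hL
    have hao : orderOf a = p := by
      have h1 : orderOf a ∣ p := by rw [← hL]; exact Subgroup.orderOf_dvd_natCard L haL
      rcases (Nat.dvd_prime hp).mp h1 with h2 | h2
      · exact absurd (orderOf_eq_one_iff.mp h2) ha1
      · exact h2
    refine ⟨a, haL, hao, ?_⟩
    apply Subgroup.eq_of_le_of_card_ge (Subgroup.zpowers_le.mpr haL)
    rw [Nat.card_zpowers, hao, hL]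
  obtain ⟨a, haH, hao, haz⟩ := gen H hH
  obtain ⟨b, hbK, hbo, hbz⟩ := gen K hK
  have hab : a * b = b * a := by
    have hcomm : ∀ x y : ↥P, x * y = y * x := by
      intro x y
      obtain ⟨g, hg⟩ := IsCyclic.exists_generator (α := ↥P)
      obtain ⟨i, rfl⟩ := Subgroup.mem_zpowers_iff.mp (hg x)
      obtain ⟨j, rfl⟩ := Subgroup.mem_zpowers_iff.mp (hg y)
      rw [← zpow_add, ← zpow_add, add_comm]
    exact congrArg Subtype.val (hcomm ⟨a, hHP haH⟩ ⟨b, hKP hbK⟩)
  have hba : b ∉ Subgroup.zpowers a := by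
    intro hmem
    apply hne
    rw [← haz, ← hbz]
    symm
    apply Subgroup.eq_of_le_of_card_ge (Subgroup.zpowers_le.mpr hmem)
    rw [Nat.card_zpowers, Nat.card_zpowers, hao, hbo]
  have hnc := not_isCyclic_sup_zpowers hao (by rw [← hbo]; exact pow_orderOf_eq_one b) hab hba
  apply hnc
  have hle : Subgroup.zpowers a ⊔ Subgroup.zpowers b ≤ P :=
    sup_le (Subgroup.zpowers_le.mpr (hHP haH)) (Subgroup.zpowers_le.mpr (hKP hbK))
  exact Subgroup.isCyclic_of_le hle

theorem gen_of_card_prime {q : ℕ} (hq : q.Prime) (L : Subgroup G) (hL : Nat.card L = q) :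
    ∃ a ∈ L, orderOf a = q ∧ Subgroup.zpowers a = L := by
  obtain ⟨a, haL, ha1⟩ : ∃ a ∈ L, a ≠ 1 := by
    by_contra hcon
    push Not at hcon
    have : L = ⊥ := by
      rw [eq_bot_iff]; intro x hx; rw [Subgroup.mem_bot]; exact hcon x hx
    rw [this, Subgroup.card_bot] at hL
    exact hq.one_lt.ne hL
  have hao : orderOf a = q := by
    have h1 : orderOf a ∣ q := by rw [← hL]; exact Subgroup.orderOf_dvd_natCard L haL
    rcases (Nat.dvd_prime hq).mp h1 with h2 | h2
    · exact absurd (orderOf_eq_one_iff.mp h2) ha1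
    · exact h2
  refine ⟨a, haL, hao, ?_⟩
  apply Subgroup.eq_of_le_of_card_ge (Subgroup.zpowers_le.mpr haL)
  rw [Nat.card_zpowers, hao, hL]

theorem zmod_add_self_eq_zero (m : ℕ) [NeZero m] (i : ZMod (2 * m)) (h : i + i = 0) :
    i = 0 ∨ i = (m : ZMod (2 * m)) := by
  haveI : NeZero (2 * m) := ⟨by have := NeZero.ne m; omega⟩
  have hv : i.val < 2 * m := ZMod.val_lt i
  have h1 : (i + i).val = 0 := by rw [h]; exact ZMod.val_zero
  rw [ZMod.val_add] at h1
  have h2 : 2 * m ∣ i.val + i.val := Nat.dvd_of_mod_eq_zero h1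
  obtain ⟨c, hc⟩ := h2
  have hi : i = ((i.val : ℕ) : ZMod (2 * m)) := (ZMod.natCast_zmod_val i).symm
  have hc2 : c = 0 ∨ c = 1 := by
    rcases c with _ | _ | c
    · left; rfl
    · right; rfl
    · exfalso
      have : 2 * m * (c + 1 + 1) ≥ 2 * m * 2 := Nat.mul_le_mul_left _ (by omega)
      have hm : 0 < m := Nat.pos_of_ne_zero (NeZero.ne m)
      nlinarith
  rcases hc2 with h0 | h0
  · left
    have : i.val = 0 := by rw [h0] at hc; omega
    rw [hi, this, Nat.cast_zero]
  · right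
    have : i.val = m := by rw [h0] at hc; omega
    rw [hi, this]

theorem quat_involution (m : ℕ) [NeZero m] (x : QuaternionGroup m) (hx : orderOf x = 2) :
    x = QuaternionGroup.a (m : ZMod (2 * m)) := by
  cases x with
  | a i =>
    have h1 : (QuaternionGroup.a i : QuaternionGroup m) ^ 2 = 1 := by
      rw [← hx]; exact pow_orderOf_eq_one _
    rw [pow_two, QuaternionGroup.a_mul_a, QuaternionGroup.one_def] at h1
    have h2 : i + i = 0 := by
      injection h1
    rcases zmod_add_self_eq_zero m i h2 with h3 | h3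
    · exfalso
      rw [h3, QuaternionGroup.a_zero, orderOf_one] at hx
      omega
    · rw [h3]
  | xa i =>
    exfalso
    rw [QuaternionGroup.orderOf_xa] at hx
    omega

theorem uniq_of_quat (P : Subgroup G) (n : ℕ) (e : ↥P ≃* QuaternionGroup (2 ^ n)) : UniqIn 2 P := by
  haveI : NeZero (2 ^ n) := ⟨by positivity⟩
  intro H K hHP hKP hH hK
  obtain ⟨a, haH, hao, haz⟩ := gen_of_card_prime Nat.prime_two H hH
  obtain ⟨b, hbK, hbo, hbz⟩ := gen_of_card_prime Nat.prime_two K hK
  have ha2 : orderOf (e ⟨a, hHP haH⟩) = 2 := by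
    rw [e.orderOf_eq, Subgroup.orderOf_mk]; exact hao
  have hb2 : orderOf (e ⟨b, hKP hbK⟩) = 2 := by
    rw [e.orderOf_eq, Subgroup.orderOf_mk]; exact hbo
  have h1 := quat_involution _ _ ha2
  have h2 := quat_involution _ _ hb2
  have h3 : (⟨a, hHP haH⟩ : ↥P) = ⟨b, hKP hbK⟩ := e.injective (h1.trans h2.symm)
  have h4 : a = b := congrArg Subtype.val h3
  rw [← haz, ← hbz, h4]

theorem structure_of_uniq (P : Sylow p G) (hP1 : (P : Subgroup G) ≠ ⊥)
    (huniq : UniqIn p (P : Subgroup G)) :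
    IsCyclic ↥(P : Subgroup G) ∨
      (p = 2 ∧ ∃ n : ℕ, Nonempty (↥(P : Subgroup G) ≃* QuaternionGroup (2 ^ n))) := by
  have hp : p.Prime := Fact.out
  have huniq' : ∀ H K : Subgroup ↥(P : Subgroup G), Nat.card H = p → Nat.card K = p → H = K := by
    intro H K hH hK
    have h1 := huniq (H.map (P : Subgroup G).subtype) (K.map (P : Subgroup G).subtype)
      (Subgroup.map_subtype_le H) (Subgroup.map_subtype_le K)
      (by rw [Subgroup.card_map_of_injective (Subgroup.subtype_injective _)]; exact hH)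
      (by rw [Subgroup.card_map_of_injective (Subgroup.subtype_injective _)]; exact hK)
    exact Subgroup.map_injective (Subgroup.subtype_injective _) h1
  by_cases hp2 : p = 2
  · subst hp2
    have hP2 : IsPGroup 2 ↥(P : Subgroup G) := P.isPGroup'
    have hPdvd : 2 ∣ Nat.card ↥(P : Subgroup G) := by
      rcases hP2.card_eq_or_dvd with h0 | h0
      · exact absurd (Subgroup.card_eq_one.mp h0) hP1
      · exact h0
    obtain ⟨z, hz⟩ := exists_prime_orderOf_dvd_card' (G := ↥(P : Subgroup G)) 2 hPdvd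
    have hz1 : z ≠ 1 := by
      intro h; rw [h, orderOf_one] at hz; omega
    have hz2 : z * z = 1 := by
      have h0 := pow_orderOf_eq_one z
      rw [hz, pow_two] at h0
      exact h0
    have huq : ∀ u : ↥(P : Subgroup G), u * u = 1 → u = 1 ∨ u = z := by
      intro u hu
      by_cases hu1 : u = 1
      · left; exact hu1
      · right
        have huo : orderOf u = 2 := orderOf_eq_prime (by rw [pow_two]; exact hu) hu1
        have h1 : Subgroup.zpowers u = Subgroup.zpowers z :=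
          huniq' _ _ (by rw [Nat.card_zpowers, huo]) (by rw [Nat.card_zpowers, hz])
        have h2 : u ∈ Subgroup.zpowers z := by rw [← h1]; exact Subgroup.mem_zpowers u
        obtain ⟨k, hk⟩ := Subgroup.mem_zpowers_iff.mp h2
        rw [← zpow_mod_orderOf, hz, Nat.cast_ofNat] at hk
        rcases Int.emod_two_eq_zero_or_one k with h3 | h3
        · exfalso; rw [h3, zpow_zero] at hk; exact hu1 hk.symm
        · rw [h3, zpow_one] at hk; exact hk.symm
    by_cases hab : ∀ g h : ↥(P : Subgroup G), g * h = h * g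
    · left
      obtain ⟨a, -, ha⟩ := Cfsg.Agent.Lib.Helper19.cyclic_of_comm_unique_involution hP2 z huq ⊤
        (fun a _ b _ => hab a b)
      exact isCyclic_iff_exists_zpowers_eq_top.mpr ⟨a, ha.symm⟩
    · right
      refine ⟨rfl, ?_⟩
      obtain ⟨n, hn2, a, y, hao, -, hya, hyy, haz, -, hcard⟩ :=
        Cfsg.Agent.Lib.Helper19.quaternion_structure hP2 z hz1 hz2 huq hab
      have hn : n - 1 + 1 = n := by omega
      have hord : orderOf a = 2 * 2 ^ (n - 1) := by rw [hao, ← pow_succ', hn]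
      have hw : y * y = a ^ (2 ^ (n - 1)) := by rw [hyy, haz]
      obtain ⟨hc, ⟨e⟩⟩ := Cfsg.Agent.Lib.helper14.quaternion_closure (2 ^ (n - 1)) Nat.one_le_two_pow a y hord hw hya
      have htop : Subgroup.closure ({a, y} : Set ↥(P : Subgroup G)) = ⊤ := by
        apply Subgroup.eq_top_of_card_eq
        rw [hc, hcard]
        have : n + 1 = (n - 1) + 2 := by omega
        rw [this, pow_add]; ring
      exact ⟨n - 1, ⟨(Subgroup.topEquiv.symm.trans (MulEquiv.subgroupCongr htop.symm)).trans e⟩⟩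
  · left
    exact Cfsg.Agent.Lib.Helper29.isCyclic_of_unique_subgroup_odd p hp2 P.isPGroup' huniq'


end pieces

theorem result {G : Type*} [Group G] [Finite G]
    (p : ℕ) [Fact p.Prime] (hdiv : p ∣ Nat.card G) (hsol : Cfsg.IsPSolvable p G) (P : Sylow p G) :
    ¬ Cfsg.IsSylowChainConnected p G ↔
      Cfsg.pCore p G = ⊥ ∧ (IsCyclic ↥P ∨ (p = 2 ∧ ∃ n : ℕ, Nonempty (↥P ≃* QuaternionGroup (2 ^ n)))) := by
  have hp : p.Prime := Fact.out
  constructor
  · intro hnc
    obtain ⟨H, hH⟩ : ∃ H : Subgroup G, IsSPE p H := Cfsg.Agent.S3056.forward hnc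
    obtain ⟨S, hSH⟩ := hH.exists_sylow_le
    refine ⟨core_eq_bot_of_spe hH, ?_⟩
    have hu := uniq_of_spe hsol hdiv hH S hSH
    have hS1 : (S : Subgroup G) ≠ ⊥ := S.ne_bot_of_dvd_card hdiv
    have e0 : ↥(P : Subgroup G) ≃* ↥(S : Subgroup G) := Sylow.equiv P S
    rcases structure_of_uniq S hS1 hu with hc | ⟨h2, n, ⟨e⟩⟩
    · left
      exact isCyclic_of_surjective e0.symm e0.symm.surjective
    · right
      exact ⟨h2, n, ⟨e0.trans e⟩⟩
  · rintro ⟨hcore, hstruct⟩
    have hP1 := P.ne_bot_of_dvd_card hdiv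
    apply not_conn_of_uniq P hP1 hcore
    rcases hstruct with hc | ⟨h2, n, ⟨e⟩⟩
    · exact uniq_of_cyclic _ hc
    · subst h2
      exact uniq_of_quat _ n e

end Cfsg.Agent.S3057
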