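import Cfsg.Statements.S3059
import Cfsg.Agent.Lib.Helper18.Isolated
import Cfsg.Agent.Lib.Helper18.PPrimeCore

set_option autoImplicit false
open Cfsg

namespace Cfsg.Agent.S3059

open Cfsg.Agent.Lib.Helper18

theorem ne_bot_of_isSylowIn {G : Type*} [Group G] [Finite G] {p : ℕ} {Q K : Subgroup G}
    (h : IsSylowIn p Q K) (hp : p ∣ Nat.card K) : Q ≠ ⊥ := by
  intro hQ
  apply h.not_dvd
  rw [hQ, Subgroup.relIndex_bot_left]
  exact hp

theorem dvd_card_of_ne_bot {G : Type*} [Group G] [Finite G] {p : ℕ} [Fact p.Prime] {Q : Subgroup G}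
    (hQ : IsPGroup p Q) (hne : Q ≠ ⊥) : p ∣ Nat.card Q := by
  rcases hQ.card_eq_or_dvd with h | h
  · exact absurd (Subgroup.card_eq_one.mp h) hne
  · exact h

theorem result {G : Type*} [Group G] [Finite G]
    (p : ℕ) [Fact p.Prime] (H : Subgroup G) (hH : H ≠ ⊤) (hpH : p ∣ Nat.card H)
    (hse : ∀ g : G, g ∉ H → ¬ p ∣ Nat.card ↥(H ⊓ H.map (MulAut.conj g).toMonoidHom))
    (N : Subgroup G) [N.Normal] (hN : p ∣ Nat.card N) :
    H ⊔ Subgroup.closure {g : G | g ∈ N ∧ (orderOf g).Coprime p} = ⊤ := by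
  have hone : ∀ Q : Subgroup G, Q ≤ H → Q ≠ ⊥ → IsPGroup p Q → Subgroup.normalizer (Q : Set G) ≤ H := by
    intro Q hQH hQne hQp g hg
    by_contra hgH
    apply hse g hgH
    have h1 : Q ≤ H ⊓ H.map (MulAut.conj g).toMonoidHom := by
      refine le_inf hQH ?_
      have h2 : conjSub g Q = Q := conjSub_eq_of_mem_normalizer hg
      have h3 : conjSub g Q ≤ conjSub g H := conjSub_mono hQH
      rw [h2] at h3
      exact h3
    exact dvd_trans (dvd_card_of_ne_bot hQp hQne) (Subgroup.card_dvd_of_le h1)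
  obtain ⟨S0⟩ : Nonempty (Sylow p ↥H) := inferInstance
  have hS := isSylowIn_of_sylow S0
  set S := (S0 : Subgroup ↥H).map H.subtype with hSdef
  have hSne : S ≠ ⊥ := ne_bot_of_isSylowIn hS hpH
  obtain ⟨T, hT, hST⟩ := exists_isSylowIn_ge (le_top : S ≤ ⊤) hS.isPGroup
  have hSeqT : S = T := by
    by_contra hne
    have hlt : S < T := lt_of_le_of_ne hST hne
    obtain ⟨z, hzT, hzN, hzS⟩ := exists_mem_normalizer_not_mem_of_lt_pGroup hT.isPGroup hlt
    have hzH : z ∈ H := hone S hS.le hSne hS.isPGroup hzN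
    have hle : S ⊔ Subgroup.zpowers z ≤ T := sup_le hST (by rw [Subgroup.zpowers_le]; exact hzT)
    have hleH : S ⊔ Subgroup.zpowers z ≤ H := sup_le hS.le (by rw [Subgroup.zpowers_le]; exact hzH)
    have := hS.eq_of_le hleH (hT.isPGroup.to_le hle) le_sup_left
    apply hzS
    rw [← this]
    exact (le_sup_right : Subgroup.zpowers z ≤ S ⊔ Subgroup.zpowers z) (Subgroup.mem_zpowers z)
  have hStop : IsSylowIn p S ⊤ := hSeqT ▸ hT
  have hNn : (⊤ : Subgroup G) ≤ Subgroup.normalizer (N : Set G) := Subgroup.le_normalizer_of_normal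
  have hR : IsSylowIn p (S ⊓ N) N := hStop.inf_of_normal le_top hNn
  have hRne : S ⊓ N ≠ ⊥ := ne_bot_of_isSylowIn hR hN
  have hRH : S ⊓ N ≤ H := le_trans inf_le_left hS.le
  have hNR : Subgroup.normalizer ((S ⊓ N : Subgroup G) : Set G) ≤ H :=
    hone _ hRH hRne hR.isPGroup
  set O := Subgroup.closure {g : G | g ∈ N ∧ (orderOf g).Coprime p} with hO
  have hON : O ≤ N := by
    rw [hO, Subgroup.closure_le]
    intro g hg
    exact hg.1
  have hLN : (S ⊓ N) ⊔ O ≤ N := sup_le inf_le_right hON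
  have hidx : ((S ⊓ N) ⊔ O).relIndex N = 1 := by
    rw [Nat.eq_one_iff_not_exists_prime_dvd]
    intro q hq hdvd
    by_cases hqp : q = p
    · subst hqp
      exact hR.not_dvd (dvd_trans hdvd (Subgroup.relIndex_dvd_of_le_left N le_sup_left))
    · haveI : Fact q.Prime := ⟨hq⟩
      obtain ⟨Q0⟩ : Nonempty (Sylow q ↥N) := inferInstance
      have hQ := isSylowIn_of_sylow Q0
      have hQO : (Q0 : Subgroup ↥N).map N.subtype ≤ O := by
        intro y hy
        apply Subgroup.subset_closure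
        refine ⟨hQ.le hy, ?_⟩
        obtain ⟨k, hk⟩ := (IsPGroup.iff_orderOf.mp hQ.isPGroup) ⟨y, hy⟩
        have hk' : orderOf y = q ^ k := by
          rw [← hk]; exact (Subgroup.orderOf_mk y hy).symm
        rw [hk']
        apply Nat.Coprime.pow_left
        exact (Nat.coprime_primes hq (Fact.out : p.Prime)).mpr hqp
      exact hQ.not_dvd (dvd_trans hdvd (Subgroup.relIndex_dvd_of_le_left N (le_trans hQO le_sup_right)))
  have hNle : N ≤ H ⊔ O := by
    rw [Subgroup.relIndex_eq_one] at hidx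
    exact le_trans hidx (sup_le_sup_right hRH O)
  rw [eq_top_iff]
  intro g _
  obtain ⟨n, hn, hng⟩ := hR.frattini (hNn (Subgroup.mem_top g))
  have h1 : n * g ∈ H ⊔ O := (le_sup_left : H ≤ H ⊔ O) (hNR hng)
  have h2 : n⁻¹ ∈ H ⊔ O := hNle (N.inv_mem hn)
  have : g = n⁻¹ * (n * g) := by group
  rw [this]
  exact Subgroup.mul_mem _ h2 h1

end Cfsg.Agent.S3059
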