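import Cfsg.Statements.S3062
import Mathlib.Data.Set.Finite.Lemmas
import Cfsg.Agent.S3061
import Cfsg.Agent.Lib.Helper18.ThompsonReplacement

set_option autoImplicit false
open Cfsg

namespace Cfsg.Agent.S3062

open Cfsg.Agent.Lib.Helper18 Cfsg.Agent.S3061

theorem family_conj {S : Type*} [Group S] {A : Subgroup S} (hA : A ∈ Cfsg.dStarFamily S) (g : S) :
    conjSub g A ∈ Cfsg.dStarFamily S := by
  have h1 : InD ⊤ A := ⟨le_top, hA.1, fun x _ => hA.2 x⟩
  have h2 := h1.conj (Subgroup.mem_top g)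
  exact ⟨h2.2.1, fun x => h2.2.2 x (Subgroup.mem_top x)⟩

theorem dStar_normal (S : Type*) [Group S] : (Cfsg.dStar S).Normal := by
  have key : ∀ g : S, conjSub g (Cfsg.dStar S) ≤ Cfsg.dStar S := by
    intro g
    rw [conjSub_le_iff]
    unfold Cfsg.dStar
    apply sSup_le
    intro A hA
    rw [← conjSub_le_iff]
    exact le_sSup (family_conj hA g)
  exact ⟨fun n hn g => key g (conj_mem_conjSub hn)⟩

theorem comm_of_class_two {S : Type*} [Group S] [Finite S] {p : ℕ} [Fact p.Prime] (hS : IsPGroup p S)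
    (A : Subgroup S) (hAab : IsMulCommutative A)
    (hn : Cfsg.dStar S ≤ Subgroup.normalizer (A : Set S)) :
    Cfsg.dStar S ≤ Subgroup.centralizer (A : Set S) := by
  have hD := Cfsg.Agent.S3061.result hS
  haveI := dStar_normal S
  set D := Cfsg.dStar S with hDdef
  have hcl := class_two_of_sup (D ⊔ A) D A le_sup_left le_sup_right hD.1 hAab
    Subgroup.le_normalizer_of_normal (sup_le hn Subgroup.le_normalizer) rfl
  rw [Subgroup.le_centralizer_iff]
  intro a ha
  rw [Subgroup.mem_centralizer_iff]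
  intro d hd
  have hle : D ⊔ Subgroup.zpowers a ≤ D ⊔ A := sup_le_sup_left (by
    rw [Subgroup.zpowers_le]; exact ha) D
  have hcl' : ⁅⁅D ⊔ Subgroup.zpowers a, D ⊔ Subgroup.zpowers a⁆, D ⊔ Subgroup.zpowers a⁆ = ⊥ := by
    rw [eq_bot_iff, ← hcl]
    exact Subgroup.commutator_mono (Subgroup.commutator_mono hle hle) hle
  exact hD.2 a hcl' d hd

theorem dStar_le_maxAbelian {S : Type*} [Group S] [Finite S] {p : ℕ} [Fact p.Prime] (hS : IsPGroup p S) :
    ∀ A ∈ Cfsg.maxAbelianSubgroups S, Cfsg.dStar S ≤ A := by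
  have hD := Cfsg.Agent.S3061.result hS
  haveI := dStar_normal S
  by_contra hcon
  push Not at hcon
  obtain ⟨A₀, hA₀, hA₀D⟩ := hcon
  obtain ⟨A, ⟨hA, hAD⟩, hmax⟩ := Set.exists_max_image
    {A : Subgroup S | A ∈ Cfsg.maxAbelianSubgroups S ∧ ¬ Cfsg.dStar S ≤ A}
    (fun A => Nat.card ↥(A ⊓ Cfsg.dStar S)) (Set.toFinite _) ⟨A₀, hA₀, hA₀D⟩
  by_cases hn : Cfsg.dStar S ≤ Subgroup.normalizer (A : Set S)
  · have h1 := comm_of_class_two hS A hA.1 hn
    rw [centralizer_eq_of_mem_maxAbelian hA] at h1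
    exact hAD h1
  · obtain ⟨A', hA', hlt, hA'n⟩ := thompson_replacement hS hA hD.1 Subgroup.le_normalizer_of_normal hn
    by_cases hbad : Cfsg.dStar S ≤ A'
    · exact hn (le_trans hbad hA'n)
    · have h1 := hmax A' ⟨hA', hbad⟩
      have h2 := Subgroup.eq_of_le_of_card_ge hlt.le h1
      exact (ne_of_lt hlt) h2

theorem result {S : Type*} [Group S] [Finite S] {p : ℕ} [Fact p.Prime]
    (hS : IsPGroup p S) :
    Subgroup.center S ≤ Cfsg.dStar S ∧
    Cfsg.dStar S ≤ Cfsg.thompsonSubgroupA S ⊓ Subgroup.centralizer (Cfsg.thompsonSubgroupA S : Set S) ∧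
    ∀ A : Subgroup S, A.Normal → IsMulCommutative A →
      (∀ B : Subgroup S, B.Normal → IsMulCommutative B → A ≤ B → B = A) → Cfsg.dStar S ≤ A := by
  have hD := Cfsg.Agent.S3061.result hS
  haveI := dStar_normal S
  refine ⟨?_, ?_, ?_⟩
  · apply le_sSup
    refine ⟨inferInstance, ?_⟩
    intro x _ a ha
    exact (Subgroup.mem_center_iff.mp ha x).symm
  · have hle := dStar_le_maxAbelian hS
    obtain ⟨A, hA⟩ := exists_mem_maxAbelian (G := S)
    refine le_inf (le_trans (hle A hA) (le_sSup hA)) ?_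
    rw [Subgroup.le_centralizer_iff]
    unfold Cfsg.thompsonSubgroupA
    apply sSup_le
    intro B hB
    exact le_trans (Subgroup.le_centralizer_iff_isMulCommutative.mpr hB.1)
      (Subgroup.centralizer_le (by exact_mod_cast hle B hB))
  · intro A hAn hAab hAmax
    have h1 := comm_of_class_two hS A hAab Subgroup.le_normalizer_of_normal
    have hBab : IsMulCommutative ↥(A ⊔ Cfsg.dStar S) :=
      isMulCommutative_sup_of_le_centralizer hAab hD.1 h1
    have hBn : (A ⊔ Cfsg.dStar S).Normal := inferInstance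
    have := hAmax _ hBn hBab le_sup_left
    rw [← this]
    exact le_sup_right

end Cfsg.Agent.S3062
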