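import Cfsg.Statements.S3063
import Cfsg.Agent.Lib.Helper1.GillamRepl

set_option autoImplicit false
open Cfsg
open Cfsg.Agent.Lib.Helper1 Cfsg.Agent.Lib.Helper18

namespace Cfsg.Agent.S3063

/-- A weak replacement Theorem for metabelian p-groups: let S be a finite p-group whose derived subgroup is abelian and A an abelian subgroup of S of largest possible order. Then the normal closure of A in S contains an abelian subgroup B of the same order as A that is normal in S. -/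
theorem result {S : Type*} [Group S] [Finite S] {p : ℕ} [Fact p.Prime]
    (hS : IsPGroup p S) (hmeta : IsMulCommutative ↥(commutator S))
    (A : Subgroup S) (hA : A ∈ Cfsg.maxAbelianSubgroups S) :
    ∃ B ∈ Cfsg.maxAbelianSubgroups S, B.Normal ∧ B ≤ Subgroup.normalClosure (A : Set S) := by
  classical
  obtain ⟨Q, hQdef⟩ : ∃ Q : Subgroup S, Q = commutator S := ⟨_, rfl⟩
  have hQn : Q.Normal := by rw [hQdef]; infer_instance
  have hQab : IsMulCommutative Q := by rw [hQdef]; exact hmeta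
  have hQc : ∀ s ∈ Q, ∀ t ∈ Q, s * t = t * s := by
    intro s hs t ht
    have := (Subgroup.le_centralizer_iff_isMulCommutative.mpr hQab) hs
    rw [Subgroup.mem_centralizer_iff] at this
    exact (this t ht).symm
  have hcomm : ∀ x a : S, x * a * x⁻¹ * a⁻¹ ∈ Q := by
    intro x a
    have := Subgroup.commutator_mem_commutator (Subgroup.mem_top x) (Subgroup.mem_top a)
    rw [commutatorElement_def] at this
    rw [hQdef, commutator_def]; exact this
  obtain ⟨n, hn⟩ : ∃ n, Subgroup.upperCentralSeries S n = ⊤ := (hS.isNilpotent).nilpotent'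
  obtain ⟨N, hN⟩ : ∃ N : Subgroup S, N = Subgroup.normalClosure (A : Set S) := ⟨_, rfl⟩
  have hNn : N.Normal := by rw [hN]; exact Subgroup.normalClosure_normal
  have hZn : ∀ j, (Subgroup.upperCentralSeries S j).Normal := fun j => inferInstance
  let P : Subgroup S → ℕ := fun B =>
    ∑ j ∈ Finset.range (n + 1), Nat.card ↥(B ⊓ Q ⊓ Subgroup.upperCentralSeries S j)
  have : Nonempty {B : Subgroup S // B ∈ maxAbelianSubgroups S ∧ B ≤ N} :=
    ⟨⟨A, hA, by rw [hN]; exact Subgroup.le_normalClosure⟩⟩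
  obtain ⟨⟨A₁, hA₁, hA₁N⟩, hmax⟩ := Finite.exists_max
    (fun B : {B : Subgroup S // B ∈ maxAbelianSubgroups S ∧ B ≤ N} => P B.1)
  have hmax' : ∀ B ∈ maxAbelianSubgroups S, B ≤ N → P B ≤ P A₁ :=
    fun B hB hBN => hmax ⟨B, hB, hBN⟩
  have hconjN : ∀ x : S, A₁ ⊔ A₁.map (MulAut.conj x).toMonoidHom ≤ N := by
    intro x
    refine sup_le hA₁N ?_
    rintro _ ⟨a, ha, rfl⟩
    exact hNn.conj_mem a (hA₁N ha) x
  have hQN : Q ≤ Subgroup.normalizer (A₁ : Set S) := by
    by_contra hBA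
    have hAB : A₁ ≤ Subgroup.normalizer (Q : Set S) := by
      rw [Subgroup.normalizer_eq_top]; exact le_top
    obtain ⟨x, hxQ, hxA, hxN⟩ := exists_thompson_element hS hAB hBA
    obtain ⟨A', hA', h1, h2, h3⟩ :=
      gen_replacement hA₁ hQab x (fun a _ => hcomm x a) hxN
    have hA'N : A' ≤ N := le_trans h3 (hconjN x)
    have hle := hmax' A' hA' hA'N
    have hsub : ∀ j, A₁ ⊓ Q ⊓ Subgroup.upperCentralSeries S j ≤ A' ⊓ Q ⊓ Subgroup.upperCentralSeries S j := by
      intro j d hd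
      refine ⟨⟨h2 d hd.1.1 ?_, hd.1.2⟩, hd.2⟩
      have : x * d * x⁻¹ * d⁻¹ = 1 := by
        rw [hQc x hxQ d hd.1.2]; group
      rw [this]; exact A₁.one_mem
    have hlt : P A₁ < P A' := by
      apply Finset.sum_lt_sum
      · intro j _
        exact Subgroup.card_le_of_le (hsub j)
      · refine ⟨n, Finset.self_mem_range_succ n, ?_⟩
        refine lt_of_le_of_ne (Subgroup.card_le_of_le (hsub n)) ?_
        intro hcard
        have heq := Subgroup.eq_of_le_of_card_ge (hsub n) hcard.ge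
        obtain ⟨a₀, ha₀, hxa₀⟩ := not_le_normalizer_iff_exists hxA
        have hmem : x * a₀ * x⁻¹ * a₀⁻¹ ∈ A' ⊓ Q ⊓ Subgroup.upperCentralSeries S n :=
          ⟨⟨h1 a₀ ha₀, hcomm x a₀⟩, by rw [hn]; trivial⟩
        rw [← heq] at hmem
        apply hxa₀
        have : x * a₀ * x⁻¹ = (x * a₀ * x⁻¹ * a₀⁻¹) * a₀ := by group
        rw [this]
        exact A₁.mul_mem hmem.1.1 ha₀
    omega
  have key : ∀ x : S, ∀ j ∈ Finset.range (n + 1),
      (∀ d ∈ A₁ ⊓ Q ⊓ Subgroup.upperCentralSeries S j, x * d * x⁻¹ ∈ A₁ ⊓ Q ⊓ Subgroup.upperCentralSeries S j) →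
      ∀ a ∈ A₁, x * a * x⁻¹ * a⁻¹ ∈ Subgroup.upperCentralSeries S j →
        x * a * x⁻¹ * a⁻¹ ∈ A₁ ⊓ Q ⊓ Subgroup.upperCentralSeries S j := by
    intro x j hj hinv a ha haZ
    obtain ⟨A', hA', h1, h2, h3⟩ :=
      gen_replacement hA₁ hQab x (fun a _ => hcomm x a) (fun a _ => hQN (hcomm x a))
    have hA'N : A' ≤ N := le_trans h3 (hconjN x)
    have hle := hmax' A' hA' hA'N
    have hhom : ∀ a ∈ Q, ∀ b ∈ Q, (x * a * x⁻¹ * a⁻¹)⁻¹ * (x * b * x⁻¹ * b⁻¹) =
        x * (a⁻¹ * b) * x⁻¹ * (a⁻¹ * b)⁻¹ := by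
      intro a ha b hb
      have hu : x * a⁻¹ * x⁻¹ ∈ Q := hQn.conj_mem _ (Q.inv_mem ha) x
      have hv : x * b * x⁻¹ ∈ Q := hQn.conj_mem _ hb x
      have hw : (x * a⁻¹ * x⁻¹) * (x * b * x⁻¹) * b⁻¹ ∈ Q :=
        Q.mul_mem (Q.mul_mem hu hv) (Q.inv_mem hb)
      have h1 := hQc a ha _ hw
      calc (x * a * x⁻¹ * a⁻¹)⁻¹ * (x * b * x⁻¹ * b⁻¹)
          = a * ((x * a⁻¹ * x⁻¹) * (x * b * x⁻¹) * b⁻¹) := by group
        _ = ((x * a⁻¹ * x⁻¹) * (x * b * x⁻¹) * b⁻¹) * a := h1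
        _ = x * (a⁻¹ * b) * x⁻¹ * (a⁻¹ * b)⁻¹ := by group
    have hterm : ∀ i ∈ Finset.range (n + 1),
        Nat.card ↥(A₁ ⊓ Q ⊓ Subgroup.upperCentralSeries S i) ≤
          Nat.card ↥(A' ⊓ Q ⊓ Subgroup.upperCentralSeries S i) := by
      intro i _
      obtain ⟨D, hD⟩ : ∃ D : Subgroup S, D = A₁ ⊓ Q ⊓ Subgroup.upperCentralSeries S i := ⟨_, rfl⟩
      have hDA : D ≤ A₁ := by rw [hD]; exact le_trans inf_le_left inf_le_left
      have hDQ : D ≤ Q := by rw [hD]; exact le_trans inf_le_left inf_le_right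
      have hDZ : D ≤ Subgroup.upperCentralSeries S i := by rw [hD]; exact inf_le_right
      obtain ⟨E, hE⟩ : ∃ E : Subgroup S, E = D ⊓ D.comap (MulAut.conj x).toMonoidHom := ⟨_, rfl⟩
      have hEmem : ∀ c, c ∈ E ↔ c ∈ D ∧ x * c * x⁻¹ ∈ D := by
        intro c
        rw [hE, Subgroup.mem_inf, Subgroup.mem_comap]
        simp [MulAut.conj_apply]
      obtain ⟨M, hM⟩ : ∃ M : Subgroup S,
        M = Subgroup.closure ((fun a => x * a * x⁻¹ * a⁻¹) '' (D : Set S)) := ⟨_, rfl⟩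
      have hstep : ∀ a ∈ D, ∀ b ∈ D,
          (((fun a => x * a * x⁻¹ * a⁻¹) a)⁻¹ * (fun a => x * a * x⁻¹ * a⁻¹) b ∈ D ↔
            a⁻¹ * b ∈ E) := by
        intro a ha b hb
        show (x * a * x⁻¹ * a⁻¹)⁻¹ * (x * b * x⁻¹ * b⁻¹) ∈ D ↔ a⁻¹ * b ∈ E
        rw [hhom a (hDQ ha) b (hDQ hb), hEmem]
        have hc : a⁻¹ * b ∈ D := D.mul_mem (D.inv_mem ha) hb
        constructor
        · intro h
          refine ⟨hc, ?_⟩
          have : x * (a⁻¹ * b) * x⁻¹ = (x * (a⁻¹ * b) * x⁻¹ * (a⁻¹ * b)⁻¹) * (a⁻¹ * b) := by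
            group
          rw [this]
          exact D.mul_mem h hc
        · intro h
          exact D.mul_mem h.2 (D.inv_mem hc)
      have hc := card_le_card_sup_of_step (A := D) (M := M) (K := E)
        (fun a => x * a * x⁻¹ * a⁻¹) (by rw [hE]; exact inf_le_left)
        (fun a ha => by rw [hM]; exact Subgroup.subset_closure ⟨a, ha, rfl⟩) hstep
      have hsub : M ⊔ E ≤ A' ⊓ Q ⊓ Subgroup.upperCentralSeries S i := by
        refine sup_le ?_ ?_
        · rw [hM, Subgroup.closure_le]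
          rintro _ ⟨d, hd, rfl⟩
          refine ⟨⟨h1 d (hDA hd), hcomm x d⟩, ?_⟩
          exact Subgroup.mul_mem _ ((hZn i).conj_mem d (hDZ hd) x)
            (Subgroup.inv_mem _ (hDZ hd))
        · intro d hd
          rw [hEmem] at hd
          refine ⟨⟨h2 d (hDA hd.1) ?_, hDQ hd.1⟩, hDZ hd.1⟩
          exact A₁.mul_mem (hDA hd.2) (A₁.inv_mem (hDA hd.1))
      rw [← hD]
      exact le_trans hc (Subgroup.card_le_of_le hsub)
    have heq : ∀ i ∈ Finset.range (n + 1),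
        Nat.card ↥(A₁ ⊓ Q ⊓ Subgroup.upperCentralSeries S i) =
          Nat.card ↥(A' ⊓ Q ⊓ Subgroup.upperCentralSeries S i) := by
      have hsum : P A₁ = P A' := le_antisymm (Finset.sum_le_sum hterm) hle
      exact (Finset.sum_eq_sum_iff_of_le hterm).mp hsum
    have hDle : A₁ ⊓ Q ⊓ Subgroup.upperCentralSeries S j ≤ A' ⊓ Q ⊓ Subgroup.upperCentralSeries S j := by
      intro d hd
      have hd' := hinv d hd
      refine ⟨⟨h2 d hd.1.1 ?_, hd.1.2⟩, hd.2⟩
      exact A₁.mul_mem hd'.1.1 (A₁.inv_mem hd.1.1)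
    have hDeq : A₁ ⊓ Q ⊓ Subgroup.upperCentralSeries S j = A' ⊓ Q ⊓ Subgroup.upperCentralSeries S j :=
      Subgroup.eq_of_le_of_card_ge hDle (heq j hj).ge
    rw [hDeq]
    exact ⟨⟨h1 a ha, hcomm x a⟩, haZ⟩
  have hinvAll : ∀ j, j ≤ n → ∀ x : S, ∀ d ∈ A₁ ⊓ Q ⊓ Subgroup.upperCentralSeries S j,
      x * d * x⁻¹ ∈ A₁ ⊓ Q ⊓ Subgroup.upperCentralSeries S j := by
    intro j
    induction j with
    | zero =>
      intro _ x d hd
      have h0 : d = 1 := by
        have h00 : d ∈ Subgroup.upperCentralSeries S 0 := hd.2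
        rwa [Subgroup.upperCentralSeries_zero, Subgroup.mem_bot] at h00
      subst h0
      simp only [mul_one, mul_inv_cancel]
      exact Subgroup.one_mem _
    | succ j ih =>
      intro hj x d hd
      have hinv := ih (by omega) x
      have hdZ : x * d * x⁻¹ * d⁻¹ ∈ Subgroup.upperCentralSeries S j := by
        have hd2 : d ∈ Subgroup.upperCentralSeries S (j + 1) := hd.2
        have := (Subgroup.mem_upperCentralSeries_succ_iff.mp hd2) x
        rw [commutatorElement_def] at this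
        have h2 := (Subgroup.upperCentralSeries S j).inv_mem this
        have e : (d * x * d⁻¹ * x⁻¹)⁻¹ = x * d * x⁻¹ * d⁻¹ := by group
        rwa [e] at h2
      have hk := key x j (Finset.mem_range.mpr (by omega)) hinv d hd.1.1 hdZ
      have hmono : Subgroup.upperCentralSeries S j ≤ Subgroup.upperCentralSeries S (j + 1) :=
        Subgroup.upperCentralSeries_mono S (Nat.le_succ j)
      have : x * d * x⁻¹ = (x * d * x⁻¹ * d⁻¹) * d := by group
      rw [this]
      exact Subgroup.mul_mem _ ⟨hk.1, hmono hk.2⟩ hd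
  refine ⟨A₁, hA₁, ⟨fun a ha x => ?_⟩, by rw [← hN]; exact hA₁N⟩
  have hinv := hinvAll n le_rfl x
  have hk := key x n (Finset.self_mem_range_succ n) hinv a ha (by rw [hn]; trivial)
  have : x * a * x⁻¹ = (x * a * x⁻¹ * a⁻¹) * a := by group
  rw [this]
  exact A₁.mul_mem hk.1.1 ha

end Cfsg.Agent.S3063
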