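import Cfsg.Statements.S3064
import Mathlib
import Cfsg.Agent.Lib.Helper1.FrobeniusThm

set_option autoImplicit false
open Cfsg

namespace Cfsg.Agent.S3064

open scoped Pointwise

section helpers

variable {G : Type*} [Group G] [Finite G] {p : ℕ} [Fact p.Prime]

theorem mem_conj_smul_iff (h : G) (S : Subgroup G) (s : G) :
    s ∈ MulAut.conj h • S ↔ h⁻¹ * s * h ∈ S := by
  rw [Subgroup.mem_pointwise_smul_iff_inv_smul_mem]
  rfl

/-- key fusion lemma: `x` is isolated in every `p`-subgroup containing it -/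
theorem isolated_in_pgroup (S : Sylow p G) (x : G) (hx : x ∈ S)
    (hU : ∀ g : G, g⁻¹ * x * g ∈ S → g⁻¹ * x * g = x)
    (P : Subgroup G) (hP : IsPGroup p P) (hxP : x ∈ P) (g : G) (hg : g⁻¹ * x * g ∈ P) :
    g⁻¹ * x * g = x := by
  obtain ⟨S', hS'⟩ := hP.exists_le_sylow
  obtain ⟨h, hh⟩ := MulAction.exists_smul_eq G S S'
  have hmem : ∀ s ∈ P, h⁻¹ * s * h ∈ S := by
    intro s hs
    have h1 : s ∈ (S' : Subgroup G) := hS' hs
    rw [← hh, Sylow.coe_subgroup_smul] at h1
    exact (mem_conj_smul_iff h _ s).mp h1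
  have h1 : h⁻¹ * x * h = x := hU h (hmem x hxP)
  have h2 := hmem _ hg
  have h3 : (g * h)⁻¹ * x * (g * h) = x := by
    apply hU
    have : (g * h)⁻¹ * x * (g * h) = h⁻¹ * (g⁻¹ * x * g) * h := by group
    rw [this]; exact h2
  have h4 : g⁻¹ * x * g = h * ((g * h)⁻¹ * x * (g * h)) * h⁻¹ := by group
  rw [h4, h3]
  have h5 : x = h * (h⁻¹ * x * h) * h⁻¹ := by group
  rw [h1] at h5
  exact h5.symm


/-- commuting conjugates of `x` are equal -/
theorem conj_eq_of_commute (S : Sylow p G) (x : G) (hx : x ∈ S)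
    (hU : ∀ g : G, g⁻¹ * x * g ∈ S → g⁻¹ * x * g = x) (g : G)
    (hc : x * (g⁻¹ * x * g) = (g⁻¹ * x * g) * x) : g⁻¹ * x * g = x := by
  set y := g⁻¹ * x * g with hy
  have hPx : IsPGroup p (Subgroup.zpowers x) :=
    S.2.to_le ((Subgroup.zpowers_le).mpr hx)
  have hPy : IsPGroup p (Subgroup.zpowers y) := by
    have h1 : y ∈ ((g⁻¹ • S : Sylow p G) : Subgroup G) := by
      rw [Sylow.coe_subgroup_smul, mem_conj_smul_iff, hy]
      have : g⁻¹⁻¹ * (g⁻¹ * x * g) * g⁻¹ = x := by group
      rw [this]; exact hx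
    exact (g⁻¹ • S : Sylow p G).2.to_le ((Subgroup.zpowers_le).mpr h1)
  have hnorm : Subgroup.zpowers x ≤ Subgroup.normalizer (Subgroup.zpowers y : Set G) := by
    rw [Subgroup.zpowers_le, Subgroup.mem_normalizer_iff]
    intro n
    have : ∀ n ∈ Subgroup.zpowers y, x * n * x⁻¹ = n := by
      intro n hn
      obtain ⟨k, rfl⟩ := hn
      have h1 : Commute x y := hc
      have h2 : Commute x (y ^ k) := h1.zpow_right k
      rw [h2.eq, mul_inv_cancel_right]
    constructor
    · intro hn
      rw [this n hn]; exact hn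
    · intro hn
      have h3 := this _ hn
      have h4 : x * n * x⁻¹ = n := by
        calc x * n * x⁻¹ = x⁻¹ * (x * (x * n * x⁻¹) * x⁻¹) * x := by group
          _ = x⁻¹ * (x * n * x⁻¹) * x := by rw [h3]
          _ = n := by group
      rw [← h4]; exact hn
  have hP := hPx.to_sup_of_normal_right' hPy hnorm
  exact isolated_in_pgroup S x hx hU _ hP
    ((le_sup_left : Subgroup.zpowers x ≤ _) (Subgroup.mem_zpowers x)) g
    ((le_sup_right : Subgroup.zpowers y ≤ _) (Subgroup.mem_zpowers y))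


/-- inheritance of the hypotheses by subgroups, packaged as: if the theorem holds for `M`, then
`x` commutes with `M`. -/
theorem commute_of_sub (S : Sylow p G) (x : G) (hx : x ∈ S)
    (hU : ∀ g : G, g⁻¹ * x * g ∈ S → g⁻¹ * x * g = x)
    (hb : ∀ H : Subgroup G, (Nat.card H).Coprime p → (∀ h ∈ H, x * h * x⁻¹ ∈ H) →
      ∀ h ∈ H, x * h = h * x)
    (M : Subgroup G) (hxM : x ∈ M)
    (ih : ∀ (SM : Sylow p M) (x' : M), x' ∈ SM →
      (∀ g : M, g⁻¹ * x' * g ∈ SM → g⁻¹ * x' * g = x') →
      (∀ H : Subgroup M, (Nat.card H).Coprime p → (∀ h ∈ H, x' * h * x'⁻¹ ∈ H) →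
        ∀ h ∈ H, x' * h = h * x') → x' ∈ Subgroup.center M)
    (m : G) (hm : m ∈ M) : x * m = m * x := by
  obtain ⟨SM, hSM⟩ := (S.2.comap_subtype (K := M)).exists_le_sylow
  have hx' : (⟨x, hxM⟩ : M) ∈ SM := hSM (by
    change (⟨x, hxM⟩ : M) ∈ (S : Subgroup G).subgroupOf M
    rw [Subgroup.mem_subgroupOf]; exact hx)
  have hcen := ih SM ⟨x, hxM⟩ hx' ?_ ?_
  · rw [Subgroup.mem_center_iff] at hcen
    have := hcen ⟨m, hm⟩
    exact (congrArg Subtype.val this).symm
  · intro g hg
    have h1 := isolated_in_pgroup S x hx hU ((SM : Subgroup M).map M.subtype) (SM.2.map _)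
      ⟨⟨x, hxM⟩, hx', rfl⟩ (g : G) ⟨_, hg, rfl⟩
    exact Subtype.ext h1
  · intro H hH hinv h hh
    have h1 := hb (H.map M.subtype) ?_ ?_ (h : G) ⟨h, hh, rfl⟩
    · exact Subtype.ext h1
    · rw [Subgroup.card_map_of_injective M.subtype_injective]; exact hH
    · rintro _ ⟨k, hk, rfl⟩
      exact ⟨_, hinv k hk, rfl⟩


/-- the non-inductive core -/
theorem central_core (S : Sylow p G) (x : G) (hx : x ∈ S)
    (hU : ∀ g : G, g⁻¹ * x * g ∈ S → g⁻¹ * x * g = x)
    (hb : ∀ H : Subgroup G, (Nat.card H).Coprime p → (∀ h ∈ H, x * h * x⁻¹ ∈ H) →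
      ∀ h ∈ H, x * h = h * x)
    (hprop : ∀ M : Subgroup G, M ≠ ⊤ → x ∈ M → ∀ m ∈ M, x * m = m * x) :
    x ∈ Subgroup.center G := by
  by_contra hxZ
  have hCmem : ∀ c : G, c ∈ Subgroup.centralizer ({x} : Set G) ↔ x * c = c * x := by
    intro c
    rw [Subgroup.mem_centralizer_iff]
    simp
  set C := Subgroup.centralizer ({x} : Set G) with hC
  have hZC : Subgroup.center G ≤ C := by
    intro z hz
    rw [hCmem]
    exact (Subgroup.mem_center_iff.mp hz) x
  have hxC : x ∈ C := (hCmem x).mpr rfl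
  have hSC : (S : Subgroup G) ≤ C := by
    intro s hs
    rw [hCmem]
    have h1 : s⁻¹ * x * s ∈ S := S.mul_mem (S.mul_mem (S.inv_mem hs) hx) hs
    have h2 := hU s h1
    calc x * s = s * (s⁻¹ * x * s) := by group
      _ = s * x := by rw [h2]
  have hCtop : C ≠ ⊤ := by
    intro h
    apply hxZ
    rw [Subgroup.mem_center_iff]
    intro g
    have : g ∈ C := h ▸ Subgroup.mem_top g
    exact ((hCmem g).mp this).symm
  -- TI property modulo the centre
  have hTI : ∀ g : G, g ∉ C → ∀ c ∈ C, g⁻¹ * c * g ∈ C → c ∈ Subgroup.center G := by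
    intro g hg c hc hcg
    set y := g * x * g⁻¹ with hy
    have hcx : x * c = c * x := (hCmem c).mp hc
    have hcy : y * c = c * y := by
      have h1 := (hCmem _).mp hcg
      calc y * c = g * (x * (g⁻¹ * c * g)) * g⁻¹ := by rw [hy]; group
        _ = g * ((g⁻¹ * c * g) * x) * g⁻¹ := by rw [h1]
        _ = c * y := by rw [hy]; group
    by_cases hL : Subgroup.closure ({x, y} : Set G) = ⊤
    · rw [Subgroup.mem_center_iff]
      have hle : Subgroup.closure ({x, y} : Set G) ≤ Subgroup.centralizer ({c} : Set G) := by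
        rw [Subgroup.closure_le]
        intro t ht
        rw [SetLike.mem_coe, Subgroup.mem_centralizer_iff]
        intro u hu
        rw [Set.mem_singleton_iff] at hu
        subst hu
        rcases ht with rfl | ht
        · exact hcx.symm
        · rw [Set.mem_singleton_iff] at ht
          subst ht
          exact hcy.symm
      intro t
      have ht : t ∈ Subgroup.centralizer ({c} : Set G) := hle (hL ▸ Subgroup.mem_top t)
      rw [Subgroup.mem_centralizer_iff] at ht
      exact (ht c rfl).symm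
    · exfalso
      apply hg
      have hxL : x ∈ Subgroup.closure ({x, y} : Set G) :=
        Subgroup.subset_closure (Set.mem_insert _ _)
      have hyL : y ∈ Subgroup.closure ({x, y} : Set G) :=
        Subgroup.subset_closure (Set.mem_insert_of_mem _ rfl)
      have hxy := hprop _ hL hxL y hyL
      have h1 := conj_eq_of_commute S x hx hU g⁻¹ (by
        have : g⁻¹⁻¹ * x * g⁻¹ = y := by rw [hy, inv_inv]
        rw [this]; exact hxy)
      rw [inv_inv] at h1
      rw [hCmem]
      calc x * g = (g * x * g⁻¹) * g := by rw [h1]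
        _ = g * x := by group
  -- Frobenius complement in the central quotient
  set π := QuotientGroup.mk' (Subgroup.center G) with hπ
  have hker : ∀ a : G, π a = 1 ↔ a ∈ Subgroup.center G := by
    intro a
    rw [hπ, QuotientGroup.mk'_apply, QuotientGroup.eq_one_iff]
  have hπeq : ∀ a b : G, π a = π b ↔ a⁻¹ * b ∈ Subgroup.center G := by
    intro a b
    rw [← hker, map_mul, map_inv, inv_mul_eq_one]
  have hmapC : ∀ a : G, π a ∈ C.map π ↔ a ∈ C := by
    intro a
    constructor
    · rintro ⟨c, hc, hca⟩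
      have := (hπeq c a).mp hca
      have h2 : a = c * (c⁻¹ * a) := by group
      rw [h2]; exact C.mul_mem hc (hZC this)
    · intro ha; exact ⟨a, ha, rfl⟩
  have hFrob : Cfsg.IsFrobeniusComplement (C.map π) := by
    refine ⟨?_, ?_, ?_⟩
    · intro h
      apply hxZ
      have : π x ∈ C.map π := ⟨x, hxC, rfl⟩
      rw [h, Subgroup.mem_bot] at this
      exact (hker x).mp this
    · intro h
      apply hCtop
      rw [eq_top_iff]
      intro a _
      exact (hmapC a).mp (h ▸ Subgroup.mem_top _)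
    · intro gb hgb
      obtain ⟨g, rfl⟩ := QuotientGroup.mk'_surjective (Subgroup.center G) gb
      have hg : g ∉ C := fun h => hgb ((hmapC g).mpr h)
      rw [eq_bot_iff]
      intro z hz
      rw [Subgroup.mem_inf] at hz
      obtain ⟨hz1, hz2⟩ := hz
      obtain ⟨c, hc, rfl⟩ := hz1
      rw [mem_conj_smul_iff] at hz2
      have h1 : π (g⁻¹ * c * g) ∈ C.map π := by
        rw [map_mul, map_mul, map_inv]; exact hz2
      have h2 := (hmapC _).mp h1
      rw [Subgroup.mem_bot, hker]
      exact hTI g hg c hc h2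
  obtain ⟨Nb, hNbset, hNbn, hcompl⟩ := Cfsg.Agent.Lib.Helper1.frobenius_theorem (C.map π) hFrob
  set K := Nb.comap π with hK
  have hKn : K.Normal := hNbn.comap π
  have hKC : ∀ k ∈ K, k ∈ C → k ∈ Subgroup.center G := by
    intro k hk hkC
    have h1 : π k ∈ Nb := hk
    have h2 : π k ∈ C.map π := ⟨k, hkC, rfl⟩
    have h3 : π k ∈ Nb ⊓ C.map π := ⟨h1, h2⟩
    rw [hcompl.disjoint.eq_bot, Subgroup.mem_bot] at h3
    exact (hker k).mp h3
  have hKp : ∀ k ∈ K, (∃ j : ℕ, k ^ (p ^ j) = 1) → k ∈ Subgroup.center G := by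
    rintro k hk ⟨j, hj⟩
    have hzp : IsPGroup p (Subgroup.zpowers k) := by
      obtain ⟨m, _, hm⟩ := (Nat.dvd_prime_pow (Fact.out : p.Prime)).mp
        (orderOf_dvd_of_pow_eq_one hj)
      exact IsPGroup.of_card (n := m) (by rw [Nat.card_zpowers, hm])
    obtain ⟨S', hS'⟩ := hzp.exists_le_sylow
    obtain ⟨h, hh⟩ := MulAction.exists_smul_eq G S S'
    have h1 : k ∈ (S' : Subgroup G) := hS' (Subgroup.mem_zpowers k)
    rw [← hh, Sylow.coe_subgroup_smul, mem_conj_smul_iff] at h1
    have h2 : h⁻¹ * k * h ∈ K := by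
      have := hKn.conj_mem k hk h⁻¹
      rwa [inv_inv] at this
    have h3 := hKC _ h2 (hSC h1)
    have h4 : k = h * (h⁻¹ * k * h) * h⁻¹ := by group
    rw [h4]
    exact (inferInstance : (Subgroup.center G).Normal).conj_mem _ h3 h
  obtain P : Sylow p K := default
  have hPc : ∀ z : K, z ∈ (P : Subgroup K) → (z : G) ∈ Subgroup.center G := by
    intro z hz
    obtain ⟨j, hj⟩ := P.2 ⟨z, hz⟩
    refine hKp _ z.2 ⟨j, ?_⟩
    have := congrArg (fun t : (P : Subgroup K) => ((t : K) : G)) hj
    simpa using this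
  have hPcomm : ∀ z : K, z ∈ (P : Subgroup K) → ∀ k : K, k * z = z * k := by
    intro z hz k
    apply Subtype.ext
    exact (Subgroup.mem_center_iff.mp (hPc z hz)) (k : G)
  have : (P : Subgroup K).Normal := ⟨fun z hz k => by
    have : k * z * k⁻¹ = z := by rw [hPcomm z hz k, mul_inv_cancel_right]
    rw [this]; exact hz⟩
  obtain ⟨H, hH⟩ := Subgroup.exists_right_complement'_of_coprime (P.card_coprime_index)
  have hHcard : (Nat.card H).Coprime p := by
    have h1 : Nat.card H = (P : Subgroup K).index := by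
      have e1 := hH.card_mul
      have e2 := (P : Subgroup K).card_mul_index
      have hpos : 0 < Nat.card (P : Subgroup K) := Nat.card_pos
      exact Nat.eq_of_mul_eq_mul_left hpos (e1.trans e2.symm)
    rw [h1, Nat.coprime_comm]
    exact (Nat.Prime.coprime_iff_not_dvd Fact.out).mpr P.not_dvd_index
  have hdecomp : ∀ k : K, ∃ z ∈ (P : Subgroup K), ∃ h ∈ H, z * h = k := by
    intro k
    obtain ⟨⟨z, h⟩, hzh, _⟩ := hH.existsUnique k
    exact ⟨z.1, z.2, h.1, h.2, hzh⟩
  have hWinv : ∀ w ∈ H.map K.subtype, x * w * x⁻¹ ∈ H.map K.subtype := by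
    rintro _ ⟨h, hh, rfl⟩
    obtain ⟨z, hz, h', hh', hzh⟩ := hdecomp ⟨x * h * x⁻¹, hKn.conj_mem h.1 h.2 x⟩
    have hm : h ^ Nat.card H = 1 := by
      have := pow_card_eq_one' (G := H) (x := ⟨h, hh⟩)
      exact congrArg Subtype.val this
    have hm' : h' ^ Nat.card H = 1 := by
      have := pow_card_eq_one' (G := H) (x := ⟨h', hh'⟩)
      exact congrArg Subtype.val this
    have hk' : (z * h') ^ Nat.card H = 1 := by
      rw [hzh]
      apply Subtype.ext
      change (x * h * x⁻¹) ^ Nat.card H = 1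
      rw [conj_pow]
      have : ((h : K) : G) ^ Nat.card H = 1 := by
        have := congrArg Subtype.val hm
        simpa using this
      rw [this]; group
    have hcomm : Commute z h' := (hPcomm z hz h').symm
    rw [hcomm.mul_pow, hm', mul_one] at hk'
    obtain ⟨j, hj⟩ := P.2 ⟨z, hz⟩
    have hj' : z ^ (p ^ j) = 1 := congrArg Subtype.val hj
    have hz1 : z = 1 := by
      have := pow_gcd_eq_one.mpr ⟨hk', hj'⟩
      rw [Nat.Coprime.gcd_eq_one (Nat.Coprime.pow_right j hHcard), pow_one] at this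
      exact this
    rw [hz1, one_mul] at hzh
    refine ⟨h', hh', ?_⟩
    rw [hzh]
    rfl
  have hWcard : (Nat.card (H.map K.subtype)).Coprime p := by
    rw [Subgroup.card_map_of_injective K.subtype_injective]; exact hHcard
  have hWc := hb _ hWcard hWinv
  have hKle : ∀ k ∈ K, k ∈ Subgroup.center G := by
    intro k hk
    apply hKC k hk
    rw [hCmem]
    obtain ⟨z, hz, h, hh, hzh⟩ := hdecomp ⟨k, hk⟩
    have hk2 : k = (z : G) * (h : G) := by
      have := congrArg Subtype.val hzh
      simpa using this.symm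
    have c1 : x * (z : G) = (z : G) * x := (Subgroup.mem_center_iff.mp (hPc z hz)) x
    have c2 : x * (h : G) = (h : G) * x := hWc _ ⟨h, hh, rfl⟩
    rw [hk2, ← mul_assoc, c1, mul_assoc, c2, mul_assoc]
  have hNbot : Nb = ⊥ := by
    rw [eq_bot_iff]
    intro nb hnb
    obtain ⟨k, rfl⟩ := QuotientGroup.mk'_surjective (Subgroup.center G) nb
    rw [Subgroup.mem_bot]
    exact (hker k).mpr (hKle k hnb)
  rw [hNbot, Subgroup.isComplement'_bot_left] at hcompl
  exact hFrob.2.1 hcompl


universe u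

theorem central_aux (p : ℕ) [Fact p.Prime] : ∀ (n : ℕ) (G : Type u) [Group G] [Finite G],
    Nat.card G = n → ∀ (S : Sylow p G) (x : G), x ∈ S →
    (∀ g : G, g⁻¹ * x * g ∈ S → g⁻¹ * x * g = x) →
    (∀ H : Subgroup G, (Nat.card H).Coprime p → (∀ h ∈ H, x * h * x⁻¹ ∈ H) →
      ∀ h ∈ H, x * h = h * x) → x ∈ Subgroup.center G := by
  intro n
  induction n using Nat.strong_induction_on with
  | _ n ih =>
    intro G _ _ hn S x hx hU hb
    apply central_core S x hx hU hb
    intro M hM hxM m hm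
    have hlt : Nat.card M < n := by
      rw [← hn]
      have h1 : Nat.card M ≤ Nat.card G := Subgroup.card_le_card_group M
      rcases h1.lt_or_eq with h | h
      · exact h
      · exact absurd ((Subgroup.card_eq_iff_eq_top M).mp h) hM
    exact commute_of_sub S x hx hU hb M hxM
      (fun SM x' hx' hU' hb' => ih _ hlt M rfl SM x' hx' hU' hb') m hm

end helpers


/-- Let S be a Sylow p-subgroup of the finite group G and x an element of S such that (i) x is the only G-conjugate of x lying in S, and (ii) x centralizes every subgroup of order prime to p that it normalizes. Then x lies in the centre of G. -/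
theorem result {G : Type*} [Group G] [Finite G] {p : ℕ} [Fact p.Prime]
    (S : Sylow p G) (x : G) (hx : x ∈ S)
    (hU : ∀ g : G, g⁻¹ * x * g ∈ S → g⁻¹ * x * g = x)
    (hb : ∀ H : Subgroup G, (Nat.card H).Coprime p → (∀ h ∈ H, x * h * x⁻¹ ∈ H) → ∀ h ∈ H, x * h = h * x) :
    x ∈ Subgroup.center G := by
  exact central_aux p _ G rfl S x hx hU hb

end Cfsg.Agent.S3064
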