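import Cfsg.Statements.S3074

import Cfsg.Agent.S2761
import Cfsg.Agent.Lib.helper15.Qd
import Cfsg.Agent.Lib.Helper27.OrderPCube2
set_option autoImplicit false
open Cfsg

namespace Cfsg.Agent.S3074


open Matrix Cfsg.Agent.Lib.helper15 Cfsg.Agent.Lib.helper15.Qd

lemma pow_three_eq_zero {F : Type*} [Field F] (N : Matrix (Fin 3) (Fin 3) F) (h : IsNilpotent N) :
    N ^ 3 = 0 := by
  have h1 := Matrix.isNilpotent_charpoly_sub_pow_of_isNilpotent h
  have h2 : N.charpoly - Polynomial.X ^ (Fintype.card (Fin 3)) = 0 := h1.eq_zero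
  have h3 : N.charpoly = Polynomial.X ^ 3 := by
    rw [sub_eq_zero] at h2
    simpa using h2
  have h4 := Matrix.aeval_self_charpoly N
  rw [h3] at h4
  simpa using h4

lemma pow_p_eq_one {F : Type*} [Field F] {p : ℕ} [Fact p.Prime] [CharP F p] (hp : p ≠ 2)
    (M : SpecialLinearGroup (Fin 3) F) (k : ℕ) (h : M ^ (p ^ k) = 1) : M ^ p = 1 := by
  have h1 : (M : Matrix (Fin 3) (Fin 3) F) ^ (p ^ k) = 1 := by
    have := congrArg (fun z : SpecialLinearGroup (Fin 3) F => (z : Matrix (Fin 3) (Fin 3) F)) h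
    simpa using this
  have h2 : ((M : Matrix (Fin 3) (Fin 3) F) - 1) ^ (p ^ k) = 0 := by
    rw [sub_pow_char_pow_of_commute _ _ (Commute.one_right _), h1, one_pow, sub_self]
  have h3 := pow_three_eq_zero _ ⟨p ^ k, h2⟩
  have hp2 : 2 ≤ p := (Fact.out : p.Prime).two_le
  have h4 : ((M : Matrix (Fin 3) (Fin 3) F) - 1) ^ p = 0 := by
    have : p = 3 + (p - 3) := by omega
    rw [this, pow_add, h3, zero_mul]
  rw [sub_pow_char_of_commute p (Commute.one_right _), one_pow, sub_eq_zero] at h4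
  apply Subtype.ext
  show ((M ^ p : SpecialLinearGroup (Fin 3) F) : Matrix (Fin 3) (Fin 3) F) = 1
  rw [Matrix.SpecialLinearGroup.coe_pow]
  exact h4

theorem main (p : ℕ) [Fact p.Prime] (hp : p ≠ 2) (P : Sylow p ↥(Cfsg.qdOver (ZMod p))) :
    Cfsg.IsExtraspecial p ↥P ∧ Nat.card P = p ^ 3 ∧ Monoid.exponent ↥P = p := by
  classical
  have hpp : p.Prime := Fact.out
  have hp2 : 2 ≤ p := hpp.two_le
  have hcardG : Nat.card ↥(Cfsg.qdOver (ZMod p)) = p ^ 3 * (p ^ 2 - 1) := by
    rw [Cfsg.Agent.S2761.card_qd, ZMod.card]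
    ring
  have hnd : ¬ p ∣ p ^ 2 - 1 := by
    intro h
    have h1 : p ∣ p ^ 2 := dvd_pow_self p (by norm_num)
    have h2 : 1 ≤ p ^ 2 := Nat.one_le_pow _ _ (by omega)
    have h3 : p ∣ 1 := by
      have : p ^ 2 = (p ^ 2 - 1) + 1 := by omega
      rw [this] at h1
      exact (Nat.dvd_add_right h).1 h1
    exact hpp.one_lt.ne' (Nat.dvd_one.1 h3)
  have hne1 : p ^ 2 - 1 ≠ 0 := by
    have : 4 ≤ p ^ 2 := by nlinarith
    omega
  have hcard : Nat.card P = p ^ 3 := by
    rw [Sylow.card_eq_multiplicity, hcardG, Nat.factorization_mul (pow_ne_zero 3 hpp.ne_zero) hne1,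
      Finsupp.add_apply, hpp.factorization_pow, Finsupp.single_eq_same,
      Nat.factorization_eq_zero_of_not_dvd hnd, add_zero]
  have hker : (blk (ZMod p)).ker ≤ (P : Subgroup ↥(Cfsg.qdOver (ZMod p))) :=
    IsPGroup.le_sylow_of_normal (isPGroup_ker (F := ZMod p) (p := p)) P
  have hpow : ∀ x : ↥P, x ^ p = 1 := by
    intro x
    obtain ⟨k, hk⟩ := P.isPGroup' x
    have h1 : ((x : ↥(Cfsg.qdOver (ZMod p))) : SpecialLinearGroup (Fin 3) (ZMod p)) ^ (p ^ k) = 1 := by
      have := congrArg (fun z : ↥P => ((z : ↥(Cfsg.qdOver (ZMod p))) : SpecialLinearGroup (Fin 3) (ZMod p))) hk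
      simpa using this
    have h2 := pow_p_eq_one hp _ k h1
    apply Subtype.ext
    apply Subtype.ext
    simpa using h2
  have hnc : ¬ ∀ a b : ↥P, a * b = b * a := by
    intro hcomm
    have hex : ∃ x : ↥(Cfsg.qdOver (ZMod p)), x ∈ (P : Subgroup ↥(Cfsg.qdOver (ZMod p))) ∧ blk (ZMod p) x ≠ 1 := by
      by_contra hcon
      push_neg at hcon
      have hle : (P : Subgroup ↥(Cfsg.qdOver (ZMod p))) ≤ (blk (ZMod p)).ker := fun x hx => hcon x hx
      have heq : (P : Subgroup ↥(Cfsg.qdOver (ZMod p))) = (blk (ZMod p)).ker := le_antisymm hle hker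
      have h1 : Nat.card ↥((blk (ZMod p)).ker) = p ^ 2 := by
        rw [Nat.card_congr (Equiv.ofBijective _ ⟨kerVec_injective (F := ZMod p),
          Cfsg.Agent.S2761.kerVec_surjective⟩), Nat.card_eq_fintype_card,
          Fintype.card_multiplicative, Fintype.card_fun, Fintype.card_fin, ZMod.card]
      have h2 : Nat.card ↥(P : Subgroup ↥(Cfsg.qdOver (ZMod p))) = p ^ 3 := hcard
      rw [heq, h1] at h2
      have : p ^ 2 < p ^ 3 := Nat.pow_lt_pow_right hpp.one_lt (by norm_num)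
      omega
    obtain ⟨x, hxP, hx1⟩ := hex
    set A := blk (ZMod p) x with hA
    have hw : ∃ w : Fin 2 → ZMod p, (A : Matrix (Fin 2) (Fin 2) (ZMod p)).mulVec w ≠ w := by
      by_contra hcon
      push_neg at hcon
      apply hx1
      apply Subtype.ext
      ext i j
      have := congrFun (hcon (Pi.single j 1)) i
      show (A : Matrix (Fin 2) (Fin 2) (ZMod p)) i j = (1 : Matrix (Fin 2) (Fin 2) (ZMod p)) i j
      rw [Matrix.one_apply, ← Pi.single_apply, ← this]
      simp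
    obtain ⟨w, hw⟩ := hw
    have hmem : mk (1 : SpecialLinearGroup (Fin 2) (ZMod p)) w ∈ (P : Subgroup ↥(Cfsg.qdOver (ZMod p))) :=
      hker (mk_one_mem_ker w)
    have hc := hcomm ⟨x, hxP⟩ ⟨mk 1 w, hmem⟩
    have hc' : x * mk 1 w = mk 1 w * x := congrArg Subtype.val hc
    rw [← mk_blk_vec x, mk_mul, mk_mul] at hc'
    have := (mk_injective hc').2
    apply hw
    rw [one_mulVec'] at this
    have h3 : (A : Matrix (Fin 2) (Fin 2) (ZMod p)).mulVec w + Qd.vec x = w + Qd.vec x := by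
      rw [this, add_comm]
    exact add_right_cancel h3
  refine ⟨Cfsg.Agent.Lib.Helper27.isExtraspecial_of_nonabelian hcard hnc, hcard, ?_⟩
  have hdvd : Monoid.exponent ↥P ∣ p := Monoid.exponent_dvd_of_forall_pow_eq_one hpow
  rcases (Nat.dvd_prime hpp).1 hdvd with h | h
  · exfalso
    rw [Monoid.exp_eq_one_iff] at h
    have : Nat.card P = 1 := Nat.card_eq_one_iff_unique.2 ⟨h, ⟨1⟩⟩
    rw [hcard] at this
    have : 1 < p ^ 3 := Nat.one_lt_pow (by norm_num) hpp.one_lt
    omega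
  · exact h

/-- Let p be an odd prime. A Sylow p-subgroup of Qd(p), the split extension of an elementary abelian group of order p² by SL₂(p) acting naturally, is extraspecial of order p³ and exponent p. -/
theorem result (p : ℕ) [Fact p.Prime] (hp : p ≠ 2) (P : Sylow p ↥(Cfsg.qd p)) :
    Cfsg.IsExtraspecial p ↥P ∧ Nat.card P = p ^ 3 ∧ Monoid.exponent ↥P = p := by
  exact main p hp P

end Cfsg.Agent.S3074
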