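import Cfsg.Statements.S3075
import Mathlib
import Cfsg.Agent.Lib.Helper18.ChermakDelgado

set_option autoImplicit false
open Cfsg

namespace Cfsg.Agent.S3075

open Matrix
open Cfsg.Agent.Lib.Helper18
open scoped Pointwise

section mats
variable {F : Type*} [Field F]

/-- central involution of `SL₂`. -/
def zM : Matrix.SpecialLinearGroup (Fin 2) F := ⟨!![-1, 0; 0, -1], by simp [Matrix.det_fin_two]⟩
/-- upper transvection. -/
def uM : Matrix.SpecialLinearGroup (Fin 2) F := ⟨!![1, 1; 0, 1], by simp [Matrix.det_fin_two]⟩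
/-- lower transvection. -/
def vM : Matrix.SpecialLinearGroup (Fin 2) F := ⟨!![1, 0; 1, 1], by simp [Matrix.det_fin_two]⟩

theorem zM_coe : ((zM : Matrix.SpecialLinearGroup (Fin 2) F) : Matrix (Fin 2) (Fin 2) F) = !![-1, 0; 0, -1] := rfl
theorem uM_coe : ((uM : Matrix.SpecialLinearGroup (Fin 2) F) : Matrix (Fin 2) (Fin 2) F) = !![1, 1; 0, 1] := rfl
theorem vM_coe : ((vM : Matrix.SpecialLinearGroup (Fin 2) F) : Matrix (Fin 2) (Fin 2) F) = !![1, 0; 1, 1] := rfl

theorem zM_sq : (zM : Matrix.SpecialLinearGroup (Fin 2) F) * zM = 1 := by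
  apply Subtype.ext
  rw [Matrix.SpecialLinearGroup.coe_mul, Matrix.SpecialLinearGroup.coe_one, zM_coe]
  ext i j
  fin_cases i <;> fin_cases j <;> simp [Matrix.mul_apply, Fin.sum_univ_two]

theorem zM_central (g : Matrix.SpecialLinearGroup (Fin 2) F) : zM * g = g * zM := by
  apply Subtype.ext
  rw [Matrix.SpecialLinearGroup.coe_mul, Matrix.SpecialLinearGroup.coe_mul, zM_coe]
  ext i j
  fin_cases i <;> fin_cases j <;> simp [Matrix.mul_apply, Fin.sum_univ_two]

theorem zM_ne_one (h2 : (2 : F) ≠ 0) : (zM : Matrix.SpecialLinearGroup (Fin 2) F) ≠ 1 := by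
  intro h
  have h1 : ((zM : Matrix.SpecialLinearGroup (Fin 2) F) : Matrix (Fin 2) (Fin 2) F) 0 0 =
      ((1 : Matrix.SpecialLinearGroup (Fin 2) F) : Matrix (Fin 2) (Fin 2) F) 0 0 := by rw [h]
  rw [zM_coe, Matrix.SpecialLinearGroup.coe_one] at h1
  simp at h1
  apply h2
  calc (2 : F) = 1 + 1 := by norm_num
    _ = -1 + 1 := by rw [h1]
    _ = 0 := by ring

theorem uv_ne : (uM : Matrix.SpecialLinearGroup (Fin 2) F) * vM ≠ vM * uM := by
  intro h
  have h1 : ((uM * vM : Matrix.SpecialLinearGroup (Fin 2) F) : Matrix (Fin 2) (Fin 2) F) 0 0 =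
      ((vM * uM : Matrix.SpecialLinearGroup (Fin 2) F) : Matrix (Fin 2) (Fin 2) F) 0 0 := by rw [h]
  rw [Matrix.SpecialLinearGroup.coe_mul, Matrix.SpecialLinearGroup.coe_mul, uM_coe, vM_coe] at h1
  simp [Matrix.mul_apply, Fin.sum_univ_two] at h1

theorem two_ne_zero_of_card [Fintype F] {p : ℕ} (hp : p.Prime) (hp2 : p ≠ 2) (hF : Fintype.card F = p) :
    (2 : F) ≠ 0 := by
  intro h
  have h1 : (p : F) = 0 := by rw [← hF]; exact Nat.cast_card_eq_zero F
  obtain ⟨k, hk⟩ := hp.eq_two_or_odd'.resolve_left hp2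
  rw [hk] at h1
  push_cast at h1
  rw [h, zero_mul, zero_add] at h1
  exact one_ne_zero h1

end mats

section grp
variable {N : Type*} [Group N]

/-- two elements normalizing a cyclic subgroup act on it by commuting automorphisms. -/
theorem conj_comm_on_zpowers (c n m : N) (hn : n * c * n⁻¹ ∈ Subgroup.zpowers c)
    (hm : m * c * m⁻¹ ∈ Subgroup.zpowers c) :
    ∀ x ∈ Subgroup.zpowers c, (n * m) * x * (n * m)⁻¹ = (m * n) * x * (m * n)⁻¹ := by
  obtain ⟨α, hα⟩ := Subgroup.mem_zpowers_iff.mp hn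
  obtain ⟨β, hβ⟩ := Subgroup.mem_zpowers_iff.mp hm
  have h1 : (n * m) * c * (n * m)⁻¹ = c ^ (α * β) := by
    calc (n * m) * c * (n * m)⁻¹ = n * (m * c * m⁻¹) * n⁻¹ := by group
      _ = n * c ^ β * n⁻¹ := by rw [← hβ]
      _ = (n * c * n⁻¹) ^ β := by rw [conj_zpow]
      _ = c ^ (α * β) := by rw [← hα]; exact (_root_.zpow_mul c α β).symm
  have h2 : (m * n) * c * (m * n)⁻¹ = c ^ (α * β) := by
    calc (m * n) * c * (m * n)⁻¹ = m * (n * c * n⁻¹) * m⁻¹ := by group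
      _ = m * c ^ α * m⁻¹ := by rw [← hα]
      _ = (m * c * m⁻¹) ^ α := by rw [conj_zpow]
      _ = c ^ (α * β) := by rw [← hβ, ← _root_.zpow_mul, mul_comm]
  intro x hx
  obtain ⟨i, rfl⟩ := Subgroup.mem_zpowers_iff.mp hx
  rw [← conj_zpow, ← conj_zpow, h1, h2]

end grp

theorem result {N : Type*} [Group N] [Finite N] {p : ℕ} [Fact p.Prime] (hp : p ≠ 2)
    (A : Subgroup N) [A.Normal] (hAcomm : IsMulCommutative A) (hAcard : Nat.card A = p ^ 2) (hAexp : Monoid.exponent ↥A = p)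
    (hAself : Subgroup.centralizer (A : Set N) = A)
    {F : Type*} [Field F] [Fintype F] (hF : Fintype.card F = p) (e : N ⧸ A ≃* Matrix.SpecialLinearGroup (Fin 2) F) :
    ∃ U : Subgroup N, A ⊓ U = ⊥ ∧ A ⊔ U = ⊤ := by
  classical
  have hp' : p.Prime := Fact.out
  have h2F : (2 : F) ≠ 0 := two_ne_zero_of_card hp' hp hF
  have hAn : A.Normal := inferInstance
  -- basic facts about A
  have hexp : ∀ a ∈ A, a ^ p = 1 := by
    intro a ha
    have := Monoid.pow_exponent_eq_one (⟨a, ha⟩ : ↥A)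
    rw [hAexp] at this
    exact congrArg Subtype.val this
  have hcomm : ∀ a ∈ A, ∀ b ∈ A, a * b = b * a := by
    intro a ha b hb
    have := hAcomm.is_comm.comm ⟨a, ha⟩ ⟨b, hb⟩
    exact congrArg Subtype.val this
  obtain ⟨k, hk⟩ : ∃ k, p = 2 * k + 1 := hp'.eq_two_or_odd'.resolve_left hp
  have hsqrt : ∀ a ∈ A, (a * a) ^ (k + 1) = a := by
    intro a ha
    rw [← pow_two, ← pow_mul, show 2 * (k + 1) = p + 1 by omega, pow_succ, hexp a ha, one_mul]
  have hsq1 : ∀ a ∈ A, a * a = 1 → a = 1 := by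
    intro a ha h
    rw [← hsqrt a ha, h, one_pow]
  -- the involution t
  obtain ⟨n₀, hn₀⟩ : ∃ n₀ : N, e (n₀ : N ⧸ A) = zM := by
    obtain ⟨q, hq⟩ := e.surjective zM
    obtain ⟨n₀, rfl⟩ := QuotientGroup.mk_surjective q
    exact ⟨n₀, hq⟩
  have hzp : (zM : Matrix.SpecialLinearGroup (Fin 2) F) ^ p = zM := by
    rw [hk, pow_succ, pow_mul, pow_two, zM_sq, one_pow, one_mul]
  set t := n₀ ^ p with ht
  have het : e (t : N ⧸ A) = zM := by
    rw [ht, QuotientGroup.mk_pow, map_pow, hn₀, hzp]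
  have hn₀2 : n₀ * n₀ ∈ A := by
    rw [← QuotientGroup.eq_one_iff]
    apply e.injective
    rw [QuotientGroup.mk_mul, map_mul, hn₀, zM_sq, map_one]
  have htt : t * t = 1 := by
    rw [ht, ← pow_add, ← two_mul, pow_mul, pow_two]
    exact hexp _ hn₀2
  have htinv : t⁻¹ = t := inv_eq_of_mul_eq_one_left htt
  have htA : t ∉ A := by
    intro h
    rw [← QuotientGroup.eq_one_iff] at h
    have := het
    rw [h, map_one] at this
    exact zM_ne_one h2F this.symm
  have hcent : ∀ n : N, n⁻¹ * t * n * t⁻¹ ∈ A := by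
    intro n
    rw [← QuotientGroup.eq_one_iff]
    apply e.injective
    simp only [QuotientGroup.mk_mul, QuotientGroup.mk_inv, map_mul, map_inv, het, map_one]
    rw [mul_assoc _ zM, zM_central, ← mul_assoc, inv_mul_cancel, one_mul, mul_inv_cancel]
  -- F1
  have hF1 : ∀ n : N, ∃ a₁ ∈ A, n⁻¹ * t * n = t * a₁ := by
    intro n
    refine ⟨t⁻¹ * (n⁻¹ * t * n * t⁻¹) * t, hAn.conj_mem' _ (hcent n) t, by group⟩
  have htconj : ∀ a ∈ A, t * a * t⁻¹ ∈ A := fun a ha => hAn.conj_mem a ha t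
  -- eigen-subgroups
  set L := A ⊓ Subgroup.centralizer ({t} : Set N) with hL
  have hLmem : ∀ a, a ∈ L ↔ a ∈ A ∧ t * a * t⁻¹ = a := by
    intro a
    rw [hL, Subgroup.mem_inf, Subgroup.mem_centralizer_iff]
    constructor
    · rintro ⟨ha, hc⟩
      refine ⟨ha, ?_⟩
      have := hc t (Set.mem_singleton t)
      rw [this]; group
    · rintro ⟨ha, hc⟩
      refine ⟨ha, ?_⟩
      intro y hy
      rw [Set.mem_singleton_iff] at hy
      rw [hy]
      calc t * a = (t * a * t⁻¹) * t := by group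
        _ = a * t := by rw [hc]
  let Am : Subgroup N :=
    { carrier := {a | a ∈ A ∧ t * a * t⁻¹ = a⁻¹}
      one_mem' := ⟨A.one_mem, by group⟩
      mul_mem' := by
        rintro a b ⟨ha, hat⟩ ⟨hb, hbt⟩
        refine ⟨A.mul_mem ha hb, ?_⟩
        calc t * (a * b) * t⁻¹ = (t * a * t⁻¹) * (t * b * t⁻¹) := by group
          _ = a⁻¹ * b⁻¹ := by rw [hat, hbt]
          _ = (a * b)⁻¹ := by rw [_root_.mul_inv_rev, hcomm _ (A.inv_mem ha) _ (A.inv_mem hb)]
      inv_mem' := by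
        rintro a ⟨ha, hat⟩
        refine ⟨A.inv_mem ha, ?_⟩
        calc t * a⁻¹ * t⁻¹ = (t * a * t⁻¹)⁻¹ := by group
          _ = a⁻¹⁻¹ := by rw [hat] }
  have hAmmem : ∀ a, a ∈ Am ↔ a ∈ A ∧ t * a * t⁻¹ = a⁻¹ := fun a => Iff.rfl
  -- invariance under N
  have hinvar : ∀ (n : N) (a b : N), a ∈ A → t * a * t⁻¹ = b → t * (n * a * n⁻¹) * t⁻¹ = n * b * n⁻¹ := by
    intro n a b ha hab
    obtain ⟨a₁, ha₁, h1⟩ := hF1 n
    have h2 : a₁ * a * a₁⁻¹ = a := by
      rw [hcomm a₁ ha₁ a ha]; group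
    calc t * (n * a * n⁻¹) * t⁻¹ = n * ((n⁻¹ * t * n) * a * (n⁻¹ * t * n)⁻¹) * n⁻¹ := by group
      _ = n * (t * (a₁ * a * a₁⁻¹) * t⁻¹) * n⁻¹ := by rw [h1]; group
      _ = n * b * n⁻¹ := by rw [h2, hab]
  have hLinv : ∀ n : N, ∀ a ∈ L, n * a * n⁻¹ ∈ L := by
    intro n a ha
    rw [hLmem] at ha ⊢
    exact ⟨hAn.conj_mem a ha.1 n, hinvar n a a ha.1 ha.2⟩
  have hAminv : ∀ n : N, ∀ a ∈ Am, n * a * n⁻¹ ∈ Am := by
    intro n a ha
    rw [hAmmem] at ha ⊢
    refine ⟨hAn.conj_mem a ha.1 n, ?_⟩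
    rw [hinvar n a a⁻¹ ha.1 ha.2]; group
  -- decomposition
  have hdec : ∀ a ∈ A, ∃ l ∈ L, ∃ m ∈ Am, a = l * m := by
    intro a ha
    have hta := htconj a ha
    have h1 : a * (t * a * t⁻¹) ∈ L := by
      rw [hLmem]
      refine ⟨A.mul_mem ha hta, ?_⟩
      calc t * (a * (t * a * t⁻¹)) * t⁻¹ = (t * a * t⁻¹) * ((t * t) * a * (t * t)⁻¹) := by group
        _ = (t * a * t⁻¹) * a := by rw [htt]; group
        _ = a * (t * a * t⁻¹) := hcomm _ hta _ ha
    have h2 : a * (t * a * t⁻¹)⁻¹ ∈ Am := by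
      rw [hAmmem]
      refine ⟨A.mul_mem ha (A.inv_mem hta), ?_⟩
      calc t * (a * (t * a * t⁻¹)⁻¹) * t⁻¹ = (t * a * t⁻¹) * ((t * t) * a * (t * t)⁻¹)⁻¹ := by group
        _ = (t * a * t⁻¹) * a⁻¹ := by rw [htt]; group
        _ = (a * (t * a * t⁻¹)⁻¹)⁻¹ := by rw [_root_.mul_inv_rev, inv_inv]
    refine ⟨(a * (t * a * t⁻¹)) ^ (k + 1), L.pow_mem h1 _, (a * (t * a * t⁻¹)⁻¹) ^ (k + 1), Am.pow_mem h2 _, ?_⟩
    have hc : Commute (a * (t * a * t⁻¹)) (a * (t * a * t⁻¹)⁻¹) :=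
      hcomm _ (A.mul_mem ha hta) _ (A.mul_mem ha (A.inv_mem hta))
    rw [← hc.mul_pow]
    have key : ∀ c ∈ A, a * c * (a * c⁻¹) = a * a := by
      intro c hcA
      calc a * c * (a * c⁻¹) = a * (c * a) * c⁻¹ := by group
        _ = a * (a * c) * c⁻¹ := by rw [hcomm c hcA a ha]
        _ = a * a := by group
    have : a * (t * a * t⁻¹) * (a * (t * a * t⁻¹)⁻¹) = a * a := key _ hta
    rw [this, hsqrt a ha]
  have hLAm : L ⊓ Am = ⊥ := by
    rw [eq_bot_iff]
    intro a ha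
    rw [Subgroup.mem_bot]
    have h1 := (hLmem a).mp ha.1
    have h2 := (hAmmem a).mp ha.2
    apply hsq1 a h1.1
    have : a = a⁻¹ := h1.2.symm.trans h2.2
    calc a * a = a * a⁻¹ := by rw [← this]
      _ = 1 := mul_inv_cancel a
  -- L is trivial
  have hLbot : L = ⊥ := by
    by_contra hLne
    have hAmne : Am ≠ ⊥ := by
      intro hAm0
      apply htA
      rw [← hAself, Subgroup.mem_centralizer_iff]
      intro a ha
      obtain ⟨l, hl, m, hm, rfl⟩ := hdec a ha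
      rw [hAm0, Subgroup.mem_bot] at hm
      subst hm
      rw [mul_one]
      have := ((hLmem l).mp hl).2
      calc l * t = (t * l * t⁻¹)⁻¹⁻¹ * t := by rw [this, inv_inv]
        _ = t * l := by group
    -- cards
    have hset : ((L : Set N) * (Am : Set N)) = (A : Set N) := by
      ext a
      constructor
      · rintro ⟨l, hl, m, hm, rfl⟩
        exact A.mul_mem ((hLmem l).mp hl).1 ((hAmmem m).mp hm).1
      · intro ha
        obtain ⟨l, hl, m, hm, rfl⟩ := hdec a ha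
        exact ⟨l, hl, m, hm, rfl⟩
    have hcard : Nat.card L * Nat.card Am = p ^ 2 := by
      rw [← card_mul_set_mul_card_inf, hLAm, hset]
      simp [hAcard]
    have hLle : L ≤ A := inf_le_left
    have hAmle : Am ≤ A := fun a ha => ((hAmmem a).mp ha).1
    have hL1 : Nat.card L ≠ 1 := fun h => hLne (Subgroup.card_eq_one.mp h)
    have hAm1 : Nat.card Am ≠ 1 := fun h => hAmne (Subgroup.card_eq_one.mp h)
    have hLp : Nat.card L = p := by
      have hd : Nat.card L ∣ p ^ 2 := Dvd.intro _ hcard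
      obtain ⟨i, hi, hi'⟩ := (Nat.dvd_prime_pow hp').mp hd
      interval_cases i
      · exact absurd (by simpa using hi') hL1
      · simpa using hi'
      · exfalso
        rw [hi'] at hcard
        have : Nat.card Am = 1 := by
          have hpos : 0 < p ^ 2 := pow_pos hp'.pos 2
          exact Nat.eq_of_mul_eq_mul_left hpos (by rw [hcard, mul_one])
        exact hAm1 this
    have hAmp : Nat.card Am = p := by
      rw [hLp, pow_two] at hcard
      exact Nat.eq_of_mul_eq_mul_left hp'.pos hcard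
    -- generators
    obtain ⟨l, hlL, hl1⟩ : ∃ l ∈ L, l ≠ 1 := by
      by_contra hcon
      push Not at hcon
      apply hLne
      rw [eq_bot_iff]
      intro x hx
      rw [Subgroup.mem_bot]; exact hcon x hx
    obtain ⟨m, hmAm, hm1⟩ : ∃ m ∈ Am, m ≠ 1 := by
      by_contra hcon
      push Not at hcon
      apply hAmne
      rw [eq_bot_iff]
      intro x hx
      rw [Subgroup.mem_bot]; exact hcon x hx
    have hlo : orderOf l = p := orderOf_eq_prime (hexp l (hLle hlL)) hl1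
    have hmo : orderOf m = p := orderOf_eq_prime (hexp m (hAmle hmAm)) hm1
    have hLz : L = Subgroup.zpowers l := by
      symm
      apply Subgroup.eq_of_le_of_card_ge (by rw [Subgroup.zpowers_le]; exact hlL)
      rw [Nat.card_zpowers, hlo, hLp]
    have hAmz : Am = Subgroup.zpowers m := by
      symm
      apply Subgroup.eq_of_le_of_card_ge (by rw [Subgroup.zpowers_le]; exact hmAm)
      rw [Nat.card_zpowers, hmo, hAmp]
    -- the quotient is abelian
    have hab : ∀ n₁ n₂ : N, (n₂ * n₁)⁻¹ * (n₁ * n₂) ∈ A := by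
      intro n₁ n₂
      rw [← hAself, Subgroup.mem_centralizer_iff]
      intro a ha
      obtain ⟨l', hl', m', hm', rfl⟩ := hdec a ha
      have e1 := conj_comm_on_zpowers l n₁ n₂ (by rw [← hLz]; exact hLinv n₁ l hlL)
        (by rw [← hLz]; exact hLinv n₂ l hlL) l' (by rw [← hLz]; exact hl')
      have e2 := conj_comm_on_zpowers m n₁ n₂ (by rw [← hAmz]; exact hAminv n₁ m hmAm)
        (by rw [← hAmz]; exact hAminv n₂ m hmAm) m' (by rw [← hAmz]; exact hm')
      have e3 : (n₁ * n₂) * (l' * m') * (n₁ * n₂)⁻¹ = (n₂ * n₁) * (l' * m') * (n₂ * n₁)⁻¹ := by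
        calc (n₁ * n₂) * (l' * m') * (n₁ * n₂)⁻¹
            = ((n₁ * n₂) * l' * (n₁ * n₂)⁻¹) * ((n₁ * n₂) * m' * (n₁ * n₂)⁻¹) := by group
          _ = ((n₂ * n₁) * l' * (n₂ * n₁)⁻¹) * ((n₂ * n₁) * m' * (n₂ * n₁)⁻¹) := by rw [e1, e2]
          _ = (n₂ * n₁) * (l' * m') * (n₂ * n₁)⁻¹ := by group
      calc l' * m' * ((n₂ * n₁)⁻¹ * (n₁ * n₂))
          = (n₂ * n₁)⁻¹ * ((n₂ * n₁) * (l' * m') * (n₂ * n₁)⁻¹) * (n₁ * n₂) := by group
        _ = (n₂ * n₁)⁻¹ * ((n₁ * n₂) * (l' * m') * (n₁ * n₂)⁻¹) * (n₁ * n₂) := by rw [e3]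
        _ = (n₂ * n₁)⁻¹ * (n₁ * n₂) * (l' * m') := by group
    obtain ⟨qu, hqu⟩ := e.surjective (uM : Matrix.SpecialLinearGroup (Fin 2) F)
    obtain ⟨qv, hqv⟩ := e.surjective (vM : Matrix.SpecialLinearGroup (Fin 2) F)
    obtain ⟨nu, rfl⟩ := QuotientGroup.mk_surjective qu
    obtain ⟨nv, rfl⟩ := QuotientGroup.mk_surjective qv
    apply uv_ne (F := F)
    rw [← hqu, ← hqv, ← map_mul, ← map_mul, ← QuotientGroup.mk_mul, ← QuotientGroup.mk_mul]
    congr 1
    rw [QuotientGroup.eq]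
    have := hab nu nv
    have h3 : (nu * nv)⁻¹ * (nv * nu) = ((nv * nu)⁻¹ * (nu * nv))⁻¹ := by group
    rw [h3]
    exact A.inv_mem this
  -- t inverts A
  have hinv : ∀ a ∈ A, t * a * t⁻¹ = a⁻¹ := by
    intro a ha
    obtain ⟨l, hl, m, hm, rfl⟩ := hdec a ha
    rw [hLbot, Subgroup.mem_bot] at hl
    subst hl
    rw [one_mul]
    exact ((hAmmem m).mp hm).2
  refine ⟨Subgroup.centralizer ({t} : Set N), ?_, ?_⟩
  · rw [← hL, hLbot]
  · rw [eq_top_iff]
    intro n _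
    obtain ⟨a₁, ha₁, h1⟩ := hF1 n
    set b := a₁ ^ (k + 1) with hb
    have hbA : b ∈ A := A.pow_mem ha₁ _
    have hbb : b * b = a₁ := by
      rw [hb, ← pow_add, ← two_mul, show 2 * (k + 1) = p + 1 by omega, pow_succ, hexp a₁ ha₁, one_mul]
    have h2 : b⁻¹ * t * b = t * a₁ := by
      have h3 : t * b⁻¹ * t⁻¹ = b := by
        have := hinv b⁻¹ (A.inv_mem hbA)
        rw [inv_inv] at this
        exact this
      calc b⁻¹ * t * b = t * (t⁻¹ * b⁻¹ * t) * b := by group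
        _ = t * (t * b⁻¹ * t⁻¹) * b := by rw [htinv]
        _ = t * b * b := by rw [h3]
        _ = t * a₁ := by rw [mul_assoc, hbb]
    have h4 : n * b⁻¹ ∈ Subgroup.centralizer ({t} : Set N) := by
      rw [Subgroup.mem_centralizer_iff]
      intro y hy
      rw [Set.mem_singleton_iff] at hy
      rw [hy]
      have h5 : (n * b⁻¹)⁻¹ * t * (n * b⁻¹) = t := by
        calc (n * b⁻¹)⁻¹ * t * (n * b⁻¹) = b * (n⁻¹ * t * n) * b⁻¹ := by group
          _ = b * (b⁻¹ * t * b) * b⁻¹ := by rw [h1, h2]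
          _ = t := by group
      calc t * (n * b⁻¹) = (n * b⁻¹) * ((n * b⁻¹)⁻¹ * t * (n * b⁻¹)) := by group
        _ = n * b⁻¹ * t := by rw [h5]
    have : n = (n * b⁻¹) * b := by group
    rw [this]
    exact Subgroup.mul_mem _ (Subgroup.mem_sup_right h4) (Subgroup.mem_sup_left hbA)

end Cfsg.Agent.S3075
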