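import Cfsg.Statements.S3076
import Mathlib
import Cfsg.Agent.Lib.Helper5.PConstr
import Cfsg.Agent.Lib.helper17.Cores
import Cfsg.Agent.Lib.helper17.PIrr

set_option autoImplicit false
open Cfsg

namespace Cfsg.Agent.S3076

section helpers

variable {N : Type*} [Group N] [Finite N] {p : ℕ} [hp : Fact p.Prime]

theorem relIndex_mul_card' {H K : Subgroup N} (h : H ≤ K) :
    H.relIndex K * Nat.card H = Nat.card K := by
  have := Subgroup.relIndex_mul_relIndex ⊥ H K bot_le h
  rw [Subgroup.relIndex_bot_left, Subgroup.relIndex_bot_left] at this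
  rw [mul_comm]; exact this

theorem relIndex_normal_right (S C : Subgroup N) [C.Normal] :
    S.relIndex C = S.relIndex (S ⊔ C) := by
  have h1 : S.relIndex (S ⊔ C) * Nat.card S = Nat.card (S ⊔ C : Subgroup N) :=
    relIndex_mul_card' le_sup_left
  have h2 : C.relIndex (S ⊔ C) * Nat.card C = Nat.card (S ⊔ C : Subgroup N) :=
    relIndex_mul_card' le_sup_right
  have h3 : C.relIndex (S ⊔ C) = C.relIndex S := Subgroup.relIndex_sup_right S C
  have h4 : (S ⊓ C).relIndex S * Nat.card (S ⊓ C : Subgroup N) = Nat.card S :=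
    relIndex_mul_card' inf_le_left
  have h5 : (S ⊓ C).relIndex C * Nat.card (S ⊓ C : Subgroup N) = Nat.card C :=
    relIndex_mul_card' inf_le_right
  rw [Subgroup.inf_relIndex_left] at h4
  rw [Subgroup.inf_relIndex_right] at h5
  have hpos1 : 0 < Nat.card (S ⊓ C : Subgroup N) := Nat.card_pos
  have hpos2 : 0 < C.relIndex S := by
    apply Nat.pos_of_ne_zero
    intro h0
    rw [h0, zero_mul] at h4
    exact (Nat.card_pos (α := S)).ne' h4.symm
  have : S.relIndex (S ⊔ C) * (C.relIndex S * Nat.card (S ⊓ C : Subgroup N)) =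
      S.relIndex C * (C.relIndex S * Nat.card (S ⊓ C : Subgroup N)) := by
    rw [h4, h1, ← h2, h3, ← h5, ← h4]; ring
  exact (Nat.eq_of_mul_eq_mul_right (Nat.mul_pos hpos2 hpos1) this).symm

theorem relIndex_normal_dvd_index (S C : Subgroup N) [C.Normal] : S.relIndex C ∣ S.index := by
  rw [relIndex_normal_right]
  exact Subgroup.relIndex_dvd_index_of_le le_sup_left

theorem le_comap_pCore_of_pow_mem (A B : Subgroup N) [A.Normal] [B.Normal]
    (h : ∀ a ∈ A, ∃ k : ℕ, a ^ p ^ k ∈ B) :
    A ≤ (pCore p (N ⧸ B)).comap (QuotientGroup.mk' B) := by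
  rw [← Subgroup.map_le_iff_le_comap]
  apply Cfsg.Agent.Lib.helper17.le_pCore
  · exact Subgroup.Normal.map inferInstance _ (QuotientGroup.mk'_surjective B)
  · rintro ⟨y, hy⟩
    obtain ⟨a, ha, rfl⟩ := hy
    obtain ⟨k, hk⟩ := h a ha
    refine ⟨k, ?_⟩
    apply Subtype.ext
    show (QuotientGroup.mk' B a) ^ p ^ k = 1
    rw [← map_pow]
    exact (QuotientGroup.eq_one_iff _).mpr hk

theorem pow_mem_of_mem_comap_pCore (B : Subgroup N) [B.Normal] {x : N}
    (hx : x ∈ (pCore p (N ⧸ B)).comap (QuotientGroup.mk' B)) : ∃ k : ℕ, x ^ p ^ k ∈ B := by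
  have h1 := Cfsg.Agent.Lib.helper17.pCore_isPGroup p (N ⧸ B)
  obtain ⟨k, hk⟩ := h1 ⟨QuotientGroup.mk' B x, hx⟩
  refine ⟨k, ?_⟩
  have := congrArg Subtype.val hk
  simp only [Subgroup.coe_pow, Subgroup.coe_one] at this
  rw [← map_pow] at this
  exact (QuotientGroup.eq_one_iff _).mp this


theorem sylow_split (H C : Subgroup N) [H.Normal] [C.Normal] (hH : IsPGroup p H)
    (hC : ∀ n, n ∈ C ↔ ∀ h ∈ H, h * n = n * h) (hZ : ¬ p ∣ (H ⊓ C).relIndex C) :
    ∃ K : Subgroup N, K.Normal ∧ (Nat.card K).Coprime p ∧ (H ⊓ C) ⊔ K = C := by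
  have hcent : ∀ z ∈ (H ⊓ C).subgroupOf C, ∀ e : C, z * e = e * z := by
    intro z hz e
    have hz' : (z : N) ∈ H := (Subgroup.mem_subgroupOf.mp hz).1
    have := (hC e.1).mp e.2 z.1 hz'
    exact Subtype.ext this
  have hZp : IsPGroup p ((H ⊓ C).subgroupOf C) :=
    (hH.to_le inf_le_left).comap_subtype
  have hcop : (Nat.card ((H ⊓ C).subgroupOf C)).Coprime ((H ⊓ C).subgroupOf C).index := by
    obtain ⟨n, hn⟩ := hZp.exists_card_eq
    rw [hn]
    apply Nat.Coprime.pow_left
    rw [Nat.Prime.coprime_iff_not_dvd hp.out]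
    exact hZ
  obtain ⟨D, hDchar, hD⟩ := Cfsg.Agent.Lib.Helper5.h5_central_hall_complement _ hcent hcop
  have hcardD : Nat.card D = ((H ⊓ C).subgroupOf C).index := by
    have h1 := hD.card_mul_card
    have h2 := ((H ⊓ C).subgroupOf C).card_mul_index
    rw [← h2] at h1
    exact Nat.eq_of_mul_eq_mul_left Nat.card_pos h1
  refine ⟨D.map C.subtype, Cfsg.Agent.Lib.Helper5.h5_normal_map_of_characteristic C D, ?_, ?_⟩
  · rw [Subgroup.card_map_of_injective (Subgroup.subtype_injective C), hcardD]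
    exact ((Nat.Prime.coprime_iff_not_dvd hp.out).mpr hZ).symm
  · have h1 := hD.sup_eq_top
    have h2 := congrArg (Subgroup.map C.subtype) h1
    rw [Subgroup.map_sup, Subgroup.subgroupOf_map_subtype, ← MonoidHom.range_eq_map,
      Subgroup.range_subtype] at h2
    rw [inf_assoc, inf_idem] at h2
    exact h2


theorem eq_one_of_dvd_of_dvd {d n m : ℕ} (h1 : d ∣ p ^ n) (h2 : d ∣ m) (h3 : ¬ p ∣ m) : d = 1 := by
  obtain ⟨j, _, rfl⟩ := (Nat.dvd_prime_pow hp.out).mp h1
  rcases Nat.eq_zero_or_pos j with rfl | hj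
  · simp
  · exact absurd ((dvd_pow_self p hj.ne').trans h2) h3

theorem internal (H C S : Subgroup N) [H.Normal] [C.Normal] (hH : IsPGroup p H)
    (hC : ∀ n, n ∈ C ↔ ∀ h ∈ H, h * n = n * h) (hS : IsPGroup p S) (hSi : ¬ p ∣ S.index)
    (hHS : H ≤ S) :
    (H ≤ (pCore p (N ⧸ C)).comap (QuotientGroup.mk' C) ∧
      ¬ p ∣ H.relIndex ((pCore p (N ⧸ C)).comap (QuotientGroup.mk' C))) ↔
    (S ⊓ C ≤ H ∧ pPrimePCore p N = H ⊔ C) := by
  have hOn : (pPrimeCore p N).Normal := Cfsg.Agent.Lib.Helper1.pPrimeCore_normal p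
  have hYn : (pPrimePCore p N).Normal := Cfsg.Agent.Lib.Helper5.h5_pPrimePCore_normal p N
  have hpowH : ∀ (B : Subgroup N), ∀ a ∈ H, ∃ k : ℕ, a ^ p ^ k ∈ B := by
    intro B a ha
    obtain ⟨k, hk⟩ := hH ⟨a, ha⟩
    refine ⟨k, ?_⟩
    have := congrArg Subtype.val hk
    simp only [Subgroup.coe_pow, Subgroup.coe_one] at this
    rw [this]; exact B.one_mem
  have hHX : H ≤ (pCore p (N ⧸ C)).comap (QuotientGroup.mk' C) :=
    le_comap_pCore_of_pow_mem H C (hpowH C)
  have hCX : C ≤ (pCore p (N ⧸ C)).comap (QuotientGroup.mk' C) := by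
    intro c hc
    rw [Subgroup.mem_comap]
    have : QuotientGroup.mk' C c = 1 := (QuotientGroup.eq_one_iff c).mpr hc
    rw [this]; exact Subgroup.one_mem _
  have hXn : ((pCore p (N ⧸ C)).comap (QuotientGroup.mk' C)).Normal := by
    have := Cfsg.Agent.Lib.helper17.pCore_normal p (N ⧸ C); infer_instance
  have hOC : pPrimeCore p N ≤ C := by
    intro o ho
    rw [hC]
    intro h hh
    have hcop : (Nat.card H).Coprime (Nat.card (pPrimeCore p N)) := by
      obtain ⟨n, hn⟩ := hH.exists_card_eq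
      rw [hn]
      exact Nat.Coprime.pow_left _ (Cfsg.Agent.Lib.helper17.pPrimeCore_coprime p).symm
    have hbot : H ⊓ pPrimeCore p N = ⊥ := (Subgroup.disjoint_of_coprime_natCard hcop).eq_bot
    have hmem : h * o * h⁻¹ * o⁻¹ ∈ H ⊓ pPrimeCore p N := by
      refine ⟨?_, ?_⟩
      · have : o * h⁻¹ * o⁻¹ ∈ H := Subgroup.Normal.conj_mem inferInstance _ (H.inv_mem hh) o
        have h2 := H.mul_mem hh this
        have h3 : h * o * h⁻¹ * o⁻¹ = h * (o * h⁻¹ * o⁻¹) := by group
        rw [h3]; exact h2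
      · have : h * o * h⁻¹ ∈ pPrimeCore p N := Subgroup.Normal.conj_mem inferInstance _ ho h
        exact Subgroup.mul_mem _ this (Subgroup.inv_mem _ ho)
    rw [hbot, Subgroup.mem_bot] at hmem
    have : h * o = (h * o * h⁻¹ * o⁻¹) * (o * h) := by group
    rw [this, hmem, one_mul]
  have hYX : pPrimePCore p N ≤ (pCore p (N ⧸ C)).comap (QuotientGroup.mk' C) := by
    apply le_comap_pCore_of_pow_mem
    intro a ha
    obtain ⟨k, hk⟩ := pow_mem_of_mem_comap_pCore (pPrimeCore p N) ha
    exact ⟨k, hOC hk⟩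
  have hHY : H ≤ pPrimePCore p N := le_comap_pCore_of_pow_mem H _ (hpowH _)
  constructor
  · rintro ⟨-, hrel⟩
    have hZ : ¬ p ∣ (H ⊓ C).relIndex C := by
      rw [Subgroup.inf_relIndex_right, ← Subgroup.relIndex_sup_left C H]
      intro hdvd
      apply hrel
      rw [← Subgroup.relIndex_mul_relIndex H (H ⊔ C) _ le_sup_left (sup_le hHX hCX)]
      exact Dvd.dvd.mul_right hdvd _
    obtain ⟨K, hKn, hKc, hKC⟩ := sylow_split H C hH hC hZ
    refine ⟨?_, ?_⟩
    · have hZT : H ⊓ C ≤ S ⊓ C := inf_le_inf_right C hHS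
      have h1 := Subgroup.relIndex_mul_relIndex (H ⊓ C) (S ⊓ C) C hZT inf_le_right
      obtain ⟨n, hn⟩ := (hS.to_le (inf_le_left : S ⊓ C ≤ S)).exists_card_eq
      have h2 : (H ⊓ C).relIndex (S ⊓ C) ∣ p ^ n := hn ▸ Subgroup.relIndex_dvd_card _ _
      have h3 : (H ⊓ C).relIndex (S ⊓ C) = 1 :=
        eq_one_of_dvd_of_dvd h2 (Dvd.intro _ h1) hZ
      exact (Subgroup.relIndex_eq_one.mp h3).trans inf_le_left
    · apply le_antisymm
      · refine hYX.trans ?_
        rw [← Subgroup.relIndex_eq_one]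
        have h1 : (H ⊔ C).relIndex ((pCore p (N ⧸ C)).comap (QuotientGroup.mk' C)) ∣
            C.relIndex ((pCore p (N ⧸ C)).comap (QuotientGroup.mk' C)) :=
          Subgroup.relIndex_dvd_of_le_left _ le_sup_right
        have h2 : (H ⊔ C).relIndex ((pCore p (N ⧸ C)).comap (QuotientGroup.mk' C)) ∣
            H.relIndex ((pCore p (N ⧸ C)).comap (QuotientGroup.mk' C)) :=
          Subgroup.relIndex_dvd_of_le_left _ le_sup_left
        have h3 : C.relIndex ((pCore p (N ⧸ C)).comap (QuotientGroup.mk' C)) =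
            Nat.card (pCore p (N ⧸ C)) := by
          have h4 := Subgroup.relIndex_ker (QuotientGroup.mk' C)
            (K := (pCore p (N ⧸ C)).comap (QuotientGroup.mk' C))
          rw [QuotientGroup.ker_mk',
            Subgroup.map_comap_eq_self_of_surjective (QuotientGroup.mk'_surjective C)] at h4
          exact h4
        obtain ⟨n, hn⟩ := (Cfsg.Agent.Lib.helper17.pCore_isPGroup p (N ⧸ C)).exists_card_eq
        rw [h3, hn] at h1
        exact eq_one_of_dvd_of_dvd h1 h2 hrel
      · apply sup_le hHY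
        rw [← hKC]
        apply sup_le (inf_le_left.trans hHY)
        exact (Cfsg.Agent.Lib.helper17.le_pPrimeCore hKn hKc).trans
          (Cfsg.Agent.Lib.Helper5.h5_pPrimeCore_le_pPrimePCore p N)
  · rintro ⟨hSC, hY⟩
    refine ⟨hHX, ?_⟩
    have hZ : ¬ p ∣ (H ⊓ C).relIndex C := by
      intro hdvd
      apply hSi
      have h1 : (H ⊓ C).relIndex C ∣ (S ⊓ C).relIndex C :=
        Subgroup.relIndex_dvd_of_le_left _ (le_inf hSC inf_le_right)
      rw [Subgroup.inf_relIndex_right S C] at h1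
      exact hdvd.trans (h1.trans (relIndex_normal_dvd_index S C))
    obtain ⟨K, hKn, hKc, hKC⟩ := sylow_split H C hH hC hZ
    have := hKn
    have hKO : K ≤ pPrimeCore p N := Cfsg.Agent.Lib.helper17.le_pPrimeCore hKn hKc
    have hKle : K ≤ C := hKC ▸ le_sup_right
    -- K.relIndex C is a p-power
    obtain ⟨j, hj⟩ : ∃ j : ℕ, K.relIndex C = p ^ j := by
      have h1 : K.relIndex C = K.relIndex (H ⊓ C) := by
        conv_lhs => rw [← hKC]
        exact Subgroup.relIndex_sup_right (H ⊓ C) K
      obtain ⟨n, hn⟩ := (hH.to_le (inf_le_left : H ⊓ C ≤ H)).exists_card_eq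
      have h2 : K.relIndex (H ⊓ C) ∣ p ^ n := hn ▸ Subgroup.relIndex_dvd_card _ _
      obtain ⟨j, _, hj⟩ := (Nat.dvd_prime_pow hp.out).mp h2
      exact ⟨j, h1.trans hj⟩
    have hpowC : ∀ c ∈ C, c ^ p ^ j ∈ K := by
      intro c hc
      have : (K.subgroupOf C).Normal := Subgroup.Normal.subgroupOf hKn C
      have := Subgroup.pow_index_mem (K.subgroupOf C) (⟨c, hc⟩ : C)
      rw [Subgroup.mem_subgroupOf] at this
      have h2 : (K.subgroupOf C).index = p ^ j := hj
      rw [h2] at this
      exact this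
    have hXY : (pCore p (N ⧸ C)).comap (QuotientGroup.mk' C) ≤ pPrimePCore p N := by
      apply le_comap_pCore_of_pow_mem
      intro x hx
      obtain ⟨a, ha⟩ := pow_mem_of_mem_comap_pCore C hx
      refine ⟨a + j, ?_⟩
      rw [pow_add, pow_mul]
      exact hKO (hpowC _ ha)
    have hHK : H ⊔ C = H ⊔ K := by
      apply le_antisymm
      · apply sup_le le_sup_left
        rw [← hKC]
        exact sup_le (inf_le_left.trans le_sup_left) le_sup_right
      · exact sup_le le_sup_left (hKle.trans le_sup_right)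
    rw [hY, hHK] at hXY
    have h1 := Subgroup.relIndex_mul_relIndex H _ (H ⊔ K) hHX hXY
    rw [Subgroup.relIndex_sup_left K H] at h1
    intro hdvd
    have h2 : p ∣ Nat.card K :=
      (hdvd.trans (Dvd.intro _ h1)).trans (Subgroup.relIndex_dvd_card H K)
    exact (Nat.Prime.coprime_iff_not_dvd hp.out).mp hKc.symm h2


end helpers


/-- Let P be a Sylow p-subgroup of the finite group G and H ≤ P a subgroup with N_P(H) a Sylow p-subgroup of N_G(H). Let N be the preimage in N_G(H) of O_p(N_G(H)/C_G(H)). Then H is a Sylow p-subgroup of N if and only if C_P(H) ≤ H and O_{p',p}(N_G(H)) = H·C_G(H). -/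
theorem result {G : Type*} [Group G] [Finite G] {p : ℕ} [Fact p.Prime]
    (P : Sylow p G) (H : Subgroup G) (hHP : H ≤ (P : Subgroup G))
    (hSyl : ¬ p ∣ ((P : Subgroup G) ⊓ Subgroup.normalizer (H : Set G)).relIndex (Subgroup.normalizer (H : Set G)))
    [hC : ((Subgroup.centralizer (H : Set G)).subgroupOf (Subgroup.normalizer (H : Set G))).Normal] :
    (H ≤ ((Cfsg.pCore p (↥(Subgroup.normalizer (H : Set G)) ⧸
              (Subgroup.centralizer (H : Set G)).subgroupOf (Subgroup.normalizer (H : Set G)))).comap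
            (QuotientGroup.mk' _)).map (Subgroup.normalizer (H : Set G)).subtype ∧
      ¬ p ∣ H.relIndex (((Cfsg.pCore p (↥(Subgroup.normalizer (H : Set G)) ⧸
              (Subgroup.centralizer (H : Set G)).subgroupOf (Subgroup.normalizer (H : Set G)))).comap
            (QuotientGroup.mk' _)).map (Subgroup.normalizer (H : Set G)).subtype)) ↔
    ((P : Subgroup G) ⊓ Subgroup.centralizer (H : Set G) ≤ H ∧
      (Cfsg.pPrimePCore p ↥(Subgroup.normalizer (H : Set G))).map (Subgroup.normalizer (H : Set G)).subtype =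
        H ⊔ Subgroup.centralizer (H : Set G)) := by
  have hHN : H ≤ Subgroup.normalizer (H : Set G) := Subgroup.le_normalizer
  have hCN : Subgroup.centralizer (H : Set G) ≤ Subgroup.normalizer (H : Set G) :=
    Subgroup.centralizer_le_normalizer _
  have hinj : Function.Injective (Subgroup.normalizer (H : Set G)).subtype :=
    Subgroup.subtype_injective _
  have eH : (H.subgroupOf (Subgroup.normalizer (H : Set G))).map
      (Subgroup.normalizer (H : Set G)).subtype = H := by
    rw [Subgroup.subgroupOf_map_subtype, inf_eq_left.mpr hHN]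
  have eC : ((Subgroup.centralizer (H : Set G)).subgroupOf (Subgroup.normalizer (H : Set G))).map
      (Subgroup.normalizer (H : Set G)).subtype = Subgroup.centralizer (H : Set G) := by
    rw [Subgroup.subgroupOf_map_subtype, inf_eq_left.mpr hCN]
  have eS : ((P : Subgroup G).subgroupOf (Subgroup.normalizer (H : Set G))).map
      (Subgroup.normalizer (H : Set G)).subtype = (P : Subgroup G) ⊓ Subgroup.normalizer (H : Set G) :=
    Subgroup.subgroupOf_map_subtype _ _
  have : (H.subgroupOf (Subgroup.normalizer (H : Set G))).Normal := Subgroup.normal_in_normalizer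
  have hHp : IsPGroup p (H.subgroupOf (Subgroup.normalizer (H : Set G))) :=
    (P.isPGroup'.to_le hHP).comap_subtype
  have hSp : IsPGroup p ((P : Subgroup G).subgroupOf (Subgroup.normalizer (H : Set G))) :=
    P.isPGroup'.comap_subtype
  have hcen : ∀ n : ↥(Subgroup.normalizer (H : Set G)),
      n ∈ (Subgroup.centralizer (H : Set G)).subgroupOf (Subgroup.normalizer (H : Set G)) ↔
      ∀ h ∈ H.subgroupOf (Subgroup.normalizer (H : Set G)), h * n = n * h := by
    intro n
    rw [Subgroup.mem_subgroupOf, Subgroup.mem_centralizer_iff]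
    constructor
    · intro h1 h hh
      apply Subtype.ext
      exact h1 h.1 (Subgroup.mem_subgroupOf.mp hh)
    · intro h1 h hh
      have := h1 ⟨h, hHN hh⟩ (Subgroup.mem_subgroupOf.mpr hh)
      exact congrArg Subtype.val this
  have hSi : ¬ p ∣ ((P : Subgroup G).subgroupOf (Subgroup.normalizer (H : Set G))).index := by
    rw [Subgroup.inf_relIndex_right] at hSyl
    exact hSyl
  have hHS : H.subgroupOf (Subgroup.normalizer (H : Set G)) ≤
      (P : Subgroup G).subgroupOf (Subgroup.normalizer (H : Set G)) :=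
    fun x hx => hHP hx
  have key := internal (H.subgroupOf (Subgroup.normalizer (H : Set G)))
    ((Subgroup.centralizer (H : Set G)).subgroupOf (Subgroup.normalizer (H : Set G)))
    ((P : Subgroup G).subgroupOf (Subgroup.normalizer (H : Set G))) hHp hcen hSp hSi hHS
  have e1 : ∀ X : Subgroup ↥(Subgroup.normalizer (H : Set G)),
      H ≤ X.map (Subgroup.normalizer (H : Set G)).subtype ↔
        H.subgroupOf (Subgroup.normalizer (H : Set G)) ≤ X := by
    intro X
    constructor
    · intro h x hx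
      obtain ⟨y, hy, hyx⟩ := h (Subgroup.mem_subgroupOf.mp hx)
      have : y = x := Subtype.ext hyx
      rw [← this]; exact hy
    · intro h x hx
      exact ⟨⟨x, hHN hx⟩, h (Subgroup.mem_subgroupOf.mpr hx), rfl⟩
  have e2 : ∀ X : Subgroup ↥(Subgroup.normalizer (H : Set G)),
      H.relIndex (X.map (Subgroup.normalizer (H : Set G)).subtype) =
        (H.subgroupOf (Subgroup.normalizer (H : Set G))).relIndex X := by
    intro X
    have hle : X.map (Subgroup.normalizer (H : Set G)).subtype ≤ Subgroup.normalizer (H : Set G) := by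
      rintro _ ⟨x, -, rfl⟩; exact x.2
    rw [← Subgroup.relIndex_subgroupOf hle]
    congr 1
    exact Subgroup.comap_map_eq_self_of_injective hinj X
  have e3 : (P : Subgroup G) ⊓ Subgroup.centralizer (H : Set G) ≤ H ↔
      (P : Subgroup G).subgroupOf (Subgroup.normalizer (H : Set G)) ⊓
        (Subgroup.centralizer (H : Set G)).subgroupOf (Subgroup.normalizer (H : Set G)) ≤
        H.subgroupOf (Subgroup.normalizer (H : Set G)) := by
    rw [← Subgroup.map_le_map_iff_of_injective hinj, Subgroup.map_inf _ _ _ hinj, eH, eC, eS,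
      inf_assoc, inf_eq_right.mpr hCN]
  have e4 : (Cfsg.pPrimePCore p ↥(Subgroup.normalizer (H : Set G))).map
        (Subgroup.normalizer (H : Set G)).subtype = H ⊔ Subgroup.centralizer (H : Set G) ↔
      Cfsg.pPrimePCore p ↥(Subgroup.normalizer (H : Set G)) =
        H.subgroupOf (Subgroup.normalizer (H : Set G)) ⊔
        (Subgroup.centralizer (H : Set G)).subgroupOf (Subgroup.normalizer (H : Set G)) := by
    rw [← (Subgroup.map_injective hinj).eq_iff, Subgroup.map_sup, eH, eC]
  rw [e1, e2, e3, e4]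
  exact key

end Cfsg.Agent.S3076
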