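import Cfsg.Statements.S3078
import Cfsg.Agent.Lib.Helper1.GlaubRepl

set_option autoImplicit false
open Cfsg
open Cfsg.Agent.Lib.Helper1 Cfsg.Agent.Lib.Helper18
open scoped commutatorElement

namespace Cfsg.Agent.S3078

def powKer {G : Type*} [Group G] (H : Subgroup G) (hH : ∀ g ∈ H, ∀ h ∈ H, g * h = h * g)
    (n : ℕ) : Subgroup G where
  carrier := {g | g ∈ H ∧ g ^ n = 1}
  one_mem' := ⟨H.one_mem, one_pow n⟩
  mul_mem' := by
    rintro g h ⟨hg, hgn⟩ ⟨hh, hhn⟩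
    refine ⟨H.mul_mem hg hh, ?_⟩
    have hc : Commute g h := hH g hg h hh
    rw [hc.mul_pow, hgn, hhn, one_mul]
  inv_mem' := by
    rintro g ⟨hg, hgn⟩
    exact ⟨H.inv_mem hg, by rw [inv_pow, hgn, inv_one]⟩

theorem mem_powKer {G : Type*} [Group G] (H : Subgroup G)
    (hH : ∀ g ∈ H, ∀ h ∈ H, g * h = h * g) (n : ℕ) (g : G) :
    g ∈ powKer H hH n ↔ g ∈ H ∧ g ^ n = 1 := Iff.rfl

theorem tri_dvd (n : ℕ) (hn : Nat.Coprime n 2) : n ∣ ∑ i ∈ Finset.range n, i := by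
  have h := Finset.sum_range_id_mul_two n
  have h1 : n ∣ (∑ i ∈ Finset.range n, i) * 2 := by rw [h]; exact dvd_mul_right _ _
  exact Nat.Coprime.dvd_of_dvd_mul_right hn h1

/-- A replacement Theorem for abelian subgroups of p-groups, p odd. Let G be a finite p-group with p odd, A an abelian subgroup of G, and B a subgroup of nilpotency class at most 2 with [B, B] ≤ A, such that A normalizes B but B does not normalize A. Then there is an abelian subgroup A* of G of the same order as A with A ∩ B strictly contained in A* ∩ B, A* contained in N_G(A) and in the normal closure of A, the exponent of A* dividing the exponent of A, and with the subgroup generated by the elements of order dividing p in A of order at most that of the corresponding subgroup of A* (the rank of A is at most the rank of A*). -/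
theorem result {G : Type*} [Group G] [Finite G] {p : ℕ} [Fact p.Prime] (hp : p ≠ 2) (hG : IsPGroup p G) (A B : Subgroup G) (hA : IsMulCommutative A) (hB2 : ⁅⁅B, B⁆, B⁆ = ⊥) (hBA : ⁅B, B⁆ ≤ A) (hAB : A ≤ Subgroup.normalizer (B : Set G)) (hBnA : ¬ B ≤ Subgroup.normalizer (A : Set G)) : ∃ Astar : Subgroup G, IsMulCommutative Astar ∧ Nat.card Astar = Nat.card A ∧ A ⊓ B < Astar ⊓ B ∧ Astar ≤ Subgroup.normalizer (A : Set G) ∧ Astar ≤ Subgroup.normalClosure (A : Set G) ∧ Monoid.exponent Astar ∣ Monoid.exponent A ∧ Nat.card (Cfsg.omegaOne p A) ≤ Nat.card (Cfsg.omegaOne p Astar) := by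
  classical
  obtain ⟨x, hxB, hxA, hxN⟩ := exists_thompson_element hG hAB hBnA
  have hp2 : Nat.Coprime p 2 := (Nat.coprime_primes (Fact.out : p.Prime) Nat.prime_two).mpr hp
  have hAc : ∀ a ∈ A, ∀ b ∈ A, a * b = b * a := by
    intro a ha b hb
    have := (Subgroup.le_centralizer_iff_isMulCommutative.mpr hA) ha
    rw [Subgroup.mem_centralizer_iff] at this
    exact (this b hb).symm
  obtain ⟨Z, hZ⟩ : ∃ Z : Subgroup G, Z = ⁅B, B⁆ := ⟨_, rfl⟩
  have hZA' : Z ≤ A := hZ ▸ hBA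
  have hZB' : Z ≤ B := by
    rw [hZ, Subgroup.commutator_le]
    intro u hu v hv
    rw [commutatorElement_def]
    exact B.mul_mem (B.mul_mem (B.mul_mem hu hv) (B.inv_mem hu)) (B.inv_mem hv)
  have hZB : ∀ z ∈ Z, ∀ w ∈ B, z * w = w * z := by
    intro z hz w hw
    have h1 : ⁅z, w⁆ ∈ ⁅⁅B, B⁆, B⁆ := Subgroup.commutator_mem_commutator (hZ ▸ hz) hw
    rw [hB2, Subgroup.mem_bot, commutatorElement_eq_one_iff_mul_comm] at h1
    exact h1
  have hZAc : ∀ z ∈ Z, ∀ a ∈ A, z * a = a * z := fun z hz a ha => hAc z (hZA' hz) a ha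
  have hcm : ∀ u ∈ B, ∀ v ∈ B, ⁅u, v⁆ ∈ Z := fun u hu v hv => by
    rw [hZ]; exact Subgroup.commutator_mem_commutator hu hv
  have hconjB : ∀ a ∈ A, ∀ u ∈ B, a * u * a⁻¹ ∈ B := fun a ha u hu =>
    (Subgroup.mem_normalizer_iff.mp (hAB ha) u).mp hu
  have hmulL : ∀ u ∈ B, ∀ v ∈ B, ∀ w ∈ B, ⁅u * v, w⁆ = ⁅u, w⁆ * ⁅v, w⁆ := by
    intro u hu v hv w hw
    have e1 : ⁅u * v, w⁆ = u * ⁅v, w⁆ * u⁻¹ * ⁅u, w⁆ := by
      simp only [commutatorElement_def]; group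
    have e2 : u * ⁅v, w⁆ = ⁅v, w⁆ * u := (hZB _ (hcm v hv w hw) u hu).symm
    have e3 : ⁅v, w⁆ * ⁅u, w⁆ = ⁅u, w⁆ * ⁅v, w⁆ :=
      hZB _ (hcm v hv w hw) _ (hZB' (hcm u hu w hw))
    rw [e1, e2, ← e3]; group
  have hmulR : ∀ u ∈ B, ∀ v ∈ B, ∀ w ∈ B, ⁅u, v * w⁆ = ⁅u, v⁆ * ⁅u, w⁆ := by
    intro u hu v hv w hw
    rw [← commutatorElement_inv (v * w) u, hmulL v hv w hw u hu, mul_inv_rev,
      commutatorElement_inv, commutatorElement_inv]
    exact hZB _ (hcm u hu w hw) _ (hZB' (hcm u hu v hv))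
  have hinvL : ∀ u ∈ B, ∀ w ∈ B, ⁅u⁻¹, w⁆ = ⁅u, w⁆⁻¹ := by
    intro u hu w hw
    have h := hmulL u hu u⁻¹ (B.inv_mem hu) w hw
    rw [mul_inv_cancel, commutatorElement_one_left] at h
    exact eq_inv_of_mul_eq_one_right h.symm
  have hinvR : ∀ u ∈ B, ∀ w ∈ B, ⁅u, w⁻¹⁆ = ⁅u, w⁆⁻¹ := by
    intro u hu w hw
    have h := hmulR u hu w hw w⁻¹ (B.inv_mem hw)
    rw [mul_inv_cancel, commutatorElement_one_right] at h
    exact eq_inv_of_mul_eq_one_right h.symm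
  have hinvA : ∀ a ∈ A, ∀ u ∈ B, ∀ v ∈ B, ⁅a * u * a⁻¹, a * v * a⁻¹⁆ = ⁅u, v⁆ := by
    intro a ha u hu v hv
    have e1 : ⁅a * u * a⁻¹, a * v * a⁻¹⁆ = a * ⁅u, v⁆ * a⁻¹ := by
      simp only [commutatorElement_def]; group
    rw [e1, ← hZAc _ (hcm u hu v hv) a ha]; group
  have hF2 : ∀ u ∈ B, ∀ b ∈ A, ∀ w ∈ A ⊓ B, w * (b * u * b⁻¹ * u⁻¹) = (b * u * b⁻¹ * u⁻¹) * w := by
    intro u hu b hb w hw
    have hwA : w ∈ A := hw.1
    have hwB : w ∈ B := hw.2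
    rw [← commutatorElement_eq_one_iff_mul_comm]
    have e1 : b * u * b⁻¹ * u⁻¹ = (b * u * b⁻¹) * u⁻¹ := by group
    rw [e1, hmulR w hwB _ (hconjB b hb u hu) _ (B.inv_mem hu), hinvR w hwB u hu]
    have e2 : w = b * w * b⁻¹ := by rw [hAc b hb w hwA]; group
    have e3 : ⁅w, b * u * b⁻¹⁆ = ⁅w, u⁆ := by
      conv_lhs => rw [e2]
      exact hinvA b hb w hwB u hu
    rw [e3, mul_inv_cancel]
  obtain ⟨y, hy⟩ : ∃ y : G → G, y = fun a => x * a * x⁻¹ * a⁻¹ := ⟨_, rfl⟩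
  have hyd : ∀ a, y a = x * a * x⁻¹ * a⁻¹ := fun a => by rw [hy]
  have hyB : ∀ a ∈ A, y a ∈ B := by
    intro a ha
    have : y a = x * (a * x⁻¹ * a⁻¹) := by rw [hyd]; group
    rw [this]
    exact B.mul_mem hxB (hconjB a ha x⁻¹ (B.inv_mem hxB))
  have hyN : ∀ a ∈ A, y a ∈ Subgroup.normalizer (A : Set G) := fun a ha => by
    rw [hyd]; exact hxN a ha
  have hyC : ∀ a ∈ A, ∀ w ∈ A ⊓ B, w * y a = y a * w := by
    intro a ha w hw
    have hc : Commute w (a * x * a⁻¹ * x⁻¹) := hF2 x hxB a ha w hw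
    have e : y a = (a * x * a⁻¹ * x⁻¹)⁻¹ := by rw [hyd]; group
    rw [e]
    exact hc.inv_right
  have hcAB : ∀ a ∈ A, ∀ b ∈ A, (y b)⁻¹ * (a * y b * a⁻¹) ∈ A ⊓ B := by
    intro a ha b hb
    refine ⟨?_, B.mul_mem (B.inv_mem (hyB b hb)) (hconjB a ha _ (hyB b hb))⟩
    have hn : (y b)⁻¹ ∈ Subgroup.normalizer (A : Set G) := Subgroup.inv_mem _ (hyN b hb)
    have h1 : (y b)⁻¹ * a * ((y b)⁻¹)⁻¹ ∈ A := (Subgroup.mem_normalizer_iff.mp hn a).mp ha
    have e : (y b)⁻¹ * (a * y b * a⁻¹) = ((y b)⁻¹ * a * ((y b)⁻¹)⁻¹) * a⁻¹ := by group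
    rw [e]
    exact A.mul_mem h1 (A.inv_mem ha)
  have hstar : ∀ a ∈ A, ∀ b ∈ A, ⁅y a, y b⁆ = ⁅x, (y b)⁻¹ * (a * y b * a⁻¹)⁆ := by
    intro a ha b hb
    obtain ⟨c, hc⟩ : ∃ c, c = (y b)⁻¹ * (a * y b * a⁻¹) := ⟨_, rfl⟩
    have hcAB' : c ∈ A ⊓ B := hc ▸ hcAB a ha b hb
    have hcB : c ∈ B := hcAB'.2
    have h1 : ⁅a * x * a⁻¹, a * y b * a⁻¹⁆ = ⁅x, y b⁆ := hinvA a ha x hxB (y b) (hyB b hb)
    have h2 : a * x * a⁻¹ = (y a)⁻¹ * x := by rw [hyd]; group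
    have h3 : a * y b * a⁻¹ = y b * c := by rw [hc]; group
    rw [h2, h3, hmulL _ (B.inv_mem (hyB a ha)) x hxB _ (B.mul_mem (hyB b hb) hcB),
      hmulR _ (B.inv_mem (hyB a ha)) _ (hyB b hb) c hcB,
      hmulR x hxB _ (hyB b hb) c hcB, hinvL _ (hyB a ha) _ (hyB b hb)] at h1
    have h4 : ⁅(y a)⁻¹, c⁆ = 1 := by
      rw [commutatorElement_eq_one_iff_mul_comm]
      have hcc : Commute c (y a) := hyC a ha c hcAB'
      exact (hcc.inv_right).eq.symm
    rw [h4, mul_one] at h1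
    rw [← hc]
    have hXW : ⁅x, y b⁆ * ⁅x, c⁆ = ⁅x, c⁆ * ⁅x, y b⁆ :=
      hZB _ (hcm x hxB _ (hyB b hb)) _ (hZB' (hcm x hxB c hcB))
    rw [hXW, ← mul_assoc] at h1
    have h5 : ⁅y a, y b⁆⁻¹ * ⁅x, c⁆ = 1 := by
      have h' : (⁅y a, y b⁆⁻¹ * ⁅x, c⁆) * ⁅x, y b⁆ = 1 * ⁅x, y b⁆ := by rw [one_mul]; exact h1
      exact mul_right_cancel h'
    exact inv_mul_eq_one.mp h5
  have hsym : ∀ a ∈ A, ∀ b ∈ A,
      ⁅x, (y b)⁻¹ * (a * y b * a⁻¹)⁆ = ⁅x, (y a)⁻¹ * (b * y a * b⁻¹)⁆ := by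
    intro a ha b hb
    have hba : b * a = a * b := hAc b hb a ha
    have hXa : a * x * a⁻¹ ∈ B := hconjB a ha x hxB
    have hXb : b * x * b⁻¹ ∈ B := hconjB b hb x hxB
    have hcab : (y b)⁻¹ * (a * y b * a⁻¹) =
        (b * x * b⁻¹) * x⁻¹ * (a * x * a⁻¹) * ((a * b) * x * (a * b)⁻¹)⁻¹ := by
      rw [hyd]; group
    have hcba : (y a)⁻¹ * (b * y a * b⁻¹) =
        (a * x * a⁻¹) * x⁻¹ * (b * x * b⁻¹) * ((b * a) * x * (b * a)⁻¹)⁻¹ := by
      rw [hyd]; group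
    rw [hba] at hcba
    obtain ⟨κ, hκ⟩ : ∃ κ, κ = ⁅b * x * b⁻¹, x⁻¹ * (a * x * a⁻¹)⁆ * ⁅x⁻¹, a * x * a⁻¹⁆ := ⟨_, rfl⟩
    have hκZ : κ ∈ Z := by
      rw [hκ]
      exact Z.mul_mem (hcm _ hXb _ (B.mul_mem (B.inv_mem hxB) hXa))
        (hcm _ (B.inv_mem hxB) _ hXa)
    have hrel : (y b)⁻¹ * (a * y b * a⁻¹) = κ * ((y a)⁻¹ * (b * y a * b⁻¹)) := by
      rw [hcab, hcba, hκ]
      simp only [commutatorElement_def]; group
    rw [hrel, hmulR x hxB κ (hZB' hκZ) _ (hcAB b hb a ha).2]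
    have h1 : ⁅x, κ⁆ = 1 := by
      rw [commutatorElement_eq_one_iff_mul_comm]
      exact (hZB κ hκZ x hxB).symm
    rw [h1, one_mul]
  have hodd : ∀ g : G, g * g = 1 → g = 1 := by
    intro g hg
    obtain ⟨k, hk⟩ := hG g
    have h1 : orderOf g ∣ p ^ k := orderOf_dvd_of_pow_eq_one hk
    have h2 : orderOf g ∣ 2 := orderOf_dvd_of_pow_eq_one (by rw [pow_two]; exact hg)
    have h3 : orderOf g ∣ Nat.gcd (p ^ k) 2 := Nat.dvd_gcd h1 h2
    have h4 : Nat.gcd (p ^ k) 2 = 1 := Nat.Coprime.pow_left k hp2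
    rw [h4, Nat.dvd_one] at h3
    exact orderOf_eq_one_iff.mp h3
  have hcommY : ∀ a ∈ A, ∀ b ∈ A, y a * y b = y b * y a := by
    intro a ha b hb
    rw [← commutatorElement_eq_one_iff_mul_comm]
    apply hodd
    have h1 : ⁅y a, y b⁆ = ⁅y b, y a⁆ := by
      rw [hstar a ha b hb, hsym a ha b hb, ← hstar b hb a ha]
    have h2 : ⁅y a, y b⁆ * ⁅y a, y b⁆ = ⁅y a, y b⁆ * ⁅y b, y a⁆ := by rw [← h1]
    rw [h2, ← commutatorElement_inv (y b) (y a), inv_mul_cancel]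
  obtain ⟨M, hM⟩ : ∃ M : Subgroup G, M = Subgroup.closure (y '' (A : Set G)) := ⟨_, rfl⟩
  have hMB : M ≤ B := by
    rw [hM, Subgroup.closure_le]
    rintro _ ⟨a, ha, rfl⟩
    exact hyB a ha
  have hMN : M ≤ Subgroup.normalizer (A : Set G) := by
    rw [hM, Subgroup.closure_le]
    rintro _ ⟨a, ha, rfl⟩
    exact hyN a ha
  have hyM : ∀ a ∈ A, y a ∈ M := fun a ha => by
    rw [hM]; exact Subgroup.subset_closure ⟨a, ha, rfl⟩
  have hxcomm : ∀ m ∈ B, x * m * x⁻¹ * m⁻¹ ∈ A := by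
    intro m hm
    have := hZA' (hcm x hxB m hm)
    rwa [commutatorElement_def] at this
  obtain ⟨K, hKmem, hab, hcard, hKM, hstep⟩ := replacement_exact hA x hxN
    (fun a ha b hb => by have := hcommY a ha b hb; rwa [hyd, hyd] at this)
    (fun m hm _ => hxcomm m (by
      have hm' : m ∈ M := by rw [hM, hy]; exact hm
      exact hMB hm'))
  have hMeq : Subgroup.closure ((fun a => x * a * x⁻¹ * a⁻¹) '' (A : Set G)) = M := by
    rw [hM, hy]
  rw [hMeq] at hab hcard hKM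
  have hKA : K ≤ A := fun k hk => ((hKmem k).mp hk).1
  have hCK : A ⊓ B ≤ K := fun c hc => (hKmem c).mpr ⟨hc.1, hxcomm c hc.2⟩
  have hAsc : ∀ g ∈ M ⊔ K, ∀ h ∈ M ⊔ K, g * h = h * g := by
    intro g hg h hh
    have := (Subgroup.le_centralizer_iff_isMulCommutative.mpr hab) hg
    rw [Subgroup.mem_centralizer_iff] at this
    exact (this h hh).symm
  obtain ⟨d, hd⟩ : ∃ d : G → G, d = fun a => a * y a * a⁻¹ * (y a)⁻¹ := ⟨_, rfl⟩
  have hdd : ∀ a, d a = a * y a * a⁻¹ * (y a)⁻¹ := fun a => by rw [hd]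
  have hdAB : ∀ a ∈ A, d a ∈ A ⊓ B := by
    intro a ha
    rw [hdd]
    refine ⟨?_, B.mul_mem (hconjB a ha _ (hyB a ha)) (B.inv_mem (hyB a ha))⟩
    have h1 : y a * a⁻¹ * (y a)⁻¹ ∈ A :=
      (Subgroup.mem_normalizer_iff.mp (hyN a ha) a⁻¹).mp (A.inv_mem ha)
    have e : a * y a * a⁻¹ * (y a)⁻¹ = a * (y a * a⁻¹ * (y a)⁻¹) := by group
    rw [e]
    exact A.mul_mem ha h1
  have hymul : ∀ a b : G, y (a * b) = y a * (a * y b * a⁻¹) := by
    intro a b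
    rw [hyd, hyd, hyd]; group
  have hpow : ∀ a ∈ A, ∀ n : ℕ, y (a ^ n) = (y a) ^ n * (d a) ^ (∑ i ∈ Finset.range n, i) := by
    intro a ha n
    have hc1 : Commute (d a) (y a) := hyC a ha (d a) (hdAB a ha)
    have hc2 : Commute a (d a) := hAc a ha (d a) (hdAB a ha).1
    induction n with
    | zero => simp [hyd]
    | succ n ih =>
      rw [pow_succ' a n, hymul, ih, Finset.sum_range_succ]
      have e1 : a * ((y a) ^ n * (d a) ^ (∑ i ∈ Finset.range n, i)) * a⁻¹ =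
          (a * y a * a⁻¹) ^ n * (a * d a * a⁻¹) ^ (∑ i ∈ Finset.range n, i) := by
        rw [conj_pow, conj_pow]; group
      have e2 : a * y a * a⁻¹ = d a * y a := by rw [hdd]; group
      have e3 : a * d a * a⁻¹ = d a := by rw [hc2.eq]; group
      rw [e1, e2, e3, hc1.mul_pow, (hc1.pow_pow n n).eq, pow_succ' (y a) n, pow_add]
      simp only [mul_assoc]
      rw [← pow_add, ← pow_add, add_comm]
  have hdpow : ∀ a ∈ A, ∀ n : ℕ, a ^ n * y a * (a ^ n)⁻¹ * (y a)⁻¹ = (d a) ^ n := by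
    intro a ha n
    induction n with
    | zero => simp
    | succ n ih =>
      have hc0 : Commute a (d a) := hAc a ha (d a) (hdAB a ha).1
      have hc2 : Commute (a ^ n) (d a) := hc0.pow_left n
      have e1 : a ^ (n + 1) * y a * (a ^ (n + 1))⁻¹ * (y a)⁻¹ =
          (a ^ n * d a * (a ^ n)⁻¹) * (a ^ n * y a * (a ^ n)⁻¹ * (y a)⁻¹) := by
        rw [pow_succ, hdd]; group
      have e2 : a ^ n * d a * (a ^ n)⁻¹ = d a := by rw [hc2.eq]; group
      rw [e1, e2, ih, pow_succ']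
  have hypow_one : ∀ a ∈ A, ∀ n : ℕ, Nat.Coprime n 2 → a ^ n = 1 → (d a) ^ n = 1 →
      (y a) ^ n = 1 := by
    intro a ha n hn han hdn
    have h1 := hpow a ha n
    obtain ⟨q, hq⟩ := tri_dvd n hn
    rw [han, hq, pow_mul, hdn, one_pow, mul_one] at h1
    rw [← h1, hyd]; group
  refine ⟨M ⊔ K, hab, hcard, ?_, sup_le hMN (le_trans hKA Subgroup.le_normalizer), ?_, ?_, ?_⟩
  · refine lt_of_le_of_ne (le_inf (le_trans hCK le_sup_right) inf_le_right) ?_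
    intro heq
    obtain ⟨a₀, ha₀, hxa₀⟩ := not_le_normalizer_iff_exists hxA
    have hmem : y a₀ ∈ (M ⊔ K) ⊓ B := ⟨(le_sup_left : M ≤ M ⊔ K) (hyM a₀ ha₀), hyB a₀ ha₀⟩
    rw [← heq] at hmem
    apply hxa₀
    have e : x * a₀ * x⁻¹ = y a₀ * a₀ := by rw [hyd]; group
    rw [e]
    exact A.mul_mem hmem.1 ha₀
  · refine sup_le ?_ (le_trans hKA Subgroup.le_normalClosure)
    rw [hM, Subgroup.closure_le]
    rintro _ ⟨a, ha, rfl⟩
    have hn : (Subgroup.normalClosure (A : Set G)).Normal := Subgroup.normalClosure_normal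
    have h1 : x * a * x⁻¹ ∈ Subgroup.normalClosure (A : Set G) :=
      hn.conj_mem a (Subgroup.le_normalClosure ha) x
    have e : y a = (x * a * x⁻¹) * a⁻¹ := by rw [hyd]
    rw [SetLike.mem_coe, e]
    exact Subgroup.mul_mem _ h1 (Subgroup.inv_mem _ (Subgroup.le_normalClosure ha))
  · obtain ⟨e, he⟩ : ∃ e, e = Monoid.exponent A := ⟨_, rfl⟩
    rw [← he]
    have hAe : ∀ a ∈ A, a ^ e = 1 := by
      intro a ha
      have h1 : (⟨a, ha⟩ : A) ^ e = 1 := by rw [he]; exact Monoid.pow_exponent_eq_one _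
      have h2 := congrArg Subtype.val h1
      simpa using h2
    have he2 : Nat.Coprime e 2 := by
      obtain ⟨k, hk⟩ := (hG.to_subgroup A).exists_card_eq
      have h1 : e ∣ p ^ k := by rw [he, ← hk]; exact Group.exponent_dvd_nat_card
      exact Nat.Coprime.coprime_dvd_left h1 (Nat.Coprime.pow_left k hp2)
    have hye : ∀ a ∈ A, (y a) ^ e = 1 := fun a ha =>
      hypow_one a ha e he2 (hAe a ha) (hAe _ (hdAB a ha).1)
    have hsub : M ⊔ K ≤ powKer (M ⊔ K) hAsc e := by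
      refine sup_le ?_ ?_
      · refine hM.le.trans ((Subgroup.closure_le _).mpr ?_)
        rintro _ ⟨a, ha, rfl⟩
        exact ⟨(le_sup_left : M ≤ M ⊔ K) (hyM a ha), hye a ha⟩
      · intro k hk
        exact ⟨(le_sup_right : K ≤ M ⊔ K) hk, hAe k (hKA hk)⟩
    apply Monoid.exponent_dvd_of_forall_pow_eq_one
    intro g
    have h1 := (hsub g.2).2
    apply Subtype.ext
    simpa using h1
  · have hΩ : Cfsg.omegaOne p A = powKer A hAc p := by
      unfold Cfsg.omegaOne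
      exact Subgroup.closure_eq (powKer A hAc p)
    rw [hΩ]
    have hKΩ : powKer A hAc p ⊓ K ≤ powKer A hAc p := inf_le_left
    have hcount := card_le_card_sup_of_step' (A := powKer A hAc p) (A' := A)
      (M := Subgroup.closure (y '' (powKer A hAc p : Set G))) (K := powKer A hAc p ⊓ K) y
      hKΩ (le_trans inf_le_right hKA)
      (fun a ha => Subgroup.subset_closure ⟨a, ha, rfl⟩)
      (by
        intro a ha b hb
        have h1 := hstep a ha.1 b hb.1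
        rw [← hyd, ← hyd] at h1
        rw [h1]
        constructor
        · intro h
          exact ⟨Subgroup.mul_mem _ (Subgroup.inv_mem _ ha) hb, h⟩
        · intro h
          exact h.2)
    refine le_trans hcount (Subgroup.card_le_of_le ?_)
    unfold Cfsg.omegaOne
    refine sup_le ?_ ?_
    · rw [Subgroup.closure_le]
      rintro _ ⟨a, ha, rfl⟩
      apply Subgroup.subset_closure
      refine ⟨(le_sup_left : M ≤ M ⊔ K) (hyM a ha.1), ?_⟩
      have hdp : (d a) ^ p = 1 := by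
        rw [← hdpow a ha.1 p, ha.2]; group
      exact hypow_one a ha.1 p hp2 ha.2 hdp
    · intro k hk
      apply Subgroup.subset_closure
      exact ⟨(le_sup_right : K ≤ M ⊔ K) hk.2, hk.1.2⟩

end Cfsg.Agent.S3078
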