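import Cfsg.Statements.S3082
import Cfsg.Agent.Lib.Helper10.ZJnpc4
import Cfsg.Agent.S3079

set_option autoImplicit false
open Cfsg

namespace Cfsg.Agent.S3082

open Cfsg.Agent.Lib.Helper9 Cfsg.Agent.Lib.Helper10.ZJnpc

/-- The Glauberman–Thompson normal p-complement criterion for strongly closed subgroups, p odd. -/
theorem result {G : Type*} [Group G] [Finite G] {p : ℕ} [Fact p.Prime] (hp : p ≠ 2) (P : Sylow p G) (D : Subgroup G) (hD : Cfsg.IsStronglyClosed D (P : Subgroup G)) (h : Cfsg.HasNormalPComplement p ↥(Subgroup.normalizer ((Cfsg.centerThompsonAOf D) : Set G)) ∨ Cfsg.HasNormalPComplement p ↥(Subgroup.normalizer ((Cfsg.omegaOne p (Cfsg.centerThompsonOf p D)) : Set G))) : Cfsg.HasNormalPComplement p G := by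
  rcases h with h | h
  · rw [← zfam_eq_centerThompsonAOf D] at h
    exact sc_npc (qfam_comm hp) hp P D hD h
  · have hDp : IsPGroup p D := P.isPGroup'.to_le hD.1
    rw [Cfsg.Agent.S3079.centerThompsonOf_eq_map, ← Cfsg.Agent.S3079.omegaOne_map_subtype] at h
    have h1 := zfam_eq_omegaCenterThompson (p := p) D hDp
    unfold Cfsg.omegaCenterThompson at h1
    rw [← h1] at h
    exact sc_npc (qfam_elem hp) hp P D hD h

end Cfsg.Agent.S3082
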