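import Mathlib
import Cfsg.Statements.S3084
import Cfsg.Agent.Lib.Helper19.XsHeisG
import Cfsg.Agent.Lib.Helper19.XsWitt
-- import your own Cfsg.Agent.* helpers here

set_option autoImplicit false
open Cfsg

namespace Cfsg.Agent.S3084

/-- Let K be a group acting faithfully and linearly on a finite-dimensional vector space U of dimension 2n ≥ 2 over the field with two elements, preserving a quadratic form q whose polar bilinear form is non-degenerate and which vanishes on some n-dimensional subspace (a non-singular form of plus type). Then there is a finite group R with a normal extraspecial 2-subgroup Q of order 2^(2n+1), an isomorphism of R/Q with K, and a surjective homomorphism χ from Q onto (the additive group of) U with kernel the centre of Q, such that χ carries conjugation by any r in R to the action of the image of r in K, and an element a of Q squares to the identity exactly when q vanishes at χ(a). -/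
theorem result {K : Type*} [Group K] {U : Type*} [AddCommGroup U] [Module (ZMod 2) U] [Module.Finite (ZMod 2) U] (n : ℕ) (hn1 : 1 ≤ n) (hn : Module.finrank (ZMod 2) U = 2 * n) (ρ : Representation (ZMod 2) K U) (hρ : Function.Injective ρ) (q : QuadraticForm (ZMod 2) U) (hq : ∀ (k : K) (u : U), q (ρ k u) = q u) (hnd : (QuadraticMap.polarBilin q).Nondegenerate) (hplus : ∃ W : Submodule (ZMod 2) U, Module.finrank (ZMod 2) ↥W = n ∧ ∀ w ∈ W, q w = 0) : ∃ (R : Type) (_ : Group R) (_ : Finite R) (Q : Subgroup R) (hN : Q.Normal) (e : R ⧸ Q ≃* K) (χ : ↥Q →* Multiplicative U), Cfsg.IsExtraspecial 2 ↥Q ∧ Nat.card ↥Q = 2 ^ (2 * n + 1) ∧ Function.Surjective χ ∧ χ.ker = Subgroup.center ↥Q ∧ (∀ (r : R) (a : ↥Q), χ ⟨r * a * r⁻¹, hN.conj_mem (a : R) a.2 r⟩ = Multiplicative.ofAdd (ρ (e (r : R ⧸ Q)) (Multiplicative.toAdd (χ a)))) ∧ ∀ a : ↥Q, a * a = 1 ↔ q (Multiplicative.toAdd (χ a)) = 0 := by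
  classical
  obtain ⟨θ, hθ⟩ := Cfsg.Agent.Lib.Helper19.XsWitt.exists_std_coords n hn q hnd hplus
  -- transported action
  let sL : K → (Cfsg.Agent.Lib.helper15.VP n →ₗ[ZMod 2] Cfsg.Agent.Lib.helper15.VP n) := fun k =>
    θ.toLinearMap ∘ₗ ρ k ∘ₗ θ.symm.toLinearMap
  have sL_mul : ∀ a b : K, sL (a * b) = sL a ∘ₗ sL b := by
    intro a b
    apply LinearMap.ext
    intro v
    simp only [sL, LinearMap.comp_apply, LinearEquiv.coe_coe, map_mul, Module.End.mul_apply,
      LinearEquiv.symm_apply_apply]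
  have sL_one : sL 1 = LinearMap.id := by
    apply LinearMap.ext
    intro v
    simp only [sL, LinearMap.comp_apply, LinearEquiv.coe_coe, map_one, Module.End.one_apply,
      LinearEquiv.apply_symm_apply, LinearMap.id_apply]
  let sE : K → (Cfsg.Agent.Lib.helper15.VP n ≃ₗ[ZMod 2] Cfsg.Agent.Lib.helper15.VP n) := fun k =>
    LinearEquiv.ofLinearMap (sL k) (sL k⁻¹)
      (by rw [← sL_mul, mul_inv_cancel, sL_one])
      (by rw [← sL_mul, inv_mul_cancel, sL_one])
  have sE_apply : ∀ (k : K) (v : Cfsg.Agent.Lib.helper15.VP n), sE k v = θ (ρ k (θ.symm v)) := by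
    intro k v
    rfl
  let sK : K →* (Cfsg.Agent.Lib.helper15.VP n ≃ₗ[ZMod 2] Cfsg.Agent.Lib.helper15.VP n) :=
    { toFun := sE
      map_one' := by
        apply LinearEquiv.ext
        intro v
        rw [sE_apply, map_one, Module.End.one_apply, LinearEquiv.apply_symm_apply]
        rfl
      map_mul' := by
        intro a b
        apply LinearEquiv.ext
        intro v
        rw [sE_apply, LinearEquiv.mul_apply, sE_apply, sE_apply, map_mul, Module.End.mul_apply,
          LinearEquiv.symm_apply_apply] }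
  have sK_apply : ∀ (k : K) (v : Cfsg.Agent.Lib.helper15.VP n), sK k v = θ (ρ k (θ.symm v)) :=
    sE_apply
  have sK_inj : Function.Injective sK := by
    intro a b hab
    apply hρ
    apply LinearMap.ext
    intro u
    have h1 : sK a (θ u) = sK b (θ u) := by rw [hab]
    rw [sK_apply, sK_apply, LinearEquiv.symm_apply_apply] at h1
    exact θ.injective h1
  let S : Subgroup (Cfsg.Agent.Lib.helper15.VP n ≃ₗ[ZMod 2] Cfsg.Agent.Lib.helper15.VP n) :=
    sK.range
  have hS : ∀ σ ∈ S, ∀ v, Cfsg.Agent.Lib.helper15.QP n (σ v) = Cfsg.Agent.Lib.helper15.QP n v := by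
    rintro σ ⟨k, rfl⟩ v
    rw [sK_apply, hθ, hq, ← hθ, LinearEquiv.apply_symm_apply]
  let eK : K ≃* S := MonoidHom.ofInjective sK_inj
  have heK : ∀ k : K, ((eK k : S) :
      Cfsg.Agent.Lib.helper15.VP n ≃ₗ[ZMod 2] Cfsg.Agent.Lib.helper15.VP n) = sK k := fun k =>
    MonoidHom.ofInjective_apply sK_inj
  obtain ⟨R, iG, iF, Q, hN, e₀, χ₀, hXS, hcard, hsurj, hker, hequiv, hsq⟩ :=
    Cfsg.Agent.Lib.Helper19.XsHeis.std_model hn1 S hS
  let τ : Multiplicative (Cfsg.Agent.Lib.helper15.VP n) →* Multiplicative U :=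
    AddMonoidHom.toMultiplicative θ.symm.toLinearMap.toAddMonoidHom
  have hτ : ∀ x : Multiplicative (Cfsg.Agent.Lib.helper15.VP n),
      Multiplicative.toAdd (τ x) = θ.symm (Multiplicative.toAdd x) := fun x => rfl
  have hτinj : Function.Injective τ := by
    intro x y hxy
    have := congrArg Multiplicative.toAdd hxy
    rw [hτ, hτ] at this
    exact Multiplicative.toAdd.injective (θ.symm.injective this)
  have hτsurj : Function.Surjective τ := by
    intro y
    refine ⟨Multiplicative.ofAdd (θ (Multiplicative.toAdd y)), ?_⟩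
    apply Multiplicative.toAdd.injective
    rw [hτ, toAdd_ofAdd, LinearEquiv.symm_apply_apply]
  refine ⟨R, iG, iF, Q, hN, e₀.trans eK.symm, τ.comp χ₀, hXS, hcard, ?_, ?_, ?_, ?_⟩
  · exact hτsurj.comp hsurj
  · rw [← hker]
    ext a
    rw [MonoidHom.mem_ker, MonoidHom.mem_ker, MonoidHom.comp_apply]
    constructor
    · intro h
      apply hτinj
      rw [h, map_one]
    · intro h
      rw [h, map_one]
  · intro r a
    rw [MonoidHom.comp_apply, hequiv r a]
    apply Multiplicative.toAdd.injective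
    rw [hτ, toAdd_ofAdd, toAdd_ofAdd, MonoidHom.comp_apply, hτ]
    have h2 : ((e₀ (r : R ⧸ Q) : S) :
        Cfsg.Agent.Lib.helper15.VP n ≃ₗ[ZMod 2] Cfsg.Agent.Lib.helper15.VP n) =
        sK ((e₀.trans eK.symm) (r : R ⧸ Q)) := by
      rw [← heK, MulEquiv.trans_apply, MulEquiv.apply_symm_apply]
    rw [h2, sK_apply, LinearEquiv.symm_apply_apply]
  · intro a
    rw [hsq a, MonoidHom.comp_apply, hτ, ← hθ, LinearEquiv.apply_symm_apply]

end Cfsg.Agent.S3084
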