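import Cfsg.Statements.S3087

set_option autoImplicit false
open Cfsg

namespace Cfsg.Agent.S3087

def fixAdd {G V : Type*} [Group G] [AddCommGroup V] (p : ℕ) [Module (ZMod p) V]
    (ρ : Representation (ZMod p) G V) (B : Subgroup G) : AddSubgroup V where
  carrier := {v | ∀ b ∈ B, ρ b v = v}
  zero_mem' := by intro b _; simp
  add_mem' := by
    intro x y hx hy b hb
    rw [map_add, hx b hb, hy b hb]
  neg_mem' := by
    intro x hx b hb
    rw [map_neg, hx b hb]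

theorem card_of_le {V : Type*} [AddCommGroup V] [Finite V] {H K : AddSubgroup V} (h : H ≤ K) :
    Nat.card K = Nat.card H * H.relIndex K := by
  rw [← AddSubgroup.relIndex_bot_left, ← AddSubgroup.relIndex_bot_left,
    AddSubgroup.relIndex_mul_relIndex _ _ _ bot_le h]

theorem key_ineq {V : Type*} [AddCommGroup V] [Finite V] (W CB CA : AddSubgroup V) (h : CA ≤ CB) :
    Nat.card ↥(W ⊓ CB) * Nat.card CA ≤ Nat.card ↥(W ⊓ CA) * Nat.card CB := by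
  have h1 : W ⊓ CA ≤ W ⊓ CB := inf_le_inf_left _ h
  have e1 := card_of_le h1
  have e2 := card_of_le h
  have e3 : (W ⊓ CA).relIndex (W ⊓ CB) = CA.relIndex (W ⊓ CB) := by
    have : W ⊓ CA = (W ⊓ CB) ⊓ CA := by
      rw [inf_assoc, inf_eq_right.mpr h]
    rw [this, AddSubgroup.inf_relIndex_left]
  have e4 : CA.relIndex (W ⊓ CB) ≤ CA.relIndex CB :=
    AddSubgroup.relIndex_le_of_le_right inf_le_right (by
      intro h0
      have hd := AddSubgroup.relIndex_dvd_card CA CB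
      rw [h0] at hd
      exact (Nat.card_pos (α := CB)).ne' (Nat.eq_zero_of_zero_dvd hd))
  rw [e1, e2, e3]
  calc Nat.card ↥(W ⊓ CA) * CA.relIndex (W ⊓ CB) * Nat.card CA
      = Nat.card ↥(W ⊓ CA) * (Nat.card CA * CA.relIndex (W ⊓ CB)) := by ring
    _ ≤ Nat.card ↥(W ⊓ CA) * (Nat.card CA * CA.relIndex CB) :=
      Nat.mul_le_mul_left _ (Nat.mul_le_mul_left _ e4)

theorem card_fixW {G V : Type*} [Group G] [AddCommGroup V] (p : ℕ) [Module (ZMod p) V]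
    (ρ : Representation (ZMod p) G V) (W : Submodule (ZMod p) V) (B : Subgroup G) :
    Nat.card {w : W // ∀ b ∈ B, ρ b w = w} = Nat.card ↥(W.toAddSubgroup ⊓ fixAdd p ρ B) := by
  apply Nat.card_congr
  refine ⟨fun x => ⟨x.1.1, x.1.2, x.2⟩, fun y => ⟨⟨y.1, y.2.1⟩, y.2.2⟩, ?_, ?_⟩
  · intro x; rfl
  · intro y; rfl

theorem result {G V : Type*} [Group G] [Finite G] [AddCommGroup V] [Finite V] (p : ℕ) [Fact p.Prime] [Module (ZMod p) V]
    (ρ : Representation (ZMod p) G V) (W : Submodule (ZMod p) V) (hW : ∀ g : G, ∀ w ∈ W, ρ g w ∈ W)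
    (A : Subgroup G)
    (hP : ∀ B : Subgroup G, B ≤ A →
      Nat.card ↥B * Nat.card {v : V // ∀ b ∈ B, ρ b v = v} ≤ Nat.card ↥A * Nat.card {v : V // ∀ a ∈ A, ρ a v = v})
    (B : Subgroup G) (hBA : B ≤ A) (hCB : ∀ a ∈ A, (∀ w ∈ W, ρ a w = w) → a ∈ B) :
    Nat.card ↥B * Nat.card {w : W // ∀ b ∈ B, ρ b w = w} ≤ Nat.card ↥A * Nat.card {w : W // ∀ a ∈ A, ρ a w = w} := by
  have hAB : fixAdd p ρ A ≤ fixAdd p ρ B := by
    intro v hv b hb
    exact hv b (hBA hb)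
  have h1 := key_ineq W.toAddSubgroup (fixAdd p ρ B) (fixAdd p ρ A) hAB
  have h2 : Nat.card ↥B * Nat.card ↥(fixAdd p ρ B) ≤ Nat.card ↥A * Nat.card ↥(fixAdd p ρ A) := hP B hBA
  rw [card_fixW, card_fixW]
  have hpos : 0 < Nat.card ↥(fixAdd p ρ A) := Nat.card_pos
  apply Nat.le_of_mul_le_mul_right _ hpos
  calc Nat.card ↥B * Nat.card ↥(W.toAddSubgroup ⊓ fixAdd p ρ B) * Nat.card ↥(fixAdd p ρ A)
      = Nat.card ↥B * (Nat.card ↥(W.toAddSubgroup ⊓ fixAdd p ρ B) * Nat.card ↥(fixAdd p ρ A)) := by ring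
    _ ≤ Nat.card ↥B * (Nat.card ↥(W.toAddSubgroup ⊓ fixAdd p ρ A) * Nat.card ↥(fixAdd p ρ B)) :=
      Nat.mul_le_mul_left _ h1
    _ = Nat.card ↥(W.toAddSubgroup ⊓ fixAdd p ρ A) * (Nat.card ↥B * Nat.card ↥(fixAdd p ρ B)) := by ring
    _ ≤ Nat.card ↥(W.toAddSubgroup ⊓ fixAdd p ρ A) * (Nat.card ↥A * Nat.card ↥(fixAdd p ρ A)) :=
      Nat.mul_le_mul_left _ h2
    _ = Nat.card ↥A * Nat.card ↥(W.toAddSubgroup ⊓ fixAdd p ρ A) * Nat.card ↥(fixAdd p ρ A) := by ring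

end Cfsg.Agent.S3087
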