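import Cfsg.Statements.S3103
import Cfsg.Agent.S0256
import Cfsg.Agent.Lib.Helper10.EmbPSL4
import Cfsg.Agent.Lib.helper17.Exp6C
import Cfsg.Agent.Lib.Helper1.FrattiniFaithful
import Cfsg.Agent.Lib.Helper5.PConstr
import Cfsg.Agent.Lib.Helper21.SecRank2
import Mathlib

set_option autoImplicit false
open Cfsg

namespace Cfsg.Agent.S3103

/-- Let X be a finite 2-constrained group with no nontrivial normal subgroup of odd order such that O₂(X) has sectional 2-rank at most 4. Then X/O₂(X) is isomorphic to a subgroup of the alternating group of degree 8. -/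
theorem result {X : Type*} [Group X] [Finite X] (hc : Cfsg.IsPConstrained 2 X) (hO : Cfsg.oddCore X = ⊥)
    (h4 : Cfsg.SectionalPRankLE 2 4 ↥(Cfsg.pCore 2 X)) :
    ∃ f : X ⧸ Cfsg.pCore 2 X →* ↥(alternatingGroup (Fin 8)), Function.Injective f := by
  classical
  haveI : Fact (Nat.Prime 2) := ⟨Nat.prime_two⟩
  haveI hQn : (Cfsg.pCore 2 X).Normal := Cfsg.pCore_normal 2 X
  have hQp : IsPGroup 2 ↥(Cfsg.pCore 2 X) := Cfsg.Agent.Lib.Helper1.pCore_isPGroup 2
  have hO' : Cfsg.pPrimeCore 2 X = ⊥ := hO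
  have hCQ : Subgroup.centralizer (Cfsg.pCore 2 X : Set X) ≤ Cfsg.pCore 2 X := by
    have h1 := Cfsg.Agent.Lib.Helper5.h5_pPrimePCore_eq_pCore hO'
    have h2 := (Cfsg.Agent.Lib.Helper5.h5_isPConstrained_iff_of_isPGroup
      (Cfsg.Agent.Lib.Helper5.h5_pPrimePCore_isPGroup hO')).mp hc
    rw [h1] at h2
    exact h2
  -- the Frattini quotient has order at most 16
  have hSR := Cfsg.Agent.Lib.Helper21.SecRank2.SR.of_sectional h4
  have hidx : (frattini ↥(Cfsg.pCore 2 X)).index ≤ 16 := by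
    have hn : (frattini ↥(Cfsg.pCore 2 X)).Normal := inferInstance
    have := hSR ⊤ (frattini ↥(Cfsg.pCore 2 X)) le_top (fun h _ n hn' => hn.conj_mem n hn' h)
      (fun x _ y _ => by
        apply Cfsg.Agent.Lib.Helper1.pgroup_commutator_le_frattini hQp
        have := Subgroup.commutator_mem_commutator (Subgroup.mem_top x) (Subgroup.mem_top y)
        rwa [commutatorElement_def] at this)
      (fun x _ => Cfsg.Agent.Lib.Helper1.pgroup_pow_mem_frattini hQp x)
    rw [Subgroup.relIndex_top_right] at this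
    norm_num at this
    exact this
  have hcard : Nat.card (↥(Cfsg.pCore 2 X) ⧸ frattini ↥(Cfsg.pCore 2 X)) ≤ 16 := hidx
  have hcomm := Cfsg.Agent.Lib.helper17.Exp6.quot_comm (Cfsg.pCore 2 X) hQp
  have hsq : ∀ a : ↥(Cfsg.pCore 2 X) ⧸ frattini ↥(Cfsg.pCore 2 X), a ^ 2 = 1 := by
    intro a
    induction a using QuotientGroup.induction_on with
    | H q =>
      rw [← QuotientGroup.mk_pow, QuotientGroup.eq_one_iff]
      exact Cfsg.Agent.Lib.Helper1.pgroup_pow_mem_frattini hQp q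
  obtain ⟨f, hf⟩ := @Cfsg.Agent.Lib.Helper10.EmbPSL4.exists_hom_PSL4_of_elementary X
    (↥(Cfsg.pCore 2 X) ⧸ frattini ↥(Cfsg.pCore 2 X)) _
    { (inferInstance : Group (↥(Cfsg.pCore 2 X) ⧸ frattini ↥(Cfsg.pCore 2 X))) with
      mul_comm := hcomm } _ hsq hcard
    (Cfsg.Agent.Lib.helper17.Exp6.th (Cfsg.pCore 2 X))
    (Cfsg.Agent.Lib.helper17.Exp6.th_one (Cfsg.pCore 2 X))
    (Cfsg.Agent.Lib.helper17.Exp6.th_mul (Cfsg.pCore 2 X))
  have hker : ∀ g : X, f g = 1 ↔ g ∈ Cfsg.pCore 2 X := by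
    intro g
    rw [hf]
    constructor
    · intro h
      exact Cfsg.Agent.Lib.Helper1.mem_pCore_of_trivial_on_frattini_quotient (Cfsg.pCore 2 X) hQp
        hCQ g (Cfsg.Agent.Lib.helper17.Exp6.mem_of_th_eq_id (Cfsg.pCore 2 X) h)
    · intro h
      exact Cfsg.Agent.Lib.helper17.Exp6.th_of_mem (Cfsg.pCore 2 X) hQp h
  obtain ⟨e⟩ := Cfsg.Agent.S0256.result (F := ZMod 2) (ZMod.card 2)
  let F : X ⧸ Cfsg.pCore 2 X →* Matrix.ProjectiveSpecialLinearGroup (Fin 4) (ZMod 2) :=
    QuotientGroup.lift (Cfsg.pCore 2 X) f (fun g hg => (hker g).mpr hg)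
  refine ⟨e.toMonoidHom.comp F, ?_⟩
  rw [injective_iff_map_eq_one]
  intro x hx
  induction x using QuotientGroup.induction_on with
  | H g =>
    have h1 : F (QuotientGroup.mk g) = 1 := by
      apply e.injective
      rw [map_one]
      exact hx
    have h2 : f g = 1 := h1
    rw [QuotientGroup.eq_one_iff]
    exact (hker g).mp h2

end Cfsg.Agent.S3103
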