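import Cfsg.Statements.S3117
import Cfsg.Agent.Lib.Helper18.ThreeInvK

set_option autoImplicit false
open Cfsg

namespace Cfsg.Agent.S3117

theorem result {X : Type*} [Group X] [Finite X] (h2 : IsPGroup 2 X) (h3 : Nat.card {x : X // orderOf x = 2} = 3) : Group.IsSolvable (MulAut X) := by
  classical
  haveI : Fact (Nat.Prime 2) := ⟨Nat.prime_two⟩
  apply Cfsg.Agent.Lib.Helper18.ThreeInv.ti_main (Nat.card X) X rfl h2
  have hinj : Function.Injective (fun x : {x : X // x * x = 1} =>
      if h : x.1 = 1 then (none : Option {x : X // orderOf x = 2})
      else some ⟨x.1, orderOf_eq_prime (by rw [pow_two]; exact x.2) h⟩) := by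
    intro a b hab
    by_cases ha : a.1 = 1
    · by_cases hb : b.1 = 1
      · exact Subtype.ext (ha.trans hb.symm)
      · simp only [ha, hb, dif_pos, dif_neg, not_false_eq_true] at hab
        exact absurd hab (by simp)
    · by_cases hb : b.1 = 1
      · simp only [ha, hb, dif_pos, dif_neg, not_false_eq_true] at hab
        exact absurd hab (by simp)
      · simp only [ha, hb, dif_neg, not_false_eq_true, Option.some.injEq, Subtype.mk.injEq] at hab
        exact Subtype.ext hab
  have hfin : Finite {x : X // orderOf x = 2} := inferInstance
  have := Nat.card_le_card_of_injective _ hinj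
  rw [Finite.card_option, h3] at this
  exact this

end Cfsg.Agent.S3117
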