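import Mathlib
import Cfsg.Statements.S3155
-- import your own Cfsg.Agent.* helpers here

set_option autoImplicit false
open Cfsg

namespace Cfsg.Agent.S3155

theorem sq_ne_neg_one_pow_three : ∀ d : ZMod 4, d * d ≠ (-1) ^ 3 := by decide

theorem finrank_zmod4_cube : Module.finrank (ZMod 4) (ZMod 4 × ZMod 4 × ZMod 4) = 3 := by
  have : Fact (1 < 4) := ⟨by norm_num⟩
  rw [Module.finrank_prod, Module.finrank_prod, Module.finrank_self]

theorem no_sqrt_neg (f : (ZMod 4 × ZMod 4 × ZMod 4) →ₗ[ZMod 4] (ZMod 4 × ZMod 4 × ZMod 4))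
    (h : f ∘ₗ f = -LinearMap.id) : False := by
  have h1 : LinearMap.det (f ∘ₗ f) = LinearMap.det f * LinearMap.det f := LinearMap.det_comp f f
  have h2 : LinearMap.det (-LinearMap.id : (ZMod 4 × ZMod 4 × ZMod 4) →ₗ[ZMod 4] (ZMod 4 × ZMod 4 × ZMod 4)) =
      (-1) ^ 3 := by
    have : (-LinearMap.id : (ZMod 4 × ZMod 4 × ZMod 4) →ₗ[ZMod 4] (ZMod 4 × ZMod 4 × ZMod 4)) =
        (-1 : ZMod 4) • LinearMap.id := by
      ext <;> simp
    rw [this, LinearMap.det_smul, finrank_zmod4_cube, LinearMap.det_id, mul_one]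
  rw [h, h2] at h1
  exact sq_ne_neg_one_pow_three _ h1.symm

/-- Let B be the direct product of three cyclic groups of order 4. Then the automorphism of B inverting every element is not the square of any automorphism of B. -/
theorem result {B : Type*} [CommGroup B] [Finite B] (hB : Nonempty (B ≃* Multiplicative (ZMod 4 × ZMod 4 × ZMod 4)))
    (τ : B ≃* B) : τ.trans τ ≠ MulEquiv.inv B := by
  obtain ⟨e⟩ := hB
  intro hτ
  have hτ' : ∀ b : B, τ (τ b) = b⁻¹ := fun b => by
    have := congrArg (fun φ : B ≃* B => φ b) hτ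
    simpa using this
  let g : (ZMod 4 × ZMod 4 × ZMod 4) →+ (ZMod 4 × ZMod 4 × ZMod 4) :=
    { toFun := fun v => Multiplicative.toAdd (e (τ (e.symm (Multiplicative.ofAdd v))))
      map_zero' := by simp
      map_add' := fun v w => by simp [ofAdd_add, map_mul, toAdd_mul] }
  apply no_sqrt_neg (AddMonoidHom.toZModLinearMap 4 g)
  apply LinearMap.ext
  intro v
  show g (g v) = -v
  show Multiplicative.toAdd (e (τ (e.symm (Multiplicative.ofAdd
    (Multiplicative.toAdd (e (τ (e.symm (Multiplicative.ofAdd v))))))))) = -v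
  rw [ofAdd_toAdd, MulEquiv.symm_apply_apply, hτ', map_inv, MulEquiv.apply_symm_apply, toAdd_inv, toAdd_ofAdd]

end Cfsg.Agent.S3155
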