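import Cfsg.Statements.S3156
import Cfsg.Agent.Lib.helper14.SU3Even
import Cfsg.Agent.Lib.helper14.SuzAut

set_option autoImplicit false
open Cfsg

namespace Cfsg.Agent.S3156

open Cfsg.Agent.Lib.helper14 Cfsg.Agent.Lib.helper14.SuzModel Cfsg.Agent.Lib.helper14.SuzAut

section model
variable {K : Type*} [Field K] [Fintype K] {σ : K →+* K} [CharP K 2]
  [hinv : Fact (∀ x, σ (σ x) = x)]

/-- no `S₃` inside the automorphism group of the model for `q = 4` -/
theorem no_s3 (hK : Fintype.card K = 4 ^ 2) (hσ : ∀ x, σ x = x ^ 4) (a t : MulAut (SuzP σ))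
    (ha3 : ∀ x, a (a (a x)) = x) (ht2 : ∀ x, t (t x) = x) (hat : ∀ x, a (t (a x)) = t x) :
    ∀ x, a x = x := by
  have h2 : ∀ x : K, x + x = 0 := CharTwo.add_self_eq_zero
  obtain ⟨ν, ρ, hν, hA, -⟩ := aut_struct hK hσ a
  obtain ⟨κ, τ, hκ, hT, -⟩ := aut_struct hK hσ t
  have hlift : ∀ b : K, ∃ x : SuzP σ, x.b = b := by
    intro b
    obtain ⟨c, hc⟩ := exists_c (σ := σ) hK hσ b
    exact ⟨SuzP.mk' b c hc, rfl⟩
  -- a³ = 1
  have h3 : ∀ b : K, ν * ρ ν * ρ (ρ ν) * ρ (ρ (ρ b)) = b := by
    intro b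
    obtain ⟨x, rfl⟩ := hlift b
    have h1 := congrArg SuzP.b (ha3 x)
    rw [hA, hA, hA, map_mul, map_mul, map_mul] at h1
    linear_combination h1
  have hν3' : ν * ρ ν * ρ (ρ ν) = 1 := by
    have := h3 1
    rwa [map_one, map_one, map_one, mul_one] at this
  have hρ3 : ∀ b, ρ (ρ (ρ b)) = b := by
    intro b
    have := h3 b
    rwa [hν3', one_mul] at this
  have hρ4 : ∀ b, ρ (ρ (ρ (ρ b))) = b := by
    obtain ⟨i, hi⟩ := ringEquiv_frob ρ
    intro b
    rw [hi, hi, hi, hi, ← pow_mul, ← pow_mul, ← pow_mul, ← pow_add, ← pow_add, ← pow_add,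
      show i + (i + (i + i)) = 4 * i by ring, pow_mul]
    have h16 : ∀ y : K, y ^ 2 ^ 4 = y := by
      intro y
      have := FiniteField.pow_card y
      rw [hK] at this
      exact this
    clear hi
    induction i with
    | zero => rw [pow_zero, pow_one]
    | succ i ih => rw [pow_succ, pow_mul, ih, h16]
  have hρ : ∀ b, ρ b = b := by
    intro b
    have := hρ4 b
    rwa [hρ3] at this
  have hν3 : ν * ν * ν = 1 := by
    rw [hρ, hρ] at hν3'
    exact hν3'
  -- t² = 1
  have h4 : ∀ b : K, κ * τ κ * τ (τ b) = b := by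
    intro b
    obtain ⟨x, rfl⟩ := hlift b
    have h1 := congrArg SuzP.b (ht2 x)
    rw [hT, hT, map_mul] at h1
    linear_combination h1
  have hκ1 : κ * τ κ = 1 := by
    have := h4 1
    rwa [map_one, map_one, mul_one] at this
  have hττ : ∀ b, τ (τ b) = b := by
    intro b
    have := h4 b
    rwa [hκ1, one_mul] at this
  have hνf : σ ν = ν := by
    rw [hσ]
    calc ν ^ 4 = (ν * ν * ν) * ν := by ring
      _ = ν := by rw [hν3, one_mul]
  have hτν : τ ν = ν := invol_fix 2 (by norm_num) (by norm_num) hK hσ τ hττ ν hνf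
  -- a t a = t
  have h5 : ν * τ ν = 1 := by
    obtain ⟨x, hx⟩ := hlift 1
    have h1 := congrArg SuzP.b (hat x)
    simp only [hA, hT, hx, hρ, map_one, mul_one, map_mul] at h1
    have : κ * (ν * τ ν - 1) = 0 := by linear_combination h1
    rcases mul_eq_zero.mp this with h | h
    · exact absurd h hκ
    · exact sub_eq_zero.mp h
  rw [hτν] at h5
  have hν1 : ν = 1 := by
    calc ν = (ν * ν) * ν := by rw [h5, one_mul]
      _ = 1 := hν3
  -- a acts trivially mod the centre, so a² = 1
  have htriv : ∀ x : SuzP σ, (a x).b = x.b := by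
    intro x
    rw [hA, hν1, one_mul, hρ]
  have ha2 := sq_of_trivial hK hσ a htriv
  intro x
  have := ha3 x
  rwa [ha2] at this

end model

/-- If a finite group T is isomorphic to a Sylow 2-subgroup of the projective special unitary group of dimension 3 with parameter 4 (realised over the field with 16 elements), then no subgroup of the automorphism group of T is isomorphic to the symmetric group of degree 3. -/
theorem result {T : Type*} [Group T] [Finite T] (hT : (∃ (F : Type) (_ : Field F) (_ : Fintype F), Fintype.card F = 16 ∧ ∃ S : Sylow 2 (Cfsg.PSU 3 F 4), Nonempty (T ≃* ↥(S : Subgroup (Cfsg.PSU 3 F 4))))) (H : Subgroup (MulAut T)) : ¬ Nonempty (↥H ≃* Equiv.Perm (Fin 3)) := by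
  obtain ⟨F, _, _, hF, S, ⟨e0⟩⟩ := hT
  have hF' : Fintype.card F = 4 ^ 2 := by rw [hF]; norm_num
  haveI : Fact (Nat.Prime 2) := ⟨Nat.prime_two⟩
  haveI : CharP F 2 := charP_of_card_eq_prime_pow (f := 4) (by rw [hF]; norm_num)
  obtain ⟨σ, hσ⟩ := Cfsg.Agent.Lib.Lead.exists_frob hF'
  haveI : Fact (∀ x, σ (σ x) = x) := ⟨Cfsg.Agent.Lib.Lead.frob_frob hF' σ hσ⟩
  obtain ⟨e1⟩ := SU3Even.sylow_equiv 2 (by norm_num) (by norm_num) hF' hσ S
  let e : T ≃* SuzP σ := e0.trans e1
  rintro ⟨f⟩
  -- the generators of S₃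
  let c : Equiv.Perm (Fin 3) := finRotate 3
  let s : Equiv.Perm (Fin 3) := Equiv.swap 0 1
  have hc3 : c * c * c = 1 := by decide
  have hc1 : c ≠ 1 := by decide
  have hs2 : s * s = 1 := by decide
  have hcs : c * s * c = s := by decide
  let a0 : MulAut T := (f.symm c : H)
  let t0 : MulAut T := (f.symm s : H)
  have ha3 : a0 * a0 * a0 = 1 := by
    have : f.symm c * f.symm c * f.symm c = 1 := by rw [← map_mul, ← map_mul, hc3, map_one]
    exact congrArg Subtype.val this
  have ht2 : t0 * t0 = 1 := by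
    have : f.symm s * f.symm s = 1 := by rw [← map_mul, hs2, map_one]
    exact congrArg Subtype.val this
  have hat : a0 * t0 * a0 = t0 := by
    have : f.symm c * f.symm s * f.symm c = f.symm s := by rw [← map_mul, ← map_mul, hcs]
    exact congrArg Subtype.val this
  have ha1 : a0 ≠ 1 := by
    intro h
    apply hc1
    have : f.symm c = 1 := Subtype.ext h
    have h2 := congrArg f this
    rwa [MulEquiv.apply_symm_apply, map_one] at h2
  let a : MulAut (SuzP σ) := MulAut.congr e a0
  let t : MulAut (SuzP σ) := MulAut.congr e t0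
  have ha3' : ∀ x, a (a (a x)) = x := by
    intro x
    have : (a * a * a) x = x := by
      show (MulAut.congr e a0 * MulAut.congr e a0 * MulAut.congr e a0) x = x
      rw [← map_mul, ← map_mul, ha3, map_one]
      rfl
    exact this
  have ht2' : ∀ x, t (t x) = x := by
    intro x
    have : (t * t) x = x := by
      show (MulAut.congr e t0 * MulAut.congr e t0) x = x
      rw [← map_mul, ht2, map_one]
      rfl
    exact this
  have hat' : ∀ x, a (t (a x)) = t x := by
    intro x
    have : (a * t * a) x = t x := by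
      show (MulAut.congr e a0 * MulAut.congr e t0 * MulAut.congr e a0) x = MulAut.congr e t0 x
      rw [← map_mul, ← map_mul, hat]
    exact this
  have h1 := no_s3 hF' hσ a t ha3' ht2' hat'
  apply ha1
  ext y
  have := h1 (e y)
  rw [congr_apply, MulEquiv.symm_apply_apply] at this
  exact e.injective this

end Cfsg.Agent.S3156
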