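import Cfsg.Statements.S3157
import Cfsg.Agent.Lib.Helper9.F3G

set_option autoImplicit false
open Cfsg

namespace Cfsg.Agent.S3157

open Cfsg.Agent.Lib.Helper9

/-- Let T be a non-abelian group of order 64 admitting automorphisms ρ of order 3 and x of order 2 with x ρ x⁻¹ = ρ⁻¹ (so they generate a symmetric group of degree 3), where ρ fixes only the identity. Then T is isomorphic to a Sylow 2-subgroup of the projective special linear group of dimension 3 over the field with 4 elements, and the subgroup of fixed points of x is dihedral of order 8 or quaternion of order 8. -/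
theorem result {T : Type*} [Group T] [Finite T] (hT : Nat.card T = 64) (hna : ¬ IsMulCommutative T) (ρ x : MulAut T) (hρ : orderOf ρ = 3) (hx : orderOf x = 2)
    (hxr : x * ρ * x⁻¹ = ρ⁻¹) (hfp : ∀ y : T, ρ y = y → y = 1) (C : Subgroup T) (hC : ∀ y : T, y ∈ C ↔ x y = y) :
    (∃ (F : Type) (_ : Field F) (_ : Fintype F), Fintype.card F = 4 ∧
        ∃ S : Sylow 2 (Matrix.ProjectiveSpecialLinearGroup (Fin 3) F), Nonempty (T ≃* ↥(S : Subgroup (Matrix.ProjectiveSpecialLinearGroup (Fin 3) F)))) ∧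
      (Nonempty (↥C ≃* DihedralGroup 4) ∨ Nonempty (↥C ≃* QuaternionGroup 2)) := by
  classical
  have hna' : ∃ a b : T, a * b ≠ b * a := by
    by_contra hcon
    push Not at hcon
    exact hna ⟨⟨hcon⟩⟩
  have h3 : ∀ g : T, ρ (ρ (ρ g)) = g := by
    intro g
    have h1 := pow_orderOf_eq_one ρ
    rw [hρ] at h1
    rw [← r2_cube_apply, h1]; rfl
  have h : F3Hyp T ρ := ⟨h3, hfp⟩
  have hx2 : ∀ g : T, x (x g) = g := by
    intro g
    have h1 := pow_orderOf_eq_one x
    rw [hx, pow_two] at h1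
    exact congrArg (fun α : MulAut T => α g) h1
  have htw : ∀ g : T, x (ρ g) = ρ (ρ (x g)) := by
    intro g
    have e1 : x * ρ = ρ⁻¹ * x := by
      have h1 := congrArg (fun α : MulAut T => α * x) hxr
      simpa [mul_assoc] using h1
    have h2 := congrArg (fun α : MulAut T => α g) e1
    rw [← r2_inv_apply h3]
    exact h2
  have hxi : F3Inv T ρ x := ⟨hx2, htw⟩
  have st := f3_struct64 h hT hna'
  constructor
  · obtain ⟨e, f, he, hf, hef⟩ := f3_iso_pair h st hxi hna'
    have hrel := f3_rel_of_pair h st e f he hf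
    have hgen := f3_gen_of_pair h hT e f hef
    obtain ⟨iso⟩ := f3rel_unique hrel hgen hT f3heis_rel f3heis_gen f3heis_card
    obtain ⟨S, ⟨iso2⟩⟩ := f3_sylow_exists
    exact ⟨Cfsg.Agent.Lib.Lead.F4.F4c, inferInstance, inferInstance, by decide, S,
      ⟨iso.trans iso2⟩⟩
  · have h8 := f3_card_D h st hxi hT hna' C hC
    obtain ⟨e, f, he, hf, hef⟩ := f3_D_noncomm h st hxi hna'
    obtain ⟨c0, hc0Z, hc01, hc0fix, hfixed, -⟩ := f3_Z_fixed h st hxi
    have hc1 : r2c e f ≠ 1 := fun hh => hef ((r2c_eq_one_iff e f).mp hh)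
    have hcZ : r2c e f ∈ Subgroup.center T := st.cl2 e f
    have hxc : x (r2c e f) = r2c e f := by rw [r2c_map, he, hf]
    have hcc0 : r2c e f = c0 := by
      rcases hfixed _ hcZ hxc with h1 | h1
      · exact absurd h1 hc1
      · exact h1
    have hee : e * e = 1 ∨ e * e = r2c e f := by
      rw [hcc0]
      apply hfixed
      · rw [← pow_two]; exact st.sq e
      · rw [map_mul, he]
    have hff : f * f = 1 ∨ f * f = r2c e f := by
      rw [hcc0]
      apply hfixed
      · rw [← pow_two]; exact st.sq f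
      · rw [map_mul, hf]
    have heC : e ∈ C := (hC e).mpr he
    have hfC : f ∈ C := (hC f).mpr hf
    have hcoe : ((r2c (⟨e, heC⟩ : ↥C) ⟨f, hfC⟩ : ↥C) : T) = r2c e f := rfl
    refine f3_order8 (G := ↥C) h8 ⟨e, heC⟩ ⟨f, hfC⟩ (r2c ⟨e, heC⟩ ⟨f, hfC⟩) rfl ?_ ?_ ?_ ?_ ?_
    · intro hh
      apply hc1
      rw [← hcoe, hh]; rfl
    · intro g
      apply Subtype.ext
      show ((r2c (⟨e, heC⟩ : ↥C) ⟨f, hfC⟩ : ↥C) : T) * g = g * ((r2c (⟨e, heC⟩ : ↥C) ⟨f, hfC⟩ : ↥C) : T)
      rw [hcoe]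
      exact f3_Z_comm _ hcZ _
    · apply Subtype.ext
      show ((r2c (⟨e, heC⟩ : ↥C) ⟨f, hfC⟩ : ↥C) : T) * ((r2c (⟨e, heC⟩ : ↥C) ⟨f, hfC⟩ : ↥C) : T) = 1
      rw [hcoe, ← pow_two]
      exact st.cen2 _ hcZ
    · rcases hee with h1 | h1
      · left; exact Subtype.ext h1
      · right; apply Subtype.ext; rw [hcoe]; exact h1
    · rcases hff with h1 | h1
      · left; exact Subtype.ext h1
      · right; apply Subtype.ext; rw [hcoe]; exact h1

end Cfsg.Agent.S3157
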