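import Mathlib
import Cfsg.Statements.S3158
import Cfsg.Agent.Lib.Helper1.Nilp
-- import your own Cfsg.Agent.* helpers here

set_option autoImplicit false
open Cfsg

namespace Cfsg.Agent.S3158

open scoped commutatorElement

variable {U : Type*} [Group U]

lemma comm_mul_left (hc : ∀ a b : U, ⁅a, b⁆ ∈ Subgroup.center U) (a a' b : U) :
    ⁅a * a', b⁆ = ⁅a, b⁆ * ⁅a', b⁆ := by
  have h := hc a' b
  rw [Subgroup.mem_center_iff] at h
  have h1 : ⁅a * a', b⁆ = a * ⁅a', b⁆ * a⁻¹ * ⁅a, b⁆ := by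
    simp only [commutatorElement_def]; group
  rw [h1, h a, mul_inv_cancel_right, ← h]

lemma comm_mul_right (hc : ∀ a b : U, ⁅a, b⁆ ∈ Subgroup.center U) (a b b' : U) :
    ⁅a, b * b'⁆ = ⁅a, b⁆ * ⁅a, b'⁆ := by
  have h := hc a b'
  rw [Subgroup.mem_center_iff] at h
  have h1 : ⁅a, b * b'⁆ = ⁅a, b⁆ * (b * ⁅a, b'⁆ * b⁻¹) := by
    simp only [commutatorElement_def]; group
  rw [h1, h b, mul_inv_cancel_right]

lemma trans_aux [Finite U] (V : Subgroup U) (N : ℕ) (f : ℕ → U) (hN : Nat.card V = N + 1)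
   (hf : ∀ k, f k ∈ V) (hf1 : ∀ k, f k ≠ 1) (hinj : ∀ i j, i < N → j < N → f i = f j → i = j) :
   ∀ v ∈ V, v ≠ 1 → ∃ k, f k = v := by
  intro v hv hv1
  have hA : (f '' (Set.Iio N)) ⊆ (V : Set U) \ {1} := by
    rintro _ ⟨k, -, rfl⟩
    exact ⟨hf k, by simpa using hf1 k⟩
  have hcA : (f '' (Set.Iio N)).ncard = N := by
    rw [Set.InjOn.ncard_image]
    · rw [← Finset.coe_range, Set.ncard_coe_finset, Finset.card_range]
    · intro i hi j hj h
      exact hinj i j hi hj h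
  have hcB : ((V : Set U) \ {1}).ncard = N := by
    rw [Set.ncard_sdiff_singleton_of_mem V.one_mem]
    have : (V : Set U).ncard = Nat.card V := (Nat.card_coe_set_eq (V : Set U)).symm
    rw [this, hN]; rfl
  have := Set.eq_of_subset_of_ncard_le hA (by rw [hcA, hcB]) (Set.toFinite _)
  have hv' : v ∈ (V : Set U) \ {1} := ⟨hv, by simpa using hv1⟩
  rw [← this] at hv'
  obtain ⟨k, -, hk⟩ := hv'
  exact ⟨k, hk⟩

theorem main [Finite U] (n : ℕ) (hn : 1 ≤ n) (hU : Nat.card U = (2 ^ n) ^ 2)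
    (y : MulAut U) (hy : orderOf y = 2 ^ n - 1) (hfp : ∀ k : ℕ, y ^ k ≠ 1 → ∀ u : U, (y ^ k) u = u → u = 1)
    (V : Subgroup U) [V.Normal] (_hV : V ≠ ⊤) (hyV : ∀ v ∈ V, y v ∈ V)
    (hVe : ∀ v ∈ V, v ^ 2 = 1) (hQe : ∀ u : U, u ^ 2 ∈ V) (hQc : ∀ u w : U, u * w * u⁻¹ * w⁻¹ ∈ V)
    (φ : ↥V ≃* U ⧸ V) (hφ : ∀ (v : ↥V) (u : U), (QuotientGroup.mk u : U ⧸ V) = φ v → φ ⟨y v, hyV v v.2⟩ = QuotientGroup.mk (y u)) :
    ∀ a b : U, ⁅a, b⁆ = 1 := by
  classical
  have hq2 : 2 ≤ 2 ^ n := by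
    calc 2 = 2^1 := by norm_num
      _ ≤ 2^n := Nat.pow_le_pow_right (by norm_num) hn
  -- |V| = q
  have hcardV : Nat.card V = 2 ^ n := by
    have h1 : Nat.card U = Nat.card (U ⧸ V) * Nat.card V := Subgroup.card_eq_card_quotient_mul_card_subgroup V
    have h2 : Nat.card V = Nat.card (U ⧸ V) := Nat.card_congr φ.toEquiv
    rw [← h2, hU] at h1
    have h3 : (2 ^ n) ^ 2 = (Nat.card V)^2 := by rw [h1]; ring
    exact (Nat.pow_left_injective (n := 2) (by norm_num) h3).symm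
  -- powers of y preserve V
  have hyVk : ∀ (k : ℕ) (v : U), v ∈ V → (y ^ k) v ∈ V := by
    intro k
    induction k with
    | zero => intro v hv; simpa using hv
    | succ k ih =>
      intro v hv
      rw [pow_succ', MulAut.mul_apply]
      exact hyV _ (ih v hv)
  have hN : 0 < 2 ^ n - 1 := by omega
  -- injectivity of k ↦ y^k v for k < N
  have hinj : ∀ (v : U), v ≠ 1 → ∀ i j : ℕ, i ≤ j → j < 2 ^ n - 1 → (y ^ i) v = (y ^ j) v → i = j := by
    intro v hv i j hij hj h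
    have h1 : (y ^ (j - i)) v = v := by
      have : y ^ j = y ^ i * y ^ (j - i) := by rw [← pow_add]; congr 1; omega
      rw [this, MulAut.mul_apply] at h
      exact ((y ^ i).injective h).symm
    by_contra hne
    have h2 : y ^ (j - i) ≠ 1 := by
      intro h3
      have := orderOf_dvd_of_pow_eq_one h3
      rw [hy] at this
      have := Nat.le_of_dvd (by omega) this
      omega
    exact hv (hfp _ h2 v h1)
  have hinj' : ∀ (v : U), v ≠ 1 → ∀ i j : ℕ, i < 2 ^ n - 1 → j < 2 ^ n - 1 → (y ^ i) v = (y ^ j) v → i = j := by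
    intro v hv i j hi hj h
    rcases le_total i j with hij | hij
    · exact hinj v hv i j hij hj h
    · exact (hinj v hv j i hij hi h.symm).symm
  -- transitivity on V \ 1
  have htr : ∀ v ∈ V, v ≠ 1 → ∀ v' ∈ V, v' ≠ 1 → ∃ k, (y ^ k) v = v' := by
    intro v hv hv1 v' hv' hv'1
    exact trans_aux V (2 ^ n - 1) (fun k => (y ^ k) v) (by rw [hcardV]; omega) (fun k => hyVk k v hv)
      (fun k h => hv1 (by simpa using h)) (hinj' v hv1) v' hv' hv'1
  have : Fact (Nat.Prime 2) := ⟨Nat.prime_two⟩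
  have hUp : IsPGroup 2 U := IsPGroup.of_card (n := 2 * n) (by rw [hU]; ring)
  have : Group.IsNilpotent U := hUp.isNilpotent
  have hVbot : V ≠ ⊥ := by
    intro h
    rw [h] at hcardV
    simp at hcardV
    omega
  have hVZ : V ≤ Subgroup.center U := by
    have h1 := Cfsg.Agent.Lib.Helper1.normal_inf_center_ne_bot V hVbot
    obtain ⟨⟨z, hz⟩, hz1⟩ := (Subgroup.ne_bot_iff_exists_ne_one).mp h1
    have hz1' : z ≠ 1 := fun h => hz1 (Subtype.ext h)
    rw [Subgroup.mem_inf] at hz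
    intro v hv
    by_cases hv1 : v = 1
    · rw [hv1]; exact one_mem _
    obtain ⟨k, hk⟩ := htr z hz.1 hz1' v hv hv1
    rw [← hk, Subgroup.mem_center_iff]
    intro g
    have h2 := (Subgroup.mem_center_iff.mp hz.2) ((y ^ k).symm g)
    have h3 := congrArg (y ^ k) h2
    simpa using h3
  have hcV : ∀ a b : U, ⁅a, b⁆ ∈ V := fun a b => by rw [commutatorElement_def]; exact hQc a b
  have hcZ : ∀ a b : U, ⁅a, b⁆ ∈ Subgroup.center U := fun a b => hVZ (hcV a b)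
  have hinvV : ∀ v ∈ V, v⁻¹ = v := by
    intro v hv
    have := hVe v hv
    rw [sq] at this
    exact inv_eq_of_mul_eq_one_left this
  have hBsymm : ∀ a b : U, ⁅a, b⁆ = ⁅b, a⁆ := by
    intro a b
    rw [← commutatorElement_inv, hinvV _ (hcV b a)]
  have hBV1 : ∀ v ∈ V, ∀ b : U, ⁅v, b⁆ = 1 := by
    intro v hv b
    rw [commutatorElement_eq_one_iff_commute]
    exact ((Subgroup.mem_center_iff.mp (hVZ hv)) b).symm
  have hBmulV : ∀ a b : U, ∀ v ∈ V, ⁅a * v, b⁆ = ⁅a, b⁆ := by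
    intro a b v hv
    rw [comm_mul_left hcZ, hBV1 v hv, mul_one]
  have hBcongr : ∀ a a' b : U, a⁻¹ * a' ∈ V → ⁅a, b⁆ = ⁅a', b⁆ := by
    intro a a' b h
    have : a' = a * (a⁻¹ * a') := by group
    rw [this, hBmulV a b _ h]
  have hBy : ∀ (k : ℕ) (a b : U), (y ^ k) ⁅a, b⁆ = ⁅(y ^ k) a, (y ^ k) b⁆ :=
    fun k a b => map_commutatorElement _ a b
  have hφk : ∀ (k : ℕ) (v : ↥V) (u : U), (QuotientGroup.mk u : U ⧸ V) = φ v →
      φ ⟨(y ^ k) v, hyVk k v v.2⟩ = QuotientGroup.mk ((y ^ k) u) := by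
    intro k
    induction k with
    | zero => intro v u h; simpa using h.symm
    | succ k ih =>
      intro v u h
      have h1 := ih v u h
      have h2 := hφ ⟨(y ^ k) v, hyVk k v v.2⟩ ((y ^ k) u) h1.symm
      have e1 : (⟨(y ^ (k + 1)) v, hyVk (k + 1) v v.2⟩ : ↥V) = ⟨y ((y ^ k) v), hyV _ (hyVk k v v.2)⟩ := by
        apply Subtype.ext
        simp only [pow_succ', MulAut.mul_apply]
      rw [e1]
      simp only [pow_succ', MulAut.mul_apply]
      exact h2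
  obtain ⟨v₀, hv₀, hv₀1⟩ : ∃ v₀ ∈ V, v₀ ≠ 1 := by
    obtain ⟨⟨z, hz⟩, hz1⟩ := (Subgroup.ne_bot_iff_exists_ne_one).mp hVbot
    exact ⟨z, hz, fun h => hz1 (Subtype.ext h)⟩
  have hsum : ∀ k l : ℕ, ((∀ v ∈ V, (y ^ k) v * (y ^ l) v = 1) ∧ (∀ u : U, (y ^ k) u * (y ^ l) u ∈ V)) ∨
      ∃ m : ℕ, (∀ v ∈ V, (y ^ k) v * (y ^ l) v = (y ^ m) v) ∧
        (∀ u : U, ((y ^ m) u)⁻¹ * ((y ^ k) u * (y ^ l) u) ∈ V) := by
    intro k l
    by_cases hs : (y ^ k) v₀ * (y ^ l) v₀ = 1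
    · left
      have hV1 : ∀ v ∈ V, (y ^ k) v * (y ^ l) v = 1 := by
        intro v hv
        by_cases hv1 : v = 1
        · rw [hv1]; simp
        obtain ⟨j, hj⟩ := htr v₀ hv₀ hv₀1 v hv hv1
        rw [← hj, ← MulAut.mul_apply, ← MulAut.mul_apply, ← pow_add, ← pow_add, add_comm k j, add_comm l j,
          pow_add, pow_add, MulAut.mul_apply, MulAut.mul_apply, ← map_mul, hs, map_one]
      refine ⟨hV1, ?_⟩
      intro u
      set v := φ.symm (QuotientGroup.mk u) with hv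
      have h : (QuotientGroup.mk u : U ⧸ V) = φ v := by simp [hv]
      have hk := hφk k v u h
      have hl := hφk l v u h
      rw [← QuotientGroup.eq_one_iff, QuotientGroup.mk_mul, ← hk, ← hl, ← map_mul]
      have : (⟨(y ^ k) v, hyVk k v v.2⟩ * ⟨(y ^ l) v, hyVk l v v.2⟩ : ↥V) = 1 := by
        apply Subtype.ext
        exact hV1 v v.2
      rw [this, map_one]
    · right
      have hsV : (y ^ k) v₀ * (y ^ l) v₀ ∈ V := V.mul_mem (hyVk k _ hv₀) (hyVk l _ hv₀)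
      obtain ⟨m, hm⟩ := htr v₀ hv₀ hv₀1 _ hsV hs
      refine ⟨m, ?_⟩
      have hV1 : ∀ v ∈ V, (y ^ k) v * (y ^ l) v = (y ^ m) v := by
        intro v hv
        by_cases hv1 : v = 1
        · rw [hv1]; simp
        obtain ⟨j, hj⟩ := htr v₀ hv₀ hv₀1 v hv hv1
        rw [← hj, ← MulAut.mul_apply, ← MulAut.mul_apply, ← MulAut.mul_apply, ← pow_add, ← pow_add, ← pow_add,
          add_comm k j, add_comm l j, add_comm m j,
          pow_add, pow_add, pow_add, MulAut.mul_apply, MulAut.mul_apply, MulAut.mul_apply, ← map_mul, hm]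
      refine ⟨hV1, ?_⟩
      intro u
      set v := φ.symm (QuotientGroup.mk u) with hv
      have h : (QuotientGroup.mk u : U ⧸ V) = φ v := by simp [hv]
      have hk := hφk k v u h
      have hl := hφk l v u h
      have hm' := hφk m v u h
      apply QuotientGroup.eq.mp
      rw [QuotientGroup.mk_mul, ← hk, ← hl, ← hm', ← map_mul]
      congr 1
      apply Subtype.ext
      exact (hV1 v v.2).symm
  have hF4 : ∀ (k l : ℕ) (a b : U), ⁅(y ^ k) a, (y ^ l) b⁆ = ⁅(y ^ l) a, (y ^ k) b⁆ := by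
    intro k l a b
    rcases hsum k l with ⟨h1, h2⟩ | ⟨m, h1, h2⟩
    · have hcl : ∀ a : U, ((y ^ k) a)⁻¹ * (y ^ l) a ∈ V := by
        intro a
        have : ((y ^ k) a)⁻¹ * (y ^ l) a = (((y ^ k) a) ^ 2)⁻¹ * ((y ^ k) a * (y ^ l) a) := by group
        rw [this]; exact V.mul_mem (V.inv_mem (hQe _)) (h2 a)
      rw [hBcongr _ _ _ (hcl a), hBsymm ((y ^ l) a) ((y ^ k) b), hBcongr _ _ _ (hcl b), hBsymm]
    · have hab : ⁅(y ^ m) a, (y ^ m) b⁆ = ⁅(y ^ k) a * (y ^ l) a, (y ^ k) b * (y ^ l) b⁆ := by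
        rw [hBcongr _ _ _ (h2 a), hBsymm, hBcongr _ _ _ (h2 b), hBsymm]
      rw [comm_mul_left hcZ, comm_mul_right hcZ, comm_mul_right hcZ, ← hBy, ← hBy, ← hBy,
        ← h1 _ (hcV a b), mul_assoc, mul_right_inj] at hab
      -- hab : S = X * (Y * S)
      have h3 : ⁅(y ^ k) a, (y ^ l) b⁆ * ⁅(y ^ l) a, (y ^ k) b⁆ = 1 := by
        have h4 : (1 : U) * (y ^ l) ⁅a, b⁆ = (⁅(y ^ k) a, (y ^ l) b⁆ * ⁅(y ^ l) a, (y ^ k) b⁆) * (y ^ l) ⁅a, b⁆ := by
          rw [one_mul, mul_assoc]; exact hab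
        exact (mul_right_cancel h4).symm
      rw [← hinvV _ (hcV ((y ^ l) a) ((y ^ k) b))]
      exact eq_inv_of_mul_eq_one_left h3
  have hT5 : ∀ (k l : ℕ) (a : U), ⁅(y ^ k) a, (y ^ l) a⁆ = ⁅(y ^ (k + l)) a, a⁆ := by
    intro k l a
    have := hF4 0 l ((y ^ k) a) a
    simp only [pow_zero, MulAut.one_apply] at this
    rw [this, ← MulAut.mul_apply, ← pow_add, add_comm]
  have hT6 : ∀ (j : ℕ) (a : U), ⁅(y ^ j) a, a⁆ = 1 := by
    intro j a
    have h2 : y ^ j = y ^ (j * 2 ^ (n - 1) + j * 2 ^ (n - 1)) := by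
      have : j * 2 ^ (n - 1) + j * 2 ^ (n - 1) = j + (2 ^ n - 1) * j := by
        obtain ⟨m, rfl⟩ : ∃ m, n = m + 1 := ⟨n - 1, by omega⟩
        simp only [Nat.add_sub_cancel, pow_succ]
        have h1 : 1 ≤ 2 ^ m * 2 := by
          have := Nat.one_le_two_pow (n := m); omega
        zify [h1]; ring
      rw [this, pow_add, pow_mul, ← hy, pow_orderOf_eq_one, one_pow, mul_one]
    rw [h2, ← hT5, commutatorElement_self]
  intro a b
  by_cases ha : a ∈ V
  · exact hBV1 a ha b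
  by_cases hb : b ∈ V
  · rw [hBsymm]; exact hBV1 b hb a
  set va := φ.symm (QuotientGroup.mk a) with hva
  set vb := φ.symm (QuotientGroup.mk b) with hvb
  have hφa : (QuotientGroup.mk a : U ⧸ V) = φ va := by simp [hva]
  have hφb : (QuotientGroup.mk b : U ⧸ V) = φ vb := by simp [hvb]
  have hva1 : (va : U) ≠ 1 := by
    intro h
    have : va = 1 := Subtype.ext h
    rw [this, map_one, QuotientGroup.eq_one_iff] at hφa
    exact ha hφa
  have hvb1 : (vb : U) ≠ 1 := by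
    intro h
    have : vb = 1 := Subtype.ext h
    rw [this, map_one, QuotientGroup.eq_one_iff] at hφb
    exact hb hφb
  obtain ⟨k, hk⟩ := htr va va.2 hva1 vb vb.2 hvb1
  have h5 := hφk k va a hφa
  have h6 : (⟨(y ^ k) va, hyVk k va va.2⟩ : ↥V) = vb := Subtype.ext hk
  rw [h6, ← hφb] at h5
  rw [hBsymm, hBcongr b ((y ^ k) a) a (QuotientGroup.eq.mp h5)]
  exact hT6 k a


/-- Let U be a group of order q² with q = 2^n ≥ 2, and y an automorphism of U of order q − 1 all of whose nontrivial powers fix only the identity. Let V be a proper normal y-invariant subgroup of U such that V and U/V are elementary abelian 2-groups and there is an isomorphism from V to U/V commuting with the actions of y. Then U is abelian. -/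
theorem result {U : Type*} [Group U] [Finite U] (n : ℕ) (hn : 1 ≤ n) (hU : Nat.card U = (2 ^ n) ^ 2)
    (y : MulAut U) (hy : orderOf y = 2 ^ n - 1) (hfp : ∀ k : ℕ, y ^ k ≠ 1 → ∀ u : U, (y ^ k) u = u → u = 1)
    (V : Subgroup U) [V.Normal] (hV : V ≠ ⊤) (hyV : ∀ v ∈ V, y v ∈ V)
    (hVe : ∀ v ∈ V, v ^ 2 = 1) (hQe : ∀ u : U, u ^ 2 ∈ V) (hQc : ∀ u w : U, u * w * u⁻¹ * w⁻¹ ∈ V)
    (φ : ↥V ≃* U ⧸ V) (hφ : ∀ (v : ↥V) (u : U), (QuotientGroup.mk u : U ⧸ V) = φ v → φ ⟨y v, hyV v v.2⟩ = QuotientGroup.mk (y u)) :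
    IsMulCommutative U := by
  have h := main n hn hU y hy hfp V hV hyV hVe hQe hQc φ hφ
  exact ⟨⟨fun a b => commutatorElement_eq_one_iff_mul_comm.mp (h a b)⟩⟩

end Cfsg.Agent.S3158
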