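import Cfsg.Statements.S3162
import Cfsg.Agent.Lib.helper14.SU3EvenSU
import Cfsg.Agent.Lib.helper14.SuzAut2
import Cfsg.Agent.Lib.Helper18.CharP

set_option autoImplicit false
open Cfsg

namespace Cfsg.Agent.S3162

open Cfsg.Agent.Lib.helper14 Cfsg.Agent.Lib.helper14.SuzModel Cfsg.Agent.Lib.helper14.SuzAut
  Cfsg.Agent.Lib.helper14.SuzAut2

/-- Let S be a Sylow 2-subgroup of the special unitary group of dimension 3 with parameter q = 2^n (n ≥ 2; realised over the field with q² elements). Then the largest normal 2-subgroup of the automorphism group of S is elementary abelian of order 2^(2n²), and the automorphism group has order 2^(2n²) · 2n(q² − 1). -/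
theorem result {S : Type*} [Group S] [Finite S] (n : ℕ) (hn : 2 ≤ n) {F : Type*} [Field F] [Fintype F] (hF : Fintype.card F = 4 ^ n)
    (P : Sylow 2 ↥(Cfsg.SU 3 F (2 ^ n))) (hS : Nonempty (S ≃* ↥(P : Subgroup ↥(Cfsg.SU 3 F (2 ^ n))))) :
    Cfsg.IsElementaryAbelian 2 (Cfsg.pCore 2 (MulAut S)) ∧ Nat.card ↥(Cfsg.pCore 2 (MulAut S)) = 2 ^ (2 * n ^ 2) ∧
      Nat.card (MulAut S) = 2 ^ (2 * n ^ 2) * (2 * n * ((2 ^ n) ^ 2 - 1)) := by
  have hF' : Fintype.card F = (2 ^ n) ^ 2 := by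
    rw [hF, ← pow_mul, mul_comm, pow_mul]; norm_num
  haveI : Fact (Nat.Prime 2) := ⟨Nat.prime_two⟩
  haveI : CharP F 2 := charP_of_card_eq_prime_pow (f := 2 * n) (by rw [hF, pow_mul]; norm_num)
  obtain ⟨σ, hσ⟩ := Cfsg.Agent.Lib.Lead.exists_frob hF'
  haveI : Fact (∀ x, σ (σ x) = x) := ⟨Cfsg.Agent.Lib.Lead.frob_frob hF' σ hσ⟩
  obtain ⟨e1⟩ := SU3EvenSU.sylow_equiv_SU n (by omega) rfl hF' hσ P
  obtain ⟨e0⟩ := hS
  let e : S ≃* SuzP σ := e0.trans e1
  let E : MulAut S ≃* MulAut (SuzP σ) := MulAut.congr e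
  have hmap : (Cfsg.pCore 2 (MulAut S)).map E.toMonoidHom = KerS σ := by
    rw [Cfsg.Agent.Lib.Helper18.pCore_map_mulEquiv E, pCore_eq n (by omega) rfl hF' hσ]
  have hmem : ∀ a ∈ Cfsg.pCore 2 (MulAut S), E a ∈ KerS σ := by
    intro a ha
    rw [← hmap]
    exact Subgroup.mem_map_of_mem _ ha
  refine ⟨⟨⟨⟨fun a b => ?_⟩⟩, fun a ha => ?_⟩, ?_, ?_⟩
  · apply Subtype.ext
    apply E.injective
    show E ((a : MulAut S) * (b : MulAut S)) = E ((b : MulAut S) * (a : MulAut S))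
    rw [map_mul, map_mul]
    exact ker_comm hF' hσ _ _ (hmem _ a.2) (hmem _ b.2)
  · apply E.injective
    rw [map_pow, map_one]
    exact ker_sq hF' hσ _ (hmem _ ha)
  · rw [← card_KerS n rfl hF' hσ, ← hmap]
    exact Nat.card_congr
      ((Cfsg.pCore 2 (MulAut S)).equivMapOfInjective E.toMonoidHom E.injective).toEquiv
  · rw [Nat.card_congr E.toEquiv]
    exact card_mulAut n rfl hF' hσ

end Cfsg.Agent.S3162
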