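import Mathlib
import Cfsg.Statements.S3163
-- import your own Cfsg.Agent.* helpers here

set_option autoImplicit false
open Cfsg

namespace Cfsg.Agent.S3163

theorem card_mul_card_le {G : Type*} [Group G] [Finite G] (H K : Subgroup G) :
    Nat.card H * Nat.card K ≤ Nat.card G * Nat.card ↥(H ⊓ K) := by
  have h1 := Subgroup.card_mul_index H
  have h2 := Subgroup.card_mul_index K
  have h3 := Subgroup.card_mul_index (H ⊓ K)
  have h4 := Subgroup.index_inf_le (H := H) (K := K)
  have hg : 0 < Nat.card G := Nat.card_pos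
  have key : Nat.card G * (Nat.card H * Nat.card K) ≤ Nat.card G * (Nat.card G * Nat.card ↥(H ⊓ K)) := by
    calc Nat.card G * (Nat.card H * Nat.card K)
        = (Nat.card ↥(H ⊓ K) * (H ⊓ K).index) * (Nat.card H * Nat.card K) := by rw [h3]
      _ ≤ (Nat.card ↥(H ⊓ K) * (H.index * K.index)) * (Nat.card H * Nat.card K) := by
          apply Nat.mul_le_mul_right
          exact Nat.mul_le_mul_left _ h4
      _ = Nat.card ↥(H ⊓ K) * ((Nat.card H * H.index) * (Nat.card K * K.index)) := by ring
      _ = Nat.card G * (Nat.card G * Nat.card ↥(H ⊓ K)) := by rw [h1, h2]; ring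
  exact Nat.le_of_mul_le_mul_left key hg

theorem card_mul_card_ge {G : Type*} [Group G] [Finite G] (A B : Subgroup G)
    (hAB : ∀ s : G, ∃ a ∈ A, ∃ b ∈ B, s = a * b) :
    Nat.card G * Nat.card ↥(A ⊓ B) ≤ Nat.card A * Nat.card B := by
  classical
  choose fa hfa fb hfb hs using hAB
  rw [← Nat.card_prod, ← Nat.card_prod]
  let f : G × ↥(A ⊓ B) → ↥A × ↥B := fun q =>
    (⟨fa q.1 * q.2.1, A.mul_mem (hfa q.1) q.2.2.1⟩, ⟨(q.2.1)⁻¹ * fb q.1, B.mul_mem (B.inv_mem q.2.2.2) (hfb q.1)⟩)
  apply Nat.card_le_card_of_injective f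
  rintro ⟨s, d⟩ ⟨s', d'⟩ h
  have h1 : fa s * d.1 = fa s' * d'.1 := congrArg (fun q => (q.1 : G)) h
  have h2 : (d.1)⁻¹ * fb s = (d'.1)⁻¹ * fb s' := congrArg (fun q => (q.2 : G)) h
  have hss : s = s' := by
    rw [hs s, hs s']
    calc fa s * fb s = (fa s * d.1) * ((d.1)⁻¹ * fb s) := by group
      _ = (fa s' * d'.1) * ((d'.1)⁻¹ * fb s') := by rw [h1, h2]
      _ = fa s' * fb s' := by group
  subst hss
  have hd : d.1 = d'.1 := mul_left_cancel h1
  have : d = d' := Subtype.ext hd
  rw [this]


/-- Let S be a non-abelian finite 2-group which is the product S = AB of two elementary abelian subgroups A and B, and suppose that the centralizer in S of every element of A outside B is exactly A. Then the centralizer of every element of B outside A is exactly B; A and B are maximal elementary abelian subgroups of S and the only ones; the centre of S is A ∩ B; and every element of S outside A ∪ B has centralizer of order at most min(|A|, |B|). -/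
theorem result {S : Type*} [Group S] [Finite S] (hS : IsPGroup 2 S) (hna : ¬ IsMulCommutative S) (A B : Subgroup S)
    (hA : Cfsg.IsElementaryAbelian 2 A) (hB : Cfsg.IsElementaryAbelian 2 B) (hAB : ∀ s : S, ∃ a ∈ A, ∃ b ∈ B, s = a * b)
    (hC : ∀ a ∈ A, a ∉ B → Subgroup.centralizer ({a} : Set S) = A) :
    (∀ b ∈ B, b ∉ A → Subgroup.centralizer ({b} : Set S) = B) ∧
      (∀ E : Subgroup S, Cfsg.IsElementaryAbelian 2 E → (∀ E' : Subgroup S, Cfsg.IsElementaryAbelian 2 E' → E ≤ E' → E' = E) → E = A ∨ E = B) ∧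
      (∀ E' : Subgroup S, Cfsg.IsElementaryAbelian 2 E' → A ≤ E' → E' = A) ∧ (∀ E' : Subgroup S, Cfsg.IsElementaryAbelian 2 E' → B ≤ E' → E' = B) ∧
      Subgroup.center S = A ⊓ B ∧
      (∀ x : S, x ∉ A → x ∉ B → Nat.card ↥(Subgroup.centralizer ({x} : Set S)) ≤ min (Nat.card ↥A) (Nat.card ↥B)) := by
  classical
  have comA : ∀ a ∈ A, ∀ a' ∈ A, a * a' = a' * a := by
    intro a ha a' ha'
    have := hA.1.is_comm.comm ⟨a, ha⟩ ⟨a', ha'⟩
    exact congrArg Subtype.val this
  have comB : ∀ b ∈ B, ∀ b' ∈ B, b * b' = b' * b := by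
    intro b hb b' hb'
    have := hB.1.is_comm.comm ⟨b, hb⟩ ⟨b', hb'⟩
    exact congrArg Subtype.val this
  have sqA : ∀ a ∈ A, a * a = 1 := fun a ha => by have := hA.2 a ha; rwa [pow_two] at this
  have sqB : ∀ b ∈ B, b * b = 1 := fun b hb => by have := hB.2 b hb; rwa [pow_two] at this
  have invA : ∀ a ∈ A, a⁻¹ = a := fun a ha => inv_eq_of_mul_eq_one_left (sqA a ha)
  have invB : ∀ b ∈ B, b⁻¹ = b := fun b hb => inv_eq_of_mul_eq_one_left (sqB b hb)
  have hCa : ∀ a ∈ A, a ∉ B → ∀ s : S, a * s = s * a → s ∈ A := by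
    intro a ha haB s hs
    rw [← hC a ha haB, Subgroup.mem_centralizer_iff]
    intro h hh
    rw [Set.mem_singleton_iff] at hh
    subst hh
    exact hs
  have hcross : ∀ a ∈ A, ∀ b ∈ B, a * b = b * a → a ∈ B ∨ b ∈ A := by
    intro a ha b hb hab
    by_cases haB : a ∈ B
    · exact Or.inl haB
    · exact Or.inr (hCa a ha haB b hab)
  -- A ⊄ B, B ⊄ A
  have hexA : ∃ a ∈ A, a ∉ B := by
    by_contra hcon
    push Not at hcon
    apply hna
    have hall : ∀ s : S, s ∈ B := by
      intro s
      obtain ⟨a, ha, b, hb, rfl⟩ := hAB s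
      exact B.mul_mem (hcon a ha) hb
    exact ⟨⟨fun x y => comB x (hall x) y (hall y)⟩⟩
  have hexB : ∃ b ∈ B, b ∉ A := by
    by_contra hcon
    push Not at hcon
    apply hna
    have hall : ∀ s : S, s ∈ A := by
      intro s
      obtain ⟨a, ha, b, hb, rfl⟩ := hAB s
      exact A.mul_mem ha (hcon b hb)
    exact ⟨⟨fun x y => comA x (hall x) y (hall y)⟩⟩
  obtain ⟨a0, ha0, ha0B⟩ := hexA
  obtain ⟨b0, hb0, hb0A⟩ := hexB
  -- (1)
  have hCb : ∀ b ∈ B, b ∉ A → ∀ s : S, b * s = s * b → s ∈ B := by
    intro b hb hbA s hs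
    obtain ⟨a', ha', b', hb', rfl⟩ := hAB s
    have h1 : a' * b = b * a' := by
      have e : b * (a' * b') = a' * b' * b := hs
      have e2 : a' * b' * b = a' * b * b' := by rw [mul_assoc, comB b' hb' b hb, ← mul_assoc]
      rw [e2, ← mul_assoc] at e
      exact (mul_right_cancel e).symm
    rcases hcross a' ha' b hb h1 with h | h
    · exact B.mul_mem h hb'
    · exact absurd h hbA
  have h1 : ∀ b ∈ B, b ∉ A → Subgroup.centralizer ({b} : Set S) = B := by
    intro b hb hbA
    ext s
    rw [Subgroup.mem_centralizer_iff]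
    constructor
    · intro h
      exact hCb b hb hbA s (h b rfl)
    · intro hs h hh
      rw [Set.mem_singleton_iff] at hh
      subst hh
      exact comB h hb s hs
  -- involutions lie in A ∪ B
  have hinv : ∀ x : S, x * x = 1 → x ∈ A ∨ x ∈ B := by
    intro x hx
    obtain ⟨a, ha, b, hb, rfl⟩ := hAB x
    have hab : a * b = b * a := by
      have e : a * b = (a * b)⁻¹ := (inv_eq_of_mul_eq_one_left hx).symm
      rw [mul_inv_rev, invA a ha, invB b hb] at e
      exact e
    rcases hcross a ha b hb hab with h | h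
    · exact Or.inr (B.mul_mem h hb)
    · exact Or.inl (A.mul_mem ha h)
  have hEle : ∀ E : Subgroup S, Cfsg.IsElementaryAbelian 2 E → E ≤ A ∨ E ≤ B := by
    intro E hE
    have comE : ∀ e ∈ E, ∀ e' ∈ E, e * e' = e' * e := by
      intro e he e' he'
      have := hE.1.is_comm.comm ⟨e, he⟩ ⟨e', he'⟩
      exact congrArg Subtype.val this
    by_cases h : ∃ e ∈ E, e ∉ B
    · obtain ⟨e, he, heB⟩ := h
      have heA : e ∈ A := by
        have := hE.2 e he
        rw [pow_two] at this
        rcases hinv e this with h | h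
        · exact h
        · exact absurd h heB
      left
      intro e' he'
      exact hCa e heA heB e' (comE e he e' he')
    · push Not at h
      right
      exact h
  have hD : A ⊓ B ≤ Subgroup.center S := by
    intro d hd
    rw [Subgroup.mem_center_iff]
    intro s
    obtain ⟨a, ha, b, hb, rfl⟩ := hAB s
    rw [mul_assoc, comB b hb d hd.2, ← mul_assoc, comA a ha d hd.1, mul_assoc]
  refine ⟨h1, ?_, ?_, ?_, ?_, ?_⟩
  · intro E hE hmax
    rcases hEle E hE with h | h
    · left; exact (hmax A hA h).symm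
    · right; exact (hmax B hB h).symm
  · intro E' hE' hAE
    apply le_antisymm _ hAE
    have comE : ∀ e ∈ E', ∀ e' ∈ E', e * e' = e' * e := by
      intro e he e' he'
      have := hE'.1.is_comm.comm ⟨e, he⟩ ⟨e', he'⟩
      exact congrArg Subtype.val this
    intro e he
    exact hCa a0 ha0 ha0B e (comE a0 (hAE ha0) e he)
  · intro E' hE' hBE
    apply le_antisymm _ hBE
    have comE : ∀ e ∈ E', ∀ e' ∈ E', e * e' = e' * e := by
      intro e he e' he'
      have := hE'.1.is_comm.comm ⟨e, he⟩ ⟨e', he'⟩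
      exact congrArg Subtype.val this
    intro e he
    exact hCb b0 hb0 hb0A e (comE b0 (hBE hb0) e he)
  · apply le_antisymm _ hD
    intro z hz
    rw [Subgroup.mem_center_iff] at hz
    exact ⟨hCa a0 ha0 ha0B z (hz a0), hCb b0 hb0 hb0A z (hz b0)⟩
  · intro x hxA hxB
    obtain ⟨a, ha, b, hb, hxab⟩ := hAB x
    have haB : a ∉ B := fun h => hxB (by rw [hxab]; exact B.mul_mem h hb)
    have hbA : b ∉ A := fun h => hxA (by rw [hxab]; exact A.mul_mem ha h)
    set C := Subgroup.centralizer ({x} : Set S) with hCdef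
    have hmemC : ∀ s ∈ C, x * s = s * x := by
      intro s hs
      exact Subgroup.mem_centralizer_iff.mp hs x rfl
    have hCA : C ⊓ A ≤ A ⊓ B := by
      intro a' ha'
      refine ⟨ha'.2, ?_⟩
      have e := hmemC a' ha'.1
      rw [hxab] at e
      -- a b a' = a' a b = a a' b
      have e2 : a' * b = b * a' := by
        have e3 : a * b * a' = a * (a' * b) := by
          rw [e, ← mul_assoc, comA a' ha'.2 a ha, mul_assoc]
        rw [mul_assoc] at e3
        exact (mul_left_cancel e3).symm
      rcases hcross a' ha'.2 b hb e2 with h | h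
      · exact h
      · exact absurd h hbA
    have hCB : C ⊓ B ≤ A ⊓ B := by
      intro b' hb'
      refine ⟨?_, hb'.2⟩
      have e := hmemC b' hb'.1
      rw [hxab] at e
      have e2 : a * b' = b' * a := by
        have e3 : a * b' * b = b' * a * b := by
          rw [mul_assoc a b' b, comB b' hb'.2 b hb, ← mul_assoc, e, mul_assoc]
        exact mul_right_cancel e3
      rcases hcross a ha b' hb'.2 e2 with h | h
      · exact absurd h haB
      · exact h
    have hcount := card_mul_card_ge A B hAB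
    have hA1 := card_mul_card_le C A
    have hB1 := card_mul_card_le C B
    have hA2 : Nat.card ↥(C ⊓ A) ≤ Nat.card ↥(A ⊓ B) := Subgroup.card_le_of_le hCA
    have hB2 : Nat.card ↥(C ⊓ B) ≤ Nat.card ↥(A ⊓ B) := Subgroup.card_le_of_le hCB
    have hApos : 0 < Nat.card A := Nat.card_pos
    have hBpos : 0 < Nat.card B := Nat.card_pos
    apply le_min
    · -- |C| |B| ≤ |S| |C ⊓ B| ≤ |S||D| ≤ |A||B|
      have : Nat.card C * Nat.card B ≤ Nat.card A * Nat.card B :=
        hB1.trans ((Nat.mul_le_mul_left _ hB2).trans hcount)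
      exact Nat.le_of_mul_le_mul_right this hBpos
    · have : Nat.card C * Nat.card A ≤ Nat.card B * Nat.card A :=
        hA1.trans ((Nat.mul_le_mul_left _ hA2).trans (by rw [mul_comm (Nat.card B)]; exact hcount))
      exact Nat.le_of_mul_le_mul_right this hApos

end Cfsg.Agent.S3163
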