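import Mathlib
import Cfsg.Statements.S3166

set_option autoImplicit false
open Cfsg

namespace Cfsg.Agent.S3166

theorem not_sq (Q y : ℕ) (hQ : 2 ≤ Q) (h : Q ^ 4 + Q ^ 2 + 1 = y ^ 2 + Q ^ 3 + Q) : False := by
  have hQ' : (2 : ℤ) ≤ Q := by exact_mod_cast hQ
  have h' : (Q : ℤ) ^ 4 + (Q : ℤ) ^ 2 + 1 = (y : ℤ) ^ 2 + (Q : ℤ) ^ 3 + Q := by exact_mod_cast h
  have hy : (0 : ℤ) ≤ y := by positivity
  set q : ℤ := (Q : ℤ) with hq
  set z : ℤ := (y : ℤ) with hz
  have h1 : 2 * q ^ 2 - q < 2 * z := by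
    by_contra hcon
    rw [not_lt] at hcon
    have : (2 * z) ^ 2 ≤ (2 * q ^ 2 - q) ^ 2 := by
      apply pow_le_pow_left₀ (by positivity) hcon
    nlinarith
  have h2 : 2 * z < 2 * q ^ 2 - q + 1 := by
    by_contra hcon
    rw [not_lt] at hcon
    have h0 : 0 ≤ 2 * q ^ 2 - q + 1 := by nlinarith
    have : (2 * q ^ 2 - q + 1) ^ 2 ≤ (2 * z) ^ 2 := by
      apply pow_le_pow_left₀ h0 hcon
    nlinarith
  omega

theorem odd_geom (p m : ℕ) (hp : Odd p) (hm : Odd m) : Odd (∑ i ∈ Finset.range m, p ^ i) := by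
  rw [Finset.odd_sum_iff_odd_card_odd]
  have : (Finset.range m).filter (fun x => Odd (p ^ x)) = Finset.range m := by
    apply Finset.filter_true_of_mem
    intro x _
    exact hp.pow
  rw [this, Finset.card_range]
  exact hm

theorem dvd_sub_one (n p m : ℕ) (hp : Odd p) (hm : Odd m) (h : 2 ^ n ∣ p ^ m - 1) : 2 ^ n ∣ p - 1 := by
  have hp1 : 1 ≤ p := by
    rcases hp with ⟨k, hk⟩
    omega
  have hgeom : (∑ i ∈ Finset.range m, p ^ i) * (p - 1) = p ^ m - 1 := geom_sum_mul_of_one_le hp1 m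
  rw [← hgeom] at h
  have hcop : Nat.Coprime (2 ^ n) (∑ i ∈ Finset.range m, p ^ i) := by
    apply Nat.Coprime.pow_left
    rw [Nat.coprime_two_left]
    exact odd_geom p m hp hm
  exact hcop.dvd_of_dvd_mul_left h

theorem case_three (Q p : ℕ) (hQ : 2 ≤ Q) (hdvd : Q ∣ p - 1) (hp : 2 ≤ p)
    (h : Q ^ 4 + Q ^ 2 + 1 = p ^ 3 + Q ^ 3 + Q) : False := by
  obtain ⟨k, hk⟩ := hdvd
  have hpk : p = Q * k + 1 := by omega
  subst hpk
  have hk1 : 1 ≤ k := by
    rcases Nat.eq_zero_or_pos k with h0 | h0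
    · subst h0
      simp at hp
    · exact h0
  have hQ' : (2 : ℤ) ≤ Q := by exact_mod_cast hQ
  have hk' : (1 : ℤ) ≤ k := by exact_mod_cast hk1
  have h' : (Q : ℤ) ^ 4 + (Q : ℤ) ^ 2 + 1 = ((Q : ℤ) * k + 1) ^ 3 + (Q : ℤ) ^ 3 + Q := by exact_mod_cast h
  set q : ℤ := (Q : ℤ) with hq
  set j : ℤ := (k : ℤ) with hj
  have hq0 : q ≠ 0 := by omega
  have e1 : 3 * j + 1 = q * (q ^ 2 + 1 - q - j ^ 3 * q - 3 * j ^ 2) := by
    have : q * (3 * j + 1) = q * (q * (q ^ 2 + 1 - q - j ^ 3 * q - 3 * j ^ 2)) := by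
      linear_combination (-1 : ℤ) * h'
    exact mul_left_cancel₀ hq0 this
  have ht : 1 ≤ q ^ 2 + 1 - q - j ^ 3 * q - 3 * j ^ 2 := by
    by_contra hcon
    rw [not_le] at hcon
    have : q * (q ^ 2 + 1 - q - j ^ 3 * q - 3 * j ^ 2) ≤ 0 := by
      apply mul_nonpos_of_nonneg_of_nonpos (by omega) (by omega)
    omega
  have hle : q ≤ 3 * j + 1 := by nlinarith
  have hlt : j ^ 3 < q := by
    by_contra hcon
    rw [not_lt] at hcon
    have h3 : j ^ 3 * q ^ 3 ≥ q * q ^ 3 := by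
      apply mul_le_mul_of_nonneg_right hcon (by positivity)
    nlinarith [sq_nonneg j, sq_nonneg q, mul_pos (show (0:ℤ) < j by omega) (show (0:ℤ) < q by omega)]
  have hj1 : j = 1 := by
    by_contra hne
    have hj2 : 2 ≤ j := by omega
    nlinarith [sq_nonneg j]
  rw [hj1] at e1 hle
  have hq4 : q ≤ 4 := by omega
  interval_cases q <;> omega

/-- Let q = 2^n with n ≥ 1. If q⁴ − q³ + q² − q + 1 is a power p^m of a prime p, then m = 1: the value is never a prime power with exponent greater than 1. -/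
theorem result (n p m : ℕ) (hn : 1 ≤ n) (hp : p.Prime) (h : (2 ^ n) ^ 4 - (2 ^ n) ^ 3 + (2 ^ n) ^ 2 - 2 ^ n + 1 = p ^ m) : m = 1 := by
  have hQ : 2 ≤ 2 ^ n := by
    calc 2 = 2 ^ 1 := by norm_num
      _ ≤ 2 ^ n := Nat.pow_le_pow_right (by norm_num) hn
  have hQeven : Even (2 ^ n) := by
    rw [Nat.even_pow]
    exact ⟨even_two, by omega⟩
  generalize hQdef : 2 ^ n = Q at h hQ hQeven
  have h34 : Q ^ 3 ≤ Q ^ 4 := Nat.pow_le_pow_right (by omega) (by norm_num)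
  have h12 : Q ≤ Q ^ 2 := by nlinarith
  have h' : Q ^ 4 + Q ^ 2 + 1 = p ^ m + Q ^ 3 + Q := by omega
  have h23 : Q ^ 2 < Q ^ 3 := Nat.pow_lt_pow_right (by omega) (by norm_num)
  -- p ^ m is odd and > 1
  have hodd : Odd (p ^ m) := by
    have hQe : Even Q := hQeven
    have e4 : Even (Q ^ 4) := Nat.even_pow.mpr ⟨hQe, by norm_num⟩
    have e3 : Even (Q ^ 3) := Nat.even_pow.mpr ⟨hQe, by norm_num⟩
    have e2 : Even (Q ^ 2) := Nat.even_pow.mpr ⟨hQe, by norm_num⟩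
    rcases e4 with ⟨a, ha⟩
    rcases e3 with ⟨b, hb⟩
    rcases e2 with ⟨c, hc⟩
    rcases hQeven with ⟨d, hd⟩
    rw [Nat.odd_iff]
    omega
  have hm0 : m ≠ 0 := by
    rintro rfl
    simp at h'
    nlinarith
  have hpodd : Odd p := by
    rcases Nat.Prime.eq_two_or_odd' hp with h2 | h2
    · subst h2
      exfalso
      have : Even (2 ^ m) := by
        rw [Nat.even_pow]
        exact ⟨even_two, hm0⟩
      exact (Nat.not_odd_iff_even.mpr this) hodd
    · exact h2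
  rcases Nat.even_or_odd m with hme | hmo
  · exfalso
    obtain ⟨j, hj⟩ := hme
    have : p ^ m = (p ^ j) ^ 2 := by
      rw [hj, ← pow_mul]
      congr 1
      omega
    rw [this] at h'
    exact not_sq Q (p ^ j) hQ h'
  · by_contra hm1
    have hm3 : 3 ≤ m := by
      rcases hmo with ⟨j, hj⟩
      omega
    have hdvd : Q ∣ p - 1 := by
      rw [← hQdef]
      apply dvd_sub_one n p m hpodd hmo
      rw [hQdef]
      have : p ^ m - 1 = Q * (Q ^ 3 + Q - Q ^ 2 - 1) := by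
        have hh : Q ^ 2 + 1 ≤ Q ^ 3 + Q := by omega
        have : Q * (Q ^ 3 + Q - Q ^ 2 - 1) = Q ^ 4 + Q ^ 2 - Q ^ 3 - Q := by
          have e : Q ^ 3 + Q - Q ^ 2 - 1 = Q ^ 3 + Q - (Q ^ 2 + 1) := by omega
          rw [e, Nat.mul_sub]
          have : Q * (Q ^ 3 + Q) = Q ^ 4 + Q ^ 2 := by ring
          have : Q * (Q ^ 2 + 1) = Q ^ 3 + Q := by ring
          omega
        omega
      rw [this]
      exact dvd_mul_right _ _
    have hp2 : 2 ≤ p := hp.two_le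
    have hpQ : Q + 1 ≤ p := by
      have := Nat.le_of_dvd (by
        rcases hpodd with ⟨k, hk⟩
        omega) hdvd
      omega
    have hm_lt : m < 4 := by
      by_contra hcon
      rw [not_lt] at hcon
      have h1 : (Q + 1) ^ 4 ≤ p ^ m := by
        calc (Q + 1) ^ 4 ≤ p ^ 4 := Nat.pow_le_pow_left hpQ 4
          _ ≤ p ^ m := Nat.pow_le_pow_right (by omega) hcon
      nlinarith
    have hm3' : m = 3 := by omega
    subst hm3'
    exact case_three Q p hQ hdvd hp2 h'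

end Cfsg.Agent.S3166
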