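import Cfsg.Statements.S3174
import Cfsg.Agent.Lib.Helper9.Ru9

set_option autoImplicit false
open Cfsg

namespace Cfsg.Agent.S3174

open Cfsg.Agent.Lib.Helper9

/-- Let T be a finite 2-group of order at least 2^14 in which the fourth term of the upper central series has order 16. Let W be the centralizer in T of the third term Z₃(T), and suppose the Frattini subgroup of W has order at most 8 and lies in every subgroup of W of index at most 16. Then T has order exactly 2^14; the derived subgroup of W and the Frattini subgroup of W both equal Z₃(T), which is elementary abelian of order 8; the centre of W has order 8; W is normal in T with quotient dihedral of order 8; and W modulo its derived subgroup is elementary abelian of order 2^8. -/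
theorem result {T : Type*} [Group T] [Finite T]
    (hT : IsPGroup 2 T) (ha : 2 ^ 14 ≤ Nat.card T) (hb : Nat.card ↥(Subgroup.upperCentralSeries T 4) = 16)
    (W : Subgroup T) (hW : W = Subgroup.centralizer ((Subgroup.upperCentralSeries T 3 : Subgroup T) : Set T))
    (hc : Nat.card ↥(frattini ↥W) ≤ 8) (hd : ∀ U : Subgroup ↥W, U.index ≤ 16 → frattini ↥W ≤ U) :
    Nat.card T = 2 ^ 14 ∧
      (commutator ↥W).map W.subtype = Subgroup.upperCentralSeries T 3 ∧
      (frattini ↥W).map W.subtype = Subgroup.upperCentralSeries T 3 ∧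
      Nat.card ↥(Subgroup.center ↥W) = 8 ∧
      Nat.card ↥(Subgroup.upperCentralSeries T 3) = 8 ∧ (∀ z ∈ Subgroup.upperCentralSeries T 3, z ^ 2 = 1) ∧
      (∃ (_ : W.Normal), Nonempty (T ⧸ W ≃* DihedralGroup 4)) ∧
      Nat.card (↥W ⧸ commutator ↥W) = 2 ^ 8 ∧ (∀ x : ↥W ⧸ commutator ↥W, x ^ 2 = 1) := by
  classical
  haveI : Fact (Nat.Prime 2) := ⟨Nat.prime_two⟩
  haveI hWn : W.Normal := by rw [hW]; exact Subgroup.normal_centralizer
  have hWp : IsPGroup 2 ↥W := hT.to_subgroup W
  have hinj : Function.Injective W.subtype := Subgroup.subtype_injective W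
  -- the internal hypotheses
  have hyp : RuHyp W ((frattini ↥W).map W.subtype) := by
    refine ⟨hT, ha, hb, hW, Subgroup.map_subtype_le _, inferInstance, ?_, ?_, ?_, ?_⟩
    · rw [Subgroup.card_map_of_injective hinj]; exact hc
    · intro x hx
      have h1 := Cfsg.Agent.Lib.Helper1.pgroup_pow_mem_frattini hWp (⟨x, hx⟩ : ↥W)
      have h2 := Subgroup.mem_map_of_mem W.subtype h1
      have h3 : W.subtype ((⟨x, hx⟩ : ↥W) ^ 2) = x * x := by
        rw [map_pow, pow_two]; rfl
      rwa [h3] at h2
    · intro x hx y hy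
      have h1 := Subgroup.commutator_mem_commutator (Subgroup.mem_top (⟨x, hx⟩ : ↥W))
        (Subgroup.mem_top (⟨y, hy⟩ : ↥W))
      rw [commutatorElement_def] at h1
      have h1' : (⟨x, hx⟩ : ↥W) * ⟨y, hy⟩ * (⟨x, hx⟩ : ↥W)⁻¹ * (⟨y, hy⟩ : ↥W)⁻¹ ∈
          commutator ↥W := h1
      have h2 := Subgroup.mem_map_of_mem W.subtype
        (Cfsg.Agent.Lib.Helper1.pgroup_commutator_le_frattini hWp h1')
      have h3 : W.subtype ((⟨x, hx⟩ : ↥W) * ⟨y, hy⟩ * (⟨x, hx⟩ : ↥W)⁻¹ * (⟨y, hy⟩ : ↥W)⁻¹) =
          x * y * x⁻¹ * y⁻¹ := rfl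
      rwa [h3] at h2
    · intro U hUW hcard
      have h1 := ru_card_mul_relIndex U W hUW
      have hpos : 0 < Nat.card U := Nat.card_pos
      have h2 : (U.subgroupOf W).index ≤ 16 := by
        show U.relIndex W ≤ 16
        have h3 : Nat.card U * U.relIndex W ≤ Nat.card U * 16 := by
          rw [h1, mul_comm]; exact hcard
        exact Nat.le_of_mul_le_mul_left h3 hpos
      have h4 := hd (U.subgroupOf W) h2
      calc (frattini ↥W).map W.subtype ≤ (U.subgroupOf W).map W.subtype := Subgroup.map_mono h4
        _ = U ⊓ W := Subgroup.subgroupOf_map_subtype U W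
        _ ≤ U := inf_le_left
  obtain ⟨hcT, hidx, hcW, hcF⟩ := hyp.orders
  obtain ⟨c1, c2, c3⟩ := hyp.cards
  -- the derived subgroup
  have hcomm : (commutator ↥W).map W.subtype = Subgroup.upperCentralSeries T 3 := by
    haveI : ((commutator ↥W).map W.subtype).Normal := inferInstance
    apply hyp.normal_eq
    · rw [← hyp.F_eq]
      exact Subgroup.map_mono (Cfsg.Agent.Lib.Helper1.pgroup_commutator_le_frattini hWp)
    · intro x hx y hy
      rw [Subgroup.map_subtype_commutator, ← commutatorElement_def]
      exact Subgroup.commutator_mem_commutator hx hy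
  have hcardcomm : Nat.card ↥(commutator ↥W) = 8 := by
    rw [← Subgroup.card_map_of_injective hinj, hcomm, c3]
  refine ⟨hcT, hcomm, hyp.F_eq, ?_, c3, ?_, ⟨hWn, hyp.quot_dihedral⟩, ?_, ?_⟩
  · -- the centre of W
    have hcen : (Subgroup.center ↥W).map W.subtype = Subgroup.upperCentralSeries T 3 := by
      apply le_antisymm
      · rintro _ ⟨x, hx, rfl⟩
        apply hyp.center_le x.2
        intro w hw
        have := Subgroup.mem_center_iff.mp hx ⟨w, hw⟩
        have h2 := congrArg W.subtype this
        simp only [map_mul, Subgroup.subtype_apply] at h2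
        exact h2.symm
      · intro z hz
        refine ⟨⟨z, hyp.Z3_le_W hz⟩, ?_, rfl⟩
        rw [SetLike.mem_coe, Subgroup.mem_center_iff]
        intro w
        apply Subtype.ext
        exact hyp.Z3_central hz w.2
    rw [← Subgroup.card_map_of_injective hinj, hcen, c3]
  · intro z hz
    rw [pow_two]; exact hyp.Z3_elem hz
  · have h1 := Subgroup.card_mul_index (commutator ↥W)
    rw [hcardcomm, hcW] at h1
    show (commutator ↥W).index = 2 ^ 8
    omega
  · intro x
    induction x using QuotientGroup.induction_on with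
    | H w =>
      rw [← QuotientGroup.mk_pow, QuotientGroup.eq_one_iff]
      have h1 : (w : T) * (w : T) ∈ (commutator ↥W).map W.subtype := by
        rw [hcomm]; exact hyp.sq_mem w.2
      obtain ⟨v, hv, hvw⟩ := h1
      have : v = w ^ 2 := by
        apply hinj
        rw [hvw, map_pow, pow_two]; rfl
      rw [← this]; exact hv

end Cfsg.Agent.S3174
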