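import Cfsg.Statements.S3175
import Cfsg.Agent.Lib.Helper9.Ru12

set_option autoImplicit false
open Cfsg

namespace Cfsg.Agent.S3175

open Cfsg.Agent.Lib.Helper9

/-- Let G be a finite group whose Sylow 2-subgroup T has order at least 2^14 and whose upper central series has fourth term of order 16; let W be the centralizer in T of the third term, and suppose the Frattini subgroup of W has order at most 8 and lies in every subgroup of W of index at most 16. Then the normalizer of T in G has a normal 2-complement, and W is weakly closed in T with respect to G. -/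
theorem result {G : Type*} [Group G] [Finite G]
    (T : Sylow 2 G) (ha : 2 ^ 14 ≤ Nat.card ↥(T : Subgroup G))
    (hb : Nat.card ↥(Subgroup.upperCentralSeries ↥(T : Subgroup G) 4) = 16)
    (W : Subgroup ↥(T : Subgroup G))
    (hW : W = Subgroup.centralizer ((Subgroup.upperCentralSeries ↥(T : Subgroup G) 3 : Subgroup ↥(T : Subgroup G)) : Set ↥(T : Subgroup G)))
    (hc : Nat.card ↥(frattini ↥W) ≤ 8)
    (hd : ∀ U : Subgroup ↥W, U.index ≤ 16 → frattini ↥W ≤ U) :
    Cfsg.HasNormalPComplement 2 ↥(Subgroup.normalizer ((T : Subgroup G) : Set G)) ∧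
      Cfsg.IsWeaklyClosed (W.map (T : Subgroup G).subtype) (T : Subgroup G) := by
  classical
  have hyp := ruHyp_of T.isPGroup' ha hb W hW hc hd
  obtain ⟨hcT, hidx, hcW, hcF⟩ := hyp.orders
  obtain ⟨c1, c2, c3⟩ := hyp.cards
  have hinj : Function.Injective (T : Subgroup G).subtype := Subgroup.subtype_injective _
  refine ⟨ru_normalizer_complement T (fun φ k hk hφ => hyp.aut_trivial φ k hk hφ), ?_⟩
  apply ru_weakly_closed (T : Subgroup G) (W.map (T : Subgroup G).subtype)
    ((Subgroup.upperCentralSeries ↥(T : Subgroup G) 3).map (T : Subgroup G).subtype)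
  · exact Subgroup.map_subtype_le _
  · exact Subgroup.map_mono hyp.Z3_le_W
  · exact hcT
  · rw [Subgroup.card_map_of_injective hinj, hcW]
  · rw [Subgroup.card_map_of_injective hinj, c3]
  · rintro _ ⟨w, hw, rfl⟩
    exact ⟨w * w, hyp.sq_mem hw, by rw [map_mul]⟩
  · rintro _ ⟨w, hw, rfl⟩ _ ⟨v, hv, rfl⟩
    exact ⟨w * v * w⁻¹ * v⁻¹, hyp.comm_mem hw hv, by simp only [map_mul, map_inv]⟩
  · intro x hx hxc
    refine ⟨⟨x, hx⟩, ?_, rfl⟩
    rw [SetLike.mem_coe, hW, Subgroup.mem_centralizer_iff]
    intro z hz
    apply Subtype.ext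
    have := hxc (z : G) ⟨z, hz, rfl⟩
    exact this.symm
  · rintro _ ⟨z, hz, rfl⟩ _ ⟨w, hw, rfl⟩
    rw [← map_mul, ← map_mul, hyp.Z3_central hz hw]
  · intro U hU hcard
    have hrange : U ≤ ((T : Subgroup G).subtype).range := by
      rw [Subgroup.range_subtype]
      exact hU.trans (Subgroup.map_subtype_le _)
    have hmap : (U.comap (T : Subgroup G).subtype).map (T : Subgroup G).subtype = U :=
      Subgroup.map_comap_eq_self hrange
    have hcardU : Nat.card ↥(U.comap (T : Subgroup G).subtype) = Nat.card U := by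
      rw [← Subgroup.card_map_of_injective hinj, hmap]
    have hU' : U.comap (T : Subgroup G).subtype ≤ W := by
      intro x hx
      obtain ⟨w, hw, hwx⟩ := hU (Subgroup.mem_comap.mp hx)
      rw [← hinj hwx]; exact hw
    have h3 := hyp.hd3 (U.comap (T : Subgroup G).subtype) hU' (by rw [hcardU, hcW]; exact hcard)
    rw [← hmap]
    exact Subgroup.map_mono h3

end Cfsg.Agent.S3175
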