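import Mathlib
import Cfsg.Statements.S3178
import Cfsg.Agent.Lib.Helper19.TransferTwo
import Cfsg.Agent.Lib.Helper9.SylowConj
-- import your own Cfsg.Agent.* helpers here

set_option autoImplicit false
open Cfsg

namespace Cfsg.Agent.S3178

/-- structure facts of the modular group inside `G` -/
theorem modular_facts {G : Type*} [Group G] [Finite G]
    (S : Subgroup G) (n : ℕ) (hn : 3 ≤ n) (hS : Nat.card ↥S = 2 ^ (n + 1))
    (a b : G) (ha : a ∈ S) (hb : b ∈ S)
    (hao : orderOf a = 2 ^ n) (hbo : orderOf b = 2) (hrel : b * a * b⁻¹ = a ^ (2 ^ (n - 1) + 1)) :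
    (Subgroup.zpowers a).relIndex S = 2 ∧ b ∉ Subgroup.zpowers a ∧
    (∀ s ∈ S, s * s ∈ Subgroup.zpowers a) ∧
    (∀ y ∈ Subgroup.zpowers a, y * y = 1 → y ≠ 1 → y = a ^ (2 ^ (n - 1))) ∧
    (∀ s ∈ S, s * a ^ (2 ^ (n - 1)) = a ^ (2 ^ (n - 1)) * s) ∧
    (b * (a * a) * b⁻¹ = a * a) := by
  have hAS : Subgroup.zpowers a ≤ S := by rw [Subgroup.zpowers_le]; exact ha
  have hAcard : Nat.card (Subgroup.zpowers a) = 2 ^ n := by rw [Nat.card_zpowers, hao]
  have hidx : (Subgroup.zpowers a).relIndex S = 2 := by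
    have h1 := Subgroup.card_mul_index ((Subgroup.zpowers a).subgroupOf S)
    have h0 : Nat.card ((Subgroup.zpowers a).subgroupOf S) = Nat.card (Subgroup.zpowers a) :=
      Nat.card_congr (Subgroup.subgroupOfEquivOfLe hAS).toEquiv
    rw [h0, hAcard, hS, pow_succ] at h1
    have : 0 < 2 ^ n := by positivity
    show ((Subgroup.zpowers a).subgroupOf S).index = 2
    exact Nat.eq_of_mul_eq_mul_left this h1
  have hpow_a : a ^ (2 ^ n) = 1 := by rw [← hao, pow_orderOf_eq_one]
  have hn1 : 2 ^ n = 2 ^ (n - 1) * 2 := by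
    rw [← pow_succ]; congr 1; omega
  have hz1 : a ^ (2 ^ (n - 1)) ≠ 1 := by
    intro h
    have := orderOf_dvd_of_pow_eq_one h
    rw [hao] at this
    have h2 := Nat.le_of_dvd (by positivity) this
    have : 2 ^ (n - 1) < 2 ^ n := Nat.pow_lt_pow_right (by norm_num) (by omega)
    omega
  have hbA : b ∉ Subgroup.zpowers a := by
    intro hmem
    obtain ⟨k, hk⟩ := Subgroup.mem_zpowers_iff.mp hmem
    have hcomm : b * a = a * b := by
      rw [← hk]
      exact ((Commute.refl a).zpow_left k).eq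
    have : b * a * b⁻¹ = a := by rw [hcomm]; group
    rw [this] at hrel
    apply hz1
    have h3 : a ^ (2 ^ (n - 1) + 1) = a ^ (2 ^ (n - 1)) * a := by rw [pow_succ]
    rw [h3] at hrel
    have : a ^ (2 ^ (n - 1)) * a = 1 * a := by rw [one_mul]; exact hrel.symm
    exact mul_right_cancel this
  have hsq : ∀ s ∈ S, s * s ∈ Subgroup.zpowers a := by
    intro s hs
    have hidx' : ((Subgroup.zpowers a).subgroupOf S).index = 2 := hidx
    have := Subgroup.mul_mem_iff_of_index_two hidx' (a := (⟨s, hs⟩ : S)) (b := ⟨s, hs⟩)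
    have h2 : (⟨s, hs⟩ : S) * ⟨s, hs⟩ ∈ (Subgroup.zpowers a).subgroupOf S := this.mpr Iff.rfl
    rw [Subgroup.mem_subgroupOf] at h2
    exact h2
  have huniq : ∀ y ∈ Subgroup.zpowers a, y * y = 1 → y ≠ 1 → y = a ^ (2 ^ (n - 1)) := by
    intro y hy hy2 hy1
    obtain ⟨k, rfl⟩ := Subgroup.mem_zpowers_iff.mp hy
    -- reduce k mod 2^n to a natural number
    have hk' : a ^ k = a ^ (k % (2 ^ n : ℕ) : ℤ) := by
      have := zpow_mod_orderOf a k
      rw [hao] at this
      exact this.symm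
    set m : ℕ := (k % (2 ^ n : ℕ) : ℤ).toNat with hm
    have hmnn : (0 : ℤ) ≤ k % (2 ^ n : ℕ) := Int.emod_nonneg _ (by positivity)
    have hmk : (k % (2 ^ n : ℕ) : ℤ) = (m : ℤ) := by rw [hm, Int.toNat_of_nonneg hmnn]
    have hmlt : m < 2 ^ n := by
      have : (k % (2 ^ n : ℕ) : ℤ) < (2 ^ n : ℕ) := Int.emod_lt_of_pos _ (by positivity)
      rw [hmk] at this
      exact_mod_cast this
    have hkm : a ^ k = a ^ m := by rw [hk', hmk, zpow_natCast]
    rw [hkm] at hy2 hy1 ⊢
    have h2m : 2 ^ n ∣ m + m := by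
      rw [← hao]
      apply orderOf_dvd_of_pow_eq_one
      rw [pow_add]; exact hy2
    have hm0 : m ≠ 0 := by
      intro h; apply hy1; rw [h, pow_zero]
    -- m + m = 2^n exactly
    have : m + m = 2 ^ n := by
      obtain ⟨c, hc⟩ := h2m
      have hc1 : c = 1 := by
        rcases Nat.lt_or_ge c 2 with h | h
        · interval_cases c
          · omega
          · rfl
        · exfalso
          have : 2 ^ n * 2 ≤ 2 ^ n * c := Nat.mul_le_mul_left _ h
          omega
      rw [hc1, mul_one] at hc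
      exact hc
    have : m = 2 ^ (n - 1) := by omega
    rw [this]
  have hbz : b * a ^ (2 ^ (n - 1)) * b⁻¹ = a ^ (2 ^ (n - 1)) := by
    have h1 : b * a ^ (2 ^ (n - 1)) * b⁻¹ = (b * a * b⁻¹) ^ (2 ^ (n - 1)) := (conj_pow (a := b) (b := a) (i := 2 ^ (n - 1))).symm
    rw [h1, hrel, ← pow_mul]
    have : (2 ^ (n - 1) + 1) * 2 ^ (n - 1) = 2 ^ n * 2 ^ (n - 2) + 2 ^ (n - 1) := by
      have h2 : 2 ^ (n - 1) * 2 ^ (n - 1) = 2 ^ n * 2 ^ (n - 2) := by
        rw [← pow_add, ← pow_add]; congr 1; omega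
      rw [add_mul, h2, one_mul]
    rw [this, pow_add, pow_mul, hpow_a, one_pow, one_mul]
  have hzc : ∀ s ∈ S, s * a ^ (2 ^ (n - 1)) = a ^ (2 ^ (n - 1)) * s := by
    intro s hs
    -- s ∈ A or s * b ∈ A hmm: use index two
    have hidx' : ((Subgroup.zpowers a).subgroupOf S).index = 2 := hidx
    have hbz' : b * a ^ (2 ^ (n - 1)) = a ^ (2 ^ (n - 1)) * b := by
      calc b * a ^ (2 ^ (n - 1)) = (b * a ^ (2 ^ (n - 1)) * b⁻¹) * b := by group
        _ = a ^ (2 ^ (n - 1)) * b := by rw [hbz]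
    have hAz : ∀ y ∈ Subgroup.zpowers a, y * a ^ (2 ^ (n - 1)) = a ^ (2 ^ (n - 1)) * y := by
      intro y hy
      obtain ⟨k, rfl⟩ := Subgroup.mem_zpowers_iff.mp hy
      exact (((Commute.refl a).pow_right _).zpow_left k).eq
    by_cases hsA : s ∈ Subgroup.zpowers a
    · exact hAz s hsA
    · have := Subgroup.mul_mem_iff_of_index_two hidx' (a := (⟨s, hs⟩ : S)) (b := ⟨b, hb⟩)
      have h2 : (⟨s, hs⟩ : S) * ⟨b, hb⟩ ∈ (Subgroup.zpowers a).subgroupOf S := by
        rw [this]
        simp only [Subgroup.mem_subgroupOf]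
        exact ⟨fun h => absurd h hsA, fun h => absurd h hbA⟩
      rw [Subgroup.mem_subgroupOf] at h2
      have h3 : s * b ∈ Subgroup.zpowers a := h2
      have h4 := hAz _ h3
      -- s = (s b) b⁻¹
      have hb' : b⁻¹ * a ^ (2 ^ (n - 1)) = a ^ (2 ^ (n - 1)) * b⁻¹ := by
        calc b⁻¹ * a ^ (2 ^ (n - 1)) = b⁻¹ * (a ^ (2 ^ (n - 1)) * b) * b⁻¹ := by group
          _ = b⁻¹ * (b * a ^ (2 ^ (n - 1))) * b⁻¹ := by rw [hbz']
          _ = a ^ (2 ^ (n - 1)) * b⁻¹ := by group
      calc s * a ^ (2 ^ (n - 1)) = (s * b) * (b⁻¹ * a ^ (2 ^ (n - 1))) := by group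
        _ = (s * b) * (a ^ (2 ^ (n - 1)) * b⁻¹) := by rw [hb']
        _ = ((s * b) * a ^ (2 ^ (n - 1))) * b⁻¹ := by group
        _ = (a ^ (2 ^ (n - 1)) * (s * b)) * b⁻¹ := by rw [h4]
        _ = a ^ (2 ^ (n - 1)) * s := by group
  refine ⟨hidx, hbA, hsq, huniq, hzc, ?_⟩
  have h1 : b * (a * a) * b⁻¹ = (b * a * b⁻¹) * (b * a * b⁻¹) := by group
  rw [h1, hrel, ← pow_add]
  have : 2 ^ (n - 1) + 1 + (2 ^ (n - 1) + 1) = 2 ^ n + 2 := by omega
  rw [this, pow_add, hpow_a, one_mul, pow_two]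


/-- `b` is not conjugate to an element of `⟨a⟩` -/
theorem not_conj_mem {G : Type*} [Group G] [Finite G]
    (S : Sylow 2 G) (n : ℕ) (hn : 3 ≤ n) (hS : Nat.card ↥(S : Subgroup G) = 2 ^ (n + 1))
    (a b : G) (ha : a ∈ (S : Subgroup G)) (hb : b ∈ (S : Subgroup G))
    (hao : orderOf a = 2 ^ n) (hbo : orderOf b = 2) (hrel : b * a * b⁻¹ = a ^ (2 ^ (n - 1) + 1)) :
    ∀ g : G, g * b * g⁻¹ ∉ Subgroup.zpowers a := by
  have : Fact (Nat.Prime 2) := ⟨Nat.prime_two⟩
  obtain ⟨hidx, hbA, hsq, huniq, hzc, hcomm2⟩ := modular_facts (S : Subgroup G) n hn hS a b ha hb hao hbo hrel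
  set z := a ^ (2 ^ (n - 1)) with hz
  have hb2 : b * b = 1 := by rw [← pow_two, ← hbo, pow_orderOf_eq_one]
  have hb1 : b ≠ 1 := by
    intro h; rw [h, orderOf_one] at hbo; omega
  intro g hg
  have hgz : g * b * g⁻¹ = z := by
    apply huniq _ hg
    · calc g * b * g⁻¹ * (g * b * g⁻¹) = g * (b * b) * g⁻¹ := by group
        _ = 1 := by rw [hb2]; group
    · intro h
      apply hb1
      have : b = g⁻¹ * (g * b * g⁻¹) * g := by group
      rw [this, h]; group
  -- y = g a² g⁻¹ centralizes z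
  set y := g * (a * a) * g⁻¹ with hy
  have hyz : y ∈ Subgroup.centralizer ({z} : Set G) := by
    rw [Subgroup.mem_centralizer_iff]
    intro h hh
    rw [Set.mem_singleton_iff] at hh
    subst hh
    rw [← hgz, hy]
    have e : b * (a * a) = (a * a) * b := by
      calc b * (a * a) = (b * (a * a) * b⁻¹) * b := by group
        _ = (a * a) * b := by rw [hcomm2]
    calc g * b * g⁻¹ * (g * (a * a) * g⁻¹) = g * (b * (a * a)) * g⁻¹ := by group
      _ = g * ((a * a) * b) * g⁻¹ := by rw [e]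
      _ = g * (a * a) * g⁻¹ * (g * b * g⁻¹) := by group
  have hSC : (S : Subgroup G) ≤ Subgroup.centralizer ({z} : Set G) := by
    intro s hs
    rw [Subgroup.mem_centralizer_iff]
    intro h hh
    rw [Set.mem_singleton_iff] at hh
    subst hh
    exact (hzc s hs).symm
  have hyord : ∃ k : ℕ, orderOf y = 2 ^ k := by
    have h1 : orderOf y = orderOf (a * a) := by
      rw [hy]; exact Cfsg.Agent.Lib.Helper9.orderOf_conj_eq g (a * a)
    have h2 : a * a ∈ (S : Subgroup G) := Subgroup.mul_mem _ ha ha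
    obtain ⟨k, hk⟩ := (IsPGroup.iff_orderOf.mp S.2) ⟨a * a, h2⟩
    refine ⟨k, ?_⟩
    rw [h1, ← hk, Subgroup.orderOf_mk]
  obtain ⟨m, hmC, hmS⟩ := Cfsg.Agent.Lib.Helper9.exists_conj_mem_sylow_of_mem
    (Subgroup.centralizer ({z} : Set G)) S hSC y hyord hyz
  have hmz : m * z * m⁻¹ = z := by
    have := Subgroup.mem_centralizer_iff.mp hmC z rfl
    rw [← this]; group
  -- y' = m y m⁻¹ ∈ S, and (m g) z (m g)⁻¹ = y'^(2^(n-2))
  set y' := m * y * m⁻¹ with hy'
  have hzpow : z = (a * a) ^ (2 ^ (n - 2)) := by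
    rw [hz, ← pow_two, ← pow_mul]
    congr 1
    have : n - 1 = (n - 2) + 1 := by omega
    rw [this, pow_succ, mul_comm]
  have hconjz : (m * g) * z * (m * g)⁻¹ = y' ^ (2 ^ (n - 2)) := by
    rw [hy', hy, hzpow]
    have h1 : m * (g * (a * a) * g⁻¹) * m⁻¹ = (m * g) * (a * a) * (m * g)⁻¹ := by group
    rw [h1, conj_pow]
  have hsquare : y' ^ (2 ^ (n - 2)) = (y' ^ (2 ^ (n - 3))) * (y' ^ (2 ^ (n - 3))) := by
    rw [← pow_add]
    congr 1
    have : n - 2 = (n - 3) + 1 := by omega
    rw [this, pow_succ]; ring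
  have hz'A : (m * g) * z * (m * g)⁻¹ ∈ Subgroup.zpowers a := by
    rw [hconjz, hsquare]
    exact hsq _ (Subgroup.pow_mem _ hmS _)
  have hz2 : z * z = 1 := by
    rw [hz, ← pow_add]
    have : 2 ^ (n - 1) + 2 ^ (n - 1) = 2 ^ n := by
      have : n = (n - 1) + 1 := by omega
      conv_rhs => rw [this, pow_succ]
      ring
    rw [this, ← hao, pow_orderOf_eq_one]
  have hz1 : z ≠ 1 := by
    intro h
    apply hb1
    have : b = g⁻¹ * (g * b * g⁻¹) * g := by group
    rw [this, hgz, h]; group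
  have hz'z : (m * g) * z * (m * g)⁻¹ = z := by
    apply huniq _ hz'A
    · calc (m * g) * z * (m * g)⁻¹ * ((m * g) * z * (m * g)⁻¹) = (m * g) * (z * z) * (m * g)⁻¹ := by group
        _ = 1 := by rw [hz2]; group
    · intro h
      apply hz1
      have : z = (m * g)⁻¹ * ((m * g) * z * (m * g)⁻¹) * (m * g) := by group
      rw [this, h]; group
  have hb'z : (m * g) * b * (m * g)⁻¹ = z := by
    have : (m * g) * b * (m * g)⁻¹ = m * (g * b * g⁻¹) * m⁻¹ := by group
    rw [this, hgz, hmz]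
  have hbz : b = z := by
    have h := hb'z.trans hz'z.symm
    have h2 := mul_right_cancel h
    exact mul_left_cancel h2
  apply hbA
  rw [hbz]
  exact Subgroup.pow_mem _ (Subgroup.mem_zpowers a) _


/-- a normal subgroup of index two with cyclic Sylow 2-subgroup yields a normal 2-complement -/
theorem complement_of_index_two {G : Type*} [Group G] [Finite G] (S : Sylow 2 G) (n : ℕ) (hn : 1 ≤ n)
    (hS : Nat.card ↥(S : Subgroup G) = 2 ^ (n + 1))
    (K : Subgroup G) (hKn : K.Normal) (hKi : K.index = 2)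
    (hTcard : Nat.card ↥((S : Subgroup G) ⊓ K) = 2 ^ n)
    (hTcyc : IsCyclic ↥((S : Subgroup G) ⊓ K)) :
    Cfsg.HasNormalPComplement 2 G := by
  classical
  have : Fact (Nat.Prime 2) := ⟨Nat.prime_two⟩
  set T : Subgroup G := (S : Subgroup G) ⊓ K with hT
  have hTK : T ≤ K := inf_le_right
  have hKG : Nat.card K * 2 = Nat.card G := by rw [← hKi]; exact Subgroup.card_mul_index K
  have hGpos : 0 < Nat.card G := Nat.card_pos
  have hKpos : 0 < Nat.card K := Nat.card_pos
  have hfG : (Nat.card G).factorization 2 = n + 1 := by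
    have h1 := Sylow.card_eq_multiplicity S
    rw [hS] at h1
    exact (Nat.pow_right_injective (le_refl 2) h1).symm
  have hfK : (Nat.card K).factorization 2 = n := by
    have h1 : (Nat.card G).factorization 2 = (Nat.card K).factorization 2 + (2 : ℕ).factorization 2 := by
      rw [← hKG, Nat.factorization_mul hKpos.ne' (by norm_num)]
      rfl
    rw [hfG, Nat.Prime.factorization_self Nat.prime_two] at h1
    omega
  have hcardTK : Nat.card (T.subgroupOf K) = 2 ^ (Nat.card K).factorization 2 := by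
    rw [hfK, ← hTcard]
    exact Nat.card_congr (Subgroup.subgroupOfEquivOfLe hTK).toEquiv
  set P : Sylow 2 K := Sylow.ofCard (T.subgroupOf K) hcardTK with hP
  have hPcoe : (P : Subgroup K) = T.subgroupOf K := Sylow.coe_ofCard _ _
  have hPcyc : IsCyclic ↥(P : Subgroup K) := by
    rw [hPcoe]
    exact isCyclic_of_surjective (Subgroup.subgroupOfEquivOfLe hTK).symm.toMonoidHom
      (Subgroup.subgroupOfEquivOfLe hTK).symm.surjective
  have hPcard : Nat.card (P : Subgroup K) = 2 ^ n := by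
    rw [hPcoe, hcardTK, hfK]
  have hmin : (Nat.card K).minFac = 2 := by
    rw [Nat.minFac_eq_two_iff]
    have h1 : 2 ^ n ∣ Nat.card K := by
      rw [← hPcard]; exact Subgroup.card_subgroup_dvd_card _
    exact (dvd_pow_self 2 (by omega)).trans h1
  have hc := IsCyclic.isComplement' hmin hPcyc
  set N0 : Subgroup K := (MonoidHom.transferSylow P (hPcyc.normalizer_le_centralizer hmin)).ker with hN0
  have hN0card : Nat.card N0 * 2 ^ n = Nat.card K := by
    rw [← hPcard]; exact hc.card_mul_card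
  have hN0odd : ¬ 2 ∣ Nat.card N0 := MonoidHom.not_dvd_card_ker_transferSylow P _
  set N : Subgroup G := N0.map K.subtype with hN
  have hNcard : Nat.card N = Nat.card N0 :=
    Subgroup.card_map_of_injective K.subtype_injective
  refine ⟨S, N, ?_, ?_⟩
  · -- normality
    constructor
    intro x hx g
    obtain ⟨k, hk, rfl⟩ := hx
    have hk'K : g * (k : G) * g⁻¹ ∈ K := hKn.conj_mem _ k.2 g
    refine ⟨⟨g * (k : G) * g⁻¹, hk'K⟩, ?_, rfl⟩
    show (⟨g * (k : G) * g⁻¹, hk'K⟩ : K) ∈ N0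
    rw [hN0, MonoidHom.mem_ker]
    set f := MonoidHom.transferSylow P (hPcyc.normalizer_le_centralizer hmin) with hf
    have h1 : orderOf (f ⟨g * (k : G) * g⁻¹, hk'K⟩) ∣ 2 ^ n := by
      rw [← hPcard]; exact orderOf_dvd_natCard _
    have h2 : orderOf (f ⟨g * (k : G) * g⁻¹, hk'K⟩) ∣ orderOf (⟨g * (k : G) * g⁻¹, hk'K⟩ : K) :=
      orderOf_map_dvd f _
    have h3 : orderOf (⟨g * (k : G) * g⁻¹, hk'K⟩ : K) = orderOf k := by
      rw [Subgroup.orderOf_mk, Cfsg.Agent.Lib.Helper9.orderOf_conj_eq, Subgroup.orderOf_coe]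
    have h4 : orderOf k ∣ Nat.card N0 := by
      have : orderOf (⟨k, hk⟩ : N0) ∣ Nat.card N0 := orderOf_dvd_natCard _
      rwa [Subgroup.orderOf_mk] at this
    have h5 : orderOf (f ⟨g * (k : G) * g⁻¹, hk'K⟩) ∣ Nat.card N0 := h2.trans (h3 ▸ h4)
    have hcop : Nat.Coprime (2 ^ n) (Nat.card N0) := by
      apply Nat.Coprime.pow_left
      exact (Nat.Prime.coprime_iff_not_dvd Nat.prime_two).mpr hN0odd
    have := Nat.eq_one_of_dvd_coprimes hcop h1 h5
    exact orderOf_eq_one_iff.mp this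
  · apply Subgroup.isComplement'_of_coprime
    · rw [hNcard, hS, ← hKG, ← hN0card, pow_succ]; ring
    · rw [hNcard, hS]
      apply Nat.Coprime.pow_right
      exact ((Nat.Prime.coprime_iff_not_dvd Nat.prime_two).mpr hN0odd).symm


/-- Groups with a modular Sylow 2-subgroup have a normal 2-complement. Let S, of order 2^(n+1) with n ≥ 3, be a Sylow 2-subgroup of a finite group G, and suppose S contains an element a of order 2^n and an involution b with b a b⁻¹ = a^(2^(n-1) + 1); so S is the non-abelian 2-group with a cyclic subgroup of index 2 that is neither dihedral, semidihedral nor generalized quaternion. Then G has a normal 2-complement. -/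
theorem result {G : Type*} [Group G] [Finite G]
    (S : Sylow 2 G) (n : ℕ) (hn : 3 ≤ n) (hS : Nat.card ↥(S : Subgroup G) = 2 ^ (n + 1))
    (a b : G) (ha : a ∈ (S : Subgroup G)) (hb : b ∈ (S : Subgroup G))
    (hao : orderOf a = 2 ^ n) (hbo : orderOf b = 2) (hrel : b * a * b⁻¹ = a ^ (2 ^ (n - 1) + 1)) :
    Cfsg.HasNormalPComplement 2 G := by
  classical
  have : Fact (Nat.Prime 2) := ⟨Nat.prime_two⟩
  obtain ⟨hidx, hbA, hsq, huniq, hzc, hcomm2⟩ := modular_facts (S : Subgroup G) n hn hS a b ha hb hao hbo hrel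
  have hnc := not_conj_mem S n hn hS a b ha hb hao hbo hrel
  have hAS : Subgroup.zpowers a ≤ (S : Subgroup G) := by rw [Subgroup.zpowers_le]; exact ha
  -- Part C: Thompson transfer
  obtain ⟨K, hKn, hKi, hbK⟩ := Cfsg.Agent.Lib.Helper19.exists_index_two_of_not_conj_mem S (Subgroup.zpowers a) hAS hidx 1
    (le_refl 1) (by
      intro y hy hyA
      simp only [Nat.sub_self, pow_zero]
      have h1 : y ≠ 1 := fun h => hyA (by rw [h]; exact Subgroup.one_mem _)
      have h2 : orderOf y ≠ 1 := fun h => h1 (orderOf_eq_one_iff.mp h)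
      have h3 : 0 < orderOf y := orderOf_pos y
      omega) b hb (by rw [hbo, pow_one]) hnc
  -- Part D: T = S ⊓ K is cyclic of order 2^n
  have hrelK : K.relIndex (S : Subgroup G) = 2 := by
    have h1 : K.relIndex (S : Subgroup G) ∣ 2 := by
      have := Subgroup.relIndex_dvd_index_of_normal K (S : Subgroup G)
      rwa [hKi] at this
    rcases (Nat.dvd_prime Nat.prime_two).mp h1 with h | h
    · exfalso
      exact hbK (Subgroup.relIndex_eq_one.mp h hb)
    · exact h
  have hKS2 : ∀ x ∈ (S : Subgroup G), ∀ y ∈ (S : Subgroup G), (x * y ∈ K ↔ (x ∈ K ↔ y ∈ K)) := by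
    intro x hx y hy
    have hidx' : (K.subgroupOf (S : Subgroup G)).index = 2 := hrelK
    have := Subgroup.mul_mem_iff_of_index_two hidx' (a := (⟨x, hx⟩ : (S : Subgroup G))) (b := ⟨y, hy⟩)
    simpa [Subgroup.mem_subgroupOf] using this
  set T : Subgroup G := (S : Subgroup G) ⊓ K with hT
  have hTcard : Nat.card T = 2 ^ n := by
    have h1 := Subgroup.card_mul_index (K.subgroupOf (S : Subgroup G))
    have h0 : Nat.card (K.subgroupOf (S : Subgroup G)) = Nat.card T := by
      have e1 : K.subgroupOf (S : Subgroup G) = T.subgroupOf (S : Subgroup G) := by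
        rw [hT, Subgroup.inf_subgroupOf_left]
      rw [e1]
      exact Nat.card_congr (Subgroup.subgroupOfEquivOfLe (inf_le_left (a := (S : Subgroup G)) (b := K))).toEquiv
    have hidx' : (K.subgroupOf (S : Subgroup G)).index = 2 := hrelK
    rw [h0, hidx', hS, pow_succ] at h1
    exact Nat.eq_of_mul_eq_mul_right (by norm_num) h1
  -- order of a * b
  have hb2 : b * b = 1 := by rw [← pow_two, ← hbo, pow_orderOf_eq_one]
  have hbinv : b⁻¹ = b := inv_eq_of_mul_eq_one_left hb2
  have hab_ord : orderOf (a * b) = 2 ^ n := by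
    have hab2 : (a * b) ^ 2 = (a ^ 2) ^ (2 ^ (n - 2) + 1) := by
      have h1 : (a * b) ^ 2 = a * (b * a * b⁻¹) * (b * b) := by
        rw [pow_two]; group
      rw [h1, hrel, hb2, mul_one, ← pow_succ', ← pow_mul]
      congr 1
      have : n - 1 = (n - 2) + 1 := by omega
      rw [this, pow_succ]; ring
    have ha2 : orderOf (a ^ 2) = 2 ^ (n - 1) := by
      rw [orderOf_pow' a (by norm_num), hao]
      have : Nat.gcd (2 ^ n) 2 = 2 := by
        apply Nat.gcd_eq_right
        exact dvd_pow_self 2 (by omega)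
      rw [this]
      have : n = (n - 1) + 1 := by omega
      conv_lhs => rw [this, pow_succ]
      simp
    have hodd : Nat.Coprime (orderOf (a ^ 2)) (2 ^ (n - 2) + 1) := by
      rw [ha2]
      apply Nat.Coprime.pow_left
      rw [Nat.coprime_two_left]
      have : 2 ^ (n - 2) = 2 * 2 ^ (n - 3) := by
        have : n - 2 = (n - 3) + 1 := by omega
        rw [this, pow_succ]; ring
      rw [this]
      exact ⟨2 ^ (n - 3), by ring⟩
    have hab2ord : orderOf ((a * b) ^ 2) = 2 ^ (n - 1) := by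
      rw [hab2, hodd.orderOf_pow, ha2]
    have habS : a * b ∈ (S : Subgroup G) := Subgroup.mul_mem _ ha hb
    obtain ⟨j, hj⟩ := (IsPGroup.iff_orderOf.mp S.2) ⟨a * b, habS⟩
    rw [Subgroup.orderOf_mk] at hj
    rw [orderOf_pow' (a * b) (by norm_num), hj] at hab2ord
    rcases Nat.eq_zero_or_pos j with h0 | h0
    · exfalso
      rw [h0] at hab2ord
      simp at hab2ord
      have : 1 < 2 ^ (n - 1) := Nat.one_lt_two_pow (by omega)
      omega
    · have hg : Nat.gcd (2 ^ j) 2 = 2 := by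
        apply Nat.gcd_eq_right
        exact dvd_pow_self 2 (by omega)
      rw [hg] at hab2ord
      have hj' : j = (j - 1) + 1 := by omega
      rw [hj', pow_succ, Nat.mul_div_cancel _ (by norm_num)] at hab2ord
      have := Nat.pow_right_injective (le_refl 2) hab2ord
      rw [hj]
      congr 1
      omega
  have hTcyc : ∃ t : G, T = Subgroup.zpowers t := by
    by_cases haK : a ∈ K
    · refine ⟨a, ?_⟩
      symm
      apply Subgroup.eq_of_le_of_card_ge
      · rw [Subgroup.zpowers_le]; exact ⟨ha, haK⟩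
      · rw [hTcard, Nat.card_zpowers, hao]
    · refine ⟨a * b, ?_⟩
      symm
      apply Subgroup.eq_of_le_of_card_ge
      · rw [Subgroup.zpowers_le]
        have hmemK : a * b ∈ K := by
          rw [hKS2 a ha b hb]
          exact ⟨fun h => absurd h haK, fun h => absurd h hbK⟩
        exact ⟨Subgroup.mul_mem _ ha hb, hmemK⟩
      · rw [hTcard, Nat.card_zpowers, hab_ord]
  obtain ⟨t, ht⟩ := hTcyc
  have hcyc : IsCyclic ↥T := by
    rw [ht]; infer_instance
  exact complement_of_index_two S n (by omega) hS K hKn hKi hTcard hcyc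

end Cfsg.Agent.S3178
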