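import Mathlib
import Cfsg.Statements.S3180
import Cfsg.Agent.Lib.Helper9.WeaklyClosed
-- import your own Cfsg.Agent.* helpers here

set_option autoImplicit false
open Cfsg

namespace Cfsg.Agent.S3180

/-- Let P be a Sylow p-subgroup of a finite group J and P₁ a subgroup of P that is weakly closed in P with respect to J. If J acts on a set and two points, each fixed by every element of P₁, lie in one J-orbit, then they lie in one orbit of the normalizer of P₁ in J. -/
theorem result {J : Type*} [Group J] [Finite J]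
    {p : ℕ} [Fact p.Prime] (P : Sylow p J) (P₁ : Subgroup J) (hW : Cfsg.IsWeaklyClosed P₁ (P : Subgroup J))
    {Ω : Type*} [MulAction J Ω] (x y : Ω) (hx : ∀ g ∈ P₁, g • x = x) (hy : ∀ g ∈ P₁, g • y = y)
    (hc : ∃ g : J, g • x = y) :
    ∃ g ∈ Subgroup.normalizer (P₁ : Set J), g • x = y := by
  obtain ⟨g, hg⟩ := hc
  have hP₁ : IsPGroup p P₁ := P.2.to_le hW.1
  have hQ₂ : IsPGroup p (P₁.map (MulAut.conj g).toMonoidHom) := hP₁.map _
  have h₁ : P₁ ≤ MulAction.stabilizer J y := fun w hw => MulAction.mem_stabilizer_iff.mpr (hy w hw)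
  have h₂ : P₁.map (MulAut.conj g).toMonoidHom ≤ MulAction.stabilizer J y := by
    rintro _ ⟨w, hw, rfl⟩
    rw [MulAction.mem_stabilizer_iff]
    show (g * w * g⁻¹) • y = y
    rw [← hg, mul_smul, mul_smul, inv_smul_smul, hx w hw]
  obtain ⟨c, hcH, R, hR, -, hP₁R, hcR⟩ :=
    Cfsg.Agent.Lib.Helper9.exists_conj_into_common_pgroup (MulAction.stabilizer J y) P₁
      (P₁.map (MulAut.conj g).toMonoidHom) hP₁ hQ₂ h₁ h₂
  have hconj : P₁.map (MulAut.conj (c * g)).toMonoidHom = P₁ := by
    apply Cfsg.Agent.Lib.Helper9.weaklyClosed_conj_eq hW R hR hP₁R (c * g)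
    intro w hw
    have := hcR (g * w * g⁻¹) ⟨w, hw, rfl⟩
    have e : c * g * w * (c * g)⁻¹ = c * (g * w * g⁻¹) * c⁻¹ := by group
    rw [e]; exact this
  refine ⟨c * g, ?_, ?_⟩
  · rw [Subgroup.mem_normalizer_iff]
    intro h
    constructor
    · intro hh
      rw [← hconj]
      exact ⟨h, hh, rfl⟩
    · intro hh
      rw [← hconj] at hh
      obtain ⟨w, hw, hwe⟩ := hh
      have : w = h := by
        have : (c * g) * w * (c * g)⁻¹ = (c * g) * h * (c * g)⁻¹ := hwe
        exact mul_left_cancel (mul_right_cancel this)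
      rw [← this]; exact hw
  · rw [mul_smul, hg]
    exact MulAction.mem_stabilizer_iff.mp hcH

end Cfsg.Agent.S3180
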