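import Mathlib
import Cfsg.Statements.S3183
import Cfsg.Agent.Lib.Lead.Coprime
import Cfsg.Agent.Lib.Helper9.SylowConj
-- import your own Cfsg.Agent.* helpers here

set_option autoImplicit false
open Cfsg

namespace Cfsg.Agent.S3183

open scoped Pointwise

theorem mem_sylow_smul {G : Type*} [Group G] {p : ℕ} (g : G) (U : Sylow p G) (y : G) :
    y ∈ ((g • U : Sylow p G) : Subgroup G) ↔ g⁻¹ * y * g ∈ (U : Subgroup G) := by
  rw [Sylow.smul_def, Sylow.pointwise_smul_def, Subgroup.mem_pointwise_smul_iff_inv_smul_mem]
  simp [MulAut.smul_def]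

theorem mem_center_map_iff {G : Type*} [Group G] (S : Subgroup G) (x : G) :
    x ∈ (Subgroup.center ↥S).map S.subtype ↔ x ∈ S ∧ ∀ s ∈ S, s * x = x * s := by
  constructor
  · rintro ⟨c, hc, rfl⟩
    refine ⟨c.2, fun s hs => ?_⟩
    have := Subgroup.mem_center_iff.mp hc ⟨s, hs⟩
    exact congrArg Subtype.val this
  · rintro ⟨hx, h⟩
    refine ⟨⟨x, hx⟩, ?_, rfl⟩
    rw [SetLike.mem_coe, Subgroup.mem_center_iff]
    intro s
    apply Subtype.ext
    exact h s.1 s.2

/-- key: intersections lie in the centre of the first Sylow -/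
theorem key {G : Type*} [Group G] [Finite G]
    (hCI : ∀ S T : Sylow 2 G, S ≠ T → ∃ U : Sylow 2 G,
      (S : Subgroup G) ⊓ (T : Subgroup G) ≤ (Subgroup.center ↥(U : Subgroup G)).map (U : Subgroup G).subtype) :
    ∀ n : ℕ, ∀ S T : Sylow 2 G, S ≠ T →
      Nat.card G - Nat.card ↥((S : Subgroup G) ⊓ (T : Subgroup G)) = n →
      (S : Subgroup G) ⊓ (T : Subgroup G) ≤ (Subgroup.center ↥(S : Subgroup G)).map (S : Subgroup G).subtype := by
  intro n
  induction n using Nat.strong_induction_on with
  | _ n ih =>
    intro S T hST hn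
    set D : Subgroup G := (S : Subgroup G) ⊓ (T : Subgroup G) with hD
    obtain ⟨U, hU⟩ := hCI S T hST
    -- D < S
    have hDS : D < (S : Subgroup G) := by
      refine lt_of_le_of_ne inf_le_left ?_
      intro h
      apply hST
      have hle : (S : Subgroup G) ≤ T := by rw [← h]; exact inf_le_right
      have hcard : Nat.card (S : Subgroup G) = Nat.card (T : Subgroup G) := by
        rw [Sylow.card_eq_multiplicity, Sylow.card_eq_multiplicity]
      have := Subgroup.eq_of_le_of_card_ge hle hcard.ge
      exact Sylow.ext this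
    have hSnil : Group.IsNilpotent (S : Subgroup G) := S.2.isNilpotent
    obtain ⟨x, hxS, hxN, hxD⟩ := Cfsg.Agent.Lib.Lead.exists_mem_normalizer_not_mem D S hDS hSnil
    -- U ≤ N_G(D)
    have hUcent : ∀ d ∈ D, ∀ u ∈ (U : Subgroup G), u * d = d * u := fun d hd u hu =>
      ((mem_center_map_iff _ d).mp (hU hd)).2 u hu
    have hDU : D ≤ (U : Subgroup G) := fun d hd => ((mem_center_map_iff _ d).mp (hU hd)).1
    have hUN : (U : Subgroup G) ≤ Subgroup.normalizer (D : Set G) := by
      intro u hu
      rw [Subgroup.mem_normalizer_iff]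
      intro d
      constructor
      · intro hd
        have : u * d * u⁻¹ = d := by rw [hUcent d hd u hu]; group
        rw [this]; exact hd
      · intro hd
        have h1 := hUcent _ hd u⁻¹ (Subgroup.inv_mem _ hu)
        have : u * d * u⁻¹ = d := by
          have h2 : u⁻¹ * (u * d * u⁻¹) = d * u⁻¹ := by group
          rw [h1] at h2
          have h3 : u * d * u⁻¹ * u⁻¹ = d * u⁻¹ := h2
          exact mul_right_cancel h3
        rw [← this]; exact hd
    -- Q = N_S(D)
    set Q : Subgroup G := (S : Subgroup G) ⊓ Subgroup.normalizer (D : Set G) with hQ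
    have hQp : IsPGroup 2 Q := S.2.to_le inf_le_left
    obtain ⟨m, hmN, hm⟩ := Cfsg.Agent.Lib.Helper9.exists_conj_le_sylow_of_le
      (Subgroup.normalizer (D : Set G)) U hUN Q hQp inf_le_right
    -- U' = m⁻¹ • U
    set U' : Sylow 2 G := m⁻¹ • U with hU'
    have hQU' : Q ≤ (U' : Subgroup G) := by
      intro q hq
      rw [hU', mem_sylow_smul, inv_inv]
      exact hm q hq
    have hDQ : D ≤ Q := le_inf inf_le_left Subgroup.le_normalizer
    have hxQ : x ∈ Q := ⟨hxS, hxN⟩
    -- D centralized by U'
    have hU'cent : ∀ d ∈ D, ∀ u ∈ (U' : Subgroup G), u * d = d * u := by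
      intro d hd u hu
      rw [hU', mem_sylow_smul, inv_inv] at hu
      have hd' : m * d * m⁻¹ ∈ D := (Subgroup.mem_normalizer_iff.mp hmN d).mp hd
      have := hUcent _ hd' _ hu
      have e1 : u * d = m⁻¹ * ((m * u * m⁻¹) * (m * d * m⁻¹)) * m := by group
      have e2 : d * u = m⁻¹ * ((m * d * m⁻¹) * (m * u * m⁻¹)) * m := by group
      rw [e1, e2, this]
    by_cases hSU' : S = U'
    · intro d hd
      rw [mem_center_map_iff]
      refine ⟨hDS.le hd, fun s hs => hU'cent d hd s ?_⟩
      rw [← hSU']; exact hs
    · -- induction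
      have hlt : D < (S : Subgroup G) ⊓ (U' : Subgroup G) := by
        refine lt_of_le_of_ne (le_inf hDS.le (hDQ.trans hQU')) ?_
        intro h
        apply hxD
        rw [h]
        exact ⟨hxS, hQU' hxQ⟩
      have hcardlt : Nat.card D < Nat.card ↥((S : Subgroup G) ⊓ (U' : Subgroup G)) :=
        Cfsg.Agent.Lib.Lead.card_lt_card_of_lt hlt
      have hle : Nat.card ↥((S : Subgroup G) ⊓ (U' : Subgroup G)) ≤ Nat.card G :=
        Subgroup.card_le_card_group _
      have := ih (Nat.card G - Nat.card ↥((S : Subgroup G) ⊓ (U' : Subgroup G))) (by omega) S U' hSU' rfl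
      exact hlt.le.trans this


/-- Let G be a finite group in which the intersection of any two distinct Sylow 2-subgroups is contained in the centre of some Sylow 2-subgroup, and let S be a Sylow 2-subgroup. Then for every x in S the centralizer of x in S is a Sylow 2-subgroup of the centralizer of x in G (no 2-subgroup centralizing x is larger), and for every other Sylow 2-subgroup T the intersection S ∩ T lies in both the centre of S and the centre of T. -/
theorem result {G : Type*} [Group G] [Finite G]
    (hCI : ∀ S T : Sylow 2 G, S ≠ T → ∃ U : Sylow 2 G,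
      (S : Subgroup G) ⊓ (T : Subgroup G) ≤ (Subgroup.center ↥(U : Subgroup G)).map (U : Subgroup G).subtype)
    (S : Sylow 2 G) :
    (∀ x ∈ (S : Subgroup G), ∀ P : Subgroup G, IsPGroup 2 ↥P → P ≤ Subgroup.centralizer ({x} : Set G) →
        Nat.card ↥P ≤ Nat.card ↥((S : Subgroup G) ⊓ Subgroup.centralizer ({x} : Set G))) ∧
    (∀ T : Sylow 2 G, T ≠ S →
        (S : Subgroup G) ⊓ (T : Subgroup G) ≤
          (Subgroup.center ↥(S : Subgroup G)).map (S : Subgroup G).subtype ⊓
            (Subgroup.center ↥(T : Subgroup G)).map (T : Subgroup G).subtype) := by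
  have : Fact (Nat.Prime 2) := ⟨Nat.prime_two⟩
  have hkey : ∀ S T : Sylow 2 G, S ≠ T →
      (S : Subgroup G) ⊓ (T : Subgroup G) ≤ (Subgroup.center ↥(S : Subgroup G)).map (S : Subgroup G).subtype :=
    fun S T h => key hCI _ S T h rfl
  constructor
  · intro x hx P hP hPx
    -- P' = P ⊔ zpowers x
    have hxp : IsPGroup 2 (Subgroup.zpowers x) := by
      have h1 : Subgroup.zpowers x ≤ (S : Subgroup G) := by
        rw [Subgroup.zpowers_le]; exact hx
      exact S.2.to_le h1
    have hnorm : Subgroup.zpowers x ≤ Subgroup.normalizer (P : Set G) := by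
      rw [Subgroup.zpowers_le, Subgroup.mem_normalizer_iff]
      intro y
      have hc : ∀ y ∈ P, x * y * x⁻¹ = y := by
        intro y hy
        have := Subgroup.mem_centralizer_iff.mp (hPx hy) x rfl
        rw [this]; group
      constructor
      · intro hy; rw [hc y hy]; exact hy
      · intro hy
        have h1 := hc _ hy
        have : x * y * x⁻¹ = y := by
          have h2 := mul_right_cancel h1
          exact mul_left_cancel h2
        rw [← this]; exact hy
    have hP' : IsPGroup 2 ↥(Subgroup.zpowers x ⊔ P) := IsPGroup.to_sup_of_normal_right' hxp hP hnorm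
    obtain ⟨T, hT⟩ := hP'.exists_le_sylow
    have hxT : x ∈ (T : Subgroup G) := hT (le_sup_left (a := Subgroup.zpowers x) (Subgroup.mem_zpowers x))
    have hPT : P ≤ (T : Subgroup G) := le_sup_right.trans hT
    by_cases hTS : T = S
    · subst hTS
      apply Subgroup.card_le_of_le
      exact le_inf hPT hPx
    · have hxZ := hkey S T (Ne.symm hTS) ⟨hx, hxT⟩
      rw [mem_center_map_iff] at hxZ
      have hS : (S : Subgroup G) ⊓ Subgroup.centralizer ({x} : Set G) = S := by
        apply inf_eq_left.mpr
        intro s hs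
        rw [Subgroup.mem_centralizer_iff]
        intro y hy
        rw [Set.mem_singleton_iff] at hy
        subst hy
        exact (hxZ.2 s hs).symm
      rw [hS]
      calc Nat.card P ≤ Nat.card (T : Subgroup G) := Subgroup.card_le_of_le hPT
        _ = Nat.card (S : Subgroup G) := by
          rw [Sylow.card_eq_multiplicity, Sylow.card_eq_multiplicity]
  · intro T hTS
    apply le_inf
    · exact hkey S T (Ne.symm hTS)
    · have := hkey T S hTS
      rwa [inf_comm] at this

end Cfsg.Agent.S3183
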