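import Mathlib
import Cfsg.Statements.S3190
import Cfsg.Agent.Lib.Lead.Coprime
import Cfsg.Agent.Lib.Helper1.Nilp
-- import your own Cfsg.Agent.* helpers here

set_option autoImplicit false
open Cfsg
open scoped commutatorElement

namespace Cfsg.Agent.S3190

/-- Let p be an odd prime and, inside a finite group, let P be a p-subgroup normalized by a Klein four-group T. Let R be a subgroup of P, normal in P and normalized by T, such that P is the product of R with the centralizer of T in P. If T centralizes the centre of P, then T centralizes the centre of R. -/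
theorem result {X : Type*} [Group X] [Finite X]
    {p : ℕ} (hp : p.Prime) (hodd : Odd p) (P T R : Subgroup X) (hP : IsPGroup p ↥P) (hT : IsKleinFour ↥T)
    (hTP : T ≤ Subgroup.normalizer (P : Set X)) (hRP : R ≤ P) (hRn : (R.subgroupOf P).Normal)
    (hTR : T ≤ Subgroup.normalizer (R : Set X)) (hfac : R ⊔ (P ⊓ Subgroup.centralizer (T : Set X)) = P)
    (hZ : T ≤ Subgroup.centralizer (((Subgroup.center ↥P).map P.subtype : Subgroup X) : Set X)) :
    T ≤ Subgroup.centralizer (((Subgroup.center ↥R).map R.subtype : Subgroup X) : Set X) := by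
  classical
  open Cfsg.Agent.Lib.Lead in
  set V : Subgroup X := (Subgroup.center ↥R).map R.subtype with hV
  -- basic facts on V
  have hVR : V ≤ R := by
    rintro _ ⟨c, _, rfl⟩; exact c.2
  have hVcomm : ∀ v ∈ V, ∀ r ∈ R, r * v = v * r := by
    rintro _ ⟨c, hc, rfl⟩ r hr
    have := Subgroup.mem_center_iff.mp hc ⟨r, hr⟩
    exact congrArg Subtype.val this
  have hPR : P ≤ Subgroup.normalizer (R : Set X) := by
    intro g hg
    have := (Subgroup.normal_subgroupOf_iff_le_normalizer hRP).mp hRn
    exact this hg
  have hPV : P ≤ Subgroup.normalizer (V : Set X) :=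
    le_normalizer_map_characteristic R P hPR (Subgroup.center ↥R)
  have hTV : T ≤ Subgroup.normalizer (V : Set X) :=
    le_normalizer_map_characteristic R T hTR (Subgroup.center ↥R)
  intro t ht
  have htt : t * t = 1 := by
    have h1 : (⟨t, ht⟩ : T) ^ 2 = 1 := by
      have := Monoid.pow_exponent_eq_one (⟨t, ht⟩ : T)
      rwa [hT.exponent_two] at this
    have h2 := congrArg Subtype.val h1
    simpa [pow_two] using h2
  have htinv : t⁻¹ = t := inv_eq_of_mul_eq_one_left htt
  set Z : Subgroup X := Subgroup.zpowers t with hZdef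
  have hZT : Z ≤ T := by
    rw [hZdef, Subgroup.zpowers_le]; exact ht
  have hZV : Z ≤ Subgroup.normalizer (V : Set X) := hZT.trans hTV
  set U : Subgroup X := ⁅V, Z⁆ with hU
  have hUV : U ≤ V := commutator_le_left_of_le_normalizer V Z hZV
  -- every element of U is inverted by t
  have hinvt : ∀ u ∈ U, t * u * t⁻¹ = u⁻¹ := by
    intro u hu
    have key : u ∈ V ∧ t * u * t⁻¹ = u⁻¹ := by
      rw [hU, Subgroup.commutator_def] at hu
      induction hu using Subgroup.closure_induction with
      | mem x hx =>
        obtain ⟨v, hv, z, hz, rfl⟩ := hx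
        have hmem : ⁅v, z⁆ ∈ V := hUV (Subgroup.commutator_mem_commutator hv hz)
        refine ⟨hmem, ?_⟩
        obtain ⟨k, rfl⟩ := Subgroup.mem_zpowers_iff.mp hz
        rcases Int.even_or_odd k with hk | hk
        · obtain ⟨m, rfl⟩ := hk
          have : t ^ (m + m) = 1 := by
            rw [zpow_add, ← zpow_add, ← two_mul, zpow_mul, zpow_two, htt, one_zpow]
          rw [this]
          simp
        · obtain ⟨m, rfl⟩ := hk
          have : t ^ (2 * m + 1) = t := by
            rw [zpow_add, zpow_mul, zpow_two, htt, one_zpow, one_mul, zpow_one]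
          rw [this]
          rw [commutatorElement_def]
          have e1 : t * (v * t * v⁻¹ * t⁻¹) * t⁻¹ = t * v * t * v⁻¹ * (t * t)⁻¹ := by group
          have e3 : (v * t * v⁻¹ * t⁻¹)⁻¹ = t * v * (t * t)⁻¹ * t * v⁻¹ := by group
          rw [e1, e3, htt, inv_one, mul_one, mul_one]
      | one => exact ⟨V.one_mem, by simp⟩
      | mul x y _ _ hx hy =>
        refine ⟨V.mul_mem hx.1 hy.1, ?_⟩
        have e : t * (x * y) * t⁻¹ = (t * x * t⁻¹) * (t * y * t⁻¹) := by group
        rw [e, hx.2, hy.2, mul_inv_rev]
        have := hVcomm y⁻¹ (V.inv_mem hy.1) x⁻¹ (hVR (V.inv_mem hx.1))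
        exact this
      | inv x _ hx =>
        refine ⟨V.inv_mem hx.1, ?_⟩
        have e : t * x⁻¹ * t⁻¹ = (t * x * t⁻¹)⁻¹ := by group
        rw [e, hx.2]
    exact key.2
  -- P normalizes U
  have hRU : R ≤ Subgroup.normalizer (U : Set X) := by
    intro r hr
    rw [Subgroup.mem_normalizer_iff]
    intro u
    constructor
    · intro hu
      have : r * u * r⁻¹ = u := by
        rw [hVcomm u (hUV hu) r hr]; group
      rw [this]; exact hu
    · intro hu
      have h1 := hVcomm _ (hUV hu) r⁻¹ (R.inv_mem hr)
      have : u = r * u * r⁻¹ := by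
        have h2 : r⁻¹ * (r * u * r⁻¹) = u * r⁻¹ := by group
        rw [h1] at h2
        have h3 : r * u * r⁻¹ * r⁻¹ = u * r⁻¹ := h2
        exact (mul_right_cancel h3).symm
      rw [this]; exact hu
  have hCU : P ⊓ Subgroup.centralizer (T : Set X) ≤ Subgroup.normalizer (U : Set X) := by
    apply le_normalizer_commutator
    · exact inf_le_left.trans hPV
    · intro c hc
      have hct : c * t = t * c := by
        have := Subgroup.mem_centralizer_iff.mp hc.2 t ht
        exact this.symm
      rw [Subgroup.mem_normalizer_iff]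
      intro z
      have hcz : ∀ z ∈ Z, c * z * c⁻¹ = z := by
        intro z hz
        obtain ⟨k, rfl⟩ := Subgroup.mem_zpowers_iff.mp hz
        have : Commute c (t ^ k) := (Commute.zpow_right hct k)
        rw [this.eq]; group
      constructor
      · intro hz; rw [hcz z hz]; exact hz
      · intro hz
        have h1 := hcz _ hz
        have : z = c * z * c⁻¹ := by
          have h2 : c * (c * z * c⁻¹) * c⁻¹ = c * z * c⁻¹ := h1
          have h3 := mul_right_cancel h2
          exact (mul_left_cancel h3).symm
        rw [this]; exact hz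
  have hPU : P ≤ Subgroup.normalizer (U : Set X) := by
    rw [← hfac]; exact sup_le hRU hCU
  have hUP : U ≤ P := hUV.trans (hVR.trans hRP)
  -- U is trivial
  have hUbot : U = ⊥ := by
    by_contra hne
    have hN : (U.subgroupOf P).Normal :=
      (Subgroup.normal_subgroupOf_iff_le_normalizer hUP).mpr hPU
    have hNne : U.subgroupOf P ≠ ⊥ := by
      intro h
      apply hne
      rw [eq_bot_iff]
      intro u hu
      have : (⟨u, hUP hu⟩ : P) ∈ U.subgroupOf P := Subgroup.mem_subgroupOf.mpr hu
      rw [h, Subgroup.mem_bot] at this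
      rw [Subgroup.mem_bot]
      exact congrArg Subtype.val this
    have : Finite P := inferInstance
    have hnil : Group.IsNilpotent P := hP.isNilpotent (p := p) (hp := ⟨hp⟩)
    have hmeet := Cfsg.Agent.Lib.Helper1.normal_inf_center_ne_bot (U.subgroupOf P) hNne
    obtain ⟨⟨u, hu⟩, hu1⟩ := (Subgroup.ne_bot_iff_exists_ne_one (H := U.subgroupOf P ⊓ Subgroup.center P)).mp hmeet
    have huU : (u : X) ∈ U := Subgroup.mem_subgroupOf.mp hu.1
    have huZ : (u : X) ∈ (Subgroup.center ↥P).map P.subtype := ⟨u, hu.2, rfl⟩
    have hcomm : (u : X) * t = t * (u : X) := Subgroup.mem_centralizer_iff.mp (hZ ht) _ huZ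
    have hinv := hinvt _ huU
    have hfix : t * (u : X) * t⁻¹ = (u : X) := by rw [← hcomm]; group
    have hsq : (u : X) * (u : X) = 1 := by
      rw [hfix] at hinv
      calc (u : X) * (u : X) = (u : X) * (u : X)⁻¹ := by rw [← hinv]
        _ = 1 := mul_inv_cancel _
    have hu_one : u = 1 := by
      have : Fact p.Prime := ⟨hp⟩
      obtain ⟨k, hk⟩ := (IsPGroup.iff_orderOf.mp hP) u
      have h2 : orderOf u ∣ 2 := by
        apply orderOf_dvd_of_pow_eq_one
        apply Subtype.ext
        rw [pow_two]
        simpa using hsq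
      rw [hk] at h2
      have hk0 : k = 0 := by
        by_contra hk0
        have hp2 : p ∣ 2 := (dvd_pow_self p hk0).trans h2
        have := (Nat.prime_dvd_prime_iff_eq hp Nat.prime_two).mp hp2
        subst this
        exact absurd hodd (by decide)
      rw [hk0, pow_zero] at hk
      exact orderOf_eq_one_iff.mp hk
    apply hu1
    apply Subtype.ext
    exact hu_one
  -- conclude
  rw [Subgroup.mem_centralizer_iff]
  intro v hv
  have h1 : ⁅v, t⁆ ∈ U := Subgroup.commutator_mem_commutator hv (Subgroup.mem_zpowers t)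
  rw [hUbot, Subgroup.mem_bot, commutatorElement_eq_one_iff_mul_comm] at h1
  exact h1

end Cfsg.Agent.S3190
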