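import Mathlib
import Cfsg.Statements.S3195
import Cfsg.Agent.Lib.Helper19.Dihedral
-- import your own Cfsg.Agent.* helpers here

set_option autoImplicit false
open Cfsg

namespace Cfsg.Agent.S3195


open Cfsg.Agent.Lib.Helper19 in
theorem odd_trick {G : Type*} [Group G] (x y : G) (s : ℕ) (hx : x * x = 1) (hy : y * y = 1)
    (hxy : x * y = y * x) (hp : (x * y) ^ (2 * s + 1) = 1) : x * y = 1 := by
  have hsq : (x * y) * (x * y) = 1 := by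
    calc x * y * (x * y) = x * (y * x) * y := by group
      _ = x * (x * y) * y := by rw [hxy]
      _ = (x * x) * (y * y) := by group
      _ = 1 := by rw [hx, hy, one_mul]
  rw [pow_succ, pow_mul, pow_two, hsq, one_pow, one_mul] at hp
  exact hp

open Cfsg.Agent.Lib.Helper19 in
theorem core {G : Type*} [Group G] (A : Subgroup G) (a₁ a₂ : G) (ha₁A : a₁ ∈ A) (ha₂A : a₂ ∈ A)
    (h1 : a₁ * a₁ = 1) (h2 : a₂ * a₂ = 1) (h12 : a₁ * a₂ = a₂ * a₁)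
    (hA4 : ∀ y ∈ A, y = 1 ∨ y = a₁ ∨ y = a₂ ∨ y = a₁ * a₂)
    (hyp : ∀ x ∈ A, x ≠ 1 → ∀ g : G, ∃ y ∈ A, y ≠ 1 ∧ y * (g * x * g⁻¹) = (g * x * g⁻¹) * y)
    (b : G) (hb : b * b = 1) (t : ℕ) (hr : (a₁ * b) ^ (2 * t + 1) = 1) (hr1 : a₁ * b ≠ 1)
    (hb2 : a₂ * b = b * a₂)
    (c : G) (hc : c * c = 1) (t₂ : ℕ) (hr₂ : (a₂ * c) ^ (2 * t₂ + 1) = 1) (hr₂1 : a₂ * c ≠ 1)
    (hc1 : a₁ * c = c * a₁) : False := by
  have ha₁inv : a₁⁻¹ = a₁ := inv_eq_of_mul_eq_one_left h1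
  have ha₂inv : a₂⁻¹ = a₂ := inv_eq_of_mul_eq_one_left h2
  have hbinv : b⁻¹ = b := inv_eq_of_mul_eq_one_left hb
  have hcinv : c⁻¹ = c := inv_eq_of_mul_eq_one_left hc
  have N1 : a₁ * b ≠ b * a₁ := fun h => hr1 (odd_trick a₁ b t h1 hb h hr)
  have N2 : a₂ * c ≠ c * a₂ := fun h => hr₂1 (odd_trick a₂ c t₂ h2 hc h hr₂)
  have hne12 : a₁ ≠ a₂ := by intro h; rw [h] at N1; exact N1 hb2
  have ha₂ne : a₂ ≠ 1 := by
    intro h; apply N2; rw [h, one_mul, mul_one]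
  have F1 : (a₁ * b) ^ t * a₁ * ((a₁ * b) ^ t)⁻¹ = b := dihedral_conj a₁ b h1 hb t hr
  have F3 : (a₂ * c) ^ t₂ * a₂ * ((a₂ * c) ^ t₂)⁻¹ = c := dihedral_conj a₂ c h2 hc t₂ hr₂
  generalize hg₁ : (a₁ * b) ^ t = g₁ at F1
  generalize hg₂ : (a₂ * c) ^ t₂ = g₂ at F3
  have ca2r : Commute a₂ (a₁ * b) := Commute.mul_right h12.symm hb2
  have ca2g1 : Commute a₂ g₁ := by rw [← hg₁]; exact ca2r.pow_right t
  have F2 : g₁ * a₂ * g₁⁻¹ = a₂ := by rw [← ca2g1.eq, mul_assoc, mul_inv_cancel, mul_one]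
  -- Step 1: `c` commutes with `b`
  have hbc : b * c = c * b := by
    obtain ⟨y, hyA, hy1, hycomm⟩ := hyp a₂ ha₂A ha₂ne (g₁⁻¹ * g₂)
    have e1 : (g₁⁻¹ * g₂) * a₂ * (g₁⁻¹ * g₂)⁻¹ = g₁⁻¹ * c * g₁ := by rw [← F3]; group
    rw [e1] at hycomm
    have hy' : (g₁ * y * g₁⁻¹) * c = c * (g₁ * y * g₁⁻¹) := by
      calc (g₁ * y * g₁⁻¹) * c = g₁ * (y * (g₁⁻¹ * c * g₁)) * g₁⁻¹ := by group
        _ = g₁ * ((g₁⁻¹ * c * g₁) * y) * g₁⁻¹ := by rw [hycomm]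
        _ = c * (g₁ * y * g₁⁻¹) := by group
    rcases hA4 y hyA with rfl | rfl | rfl | rfl
    · exact absurd rfl hy1
    · rw [F1] at hy'; exact hy'
    · rw [F2] at hy'; exact absurd hy' N2
    · exfalso
      have e2 : g₁ * (a₁ * a₂) * g₁⁻¹ = b * a₂ := by
        calc g₁ * (a₁ * a₂) * g₁⁻¹ = (g₁ * a₁ * g₁⁻¹) * (g₁ * a₂ * g₁⁻¹) := by group
          _ = b * a₂ := by rw [F1, F2]
      rw [e2] at hy'
      have c1 : Commute c (a₁ * (b * a₂)) := Commute.mul_right hc1.symm hy'.symm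
      have c2 : Commute c ((a₁ * (b * a₂)) ^ (2 * t + 1)) := c1.pow_right _
      have e3 : (a₁ * (b * a₂)) ^ (2 * t + 1) = a₂ := by
        have : a₁ * (b * a₂) = (a₁ * b) * a₂ := by group
        rw [this, (ca2r.symm).mul_pow, hr, one_mul, pow_succ, pow_mul, pow_two, h2, one_pow, one_mul]
      rw [e3] at c2
      exact N2 c2.eq.symm
  -- Step 2
  have cbr2 : Commute b (a₂ * c) := Commute.mul_right hb2.symm hbc
  have cbg2 : Commute b g₂ := by rw [← hg₂]; exact cbr2.pow_right t₂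
  have ha3ne : a₁ * a₂ ≠ 1 := by
    intro h
    apply hne12
    rw [← ha₂inv]; exact eq_inv_of_mul_eq_one_left h
  obtain ⟨y, hyA, hy1, hycomm⟩ := hyp (a₁ * a₂) (A.mul_mem ha₁A ha₂A) ha3ne (g₂ * g₁)
  have e4 : (g₂ * g₁) * (a₁ * a₂) * (g₂ * g₁)⁻¹ = b * c := by
    calc (g₂ * g₁) * (a₁ * a₂) * (g₂ * g₁)⁻¹
        = g₂ * ((g₁ * a₁ * g₁⁻¹) * (g₁ * a₂ * g₁⁻¹)) * g₂⁻¹ := by group
      _ = g₂ * (b * a₂) * g₂⁻¹ := by rw [F1, F2]
      _ = (g₂ * b) * a₂ * g₂⁻¹ := by group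
      _ = (b * g₂) * a₂ * g₂⁻¹ := by rw [cbg2.eq]
      _ = b * (g₂ * a₂ * g₂⁻¹) := by group
      _ = b * c := by rw [F3]
  rw [e4] at hycomm
  rcases hA4 y hyA with h | h | h | h
  · exact hy1 h
  · rw [h] at hycomm
    apply N1
    calc a₁ * b = a₁ * (b * c) * c⁻¹ := by group
      _ = (b * c) * a₁ * c⁻¹ := by rw [hycomm]
      _ = b * (c * a₁) * c⁻¹ := by group
      _ = b * (a₁ * c) * c⁻¹ := by rw [hc1]
      _ = b * a₁ := by group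
  · rw [h] at hycomm
    apply N2
    calc a₂ * c = b⁻¹ * (b * a₂) * c := by group
      _ = b⁻¹ * (a₂ * b) * c := by rw [hb2]
      _ = b⁻¹ * (a₂ * (b * c)) := by group
      _ = b⁻¹ * ((b * c) * a₂) := by rw [hycomm]
      _ = c * a₂ := by group
  · rw [h] at hycomm
    have e5 : (a₁ * b) * (a₁ * b) = (c * a₂) * (c * a₂) := by
      have l1 : a₁ * a₂ * (b * c) = (a₁ * b) * (a₂ * c) := by
        calc a₁ * a₂ * (b * c) = a₁ * (a₂ * b) * c := by group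
          _ = a₁ * (b * a₂) * c := by rw [hb2]
          _ = (a₁ * b) * (a₂ * c) := by group
      have l2 : b * c * (a₁ * a₂) = (b * a₁) * (c * a₂) := by
        calc b * c * (a₁ * a₂) = b * (c * a₁) * a₂ := by group
          _ = b * (a₁ * c) * a₂ := by rw [hc1]
          _ = (b * a₁) * (c * a₂) := by group
      rw [l1, l2] at hycomm
      calc (a₁ * b) * (a₁ * b) = (b * a₁)⁻¹ * ((a₁ * b) * (a₂ * c)) * (a₂ * c)⁻¹ := by
            rw [mul_inv_rev b a₁, ha₁inv, hbinv]; group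
        _ = (b * a₁)⁻¹ * ((b * a₁) * (c * a₂)) * (a₂ * c)⁻¹ := by rw [hycomm]
        _ = (c * a₂) * (c * a₂) := by rw [mul_inv_rev a₂ c, ha₂inv, hcinv]; group
    have hrel : a₁ * (a₁ * b) * a₁⁻¹ = (a₁ * b)⁻¹ := by
      rw [mul_inv_rev, ha₁inv, hbinv, ← mul_assoc, h1, one_mul]
    have c3 : Commute a₁ ((c * a₂) * (c * a₂)) := by
      have : Commute a₁ (c * a₂) := Commute.mul_right hc1 h12
      exact this.mul_right this
    rw [← e5] at c3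
    have e6 : (a₁ * b) * (a₁ * b) = (a₁ * b)⁻¹ * (a₁ * b)⁻¹ := by
      calc (a₁ * b) * (a₁ * b) = a₁ * ((a₁ * b) * (a₁ * b)) * a₁⁻¹ := by rw [c3.eq]; group
        _ = (a₁ * (a₁ * b) * a₁⁻¹) * (a₁ * (a₁ * b) * a₁⁻¹) := by group
        _ = (a₁ * b)⁻¹ * (a₁ * b)⁻¹ := by rw [hrel]
    generalize a₁ * b = r at *
    have e7 : (r * r) * (r * r) = 1 := by
      nth_rewrite 2 [e6]; group
    apply hr1
    have e8 : r = (r * r) ^ (t + 1) := by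
      rw [← pow_two, ← pow_mul]
      have : 2 * (t + 1) = (2 * t + 1) + 1 := by ring
      rw [this, pow_succ, hr, one_mul]
    have e9 : r * r = 1 := by
      have : r * r = ((r * r) * (r * r)) ^ (t + 1) := by
        rw [← pow_two (r * r), ← pow_mul, mul_comm 2 (t + 1), pow_mul, ← e8, pow_two]
      rw [this, e7, one_pow]
    rw [e8, e9, one_pow]

/-- Let A be a Klein four-subgroup of a finite group G. If every G-conjugate of every involution of A commutes with some involution of A (its centralizer meets A nontrivially), then A meets the largest normal 2-subgroup O₂(G) nontrivially. -/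
theorem result {G : Type*} [Group G] [Finite G]
    (A : Subgroup G) (hA : IsKleinFour ↥A)
    (h : ∀ a ∈ A, a ≠ 1 → ∀ g : G, A ⊓ Subgroup.centralizer ({g * a * g⁻¹} : Set G) ≠ ⊥) :
    A ⊓ Cfsg.pCore 2 G ≠ ⊥ := by
  classical
  intro hbot
  have := hA
  have hcomm : ∀ x ∈ A, ∀ y ∈ A, x * y = y * x := by
    intro x hx y hy
    have := (IsKleinFour.isMulCommutative (G := ↥A)).is_comm.comm ⟨x, hx⟩ ⟨y, hy⟩
    exact congrArg Subtype.val this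
  have hsq : ∀ x ∈ A, x * x = 1 := by
    intro x hx
    have := IsKleinFour.mul_self (⟨x, hx⟩ : ↥A)
    exact congrArg Subtype.val this
  have hnotcore : ∀ x ∈ A, x ≠ 1 → x ∉ Cfsg.pCore 2 G := by
    intro x hx hx1 hxc
    have : x ∈ A ⊓ Cfsg.pCore 2 G := ⟨hx, hxc⟩
    rw [hbot, Subgroup.mem_bot] at this
    exact hx1 this
  have hyp : ∀ x ∈ A, x ≠ 1 → ∀ g : G, ∃ y ∈ A, y ≠ 1 ∧
      y * (g * x * g⁻¹) = (g * x * g⁻¹) * y := by
    intro x hx hx1 g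
    have h0 := h x hx hx1 g
    rw [Ne, Subgroup.eq_bot_iff_forall] at h0
    push Not at h0
    obtain ⟨y, ⟨hyA, hyC⟩, hy1⟩ := h0
    refine ⟨y, hyA, hy1, ?_⟩
    have hyC' : y ∈ Subgroup.centralizer ({g * x * g⁻¹} : Set G) := hyC
    rw [Subgroup.mem_centralizer_iff] at hyC'
    exact (hyC' _ (Set.mem_singleton _)).symm
  obtain ⟨a₁, ha₁A, ha₁1⟩ : ∃ a₁ ∈ A, a₁ ≠ 1 := by
    have hfin : Finite ↥A := IsKleinFour.instFinite
    have : Nontrivial ↥A := by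
      rw [← Finite.one_lt_card_iff_nontrivial, IsKleinFour.card_four]; norm_num
    obtain ⟨x, hx⟩ := exists_ne (1 : ↥A)
    exact ⟨x.1, x.2, fun h => hx (Subtype.ext h)⟩
  obtain ⟨b, t, hb, hr, hr1⟩ := Cfsg.Agent.Lib.Helper19.exists_odd_product_of_not_mem_pCore a₁
    (hsq a₁ ha₁A) (hnotcore a₁ ha₁A ha₁1)
  obtain ⟨a₂, ha₂A, ha₂1, ha₂b⟩ : ∃ a₂ ∈ A, a₂ ≠ 1 ∧ a₂ * b = b * a₂ := by
    have F1 := Cfsg.Agent.Lib.Helper19.dihedral_conj a₁ b (hsq a₁ ha₁A) hb t hr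
    obtain ⟨y, hyA, hy1, hy⟩ := hyp a₁ ha₁A ha₁1 ((a₁ * b) ^ t)
    rw [F1] at hy
    exact ⟨y, hyA, hy1, hy⟩
  have hne : a₁ ≠ a₂ := by
    intro h
    rw [← h] at ha₂b
    exact hr1 (odd_trick a₁ b t (hsq a₁ ha₁A) hb ha₂b hr)
  have hA4 : ∀ y ∈ A, y = 1 ∨ y = a₁ ∨ y = a₂ ∨ y = a₁ * a₂ := by
    intro y hy
    by_cases h1 : y = 1
    · exact Or.inl h1
    by_cases h2 : y = a₁
    · exact Or.inr (Or.inl h2)
    by_cases h3 : y = a₂
    · exact Or.inr (Or.inr (Or.inl h3))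
    right; right; right
    have := IsKleinFour.eq_mul_of_ne_all (G := ↥A) (x := ⟨a₁, ha₁A⟩) (y := ⟨a₂, ha₂A⟩)
      (z := ⟨y, hy⟩) (fun h => ha₁1 (congrArg Subtype.val h))
      (fun h => ha₂1 (congrArg Subtype.val h)) (fun h => hne (congrArg Subtype.val h))
      (fun h => h1 (congrArg Subtype.val h)) (fun h => h2 (congrArg Subtype.val h))
      (fun h => h3 (congrArg Subtype.val h))
    exact congrArg Subtype.val this
  obtain ⟨c, t₂, hc, hr₂, hr₂1⟩ := Cfsg.Agent.Lib.Helper19.exists_odd_product_of_not_mem_pCore a₂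
    (hsq a₂ ha₂A) (hnotcore a₂ ha₂A ha₂1)
  obtain ⟨z, hzA, hz1, hzc⟩ : ∃ z ∈ A, z ≠ 1 ∧ z * c = c * z := by
    have F3 := Cfsg.Agent.Lib.Helper19.dihedral_conj a₂ c (hsq a₂ ha₂A) hc t₂ hr₂
    obtain ⟨y, hyA, hy1, hy⟩ := hyp a₂ ha₂A ha₂1 ((a₂ * c) ^ t₂)
    rw [F3] at hy
    exact ⟨y, hyA, hy1, hy⟩
  have h12 := hcomm a₁ ha₁A a₂ ha₂A
  rcases hA4 z hzA with hz | hz | hz | hz
  · exact hz1 hz
  · rw [hz] at hzc
    exact core A a₁ a₂ ha₁A ha₂A (hsq a₁ ha₁A) (hsq a₂ ha₂A) h12 hA4 hyp b hb t hr hr1 ha₂b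
      c hc t₂ hr₂ hr₂1 hzc
  · rw [hz] at hzc
    exact hr₂1 (odd_trick a₂ c t₂ (hsq a₂ ha₂A) hc hzc hr₂)
  · rw [hz] at hzc
    have h3A : a₁ * a₂ ∈ A := A.mul_mem ha₁A ha₂A
    have e0 : a₁ * a₂ * (b * a₂) = a₁ * b := by
      calc a₁ * a₂ * (b * a₂) = a₁ * (a₂ * b) * a₂ := by group
        _ = a₁ * (b * a₂) * a₂ := by rw [ha₂b]
        _ = a₁ * b * (a₂ * a₂) := by group
        _ = a₁ * b := by rw [hsq a₂ ha₂A, mul_one]
    refine core A (a₁ * a₂) a₂ h3A ha₂A (hsq _ h3A) (hsq a₂ ha₂A) (hcomm _ h3A _ ha₂A) ?_ hyp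
      (b * a₂) ?_ t ?_ ?_ ?_ c hc t₂ hr₂ hr₂1 hzc
    · intro y hy
      rcases hA4 y hy with hy | hy | hy | hy
      · exact Or.inl hy
      · right; right; right
        rw [mul_assoc, hsq a₂ ha₂A, mul_one]; exact hy
      · exact Or.inr (Or.inr (Or.inl hy))
      · exact Or.inr (Or.inl hy)
    · calc b * a₂ * (b * a₂) = b * (a₂ * b) * a₂ := by group
        _ = b * (b * a₂) * a₂ := by rw [ha₂b]
        _ = (b * b) * (a₂ * a₂) := by group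
        _ = 1 := by rw [hb, hsq a₂ ha₂A, one_mul]
    · rw [e0]; exact hr
    · rw [e0]; exact hr1
    · rw [← mul_assoc, ha₂b]

end Cfsg.Agent.S3195
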