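import Mathlib
import Cfsg.Statements.S3196
import Cfsg.Agent.Lib.Helper24.BaerSuzuki
import Cfsg.Agent.Lib.Helper1.Cores
-- import your own Cfsg.Agent.* helpers here

set_option autoImplicit false
open Cfsg

namespace Cfsg.Agent.S3196


open scoped commutatorElement

section helpers

variable {G : Type*} [Group G]

theorem isPGroup_zpowers {p : ℕ} (t : G) (ht : t ^ p = 1) : IsPGroup p ↥(Subgroup.zpowers t) := by
  rintro ⟨g, hg⟩
  refine ⟨1, Subtype.ext ?_⟩
  obtain ⟨k, rfl⟩ := Subgroup.mem_zpowers_iff.mp hg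
  show (t ^ k) ^ (p ^ 1) = 1
  rw [pow_one, ← zpow_natCast, ← zpow_mul, mul_comm, zpow_mul, zpow_natCast, ht, one_zpow]

/-- in a cyclic group of prime order, any nonidentity element generates -/
theorem gen_of_mem_zpowers [Finite G] {p : ℕ} (hp : p.Prime) (x t : G) (hx : x ^ p = 1)
    (ht : t ∈ Subgroup.zpowers x) (ht1 : t ≠ 1) : x ∈ Subgroup.zpowers t := by
  have : Fact p.Prime := ⟨hp⟩
  have hx1 : x ≠ 1 := by
    rintro rfl
    obtain ⟨k, rfl⟩ := Subgroup.mem_zpowers_iff.mp ht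
    exact ht1 (one_zpow k)
  have htp : t ^ p = 1 := by
    obtain ⟨k, rfl⟩ := Subgroup.mem_zpowers_iff.mp ht
    rw [← zpow_natCast, ← zpow_mul, mul_comm, zpow_mul, zpow_natCast, hx, one_zpow]
  have hox : orderOf x = p := orderOf_eq_prime hx hx1
  have hot : orderOf t = p := orderOf_eq_prime htp ht1
  have hle : Subgroup.zpowers t ≤ Subgroup.zpowers x := Subgroup.zpowers_le.mpr ht
  have heq : Subgroup.zpowers t = Subgroup.zpowers x := by
    apply Subgroup.eq_of_le_of_card_ge hle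
    rw [Nat.card_zpowers, Nat.card_zpowers, hox, hot]
  rw [heq]
  exact Subgroup.mem_zpowers x

theorem quadrangle [Finite G] {p : ℕ} (hp : p.Prime) (U : Set G)
    (U1 : ∀ u ∈ U, u ≠ 1 ∧ u ^ p = 1)
    (U3 : ∀ u ∈ U, ∀ v ∈ U, u * v = v * u → ∀ i j : ℤ, u ^ i * v ^ j ≠ 1 → u ^ i * v ^ j ∈ U)
    (U4 : ∀ u ∈ U, ∀ v ∈ U, u * v = v * u → v ∉ Subgroup.zpowers u → ∀ w ∈ U,
      ∃ i j : ℤ, u ^ i * v ^ j ≠ 1 ∧ (u ^ i * v ^ j) * w = w * (u ^ i * v ^ j))
    (a y b w : G) (ha : a ∈ U) (hy : y ∈ U) (hb : b ∈ U) (hw : w ∈ U)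
    (hay : a * y = y * a) (hyb : y * b = b * y) (hbw : b * w = w * b) (hwa : w * a = a * w)
    (hyw : y * w ≠ w * y) (hya : y ∉ Subgroup.zpowers a) :
    IsPGroup p ↥(Subgroup.zpowers a ⊔ Subgroup.zpowers b) := by
  have : Fact p.Prime := ⟨hp⟩
  have hbw1 : b * w ≠ 1 := by
    intro h
    apply hyw
    have hwb : w = b⁻¹ := (eq_inv_of_mul_eq_one_right h)
    rw [hwb]
    calc y * b⁻¹ = b⁻¹ * (b * y) * b⁻¹ := by group
      _ = b⁻¹ * (y * b) * b⁻¹ := by rw [hyb]
      _ = b⁻¹ * y := by group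
  have hd : b * w ∈ U := by
    have := U3 b hb w hw hbw 1 1 (by rw [zpow_one, zpow_one]; exact hbw1)
    rwa [zpow_one, zpow_one] at this
  obtain ⟨i, j, hne, hcomm⟩ := U4 a ha y hy hay hya (b * w) hd
  have cay : Commute a y := hay
  have cyb : Commute y b := hyb
  have cwa : Commute w a := hwa
  have c1 : Commute (y ^ j) b := cyb.zpow_left j
  have c2 : Commute w (a ^ i) := cwa.zpow_right i
  have c3 : Commute (a ^ i) (y ^ j) := cay.zpow_zpow i j
  have c4 : Commute (y ^ j) (a ^ i) := c3.symm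
  have c5 : Commute w b := (show Commute b w from hbw).symm
  have ha'1 : a ^ i ≠ 1 := by
    intro h
    rw [h, one_mul] at hne hcomm
    apply hyw
    have h1 : y ^ j * w = w * y ^ j := by
      have : b * (y ^ j * w) = b * (w * y ^ j) := by
        calc b * (y ^ j * w) = (b * y ^ j) * w := by group
          _ = (y ^ j * b) * w := by rw [c1.eq]
          _ = y ^ j * (b * w) := by group
          _ = b * w * y ^ j := hcomm
          _ = b * (w * y ^ j) := by group
      exact mul_left_cancel this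
    have h2 : y ∈ Subgroup.zpowers (y ^ j) :=
      gen_of_mem_zpowers hp y (y ^ j) (U1 y hy).2 (Subgroup.zpow_mem_zpowers y j) hne
    obtain ⟨k, hk⟩ := Subgroup.mem_zpowers_iff.mp h2
    rw [← hk]
    exact ((show Commute (y ^ j) w from h1).zpow_left k).eq
  generalize ha' : a ^ i = a' at *
  generalize hy' : y ^ j = y' at *
  have hmain : a'⁻¹ * b⁻¹ * a' * b = w * y' * w⁻¹ * y'⁻¹ := by
    have e : a' * b * (y' * w) = b * a' * (w * y') := by
      calc a' * b * (y' * w) = a' * (b * y') * w := by group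
        _ = a' * (y' * b) * w := by rw [c1.eq]
        _ = a' * y' * (b * w) := by group
        _ = b * w * (a' * y') := hcomm
        _ = b * (w * a') * y' := by group
        _ = b * (a' * w) * y' := by rw [c2.eq]
        _ = b * a' * (w * y') := by group
    calc a'⁻¹ * b⁻¹ * a' * b = (b * a')⁻¹ * (a' * b * (y' * w)) * (y' * w)⁻¹ := by group
      _ = (b * a')⁻¹ * (b * a' * (w * y')) * (y' * w)⁻¹ := by rw [e]
      _ = w * y' * w⁻¹ * y'⁻¹ := by group
  generalize hc : a'⁻¹ * b⁻¹ * a' * b = c at hmain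
  have cca : Commute c a' := by
    rw [hmain]
    exact ((c2.mul_left c4).mul_left c2.inv_left).mul_left c4.inv_left
  have ccb : Commute c b := by
    rw [hmain]
    exact ((c5.mul_left c1).mul_left c5.inv_left).mul_left c1.inv_left
  have ha'p : a' ^ p = 1 := by
    rw [← ha', ← zpow_natCast, ← zpow_mul, mul_comm, zpow_mul, zpow_natCast, (U1 a ha).2, one_zpow]
  have hconj : b⁻¹ * a' * b = a' * c := by rw [← hc]; group
  have hcp : c ^ p = 1 := by
    have h1 : (b⁻¹ * a' * b) ^ p = 1 := by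
      have : b⁻¹ * a' * b = b⁻¹ * a' * b⁻¹⁻¹ := by rw [inv_inv]
      rw [this, conj_pow, ha'p]; group
    rw [hconj, cca.symm.mul_pow, ha'p, one_mul] at h1
    exact h1
  have hbp : b ^ p = 1 := (U1 b hb).2
  have hM : IsPGroup p ↥(Subgroup.zpowers b ⊔ Subgroup.zpowers c) := by
    apply IsPGroup.to_sup_of_normal_right' (isPGroup_zpowers b hbp) (isPGroup_zpowers c hcp)
    rw [Subgroup.zpowers_le]
    apply Subgroup.mem_normalizer_fintype
    intro n hn
    have hn' : n ∈ Subgroup.zpowers c := hn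
    obtain ⟨k, rfl⟩ := Subgroup.mem_zpowers_iff.mp hn'
    have : b * c ^ k * b⁻¹ = c ^ k := by
      rw [(ccb.symm.zpow_right k).eq]; group
    rw [this]; exact hn
  have hnorm : a' ∈ Subgroup.normalizer ((Subgroup.zpowers b ⊔ Subgroup.zpowers c : Subgroup G) : Set G) := by
    apply Subgroup.mem_normalizer_fintype
    intro n hn
    have hn' : n ∈ Subgroup.zpowers b ⊔ Subgroup.zpowers c := hn
    have h1 : (MulAut.conj a').toMonoidHom n ∈
        (Subgroup.zpowers b ⊔ Subgroup.zpowers c).map (MulAut.conj a').toMonoidHom :=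
      Subgroup.mem_map_of_mem _ hn'
    have h2 : (Subgroup.zpowers b ⊔ Subgroup.zpowers c).map (MulAut.conj a').toMonoidHom ≤
        Subgroup.zpowers b ⊔ Subgroup.zpowers c := by
      rw [Subgroup.map_sup, MonoidHom.map_zpowers, MonoidHom.map_zpowers]
      apply sup_le
      · rw [Subgroup.zpowers_le]
        have : (MulAut.conj a').toMonoidHom b = b * c := by
          show a' * b * a'⁻¹ = b * c
          calc a' * b * a'⁻¹ = b * (b⁻¹ * a' * b) * a'⁻¹ := by group
            _ = b * (a' * c) * a'⁻¹ := by rw [hconj]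
            _ = b * (c * a') * a'⁻¹ := by rw [cca.eq]
            _ = b * c := by group
        rw [this]
        exact Subgroup.mul_mem_sup (Subgroup.mem_zpowers b) (Subgroup.mem_zpowers c)
      · rw [Subgroup.zpowers_le]
        have : (MulAut.conj a').toMonoidHom c = c := by
          show a' * c * a'⁻¹ = c
          rw [← cca.eq]; group
        rw [this]
        exact Subgroup.mem_sup_right (Subgroup.mem_zpowers c)
    exact h2 h1
  have hT : IsPGroup p ↥(Subgroup.zpowers a' ⊔ (Subgroup.zpowers b ⊔ Subgroup.zpowers c)) := by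
    apply IsPGroup.to_sup_of_normal_right' (isPGroup_zpowers a' ha'p) hM
    rw [Subgroup.zpowers_le]
    exact hnorm
  apply hT.to_le
  apply sup_le
  · rw [Subgroup.zpowers_le]
    have h1 : a ∈ Subgroup.zpowers a' := by
      rw [← ha']
      exact gen_of_mem_zpowers hp a (a ^ i) (U1 a ha).2 (Subgroup.zpow_mem_zpowers a i) (ha' ▸ ha'1)
    exact Subgroup.mem_sup_left h1
  · exact le_trans le_sup_left le_sup_right


theorem core {G : Type*} [Group G] [Finite G] {p : ℕ} (hp : p.Prime) (U : Set G)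
    (U1 : ∀ u ∈ U, u ≠ 1 ∧ u ^ p = 1)
    (U2 : ∀ u ∈ U, ∀ g : G, g * u * g⁻¹ ∈ U)
    (U3 : ∀ u ∈ U, ∀ v ∈ U, u * v = v * u → ∀ i j : ℤ, u ^ i * v ^ j ≠ 1 → u ^ i * v ^ j ∈ U)
    (U4 : ∀ u ∈ U, ∀ v ∈ U, u * v = v * u → v ∉ Subgroup.zpowers u → ∀ w ∈ U,
      ∃ i j : ℤ, u ^ i * v ^ j ≠ 1 ∧ (u ^ i * v ^ j) * w = w * (u ^ i * v ^ j))
    (U5 : ∃ u ∈ U, ∃ v ∈ U, u * v = v * u ∧ v ∉ Subgroup.zpowers u) :
    ∃ v ∈ U, ∀ w ∈ U, v * w = w * v := by
  classical
  have : Fact p.Prime := ⟨hp⟩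
  have L1 : ∀ u ∈ U, ∀ v ∈ U, u * v = v * u → v ∉ Subgroup.zpowers u → ∀ w ∈ U,
      ∃ t ∈ U, t * w = w * t ∧ t * u = u * t ∧ t * v = v * t ∧ ∃ i j : ℤ, t = u ^ i * v ^ j := by
    intro u hu v hv huv hvu w hw
    obtain ⟨i, j, hne, hc⟩ := U4 u hu v hv huv hvu w hw
    have c : Commute u v := huv
    refine ⟨u ^ i * v ^ j, U3 u hu v hv huv i j hne, hc, ?_, ?_, i, j, rfl⟩
    · exact (((Commute.refl u).zpow_left i).mul_left (c.symm.zpow_left j)).eq
    · exact ((c.zpow_left i).mul_left ((Commute.refl v).zpow_left j)).eq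
  have L0 : ∀ x ∈ U, ∃ y ∈ U, x * y = y * x ∧ y ∉ Subgroup.zpowers x := by
    intro x hx
    obtain ⟨u₀, hu₀, v₀, hv₀, huv₀, hvu₀⟩ := U5
    obtain ⟨t, ht, htw, htu, htv, -⟩ := L1 u₀ hu₀ v₀ hv₀ huv₀ hvu₀ x hx
    by_cases h : t ∈ Subgroup.zpowers x
    · have hxt : x ∈ Subgroup.zpowers t := gen_of_mem_zpowers hp x t (U1 x hx).2 h (U1 t ht).1
      obtain ⟨k, hk⟩ := Subgroup.mem_zpowers_iff.mp hxt
      have cxu : x * u₀ = u₀ * x := by
        rw [← hk]; exact ((show Commute t u₀ from htu).zpow_left k).eq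
      have cxv : x * v₀ = v₀ * x := by
        rw [← hk]; exact ((show Commute t v₀ from htv).zpow_left k).eq
      by_cases hu : u₀ ∈ Subgroup.zpowers x
      · refine ⟨v₀, hv₀, cxv, ?_⟩
        intro hv
        apply hvu₀
        have hxu : x ∈ Subgroup.zpowers u₀ :=
          gen_of_mem_zpowers hp x u₀ (U1 x hx).2 hu (U1 u₀ hu₀).1
        exact (Subgroup.zpowers_le.mpr hxu) hv
      · exact ⟨u₀, hu₀, cxu, hu⟩
    · exact ⟨t, ht, htw.symm, h⟩
  by_cases hC : ∃ x ∈ U, ∃ z ∈ U, ¬ IsPGroup p ↥(Subgroup.zpowers x ⊔ Subgroup.zpowers z)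
  · -- Case 1
    obtain ⟨x, hx, z, hz, hxz⟩ := hC
    have hcomm_pg : ∀ u ∈ U, ∀ v ∈ U, u * v = v * u →
        IsPGroup p ↥(Subgroup.zpowers u ⊔ Subgroup.zpowers v) := by
      intro u hu v hv huv
      apply IsPGroup.to_sup_of_normal_right' (isPGroup_zpowers u (U1 u hu).2)
        (isPGroup_zpowers v (U1 v hv).2)
      rw [Subgroup.zpowers_le]
      apply Subgroup.mem_normalizer_fintype
      intro n hn
      have hn' : n ∈ Subgroup.zpowers v := hn
      obtain ⟨k, rfl⟩ := Subgroup.mem_zpowers_iff.mp hn'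
      have : u * v ^ k * u⁻¹ = v ^ k := by
        rw [((show Commute u v from huv).zpow_right k).eq]; group
      rw [this]; exact hn
    have hxz_nc : x * z ≠ z * x := fun h => hxz (hcomm_pg x hx z hz h)
    obtain ⟨y₀, hy₀, hxy₀, hy₀x⟩ := L0 x hx
    obtain ⟨y, hy, hyz, hyx, -, -⟩ := L1 x hx y₀ hy₀ hxy₀ hy₀x z hz
    have hy_notin_x : y ∉ Subgroup.zpowers x := by
      intro h
      have h1 : x ∈ Subgroup.zpowers y := gen_of_mem_zpowers hp x y (U1 x hx).2 h (U1 y hy).1
      obtain ⟨k, hk⟩ := Subgroup.mem_zpowers_iff.mp h1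
      apply hxz_nc; rw [← hk]; exact ((show Commute y z from hyz).zpow_left k).eq
    have hy_notin_z : y ∉ Subgroup.zpowers z := by
      intro h
      have h1 : z ∈ Subgroup.zpowers y := gen_of_mem_zpowers hp z y (U1 z hz).2 h (U1 y hy).1
      obtain ⟨k, hk⟩ := Subgroup.mem_zpowers_iff.mp h1
      apply hxz_nc; rw [← hk]; exact ((show Commute y x from hyx).zpow_left k).eq.symm
    refine ⟨y, hy, ?_⟩
    intro w hw
    by_contra hyw
    obtain ⟨p₁, hp₁, hp₁w, hp₁x, hp₁y, i₁, j₁, hp₁eq⟩ :=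
      L1 x hx y hy hyx.symm hy_notin_x w hw
    obtain ⟨p₂, hp₂, hp₂w, hp₂z, hp₂y, i₂, j₂, hp₂eq⟩ :=
      L1 z hz y hy hyz.symm hy_notin_z w hw
    have hy_of_mem : ∀ q ∈ U, q * w = w * q → q ∈ Subgroup.zpowers y → False := by
      intro q hq hqw hqy
      have h1 : y ∈ Subgroup.zpowers q := gen_of_mem_zpowers hp y q (U1 y hy).2 hqy (U1 q hq).1
      obtain ⟨k, hk⟩ := Subgroup.mem_zpowers_iff.mp h1
      apply hyw; rw [← hk]; exact ((show Commute q w from hqw).zpow_left k).eq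
    have hxi : x ^ i₁ ≠ 1 := by
      intro h
      rw [h, one_mul] at hp₁eq
      exact hy_of_mem p₁ hp₁ hp₁w (by rw [hp₁eq]; exact Subgroup.zpow_mem_zpowers y j₁)
    have hzi : z ^ i₂ ≠ 1 := by
      intro h
      rw [h, one_mul] at hp₂eq
      exact hy_of_mem p₂ hp₂ hp₂w (by rw [hp₂eq]; exact Subgroup.zpow_mem_zpowers y j₂)
    have hy_notin_p₁ : y ∉ Subgroup.zpowers p₁ := by
      intro h
      obtain ⟨k, hk⟩ := Subgroup.mem_zpowers_iff.mp h
      apply hyw; rw [← hk]; exact ((show Commute p₁ w from hp₁w).zpow_left k).eq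
    have hQ := quadrangle hp U U1 U3 U4 p₁ y p₂ w hp₁ hy hp₂ hw hp₁y hp₂y.symm hp₂w hp₁w.symm
      hyw hy_notin_p₁
    apply hxz
    have hT : IsPGroup p
        ↥((Subgroup.zpowers p₁ ⊔ Subgroup.zpowers p₂) ⊔ Subgroup.zpowers y) := by
      apply IsPGroup.to_sup_of_normal_left' hQ (isPGroup_zpowers y (U1 y hy).2)
      rw [Subgroup.zpowers_le]
      apply Subgroup.mem_normalizer_fintype
      have hcen : Subgroup.zpowers p₁ ⊔ Subgroup.zpowers p₂ ≤
          Subgroup.centralizer ({y} : Set G) := by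
        apply sup_le
        · rw [Subgroup.zpowers_le, Subgroup.mem_centralizer_iff]
          intro h hh
          rw [Set.mem_singleton_iff.mp hh]; exact hp₁y.symm
        · rw [Subgroup.zpowers_le, Subgroup.mem_centralizer_iff]
          intro h hh
          rw [Set.mem_singleton_iff.mp hh]; exact hp₂y.symm
      intro n hn
      have h1 := hcen hn
      rw [Subgroup.mem_centralizer_iff] at h1
      have e := h1 y rfl
      have : y * n * y⁻¹ = n := by rw [e]; group
      rw [this]; exact hn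
    apply hT.to_le
    apply sup_le
    · rw [Subgroup.zpowers_le]
      have h1 : x ^ i₁ ∈ (Subgroup.zpowers p₁ ⊔ Subgroup.zpowers p₂) ⊔ Subgroup.zpowers y := by
        have : x ^ i₁ = p₁ * (y ^ j₁)⁻¹ := by rw [hp₁eq]; group
        rw [this]
        exact Subgroup.mul_mem_sup (Subgroup.mem_sup_left (Subgroup.mem_zpowers p₁))
          (Subgroup.inv_mem _ (Subgroup.zpow_mem_zpowers y j₁))
      have h2 : x ∈ Subgroup.zpowers (x ^ i₁) :=
        gen_of_mem_zpowers hp x _ (U1 x hx).2 (Subgroup.zpow_mem_zpowers x i₁) hxi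
      exact (Subgroup.zpowers_le.mpr h1) h2
    · rw [Subgroup.zpowers_le]
      have h1 : z ^ i₂ ∈ (Subgroup.zpowers p₁ ⊔ Subgroup.zpowers p₂) ⊔ Subgroup.zpowers y := by
        have : z ^ i₂ = p₂ * (y ^ j₂)⁻¹ := by rw [hp₂eq]; group
        rw [this]
        exact Subgroup.mul_mem_sup (Subgroup.mem_sup_right (Subgroup.mem_zpowers p₂))
          (Subgroup.inv_mem _ (Subgroup.zpow_mem_zpowers y j₂))
      have h2 : z ∈ Subgroup.zpowers (z ^ i₂) :=
        gen_of_mem_zpowers hp z _ (U1 z hz).2 (Subgroup.zpow_mem_zpowers z i₂) hzi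
      exact (Subgroup.zpowers_le.mpr h1) h2
  · -- Case 2
    push Not at hC
    have hUQ : ∀ u ∈ U, u ∈ Cfsg.pCore p G := by
      intro u hu
      obtain ⟨N, hN, hNp, hXN⟩ := Cfsg.Agent.Lib.Helper24.baer_suzuki (Subgroup.zpowers u)
        (isPGroup_zpowers u (U1 u hu).2) (by
          intro g
          rw [MonoidHom.map_zpowers]
          exact hC u hu _ (U2 u hu g))
      exact Cfsg.Agent.Lib.Helper1.le_pCore hN hNp (hXN (Subgroup.mem_zpowers u))
    have hQp : IsPGroup p ↥(Cfsg.pCore p G) := Cfsg.Agent.Lib.Helper1.pCore_isPGroup p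
    generalize Cfsg.pCore p G = Q at hUQ hQp
    have hQnil : Group.IsNilpotent ↥Q := hQp.isNilpotent
    obtain ⟨u₀, hu₀, -⟩ := U5
    obtain ⟨v, hvU, hvmax⟩ := Set.exists_max_image U
      (fun u => Nat.card ↥(Q ⊓ Subgroup.centralizer ({u} : Set G))) (Set.toFinite U) ⟨u₀, hu₀⟩
    refine ⟨v, hvU, ?_⟩
    have hQv : Q ≤ Subgroup.centralizer ({v} : Set G) := by
      by_contra hnot
      have hNQ : Q ⊓ Subgroup.centralizer ({v} : Set G) ≤ Q := inf_le_left
      have hNne : Q ⊓ Subgroup.centralizer ({v} : Set G) ≠ Q := by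
        intro h; apply hnot; rw [← h]; exact inf_le_right
      generalize hNdef : Q ⊓ Subgroup.centralizer ({v} : Set G) = N at hNQ hNne
      have hvN : v ∈ N := by
        rw [← hNdef, Subgroup.mem_inf]
        refine ⟨hUQ v hvU, ?_⟩
        rw [Subgroup.mem_centralizer_iff]
        intro h hh
        rw [Set.mem_singleton_iff.mp hh]
      have hvZ : ∀ n ∈ N, v * n = n * v := by
        intro n hn
        rw [← hNdef, Subgroup.mem_inf] at hn
        have := hn.2
        rw [Subgroup.mem_centralizer_iff] at this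
        exact this v rfl
      have hnc : NormalizerCondition ↥Q := Group.normalizerCondition_of_isNilpotent
      have hlt : N.subgroupOf Q < ⊤ := by
        rw [lt_top_iff_ne_top]
        intro h
        apply hNne
        exact le_antisymm hNQ (Subgroup.subgroupOf_eq_top.mp h)
      have hlt2 := hnc _ hlt
      obtain ⟨g', hg'n, hg'N⟩ := SetLike.exists_of_lt hlt2
      have hgN : (g' : G) ∉ N := fun h => hg'N (Subgroup.mem_subgroupOf.mpr h)
      have hgnorm : ∀ n ∈ N, (g' : G) * n * (g' : G)⁻¹ ∈ N ∧ (g' : G)⁻¹ * n * (g' : G) ∈ N := by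
        intro n hn
        have hnQ : n ∈ Q := hNQ hn
        rw [Subgroup.mem_normalizer_iff] at hg'n
        constructor
        · have := (hg'n ⟨n, hnQ⟩).mp (Subgroup.mem_subgroupOf.mpr hn)
          exact Subgroup.mem_subgroupOf.mp this
        · have := (hg'n (g'⁻¹ * ⟨n, hnQ⟩ * g')).mpr (by
            have e : g' * (g'⁻¹ * ⟨n, hnQ⟩ * g') * g'⁻¹ = ⟨n, hnQ⟩ := by group
            rw [e]; exact Subgroup.mem_subgroupOf.mpr hn)
          exact Subgroup.mem_subgroupOf.mp this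
      have hchain : ∀ k : ℕ, ∀ t' : ↥Q, t' ∈ Subgroup.upperCentralSeries ↥Q k → (t' : G) ∈ U →
          (t' : G) ∈ N → (∀ n ∈ N, (t' : G) * n = n * (t' : G)) →
          ∃ s ∈ U, s ∈ N ∧ (∀ n ∈ N, s * n = n * s) ∧ s * (g' : G) = (g' : G) * s := by
        intro k
        induction k with
        | zero =>
          intro t' ht' htU _ _
          rw [Subgroup.upperCentralSeries_zero, Subgroup.mem_bot] at ht'
          exfalso; apply (U1 _ htU).1; rw [ht']; rfl
        | succ k ih =>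
          intro t' ht' htU htN htZ
          by_cases hcg : (t' : G) * (g' : G) = (g' : G) * (t' : G)
          · exact ⟨t', htU, htN, htZ, hcg⟩
          · have hs0' : (t'⁻¹ * (g' * t' * g'⁻¹) : ↥Q) ∈ Subgroup.upperCentralSeries ↥Q k := by
              have := (Subgroup.mem_upperCentralSeries_succ_iff.mp (Subgroup.inv_mem _ ht')) g'
              rw [commutatorElement_def, inv_inv] at this
              have e : t'⁻¹ * (g' * t' * g'⁻¹) = t'⁻¹ * g' * t' * g'⁻¹ := by group
              rw [e]; exact this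
            have h1 : (g' : G) * (t' : G) * (g' : G)⁻¹ ∈ U := U2 (t' : G) htU (g' : G)
            have h2 : (g' : G) * (t' : G) * (g' : G)⁻¹ ∈ N := (hgnorm (t' : G) htN).1
            have h3 : ∀ n ∈ N, ((g' : G) * (t' : G) * (g' : G)⁻¹) * n = n * ((g' : G) * (t' : G) * (g' : G)⁻¹) := by
              intro n hn
              have hn' := (hgnorm n hn).2
              have e := htZ _ hn'
              calc (g' : G) * (t' : G) * (g' : G)⁻¹ * n = (g' : G) * ((t' : G) * ((g' : G)⁻¹ * n * (g' : G))) * (g' : G)⁻¹ := by group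
                _ = (g' : G) * (((g' : G)⁻¹ * n * (g' : G)) * (t' : G)) * (g' : G)⁻¹ := by rw [e]
                _ = n * ((g' : G) * (t' : G) * (g' : G)⁻¹) := by group
            have h4 : (t' : G) * ((g' : G) * (t' : G) * (g' : G)⁻¹) = ((g' : G) * (t' : G) * (g' : G)⁻¹) * (t' : G) := htZ _ h2
            have hs0ne : (t' : G)⁻¹ * ((g' : G) * (t' : G) * (g' : G)⁻¹) ≠ 1 := by
              intro h
              apply hcg
              have h5 : (g' : G) * (t' : G) * (g' : G)⁻¹ = (t' : G) := by rw [inv_mul_eq_one] at h; exact h.symm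
              calc (t' : G) * (g' : G) = ((g' : G) * (t' : G) * (g' : G)⁻¹) * (g' : G) := by rw [h5]
                _ = (g' : G) * (t' : G) := by group
            have hs0U : (t' : G)⁻¹ * ((g' : G) * (t' : G) * (g' : G)⁻¹) ∈ U := by
              have := U3 (t' : G) htU _ h1 h4 (-1) 1 (by rw [zpow_neg_one, zpow_one]; exact hs0ne)
              rwa [zpow_neg_one, zpow_one] at this
            have hprod : ((t'⁻¹ * (g' * t' * g'⁻¹) : ↥Q) : G) =
                (t' : G)⁻¹ * ((g' : G) * (t' : G) * (g' : G)⁻¹) := rfl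
            refine ih (t'⁻¹ * (g' * t' * g'⁻¹)) hs0' (by rw [hprod]; exact hs0U)
              (by rw [hprod]; exact N.mul_mem (N.inv_mem htN) h2) ?_
            intro n hn
            rw [hprod]
            have e1 := htZ n hn
            have e2 := h3 n hn
            calc (t' : G)⁻¹ * ((g' : G) * (t' : G) * (g' : G)⁻¹) * n
                = (t' : G)⁻¹ * (n * ((g' : G) * (t' : G) * (g' : G)⁻¹)) := by rw [mul_assoc, e2]
              _ = (t' : G)⁻¹ * (n * (t' : G)) * (t' : G)⁻¹ * ((g' : G) * (t' : G) * (g' : G)⁻¹) := by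
                  group
              _ = (t' : G)⁻¹ * ((t' : G) * n) * (t' : G)⁻¹ * ((g' : G) * (t' : G) * (g' : G)⁻¹) := by
                  rw [e1]
              _ = n * ((t' : G)⁻¹ * ((g' : G) * (t' : G) * (g' : G)⁻¹)) := by group
      -- apply the chain to `v`
      obtain ⟨n₀, hn₀⟩ := hQnil.nilpotent'
      obtain ⟨s, hsU, hsN, hsZ, hsg⟩ := hchain n₀ ⟨v, hUQ v hvU⟩ (by rw [hn₀]; exact Subgroup.mem_top _)
        hvU hvN hvZ
      have hle : N ≤ Q ⊓ Subgroup.centralizer ({s} : Set G) := by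
        intro n hn
        rw [Subgroup.mem_inf]
        refine ⟨hNQ hn, ?_⟩
        rw [Subgroup.mem_centralizer_iff]
        intro h hh
        rw [Set.mem_singleton_iff.mp hh]
        exact hsZ n hn
      have hcard := hvmax s hsU
      rw [hNdef] at hcard
      have heq : N = Q ⊓ Subgroup.centralizer ({s} : Set G) :=
        Subgroup.eq_of_le_of_card_ge hle hcard
      apply hgN
      rw [heq, Subgroup.mem_inf]
      refine ⟨g'.2, ?_⟩
      rw [Subgroup.mem_centralizer_iff]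
      intro h hh
      rw [Set.mem_singleton_iff.mp hh]
      exact hsg
    intro w hw
    have h1 := hQv (hUQ w hw)
    rw [Subgroup.mem_centralizer_iff] at h1
    exact h1 v rfl


theorem isPGroup_sup_zpowers_of_commute {G : Type*} [Group G] [Finite G] {p : ℕ} [Fact p.Prime]
    (u v : G) (hu : u ^ p = 1) (hv : v ^ p = 1) (huv : u * v = v * u) :
    IsPGroup p ↥(Subgroup.zpowers u ⊔ Subgroup.zpowers v) := by
  apply IsPGroup.to_sup_of_normal_right' (isPGroup_zpowers u hu) (isPGroup_zpowers v hv)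
  rw [Subgroup.zpowers_le]
  apply Subgroup.mem_normalizer_fintype
  intro n hn
  have hn' : n ∈ Subgroup.zpowers v := hn
  obtain ⟨k, rfl⟩ := Subgroup.mem_zpowers_iff.mp hn'
  have : u * v ^ k * u⁻¹ = v ^ k := by
    rw [((show Commute u v from huv).zpow_right k).eq]; group
  rw [this]; exact hn

theorem mem_sup_zpowers_of_commute {G : Type*} [Group G] (u v : G) (huv : u * v = v * u) (t : G)
    (ht : t ∈ Subgroup.zpowers u ⊔ Subgroup.zpowers v) : ∃ i j : ℤ, t = u ^ i * v ^ j := by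
  have c : Commute u v := huv
  let S : Subgroup G :=
    { carrier := {t | ∃ i j : ℤ, t = u ^ i * v ^ j}
      one_mem' := ⟨0, 0, by simp⟩
      mul_mem' := by
        rintro _ _ ⟨i, j, rfl⟩ ⟨k, l, rfl⟩
        refine ⟨i + k, j + l, ?_⟩
        have c1 : Commute (v ^ j) (u ^ k) := (c.symm.zpow_zpow j k)
        calc u ^ i * v ^ j * (u ^ k * v ^ l) = u ^ i * (v ^ j * u ^ k) * v ^ l := by group
          _ = u ^ i * (u ^ k * v ^ j) * v ^ l := by rw [c1.eq]
          _ = u ^ (i + k) * v ^ (j + l) := by rw [zpow_add, zpow_add]; group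
      inv_mem' := by
        rintro _ ⟨i, j, rfl⟩
        refine ⟨-i, -j, ?_⟩
        have c1 : Commute (v ^ (-j)) (u ^ (-i)) := (c.symm.zpow_zpow (-j) (-i))
        rw [mul_inv_rev, ← zpow_neg, ← zpow_neg, c1.eq] }
  have hle : Subgroup.zpowers u ⊔ Subgroup.zpowers v ≤ S := by
    apply sup_le
    · rw [Subgroup.zpowers_le]; exact ⟨1, 0, by simp⟩
    · rw [Subgroup.zpowers_le]; exact ⟨0, 1, by simp⟩
  exact hle ht

end helpers

/-- Let p be a prime and K a set of subgroups of order p of a finite group G, closed under conjugation, such that at least two distinct members of K commute elementwise, and whenever two distinct members X, Y of K commute: every subgroup of order p of the group XY they generate belongs to K, and every member W of K has centralizer meeting XY nontrivially. Then some member V of K commutes elementwise with every member of K and lies in O_p(G); in particular G is not simple. -/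
theorem result {G : Type*} [Group G] [Finite G]
    {p : ℕ} (hp : p.Prime) (K : Set (Subgroup G)) (hK : ∀ X ∈ K, Nat.card ↥X = p)
    (hKc : ∀ X ∈ K, ∀ g : G, X.map (MulAut.conj g).toMonoidHom ∈ K)
    (hex : ∃ X ∈ K, ∃ Y ∈ K, X ≠ Y ∧ ∀ x ∈ X, ∀ y ∈ Y, x * y = y * x)
    (ha : ∀ X ∈ K, ∀ Y ∈ K, X ≠ Y → (∀ x ∈ X, ∀ y ∈ Y, x * y = y * x) →
      ∀ Z : Subgroup G, Z ≤ X ⊔ Y → Nat.card ↥Z = p → Z ∈ K)
    (hb : ∀ X ∈ K, ∀ Y ∈ K, X ≠ Y → (∀ x ∈ X, ∀ y ∈ Y, x * y = y * x) →
      ∀ W ∈ K, (X ⊔ Y) ⊓ Subgroup.centralizer (W : Set G) ≠ ⊥) :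
    (∃ V ∈ K, (∀ W ∈ K, ∀ v ∈ V, ∀ w ∈ W, v * w = w * v) ∧ V ≤ Cfsg.pCore p G) ∧ ¬ IsSimpleGroup G := by
  classical
  have : Fact p.Prime := ⟨hp⟩
  -- generators
  have hgen : ∀ X ∈ K, ∀ x ∈ X, x ≠ 1 → X = Subgroup.zpowers x := by
    intro X hX x hx hx1
    have hle : Subgroup.zpowers x ≤ X := Subgroup.zpowers_le.mpr hx
    have hdvd : orderOf x ∣ p := by
      have h1 : orderOf (⟨x, hx⟩ : ↥X) ∣ Nat.card ↥X := orderOf_dvd_natCard _
      rw [hK X hX] at h1
      have h2 : orderOf (⟨x, hx⟩ : ↥X) = orderOf x := Subgroup.orderOf_mk x hx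
      rwa [h2] at h1
    have hox : orderOf x = p := by
      rcases (Nat.dvd_prime hp).mp hdvd with h | h
      · exact absurd (orderOf_eq_one_iff.mp h) hx1
      · exact h
    symm
    apply Subgroup.eq_of_le_of_card_ge hle
    rw [Nat.card_zpowers, hox, hK X hX]
  have hexgen : ∀ X ∈ K, ∃ x ∈ X, x ≠ 1 := by
    intro X hX
    have h1 : Nontrivial ↥X := by
      rw [← Finite.one_lt_card_iff_nontrivial, hK X hX]; exact hp.one_lt
    obtain ⟨x, hx⟩ := exists_ne (1 : ↥X)
    exact ⟨x.1, x.2, fun h => hx (Subtype.ext h)⟩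
  set U : Set G := {u | u ≠ 1 ∧ Subgroup.zpowers u ∈ K} with hU
  have U1 : ∀ u ∈ U, u ≠ 1 ∧ u ^ p = 1 := by
    rintro u ⟨hu1, huK⟩
    refine ⟨hu1, ?_⟩
    have := hK _ huK
    rw [Nat.card_zpowers] at this
    rw [← this, pow_orderOf_eq_one]
  have U2 : ∀ u ∈ U, ∀ g : G, g * u * g⁻¹ ∈ U := by
    rintro u ⟨hu1, huK⟩ g
    refine ⟨?_, ?_⟩
    · intro h
      apply hu1
      have : u = g⁻¹ * (g * u * g⁻¹) * g := by group
      rw [this, h]; group
    · have := hKc _ huK g
      rw [MonoidHom.map_zpowers] at this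
      exact this
  have hpow : ∀ u ∈ U, ∀ v ∈ U, u * v = v * u → ∀ i j : ℤ, (u ^ i * v ^ j) ^ p = 1 := by
    intro u hu v hv huv i j
    have c : Commute (u ^ i) (v ^ j) := (show Commute u v from huv).zpow_zpow i j
    rw [c.mul_pow, ← zpow_natCast, ← zpow_natCast, ← zpow_mul, ← zpow_mul, mul_comm i, mul_comm j,
      zpow_mul, zpow_mul, zpow_natCast, zpow_natCast, (U1 u hu).2, (U1 v hv).2, one_zpow, one_zpow,
      one_mul]
  have hcommsub : ∀ u v : G, u * v = v * u → ∀ x ∈ Subgroup.zpowers u, ∀ y ∈ Subgroup.zpowers v,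
      x * y = y * x := by
    intro u v huv x hx y hy
    obtain ⟨i, rfl⟩ := Subgroup.mem_zpowers_iff.mp hx
    obtain ⟨j, rfl⟩ := Subgroup.mem_zpowers_iff.mp hy
    exact ((show Commute u v from huv).zpow_zpow i j).eq
  have U3 : ∀ u ∈ U, ∀ v ∈ U, u * v = v * u → ∀ i j : ℤ, u ^ i * v ^ j ≠ 1 →
      u ^ i * v ^ j ∈ U := by
    intro u hu v hv huv i j hne
    refine ⟨hne, ?_⟩
    have htp := hpow u hu v hv huv i j
    have hot : orderOf (u ^ i * v ^ j) = p := orderOf_eq_prime htp hne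
    have hmem : u ^ i * v ^ j ∈ Subgroup.zpowers u ⊔ Subgroup.zpowers v :=
      Subgroup.mul_mem_sup (Subgroup.zpow_mem_zpowers u i) (Subgroup.zpow_mem_zpowers v j)
    by_cases hXY : Subgroup.zpowers u = Subgroup.zpowers v
    · rw [← hXY, sup_idem] at hmem
      have h1 := hgen _ hu.2 _ hmem hne
      rw [← h1]; exact hu.2
    · apply ha _ hu.2 _ hv.2 hXY (hcommsub u v huv) _ (Subgroup.zpowers_le.mpr hmem)
      rw [Nat.card_zpowers, hot]
  have U4 : ∀ u ∈ U, ∀ v ∈ U, u * v = v * u → v ∉ Subgroup.zpowers u → ∀ w ∈ U,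
      ∃ i j : ℤ, u ^ i * v ^ j ≠ 1 ∧ (u ^ i * v ^ j) * w = w * (u ^ i * v ^ j) := by
    intro u hu v hv huv hvu w hw
    have hXY : Subgroup.zpowers u ≠ Subgroup.zpowers v := by
      intro h; apply hvu; rw [h]; exact Subgroup.mem_zpowers v
    have h0 := hb _ hu.2 _ hv.2 hXY (hcommsub u v huv) _ hw.2
    rw [Ne, Subgroup.eq_bot_iff_forall] at h0
    push Not at h0
    obtain ⟨t, ht, ht1⟩ := h0
    rw [Subgroup.mem_inf] at ht
    obtain ⟨i, j, rfl⟩ := mem_sup_zpowers_of_commute u v huv t ht.1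
    refine ⟨i, j, ht1, ?_⟩
    have h2 := ht.2
    rw [Subgroup.mem_centralizer_iff] at h2
    exact (h2 w (Subgroup.mem_zpowers w)).symm
  have U5 : ∃ u ∈ U, ∃ v ∈ U, u * v = v * u ∧ v ∉ Subgroup.zpowers u := by
    obtain ⟨X, hX, Y, hY, hXY, hcomm⟩ := hex
    obtain ⟨x, hxX, hx1⟩ := hexgen X hX
    obtain ⟨y, hyY, hy1⟩ := hexgen Y hY
    have hXx := hgen X hX x hxX hx1
    have hYy := hgen Y hY y hyY hy1
    refine ⟨x, ⟨hx1, hXx ▸ hX⟩, y, ⟨hy1, hYy ▸ hY⟩, hcomm x hxX y hyY, ?_⟩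
    intro h
    apply hXY
    symm
    apply Subgroup.eq_of_le_of_card_ge
    · rw [hYy, hXx]; exact Subgroup.zpowers_le.mpr h
    · rw [hK X hX, hK Y hY]
  obtain ⟨v, hvU, hvall⟩ := core hp U U1 U2 U3 U4 U5
  have hVK : Subgroup.zpowers v ∈ K := hvU.2
  have hVcomm : ∀ W ∈ K, ∀ a ∈ Subgroup.zpowers v, ∀ b ∈ W, a * b = b * a := by
    intro W hW a ha b hb'
    obtain ⟨w, hwW, hw1⟩ := hexgen W hW
    have hWw := hgen W hW w hwW hw1
    have hwU : w ∈ U := ⟨hw1, hWw ▸ hW⟩
    rw [hWw] at hb'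
    exact hcommsub v w (hvall w hwU) a ha b hb'
  have hVcore : Subgroup.zpowers v ≤ Cfsg.pCore p G := by
    obtain ⟨N, hN, hNp, hXN⟩ := Cfsg.Agent.Lib.Helper24.baer_suzuki (Subgroup.zpowers v)
      (isPGroup_zpowers v (U1 v hvU).2) (by
        intro g
        rw [MonoidHom.map_zpowers]
        have hgU : g * v * g⁻¹ ∈ U := U2 v hvU g
        exact isPGroup_sup_zpowers_of_commute v _ (U1 v hvU).2 (U1 _ hgU).2 (hvall _ hgU))
    exact le_trans hXN (Cfsg.Agent.Lib.Helper1.le_pCore hN hNp)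
  refine ⟨⟨Subgroup.zpowers v, hVK, hVcomm, hVcore⟩, ?_⟩
  intro hs
  have hQn : (Cfsg.pCore p G).Normal := Cfsg.Agent.Lib.Helper1.pCore_normal p
  have hQp : IsPGroup p ↥(Cfsg.pCore p G) := Cfsg.Agent.Lib.Helper1.pCore_isPGroup p
  have htop : Cfsg.pCore p G = ⊤ := by
    rcases hQn.eq_bot_or_eq_top with h | h
    · exfalso
      have : v ∈ Cfsg.pCore p G := hVcore (Subgroup.mem_zpowers v)
      rw [h, Subgroup.mem_bot] at this
      exact hvU.1 this
    · exact h
  have hGp : IsPGroup p G := by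
    intro g
    obtain ⟨k, hk⟩ := hQp ⟨g, by rw [htop]; exact Subgroup.mem_top g⟩
    exact ⟨k, congrArg Subtype.val hk⟩
  have hcn : Nontrivial ↥(Subgroup.center G) := hGp.center_nontrivial
  have hctop : Subgroup.center G = ⊤ := by
    rcases (inferInstance : (Subgroup.center G).Normal).eq_bot_or_eq_top with h | h
    · exfalso
      rw [h] at hcn
      exact not_nontrivial _ hcn
    · exact h
  have hall : ∀ X ∈ K, X = ⊤ := by
    intro X hX
    have hXn : X.Normal := by
      constructor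
      intro n hn g
      have hnc : n ∈ Subgroup.center G := by rw [hctop]; exact Subgroup.mem_top n
      have := Subgroup.mem_center_iff.mp hnc g
      have e : g * n * g⁻¹ = n := by rw [this]; group
      rw [e]; exact hn
    rcases hXn.eq_bot_or_eq_top with h | h
    · exfalso
      have := hK X hX
      rw [h, Subgroup.card_bot] at this
      exact hp.one_lt.ne this
    · exact h
  obtain ⟨X, hX, Y, hY, hXY, -⟩ := hex
  exact hXY ((hall X hX).trans (hall Y hY).symm)

end Cfsg.Agent.S3196
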