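import Mathlib
import Cfsg.Statements.S3200
import Cfsg.Agent.S0143
import Cfsg.Agent.Lib.Helper1.Hall
import Cfsg.Agent.Lib.helper23.Fitting
-- import your own Cfsg.Agent.* helpers here

set_option autoImplicit false
open Cfsg

namespace Cfsg.Agent.S3200

open scoped Pointwise

universe u

/-- abelian Hall 2'-subgroup -/
def HasAH (H : Type u) [Group H] : Prop :=
  ∃ C : Subgroup H, IsMulCommutative ↥C ∧ Odd (Nat.card C) ∧ ∃ a : ℕ, C.index = 2 ^ a

lemma two_pow_of_dvd {n a : ℕ} (h : n ∣ 2 ^ a) : ∃ b, n = 2 ^ b := by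
  obtain ⟨b, -, hb⟩ := (Nat.dvd_prime_pow Nat.prime_two).mp h
  exact ⟨b, hb⟩

lemma hasAH_of_complement {H : Type u} [Group H] [Finite H] (S : Sylow 2 H) (C : Subgroup H)
    (hC : IsMulCommutative ↥C) (hSC : Subgroup.IsComplement' (S : Subgroup H) C) : HasAH H := by
  have : Fact (Nat.Prime 2) := ⟨Nat.prime_two⟩
  refine ⟨C, hC, ?_, ?_⟩
  · have h1 := hSC.card_mul_card
    have h2 := (S : Subgroup H).card_mul_index
    have h3 : Nat.card C = (S : Subgroup H).index := by
      have hpos : 0 < Nat.card (S : Subgroup H) := Nat.card_pos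
      nlinarith
    rw [h3, ← Nat.not_even_iff_odd]
    intro he
    exact S.not_dvd_index he.two_dvd
  · have h1 := hSC.card_mul_card
    have h2 := C.card_mul_index
    have h3 : C.index = Nat.card (S : Subgroup H) := by
      have hpos : 0 < Nat.card C := Nat.card_pos
      nlinarith
    obtain ⟨k, hk⟩ := IsPGroup.iff_card.mp S.isPGroup'
    exact ⟨k, by rw [h3, hk]⟩

lemma complement_of_hasAH {H : Type u} [Group H] [Finite H] (h : HasAH H) :
    ∃ (P : Sylow 2 H) (D : Subgroup H), IsMulCommutative ↥D ∧ Subgroup.IsComplement' (P : Subgroup H) D := by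
  have : Fact (Nat.Prime 2) := ⟨Nat.prime_two⟩
  obtain ⟨C, hC, hodd, a, ha⟩ := h
  obtain ⟨P⟩ := (inferInstance : Nonempty (Sylow 2 H))
  refine ⟨P, C, hC, ?_⟩
  obtain ⟨k, hk⟩ := IsPGroup.iff_card.mp P.isPGroup'
  have hcop : (Nat.card (P : Subgroup H)).Coprime (Nat.card C) := by
    rw [hk]; exact Nat.Coprime.pow_left _ hodd.coprime_two_left
  apply Subgroup.isComplement'_of_coprime _ hcop
  -- card P * card C = card H
  have h2 := C.card_mul_index
  have h3 := (P : Subgroup H).card_mul_index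
  have hnd := P.not_dvd_index
  rw [ha] at h2
  rw [hk] at h3 ⊢
  have hka : k ≤ a := by
    have h4 : 2 ^ k ∣ Nat.card C * 2 ^ a := by rw [h2, ← h3]; exact dvd_mul_right _ _
    have h5 : (2 ^ k).Coprime (Nat.card C) := Nat.Coprime.pow_left _ hodd.coprime_two_left
    have h6 := h5.dvd_of_dvd_mul_left h4
    exact (Nat.pow_dvd_pow_iff_le_right (by norm_num)).mp h6
  have hak : a ≤ k := by
    by_contra hlt
    push Not at hlt
    obtain ⟨d, hd⟩ : ∃ d, a = k + (d + 1) := ⟨a - k - 1, by omega⟩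
    apply hnd
    have h7 : 2 ^ k * (P : Subgroup H).index = 2 ^ k * (Nat.card C * 2 ^ (d + 1)) := by
      rw [h3, ← h2, hd, pow_add]; ring
    have h8 := Nat.eq_of_mul_eq_mul_left (by positivity) h7
    rw [h8, pow_succ]
    exact ⟨Nat.card C * 2 ^ d, by ring⟩
  have : k = a := le_antisymm hka hak
  rw [this, ← h2, mul_comm]

lemma hasAH_normal {H : Type u} [Group H] [Finite H] (h : HasAH H) (M : Subgroup H) [M.Normal] :
    HasAH ↥M := by
  obtain ⟨C, hC, hodd, a, ha⟩ := h
  refine ⟨C.subgroupOf M, inferInstance, ?_, ?_⟩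
  · have h1 : Nat.card (C.subgroupOf M) ∣ Nat.card C := by
      have : Nat.card (C.subgroupOf M) = Nat.card (C ⊓ M : Subgroup H) := by
        rw [← Subgroup.inf_subgroupOf_right]
        exact Nat.card_congr (Subgroup.subgroupOfEquivOfLe inf_le_right).toEquiv
      rw [this]
      exact Subgroup.card_dvd_of_le inf_le_left
    exact hodd.of_dvd_nat h1
  · have h1 : C.relIndex M ∣ C.index := Cfsg.Agent.Lib.helper23.relIndex_dvd_index_of_normal_right M C
    rw [ha] at h1
    exact two_pow_of_dvd h1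

lemma hasAH_quotient {H : Type u} [Group H] [Finite H] (h : HasAH H) (N : Subgroup H) [N.Normal] :
    HasAH (H ⧸ N) := by
  obtain ⟨C, hC, hodd, a, ha⟩ := h
  refine ⟨C.map (QuotientGroup.mk' N), inferInstance, ?_, ?_⟩
  · exact hodd.of_dvd_nat (Subgroup.card_map_dvd C _)
  · have h1 := Subgroup.index_map_dvd C (QuotientGroup.mk'_surjective N)
    rw [ha] at h1
    exact two_pow_of_dvd h1

theorem solvable_of_hasAH : ∀ (n : ℕ) (H : Type u) [Group H] [Finite H], Nat.card H = n →
    HasAH H → Group.IsSolvable H := by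
  intro n
  induction n using Nat.strong_induction_on with
  | _ n ih =>
    intro H _ _ hn hAH
    by_cases hex : ∃ M : Subgroup H, M.Normal ∧ M ≠ ⊥ ∧ M ≠ ⊤
    · obtain ⟨M, hMn, hMb, hMt⟩ := hex
      have hM1 : Nat.card M < n := by
        rw [← hn]; exact Cfsg.Agent.S0001.card_lt_of_ne_top M hMt
      have hM2 : Nat.card (H ⧸ M) < n := by
        rw [← hn]; exact Cfsg.Agent.S0001.card_quotient_lt M hMb
      have hs1 : Group.IsSolvable ↥M := ih _ hM1 ↥M rfl (hasAH_normal hAH M)
      have hs2 : Group.IsSolvable (H ⧸ M) := ih _ hM2 (H ⧸ M) rfl (hasAH_quotient hAH M)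
      apply Group.isSolvable_of_ker_le_range M.subtype (QuotientGroup.mk' M)
      rw [QuotientGroup.ker_mk', Subgroup.range_subtype]
    · by_cases hsub : Subsingleton H
      · infer_instance
      · rw [not_subsingleton_iff_nontrivial] at hsub
        have hsimple : IsSimpleGroup H := by
          refine ⟨fun M hM => ?_⟩
          by_contra hcon
          rw [not_or] at hcon
          exact hex ⟨M, hM, hcon.1, hcon.2⟩
        obtain ⟨C, hC, hodd, a, ha⟩ := hAH
        by_cases hCb : C = ⊥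
        · -- H is a 2-group
          have : Fact (Nat.Prime 2) := ⟨Nat.prime_two⟩
          have hc : Nat.card H = 2 ^ a := by
            rw [← ha, hCb, Subgroup.index_bot]
          have hp : IsPGroup 2 H := IsPGroup.of_card hc
          have := hp.isNilpotent
          infer_instance
        · obtain ⟨⟨g, hg⟩, hg1⟩ := (Subgroup.ne_bot_iff_exists_ne_one).mp hCb
          have hg1' : g ≠ 1 := fun h => hg1 (Subtype.ext h)
          have hle : C ≤ Subgroup.centralizer ({g} : Set H) := by
            intro c hc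
            rw [Subgroup.mem_centralizer_iff]
            intro x hx
            rw [Set.mem_singleton_iff] at hx
            rw [hx]
            have h1 := hC.is_comm.comm (⟨g, hg⟩ : ↥C) ⟨c, hc⟩
            have h2 : ((⟨g, hg⟩ * ⟨c, hc⟩ : ↥C) : H) = ((⟨c, hc⟩ * ⟨g, hg⟩ : ↥C) : H) :=
              congrArg Subtype.val h1
            exact h2
          have hidx : (Subgroup.centralizer ({g} : Set H)).index ∣ C.index :=
            Subgroup.index_dvd_of_le hle
          rw [ha] at hidx
          obtain ⟨k, hk⟩ := two_pow_of_dvd hidx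
          have hprime := Cfsg.Agent.S0143.result 2 k Nat.prime_two g hg1' hk
          have : Fact (Nat.card H).Prime := ⟨hprime⟩
          have hcyc : IsCyclic H := isCyclic_of_prime_card rfl
          exact Group.isSolvable_of_comm (fun a b => hcyc.commGroup.mul_comm a b)

lemma hasAH_subgroup {H : Type u} [Group H] [Finite H] (h : HasAH H) (L : Subgroup H) :
    HasAH ↥L := by
  have hsol : Group.IsSolvable H := solvable_of_hasAH _ H rfl h
  obtain ⟨C, hC, hodd, a, ha⟩ := h
  obtain ⟨b, m, hm, hbm⟩ := Nat.exists_eq_two_pow_mul_odd (Nat.card_pos (α := ↥L)).ne'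
  have hm0 : m ≠ 0 := by rintro rfl; simp at hm
  obtain ⟨D, hD⟩ := Cfsg.Agent.Lib.Helper1.hall_exists (G := ↥L) m (2 ^ b)
    (by rw [hbm, mul_comm]) (Nat.Coprime.pow_right _ hm.coprime_two_right)
  have hD' : Nat.card (D.map L.subtype) = m := by
    rw [← hD]
    exact Nat.card_congr (D.equivMapOfInjective _ L.subtype_injective).toEquiv.symm
  obtain ⟨g, hg⟩ := Cfsg.Agent.Lib.Helper1.hall_le_conj (G := H) (Nat.card C) (2 ^ a)
    (by rw [← ha, C.card_mul_index]) (Nat.Coprime.pow_right _ hodd.coprime_two_right) C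
    (D.map L.subtype) rfl (by rw [hD']; exact Nat.Coprime.pow_right _ hm.coprime_two_right)
  refine ⟨D, ⟨⟨fun x y => ?_⟩⟩, by rw [hD]; exact hm, b, ?_⟩
  · have hx : ((x : ↥L) : H) ∈ MulAut.conj g • C := hg ⟨x, x.2, rfl⟩
    have hy : ((y : ↥L) : H) ∈ MulAut.conj g • C := hg ⟨y, y.2, rfl⟩
    obtain ⟨c₁, hc₁, e₁⟩ := Subgroup.mem_smul_pointwise_iff_exists _ _ _ |>.mp hx
    obtain ⟨c₂, hc₂, e₂⟩ := Subgroup.mem_smul_pointwise_iff_exists _ _ _ |>.mp hy
    rw [MulAut.smul_def, MulAut.conj_apply] at e₁ e₂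
    have hcc : c₁ * c₂ = c₂ * c₁ := by
      have h1 := hC.is_comm.comm (⟨c₁, hc₁⟩ : ↥C) ⟨c₂, hc₂⟩
      have h2 : ((⟨c₁, hc₁⟩ * ⟨c₂, hc₂⟩ : ↥C) : H) = ((⟨c₂, hc₂⟩ * ⟨c₁, hc₁⟩ : ↥C) : H) :=
        congrArg Subtype.val h1
      exact h2
    apply Subtype.ext; apply Subtype.ext
    change ((x : ↥L) : H) * ((y : ↥L) : H) = ((y : ↥L) : H) * ((x : ↥L) : H)
    rw [← e₁, ← e₂]
    calc g * c₁ * g⁻¹ * (g * c₂ * g⁻¹) = g * (c₁ * c₂) * g⁻¹ := by group
      _ = g * (c₂ * c₁) * g⁻¹ := by rw [hcc]
      _ = g * c₂ * g⁻¹ * (g * c₁ * g⁻¹) := by group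
  · have h1 := D.card_mul_index
    rw [hD, hbm] at h1
    exact Nat.eq_of_mul_eq_mul_left (Nat.pos_of_ne_zero hm0) (by rw [h1]; ring)


/-- Let H be a finite group in which a Sylow 2-subgroup has an abelian complement (an abelian subgroup meeting it trivially whose product with it is all of H). Then H is solvable, and every subgroup and every quotient group of H again has a Sylow 2-subgroup with an abelian complement. -/
theorem result {H : Type*} [Group H] [Finite H]
    (S : Sylow 2 H) (C : Subgroup H) (hC : IsMulCommutative ↥C) (hSC : Subgroup.IsComplement' (S : Subgroup H) C) :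
    Group.IsSolvable H ∧
    (∀ L : Subgroup H, ∃ (P : Sylow 2 ↥L) (D : Subgroup ↥L), IsMulCommutative ↥D ∧ Subgroup.IsComplement' (P : Subgroup ↥L) D) ∧
    (∀ (N : Subgroup H) [N.Normal], ∃ (P : Sylow 2 (H ⧸ N)) (D : Subgroup (H ⧸ N)),
      IsMulCommutative ↥D ∧ Subgroup.IsComplement' (P : Subgroup (H ⧸ N)) D) := by
  have hAH := hasAH_of_complement S C hC hSC
  refine ⟨solvable_of_hasAH _ H rfl hAH, ?_, ?_⟩
  · intro L
    exact complement_of_hasAH (hasAH_subgroup hAH L)
  · intro N _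
    exact complement_of_hasAH (hasAH_quotient hAH N)

end Cfsg.Agent.S3200
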