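import Mathlib
import Cfsg.Statements.S3201
import Cfsg.Agent.Lib.Helper19.UniqueInvolution
-- import your own Cfsg.Agent.* helpers here

set_option autoImplicit false
open Cfsg

namespace Cfsg.Agent.S3201


theorem sq_mem_of_isCoatom {Z : Type*} [Group Z] [Finite Z] (hZ : IsPGroup 2 Z) (C : Subgroup Z)
    (hC : IsCoatom C) (z : Z) : z * z ∈ C := by
  have : Fact (Nat.Prime 2) := ⟨Nat.prime_two⟩
  obtain ⟨a, ha⟩ := IsPGroup.exists_card_eq (hZ.to_subgroup C)
  obtain ⟨b, hb⟩ := IsPGroup.exists_card_eq hZ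
  have hlt : Nat.card C < Nat.card Z := by
    apply lt_of_le_of_ne (Subgroup.card_le_card_group C)
    intro h
    exact hC.1 ((Subgroup.card_eq_iff_eq_top C).mp h)
  have hab : a < b := by
    rw [ha, hb] at hlt
    exact (Nat.pow_lt_pow_iff_right (by norm_num)).mp hlt
  obtain ⟨K, hK, hCK⟩ := Sylow.exists_subgroup_card_pow_succ (p := 2) (n := a)
    (by rw [hb]; exact pow_dvd_pow 2 hab) ha
  have hKtop : K = ⊤ := by
    apply hC.2 K
    apply lt_of_le_of_ne hCK
    intro h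
    rw [← h, ha] at hK
    have : a = a + 1 := Nat.pow_right_injective (le_refl 2) hK
    omega
  have hidx : C.index = 2 := by
    have h1 := C.card_mul_index
    have hZc : Nat.card Z = 2 ^ (a + 1) := by
      rw [← hK, hKtop, Subgroup.card_top]
    rw [ha, hZc, pow_succ] at h1
    exact Nat.eq_of_mul_eq_mul_left (by positivity) h1
  have := Subgroup.sq_mem_of_index_two hidx z
  rwa [pow_two] at this


theorem main {S : Type*} [Group S] [Finite S] (hS : IsPGroup 2 S) {ι : Type*} (D : ι → Subgroup S)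
    [hDn : ∀ j, (D j).Normal]
    (hDZ : ∀ j, D j ≤ Subgroup.center S)
    (hsq : ∀ z ∈ Subgroup.center S, z * z = 1)
    (hne : ∀ j, ∃ w ∈ Subgroup.center S, w ∉ D j)
    (hint : ∀ x : S, (∀ j, x ∈ D j) → x = 1)
    (hq : ∀ j, ¬ IsMulCommutative (S ⧸ D j) ∧ ∃! x : S ⧸ D j, orderOf x = 2) (i0 : ι) :
    ∃ E Q : Subgroup S, Cfsg.IsInternalDirectProduct E Q ⊤ ∧ Cfsg.IsElementaryAbelian 2 E ∧
      ¬ IsMulCommutative ↥Q ∧ ∃! x : ↥Q, orderOf x = 2 := by
  classical
  have : Fact (Nat.Prime 2) := ⟨Nat.prime_two⟩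
  -- facts for each quotient
  have hfacts : ∀ j, ∃ u : S ⧸ D j, u ≠ 1 ∧ u * u = 1 ∧
      (∀ v : S ⧸ D j, v * v = 1 → v = 1 ∨ v = u) ∧
      ∃ w ∈ Subgroup.center S, (QuotientGroup.mk w : S ⧸ D j) = u := by
    intro j
    obtain ⟨-, zb, hzb, hzuniq⟩ := hq j
    have hzb2 : zb * zb = 1 := by rw [← pow_two, ← hzb, pow_orderOf_eq_one]
    have hzb1 : zb ≠ 1 := by intro h; rw [h, orderOf_one] at hzb; omega
    have huniq : ∀ u : S ⧸ D j, u * u = 1 → u = 1 ∨ u = zb := by
      intro u hu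
      by_cases h1 : u = 1
      · exact Or.inl h1
      · right
        apply hzuniq
        exact orderOf_eq_prime (by rw [pow_two]; exact hu) h1
    obtain ⟨w, hwZ, hwD⟩ := hne j
    refine ⟨zb, hzb1, hzb2, huniq, w, hwZ, ?_⟩
    have h1 : (QuotientGroup.mk w : S ⧸ D j) * QuotientGroup.mk w = 1 := by
      rw [← QuotientGroup.mk_mul, hsq w hwZ]; rfl
    rcases huniq _ h1 with h | h
    · exfalso; exact hwD ((QuotientGroup.eq_one_iff w).mp h)
    · exact h
  -- Lemma B
  have hB : ∀ j (g : S), (QuotientGroup.mk g : S ⧸ D j) * QuotientGroup.mk g = 1 →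
      g ∈ Subgroup.center S := by
    intro j g hg
    obtain ⟨u, hu1, hu2, huniq, w, hwZ, hwu⟩ := hfacts j
    rcases huniq _ hg with h | h
    · exact hDZ j ((QuotientGroup.eq_one_iff g).mp h)
    · rw [← hwu] at h
      have h2 : g⁻¹ * w ∈ D j := QuotientGroup.eq.mp h
      have h3 : g⁻¹ * w ∈ Subgroup.center S := hDZ j h2
      have : g = w * (g⁻¹ * w)⁻¹ := by group
      rw [this]
      exact Subgroup.mul_mem _ hwZ (Subgroup.inv_mem _ h3)
  -- Lemma C
  have hC : ∀ g h : S, g ∉ Subgroup.center S → g * g ∈ Subgroup.center S →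
      h ∉ Subgroup.center S → h * h ∈ Subgroup.center S → g * g = h * h := by
    intro g h hg hgg hh hhh
    have : (g * g)⁻¹ * (h * h) = 1 := by
      apply hint
      intro j
      obtain ⟨u, hu1, hu2, huniq, w, hwZ, hwu⟩ := hfacts j
      have hA : ∀ x : S, x ∉ Subgroup.center S → x * x ∈ Subgroup.center S →
          (QuotientGroup.mk (x * x) : S ⧸ D j) = u := by
        intro x hx hxx
        have h1 : (QuotientGroup.mk (x * x) : S ⧸ D j) * QuotientGroup.mk (x * x) = 1 := by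
          rw [← QuotientGroup.mk_mul, hsq _ hxx]; rfl
        rcases huniq _ h1 with h | h
        · exfalso
          apply hx
          apply hB j x
          rw [← QuotientGroup.mk_mul]; exact h
        · exact h
      apply QuotientGroup.eq.mp
      rw [hA g hg hgg, hA h hh hhh]
    exact inv_mul_eq_one.mp this
  -- the quotient by `D i0`
  obtain ⟨zb, hzb1, hzb2, huniq, w0, hw0Z, hw0⟩ := hfacts i0
  have hQp : IsPGroup 2 (S ⧸ D i0) := hS.to_quotient (D i0)
  have hnab' : ¬ ∀ g h : S ⧸ D i0, g * h = h * g := fun h => (hq i0).1 ⟨⟨h⟩⟩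
  obtain ⟨m, hm, ab, yb, hao, hyA, hinv, hyy, hza, hcov, hcard⟩ :=
    Cfsg.Agent.Lib.Helper19.quaternion_structure hQp zb hzb1 hzb2 huniq hnab'
  obtain ⟨m', rfl⟩ : ∃ m', m = m' + 2 := ⟨m - 2, by omega⟩
  have hza' : ab ^ (2 ^ (m' + 1)) = zb := by
    have : m' + 2 - 1 = m' + 1 := by omega
    rw [this] at hza; exact hza
  obtain ⟨X, rfl⟩ := QuotientGroup.mk_surjective ab
  obtain ⟨Y, rfl⟩ := QuotientGroup.mk_surjective yb
  have hzbZ : ∀ g : S, (QuotientGroup.mk g : S ⧸ D i0) = zb → g ∈ Subgroup.center S := by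
    intro g hg
    apply hB i0 g
    rw [hg, hzb2]
  have hnc : (QuotientGroup.mk Y : S ⧸ D i0) * QuotientGroup.mk X ≠
      QuotientGroup.mk X * QuotientGroup.mk Y := by
    intro h
    have h1 : (QuotientGroup.mk X : S ⧸ D i0)⁻¹ = QuotientGroup.mk X := by
      rw [← hinv, h]; group
    have h2 : (QuotientGroup.mk X : S ⧸ D i0) ^ 2 = 1 := by
      rw [pow_two]; nth_rewrite 1 [← h1]; exact inv_mul_cancel _
    have h3 := orderOf_dvd_of_pow_eq_one h2
    rw [hao] at h3
    have h4 := Nat.le_of_dvd (by norm_num) h3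
    have h5 : 2 ^ 2 ≤ 2 ^ (m' + 2) := Nat.pow_le_pow_right (by norm_num) hm
    omega
  have hX1sq : X ^ (2 ^ m') * X ^ (2 ^ m') = X ^ (2 ^ (m' + 1)) := by
    rw [← pow_add]; congr 1; ring
  have hX1img : (QuotientGroup.mk (X ^ (2 ^ m') * X ^ (2 ^ m')) : S ⧸ D i0) = zb := by
    rw [hX1sq, QuotientGroup.mk_pow, hza']
  have hX1Z : X ^ (2 ^ m') * X ^ (2 ^ m') ∈ Subgroup.center S := hzbZ _ hX1img
  have hX1n : X ^ (2 ^ m') ∉ Subgroup.center S := by
    intro h
    have h1 : (QuotientGroup.mk Y : S ⧸ D i0) * QuotientGroup.mk (X ^ (2 ^ m')) *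
        (QuotientGroup.mk Y)⁻¹ = (QuotientGroup.mk (X ^ (2 ^ m')))⁻¹ := by
      rw [QuotientGroup.mk_pow, ← conj_pow, hinv, inv_pow]
    have h2 : Y * X ^ (2 ^ m') * Y⁻¹ = X ^ (2 ^ m') := by
      rw [Subgroup.mem_center_iff.mp h Y]; group
    have h3 : (QuotientGroup.mk (X ^ (2 ^ m')) : S ⧸ D i0)⁻¹ = QuotientGroup.mk (X ^ (2 ^ m')) := by
      rw [← h1, ← QuotientGroup.mk_inv, ← QuotientGroup.mk_mul, ← QuotientGroup.mk_mul, h2]
    apply hzb1
    rw [← hX1img, QuotientGroup.mk_mul]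
    nth_rewrite 1 [← h3]
    exact inv_mul_cancel _
  have hYn : Y ∉ Subgroup.center S := by
    intro h
    apply hnc
    rw [← QuotientGroup.mk_mul, ← QuotientGroup.mk_mul, Subgroup.mem_center_iff.mp h X]
  have hYYimg : (QuotientGroup.mk (Y * Y) : S ⧸ D i0) = zb := by
    rw [QuotientGroup.mk_mul]; exact hyy
  have hYYZ : Y * Y ∈ Subgroup.center S := hzbZ _ hYYimg
  have hYXn : Y * X ∉ Subgroup.center S := by
    intro h
    apply hnc
    have h1 := Subgroup.mem_center_iff.mp h X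
    have h2 : X * Y = Y * X := mul_right_cancel (b := X) (by rw [mul_assoc]; exact h1)
    rw [← QuotientGroup.mk_mul, ← QuotientGroup.mk_mul, h2]
  have hYXimg : (QuotientGroup.mk ((Y * X) * (Y * X)) : S ⧸ D i0) = zb := by
    simp only [QuotientGroup.mk_mul]
    have hzc := Cfsg.Agent.Lib.Helper19.unique_involution_central zb hzb1 hzb2 huniq
    calc (QuotientGroup.mk Y : S ⧸ D i0) * QuotientGroup.mk X * (QuotientGroup.mk Y * QuotientGroup.mk X)
        = (QuotientGroup.mk Y * QuotientGroup.mk X * (QuotientGroup.mk Y)⁻¹) *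
          (QuotientGroup.mk Y * QuotientGroup.mk Y) * QuotientGroup.mk X := by group
      _ = (QuotientGroup.mk X)⁻¹ * zb * QuotientGroup.mk X := by rw [hinv, hyy]
      _ = zb := by
          have := hzc (QuotientGroup.mk X : S ⧸ D i0)⁻¹
          rw [inv_inv] at this; exact this
  have hYXZ : (Y * X) * (Y * X) ∈ Subgroup.center S := hzbZ _ hYXimg
  have hs1 : X ^ (2 ^ m') * X ^ (2 ^ m') = Y * Y := hC _ Y hX1n hX1Z hYn hYYZ
  have hs2 : (Y * X) * (Y * X) = Y * Y := hC (Y * X) Y hYXn hYXZ hYn hYYZ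
  have hss : (Y * Y) * (Y * Y) = 1 := hsq _ hYYZ
  have hs_ne : Y * Y ≠ 1 := by
    intro h; apply hzb1; rw [← hYYimg, h]; rfl
  have hXpow : X ^ (2 ^ (m' + 1)) = Y * Y := by rw [← hX1sq, hs1]
  have hXord_pow : X ^ (2 ^ (m' + 2)) = 1 := by
    rw [pow_succ 2 (m' + 1), pow_mul, hXpow, pow_two, hss]
  have hXord : orderOf X = 2 ^ (m' + 2) := by
    apply Nat.dvd_antisymm (orderOf_dvd_of_pow_eq_one hXord_pow)
    rw [← hao]
    exact orderOf_map_dvd (QuotientGroup.mk' (D i0)) X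
  have hrel : Y * X * Y⁻¹ = X⁻¹ := by
    have h1 : X * Y * X = Y := by
      have : Y * (X * Y * X) = Y * Y := by rw [← hs2]; group
      exact mul_left_cancel this
    calc Y * X * Y⁻¹ = X⁻¹ * (X * Y * X) * Y⁻¹ := by group
      _ = X⁻¹ := by rw [h1]; group
  have hinvA : ∀ a ∈ Subgroup.zpowers X, Y * a * Y⁻¹ = a⁻¹ := by
    intro a ha
    obtain ⟨k, rfl⟩ := Subgroup.mem_zpowers_iff.mp ha
    rw [← conj_zpow, hrel, inv_zpow]
  have hinvA' : ∀ a ∈ Subgroup.zpowers X, Y⁻¹ * a * Y = a⁻¹ := by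
    intro a ha
    have h1 := hinvA a⁻¹ (Subgroup.inv_mem _ ha)
    rw [inv_inv] at h1
    calc Y⁻¹ * a * Y = Y⁻¹ * (Y * a⁻¹ * Y⁻¹) * Y := by rw [h1]
      _ = a⁻¹ := by group
  have hsA : Y * Y ∈ Subgroup.zpowers X := by
    rw [← hXpow]; exact Subgroup.pow_mem _ (Subgroup.mem_zpowers X) _
  let Q : Subgroup S :=
    { carrier := {g | g ∈ Subgroup.zpowers X ∨ g * Y⁻¹ ∈ Subgroup.zpowers X}
      one_mem' := Or.inl (Subgroup.one_mem _)
      mul_mem' := by
        rintro g h (hg | hg) (hh | hh)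
        · exact Or.inl (Subgroup.mul_mem _ hg hh)
        · right
          have : g * h * Y⁻¹ = g * (h * Y⁻¹) := by group
          rw [this]; exact Subgroup.mul_mem _ hg hh
        · right
          have : g * h * Y⁻¹ = (g * Y⁻¹) * (Y * h * Y⁻¹) := by group
          rw [this, hinvA h hh]; exact Subgroup.mul_mem _ hg (Subgroup.inv_mem _ hh)
        · left
          have : g * h = (g * Y⁻¹) * (Y * (h * Y⁻¹) * Y⁻¹) * (Y * Y) := by group
          rw [this, hinvA _ hh]
          exact Subgroup.mul_mem _ (Subgroup.mul_mem _ hg (Subgroup.inv_mem _ hh)) hsA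
      inv_mem' := by
        rintro g (hg | hg)
        · exact Or.inl (Subgroup.inv_mem _ hg)
        · right
          have : g⁻¹ * Y⁻¹ = (Y⁻¹ * (g * Y⁻¹)⁻¹ * Y) * (Y * Y)⁻¹ := by group
          rw [this, hinvA' _ (Subgroup.inv_mem _ hg), inv_inv]
          exact Subgroup.mul_mem _ hg (Subgroup.inv_mem _ hsA) }
  have hXQ : X ∈ Q := Or.inl (Subgroup.mem_zpowers X)
  have hYQ : Y ∈ Q := Or.inr (by rw [mul_inv_cancel]; exact Subgroup.one_mem _)
  have hsQ : Y * Y ∈ Q := Or.inl hsA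
  have hcap : ∀ g, g ∈ D i0 → g ∈ Q → g = 1 := by
    intro g hgD hgQ
    have hg1 : (QuotientGroup.mk g : S ⧸ D i0) = 1 := (QuotientGroup.eq_one_iff g).mpr hgD
    rcases hgQ with hg | hg
    · obtain ⟨k, rfl⟩ := Subgroup.mem_zpowers_iff.mp hg
      rw [QuotientGroup.mk_zpow] at hg1
      have h1 := orderOf_dvd_iff_zpow_eq_one.mpr hg1
      rw [hao, ← hXord] at h1
      exact orderOf_dvd_iff_zpow_eq_one.mp h1
    · exfalso
      obtain ⟨k, hk⟩ := Subgroup.mem_zpowers_iff.mp hg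
      apply hyA
      have h1 : ((QuotientGroup.mk X : S ⧸ D i0)) ^ k = (QuotientGroup.mk Y)⁻¹ := by
        rw [← QuotientGroup.mk_zpow, hk, QuotientGroup.mk_mul, hg1, one_mul, QuotientGroup.mk_inv]
      rw [← inv_inv (QuotientGroup.mk Y : S ⧸ D i0), ← h1]
      exact Subgroup.inv_mem _ (Subgroup.zpow_mem_zpowers _ _)
  refine ⟨D i0, Q, ⟨le_top, le_top, ?_, ?_, ?_⟩, ⟨?_, ?_⟩, ?_, ?_⟩
  · intro a ha b _
    exact (Subgroup.mem_center_iff.mp (hDZ i0 ha) b).symm
  · rw [eq_bot_iff]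
    intro g hg
    rw [Subgroup.mem_bot]
    exact hcap g hg.1 hg.2
  · rw [eq_top_iff]
    intro g _
    rcases hcov (QuotientGroup.mk g) with h | h
    · obtain ⟨k, hk⟩ := Subgroup.mem_zpowers_iff.mp h
      have hd : (X ^ k)⁻¹ * g ∈ D i0 := by
        rw [← QuotientGroup.eq_one_iff]
        simp only [QuotientGroup.mk_mul, QuotientGroup.mk_inv, QuotientGroup.mk_zpow]
        rw [hk, inv_mul_cancel]
      have hc := Subgroup.mem_center_iff.mp (hDZ i0 hd)
      have hg : g = ((X ^ k)⁻¹ * g) * X ^ k := by rw [← hc (X ^ k)]; group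
      rw [hg]
      exact Subgroup.mul_mem_sup hd (Or.inl (Subgroup.zpow_mem_zpowers _ _))
    · obtain ⟨k, hk⟩ := Subgroup.mem_zpowers_iff.mp h
      have hd : (X ^ k)⁻¹ * g * Y⁻¹ ∈ D i0 := by
        rw [← QuotientGroup.eq_one_iff]
        simp only [QuotientGroup.mk_mul, QuotientGroup.mk_inv, QuotientGroup.mk_zpow]
        rw [hk]; group
      have hc := Subgroup.mem_center_iff.mp (hDZ i0 hd)
      have hg : g = ((X ^ k)⁻¹ * g * Y⁻¹) * (X ^ k * Y) := by
        calc g = X ^ k * ((X ^ k)⁻¹ * g * Y⁻¹) * Y := by group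
          _ = ((X ^ k)⁻¹ * g * Y⁻¹) * X ^ k * Y := by rw [hc (X ^ k)]
          _ = ((X ^ k)⁻¹ * g * Y⁻¹) * (X ^ k * Y) := by group
      rw [hg]
      refine Subgroup.mul_mem_sup hd (Or.inr ?_)
      have : X ^ k * Y * Y⁻¹ = X ^ k := by group
      rw [this]; exact Subgroup.zpow_mem_zpowers _ _
  · exact ⟨⟨fun a b => Subtype.ext (Subgroup.mem_center_iff.mp (hDZ i0 b.2) a.1)⟩⟩
  · intro a ha; rw [pow_two]; exact hsq a (hDZ i0 ha)
  · intro hcomm
    have h1 := hcomm.is_comm.comm (⟨X, hXQ⟩ : Q) ⟨Y, hYQ⟩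
    have h2 : X * Y = Y * X := congrArg Subtype.val h1
    apply hnc
    rw [← QuotientGroup.mk_mul, ← QuotientGroup.mk_mul, h2]
  · refine ⟨⟨Y * Y, hsQ⟩, ?_, ?_⟩
    · show orderOf (⟨Y * Y, hsQ⟩ : Q) = 2
      rw [← Subgroup.orderOf_coe]
      exact orderOf_eq_prime (by rw [pow_two]; exact hss) hs_ne
    · intro t ht
      have hto : orderOf (t : S) = 2 := by rw [Subgroup.orderOf_coe]; exact ht
      have ht2 : (t : S) * (t : S) = 1 := by
        rw [← pow_two, ← hto, pow_orderOf_eq_one]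
      have ht1 : (t : S) ≠ 1 := by
        intro h
        rw [h, orderOf_one] at hto; omega
      have himg : (QuotientGroup.mk (t : S) : S ⧸ D i0) * QuotientGroup.mk (t : S) = 1 := by
        rw [← QuotientGroup.mk_mul, ht2]; rfl
      apply Subtype.ext
      show (t : S) = Y * Y
      rcases huniq _ himg with h | h
      · exfalso; exact ht1 (hcap _ ((QuotientGroup.eq_one_iff _).mp h) t.2)
      · rw [← hYYimg] at h
        have h2 : (t : S)⁻¹ * (Y * Y) ∈ D i0 := QuotientGroup.eq.mp h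
        have h3 : (t : S)⁻¹ * (Y * Y) ∈ Q := Subgroup.mul_mem _ (Subgroup.inv_mem _ t.2) hsQ
        have := hcap _ h2 h3
        exact inv_mul_eq_one.mp this

/-- Let S be a finite 2-group whose centre Z(S) has n ≥ 2 distinct maximal subgroups C₁, …, Cₙ with trivial intersection such that each quotient S/Cᵢ is a non-abelian group with exactly one involution (a generalized quaternion group). Then S is the internal direct product of an elementary abelian subgroup and a non-abelian subgroup with exactly one involution. -/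
theorem result {S : Type*} [Group S] [Finite S]
    (hS : IsPGroup 2 S) (n : ℕ) (hn : 2 ≤ n) (C : Fin n → Subgroup ↥(Subgroup.center S))
    (hCmax : ∀ i, IsCoatom (C i)) (hCinj : Function.Injective C) (hCint : ⨅ i, C i = ⊥)
    (hCq : ∀ i, ∃ (_ : ((C i).map (Subgroup.center S).subtype).Normal),
      ¬ IsMulCommutative (S ⧸ (C i).map (Subgroup.center S).subtype) ∧
      ∃! x : S ⧸ (C i).map (Subgroup.center S).subtype, orderOf x = 2) :
    ∃ E Q : Subgroup S, Cfsg.IsInternalDirectProduct E Q ⊤ ∧ Cfsg.IsElementaryAbelian 2 E ∧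
      ¬ IsMulCommutative ↥Q ∧ ∃! x : ↥Q, orderOf x = 2 := by
  classical
  have hZ2 : IsPGroup 2 ↥(Subgroup.center S) := hS.to_subgroup _
  have hsqZ : ∀ z : ↥(Subgroup.center S), z * z = 1 := by
    intro z
    have : z * z ∈ ⨅ i, C i := by
      rw [Subgroup.mem_iInf]
      intro i
      exact sq_mem_of_isCoatom hZ2 (C i) (hCmax i) z
    rw [hCint, Subgroup.mem_bot] at this
    exact this
  have i0 : Fin n := ⟨0, by omega⟩
  have hDn : ∀ j, ((C j).map (Subgroup.center S).subtype).Normal := fun j => (hCq j).fst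
  refine @main S _ _ hS (Fin n) (fun j => (C j).map (Subgroup.center S).subtype) hDn ?_ ?_ ?_ ?_ ?_ i0
  · rintro j _ ⟨c, _, rfl⟩; exact c.2
  · intro z hz
    have := hsqZ ⟨z, hz⟩
    exact congrArg Subtype.val this
  · intro j
    obtain ⟨w, hw⟩ : ∃ w : ↥(Subgroup.center S), w ∉ C j := by
      by_contra h
      push Not at h
      exact (hCmax j).1 (eq_top_iff.mpr fun w _ => h w)
    refine ⟨w.1, w.2, ?_⟩
    rintro ⟨c, hc, hcw⟩
    have : c = w := Subtype.ext hcw
    exact hw (this ▸ hc)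
  · intro x hx
    have hxZ : x ∈ Subgroup.center S := by
      obtain ⟨c, _, rfl⟩ := hx i0; exact c.2
    have : (⟨x, hxZ⟩ : ↥(Subgroup.center S)) ∈ ⨅ i, C i := by
      rw [Subgroup.mem_iInf]
      intro i
      obtain ⟨c, hc, hcx⟩ := hx i
      have : c = ⟨x, hxZ⟩ := Subtype.ext hcx
      exact this ▸ hc
    rw [hCint, Subgroup.mem_bot] at this
    exact congrArg Subtype.val this
  · intro j
    exact (hCq j).snd

end Cfsg.Agent.S3201
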