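import Mathlib
import Cfsg.Statements.S3202
import Cfsg.Agent.Lib.Helper19.UniqueInvolution
-- import your own Cfsg.Agent.* helpers here

set_option autoImplicit false
open Cfsg
open scoped commutatorElement

namespace Cfsg.Agent.S3202

/-- If `S / D` (with `D` central) is generated by images of `X`, `Y` with `Y` inverting `X` modulo `D`
in the quaternion manner, then every commutator of `S` is a power of `w = X⁻² d₁`. -/
theorem commutator_le_zpowers {S : Type*} [Group S] (D : Subgroup S)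
    (hD : ∀ d ∈ D, ∀ g : S, g * d = d * g) (X Y d₁ : S) (hd₁ : d₁ ∈ D)
    (hrel : Y * X * Y⁻¹ = X⁻¹ * d₁)
    (hcover : ∀ s : S, (∃ k : ℤ, ∃ d ∈ D, s = X ^ k * d) ∨ (∃ k : ℤ, ∃ d ∈ D, s = X ^ k * d * Y)) :
    commutator S ≤ Subgroup.zpowers (X⁻¹ * X⁻¹ * d₁) := by
  set w := X⁻¹ * X⁻¹ * d₁ with hw
  have hcd : ∀ g : S, Commute g d₁ := fun g => hD d₁ hd₁ g
  have h1 : ∀ l : ℤ, Y * X ^ l * Y⁻¹ = X ^ (-l) * d₁ ^ l := by
    intro l
    have : Y * X ^ l * Y⁻¹ = (Y * X * Y⁻¹) ^ l := (conj_zpow (a := Y) (b := X) (i := l)).symm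
    rw [this, hrel, (hcd X⁻¹).mul_zpow, inv_zpow, zpow_neg]
  have h2 : ∀ l : ℤ, w ^ l = X ^ (-(2 * l)) * d₁ ^ l := by
    intro l
    rw [hw, ((hcd (X⁻¹ * X⁻¹))).mul_zpow]
    congr 1
    rw [← zpow_neg_one, ← zpow_add, ← zpow_mul]
    congr 1
    ring
  rw [commutator_def, Subgroup.commutator_le]
  intro g _ h _
  -- the four cases
  have key1 : ∀ (k l : ℤ) (d d' : S), d ∈ D → d' ∈ D → ⁅X ^ k * d, X ^ l * d'⁆ = 1 := by
    intro k l d d' hd hd'
    rw [commutatorElement_eq_one_iff_mul_comm]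
    have c1 : Commute (X ^ k) (X ^ l) := (Commute.refl X).zpow_zpow k l
    have c2 : Commute (X ^ k) d' := hD d' hd' _
    have c3 : Commute d (X ^ l) := (hD d hd _).symm
    have c4 : Commute d d' := hD d' hd' d
    exact ((c1.mul_right c2).mul_left (c3.mul_right c4)).eq
  have cl : ∀ (d : S), d ∈ D → ∀ g h : S, ⁅g * d, h⁆ = ⁅g, h⁆ := by
    intro d hd g h
    rw [commutatorElement_def, commutatorElement_def]
    have e : g * d * h * (g * d)⁻¹ * h⁻¹ = g * (d * h * d⁻¹) * g⁻¹ * h⁻¹ := by group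
    have e2 : d * h * d⁻¹ = h := by rw [← hD d hd h]; group
    rw [e, e2]
  have cr : ∀ (d : S), d ∈ D → ∀ g h : S, ⁅g, h * d⁆ = ⁅g, h⁆ := by
    intro d hd g h
    rw [commutatorElement_def, commutatorElement_def]
    have e : g * (h * d) * g⁻¹ * (h * d)⁻¹ = g * h * (d * g⁻¹ * d⁻¹) * h⁻¹ := by group
    have e2 : d * g⁻¹ * d⁻¹ = g⁻¹ := by rw [← hD d hd g⁻¹]; group
    rw [e, e2]
  have key2' : ∀ (k l : ℤ), ⁅X ^ k * Y, X ^ l⁆ = w ^ l := by
    intro k l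
    rw [commutatorElement_def, h2]
    have e1 : X ^ k * Y * X ^ l * (X ^ k * Y)⁻¹ * (X ^ l)⁻¹ =
        X ^ k * (Y * X ^ l * Y⁻¹) * (X ^ k)⁻¹ * (X ^ l)⁻¹ := by group
    rw [e1, h1]
    have c : Commute (d₁ ^ l) ((X ^ k)⁻¹ * (X ^ l)⁻¹) := ((hcd _).zpow_right l).symm
    calc X ^ k * (X ^ (-l) * d₁ ^ l) * (X ^ k)⁻¹ * (X ^ l)⁻¹
        = X ^ k * X ^ (-l) * (d₁ ^ l * ((X ^ k)⁻¹ * (X ^ l)⁻¹)) := by group
      _ = X ^ k * X ^ (-l) * (((X ^ k)⁻¹ * (X ^ l)⁻¹) * d₁ ^ l) := by rw [c.eq]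
      _ = X ^ (k + -l + -k + -l) * d₁ ^ l := by
          rw [zpow_add, zpow_add, zpow_add, zpow_neg, zpow_neg]; group
      _ = X ^ (-(2 * l)) * d₁ ^ l := by
          congr 2; ring
  have key3' : ∀ (k l : ℤ), ⁅X ^ k * Y, X ^ l * Y⁆ = w ^ (l - k) := by
    intro k l
    rw [commutatorElement_def, h2]
    have e1 : X ^ k * Y * (X ^ l * Y) * (X ^ k * Y)⁻¹ * (X ^ l * Y)⁻¹ =
        X ^ k * (Y * (X ^ l * (X ^ k)⁻¹) * Y⁻¹) * (X ^ l)⁻¹ := by group
    rw [e1, ← zpow_sub, h1]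
    have c : Commute (d₁ ^ (l - k)) ((X ^ l)⁻¹) := ((hcd _).zpow_right (l - k)).symm
    calc X ^ k * (X ^ (-(l - k)) * d₁ ^ (l - k)) * (X ^ l)⁻¹
        = X ^ k * X ^ (-(l - k)) * (d₁ ^ (l - k) * (X ^ l)⁻¹) := by group
      _ = X ^ k * X ^ (-(l - k)) * ((X ^ l)⁻¹ * d₁ ^ (l - k)) := by rw [c.eq]
      _ = X ^ (k + -(l - k) + -l) * d₁ ^ (l - k) := by
          rw [zpow_add, zpow_add, zpow_neg X l]; group
      _ = X ^ (-(2 * (l - k))) * d₁ ^ (l - k) := by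
          congr 2; ring
  have swap : ∀ (k : ℤ) (d : S), d ∈ D → X ^ k * d * Y = X ^ k * Y * d := by
    intro k d hd
    rw [mul_assoc, ← hD d hd Y, mul_assoc]
  have key2 : ∀ (k l : ℤ) (d d' : S), d ∈ D → d' ∈ D → ⁅X ^ k * d * Y, X ^ l * d'⁆ = w ^ l := by
    intro k l d d' hd hd'
    rw [swap k d hd, cl d hd, cr d' hd', key2']
  have key3 : ∀ (k l : ℤ) (d d' : S), d ∈ D → d' ∈ D → ⁅X ^ k * d * Y, X ^ l * d' * Y⁆ = w ^ (l - k) := by
    intro k l d d' hd hd'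
    rw [swap k d hd, swap l d' hd', cl d hd, cr d' hd', key3']
  rcases hcover g with ⟨k, d, hd, rfl⟩ | ⟨k, d, hd, rfl⟩ <;>
    rcases hcover h with ⟨l, d', hd', rfl⟩ | ⟨l, d', hd', rfl⟩
  · rw [key1 k l d d' hd hd']; exact Subgroup.one_mem _
  · have := key2 l k d' d hd' hd
    rw [← commutatorElement_inv, this]
    exact Subgroup.inv_mem _ (Subgroup.zpow_mem_zpowers _ _)
  · rw [key2 k l d d' hd hd']; exact Subgroup.zpow_mem_zpowers _ _
  · rw [key3 k l d d' hd hd']; exact Subgroup.zpow_mem_zpowers _ _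


theorem main {S : Type*} [Group S] [Finite S] (hS : IsPGroup 2 S) (D' : Subgroup S) [D'.Normal]
    (hDc : ∀ d ∈ D', ∀ g : S, g * d = d * g) (hnab : ¬ IsMulCommutative (S ⧸ D'))
    (hz : ∃! x : S ⧸ D', orderOf x = 2) :
    ∃ C : Subgroup S, C ≠ ⊥ ∧ IsCyclic ↥C ∧ C.Characteristic := by
  classical
  have : Fact (Nat.Prime 2) := ⟨Nat.prime_two⟩
  obtain ⟨zb, hzb, hzuniq⟩ := hz
  have hQp : IsPGroup 2 (S ⧸ D') := hS.to_quotient D'
  have hzb2 : zb * zb = 1 := by rw [← pow_two, ← hzb, pow_orderOf_eq_one]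
  have hzb1 : zb ≠ 1 := by intro h; rw [h, orderOf_one] at hzb; omega
  have huniq : ∀ u : S ⧸ D', u * u = 1 → u = 1 ∨ u = zb := by
    intro u hu
    by_cases h1 : u = 1
    · exact Or.inl h1
    · right
      apply hzuniq
      exact orderOf_eq_prime (by rw [pow_two]; exact hu) h1
  have hnab' : ¬ ∀ g h : S ⧸ D', g * h = h * g := by
    intro h
    exact hnab ⟨⟨h⟩⟩
  obtain ⟨n, hn, ab, yb, hao, hyA, hinv, hyy, hza, hcov, hcard⟩ :=
    Cfsg.Agent.Lib.Helper19.quaternion_structure hQp zb hzb1 hzb2 huniq hnab'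
  obtain ⟨X, rfl⟩ := QuotientGroup.mk_surjective ab
  obtain ⟨Y, rfl⟩ := QuotientGroup.mk_surjective yb
  -- d₁
  set d₁ := X * (Y * X * Y⁻¹) with hd₁
  have hd₁D : d₁ ∈ D' := by
    rw [← QuotientGroup.eq_one_iff, hd₁]
    simp only [QuotientGroup.mk_mul, QuotientGroup.mk_inv]
    rw [hinv, mul_inv_cancel]
  have hrel : Y * X * Y⁻¹ = X⁻¹ * d₁ := by rw [hd₁]; group
  have hcover : ∀ s : S, (∃ k : ℤ, ∃ d ∈ D', s = X ^ k * d) ∨ (∃ k : ℤ, ∃ d ∈ D', s = X ^ k * d * Y) := by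
    intro s
    rcases hcov (QuotientGroup.mk s) with h | h
    · left
      obtain ⟨k, hk⟩ := Subgroup.mem_zpowers_iff.mp h
      refine ⟨k, (X ^ k)⁻¹ * s, ?_, by group⟩
      rw [← QuotientGroup.eq_one_iff]
      simp only [QuotientGroup.mk_mul, QuotientGroup.mk_inv, QuotientGroup.mk_zpow]
      rw [hk, inv_mul_cancel]
    · right
      obtain ⟨k, hk⟩ := Subgroup.mem_zpowers_iff.mp h
      refine ⟨k, (X ^ k)⁻¹ * s * Y⁻¹, ?_, by group⟩
      rw [← QuotientGroup.eq_one_iff]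
      simp only [QuotientGroup.mk_mul, QuotientGroup.mk_inv, QuotientGroup.mk_zpow]
      rw [hk]
      group
  have hle := commutator_le_zpowers D' hDc X Y d₁ hd₁D hrel hcover
  refine ⟨commutator S, ?_, ?_, ?_⟩
  · intro hbot
    apply hnab'
    intro g h
    obtain ⟨g, rfl⟩ := QuotientGroup.mk_surjective g
    obtain ⟨h, rfl⟩ := QuotientGroup.mk_surjective h
    have : ⁅g, h⁆ ∈ commutator S := by
      rw [commutator_def]
      exact Subgroup.commutator_mem_commutator (Subgroup.mem_top g) (Subgroup.mem_top h)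
    rw [hbot, Subgroup.mem_bot, commutatorElement_eq_one_iff_mul_comm] at this
    rw [← QuotientGroup.mk_mul, ← QuotientGroup.mk_mul, this]
  · exact Subgroup.isCyclic_of_le hle
  · exact Subgroup.commutator_characteristic ⊤ ⊤

/-- Let S be a finite 2-group of 2-rank exactly 2 and D a maximal subgroup of the centre of S such that S/D is a non-abelian group with exactly one involution (a generalized quaternion group). Then S has a nontrivial cyclic characteristic subgroup. -/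
theorem result {S : Type*} [Group S]
    [Finite S] (hS : IsPGroup 2 S) (hr2 : Cfsg.PRankLE 2 2 S) (hr1 : ¬ Cfsg.PRankLE 2 1 S)
    (D : Subgroup ↥(Subgroup.center S)) (hD : IsCoatom D)
    (hq : ∃ (_ : (D.map (Subgroup.center S).subtype).Normal),
      ¬ IsMulCommutative (S ⧸ D.map (Subgroup.center S).subtype) ∧
      ∃! x : S ⧸ D.map (Subgroup.center S).subtype, orderOf x = 2) :
    ∃ C : Subgroup S, C ≠ ⊥ ∧ IsCyclic ↥C ∧ C.Characteristic := by
  obtain ⟨hDn, hnab, hz⟩ := hq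
  have hDc : ∀ d ∈ D.map (Subgroup.center S).subtype, ∀ g : S, g * d = d * g := by
    rintro _ ⟨c, _, rfl⟩ g
    exact Subgroup.mem_center_iff.mp c.2 g
  exact @main S _ _ hS (D.map (Subgroup.center S).subtype) hDn hDc hnab hz

end Cfsg.Agent.S3202
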