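import Mathlib
import Cfsg.Statements.S3203
import Cfsg.Agent.Lib.Helper9.SylowConj
-- import your own Cfsg.Agent.* helpers here

set_option autoImplicit false
open Cfsg

namespace Cfsg.Agent.S3203

section
variable {G : Type*} [Group G]

/-- conjugate subgroup -/
abbrev cj (g : G) (W : Subgroup G) : Subgroup G := W.map (MulAut.conj g).toMonoidHom

theorem mem_cj (g x : G) (W : Subgroup G) : x ∈ cj g W ↔ g⁻¹ * x * g ∈ W :=
  Cfsg.Agent.Lib.Helper9.mem_map_conj_iff W g x

theorem cj_mul (k c : G) (W : Subgroup G) : cj (k * c) W = cj k (cj c W) :=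
  Cfsg.Agent.Lib.Helper9.map_conj_mul W k c

theorem cj_inv_cj (g : G) (W : Subgroup G) : cj g⁻¹ (cj g W) = W :=
  Cfsg.Agent.Lib.Helper9.map_conj_inv_map_conj W g

theorem cj_cj_inv (g : G) (W : Subgroup G) : cj g (cj g⁻¹ W) = W := by
  have := cj_inv_cj g⁻¹ W
  rwa [inv_inv] at this

theorem cj_eq_self_iff (g : G) (W : Subgroup G) : cj g W = W ↔ g ∈ Subgroup.normalizer (W : Set G) := by
  rw [Subgroup.mem_normalizer_iff]
  constructor
  · intro h x
    constructor
    · intro hx
      rw [← h, mem_cj]
      have : g⁻¹ * (g * x * g⁻¹) * g = x := by group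
      rw [this]; exact hx
    · intro hx
      rw [← h, mem_cj] at hx
      have : g⁻¹ * (g * x * g⁻¹) * g = x := by group
      rwa [this] at hx
  · intro h
    ext x
    rw [mem_cj, h (g⁻¹ * x * g)]
    have : g * (g⁻¹ * x * g) * g⁻¹ = x := by group
    rw [this]

theorem card_cj [Finite G] (g : G) (W : Subgroup G) : Nat.card (cj g W) = Nat.card W :=
  Subgroup.card_map_of_injective (MulAut.conj g).injective

theorem cj_le_cj (g : G) {W W' : Subgroup G} : cj g W ≤ cj g W' ↔ W ≤ W' :=
  Subgroup.map_le_map_iff_of_injective (MulAut.conj g).injective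

theorem cj_injective (g : G) : Function.Injective (cj g) :=
  Subgroup.map_injective (MulAut.conj g).injective

theorem cj_le_of_mem_normalizer {S W : Subgroup G} {n : G} (hn : n ∈ Subgroup.normalizer (S : Set G))
    (hW : W ≤ S) : cj n W ≤ S := by
  have := (cj_eq_self_iff n S).mpr hn
  rw [← this]
  exact (cj_le_cj n).mpr hW

/-- elementary abelian 2-subgroup, elementwise -/
def EA (E : Subgroup G) : Prop := (∀ x ∈ E, ∀ y ∈ E, x * y = y * x) ∧ ∀ x ∈ E, x * x = 1

theorem ea_cj (g : G) {E : Subgroup G} (h : EA E) : EA (cj g E) := by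
  constructor
  · intro x hx y hy
    rw [mem_cj] at hx hy
    have := h.1 _ hx _ hy
    calc x * y = g * ((g⁻¹ * x * g) * (g⁻¹ * y * g)) * g⁻¹ := by group
      _ = g * ((g⁻¹ * y * g) * (g⁻¹ * x * g)) * g⁻¹ := by rw [this]
      _ = y * x := by group
  · intro x hx
    rw [mem_cj] at hx
    have := h.2 _ hx
    calc x * x = g * ((g⁻¹ * x * g) * (g⁻¹ * x * g)) * g⁻¹ := by group
      _ = 1 := by rw [this]; group

theorem ea_iff_map (S : Subgroup G) (C : Subgroup ↥S) :
    Cfsg.IsElementaryAbelian 2 C ↔ EA (C.map S.subtype) := by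
  constructor
  · rintro ⟨h1, h2⟩
    constructor
    · rintro _ ⟨x, hx, rfl⟩ _ ⟨y, hy, rfl⟩
      have := h1.is_comm.comm ⟨x, hx⟩ ⟨y, hy⟩
      have h3 : x * y = y * x := congrArg Subtype.val this
      exact congrArg Subtype.val h3
    · rintro _ ⟨x, hx, rfl⟩
      have := h2 x hx
      rw [pow_two] at this
      exact congrArg Subtype.val this
  · rintro ⟨h1, h2⟩
    constructor
    · refine ⟨⟨fun a b => ?_⟩⟩
      apply Subtype.ext
      apply Subtype.ext
      exact h1 _ ⟨a.1, a.2, rfl⟩ _ ⟨b.1, b.2, rfl⟩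
    · intro a ha
      apply Subtype.ext
      rw [pow_two]
      exact h2 _ ⟨a, ha, rfl⟩

/-- maximal elementary abelian subgroup of S -/
def IsMaxEA (S W : Subgroup G) : Prop :=
  W ≤ S ∧ EA W ∧ ∀ D : Subgroup G, D ≤ S → EA D → W ≤ D → D = W

theorem isMaxEA_cj {S W : Subgroup G} {n : G} (hn : n ∈ Subgroup.normalizer (S : Set G))
    (hW : IsMaxEA S W) : IsMaxEA S (cj n W) := by
  refine ⟨cj_le_of_mem_normalizer hn hW.1, ea_cj n hW.2.1, ?_⟩
  intro D hDS hD hle
  have hn' : n⁻¹ ∈ Subgroup.normalizer (S : Set G) := Subgroup.inv_mem _ hn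
  have h1 : W ≤ cj n⁻¹ D := by
    rw [← cj_inv_cj n W]
    exact (cj_le_cj n⁻¹).mpr hle
  have h2 := hW.2.2 (cj n⁻¹ D) (cj_le_of_mem_normalizer hn' hDS) (ea_cj n⁻¹ hD) h1
  rw [← h2, cj_cj_inv]

end

theorem core {G : Type*} [Group G] [Finite G] (S : Sylow 2 G) (A' B' : Subgroup G)
    (hAM : IsMaxEA (S : Subgroup G) A') (hBM : IsMaxEA (S : Subgroup G) B') (hne : A' ≠ B')
    (honly : ∀ E : Subgroup G, IsMaxEA (S : Subgroup G) E → E = A' ∨ E = B')
    (hprod : ∀ s ∈ (S : Subgroup G), ∃ a ∈ A', ∃ b ∈ B', a * b = s) :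
    Cfsg.IsWeaklyClosed A' (S : Subgroup G) ∧
      Subgroup.normalizer ((S : Subgroup G) : Set G) ≤ Subgroup.normalizer (A' : Set G) := by
  classical
  have : Fact (Nat.Prime 2) := ⟨Nat.prime_two⟩
  obtain ⟨hAS, hAea, hAmax⟩ := hAM
  obtain ⟨hBS, hBea, hBmax⟩ := hBM
  have hAM : IsMaxEA (S : Subgroup G) A' := ⟨hAS, hAea, hAmax⟩
  have hBM : IsMaxEA (S : Subgroup G) B' := ⟨hBS, hBea, hBmax⟩
  -- step 1: every EA subgroup of S lies in A' or B'
  have hcover : ∀ E : Subgroup G, E ≤ (S : Subgroup G) → EA E → E ≤ A' ∨ E ≤ B' := by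
    intro E hES hE
    obtain ⟨M, hEM, hM⟩ := Finite.exists_le_maximal (p := fun D : Subgroup G => D ≤ (S : Subgroup G) ∧ EA D)
      (a := E) ⟨hES, hE⟩
    have hMmax : IsMaxEA (S : Subgroup G) M := by
      refine ⟨hM.1.1, hM.1.2, ?_⟩
      intro D hDS hD hMD
      exact le_antisymm (hM.2 ⟨hDS, hD⟩ hMD) hMD
    rcases honly M hMmax with h | h
    · left; rw [← h]; exact hEM
    · right; rw [← h]; exact hEM
  -- step 2: N_G(S) permutes {A', B'}
  have hpermA : ∀ n ∈ Subgroup.normalizer ((S : Subgroup G) : Set G), cj n A' = A' ∨ cj n A' = B' :=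
    fun n hn => honly _ (isMaxEA_cj hn hAM)
  have hpermB : ∀ n ∈ Subgroup.normalizer ((S : Subgroup G) : Set G), cj n B' = A' ∨ cj n B' = B' :=
    fun n hn => honly _ (isMaxEA_cj hn hBM)
  have hSN : (S : Subgroup G) ≤ Subgroup.normalizer ((S : Subgroup G) : Set G) := Subgroup.le_normalizer
  have hself : ∀ (W : Subgroup G), ∀ w ∈ W, cj w W = W := fun W w hw =>
    (cj_eq_self_iff w W).mpr (Subgroup.le_normalizer hw)
  -- step 3: S normalizes A' and B'
  have hbA : ∀ b ∈ B', cj b A' = A' := by
    intro b hb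
    rcases hpermA b (hSN (hBS hb)) with h | h
    · exact h
    · exfalso
      apply hne
      have : cj b A' = cj b B' := by rw [h, hself B' b hb]
      exact cj_injective b this
  have haB : ∀ a ∈ A', cj a B' = B' := by
    intro a ha
    rcases hpermB a (hSN (hAS ha)) with h | h
    · exfalso
      apply hne
      have : cj a B' = cj a A' := by rw [h, hself A' a ha]
      exact (cj_injective a this).symm
    · exact h
  have hSA : (S : Subgroup G) ≤ Subgroup.normalizer (A' : Set G) := by
    intro s hs
    obtain ⟨a, ha, b, hb, rfl⟩ := hprod s hs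
    rw [← cj_eq_self_iff, cj_mul, hbA b hb, hself A' a ha]
  have hSB : (S : Subgroup G) ≤ Subgroup.normalizer (B' : Set G) := by
    intro s hs
    obtain ⟨a, ha, b, hb, rfl⟩ := hprod s hs
    rw [← cj_eq_self_iff, cj_mul, hself B' b hb, haB a ha]
  -- step 4: C_S(A') ≤ A'
  have hCA : ∀ c ∈ (S : Subgroup G), (∀ a ∈ A', c * a = a * c) → c ∈ A' := by
    intro c hcS hc
    obtain ⟨a, ha, b, hb, rfl⟩ := hprod c hcS
    -- b centralizes A'
    have hbc : ∀ a' ∈ A', b * a' = a' * b := by
      intro a' ha'
      have e := hc a' ha'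
      have e2 : a * b * a' = a * (a' * b) := by
        rw [e, ← mul_assoc, hAea.1 a' ha' a ha, mul_assoc]
      rw [mul_assoc] at e2
      exact mul_left_cancel e2
    have hb2 : b * b = 1 := hBea.2 b hb
    have hbinv : b⁻¹ = b := inv_eq_of_mul_eq_one_left hb2
    -- E = A' ⊔ zpowers b is EA
    have hbA' : b ∈ A' := by
      by_contra hbn
      -- E := closure (A' ∪ {b}); use explicit subgroup: {a' or a' * b}
      let E : Subgroup G :=
        { carrier := {x | x ∈ A' ∨ x * b ∈ A'}
          one_mem' := Or.inl A'.one_mem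
          mul_mem' := by
            rintro x y (hx | hx) (hy | hy)
            · exact Or.inl (A'.mul_mem hx hy)
            · right
              have : x * y * b = x * (y * b) := by group
              rw [this]; exact A'.mul_mem hx hy
            · right
              have : x * y * b = (x * b) * y := by
                rw [mul_assoc, mul_assoc, hbc y hy]
              rw [this]; exact A'.mul_mem hx hy
            · left
              have : x * y = (x * b) * (y * b) := by
                have e := hbc (y * b) hy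
                calc x * y = x * (b * b) * y := by rw [hb2, mul_one]
                  _ = x * b * (b * y) := by group
                  _ = x * b * (b * (y * b) * b) := by
                      have : b * (y * b) * b = b * y * (b * b) := by group
                      rw [this, hb2, mul_one]
                  _ = x * b * ((y * b) * b * b) := by rw [e]
                  _ = (x * b) * (y * b) := by
                      have : (y * b) * b * b = (y * b) * (b * b) := by group
                      rw [this, hb2, mul_one]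
              rw [this]; exact A'.mul_mem hx hy
          inv_mem' := by
            rintro x (hx | hx)
            · exact Or.inl (A'.inv_mem hx)
            · right
              have h1 : (x * b)⁻¹ ∈ A' := A'.inv_mem hx
              have e := hbc _ h1
              have : x⁻¹ * b = (x * b)⁻¹ := by
                rw [mul_inv_rev, hbinv]
                rw [mul_inv_rev, hbinv] at e
                have e' : x⁻¹ = b * x⁻¹ * b := by
                  rw [← e, ← mul_assoc, hb2, one_mul]
                calc x⁻¹ * b = (b * x⁻¹ * b) * b := by rw [← e']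
                  _ = b * x⁻¹ * (b * b) := by group
                  _ = b * x⁻¹ := by rw [hb2, mul_one]
              rw [this]; exact h1 }
      have hAE : A' ≤ E := fun x hx => Or.inl hx
      have hbE : b ∈ E := Or.inr (by rw [hb2]; exact A'.one_mem)
      have hES : E ≤ (S : Subgroup G) := by
        rintro x (hx | hx)
        · exact hAS hx
        · have : x = (x * b) * b⁻¹ := by group
          rw [this]
          exact Subgroup.mul_mem _ (hAS hx) (Subgroup.inv_mem _ (hBS hb))
      have hEea : EA E := by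
        -- every element of E is a' or a' * b with a' ∈ A'
        have hform : ∀ x ∈ E, ∃ a' ∈ A', x = a' ∨ x = a' * b := by
          rintro x (hx | hx)
          · exact ⟨x, hx, Or.inl rfl⟩
          · refine ⟨x * b, hx, Or.inr ?_⟩
            rw [mul_assoc, hb2, mul_one]
        constructor
        · intro x hx y hy
          obtain ⟨a1, ha1, h1 | h1⟩ := hform x hx <;> obtain ⟨a2, ha2, h2 | h2⟩ := hform y hy
          · rw [h1, h2]; exact hAea.1 a1 ha1 a2 ha2
          · rw [h1, h2]
            calc a1 * (a2 * b) = (a1 * a2) * b := by group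
              _ = (a2 * a1) * b := by rw [hAea.1 a1 ha1 a2 ha2]
              _ = a2 * (a1 * b) := by group
              _ = a2 * (b * a1) := by rw [hbc a1 ha1]
              _ = a2 * b * a1 := by group
          · rw [h1, h2]
            calc a1 * b * a2 = a1 * (b * a2) := by group
              _ = a1 * (a2 * b) := by rw [hbc a2 ha2]
              _ = (a1 * a2) * b := by group
              _ = (a2 * a1) * b := by rw [hAea.1 a1 ha1 a2 ha2]
              _ = a2 * (a1 * b) := by group
          · rw [h1, h2]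
            calc a1 * b * (a2 * b) = a1 * (b * a2) * b := by group
              _ = a1 * (a2 * b) * b := by rw [hbc a2 ha2]
              _ = (a1 * a2) * b * b := by group
              _ = (a2 * a1) * b * b := by rw [hAea.1 a1 ha1 a2 ha2]
              _ = a2 * (a1 * b) * b := by group
              _ = a2 * (b * a1) * b := by rw [hbc a1 ha1]
              _ = a2 * b * (a1 * b) := by group
        · intro x hx
          obtain ⟨a1, ha1, h1 | h1⟩ := hform x hx
          · rw [h1]; exact hAea.2 a1 ha1
          · rw [h1]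
            calc a1 * b * (a1 * b) = a1 * (b * a1) * b := by group
              _ = a1 * (a1 * b) * b := by rw [hbc a1 ha1]
              _ = (a1 * a1) * (b * b) := by group
              _ = 1 := by rw [hAea.2 a1 ha1, hb2, mul_one]
      have := hAmax E hES hEea hAE
      apply hbn
      rw [← this]; exact hbE
    exact A'.mul_mem ha hbA'
  -- step 5: N_G(S) normalizes A'
  have hNA : Subgroup.normalizer ((S : Subgroup G) : Set G) ≤ Subgroup.normalizer (A' : Set G) := by
    intro n hn
    rw [← cj_eq_self_iff]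
    by_contra hcon
    have hAB : cj n A' = B' := (hpermA n hn).resolve_left hcon
    have hBA : cj n B' = A' := by
      rcases hpermB n hn with h | h
      · exact h
      · exfalso
        apply hne
        have : cj n A' = cj n B' := by rw [hAB, h]
        exact cj_injective n this
    -- powers
    have hpow : ∀ k : ℕ, (cj (n ^ (2 * k)) A' = A') ∧ (cj (n ^ (2 * k + 1)) A' = B') := by
      intro k
      induction k with
      | zero =>
        refine ⟨?_, ?_⟩
        · simp only [Nat.mul_zero, pow_zero]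
          exact hself A' 1 A'.one_mem
        · simp only [Nat.mul_zero, Nat.zero_add, pow_one]
          exact hAB
      | succ k ih =>
        have e1 : n ^ (2 * (k + 1)) = n * n ^ (2 * k + 1) := by
          rw [← pow_succ']; congr 1
        have e2 : n ^ (2 * (k + 1) + 1) = n * n ^ (2 * (k + 1)) := by
          rw [← pow_succ']
        have h1 : cj (n ^ (2 * (k + 1))) A' = A' := by
          rw [e1, cj_mul, ih.2, hBA]
        refine ⟨h1, ?_⟩
        rw [e2, cj_mul, h1, hAB]
    obtain ⟨e, r, hr, hm⟩ := Nat.exists_eq_two_pow_mul_odd (n := orderOf n) (orderOf_pos n).ne'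
    obtain ⟨k, hk⟩ := hr
    have hr0 : r ≠ 0 := by omega
    -- n^r is a 2-element in N_G(S), hence in S
    have hord : orderOf (n ^ r) = 2 ^ e := by
      rw [orderOf_pow_of_dvd hr0 ⟨2 ^ e, by rw [hm]; ring⟩, hm]
      exact Nat.mul_div_cancel _ (Nat.pos_of_ne_zero hr0)
    have hP : IsPGroup 2 (Subgroup.zpowers (n ^ r)) := by
      apply IsPGroup.of_card (n := e)
      rw [Nat.card_zpowers, hord]
    have hPN : Subgroup.zpowers (n ^ r) ≤ Subgroup.normalizer ((S : Subgroup G) : Set G) := by
      rw [Subgroup.zpowers_le]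
      exact Subgroup.pow_mem _ hn r
    have hsup : IsPGroup 2 ↥(Subgroup.zpowers (n ^ r) ⊔ (S : Subgroup G)) :=
      IsPGroup.to_sup_of_normal_right' hP S.2 hPN
    have heq := S.is_maximal' hsup le_sup_right
    have hnrS : n ^ r ∈ (S : Subgroup G) := by
      rw [← heq]
      exact (le_sup_left (a := Subgroup.zpowers (n ^ r))) (Subgroup.mem_zpowers _)
    have h1 : cj (n ^ r) A' = A' := (cj_eq_self_iff _ _).mpr (hSA hnrS)
    have h2 : cj (n ^ r) A' = B' := by
      rw [hk]; exact (hpow k).2
    apply hne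
    rw [← h1, h2]
  -- step 6: 2-subgroups centralizing A' are small
  have hcardP : ∀ P : Subgroup G, IsPGroup 2 P → (∀ x ∈ P, ∀ a ∈ A', x * a = a * x) →
      Nat.card P ≤ Nat.card A' := by
    intro P hP hPc
    have hPN : P ≤ Subgroup.normalizer (A' : Set G) := by
      intro x hx
      rw [Subgroup.mem_normalizer_iff]
      intro a
      have hc : ∀ a ∈ A', x * a * x⁻¹ = a := by
        intro a ha
        rw [hPc x hx a ha]; group
      constructor
      · intro ha; rw [hc a ha]; exact ha
      · intro ha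
        have h1 := hc _ ha
        have : x * a * x⁻¹ = a := by
          have h2 := mul_right_cancel h1
          exact mul_left_cancel h2
        rw [← this]; exact ha
    obtain ⟨m, hmN, hm⟩ := Cfsg.Agent.Lib.Helper9.exists_conj_le_sylow_of_le
      (Subgroup.normalizer (A' : Set G)) S hSA P hP hPN
    have hmA : ∀ q ∈ P, m * q * m⁻¹ ∈ A' := by
      intro q hq
      apply hCA _ (hm q hq)
      intro a ha
      have ha' : m⁻¹ * a * m ∈ A' := (Subgroup.mem_normalizer_iff''.mp hmN a).mp ha
      have := hPc q hq _ ha'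
      calc m * q * m⁻¹ * a = m * (q * (m⁻¹ * a * m)) * m⁻¹ := by group
        _ = m * ((m⁻¹ * a * m) * q) * m⁻¹ := by rw [this]
        _ = a * (m * q * m⁻¹) := by group
    apply Nat.card_le_card_of_injective (fun q : P => (⟨m * q.1 * m⁻¹, hmA q.1 q.2⟩ : A'))
    intro q1 q2 h
    have h' : m * q1.1 * m⁻¹ = m * q2.1 * m⁻¹ := congrArg Subtype.val h
    apply Subtype.ext
    exact mul_left_cancel (mul_right_cancel h')
  refine ⟨⟨hAS, ?_⟩, hNA⟩
  -- step 7: weak closure
  intro g hg
  change cj g A' ≤ (S : Subgroup G) at hg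
  change cj g A' = A'
  have hXea : EA (cj g A') := ea_cj g hAea
  rcases hcover _ hg hXea with hle | hle
  · exact Subgroup.eq_of_le_of_card_ge hle (by rw [card_cj])
  · exfalso
    -- P = g⁻¹-conjugate of B' centralizes A'
    have hPc : ∀ x ∈ cj g⁻¹ B', ∀ a ∈ A', x * a = a * x := by
      intro x hx a ha
      rw [mem_cj, inv_inv] at hx
      have ha' : g * a * g⁻¹ ∈ B' := by
        apply hle
        rw [mem_cj]
        have : g⁻¹ * (g * a * g⁻¹) * g = a := by group
        rw [this]; exact ha
      have := hBea.1 _ hx _ ha'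
      calc x * a = g⁻¹ * ((g * x * g⁻¹) * (g * a * g⁻¹)) * g := by group
        _ = g⁻¹ * ((g * a * g⁻¹) * (g * x * g⁻¹)) * g := by rw [this]
        _ = a * x := by group
    have hP2 : IsPGroup 2 ↥(cj g⁻¹ B') := by
      have hB2 : IsPGroup 2 B' := S.2.to_le hBS
      exact hB2.map _
    have hc1 := hcardP _ hP2 hPc
    rw [card_cj] at hc1
    have hXB : cj g A' = B' := Subgroup.eq_of_le_of_card_ge hle (by rw [card_cj]; exact hc1)
    -- Burnside: find n ∈ N_G(S) with cj n A' = B'
    have hQN : cj g (S : Subgroup G) ≤ Subgroup.normalizer (B' : Set G) := by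
      intro q hq
      rw [mem_cj] at hq
      have h1 := hSA hq
      rw [← cj_eq_self_iff] at h1 ⊢
      -- cj q B' = cj q (cj g A') = cj (q g) A' = cj (g * (g⁻¹ q g)) A' = cj g (cj (g⁻¹ q g) A') = cj g A' = B'
      calc cj q B' = cj q (cj g A') := by rw [hXB]
        _ = cj (q * g) A' := (cj_mul q g A').symm
        _ = cj (g * (g⁻¹ * q * g)) A' := by
            have : q * g = g * (g⁻¹ * q * g) := by group
            rw [this]
        _ = cj g (cj (g⁻¹ * q * g) A') := cj_mul _ _ _
        _ = cj g A' := by rw [h1]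
        _ = B' := hXB
    have hQ2 : IsPGroup 2 ↥(cj g (S : Subgroup G)) := S.2.map _
    obtain ⟨m, hmN, hm⟩ := Cfsg.Agent.Lib.Helper9.exists_conj_le_sylow_of_le
      (Subgroup.normalizer (B' : Set G)) S hSB _ hQ2 hQN
    have hnS : m * g ∈ Subgroup.normalizer ((S : Subgroup G) : Set G) := by
      apply Subgroup.mem_normalizer_fintype
      intro s hs
      have h1 : g * s * g⁻¹ ∈ cj g (S : Subgroup G) := by
        rw [mem_cj]
        have : g⁻¹ * (g * s * g⁻¹) * g = s := by group
        rw [this]; exact hs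
      have := hm _ h1
      have e : m * g * s * (m * g)⁻¹ = m * (g * s * g⁻¹) * m⁻¹ := by group
      rw [e]; exact this
    have h1 : cj (m * g) A' = A' := (cj_eq_self_iff _ _).mpr (hNA hnS)
    have h2 : cj (m * g) A' = B' := by
      rw [cj_mul, hXB]
      exact (cj_eq_self_iff _ _).mpr hmN
    apply hne
    rw [← h1, h2]


/-- Let S be a Sylow 2-subgroup of a finite group G having exactly two subgroups A ≠ B that are maximal among its elementary abelian subgroups, with S = AB. Then A and B are each weakly closed in S with respect to G, and the normalizer of S normalizes both A and B. -/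
theorem result {G : Type*} [Group G] [Finite G] (S : Sylow 2 G)
    (A B : Subgroup ↥(S : Subgroup G)) (hAB : A ≠ B)
    (hA : Cfsg.IsElementaryAbelian 2 A ∧ ∀ C : Subgroup ↥(S : Subgroup G), Cfsg.IsElementaryAbelian 2 C → A ≤ C → C = A)
    (hB : Cfsg.IsElementaryAbelian 2 B ∧ ∀ C : Subgroup ↥(S : Subgroup G), Cfsg.IsElementaryAbelian 2 C → B ≤ C → C = B)
    (honly : ∀ C : Subgroup ↥(S : Subgroup G), Cfsg.IsElementaryAbelian 2 C →
      (∀ D : Subgroup ↥(S : Subgroup G), Cfsg.IsElementaryAbelian 2 D → C ≤ D → D = C) → C = A ∨ C = B)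
    (hprod : ∀ s : ↥(S : Subgroup G), ∃ a ∈ A, ∃ b ∈ B, a * b = s)
    (A' B' : Subgroup G) (hA' : A' = A.map (S : Subgroup G).subtype) (hB' : B' = B.map (S : Subgroup G).subtype) :
    Cfsg.IsWeaklyClosed A' (S : Subgroup G) ∧ Cfsg.IsWeaklyClosed B' (S : Subgroup G) ∧
      Subgroup.normalizer ((S : Subgroup G) : Set G) ≤ Subgroup.normalizer (A' : Set G) ⊓ Subgroup.normalizer (B' : Set G) := by
  classical
  have hinj : Function.Injective ((S : Subgroup G).subtype) := (S : Subgroup G).subtype_injective
  -- translation lemmas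
  have hmapS : ∀ C : Subgroup ↥(S : Subgroup G), C.map (S : Subgroup G).subtype ≤ (S : Subgroup G) := by
    rintro C _ ⟨c, _, rfl⟩; exact c.2
  have hback : ∀ E : Subgroup G, E ≤ (S : Subgroup G) → (E.subgroupOf (S : Subgroup G)).map (S : Subgroup G).subtype = E :=
    fun E hE => Subgroup.map_subgroupOf_eq_of_le hE
  have hmax_tr : ∀ C : Subgroup ↥(S : Subgroup G), (Cfsg.IsElementaryAbelian 2 C ∧ ∀ D : Subgroup ↥(S : Subgroup G), Cfsg.IsElementaryAbelian 2 D → C ≤ D → D = C) →
      IsMaxEA (S : Subgroup G) (C.map (S : Subgroup G).subtype) := by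
    rintro C ⟨hC1, hC2⟩
    refine ⟨hmapS C, (ea_iff_map (S : Subgroup G) C).mp hC1, ?_⟩
    intro D hDT hD hle
    have hD' : Cfsg.IsElementaryAbelian 2 (D.subgroupOf (S : Subgroup G)) := by
      rw [ea_iff_map, hback D hDT]; exact hD
    have hle' : C ≤ D.subgroupOf (S : Subgroup G) := by
      rw [← Subgroup.map_le_map_iff_of_injective hinj, hback D hDT]; exact hle
    have := hC2 _ hD' hle'
    rw [← this, hback D hDT]
  have hmax_tr' : ∀ E : Subgroup G, IsMaxEA (S : Subgroup G) E →
      (Cfsg.IsElementaryAbelian 2 (E.subgroupOf (S : Subgroup G)) ∧ ∀ D : Subgroup ↥(S : Subgroup G), Cfsg.IsElementaryAbelian 2 D → E.subgroupOf (S : Subgroup G) ≤ D → D = E.subgroupOf (S : Subgroup G)) := by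
    rintro E ⟨hET, hE, hEmax⟩
    refine ⟨by rw [ea_iff_map, hback E hET]; exact hE, ?_⟩
    intro D hD hle
    have h1 : E ≤ D.map (S : Subgroup G).subtype := by
      rw [← hback E hET]
      exact Subgroup.map_mono hle
    have := hEmax _ (hmapS D) ((ea_iff_map (S : Subgroup G) D).mp hD) h1
    apply Subgroup.map_injective hinj
    rw [this, hback E hET]
  have hAM : IsMaxEA (S : Subgroup G) A' := by rw [hA']; exact hmax_tr A hA
  have hBM : IsMaxEA (S : Subgroup G) B' := by rw [hB']; exact hmax_tr B hB
  have hne : A' ≠ B' := by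
    rw [hA', hB']
    intro h
    exact hAB (Subgroup.map_injective hinj h)
  have honly' : ∀ E : Subgroup G, IsMaxEA (S : Subgroup G) E → E = A' ∨ E = B' := by
    intro E hE
    obtain ⟨h1, h2⟩ := hmax_tr' E hE
    rcases honly _ h1 h2 with h | h
    · left; rw [hA', ← h, hback E hE.1]
    · right; rw [hB', ← h, hback E hE.1]
  have hprod' : ∀ s ∈ (S : Subgroup G), ∃ a ∈ A', ∃ b ∈ B', a * b = s := by
    intro s hs
    obtain ⟨a, ha, b, hb, hab⟩ := hprod ⟨s, hs⟩
    refine ⟨a.1, by rw [hA']; exact ⟨a, ha, rfl⟩, b.1, by rw [hB']; exact ⟨b, hb, rfl⟩, ?_⟩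
    exact congrArg Subtype.val hab
  have hprod'' : ∀ s ∈ (S : Subgroup G), ∃ b ∈ B', ∃ a ∈ A', b * a = s := by
    intro s hs
    obtain ⟨a, ha, b, hb, hab⟩ := hprod' s⁻¹ ((S : Subgroup G).inv_mem hs)
    refine ⟨b⁻¹, B'.inv_mem hb, a⁻¹, A'.inv_mem ha, ?_⟩
    rw [← mul_inv_rev, hab, inv_inv]
  obtain ⟨h1, h2⟩ := core S A' B' hAM hBM hne honly' hprod'
  obtain ⟨h3, h4⟩ := core S B' A' hBM hAM hne.symm (fun E hE => (honly' E hE).symm) hprod''
  exact ⟨h1, h3, le_inf h2 h4⟩

end Cfsg.Agent.S3203
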