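import Mathlib
import Cfsg.Statements.S3208

set_option autoImplicit false
open Cfsg

namespace Cfsg.Agent.S3208

open Subgroup

def conjEquiv {G : Type*} [Group G] (T : Subgroup G) (k : G) (hk : k ∈ normalizer (T : Set G)) : T ≃* T where
  toFun t := ⟨k * t * k⁻¹, (mem_normalizer_iff.mp hk t).mp t.2⟩
  invFun t := ⟨k⁻¹ * t * k, by
    have := (mem_normalizer_iff.mp (inv_mem hk) t).mp t.2
    simpa using this⟩
  left_inv t := by
    apply Subtype.ext
    simp only []
    group
  right_inv t := by
    apply Subtype.ext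
    simp only []
    group
  map_mul' a b := by
    apply Subtype.ext
    simp only [Subgroup.coe_mul]
    group

theorem conj_mem_of_char {G : Type*} [Group G] (T : Subgroup G) (j : G) (hjT : j ∈ T)
    (hchar : ((Subgroup.zpowers j).subgroupOf T).Characteristic)
    (k : G) (hk : k ∈ normalizer (T : Set G)) : k * j * k⁻¹ ∈ Subgroup.zpowers j := by
  have h := (characteristic_iff_comap_eq.mp hchar) (conjEquiv T k hk)
  have hj : (⟨j, hjT⟩ : T) ∈ (Subgroup.zpowers j).subgroupOf T := by
    rw [mem_subgroupOf]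
    exact mem_zpowers j
  rw [← h] at hj
  rw [mem_comap, mem_subgroupOf] at hj
  exact hj

theorem eq_of_mem_zpowers_of_orderOf {G : Type*} [Group G] (j x : G) (hj : orderOf j = 2)
    (hx : x ∈ Subgroup.zpowers j) (hx1 : x ≠ 1) : x = j := by
  obtain ⟨i, rfl⟩ := hx
  simp only at hx1 ⊢
  have hj2 : j ^ 2 = 1 := by rw [← hj]; exact pow_orderOf_eq_one j
  rcases Int.even_or_odd i with ⟨m, hm⟩ | ⟨m, hm⟩
  · exfalso
    apply hx1
    rw [hm, ← two_mul, zpow_mul, zpow_ofNat, hj2, one_zpow]
  · rw [hm, zpow_add, zpow_mul, zpow_ofNat, hj2, one_zpow, one_mul, zpow_one]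

theorem result {G : Type*} [Group G] [Finite G]
    (j : G) (hj : orderOf j = 2) (H T : Subgroup G) (hT : T ≤ H ⊓ Subgroup.centralizer ({j} : Set G)) (h2 : IsPGroup 2 ↥T)
    (hSyl : ¬ 2 ∣ T.relIndex (H ⊓ Subgroup.centralizer ({j} : Set G))) (hjT : j ∈ T)
    (hchar : ((Subgroup.zpowers j).subgroupOf T).Characteristic) :
    ¬ 2 ∣ T.relIndex H := by
  intro hdvd
  have : Fact (Nat.Prime 2) := ⟨Nat.prime_two⟩
  have hTH : T ≤ H := le_trans hT inf_le_left
  obtain ⟨n, hn⟩ := IsPGroup.iff_card.mp h2
  -- work inside H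
  have hcardT' : Nat.card (T.subgroupOf H) = 2 ^ n := by
    rw [← hn]
    exact Nat.card_congr (Subgroup.subgroupOfEquivOfLe hTH).toEquiv
  have hdvd' : 2 ^ (n + 1) ∣ Nat.card H := by
    rw [← Subgroup.index_mul_card (T.subgroupOf H), hcardT', pow_succ, mul_comm]
    exact Nat.mul_dvd_mul_right hdvd _
  obtain ⟨K', hK'card, hK'le⟩ := Sylow.exists_subgroup_card_pow_succ hdvd' hcardT'
  set K : Subgroup G := K'.map H.subtype with hKdef
  have hKH : K ≤ H := by
    rw [hKdef]
    exact Subgroup.map_subtype_le K'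
  have hTK : T ≤ K := by
    intro t ht
    rw [hKdef, Subgroup.mem_map]
    refine ⟨⟨t, hTH ht⟩, hK'le ?_, rfl⟩
    rw [mem_subgroupOf]
    exact ht
  have hKcard : Nat.card K = 2 ^ (n + 1) := by
    rw [← hK'card, hKdef]
    exact Nat.card_congr (Subgroup.equivMapOfInjective K' H.subtype (Subgroup.subtype_injective H)).symm.toEquiv
  have hrel : T.relIndex K = 2 := by
    have h1 : Nat.card T * T.relIndex K = Nat.card K := by
      have := Subgroup.relIndex_mul_relIndex ⊥ T K bot_le hTK
      rwa [Subgroup.relIndex_bot_left, Subgroup.relIndex_bot_left] at this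
    rw [hn, hKcard, pow_succ] at h1
    have hpos : 0 < 2 ^ n := by positivity
    nlinarith
  have hnormal : (T.subgroupOf K).Normal := Subgroup.normal_of_index_eq_two hrel
  have hKN : K ≤ normalizer (T : Set G) := by
    rw [← Subgroup.normal_subgroupOf_iff_le_normalizer hTK]
    exact hnormal
  have hKC : K ≤ Subgroup.centralizer ({j} : Set G) := by
    intro k hk
    have hmem := conj_mem_of_char T j hjT hchar k (hKN hk)
    have hne : k * j * k⁻¹ ≠ 1 := by
      intro h1
      have : j = 1 := by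
        have := congrArg (fun x => k⁻¹ * x * k) h1
        simpa [mul_assoc] using this
      rw [this] at hj
      simp at hj
    have heq := eq_of_mem_zpowers_of_orderOf j _ hj hmem hne
    rw [Subgroup.mem_centralizer_iff]
    intro x hx
    rw [Set.mem_singleton_iff] at hx
    subst hx
    calc x * k = (k * x * k⁻¹)⁻¹⁻¹ * k := by rw [heq, inv_inv]
      _ = k * x := by group
  have hKle : K ≤ H ⊓ Subgroup.centralizer ({j} : Set G) := le_inf hKH hKC
  have := Subgroup.relIndex_mul_relIndex T K (H ⊓ Subgroup.centralizer ({j} : Set G)) hTK hKle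
  rw [hrel] at this
  apply hSyl
  rw [← this]
  exact dvd_mul_right _ _

end Cfsg.Agent.S3208
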