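import Mathlib
import Cfsg.Statements.S3213
import Cfsg.Agent.Lib.Helper19.Sp43
-- import your own Cfsg.Agent.* helpers here

set_option autoImplicit false
open Cfsg

namespace Cfsg.Agent.S3213

open Matrix Cfsg.Agent.Lib.Helper19.Sp43

/-! ### reality of elements of order 3 in SL₂(5) -/

def realP (a b c d : ZMod 5) : Prop :=
  a * d - b * c = 1 →
    !![a, b; c, d] * !![a, b; c, d] * !![a, b; c, d] = (1 : Matrix (Fin 2) (Fin 2) (ZMod 5)) →
    ∃ p q r s : ZMod 5, p * s - q * r = 1 ∧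
      !![p, q; r, s] * !![a, b; c, d] = !![d, -b; -c, a] * !![p, q; r, s]

instance (a b c d : ZMod 5) : Decidable (realP a b c d) := by unfold realP; infer_instance

theorem realP_all : ∀ a b c d : ZMod 5, realP a b c d := by decide +kernel

theorem real5 (x : SpecialLinearGroup (Fin 2) (ZMod 5)) (hx : x * x * x = 1) :
    ∃ g : SpecialLinearGroup (Fin 2) (ZMod 5), g * x * g⁻¹ = x⁻¹ := by
  have hx1 : x.1 = !![x.1 0 0, x.1 0 1; x.1 1 0, x.1 1 1] := Matrix.eta_fin_two x.1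
  have hdet : x.1 0 0 * x.1 1 1 - x.1 0 1 * x.1 1 0 = 1 := by
    rw [← Matrix.det_fin_two]; exact x.2
  have hcube : x.1 * x.1 * x.1 = 1 := by
    have := congrArg Subtype.val hx
    simpa using this
  rw [hx1] at hcube
  obtain ⟨p, q, r, s, hps, hm⟩ := realP_all _ _ _ _ hdet hcube
  let g : SpecialLinearGroup (Fin 2) (ZMod 5) :=
    ⟨!![p, q; r, s], by rw [Matrix.det_fin_two_of]; exact hps⟩
  have hgx : g * x = x⁻¹ * g := by
    have hmat : (↑(g * x) : Matrix (Fin 2) (Fin 2) (ZMod 5)) = ↑(x⁻¹ * g) := by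
      rw [Matrix.SpecialLinearGroup.coe_mul, Matrix.SpecialLinearGroup.coe_mul, Matrix.SpecialLinearGroup.coe_inv,
        Matrix.adjugate_fin_two]
      conv_lhs => rw [hx1]
      exact hm
    exact Subtype.ext hmat
  exact ⟨g, mul_inv_eq_iff_eq_mul.mpr hgx⟩

theorem real_K {K : Type*} [Field K] [Fintype K] (e : ZMod 5 ≃+* K)
    (x : SpecialLinearGroup (Fin 2) K) (hx : x * x * x = 1) :
    ∃ g : SpecialLinearGroup (Fin 2) K, g * x * g⁻¹ = x⁻¹ := by
  let m : SpecialLinearGroup (Fin 2) (ZMod 5) →* SpecialLinearGroup (Fin 2) K :=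
    Matrix.SpecialLinearGroup.map e.toRingHom
  let m' : SpecialLinearGroup (Fin 2) K →* SpecialLinearGroup (Fin 2) (ZMod 5) :=
    Matrix.SpecialLinearGroup.map e.symm.toRingHom
  have hmm : ∀ y, m (m' y) = y := by
    intro y
    apply Subtype.ext
    ext i j
    simp [m, m', Matrix.SpecialLinearGroup.map_apply_coe]
  obtain ⟨g', hg'⟩ := real5 (m' x) (by rw [← map_mul, ← map_mul, hx, map_one])
  refine ⟨m g', ?_⟩
  have := congrArg m hg'
  rw [map_mul, map_mul, map_inv, map_inv, hmm] at this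
  exact this

/-! ### symplectic form lemmas -/

section general
variable {R : Type*} [CommRing R]

theorem B_invariant (M : Matrix I4 I4 R) (hM : Mᵀ * J (Fin 2) R * M = J (Fin 2) R)
    (v w : I4 → R) :
    (M *ᵥ v) ⬝ᵥ (J (Fin 2) R *ᵥ (M *ᵥ w)) = v ⬝ᵥ (J (Fin 2) R *ᵥ w) := by
  rw [← Matrix.vecMul_transpose M v, ← Matrix.dotProduct_mulVec, Matrix.mulVec_mulVec,
    Matrix.mulVec_mulVec, hM]

theorem B_antisymm (v w : I4 → R) :
    v ⬝ᵥ (J (Fin 2) R *ᵥ w) = - (w ⬝ᵥ (J (Fin 2) R *ᵥ v)) := by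
  rw [Matrix.dotProduct_mulVec, ← Matrix.mulVec_transpose, J_transpose, dotProduct_comm,
    Matrix.neg_mulVec, dotProduct_neg]

theorem real_of_conj (A G Gi : Matrix I4 I4 R) (hA : Aᵀ * J (Fin 2) R * A = J (Fin 2) R)
    (hG : Gᵀ * J (Fin 2) R * G = J (Fin 2) R)
    (h3 : A * A * A = 1) (hGGi : G * Gi = 1) (hc : G * A * Gi = A * A) (u : I4 → R) :
    (A *ᵥ (Gi *ᵥ u)) ⬝ᵥ (J (Fin 2) R *ᵥ (Gi *ᵥ u)) = - ((A *ᵥ u) ⬝ᵥ (J (Fin 2) R *ᵥ u)) := by
  have h1 := B_invariant G hG (A *ᵥ (Gi *ᵥ u)) (Gi *ᵥ u)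
  rw [← h1, Matrix.mulVec_mulVec u G Gi, hGGi, Matrix.one_mulVec, Matrix.mulVec_mulVec u A Gi,
    Matrix.mulVec_mulVec u G (A * Gi), ← Matrix.mul_assoc, hc]
  have h2 := B_invariant A hA ((A * A) *ᵥ u) u
  rw [← h2, Matrix.mulVec_mulVec u A (A * A), ← Matrix.mul_assoc, h3, Matrix.one_mulVec]
  exact B_antisymm u (A *ᵥ u)

end general

section transport
variable {R S : Type*} [CommRing R] [CommRing S]

theorem map_mulVec' (f : R →+* S) (M : Matrix I4 I4 R) (v : I4 → R) :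
    f ∘ (M *ᵥ v) = M.map f *ᵥ (f ∘ v) := by
  funext i
  exact RingHom.map_mulVec f M v i

theorem map_B (f : R →+* S) (v w : I4 → R) :
    f (v ⬝ᵥ (J (Fin 2) R *ᵥ w)) = (f ∘ v) ⬝ᵥ (J (Fin 2) S *ᵥ (f ∘ w)) := by
  rw [RingHom.map_dotProduct, map_mulVec', Matrix.map_J]

end transport

/-- Let F be the field with 3 elements and K the field with 5 elements. For every injective homomorphism φ from SL₂(K) into the symplectic group Sp₄(F) (4 × 4 matrices g with g J gᵀ = J for the standard alternating matrix J) and every element x of order 3 of SL₂(K), the vectors of F⁴ fixed by φ(x) form a 2-dimensional subspace that is totally isotropic for the alternating form defined by J. -/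
theorem result {F : Type*} [Field F] [Fintype F] (hF : Fintype.card F = 3)
    {K : Type*} [Field K] [Fintype K] (hK : Fintype.card K = 5)
    (φ : Matrix.SpecialLinearGroup (Fin 2) K →* ↥(Matrix.symplecticGroup (Fin 2) F)) (hφ : Function.Injective φ)
    (x : Matrix.SpecialLinearGroup (Fin 2) K) (hx : orderOf x = 3) :
    Module.finrank F ↥(LinearMap.ker (Matrix.toLin' ((φ x : Matrix (Fin 2 ⊕ Fin 2) (Fin 2 ⊕ Fin 2) F)) - LinearMap.id)) = 2 ∧
      ∀ v w : Fin 2 ⊕ Fin 2 → F, (φ x : Matrix (Fin 2 ⊕ Fin 2) (Fin 2 ⊕ Fin 2) F).mulVec v = v →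
        (φ x : Matrix (Fin 2 ⊕ Fin 2) (Fin 2 ⊕ Fin 2) F).mulVec w = w →
          dotProduct v ((Matrix.J (Fin 2) F).mulVec w) = 0 := by
  classical
  have p3 : Nat.Prime 3 := by norm_num
  have p5 : Nat.Prime 5 := by norm_num
  let eF : F ≃+* ZMod 3 := (ZMod.ringEquivOfPrime F p3 hF).symm
  let f : F →+* ZMod 3 := eF.toRingHom
  have hf_inj : Function.Injective f := eF.injective
  let eK : ZMod 5 ≃+* K := ZMod.ringEquivOfPrime K p5 hK
  have hx3 : x * x * x = 1 := by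
    have := pow_orderOf_eq_one x
    rw [hx] at this
    rw [← this, pow_succ, pow_succ, pow_one]
  have hx1 : x ≠ 1 := by
    intro h
    rw [h, orderOf_one] at hx
    omega
  obtain ⟨g, hg⟩ := real_K eK x hx3
  -- in the symplectic group
  have ha3 : φ x * φ x * φ x = 1 := by rw [← map_mul, ← map_mul, hx3, map_one]
  have ha1 : φ x ≠ 1 := by
    intro h
    apply hx1
    apply hφ
    rw [h, map_one]
  have hinv : (φ x)⁻¹ = φ x * φ x := by
    apply inv_eq_of_mul_eq_one_right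
    rw [← mul_assoc]; exact ha3
  have hconj : φ g * φ x * (φ g)⁻¹ = φ x * φ x := by
    rw [← hinv, ← map_inv, ← map_inv, ← map_mul, ← map_mul, hg]
  set A : Matrix I4 I4 F := (φ x : Matrix (Fin 2 ⊕ Fin 2) (Fin 2 ⊕ Fin 2) F) with hAdef
  set G : Matrix I4 I4 F := (φ g : Matrix (Fin 2 ⊕ Fin 2) (Fin 2 ⊕ Fin 2) F) with hGdef
  set Gi : Matrix I4 I4 F := (((φ g)⁻¹ : ↥(Matrix.symplecticGroup (Fin 2) F)) :
    Matrix (Fin 2 ⊕ Fin 2) (Fin 2 ⊕ Fin 2) F) with hGidef
  have hA : Aᵀ * J (Fin 2) F * A = J (Fin 2) F := SymplecticGroup.mem_iff'.mp (φ x).2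
  have hG : Gᵀ * J (Fin 2) F * G = J (Fin 2) F := SymplecticGroup.mem_iff'.mp (φ g).2
  have h3 : A * A * A = 1 := by
    have := congrArg Subtype.val ha3
    simpa using this
  have hGGi : G * Gi = 1 := by
    have h := congrArg Subtype.val (mul_inv_cancel (φ g))
    exact h
  have hc : G * A * Gi = A * A := by
    have := congrArg Subtype.val hconj
    simpa using this
  have hA1 : A ≠ 1 := by
    intro h
    apply ha1
    apply Subtype.ext
    exact h
  have hRF : ∀ u : I4 → F, ∃ u' : I4 → F,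
      (A *ᵥ u') ⬝ᵥ (J (Fin 2) F *ᵥ u') = - ((A *ᵥ u) ⬝ᵥ (J (Fin 2) F *ᵥ u)) :=
    fun u => ⟨Gi *ᵥ u, real_of_conj A G Gi hA hG h3 hGGi hc u⟩
  -- over ZMod 3
  set A' : Matrix I4 I4 Z3 := A.map f with hA'def
  have hs' : A' * J (Fin 2) Z3 * A'ᵀ = J (Fin 2) Z3 :=
    SymplecticGroup.mem_iff.mp (SymplecticGroup.map_mem (φ x).2 f)
  have h3' : A' * A' * A' = 1 := by
    rw [hA'def, ← Matrix.map_mul, ← Matrix.map_mul, h3, Matrix.map_one _ (map_zero f) (map_one f)]
  have h1' : A' ≠ 1 := by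
    intro h
    apply hA1
    apply Matrix.map_injective hf_inj
    show A.map f = (1 : Matrix I4 I4 F).map f
    rw [Matrix.map_one _ (map_zero f) (map_one f)]
    exact h
  have hR' : ∀ u : I4 → Z3, ∃ u' : I4 → Z3,
      (A' *ᵥ u') ⬝ᵥ (J (Fin 2) Z3 *ᵥ u') = - ((A' *ᵥ u) ⬝ᵥ (J (Fin 2) Z3 *ᵥ u)) := by
    intro u
    obtain ⟨w, hw⟩ := hRF (eF.symm ∘ u)
    have hu : f ∘ (eF.symm ∘ u) = u := by
      funext i
      simp [f]
    refine ⟨f ∘ w, ?_⟩
    rw [hA'def, ← map_mulVec', ← map_B, hw, map_neg, map_B, map_mulVec', hu]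
  obtain ⟨hcard, hiso⟩ := key A' hs' h3' h1' hR'
  have hfix : ∀ v : I4 → F, A *ᵥ v = v ↔ A' *ᵥ (f ∘ v) = f ∘ v := by
    intro v
    rw [hA'def, ← map_mulVec']
    constructor
    · intro h; rw [h]
    · intro h
      funext i
      apply hf_inj
      exact congrFun h i
  constructor
  · -- the dimension
    set Kr := LinearMap.ker (Matrix.toLin' A - LinearMap.id) with hKr
    have hmem : ∀ v : I4 → F, v ∈ Kr ↔ A *ᵥ v = v := by
      intro v
      rw [hKr, LinearMap.mem_ker, LinearMap.sub_apply, Matrix.toLin'_apply, LinearMap.id_apply,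
        sub_eq_zero]
    let E : ↥Kr ≃ {v' : I4 → Z3 // A' *ᵥ v' = v'} :=
      Equiv.subtypeEquiv (Equiv.piCongrRight fun _ => eF.toEquiv)
        (fun v => (hmem v).trans (hfix v))
    have hN : Nat.card ↥Kr = 9 := by
      rw [Nat.card_congr E, Nat.card_eq_fintype_card]
      exact hcard
    have hpow := Module.natCard_eq_pow_finrank (K := F) (V := ↥Kr)
    rw [hN, Nat.card_eq_fintype_card, hF] at hpow
    have : (3 : ℕ) ^ 2 = 3 ^ Module.finrank F ↥Kr := by rw [← hpow]; norm_num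
    exact (Nat.pow_right_injective (by norm_num : 2 ≤ 3) this).symm
  · intro v w hv hw
    have h1 := hiso (f ∘ v) (f ∘ w) ((hfix v).mp hv) ((hfix w).mp hw)
    rw [← map_B] at h1
    exact hf_inj (by rw [h1, map_zero])

end Cfsg.Agent.S3213
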