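import Mathlib
import Cfsg.Statements.S3215
import Cfsg.Agent.Lib.Helper10.LBal4
import Cfsg.Agent.Lib.Helper1.CFitting
import Cfsg.Agent.Lib.Helper1.Fitting
import Cfsg.Agent.Lib.Helper1.FrobCenter
import Cfsg.Agent.Lib.Helper1.NPC
import Cfsg.Agent.Lib.helper17.PClosed
import Cfsg.Agent.Lib.Lead.Coprime
import Cfsg.Agent.Lib.Helper19.UniqueInvolution
-- import your own Cfsg.Agent.* helpers here

set_option autoImplicit false
open Cfsg

namespace Cfsg.Agent.S3215

open Cfsg
open scoped commutatorElement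

variable {H : Type*} [Group H] [Finite H]

/-- Step 1: centralizers of involutions are 2-groups. -/
lemma cent_invol (hsol : Group.IsSolvable H) (hO : Cfsg.pPrimeCore 2 H = ⊥)
    (t : H) (ht : orderOf t = 2)
    (hI : Cfsg.HasNormalPComplement 2 ↥(Subgroup.centralizer ({t} : Set H))) :
    ∀ x : H, x * t = t * x → Odd (orderOf x) → x = 1 := by
  have : Fact (Nat.Prime 2) := ⟨Nat.prime_two⟩
  set C := Subgroup.centralizer ({t} : Set H) with hC
  obtain ⟨P, N, hNn, hNc⟩ := hI
  set V := N.map C.subtype with hV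
  have hVcop : (Nat.card V).Coprime 2 := by
    have h1 : Nat.card V = Nat.card N := by
      rw [hV]
      exact Nat.card_congr (N.equivMapOfInjective _ C.subtype_injective).toEquiv.symm
    rw [h1]
    exact Cfsg.Agent.Lib.Helper1.card_coprime_of_isComplement'_sylow P hNc
  have hVC : V ≤ C := Subgroup.map_subtype_le N
  have hmemC : ∀ c : H, c ∈ C ↔ c * t = t * c := by
    intro c
    rw [hC, Subgroup.mem_centralizer_iff]
    constructor
    · intro h; exact (h t rfl).symm
    · intro h g hg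
      rw [Set.mem_singleton_iff] at hg
      rw [hg]; exact h.symm
  have hzt : ∀ c : H, c ∈ Subgroup.centralizer ((Subgroup.zpowers t : Subgroup H) : Set H) ↔ c ∈ C := by
    intro c
    rw [hmemC, Subgroup.mem_centralizer_iff]
    constructor
    · intro h
      exact (h t (Subgroup.mem_zpowers t)).symm
    · intro h g hg
      obtain ⟨k, rfl⟩ := Subgroup.mem_zpowers_iff.mp hg
      exact ((Commute.zpow_right (show Commute c t from h) k).eq).symm
  have hP2 : IsPGroup 2 (Subgroup.zpowers t) := by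
    apply IsPGroup.of_card (n := 1)
    rw [Nat.card_zpowers, ht, pow_one]
  have h1 : V ≤ Subgroup.centralizer ((pCore 2 H : Subgroup H) : Set H) := by
    apply Cfsg.Agent.Lib.Helper10.le_centralizer_pCore 2 (Subgroup.zpowers t) hP2 V
    · intro v hv
      exact (hzt v).mpr (hVC hv)
    · exact hVcop
    · intro c hc
      have hcC : c ∈ C := (hzt c).mp hc
      rw [Subgroup.mem_normalizer_iff]
      intro v
      constructor
      · intro hv
        obtain ⟨n, hn, rfl⟩ := hv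
        have := hNn.conj_mem n hn ⟨c, hcC⟩
        exact ⟨_, this, by simp⟩
      · intro hv
        obtain ⟨n, hn, hne⟩ := hv
        have hvC : v ∈ C := by
          have : c * v * c⁻¹ ∈ C := by rw [← hne]; exact n.2
          have h2 := C.mul_mem (C.mul_mem (C.inv_mem hcC) this) hcC
          have e : c⁻¹ * (c * v * c⁻¹) * c = v := by group
          rwa [e] at h2
        have h3 := hNn.conj_mem n hn ⟨c, hcC⟩⁻¹
        refine ⟨⟨v, hvC⟩, ?_, rfl⟩
        have e : (⟨v, hvC⟩ : ↥C) = ⟨c, hcC⟩⁻¹ * n * ⟨c, hcC⟩⁻¹⁻¹ := by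
          apply Subtype.ext
          simp only [Subgroup.coe_mul, Subgroup.coe_inv, inv_inv]
          rw [Subgroup.coe_subtype] at hne
          rw [hne]; group
        rw [e]; exact h3
  have h2 : V ≤ pCore 2 H := by
    have : Group.IsSolvable H := hsol
    exact h1.trans (Cfsg.Agent.Lib.Helper1.centralizer_pCore_le 2 hO)
  have hVbot : V = ⊥ := by
    have hV2 : IsPGroup 2 V := (Cfsg.Agent.Lib.Helper1.pCore_isPGroup 2).to_le h2
    obtain ⟨k, hk⟩ := IsPGroup.iff_card.mp hV2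
    rw [hk] at hVcop
    have : k = 0 := by
      by_contra hk0
      have h2k : 2 ∣ 2 ^ k := dvd_pow_self 2 hk0
      have := Nat.Coprime.eq_one_of_dvd hVcop.symm h2k
      omega
    rw [this, pow_zero] at hk
    exact Subgroup.eq_bot_of_card_eq V hk
  have hNbot : N = ⊥ := by
    rw [eq_bot_iff]
    intro n hn
    have : (n : H) ∈ V := ⟨n, hn, rfl⟩
    rw [hVbot, Subgroup.mem_bot] at this
    rw [Subgroup.mem_bot]
    exact Subtype.ext this
  have hPtop : (P : Subgroup ↥C) = ⊤ := by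
    rw [hNbot] at hNc
    exact Subgroup.isComplement'_bot_left.mp hNc
  intro x hx hodd
  have hxC : x ∈ C := (hmemC x).mpr hx
  have hC2 : IsPGroup 2 ↥C := by
    have := P.isPGroup'
    rw [hPtop] at this
    exact IsPGroup.of_equiv this Subgroup.topEquiv
  obtain ⟨k, hk⟩ := (IsPGroup.iff_orderOf.mp hC2) ⟨x, hxC⟩
  rw [Subgroup.orderOf_mk] at hk
  rw [hk] at hodd
  have : k = 0 := by
    by_contra hk0
    have : Even (2 ^ k) := (Nat.even_pow' hk0).mpr even_two
    exact (Nat.not_odd_iff_even.mpr this) hodd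
  rw [this, pow_zero] at hk
  exact orderOf_eq_one_iff.mp hk


omit [Finite H] in
lemma key (hinv : ∀ t x : H, orderOf t = 2 → x * t = t * x → Odd (orderOf x) → x = 1)
    (a x : H) (k : ℕ) (hk : orderOf a = 2 ^ k) (ha1 : a ≠ 1) (hc : x * a = a * x)
    (hodd : Odd (orderOf x)) : x = 1 := by
  have hk0 : k ≠ 0 := by
    intro h
    rw [h, pow_zero, orderOf_eq_one_iff] at hk
    exact ha1 hk
  obtain ⟨m, rfl⟩ : ∃ m, k = m + 1 := ⟨k - 1, by omega⟩
  have ht : orderOf (a ^ (2 ^ m)) = 2 := by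
    rw [orderOf_pow_of_dvd (by positivity) (by rw [hk, pow_succ]; exact dvd_mul_right _ _), hk, pow_succ]
    exact Nat.mul_div_cancel_left 2 (by positivity)
  apply hinv (a ^ (2 ^ m)) x ht _ hodd
  exact ((show Commute x a from hc).pow_right _).eq

theorem main (hsol : Group.IsSolvable H)
    (hO : Cfsg.oddCore H = ⊥)
    (hI : ∀ t : H, orderOf t = 2 → Cfsg.HasNormalPComplement 2 ↥(Subgroup.centralizer ({t} : Set H)))
    (X : Subgroup H) (hXodd : Odd (Nat.card X)) (hXidx : ∃ k : ℕ, X.index = 2 ^ k) :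
    (∀ x ∈ X, x ≠ 1 → ∀ y ∈ Cfsg.pCore 2 H, y ≠ 1 → x * y ≠ y * x) ∧
      (∀ (p : ℕ) [Fact p.Prime] (P : Sylow p ↥X), IsCyclic ↥(P : Subgroup ↥X)) ∧
      (X ⊔ Cfsg.pCore 2 H).Normal ∧
      ∀ hN : (X ⊔ Cfsg.pCore 2 H).Normal, IsCyclic (H ⧸ (X ⊔ Cfsg.pCore 2 H)) ∧ IsPGroup 2 (H ⧸ (X ⊔ Cfsg.pCore 2 H)) := by
  have h2 : Fact (Nat.Prime 2) := ⟨Nat.prime_two⟩
  have hinv : ∀ t x : H, orderOf t = 2 → x * t = t * x → Odd (orderOf x) → x = 1 :=
    fun t x ht => cent_invol hsol hO t ht (hI t ht) x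
  set Y := Cfsg.pCore 2 H with hY
  have hYn : Y.Normal := Cfsg.Agent.Lib.Helper1.pCore_normal 2
  have hY2 : IsPGroup 2 Y := Cfsg.Agent.Lib.Helper1.pCore_isPGroup 2
  have hCY : Subgroup.centralizer (Y : Set H) ≤ Y := by
    have : Group.IsSolvable H := hsol
    exact Cfsg.Agent.Lib.Helper1.centralizer_pCore_le 2 hO
  have hXelt : ∀ x ∈ X, Odd (orderOf x) := by
    intro x hx
    have h1 : orderOf x ∣ Nat.card X := by
      have := orderOf_dvd_natCard (⟨x, hx⟩ : X)
      rwa [Subgroup.orderOf_mk] at this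
    exact hXodd.of_dvd_nat h1
  have hYelt : ∀ y ∈ Y, ∃ k, orderOf y = 2 ^ k := by
    intro y hy
    obtain ⟨k, hk⟩ := (IsPGroup.iff_orderOf.mp hY2) ⟨y, hy⟩
    exact ⟨k, by rwa [Subgroup.orderOf_mk] at hk⟩
  -- (a)
  have hA : ∀ x ∈ X, x ≠ 1 → ∀ y ∈ Y, y ≠ 1 → x * y ≠ y * x := by
    intro x hx hx1 y hy hy1 hxy
    obtain ⟨k, hk⟩ := hYelt y hy
    exact hx1 (key hinv y x k hk hy1 hxy (hXelt x hx))
  -- (b)
  have hB : ∀ (p : ℕ) [Fact p.Prime] (P : Sylow p ↥X), IsCyclic ↥(P : Subgroup ↥X) := by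
    intro p hp P
    by_cases hYbot : Y = ⊥
    · -- H trivial
      have htop : (⊤ : Subgroup H) ≤ Y := by
        refine le_trans ?_ hCY
        rw [hYbot]
        intro g _
        rw [Subgroup.mem_centralizer_iff]
        intro y hy
        rw [Subgroup.coe_bot, Set.mem_singleton_iff] at hy
        rw [hy, one_mul, mul_one]
      have hsub : Subsingleton H := by
        constructor
        intro a b
        have ha : a ∈ Y := htop (Subgroup.mem_top a)
        have hb : b ∈ Y := htop (Subgroup.mem_top b)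
        rw [hYbot, Subgroup.mem_bot] at ha hb
        rw [ha, hb]
      have : Subsingleton ↥(P : Subgroup ↥X) := by
        constructor
        intro a b
        apply Subtype.ext; apply Subtype.ext
        exact Subsingleton.elim _ _
      exact isCyclic_of_subsingleton
    by_cases hp2 : p = 2
    · -- P trivial
      have hcard : Nat.card (P : Subgroup ↥X) = 1 := by
        obtain ⟨k, hk⟩ := IsPGroup.iff_card.mp P.isPGroup'
        have hdvd : Nat.card (P : Subgroup ↥X) ∣ Nat.card X := Subgroup.card_subgroup_dvd_card _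
        have hodd : Odd (Nat.card (P : Subgroup ↥X)) := hXodd.of_dvd_nat hdvd
        rw [hk, hp2] at hodd ⊢
        by_contra hne
        have hk0 : k ≠ 0 := by
          intro h; rw [h, pow_zero] at hne; exact hne rfl
        have : Even (2 ^ k) := (Nat.even_pow' hk0).mpr even_two
        exact (Nat.not_odd_iff_even.mpr this) hodd
      have : Subsingleton ↥(P : Subgroup ↥X) := (Nat.card_eq_one_iff_unique.mp hcard).1
      exact isCyclic_of_subsingleton
    · set R : Subgroup H := (P : Subgroup ↥X).map X.subtype with hR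
      set V : Subgroup H := (Subgroup.center ↥Y).map Y.subtype with hV
      have hRX : R ≤ X := Subgroup.map_subtype_le _
      have hVY : V ≤ Y := Subgroup.map_subtype_le _
      have hVc : IsMulCommutative V := by rw [hV]; infer_instance
      have hVne : V ≠ ⊥ := by
        have : Nontrivial ↥Y := (Subgroup.nontrivial_iff_ne_bot Y).mpr hYbot
        have hc := hY2.center_nontrivial
        rw [hV]
        intro h
        rw [(Subgroup.map_eq_bot_iff_of_injective _ Y.subtype_injective)] at h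
        exact (Subgroup.nontrivial_iff_ne_bot _).mp hc h
      have hVn : V.Normal := by
        rw [hV]
        exact ConjAct.normal_of_characteristic_of_normal
      have hRV : R ≤ Subgroup.normalizer (V : Set H) := by
        rw [Subgroup.normalizer_eq_top]; exact le_top
      have hfpf : ∀ a ∈ R, a ≠ 1 → V ⊓ Subgroup.centralizer {a} = ⊥ := by
        intro a ha ha1
        rw [eq_bot_iff]
        intro v hv
        rw [Subgroup.mem_inf] at hv
        rw [Subgroup.mem_bot]
        by_contra hv1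
        apply hA a (hRX ha) ha1 v (hVY hv.1) hv1
        exact (Subgroup.mem_centralizer_iff.mp hv.2 a rfl)
      have hRp : IsPGroup p R := P.isPGroup'.map _
      have hcyc : IsCyclic R :=
        Cfsg.Agent.Lib.Helper1.isCyclic_pgroup_of_fpf R V hVne hRV hfpf p hp2 hRp
      exact isCyclic_of_surjective ((P : Subgroup ↥X).equivMapOfInjective _ X.subtype_injective).symm
        ((P : Subgroup ↥X).equivMapOfInjective _ X.subtype_injective).symm.surjective
  refine ⟨hA, hB, ?_⟩
  have : Y.Normal := hYn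
  have : Group.IsSolvable H := hsol
  set π := QuotientGroup.mk' Y with hπ
  have hπs : Function.Surjective π := QuotientGroup.mk'_surjective Y
  have hkerπ : π.ker = Y := QuotientGroup.ker_mk' Y
  -- O_2(H/Y) = 1
  have hQ2 : Cfsg.pCore 2 (H ⧸ Y) = ⊥ := by
    rw [Cfsg.Agent.Lib.helper17.pCore_quotient Y hY2, ← hY]
    exact (Subgroup.map_eq_bot_iff _).mpr (le_of_eq (QuotientGroup.ker_mk' Y).symm)
  set F := Cfsg.fittingSubgroup (H ⧸ Y) with hF
  have hFn : F.Normal := Cfsg.Agent.Lib.Helper1.fittingSubgroup_normal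
  have hFnil : Group.IsNilpotent F := Cfsg.Agent.Lib.Helper1.fittingSubgroup_nilpotent
  have hFC : Subgroup.centralizer (F : Set (H ⧸ Y)) ≤ F :=
    Cfsg.Agent.Lib.Helper1.centralizer_fittingSubgroup_le
  have hFodd : F ≤ Cfsg.pPrimeCore 2 (H ⧸ Y) := by
    rw [hF, Cfsg.Agent.Lib.Helper1.fittingSubgroup_eq_iSup_pCore]
    apply iSup_le
    intro q
    by_cases hq : (q : ℕ) = 2
    · rw [hq, hQ2]; exact bot_le
    · exact Cfsg.Agent.Lib.Helper1.pCore_le_pPrimeCore_of_ne Nat.prime_two q.2 hq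
  set Xh := X.map π with hXh
  have hXhodd : Odd (Nat.card Xh) := by
    have : Nat.card Xh ∣ Nat.card X := Subgroup.card_map_dvd X π
    exact hXodd.of_dvd_nat this
  have hXhidx : ∃ k, Xh.index = 2 ^ k := by
    obtain ⟨k, hk⟩ := hXidx
    have := Subgroup.index_map_dvd X hπs
    rw [hk] at this
    obtain ⟨m, -, hm⟩ := (Nat.dvd_prime_pow Nat.prime_two).mp this
    exact ⟨m, hm⟩
  -- O(H/Y) ≤ Xh
  have hOle : Cfsg.pPrimeCore 2 (H ⧸ Y) ≤ Xh := by
    set O := Cfsg.pPrimeCore 2 (H ⧸ Y) with hOdef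
    have hOn : O.Normal := Cfsg.Agent.Lib.Helper1.pPrimeCore_normal 2
    have hOc : (Nat.card O).Coprime 2 := Cfsg.Agent.Lib.Helper1.pPrimeCore_card_coprime 2
    have hSodd : Odd (Nat.card (Xh ⊔ O : Subgroup (H ⧸ Y))) := by
      have h1 := Cfsg.Agent.Lib.Helper1.card_sup_dvd_mul Xh O
      have hOodd : Odd (Nat.card O) := by
        rw [← Nat.not_even_iff_odd]
        intro he
        have := Nat.Coprime.eq_one_of_dvd hOc.symm he.two_dvd
        omega
      exact (hXhodd.mul hOodd).of_dvd_nat h1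
    have hrel1 : Xh.relIndex (Xh ⊔ O) ∣ Xh.index := by
      have := Subgroup.relIndex_mul_index (le_sup_left : Xh ≤ Xh ⊔ O)
      exact Dvd.intro _ this
    have hrel2 : Xh.relIndex (Xh ⊔ O) ∣ Nat.card (Xh ⊔ O : Subgroup (H ⧸ Y)) := by
      rw [Subgroup.relIndex]
      exact Subgroup.index_dvd_card _
    obtain ⟨k, hk⟩ := hXhidx
    rw [hk] at hrel1
    obtain ⟨m, -, hm⟩ := (Nat.dvd_prime_pow Nat.prime_two).mp hrel1
    have hm0 : m = 0 := by
      by_contra hm0
      have he : Even (Xh.relIndex (Xh ⊔ O)) := by rw [hm]; exact (Nat.even_pow' hm0).mpr even_two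
      have hodd := hSodd.of_dvd_nat hrel2
      exact (Nat.not_odd_iff_even.mpr he) hodd
    rw [hm0, pow_zero, Subgroup.relIndex_eq_one] at hm
    exact le_trans le_sup_right hm
  have hFX : F ≤ Xh := hFodd.trans hOle
  -- F is cyclic
  have hZX : IsZGroup ↥X := ⟨fun p hp P => by
    have : Fact p.Prime := ⟨hp⟩
    exact hB p P⟩
  have hZXh : IsZGroup ↥Xh :=
    IsZGroup.of_surjective (f := π.subgroupMap X) (π.subgroupMap_surjective X)
  have hZF : IsZGroup ↥F :=
    IsZGroup.of_injective (f := Subgroup.inclusion hFX) (Subgroup.inclusion_injective hFX)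
  have hFcyc : IsCyclic ↥F := inferInstance
  -- commutators centralize F
  have hcomm : ∀ g h : H ⧸ Y, ⁅g, h⁆ ∈ Subgroup.centralizer (F : Set (H ⧸ Y)) := by
    intro g h
    have hc : ∀ σ τ : MulAut ↥F, σ * τ = τ * σ := by
      intro σ τ
      apply (IsCyclic.mulAutMulEquiv ↥F).injective
      rw [map_mul, map_mul, mul_comm]
    have h1 : MulAut.conjNormal (H := F) ⁅g, h⁆ = 1 := by
      rw [map_commutatorElement, commutatorElement_eq_one_iff_mul_comm]
      exact hc _ _
    rw [Subgroup.mem_centralizer_iff]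
    intro f hf
    have h2 := congrArg (fun σ : MulAut ↥F => ((σ ⟨f, hf⟩ : ↥F) : H ⧸ Y)) h1
    simp only [MulAut.conjNormal_apply, MulAut.one_apply] at h2
    -- h2 : ⁅g,h⁆ * f * ⁅g,h⁆⁻¹ = f
    calc f * ⁅g, h⁆ = (⁅g, h⁆ * f * ⁅g, h⁆⁻¹) * ⁅g, h⁆ := by rw [h2]
      _ = ⁅g, h⁆ * f := by group
  have hcommX : ∀ g h : H ⧸ Y, ⁅g, h⁆ ∈ Xh := fun g h => hFX (hFC (hcomm g h))
  have hXhn : Xh.Normal := by
    constructor
    intro x hx g
    have : g * x * g⁻¹ = ⁅g, x⁆ * x := by rw [commutatorElement_def]; group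
    rw [this]
    exact Xh.mul_mem (hcommX g x) hx
  have hsup : X ⊔ Y = Xh.comap π := by
    rw [hXh, Subgroup.comap_map_eq, hkerπ]
  have hC : (X ⊔ Y).Normal := by
    rw [hsup]; exact hXhn.comap π
  refine ⟨hC, ?_⟩
  intro hN
  have hQ2grp : IsPGroup 2 (H ⧸ (X ⊔ Y)) := by
    obtain ⟨k, hk⟩ := hXidx
    have h1 : (X ⊔ Y).index ∣ X.index := Subgroup.index_dvd_of_le le_sup_left
    rw [hk] at h1
    obtain ⟨m, -, hm⟩ := (Nat.dvd_prime_pow Nat.prime_two).mp h1
    apply IsPGroup.of_card (n := m)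
    rw [← hm, Subgroup.index_eq_card]
  refine ⟨?_, hQ2grp⟩
  -- abelian
  have hQab : ∀ a b : H ⧸ (X ⊔ Y), a * b = b * a := by
    intro a b
    obtain ⟨g, rfl⟩ := QuotientGroup.mk_surjective a
    obtain ⟨h, rfl⟩ := QuotientGroup.mk_surjective b
    rw [← QuotientGroup.mk_mul, ← QuotientGroup.mk_mul, QuotientGroup.eq]
    rw [hsup, Subgroup.mem_comap]
    have : (g * h)⁻¹ * (h * g) = ⁅h⁻¹, g⁻¹⁆ := by rw [commutatorElement_def]; group
    rw [this, map_commutatorElement]
    exact hcommX _ _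
  -- involutions of H/Y act fixed-point-freely on Xh
  have hfpfq : ∀ (ah fh : H ⧸ Y), ah ≠ 1 → ah * ah = 1 → fh ∈ Xh → ah * fh = fh * ah → fh = 1 := by
    intro ah fh hah1 hah2 hfh hcomm'
    obtain ⟨f, hfX, rfl⟩ := hfh
    obtain ⟨a, rfl⟩ := hπs ah
    have hAD : Subgroup.zpowers f ≤ Subgroup.normalizer (Y : Set H) := by
      rw [Subgroup.normalizer_eq_top]; exact le_top
    have hcop : (Nat.card (Subgroup.zpowers f)).Coprime (Nat.card Y) := by
      rw [Nat.card_zpowers]
      obtain ⟨k, hk⟩ := IsPGroup.iff_card.mp hY2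
      rw [hk]
      apply Nat.Coprime.pow_right
      exact (hXelt f hfX).coprime_two_right
    have hx : ∀ b ∈ Subgroup.zpowers f, a⁻¹ * (b * a * b⁻¹) ∈ Y := by
      intro b hb
      rw [← hkerπ, MonoidHom.mem_ker]
      obtain ⟨n, rfl⟩ := Subgroup.mem_zpowers_iff.mp hb
      simp only [map_mul, map_inv, map_zpow]
      have hc1 : Commute (π a) (π f) := hcomm'
      have hc2 := (hc1.zpow_right n).eq
      rw [← hc2]; group
    obtain ⟨d, hd, hcd⟩ := Cfsg.Agent.Lib.Lead.coset_fixed (Subgroup.zpowers f) Y hAD hcop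
      (Or.inl inferInstance) a hx
    have hcf : f * (a * d) = (a * d) * f :=
      Subgroup.mem_centralizer_iff.mp hcd f (Subgroup.mem_zpowers f)
    have hπd : π d = 1 := by rw [← MonoidHom.mem_ker, hkerπ]; exact hd
    have hπad : π (a * d) = π a := by rw [map_mul, hπd, mul_one]
    have had1 : a * d ≠ 1 := by
      intro h; rw [h, map_one] at hπad; exact hah1 hπad.symm
    have had2 : (a * d) ^ 2 ∈ Y := by
      rw [← hkerπ, MonoidHom.mem_ker, map_pow, hπad, sq]; exact hah2
    obtain ⟨k, hk⟩ := hYelt _ had2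
    have hord : ∃ j, orderOf (a * d) = 2 ^ j := by
      have h1 : (a * d) ^ (2 ^ (k + 1)) = 1 := by
        rw [pow_succ', pow_mul, ← hk]; exact pow_orderOf_eq_one _
      have := orderOf_dvd_of_pow_eq_one h1
      obtain ⟨j, -, hj⟩ := (Nat.dvd_prime_pow Nat.prime_two).mp this
      exact ⟨j, hj⟩
    obtain ⟨j, hj⟩ := hord
    have := key hinv (a * d) f j hj had1 hcf (hXelt f hfX)
    rw [this, map_one]
  -- involutions of H/Y invert F
  have hinvF : ∀ ah : H ⧸ Y, ah ≠ 1 → ah * ah = 1 → ∀ f ∈ F, ah * f * ah⁻¹ = f⁻¹ := by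
    intro ah h1 h2' f hf
    set φ : MulAut ↥F := MulAut.conjNormal ah with hφ
    have hfp : MonoidHom.FixedPointFree φ := by
      intro x hx
      have hx' : ah * (x : H ⧸ Y) * ah⁻¹ = x := by
        have := congrArg Subtype.val hx
        simpa [hφ, MulAut.conjNormal_apply] using this
      have hcx : ah * (x : H ⧸ Y) = x * ah := by
        calc ah * (x : H ⧸ Y) = (ah * x * ah⁻¹) * ah := by group
          _ = x * ah := by rw [hx']
      have : (x : H ⧸ Y) = 1 := hfpfq ah x h1 h2' (hFX x.2) hcx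
      exact Subtype.ext this
    have hahinv : ah⁻¹ = ah := inv_eq_of_mul_eq_one_left h2'
    have hinvol : Function.Involutive φ := by
      intro x
      apply Subtype.ext
      simp only [hφ, MulAut.conjNormal_apply]
      rw [hahinv, ← mul_assoc, ← mul_assoc, h2', one_mul, mul_assoc, h2', mul_one]
    have h3 := congrFun (hfp.coe_eq_inv_of_involutive hinvol) ⟨f, hf⟩
    have h4 := congrArg Subtype.val h3
    simpa [hφ, MulAut.conjNormal_apply] using h4
  have hlift : ∀ q : H ⧸ (X ⊔ Y), q * q = 1 → q ≠ 1 →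
      ∃ ah : H ⧸ Y, ah ≠ 1 ∧ ah * ah = 1 ∧ ∃ g : H, π g = ah ∧ (g : H ⧸ (X ⊔ Y)) = q := by
    intro q hq2 hq1
    obtain ⟨g₀, rfl⟩ := QuotientGroup.mk_surjective q
    have hpos : orderOf g₀ ≠ 0 := (orderOf_pos g₀).ne'
    obtain ⟨k, m, hm, hkm⟩ := Nat.exists_eq_two_pow_mul_odd hpos
    have hm0 : m ≠ 0 := by rintro rfl; simp at hm
    set g := g₀ ^ m with hg
    have hgord : orderOf g = 2 ^ k := by
      rw [hg, orderOf_pow_of_dvd hm0 (by rw [hkm]; exact dvd_mul_left _ _), hkm]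
      exact Nat.mul_div_cancel _ (Nat.pos_of_ne_zero hm0)
    have hgq : (g : H ⧸ (X ⊔ Y)) = (g₀ : H ⧸ (X ⊔ Y)) := by
      rw [hg, QuotientGroup.mk_pow]
      obtain ⟨r, hr⟩ := hm
      rw [hr, pow_succ, pow_mul, sq, hq2, one_pow, one_mul]
    refine ⟨π g, ?_, ?_, g, rfl, hgq⟩
    · intro h
      rw [← MonoidHom.mem_ker, hkerπ] at h
      apply hq1
      rw [← hgq, QuotientGroup.eq_one_iff]
      exact Subgroup.mem_sup_right h
    · have h1 : π (g * g) ∈ Xh := by
        have : g * g ∈ X ⊔ Y := by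
          rw [← QuotientGroup.eq_one_iff, QuotientGroup.mk_mul, hgq]; exact hq2
        rw [hsup] at this
        exact this
      have h2 : orderOf (π (g * g)) ∣ 2 ^ k := by
        apply orderOf_dvd_of_pow_eq_one
        rw [← map_pow, ← sq, ← pow_mul, mul_comm, pow_mul, ← hgord, pow_orderOf_eq_one, one_pow, map_one]
      have h3 : orderOf (π (g * g)) ∣ Nat.card Xh := by
        have := orderOf_dvd_natCard (⟨π (g * g), h1⟩ : Xh)
        rwa [Subgroup.orderOf_mk] at this
      have h4 : orderOf (π (g * g)) = 1 := by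
        obtain ⟨j, -, hj⟩ := (Nat.dvd_prime_pow Nat.prime_two).mp h2
        have hodd := hXhodd.of_dvd_nat h3
        rw [hj] at hodd ⊢
        by_contra hne
        have hj0 : j ≠ 0 := by intro h; rw [h, pow_zero] at hne; exact hne rfl
        exact (Nat.not_odd_iff_even.mpr ((Nat.even_pow' hj0).mpr even_two)) hodd
      rw [orderOf_eq_one_iff, map_mul] at h4
      exact h4
  have huniq : ∀ q₁ q₂ : H ⧸ (X ⊔ Y), q₁ * q₁ = 1 → q₁ ≠ 1 → q₂ * q₂ = 1 → q₂ ≠ 1 → q₁ = q₂ := by
    intro q₁ q₂ h1 h1' h2' h2''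
    obtain ⟨ah₁, ha1, ha1', g₁, hg₁, hgq₁⟩ := hlift q₁ h1 h1'
    obtain ⟨ah₂, ha2, ha2', g₂, hg₂, hgq₂⟩ := hlift q₂ h2' h2''
    have hcent : ah₁ * ah₂ ∈ Subgroup.centralizer (F : Set (H ⧸ Y)) := by
      rw [Subgroup.mem_centralizer_iff]
      intro f hf
      have e1 := hinvF ah₂ ha2 ha2' f hf
      have e2 := hinvF ah₁ ha1 ha1' f⁻¹ (F.inv_mem hf)
      rw [inv_inv] at e2
      have e3 : (ah₁ * ah₂) * f * (ah₁ * ah₂)⁻¹ = f := by
        calc (ah₁ * ah₂) * f * (ah₁ * ah₂)⁻¹ = ah₁ * (ah₂ * f * ah₂⁻¹) * ah₁⁻¹ := by group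
          _ = f := by rw [e1, e2]
      calc f * (ah₁ * ah₂) = ((ah₁ * ah₂) * f * (ah₁ * ah₂)⁻¹) * (ah₁ * ah₂) := by rw [e3]
        _ = (ah₁ * ah₂) * f := by group
    have hmem : ah₁ * ah₂ ∈ Xh := hFX (hFC hcent)
    have hgg : g₁ * g₂ ∈ X ⊔ Y := by
      rw [hsup, Subgroup.mem_comap, map_mul, hg₁, hg₂]; exact hmem
    have h12 : q₁ * q₂ = 1 := by
      rw [← hgq₁, ← hgq₂, ← QuotientGroup.mk_mul, QuotientGroup.eq_one_iff]; exact hgg
    calc q₁ = q₁ * (q₂ * q₂) := by rw [h2', mul_one]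
      _ = (q₁ * q₂) * q₂ := by group
      _ = q₂ := by rw [h12, one_mul]
  have hcyc : ∃ a ∈ (⊤ : Subgroup (H ⧸ (X ⊔ Y))), (⊤ : Subgroup _) = Subgroup.zpowers a := by
    by_cases hex : ∃ q : H ⧸ (X ⊔ Y), q * q = 1 ∧ q ≠ 1
    · obtain ⟨z, hz2, hz1⟩ := hex
      apply Cfsg.Agent.Lib.Helper19.cyclic_of_comm_unique_involution hQ2grp z _ ⊤
        (fun a _ b _ => hQab a b)
      intro u hu
      by_cases hu1 : u = 1
      · left; exact hu1
      · right; exact huniq u z hu hu1 hz2 hz1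
    · have hex' : ∀ q : H ⧸ (X ⊔ Y), q * q = 1 → q = 1 := by
        intro q hq
        by_contra hq1
        exact hex ⟨q, hq, hq1⟩
      apply Cfsg.Agent.Lib.Helper19.cyclic_of_comm_unique_involution hQ2grp 1 _ ⊤
        (fun a _ b _ => hQab a b)
      intro u hu
      left
      exact hex' u hu
  obtain ⟨a, -, ha⟩ := hcyc
  exact isCyclic_iff_exists_zpowers_eq_top.mpr ⟨a, ha.symm⟩


/-- Let H be a finite solvable group with no nontrivial normal subgroup of odd order in which the centralizer of every involution has a normal 2-complement. Let X be a Hall 2'-subgroup of H (odd order, index a power of 2) and Y = O₂(H). Then no non-identity element of X commutes with a non-identity element of Y (so for X ≠ 1 the group XY is a Frobenius group with kernel Y), every Sylow subgroup of X is cyclic, XY is normal in H, and H/XY is a cyclic 2-group. -/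
theorem result {H : Type*} [Group H] [Finite H] (hsol : Group.IsSolvable H)
    (hO : Cfsg.oddCore H = ⊥)
    (hI : ∀ t : H, orderOf t = 2 → Cfsg.HasNormalPComplement 2 ↥(Subgroup.centralizer ({t} : Set H)))
    (X : Subgroup H) (hXodd : Odd (Nat.card X)) (hXidx : ∃ k : ℕ, X.index = 2 ^ k) :
    (∀ x ∈ X, x ≠ 1 → ∀ y ∈ Cfsg.pCore 2 H, y ≠ 1 → x * y ≠ y * x) ∧
      (∀ (p : ℕ) [Fact p.Prime] (P : Sylow p ↥X), IsCyclic ↥(P : Subgroup ↥X)) ∧
      (X ⊔ Cfsg.pCore 2 H).Normal ∧
      ∀ hN : (X ⊔ Cfsg.pCore 2 H).Normal, IsCyclic (H ⧸ (X ⊔ Cfsg.pCore 2 H)) ∧ IsPGroup 2 (H ⧸ (X ⊔ Cfsg.pCore 2 H)) := by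
  exact main hsol hO hI X hXodd hXidx

end Cfsg.Agent.S3215
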