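import Mathlib
import Cfsg.Statements.S3224
import Cfsg.Agent.Lib.Helper19.TwoGroup
import Cfsg.Agent.Lib.Helper24.TwoInvol
-- import your own Cfsg.Agent.* helpers here

set_option autoImplicit false
open Cfsg

namespace Cfsg.Agent.S3224

universe u

/-- common facts: for `|P| = 2^m ≥ 8` with an involution `t` whose centralizer has order 4. -/
theorem basic_facts {P : Type u} [Group P] [Finite P] (m : ℕ) (hm : 3 ≤ m) (hP : Nat.card P = 2 ^ m)
    (t : P) (ht : orderOf t = 2) (hC : Nat.card ↥(Subgroup.centralizer ({t} : Set P)) = 4) :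
    ∃ z : P, z ≠ 1 ∧ z * z = 1 ∧ (∀ g : P, g * z = z * g) ∧ z ≠ t ∧
      (∀ c : P, c * t = t * c → c = 1 ∨ c = t ∨ c = z ∨ c = t * z) ∧
      (∀ c : P, (∀ g : P, g * c = c * g) → c = 1 ∨ c = z) ∧ (¬ ∀ g : P, g * t = t * g) := by
  classical
  have : Fact (Nat.Prime 2) := ⟨Nat.prime_two⟩
  have hPp : IsPGroup 2 P := IsPGroup.of_card hP
  have ht2 : t * t = 1 := by rw [← pow_two, ← ht, pow_orderOf_eq_one]
  have ht1 : t ≠ 1 := by intro h; rw [h, orderOf_one] at ht; omega
  have hmemC : ∀ c : P, c ∈ Subgroup.centralizer ({t} : Set P) ↔ c * t = t * c := by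
    intro c
    rw [Subgroup.mem_centralizer_iff]
    constructor
    · intro h; exact (h t rfl).symm
    · intro h x hx
      rw [Set.mem_singleton_iff] at hx
      subst hx
      exact h.symm
  -- t not central
  have htnc : ¬ ∀ g : P, g * t = t * g := by
    intro h
    have htop : Subgroup.centralizer ({t} : Set P) = ⊤ := by
      rw [eq_top_iff]
      intro g _
      rw [hmemC]; exact h g
    rw [htop, Subgroup.card_top, hP] at hC
    have : 2 ^ 3 ≤ 2 ^ m := Nat.pow_le_pow_right (by norm_num) hm
    omega
  have hnt : Nontrivial P := by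
    rw [← Finite.one_lt_card_iff_nontrivial, hP]
    exact Nat.one_lt_two_pow (by omega)
  have hcn : Nontrivial (Subgroup.center P) := hPp.center_nontrivial
  obtain ⟨⟨z, hz⟩, hz1⟩ := exists_ne (1 : Subgroup.center P)
  have hz1' : z ≠ 1 := fun h => hz1 (Subtype.ext h)
  have hzc : ∀ g : P, g * z = z * g := fun g => (Subgroup.mem_center_iff.mp hz g)
  have hzt : z ≠ t := by
    intro h
    apply htnc
    rw [← h]; exact hzc
  -- the four elements
  have hzC : z ∈ Subgroup.centralizer ({t} : Set P) := by rw [hmemC]; exact (hzc t).symm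
  have htC : t ∈ Subgroup.centralizer ({t} : Set P) := by rw [hmemC]
  have htzC : t * z ∈ Subgroup.centralizer ({t} : Set P) := Subgroup.mul_mem _ htC hzC
  have h1C : (1 : P) ∈ Subgroup.centralizer ({t} : Set P) := Subgroup.one_mem _
  have htz1 : t * z ≠ 1 := by
    intro h
    have : z = t⁻¹ := (eq_inv_of_mul_eq_one_right h)
    rw [inv_eq_of_mul_eq_one_left ht2] at this
    exact hzt this
  have htzt : t * z ≠ t := by
    intro h
    apply hz1'
    have : t * z = t * 1 := by rw [mul_one]; exact h
    exact mul_left_cancel this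
  have htzz : t * z ≠ z := by
    intro h
    apply ht1
    have : t * z = 1 * z := by rw [one_mul]; exact h
    exact mul_right_cancel this
  have hfour : ∀ c : P, c * t = t * c → c = 1 ∨ c = t ∨ c = z ∨ c = t * z := by
    intro c hc
    by_contra hcon
    push Not at hcon
    obtain ⟨c1, c2, c3, c4⟩ := hcon
    have hcC : c ∈ Subgroup.centralizer ({t} : Set P) := by rw [hmemC]; exact hc
    have hcard5 : (insert c (insert 1 (insert t (insert z ({t * z} : Finset P))))).card = 5 := by
      rw [Finset.card_insert_of_notMem, Finset.card_insert_of_notMem, Finset.card_insert_of_notMem,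
        Finset.card_insert_of_notMem, Finset.card_singleton]
      · simp only [Finset.mem_singleton]; exact fun h => htzz h.symm
      · simp only [Finset.mem_insert, Finset.mem_singleton, not_or]
        exact ⟨fun h => hzt h.symm, fun h => htzt h.symm⟩
      · simp only [Finset.mem_insert, Finset.mem_singleton, not_or]
        exact ⟨fun h => ht1 h.symm, fun h => hz1' h.symm, fun h => htz1 h.symm⟩
      · simp only [Finset.mem_insert, Finset.mem_singleton, not_or]
        exact ⟨c1, c2, c3, c4⟩
    have hsub : (↑(insert c (insert 1 (insert t (insert z ({t * z} : Finset P))))) : Set P) ⊆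
        (Subgroup.centralizer ({t} : Set P) : Set P) := by
      intro y hy
      simp only [Finset.coe_insert, Finset.coe_singleton, Set.mem_insert_iff, Set.mem_singleton_iff] at hy
      rcases hy with rfl | rfl | rfl | rfl | rfl
      · exact hcC
      · exact h1C
      · exact htC
      · exact hzC
      · exact htzC
    have h5 := Set.ncard_le_ncard hsub (Set.toFinite _)
    rw [Set.ncard_coe_finset, hcard5] at h5
    have h4 : ((Subgroup.centralizer ({t} : Set P) : Set P)).ncard = 4 := by
      rw [← hC]; rfl
    omega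
  have hz2 : z * z = 1 := by
    have hzz : (z * z) * t = t * (z * z) := by
      calc (z * z) * t = z * (z * t) := by group
        _ = z * (t * z) := by rw [hzc t]
        _ = (z * t) * z := by group
        _ = (t * z) * z := by rw [hzc t]
        _ = t * (z * z) := by group
    rcases hfour (z * z) hzz with h | h | h | h
    · exact h
    · exfalso
      apply htnc
      intro g
      rw [← h, ← mul_assoc, hzc g, mul_assoc, hzc g, ← mul_assoc]
    · exfalso
      apply hz1'
      have : z * z = 1 * z := by rw [one_mul]; exact h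
      exact mul_right_cancel this
    · exfalso
      apply hzt
      have : z * z = t * z := h
      exact mul_right_cancel this
  refine ⟨z, hz1', hz2, hzc, hzt, hfour, ?_, htnc⟩
  intro c hc
  rcases hfour c (hc t).symm with h | h | h | h
  · exact Or.inl h
  · exfalso; apply htnc; rw [← h]; exact fun g => (hc g)
  · exact Or.inr h
  · exfalso
    apply htnc
    intro g
    have h1 := hc g
    rw [h] at h1
    -- g * (t * z) = (t * z) * g  and z central
    have : g * t * z = t * g * z := by
      calc g * t * z = g * (t * z) := by group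
        _ = (t * z) * g := h1
        _ = t * (z * g) := by group
        _ = t * (g * z) := by rw [hzc g]
        _ = t * g * z := by group
    exact mul_right_cancel this


theorem base_case {P : Type u} [Group P] [Finite P] (hP : Nat.card P = 2 ^ 3)
    (t : P) (ht : orderOf t = 2) (hC : Nat.card ↥(Subgroup.centralizer ({t} : Set P)) = 4) :
    ∃ x : P, orderOf x = 2 ^ (3 - 1) ∧ t ∉ Subgroup.zpowers x := by
  classical
  obtain ⟨z, hz1, hz2, hzc, hzt, hfour, hcen, htnc⟩ := basic_facts 3 (le_refl 3) hP t ht hC
  have ht2 : t * t = 1 := by rw [← pow_two, ← ht, pow_orderOf_eq_one]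
  -- some element has square ≠ 1
  have hex : ∃ g : P, g * g ≠ 1 := by
    by_contra hcon
    push Not at hcon
    apply htnc
    intro g
    have h1 := hcon (g * t)
    have hg := hcon g
    have hginv : g⁻¹ = g := inv_eq_of_mul_eq_one_left hg
    have htinv : t⁻¹ = t := inv_eq_of_mul_eq_one_left ht2
    have : g * t = (g * t)⁻¹ := (inv_eq_of_mul_eq_one_left h1).symm
    rw [this, mul_inv_rev, hginv, htinv]
  obtain ⟨g, hg⟩ := hex
  have hdvd : orderOf g ∣ 2 ^ 3 := by rw [← hP]; exact orderOf_dvd_natCard g
  obtain ⟨j, hj, hjo⟩ := (Nat.dvd_prime_pow Nat.prime_two).mp hdvd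
  have hgC : ∀ c : P, c * t = t * c → c * c = 1 := by
    intro c hc
    rcases hfour c hc with h | h | h | h
    · rw [h, one_mul]
    · rw [h]; exact ht2
    · rw [h]; exact hz2
    · rw [h]
      calc t * z * (t * z) = t * (z * t) * z := by group
        _ = t * (t * z) * z := by rw [hzc t]
        _ = (t * t) * (z * z) := by group
        _ = 1 := by rw [ht2, hz2, one_mul]
  have hj2 : j = 2 := by
    interval_cases j
    · exfalso; apply hg
      have : g = 1 := orderOf_eq_one_iff.mp (by rw [hjo]; norm_num)
      rw [this, one_mul]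
    · exfalso; apply hg
      rw [← pow_two]
      have : orderOf g = 2 := by rw [hjo]; norm_num
      rw [← this, pow_orderOf_eq_one]
    · rfl
    · exfalso
      -- cyclic hence abelian
      have hcyc : IsCyclic P := isCyclic_of_orderOf_eq_card g (by rw [hjo, hP])
      apply htnc
      intro x
      exact hcyc.commGroup.mul_comm x t
  refine ⟨g, by rw [hjo, hj2], ?_⟩
  intro hmem
  apply hg
  apply hgC
  obtain ⟨i, hi⟩ := Subgroup.mem_zpowers_iff.mp hmem
  rw [← hi]
  exact ((Commute.refl g).zpow_right i).eq


theorem step_case (m : ℕ) (hm : 3 ≤ m)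
    (IH : ∀ (Q : Type u) [Group Q] [Finite Q], Nat.card Q = 2 ^ m → ∀ t : Q, orderOf t = 2 →
      Nat.card ↥(Subgroup.centralizer ({t} : Set Q)) = 4 →
      ∃ x : Q, orderOf x = 2 ^ (m - 1) ∧ t ∉ Subgroup.zpowers x)
    {P : Type u} [Group P] [Finite P] (hP : Nat.card P = 2 ^ (m + 1))
    (t : P) (ht : orderOf t = 2) (hC : Nat.card ↥(Subgroup.centralizer ({t} : Set P)) = 4) :
    ∃ x : P, orderOf x = 2 ^ (m + 1 - 1) ∧ t ∉ Subgroup.zpowers x := by
  classical
  have : Fact (Nat.Prime 2) := ⟨Nat.prime_two⟩
  obtain ⟨z, hz1, hz2, hzc, hzt, hfour, hcen, htnc⟩ := basic_facts (m + 1) (by omega) hP t ht hC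
  have hPp : IsPGroup 2 P := IsPGroup.of_card hP
  have ht2 : t * t = 1 := by rw [← pow_two, ← ht, pow_orderOf_eq_one]
  have ht1 : t ≠ 1 := by intro h; rw [h, orderOf_one] at ht; omega
  have htinv : t⁻¹ = t := inv_eq_of_mul_eq_one_left ht2
  have hzinv : z⁻¹ = z := inv_eq_of_mul_eq_one_left hz2
  have hzo : orderOf z = 2 := orderOf_eq_prime (by rw [pow_two]; exact hz2) hz1
  set Z : Subgroup P := Subgroup.zpowers z with hZ
  have hmemZ : ∀ g : P, g ∈ Z ↔ g = 1 ∨ g = z := by
    intro g
    constructor
    · intro hg
      obtain ⟨k, rfl⟩ := Subgroup.mem_zpowers_iff.mp hg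
      rcases Int.even_or_odd k with ⟨j, rfl⟩ | ⟨j, rfl⟩
      · left
        rw [zpow_add, ← zpow_add, ← two_mul, zpow_mul, zpow_two, hz2, one_zpow]
      · right
        rw [zpow_add, zpow_mul, zpow_two, hz2, one_zpow, one_mul, zpow_one]
    · rintro (rfl | rfl)
      · exact Subgroup.one_mem _
      · exact Subgroup.mem_zpowers _
  have hZn : Z.Normal := by
    constructor
    intro n hn g
    have : g * n * g⁻¹ = n := by
      rcases (hmemZ n).mp hn with rfl | rfl
      · group
      · rw [hzc g]; group
    rw [this]; exact hn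
  have hZcard : Nat.card Z = 2 := by rw [hZ, Nat.card_zpowers, hzo]
  have hQcard : Nat.card (P ⧸ Z) = 2 ^ m := by
    have := Subgroup.card_eq_card_quotient_mul_card_subgroup Z
    rw [hP, hZcard, pow_succ] at this
    exact (Nat.eq_of_mul_eq_mul_right (by norm_num) this).symm
  have htZ : t ∉ Z := by
    rw [hmemZ]
    rintro (h | h)
    · exact ht1 h
    · exact hzt h.symm
  set tb : P ⧸ Z := (QuotientGroup.mk t : P ⧸ Z) with htb
  have htbo : orderOf tb = 2 := by
    apply orderOf_eq_prime
    · rw [htb, ← QuotientGroup.mk_pow, pow_two, ht2, QuotientGroup.mk_one]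
    · rw [htb, Ne, QuotientGroup.eq_one_iff]
      exact htZ
  -- N = preimage of the centralizer of tb
  set N : Subgroup P := (Subgroup.centralizer ({tb} : Set (P ⧸ Z))).comap (QuotientGroup.mk' Z) with hN
  have hmemN : ∀ g : P, g ∈ N ↔ (g * t * g⁻¹ = t ∨ g * t * g⁻¹ = z * t) := by
    intro g
    rw [hN, Subgroup.mem_comap, Subgroup.mem_centralizer_iff]
    constructor
    · intro h
      have h1 := h tb rfl
      rw [QuotientGroup.mk'_apply, htb, ← QuotientGroup.mk_mul, ← QuotientGroup.mk_mul, QuotientGroup.eq, hmemZ] at h1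
      rcases h1 with h1 | h1
      · left
        have : g * t = t * g := by
          have := eq_of_inv_mul_eq_one h1  -- t * g = g * t
          exact this.symm
        rw [this]; group
      · right
        have : g * t = t * g * z := by
          have h2 : t * g * ((t * g)⁻¹ * (g * t)) = t * g * z := by rw [h1]
          rw [← h2]; group
        rw [this]
        calc t * g * z * g⁻¹ = t * (g * z) * g⁻¹ := by group
          _ = t * (z * g) * g⁻¹ := by rw [hzc g]
          _ = t * z := by group
          _ = z * t := hzc t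
    · intro h x hx
      rw [Set.mem_singleton_iff] at hx
      subst hx
      rw [QuotientGroup.mk'_apply, htb, ← QuotientGroup.mk_mul, ← QuotientGroup.mk_mul, QuotientGroup.eq, hmemZ]
      rcases h with h | h
      · left
        have : g * t = t * g := by
          calc g * t = (g * t * g⁻¹) * g := by group
            _ = t * g := by rw [h]
        rw [this]; group
      · right
        have : g * t = z * t * g := by
          calc g * t = (g * t * g⁻¹) * g := by group
            _ = z * t * g := by rw [h]
        rw [this]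
        calc (t * g)⁻¹ * (z * t * g) = g⁻¹ * t⁻¹ * (z * t) * g := by group
          _ = g⁻¹ * t⁻¹ * (t * z) * g := by rw [hzc t]
          _ = g⁻¹ * (z * g) := by group
          _ = g⁻¹ * (g * z) := by rw [hzc g]
          _ = z := by group
  set V : Subgroup P := Subgroup.centralizer ({t} : Set P) with hV
  have hmemV : ∀ g : P, g ∈ V ↔ g * t * g⁻¹ = t := by
    intro g
    rw [hV, Subgroup.mem_centralizer_iff]
    constructor
    · intro h
      have := h t rfl
      rw [← this]; group
    · intro h x hx
      rw [Set.mem_singleton_iff] at hx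
      subst hx
      calc x * g = (g * x * g⁻¹) * g := by rw [h]
        _ = g * x := by group
  have hVN : V ≤ N := fun g hg => (hmemN g).mpr (Or.inl ((hmemV g).mp hg))
  have hmemV' : ∀ g : P, g ∈ V ↔ (g = 1 ∨ g = t ∨ g = z ∨ g = t * z) := by
    intro g
    constructor
    · intro hg
      apply hfour
      have := (hmemV g).mp hg
      calc g * t = (g * t * g⁻¹) * g := by group
        _ = t * g := by rw [this]
    · rintro (h | h | h | h)
      · rw [h]; exact Subgroup.one_mem _
      · rw [h, hmemV]; group
      · rw [h, hmemV, ← hzc t]; group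
      · rw [h, hmemV]
        calc t * z * t * (t * z)⁻¹ = t * (z * t) * z⁻¹ * t⁻¹ := by group
          _ = t * (t * z) * z⁻¹ * t⁻¹ := by rw [hzc t]
          _ = t := by group
  -- an element g₀ with g₀ t g₀⁻¹ = z t
  have hg0 : ∃ g0 : P, g0 * t * g0⁻¹ = z * t := by
    have hnil : Group.IsNilpotent P := hPp.isNilpotent
    have hnc : NormalizerCondition P := Group.normalizerCondition_of_isNilpotent
    have hVlt : V < ⊤ := by
      rw [lt_top_iff_ne_top]
      intro h
      apply htnc
      intro g
      have : g ∈ V := by rw [h]; trivial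
      have := (hmemV g).mp this
      calc g * t = (g * t * g⁻¹) * g := by group
        _ = t * g := by rw [this]
    have hlt := hnc V hVlt
    obtain ⟨g, hgN, hgV⟩ := SetLike.exists_of_lt hlt
    refine ⟨g, ?_⟩
    have htV : t ∈ V := by rw [hmemV]; group
    have hconj : g * t * g⁻¹ ∈ V := (Subgroup.mem_normalizer_iff.mp hgN t).mp htV
    rcases (hmemV' _).mp hconj with h | h | h | h
    · exfalso
      apply ht1
      have : t = g⁻¹ * (g * t * g⁻¹) * g := by group
      rw [this, h]; group
    · exfalso
      exact hgV ((hmemV g).mpr h)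
    · exfalso
      apply hzt
      have : t = g⁻¹ * (g * t * g⁻¹) * g := by group
      rw [this, h]
      symm
      calc g⁻¹ * z * g = g⁻¹ * (z * g) := by group
        _ = g⁻¹ * (g * z) := by rw [hzc g]
        _ = z := by group
    · rw [h]; exact (hzc t)
  obtain ⟨g0, hg0⟩ := hg0
  have hg0N : g0 ∈ N := (hmemN g0).mpr (Or.inr hg0)
  -- index of V in N is two
  have hidx : (V.subgroupOf N).index = 2 := by
    rw [Subgroup.index_eq_two_iff]
    refine ⟨⟨g0, hg0N⟩, ?_⟩
    rintro ⟨b, hb⟩
    simp only [Subgroup.mem_subgroupOf, Subgroup.coe_mul]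
    have hconj : (b * g0) * t * (b * g0)⁻¹ = b * (g0 * t * g0⁻¹) * b⁻¹ := by group
    rcases (hmemN b).mp hb with h | h
    · -- b ∈ V, b g0 ∉ V
      right
      refine ⟨(hmemV b).mpr h, ?_⟩
      rw [hmemV, hconj, hg0]
      intro h2
      apply hz1
      have : b * (z * t) * b⁻¹ = z * (b * t * b⁻¹) := by
        calc b * (z * t) * b⁻¹ = (b * z) * t * b⁻¹ := by group
          _ = (z * b) * t * b⁻¹ := by rw [hzc b]
          _ = z * (b * t * b⁻¹) := by group
      rw [this, h] at h2
      have : z * t = 1 * t := by rw [one_mul]; exact h2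
      exact mul_right_cancel this
    · left
      refine ⟨?_, ?_⟩
      · rw [hmemV, hconj, hg0]
        have : b * (z * t) * b⁻¹ = z * (b * t * b⁻¹) := by
          calc b * (z * t) * b⁻¹ = (b * z) * t * b⁻¹ := by group
            _ = (z * b) * t * b⁻¹ := by rw [hzc b]
            _ = z * (b * t * b⁻¹) := by group
        rw [this, h, ← mul_assoc, hz2, one_mul]
      · rw [hmemV, h]
        intro h2
        apply hz1
        have : z * t = 1 * t := by rw [one_mul]; exact h2
        exact mul_right_cancel this
  have hNcard : Nat.card N = 8 := by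
    have h1 := Subgroup.card_mul_index (V.subgroupOf N)
    have h0 : Nat.card (V.subgroupOf N) = Nat.card V :=
      Nat.card_congr (Subgroup.subgroupOfEquivOfLe hVN).toEquiv
    rw [h0, hidx, hC] at h1
    omega
  have hCb : Nat.card ↥(Subgroup.centralizer ({tb} : Set (P ⧸ Z))) = 4 := by
    have hidxeq : N.index = (Subgroup.centralizer ({tb} : Set (P ⧸ Z))).index :=
      Subgroup.index_comap_of_surjective _ (QuotientGroup.mk'_surjective Z)
    have h1 := Subgroup.card_mul_index N
    have h2 := Subgroup.card_mul_index (Subgroup.centralizer ({tb} : Set (P ⧸ Z)))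
    rw [hNcard, hP, hidxeq] at h1
    rw [hQcard] at h2
    have hpos : 0 < (Subgroup.centralizer ({tb} : Set (P ⧸ Z))).index := by
      rcases Nat.eq_zero_or_pos (Subgroup.centralizer ({tb} : Set (P ⧸ Z))).index with h | h
      · rw [h] at h1
        exfalso
        have : 0 < 2 ^ (m + 1) := by positivity
        omega
      · exact h
    rw [pow_succ] at h1
    -- 8 * i = 2^m * 2, c * i = 2^m
    have : 8 * (Subgroup.centralizer ({tb} : Set (P ⧸ Z))).index =
        (Nat.card ↥(Subgroup.centralizer ({tb} : Set (P ⧸ Z))) * 2) * (Subgroup.centralizer ({tb} : Set (P ⧸ Z))).index := by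
      rw [h1, ← h2]; ring
    have := Nat.eq_of_mul_eq_mul_right hpos this
    omega
  obtain ⟨xb, hxbo, htxb⟩ := IH (P ⧸ Z) hQcard tb htbo hCb
  obtain ⟨x, rfl⟩ := QuotientGroup.mk_surjective xb
  -- t ∉ ⟨x⟩ Z in the following sense
  have htx : ∀ i : ℤ, ∀ w ∈ Z, t ≠ x ^ i * w := by
    intro i w hw h
    apply htxb
    rw [Subgroup.mem_zpowers_iff]
    refine ⟨i, ?_⟩
    rw [htb, h, QuotientGroup.mk_mul, (QuotientGroup.eq_one_iff w).mpr hw, mul_one, QuotientGroup.mk_zpow]
  have hxpow : x ^ (2 ^ (m - 1)) ∈ Z := by
    rw [← QuotientGroup.eq_one_iff, QuotientGroup.mk_pow, ← hxbo, pow_orderOf_eq_one]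
  have hm1 : m - 1 = (m - 2) + 1 := by omega
  rcases (hmemZ _).mp hxpow with hx1 | hxz
  · -- impossible case
    exfalso
    have hxo : orderOf x = 2 ^ (m - 1) := by
      apply Nat.dvd_antisymm (orderOf_dvd_of_pow_eq_one hx1)
      rw [← hxbo]
      exact orderOf_map_dvd (QuotientGroup.mk' Z) x
    -- u = x^(2^(m-2)), w = x^(2^(m-3))
    set u := x ^ (2 ^ (m - 2)) with hu
    set w := x ^ (2 ^ (m - 3)) with hw
    have huw : u = w * w := by
      rw [hu, hw, ← pow_add]
      congr 1
      have : m - 2 = (m - 3) + 1 := by omega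
      rw [this, pow_succ]; ring
    have hu2 : u * u = 1 := by
      rw [hu, ← pow_add, ← hx1]
      congr 1
      rw [hm1, pow_succ]; ring
    have hu1 : u ≠ 1 := by
      intro h
      have := orderOf_dvd_of_pow_eq_one h
      rw [hxo] at this
      have h2 := Nat.le_of_dvd (by positivity) this
      have : 2 ^ (m - 2) < 2 ^ (m - 1) := Nat.pow_lt_pow_right (by norm_num) (by omega)
      omega
    -- t w t⁻¹ = x^i * c with c ∈ Z
    have hA : ∃ i : ℤ, ∃ c ∈ Z, t * w * t⁻¹ = x ^ i * c := by
      -- zpowers (mk x) has index two hence is normal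
      have hidx2 : (Subgroup.zpowers (QuotientGroup.mk x : P ⧸ Z)).index = 2 := by
        have h1 := Subgroup.card_mul_index (Subgroup.zpowers (QuotientGroup.mk x : P ⧸ Z))
        rw [Nat.card_zpowers, hxbo, hQcard] at h1
        have : 2 ^ m = 2 ^ (m - 1) * 2 := by
          rw [← pow_succ]; congr 1; omega
        rw [this] at h1
        exact Nat.eq_of_mul_eq_mul_left (by positivity) h1
      have hnorm : (Subgroup.zpowers (QuotientGroup.mk x : P ⧸ Z)).Normal :=
        Subgroup.normal_of_index_eq_two hidx2
      have hwmem : (QuotientGroup.mk w : P ⧸ Z) ∈ Subgroup.zpowers (QuotientGroup.mk x : P ⧸ Z) := by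
        rw [hw, QuotientGroup.mk_pow]
        exact Subgroup.pow_mem _ (Subgroup.mem_zpowers _) _
      have := hnorm.conj_mem _ hwmem tb
      obtain ⟨i, hi⟩ := Subgroup.mem_zpowers_iff.mp this
      rw [htb, ← QuotientGroup.mk_zpow, ← QuotientGroup.mk_inv, ← QuotientGroup.mk_mul,
        ← QuotientGroup.mk_mul, QuotientGroup.eq] at hi
      refine ⟨i, _, hi, ?_⟩
      group
    obtain ⟨i, c, hcZ, htw⟩ := hA
    have hcc : ∀ g : P, g * c = c * g := by
      intro g
      rcases (hmemZ c).mp hcZ with h | h
      · rw [h, mul_one, one_mul]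
      · rw [h]; exact hzc g
    have hc2 : c * c = 1 := by
      rcases (hmemZ c).mp hcZ with h | h
      · rw [h, mul_one]
      · rw [h]; exact hz2
    have htu : t * u * t⁻¹ = x ^ (i + i) := by
      have : t * u * t⁻¹ = (t * w * t⁻¹) * (t * w * t⁻¹) := by rw [huw]; group
      rw [this, htw]
      calc x ^ i * c * (x ^ i * c) = x ^ i * (c * x ^ i) * c := by group
        _ = x ^ i * (x ^ i * c) * c := by rw [hcc (x ^ i)]
        _ = x ^ i * x ^ i * (c * c) := by group
        _ = x ^ (i + i) := by rw [hc2, mul_one, zpow_add]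
    have htu_mem : t * u * t⁻¹ ∈ Subgroup.zpowers x := by
      rw [htu]; exact Subgroup.zpow_mem_zpowers x _
    have htu2 : (t * u * t⁻¹) * (t * u * t⁻¹) = 1 := by
      calc (t * u * t⁻¹) * (t * u * t⁻¹) = t * (u * u) * t⁻¹ := by group
        _ = 1 := by rw [hu2]; group
    have htu1 : t * u * t⁻¹ ≠ 1 := by
      intro h
      apply hu1
      have : u = t⁻¹ * (t * u * t⁻¹) * t := by group
      rw [this, h]; group
    have h1 := Cfsg.Agent.Lib.Helper19.unique_involution_zpowers x (m - 1) (by omega) hxo _ htu_mem htu2 htu1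
    have hm2 : m - 1 - 1 = m - 2 := by omega
    rw [hm2, ← hu] at h1
    -- so t commutes with u
    have hut : u * t = t * u := by
      calc u * t = (t * u * t⁻¹) * t := by rw [h1]
        _ = t * u := by group
    rcases hfour u hut with h | h | h | h
    · exact hu1 h
    · exact htx (2 ^ (m - 2) : ℕ) 1 (Subgroup.one_mem _) (by rw [mul_one, zpow_natCast, ← hu, h])
    · -- z ∈ zpowers x : then mk x ^ (2^(m-2)) = 1
      have : (QuotientGroup.mk x : P ⧸ Z) ^ (2 ^ (m - 2)) = 1 := by
        rw [← QuotientGroup.mk_pow, ← hu, h, QuotientGroup.eq_one_iff]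
        exact Subgroup.mem_zpowers z
      have hd := orderOf_dvd_of_pow_eq_one this
      rw [hxbo] at hd
      have h2 := Nat.le_of_dvd (by positivity) hd
      have : 2 ^ (m - 2) < 2 ^ (m - 1) := Nat.pow_lt_pow_right (by norm_num) (by omega)
      omega
    · -- u = t z so t = u z
      apply htx (2 ^ (m - 2) : ℕ) z (Subgroup.mem_zpowers z)
      rw [zpow_natCast, ← hu, h, mul_assoc, hz2, mul_one]
  · -- x has order 2^m
    refine ⟨x, ?_, ?_⟩
    · have : m + 1 - 1 = (m - 1) + 1 := by omega
      rw [this]
      apply orderOf_eq_prime_pow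
      · rw [hxz]; exact hz1
      · rw [pow_succ, pow_mul, hxz, pow_two, hz2]
    · intro hmem
      obtain ⟨i, hi⟩ := Subgroup.mem_zpowers_iff.mp hmem
      exact htx i 1 (Subgroup.one_mem _) (by rw [mul_one, hi])


theorem key (m : ℕ) (hm : 3 ≤ m) :
    ∀ (P : Type u) [Group P] [Finite P], Nat.card P = 2 ^ m → ∀ t : P, orderOf t = 2 →
      Nat.card ↥(Subgroup.centralizer ({t} : Set P)) = 4 →
      ∃ x : P, orderOf x = 2 ^ (m - 1) ∧ t ∉ Subgroup.zpowers x := by
  induction m, hm using Nat.le_induction with
  | base =>
    intro P _ _ hP t ht hC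
    exact base_case hP t ht hC
  | succ m hm ih =>
    intro P _ _ hP t ht hC
    exact step_case m hm ih hP t ht hC


/-- A finite 2-group containing an involution whose centralizer has order 4 is dihedral, quasi-dihedral (semidihedral), or of order 4. -/
theorem result {S : Type*} [Group S] [Finite S] (hS : IsPGroup 2 S)
    (x : S) (hx : orderOf x = 2) (hC : Nat.card ↥(Subgroup.centralizer ({x} : Set S)) = 4) :
    (∃ n : ℕ, Nonempty (S ≃* DihedralGroup n)) ∨ Cfsg.IsQuasiDihedral S ∨ Nat.card S = 4 := by
  classical
  have : Fact (Nat.Prime 2) := ⟨Nat.prime_two⟩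
  obtain ⟨m, hm⟩ := (IsPGroup.iff_card.mp hS)
  have hCle : Nat.card ↥(Subgroup.centralizer ({x} : Set S)) ≤ Nat.card S := Subgroup.card_le_card_group _
  rcases Nat.lt_or_ge m 3 with hlt | hge
  · -- small: card S = 4
    right; right
    rw [hC, hm] at hCle
    interval_cases m
    · simp at hCle
    · simp at hCle
    · rw [hm]; norm_num
  · obtain ⟨a, hao, hta⟩ := key m hge S hm x hx hC
    obtain ⟨z, hz1, hz2, hzc, hzt, hfour, hcen, htnc⟩ := basic_facts m hge hm x hx hC
    set n := m - 1 with hn
    have hn2 : 2 ≤ n := by omega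
    have hmn : m = n + 1 := by omega
    have hx2 : x * x = 1 := by rw [← pow_two, ← hx, pow_orderOf_eq_one]
    have hxinv : x⁻¹ = x := inv_eq_of_mul_eq_one_left hx2
    -- A = zpowers a has index two
    have hAcard : Nat.card (Subgroup.zpowers a) = 2 ^ n := by rw [Nat.card_zpowers, hao]
    have hidx : (Subgroup.zpowers a).index = 2 := by
      have h1 := Subgroup.card_mul_index (Subgroup.zpowers a)
      rw [hAcard, hm, hmn, pow_succ] at h1
      exact Nat.eq_of_mul_eq_mul_left (by positivity) h1
    have hnorm : (Subgroup.zpowers a).Normal := Subgroup.normal_of_index_eq_two hidx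
    have hconjA : x * a * x⁻¹ ∈ Subgroup.zpowers a := hnorm.conj_mem _ (Subgroup.mem_zpowers a) x
    obtain ⟨k, hk⟩ := Subgroup.mem_zpowers_iff.mp hconjA
    -- y = a * (x a x⁻¹) commutes with x
    set y := a * (x * a * x⁻¹) with hy
    have hyA : y ∈ Subgroup.zpowers a := Subgroup.mul_mem _ (Subgroup.mem_zpowers a) hconjA
    have hcomm_ak : a * (x * a * x⁻¹) = (x * a * x⁻¹) * a := by
      rw [← hk]
      exact ((Commute.refl a).zpow_right k).eq
    have hyx : y * x = x * y := by
      rw [hy]
      calc a * (x * a * x⁻¹) * x = (x * a * x⁻¹) * a * x := by rw [hcomm_ak]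
        _ = x * (a * (x⁻¹ * a * x)) := by group
        _ = x * (a * (x * a * x⁻¹)) := by rw [hxinv]
    have hy2 : y * y = 1 := by
      rcases hfour y hyx with h | h | h | h
      · rw [h, mul_one]
      · exfalso; apply hta; rw [← h]; exact hyA
      · rw [h]; exact hz2
      · rw [h]
        calc x * z * (x * z) = x * (z * x) * z := by group
          _ = x * (x * z) * z := by rw [hzc x]
          _ = (x * x) * (z * z) := by group
          _ = 1 := by rw [hx2, hz2, one_mul]
    by_cases hy1 : y = 1
    · -- dihedral
      left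
      have hinvert : x * a * x⁻¹ = a⁻¹ := by
        have : a * (x * a * x⁻¹) = 1 := hy1
        exact (eq_inv_of_mul_eq_one_right this)
      have hxa2 : (x * a) * (x * a) = 1 := by
        calc (x * a) * (x * a) = (x * a * x⁻¹) * (x * x) * a := by group
          _ = 1 := by rw [hinvert, hx2]; group
      have hxa1 : x * a ≠ 1 := by
        intro h
        apply hta
        have : x = a⁻¹ := eq_inv_of_mul_eq_one_left h
        rw [this]; exact Subgroup.inv_mem _ (Subgroup.mem_zpowers a)
      have hxao : orderOf (x * a) = 2 := orderOf_eq_prime (by rw [pow_two]; exact hxa2) hxa1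
      have hprod : x * (x * a) = a := by rw [← mul_assoc, hx2, one_mul]
      have e := Cfsg.Agent.Lib.Helper24.tiEquiv hx hxao
      -- closure {x, x*a} = ⊤
      have htop : Subgroup.closure ({x, x * a} : Set S) = ⊤ := by
        rw [eq_top_iff]
        intro g _
        have hxc : x ∈ Subgroup.closure ({x, x * a} : Set S) := Subgroup.subset_closure (by simp)
        have hxac : x * a ∈ Subgroup.closure ({x, x * a} : Set S) := Subgroup.subset_closure (by simp)
        have hac : a ∈ Subgroup.closure ({x, x * a} : Set S) := by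
          have h3 := Subgroup.mul_mem _ hxc hxac
          rwa [hprod] at h3
        have hAle : Subgroup.zpowers a ≤ Subgroup.closure ({x, x * a} : Set S) := by
          rw [Subgroup.zpowers_le]; exact hac
        by_cases hg : g ∈ Subgroup.zpowers a
        · exact hAle hg
        · have := Subgroup.mul_mem_iff_of_index_two hidx (a := x) (b := g)
          have h2 : x * g ∈ Subgroup.zpowers a := this.mpr ⟨fun h => absurd h hta, fun h => absurd h hg⟩
          have : g = x⁻¹ * (x * g) := by group
          rw [this]
          exact Subgroup.mul_mem _ (Subgroup.inv_mem _ hxc) (hAle h2)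
      refine ⟨orderOf (x * (x * a)), ⟨?_⟩⟩
      exact (Subgroup.topEquiv.symm.trans (MulEquiv.subgroupCongr htop.symm)).trans e
    · -- semidihedral
      right; left
      have hyz := Cfsg.Agent.Lib.Helper19.unique_involution_zpowers a n (by omega) hao y hyA hy2 hy1
      have hrel : x * a * x⁻¹ = a ^ (2 ^ (n - 1) - 1) := by
        have h1 : x * a * x⁻¹ = a⁻¹ * y := by rw [hy]; group
        rw [h1, hyz]
        have hpos : 1 ≤ 2 ^ (n - 1) := Nat.one_le_two_pow
        have : a ^ (2 ^ (n - 1)) = a * a ^ (2 ^ (n - 1) - 1) := by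
          rw [← pow_succ']; congr 1; omega
        rw [this]; group
      have hn3 : 3 ≤ n := by
        by_contra hlt
        have hn2' : n = 2 := by omega
        rw [hn2'] at hrel
        simp at hrel
        -- x commutes with a, so a ∈ C(x) = {1,x,z,xz} all of square 1, but a has order 4
        have hax : a * x = x * a := by
          calc a * x = (x * a * x⁻¹) * x := by rw [hrel]
            _ = x * a := by group
        have ha2 : a * a = 1 := by
          rcases hfour a hax with h | h | h | h
          · rw [h, mul_one]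
          · rw [h]; exact hx2
          · rw [h]; exact hz2
          · rw [h]
            calc x * z * (x * z) = x * (z * x) * z := by group
              _ = x * (x * z) * z := by rw [hzc x]
              _ = (x * x) * (z * z) := by group
              _ = 1 := by rw [hx2, hz2, one_mul]
        have := orderOf_dvd_of_pow_eq_one (show a ^ 2 = 1 by rw [pow_two]; exact ha2)
        rw [hao, hn2'] at this
        norm_num at this
      exact ⟨n, hn3, by rw [hm, hmn], a, x, hao, hx, hrel⟩

end Cfsg.Agent.S3224
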