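import Mathlib
import Cfsg.Statements.S3247
import Cfsg.Agent.S1327
import Cfsg.Agent.S0631
import Cfsg.Agent.Lib.Helper10.LBal7
import Cfsg.Agent.Lib.Helper10.PComp4
-- import your own Cfsg.Agent.* helpers here

set_option autoImplicit false
open Cfsg

namespace Cfsg.Agent.S3247

open Cfsg.Agent.Lib.Helper10 Cfsg.Agent.Lib.Helper9
open scoped commutatorElement

theorem not_isPQS_of_isPConstrained {X : Type*} [Group X] [Finite X] (p : ℕ) [Fact p.Prime]
    (h : IsPConstrained p X) (K : Subgroup X) : ¬ IsPQS p K := by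
  intro hK
  have hcomp := hK.isComponent_map p
  obtain ⟨K', hK'1, hK'2⟩ := exists_isPComponent_of_isComponent p _ hcomp
  have h1 : K' ≤ pLayer p X := isPComponent_le_pLayer p hK'1
  rw [(Cfsg.Agent.S1327.result p).mp h] at h1
  have h2 : K' = ⊥ := le_bot_iff.mp h1
  rw [h2, Subgroup.map_bot] at hK'2
  exact isComponent_ne_bot hcomp hK'2.symm

theorem isPConstrained_of_no_isPQS {X : Type*} [Group X] [Finite X] (p : ℕ) [Fact p.Prime]
    (h : ∀ K : Subgroup X, ¬ IsPQS p K) : IsPConstrained p X := by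
  rw [Cfsg.Agent.S1327.result p, eq_bot_iff]
  apply sSup_le
  intro K hK
  exact absurd (isPQS_of_isPComponent p hK) (h K)

theorem isPQS_map_equiv {A B : Type*} [Group A] [Group B] (p : ℕ) (e : A ≃* B) {K : Subgroup A}
    (hK : IsPQS p K) : IsPQS p (K.map e.toMonoidHom) := by
  refine ⟨hK.1.map e.surjective, ?_, ?_⟩
  · rw [← Subgroup.map_commutator, hK.2.1]
  · exact isQuasisimple_coreQuot_of_equiv p
      (K.equivMapOfInjective e.toMonoidHom e.injective) hK.2.2

theorem isPConstrained_of_equiv {A B : Type*} [Group A] [Group B] [Finite A] [Finite B]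
    (p : ℕ) [Fact p.Prime] (e : A ≃* B) (h : IsPConstrained p A) : IsPConstrained p B := by
  apply isPConstrained_of_no_isPQS
  intro K hK
  exact not_isPQS_of_isPConstrained p h _ (isPQS_map_equiv p e.symm hK)

theorem isPConstrained_normalizer_inf {X : Type*} [Group X] [Finite X] (p : ℕ) [Fact p.Prime]
    (M T : Subgroup X) (hM : IsPConstrained p ↥M) (hTM : T ≤ M) (hT : IsPGroup p ↥T) :
    IsPConstrained p ↥(Subgroup.normalizer (T : Set X) ⊓ M) := by
  have hTp : IsPGroup p ↥(T.subgroupOf M) :=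
    hT.comap_of_injective M.subtype M.subtype_injective
  have h1 := (Cfsg.Agent.S0631.result hM (T.subgroupOf M) hTp).1
  have h2 : (Subgroup.normalizer (T : Set X) ⊓ M).subgroupOf M =
      Subgroup.normalizer ((T.subgroupOf M : Subgroup ↥M) : Set ↥M) := by
    rw [Subgroup.inf_subgroupOf_right, Subgroup.subgroupOf_normalizer_eq hTM]
  exact isPConstrained_of_equiv p
    ((MulEquiv.subgroupCongr h2.symm).trans (Subgroup.subgroupOfEquivOfLe inf_le_right)) h1

theorem exists_central_order_p {X : Type*} [Group X] [Finite X] (p : ℕ) [Fact p.Prime]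
    (T : Subgroup X) (hT : IsPGroup p ↥T) (hT1 : T ≠ ⊥) :
    ∃ x ∈ T, orderOf x = p ∧ ∀ t ∈ T, t * x = x * t := by
  have : Nontrivial ↥T := (Subgroup.nontrivial_iff_ne_bot T).mpr hT1
  have := hT.center_nontrivial
  have hZ : IsPGroup p ↥(Subgroup.center ↥T) := hT.to_subgroup _
  obtain ⟨n, hn⟩ := IsPGroup.iff_card.mp hZ
  have hn0 : n ≠ 0 := by
    rintro rfl
    rw [pow_zero] at hn
    have := Finite.one_lt_card (α := ↥(Subgroup.center ↥T))
    omega
  have hdvd : p ∣ Nat.card ↥(Subgroup.center ↥T) := by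
    rw [hn]; exact dvd_pow_self p hn0
  obtain ⟨z, hz⟩ := exists_prime_orderOf_dvd_card' p hdvd
  refine ⟨((z : ↥T) : X), (z : ↥T).2, ?_, ?_⟩
  · rw [Subgroup.orderOf_coe, Subgroup.orderOf_coe]; exact hz
  · intro t ht
    have h1 := Subgroup.mem_center_iff.mp z.2 ⟨t, ht⟩
    exact congrArg Subtype.val h1

/-- Let G be a finite group and p a prime; here a p-local subgroup means the normalizer of a nontrivial p-subgroup, other than G itself. If every p-local subgroup of G that is maximal among p-local subgroups is p-constrained, or if the centralizer of every element of order p of G is p-constrained, then every p-local subgroup of G is p-constrained. -/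
theorem result {G : Type*} [Group G] [Finite G] (p : ℕ) [hp : Fact p.Prime]
    (h : (∀ M : Subgroup G, (∃ T : Subgroup G, IsPGroup p ↥T ∧ T ≠ ⊥ ∧ M = Subgroup.normalizer (T : Set G)) → M ≠ ⊤ →
        (∀ M' : Subgroup G, (∃ T' : Subgroup G, IsPGroup p ↥T' ∧ T' ≠ ⊥ ∧ M' = Subgroup.normalizer (T' : Set G)) → M' ≠ ⊤ → M ≤ M' → M = M') →
        Cfsg.IsPConstrained p ↥M) ∨
      (∀ x : G, orderOf x = p → Cfsg.IsPConstrained p ↥(Subgroup.centralizer ({x} : Set G))))
    (T : Subgroup G) (hT : IsPGroup p ↥T) (hT1 : T ≠ ⊥) (hTG : Subgroup.normalizer (T : Set G) ≠ ⊤) :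
    Cfsg.IsPConstrained p ↥(Subgroup.normalizer (T : Set G)) := by
  classical
  set N := Subgroup.normalizer (T : Set G) with hN
  have hTN : T ≤ N := Subgroup.le_normalizer
  rcases h with h | h
  · -- case (A)
    let S : Set (Subgroup G) := {M | (∃ T' : Subgroup G, IsPGroup p ↥T' ∧ T' ≠ ⊥ ∧
      M = Subgroup.normalizer (T' : Set G)) ∧ M ≠ ⊤ ∧ N ≤ M}
    have hNS : N ∈ S := ⟨⟨T, hT, hT1, rfl⟩, hTG, le_refl _⟩
    obtain ⟨M, hNM, hMmax⟩ := (Set.toFinite S).exists_le_maximal hNS
    have hMS : M ∈ S := hMmax.prop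
    have hMc : IsPConstrained p ↥M := by
      apply h M hMS.1 hMS.2.1
      intro M' hM' hM'top hMM'
      exact le_antisymm hMM' (hMmax.le_of_ge ⟨hM', hM'top, hNM.trans hMM'⟩ hMM')
    have h1 := isPConstrained_normalizer_inf p M T hMc (hTN.trans hNM) hT
    have h2 : Subgroup.normalizer (T : Set G) ⊓ M = N := inf_eq_left.mpr hNM
    exact isPConstrained_of_equiv p (MulEquiv.subgroupCongr h2) h1
  · -- case (B)
    obtain ⟨x, hxT, hxo, hxc⟩ := exists_central_order_p p T hT hT1
    set C := Subgroup.centralizer ({x} : Set G) with hC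
    have hTC : T ≤ C := by
      intro t ht
      rw [hC, Subgroup.mem_centralizer_iff]
      intro y hy
      rw [Set.mem_singleton_iff] at hy
      rw [hy]
      exact (hxc t ht).symm
    have hCc : IsPConstrained p ↥C := h x hxo
    have hH := isPConstrained_normalizer_inf p C T hCc hTC hT
    apply isPConstrained_of_no_isPQS
    intro K hK
    -- K centralizes x
    have hTn : (T.subgroupOf N).Normal := by
      rw [Subgroup.normal_subgroupOf_iff_le_normalizer hTN]
    have hTp : IsPGroup p ↥(T.subgroupOf N) :=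
      hT.comap_of_injective N.subtype N.subtype_injective
    have hTle : T.subgroupOf N ≤ pCore p ↥N := Cfsg.Agent.Lib.Helper1.le_pCore hTn hTp
    have hcomm := hK.commutator_pCore p
    set K' : Subgroup G := K.map N.subtype with hK'
    have hK'N : K' ≤ N := by
      rintro _ ⟨k, _, rfl⟩
      exact k.2
    have hK'C : K' ≤ C := by
      rintro _ ⟨k, hk, rfl⟩
      rw [hC, Subgroup.mem_centralizer_iff]
      intro y hy
      rw [Set.mem_singleton_iff] at hy
      rw [hy]
      have hxN : x ∈ N := hTN hxT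
      have h1 : ⁅k, (⟨x, hxN⟩ : ↥N)⁆ ∈ ⁅K, pCore p ↥N⁆ :=
        Subgroup.commutator_mem_commutator hk (hTle (Subgroup.mem_subgroupOf.mpr hxT))
      rw [hcomm, Subgroup.mem_bot, commutatorElement_eq_one_iff_mul_comm] at h1
      have h2 := congrArg Subtype.val h1
      simpa using h2.symm
    have hK'H : K' ≤ Subgroup.normalizer (T : Set G) ⊓ C := le_inf hK'N hK'C
    have hsub : K'.subgroupOf N = K := by
      rw [hK', Subgroup.subgroupOf, Subgroup.comap_map_eq_self_of_injective N.subtype_injective]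
    have hsn : (K'.subgroupOf (Subgroup.normalizer (T : Set G) ⊓ C)).IsSubnormal := by
      apply relSN_restrict hK'H (inf_le_left : Subgroup.normalizer (T : Set G) ⊓ C ≤ N)
      rw [hsub]
      exact hK.1
    have hperf : ⁅K', K'⁆ = K' := by
      rw [hK', ← Subgroup.map_commutator, hK.2.1]
    have hqs : IsQuasisimple (↥K' ⧸ pPrimeCore p ↥K') :=
      isQuasisimple_coreQuot_of_equiv p
        (K.equivMapOfInjective N.subtype N.subtype_injective) hK.2.2
    exact not_isPQS_of_isPConstrained p hH _ (isPQS_subgroupOf p hK'H hsn hperf hqs)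

end Cfsg.Agent.S3247
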