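import Cfsg.Statements.S3265
import Cfsg.Agent.Lib.helper2.Inv6

set_option autoImplicit false
open Cfsg

namespace Cfsg.Agent.S3265

open Cfsg.Agent.Lib.helper2 in
/-- An involution of the symmetric group is conjugate to any involution with a support of the
same size. -/
theorem ivConj_of_card {n : ℕ} {t z : Equiv.Perm (Fin n)} (ht : t * t = 1) (hz : z * z = 1)
    (hc : z.support.card = t.support.card) : IsConj t z := by
  rw [Equiv.Perm.isConj_iff_cycleType_eq]
  haveI : Fact (Nat.Prime 2) := ⟨Nat.prime_two⟩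
  have h1 := Equiv.Perm.cycleType_of_pow_prime_eq_one (σ := t) (p := 2) (by rw [pow_two, ht])
  have h2 := Equiv.Perm.cycleType_of_pow_prime_eq_one (σ := z) (p := 2) (by rw [pow_two, hz])
  have s1 := Equiv.Perm.sum_cycleType t
  have s2 := Equiv.Perm.sum_cycleType z
  rw [h1, Multiset.sum_replicate, smul_eq_mul] at s1
  rw [h2, Multiset.sum_replicate, smul_eq_mul] at s2
  have : Multiset.card t.cycleType = Multiset.card z.cycleType := by omega
  rw [h1, h2, this]

/-- A permutation with a 2-cycle does not have odd order. -/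
theorem ivNotOdd_of_two_cycle {n : ℕ} {π : Equiv.Perm (Fin n)} {p s : Fin n} (h1 : π p = s)
    (h2 : π s = p) (hne : s ≠ p) : ¬ Odd (orderOf π) := by
  rintro ⟨k, hk⟩
  have h3 : (π ^ 2) p = p := by
    rw [pow_two, Equiv.Perm.mul_apply, h1, h2]
  have h4 : ((π ^ 2) ^ k) p = p := Equiv.Perm.pow_apply_eq_self_of_apply_eq_self h3 k
  have h5 : (π ^ orderOf π) p = s := by
    rw [hk, pow_succ', Equiv.Perm.mul_apply, pow_mul, h4, h1]
  rw [pow_orderOf_eq_one] at h5
  exact hne h5.symm

/-- In the symmetric group of degree at least 5, every involution has a distinct conjugate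
such that the product does not have odd order. -/
theorem ivExists_far {n : ℕ} (hn : 5 ≤ n) {t : Equiv.Perm (Fin n)} (ht : t * t = 1)
    (ht1 : t ≠ 1) :
    ∃ g : Equiv.Perm (Fin n), g * t * g⁻¹ ≠ t ∧ ¬ Odd (orderOf (t * (g * t * g⁻¹))) := by
  have hti : ∀ p, t (t p) = p := fun p => by
    have := congrArg (fun σ : Equiv.Perm (Fin n) => σ p) ht
    simpa using this
  obtain ⟨p, hp⟩ : ∃ p, t p ≠ p := by
    by_contra h
    push Not at h
    exact ht1 (Equiv.ext h)
  have key : ∀ (g : Equiv.Perm (Fin n)) (s : Fin n), (t * (g * t * g⁻¹)) p = s →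
      (t * (g * t * g⁻¹)) s = p → s ≠ p →
      g * t * g⁻¹ ≠ t ∧ ¬ Odd (orderOf (t * (g * t * g⁻¹))) := by
    intro g s h1 h2 hne
    refine ⟨?_, ivNotOdd_of_two_cycle h1 h2 hne⟩
    intro h
    rw [h, ht] at h1
    exact hne h1.symm
  by_cases hA : ∃ r, r ≠ p ∧ r ≠ t p ∧ t r ≠ r
  · obtain ⟨r, hrp, hrq, hr⟩ := hA
    have hsp : t r ≠ p := by
      intro h
      apply hrq
      rw [← h, hti]
    have hsq : t r ≠ t p := fun h => hrp (t.injective h)
    refine ⟨Equiv.swap (t p) r, key _ (t r) ?_ ?_ hsp⟩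
    · simp only [Equiv.Perm.mul_apply, Equiv.swap_inv]
      rw [Equiv.swap_apply_of_ne_of_ne (Ne.symm hp) (Ne.symm hrp), Equiv.swap_apply_left]
    · simp only [Equiv.Perm.mul_apply, Equiv.swap_inv]
      rw [Equiv.swap_apply_of_ne_of_ne hsq hr, hti, Equiv.swap_apply_right, hti]
  · push Not at hA
    -- two further points
    have hcard : 2 < (Finset.univ \ {p, t p} : Finset (Fin n)).card := by
      have h1 : (Finset.univ \ {p, t p} : Finset (Fin n)).card =
          n - ({p, t p} : Finset (Fin n)).card := by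
        rw [Finset.card_sdiff_of_subset (Finset.subset_univ _), Finset.card_univ,
          Fintype.card_fin]
      have h2 : ({p, t p} : Finset (Fin n)).card ≤ 2 := Finset.card_le_two
      omega
    obtain ⟨r, hr, s, hs, hrs⟩ := Finset.one_lt_card.mp (by omega : 1 <
      (Finset.univ \ {p, t p} : Finset (Fin n)).card)
    simp only [Finset.mem_sdiff, Finset.mem_univ, Finset.mem_insert, Finset.mem_singleton,
      true_and, not_or] at hr hs
    have htr : t r = r := by
      by_contra h
      exact h (hA r hr.1 hr.2)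
    have hts : t s = s := by
      by_contra h
      exact h (hA s hs.1 hs.2)
    refine ⟨Equiv.swap p r * Equiv.swap (t p) s, key _ (t p) ?_ ?_ hp⟩
    · simp only [Equiv.Perm.mul_apply, mul_inv_rev, Equiv.swap_inv]
      rw [Equiv.swap_apply_left, Equiv.swap_apply_of_ne_of_ne hr.2 hrs, htr,
        Equiv.swap_apply_of_ne_of_ne hr.2 hrs, Equiv.swap_apply_right]
    · simp only [Equiv.Perm.mul_apply, mul_inv_rev, Equiv.swap_inv]
      rw [Equiv.swap_apply_of_ne_of_ne hp (Ne.symm hr.2), Equiv.swap_apply_left, hts,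
        Equiv.swap_apply_right, Equiv.swap_apply_of_ne_of_ne hp (Ne.symm hr.2), hti]


/-- Let n ≥ 5 and let X be a conjugacy class of involutions of the symmetric group of degree n. The graph on X joining two distinct involutions whose product has odd order is connected and has diameter exactly 2. -/
theorem result (n : ℕ) (hn : 5 ≤ n) (t : Equiv.Perm (Fin n)) (ht : orderOf t = 2) :
    (SimpleGraph.fromRel fun x y : {x : Equiv.Perm (Fin n) // IsConj t x} =>
        Odd (orderOf (x.1 * y.1))).Connected ∧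
      (SimpleGraph.fromRel fun x y : {x : Equiv.Perm (Fin n) // IsConj t x} =>
        Odd (orderOf (x.1 * y.1))).diam = 2 := by
  classical
  have htt : t * t = 1 := by rw [← pow_two, ← ht, pow_orderOf_eq_one]
  have ht1 : t ≠ 1 := by
    intro h
    rw [h, orderOf_one] at ht
    norm_num at ht
  -- facts about conjugates
  have hconj : ∀ x : Equiv.Perm (Fin n), IsConj t x →
      x * x = 1 ∧ x.support.card = t.support.card := by
    intro x hx
    rw [isConj_iff] at hx
    obtain ⟨c, rfl⟩ := hx
    refine ⟨?_, Equiv.Perm.card_support_conj⟩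
    calc c * t * c⁻¹ * (c * t * c⁻¹) = c * (t * t) * c⁻¹ := by group
      _ = 1 := by rw [htt]; group
  set G := SimpleGraph.fromRel fun x y : {x : Equiv.Perm (Fin n) // IsConj t x} =>
    Odd (orderOf (x.1 * y.1)) with hG
  have hadj : ∀ u v : {x : Equiv.Perm (Fin n) // IsConj t x},
      G.Adj u v ↔ u ≠ v ∧ (Odd (orderOf (u.1 * v.1)) ∨ Odd (orderOf (v.1 * u.1))) := by
    intro u v
    rw [hG, SimpleGraph.fromRel_adj]
  -- the linking lemma
  have hlink : ∀ u v : {x : Equiv.Perm (Fin n) // IsConj t x},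
      ∃ w : {x : Equiv.Perm (Fin n) // IsConj t x},
        (G.Adj u w ∨ u = w) ∧ (G.Adj w v ∨ w = v) := by
    intro u v
    obtain ⟨huu, huc⟩ := hconj u.1 u.2
    obtain ⟨hvv, hvc⟩ := hconj v.1 v.2
    have H : Cfsg.Agent.Lib.helper2.IvHyp (Finset.univ : Finset (Fin n)) u.1 v.1 :=
      ⟨huu, hvv, Finset.subset_univ _, Finset.subset_univ _, huc.trans hvc.symm⟩
    rcases Cfsg.Agent.Lib.helper2.ivMain n Finset.univ u.1 v.1 (by simp) H with hs | hf
    · obtain ⟨z, hzz, -, hzc, h1, h2⟩ := hs
      have hz : IsConj t z := ivConj_of_card htt hzz (hzc.trans huc)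
      refine ⟨⟨z, hz⟩, ?_, ?_⟩
      · by_cases h : u = ⟨z, hz⟩
        · right; exact h
        · left; rw [hadj]; exact ⟨h, Or.inl h1⟩
      · by_cases h : (⟨z, hz⟩ : {x : Equiv.Perm (Fin n) // IsConj t x}) = v
        · right; exact h
        · left; rw [hadj]; exact ⟨h, Or.inl h2⟩
    · exfalso
      have := hf.1
      rw [Finset.card_univ, Fintype.card_fin] at this
      omega
  have hedist : ∀ u v : {x : Equiv.Perm (Fin n) // IsConj t x}, G.edist u v ≤ 2 := by
    intro u v
    obtain ⟨w, h1, h2⟩ := hlink u v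
    have e1 : G.edist u w ≤ 1 := SimpleGraph.edist_le_one_iff_adj_or_eq.mpr h1
    have e2 : G.edist w v ≤ 1 := SimpleGraph.edist_le_one_iff_adj_or_eq.mpr h2
    calc G.edist u v ≤ G.edist u w + G.edist w v := SimpleGraph.edist_triangle
      _ ≤ 1 + 1 := add_le_add e1 e2
      _ = 2 := by norm_num
  have hediam : G.ediam ≤ 2 := SimpleGraph.ediam_le_of_edist_le hedist
  have hne_top : G.ediam ≠ ⊤ := by
    intro h
    rw [h] at hediam
    exact absurd hediam (by simp)
  haveI : Nonempty {x : Equiv.Perm (Fin n) // IsConj t x} := ⟨⟨t, IsConj.refl t⟩⟩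
  have hconn : G.Connected := SimpleGraph.connected_of_ediam_ne_top hne_top
  refine ⟨hconn, ?_⟩
  apply le_antisymm
  · -- diam ≤ 2
    obtain ⟨u, v, huv⟩ := SimpleGraph.exists_dist_eq_diam (G := G)
    rw [← huv]
    have h1 := hedist u v
    rw [← (hconn u v).coe_dist_eq_edist] at h1
    exact_mod_cast h1
  · -- 2 ≤ diam
    obtain ⟨g, hg1, hg2⟩ := ivExists_far hn htt ht1
    set u : {x : Equiv.Perm (Fin n) // IsConj t x} := ⟨t, IsConj.refl t⟩ with hu
    set v : {x : Equiv.Perm (Fin n) // IsConj t x} := ⟨g * t * g⁻¹, isConj_iff.mpr ⟨g, rfl⟩⟩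
      with hv
    have hne : u ≠ v := by
      intro h
      apply hg1
      exact (congrArg Subtype.val h).symm
    have hnadj : ¬ G.Adj u v := by
      rw [hadj]
      rintro ⟨-, h | h⟩
      · exact hg2 h
      · rw [Cfsg.Agent.Lib.helper2.ivOrderOf_comm] at h
        exact hg2 h
    have h2 : 1 < G.dist u v := hconn.one_lt_dist_of_ne_of_not_adj hne hnadj
    have h3 : G.dist u v ≤ G.diam := SimpleGraph.dist_le_diam hne_top
    omega

end Cfsg.Agent.S3265
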