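import Mathlib
import Cfsg.Statements.S3266
import Cfsg.Agent.Lib.Helper19.PSL2Final
import Cfsg.Agent.Lib.Helper19.DiamTwo
-- import your own Cfsg.Agent.* helpers here

set_option autoImplicit false
open Cfsg

namespace Cfsg.Agent.S3266

/-- Let F be a finite field with at least 4 elements and let X be a conjugacy class of involutions of PSL(2, F). The graph on X joining two distinct involutions whose product has odd order is connected and has diameter exactly 2. -/
theorem result {F : Type*} [Field F] [Fintype F] (hF : 4 ≤ Fintype.card F)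
    (t : Matrix.ProjectiveSpecialLinearGroup (Fin 2) F) (ht : orderOf t = 2) :
    (SimpleGraph.fromRel fun x y : {x : Matrix.ProjectiveSpecialLinearGroup (Fin 2) F // IsConj t x} =>
        Odd (orderOf (x.1 * y.1))).Connected ∧
      (SimpleGraph.fromRel fun x y : {x : Matrix.ProjectiveSpecialLinearGroup (Fin 2) F // IsConj t x} =>
        Odd (orderOf (x.1 * y.1))).diam = 2 := by
  have hconj_order : ∀ {a b : Matrix.ProjectiveSpecialLinearGroup (Fin 2) F}, IsConj a b →
      orderOf b = orderOf a := by
    intro a b h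
    obtain ⟨c, hc⟩ := isConj_iff.1 h
    rw [← hc]
    exact orderOf_injective (MulAut.conj c).toMonoidHom (MulAut.conj c).injective a
  have hswap : ∀ a b : Matrix.ProjectiveSpecialLinearGroup (Fin 2) F,
      orderOf (a * b) = orderOf (b * a) := by
    intro a b
    have h : IsConj (b * a) (a * b) := by
      rw [isConj_iff]
      exact ⟨a, by group⟩
    exact hconj_order h
  have hsq : ∀ a : Matrix.ProjectiveSpecialLinearGroup (Fin 2) F, orderOf a = 2 → a * a = 1 := by
    intro a ha
    have := pow_orderOf_eq_one a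
    rwa [ha, pow_two] at this
  apply Cfsg.Agent.Lib.Helper19.DiamTwo.connected_and_diam_eq_two
  · intro u v
    by_cases huv : u = v
    · left; exact huv
    have hu2 : orderOf u.1 = 2 := by rw [hconj_order u.2, ht]
    have hv2 : orderOf v.1 = 2 := by rw [hconj_order v.2, ht]
    rcases Cfsg.Agent.Lib.Helper19.PSL2.psl2_common hF u.1 v.1 hu2 hv2 with
      h | ⟨z, hz2, hzu, hzv, h1, h2⟩
    · right; left
      rw [SimpleGraph.fromRel_adj]
      exact ⟨huv, Or.inl h⟩
    · right; right
      have hz : IsConj t z :=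
        u.2.trans (Cfsg.Agent.Lib.Helper19.PSL2.isConj_of_odd u.1 z (hsq _ hu2) (hsq _ hz2) h1)
      refine ⟨⟨z, hz⟩, ?_, ?_⟩
      · rw [SimpleGraph.fromRel_adj]
        exact ⟨fun h => hzu (congrArg Subtype.val h).symm, Or.inl h1⟩
      · rw [SimpleGraph.fromRel_adj]
        exact ⟨fun h => hzv (congrArg Subtype.val h), Or.inl h2⟩
  · obtain ⟨y, hy2, hyt, hodd⟩ := Cfsg.Agent.Lib.Helper19.PSL2.psl2_commuting hF t ht
    have hyc : IsConj t y := by
      rcases Cfsg.Agent.Lib.Helper19.PSL2.psl2_common hF t y ht hy2 with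
        h | ⟨z, hz2, hzt, hzy, h1, h2⟩
      · exact absurd h hodd
      · exact (Cfsg.Agent.Lib.Helper19.PSL2.isConj_of_odd t z (hsq _ ht) (hsq _ hz2) h1).trans
          (Cfsg.Agent.Lib.Helper19.PSL2.isConj_of_odd z y (hsq _ hz2) (hsq _ hy2) h2)
    refine ⟨⟨t, IsConj.refl t⟩, ⟨y, hyc⟩, ?_, ?_⟩
    · intro h
      exact hyt (congrArg Subtype.val h).symm
    · rw [SimpleGraph.fromRel_adj]
      rintro ⟨-, h | h⟩
      · exact hodd h
      · apply hodd
        rw [hswap]
        exact h

end Cfsg.Agent.S3266
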