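import Cfsg.Statements.S3269
import Cfsg.Agent.S0215
import Cfsg.Agent.Lib.helper14.QuatFactor
import Cfsg.Agent.Lib.helper14.QuatFactor4

set_option autoImplicit false
open Cfsg

namespace Cfsg.Agent.S3269

open Cfsg.Agent.Lib.helper14.QuatFactor in
/-- transport of the quaternion facts to `Q`. -/
lemma qp_of_equiv {G : Type*} [Group G] (Q : Subgroup G) (n : ℕ) (hn : 1 ≤ n)
    (eQ : ↥Q ≃* QuaternionGroup (2 ^ n)) :
    QP Q ((eQ.symm (z0 (2 ^ n)) : ↥Q) : G) := by
  have hm : 0 < 2 ^ n := by positivity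
  refine ⟨(eQ.symm (z0 (2 ^ n))).2, ?_, ?_, ?_⟩
  · rw [Subgroup.orderOf_coe, MulEquiv.orderOf_eq]
    exact orderOf_z0 _ hm
  · intro x hx hx2
    have h1 : orderOf (eQ ⟨x, hx⟩) = 2 := by
      rw [MulEquiv.orderOf_eq, ← Subgroup.orderOf_coe]
      exact hx2
    have h2 := eq_z0_of_orderOf _ hm _ h1
    have h3 : (⟨x, hx⟩ : ↥Q) = eQ.symm (z0 (2 ^ n)) := by
      rw [← h2, MulEquiv.symm_apply_apply]
    exact congrArg Subtype.val h3
  · refine ⟨(eQ.symm (QuaternionGroup.a 1) : ↥Q), (eQ.symm (QuaternionGroup.a 1)).2,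
      (eQ.symm (QuaternionGroup.xa 0) : ↥Q), (eQ.symm (QuaternionGroup.xa 0)).2, 2 ^ (n - 1), ?_⟩
    rw [z0_eq_comm_pow n hn]
    simp only [map_pow, map_mul, map_inv, Subgroup.coe_pow, Subgroup.coe_mul, Subgroup.coe_inv]

open Cfsg.Agent.Lib.helper14.QuatFactor in
/-- Let G be a finite group whose Sylow 2-subgroup S is an internal direct product Q × R with Q generalized quaternion (of order at least 8) and R a subgroup all of whose involutions are central in R. Then G is not simple. In particular no finite simple group has a Sylow 2-subgroup that is a direct product of one or more generalized quaternion groups. -/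
theorem result {G : Type*} [Group G] [Finite G]
    (S : Sylow 2 G) (Q R : Subgroup G) (hQR : Cfsg.IsInternalDirectProduct Q R (S : Subgroup G))
    (n : ℕ) (hn : 1 ≤ n) (eQ : ↥Q ≃* QuaternionGroup (2 ^ n))
    (hR : ∀ r ∈ R, orderOf r = 2 → ∀ s ∈ R, r * s = s * r) :
    ¬ IsSimpleGroup G := by
  intro hsimple
  have hz := qp_of_equiv Q n hn eQ
  set z : G := ((eQ.symm (z0 (2 ^ n)) : ↥Q) : G) with hzdef
  obtain ⟨u, huS, hu2, hfix⟩ := exists_invariant_involution (S : Subgroup G) Q R S.isPGroup' hQR z hz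
  have hinvol := invol_central hQR hz hR
  have hiso : ∀ g : G, g * u * g⁻¹ ∈ S → g * u * g⁻¹ = u := by
    intro g hg
    have h1 : u ∈ Subgroup.centralizer ((S : Subgroup G) : Set G) := hinvol u huS hu2
    have h2 : g * u * g⁻¹ ∈ Subgroup.centralizer ((S : Subgroup G) : Set G) :=
      hinvol _ hg (by rw [orderOf_conj', hu2])
    obtain ⟨ν, hν, he⟩ := Sylow.conj_eq_normalizer_conj_of_mem_centralizer S u g⁻¹ h1
      (by rw [inv_inv]; exact h2)
    rw [inv_inv] at he
    rw [he]
    have := hfix ν⁻¹ (inv_mem hν)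
    rw [inv_inv] at this
    exact this
  obtain ⟨N, hN, hodd, hcomm⟩ := Cfsg.Agent.S0215.result S u hu2 huS hiso
  rcases hsimple.eq_bot_or_eq_top_of_normal N hN with rfl | rfl
  · -- `u` is central
    have hucen : u ∈ Subgroup.center G := by
      rw [Subgroup.mem_center_iff]
      intro g
      have := hcomm g
      rw [Subgroup.mem_bot] at this
      calc g * u = (u * g * u⁻¹ * g⁻¹)⁻¹ * (u * g) := by group
        _ = u * g := by rw [this]; group
    have hcne : Subgroup.center G ≠ ⊥ := by
      intro hb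
      rw [hb, Subgroup.mem_bot] at hucen
      rw [hucen, orderOf_one] at hu2
      omega
    have hctop : Subgroup.center G = ⊤ :=
      (hsimple.eq_bot_or_eq_top_of_normal _ inferInstance).resolve_left hcne
    obtain ⟨x, hx, y, hy, k, hk⟩ := hz.comm
    have hxc : x ∈ Subgroup.center G := by rw [hctop]; trivial
    have hxy : x * y * x⁻¹ * y⁻¹ = 1 := by
      have := Subgroup.mem_center_iff.mp hxc y
      calc x * y * x⁻¹ * y⁻¹ = (y * x)⁻¹⁻¹ * x⁻¹ * y⁻¹ := by rw [this, inv_inv]
        _ = 1 := by group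
    rw [hxy, one_pow] at hk
    have := hz.ord
    rw [hk, orderOf_one] at this
    omega
  · -- `G` has odd order
    have h2 : 2 ∣ Nat.card G := by
      rw [← hu2]
      exact orderOf_dvd_natCard u
    have hcard : Nat.card (⊤ : Subgroup G) = Nat.card G := Subgroup.card_top
    rw [hcard] at hodd
    rcases hodd with ⟨c, hc⟩
    omega

end Cfsg.Agent.S3269
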