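import Mathlib
import Cfsg.Statements.S3276
-- import your own Cfsg.Agent.* helpers here

set_option autoImplicit false
open Cfsg

namespace Cfsg.Agent.S3276

/-- two involutions are conjugate or commute with a common involution -/
theorem dihedral_dichotomy {G : Type*} [Group G] [Finite G] (s t : G) (hs : s * s = 1) (ht : t * t = 1) :
    IsConj s t ∨ ∃ u : G, orderOf u = 2 ∧ Commute u s ∧ Commute u t := by
  set r := s * t with hr
  have hsinv : s⁻¹ = s := inv_eq_of_mul_eq_one_left hs
  have htinv : t⁻¹ = t := inv_eq_of_mul_eq_one_left ht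
  have hrinv : r⁻¹ = t * s := by rw [hr, mul_inv_rev, hsinv, htinv]
  have hsr : s * r * s⁻¹ = r⁻¹ := by
    rw [hrinv, hr, hsinv]
    calc s * (s * t) * s = (s * s) * t * s := by group
      _ = t * s := by rw [hs, one_mul]
  have hsrk : ∀ k : ℕ, s * r ^ k * s⁻¹ = (r ^ k)⁻¹ := by
    intro k
    have : s * r ^ k * s⁻¹ = (s * r * s⁻¹) ^ k := (conj_pow (a := s) (b := r) (i := k)).symm
    rw [this, hsr, inv_pow]
  have htr : t * r * t⁻¹ = r⁻¹ := by
    rw [hrinv, hr, htinv]
    calc t * (s * t) * t = t * s * (t * t) := by group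
      _ = t * s := by rw [ht, mul_one]
  have htrk : ∀ k : ℕ, t * r ^ k * t⁻¹ = (r ^ k)⁻¹ := by
    intro k
    have : t * r ^ k * t⁻¹ = (t * r * t⁻¹) ^ k := (conj_pow (a := t) (b := r) (i := k)).symm
    rw [this, htr, inv_pow]
  have hpos : 0 < orderOf r := orderOf_pos r
  rcases Nat.even_or_odd (orderOf r) with he | ho
  · right
    obtain ⟨k, hk⟩ := he
    have hk0 : k ≠ 0 := by omega
    refine ⟨r ^ k, ?_, ?_, ?_⟩
    · rw [orderOf_pow_of_dvd hk0 ⟨2, by omega⟩, hk]
      have : k + k = 2 * k := by ring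
      rw [this, Nat.mul_div_cancel _ (Nat.pos_of_ne_zero hk0)]
    · have h2 : r ^ k * r ^ k = 1 := by rw [← pow_add, ← hk, pow_orderOf_eq_one]
      have hinv : (r ^ k)⁻¹ = r ^ k := inv_eq_of_mul_eq_one_left h2
      have := hsrk k
      rw [hinv] at this
      -- s * u * s⁻¹ = u → u * s = s * u
      have e : s * r ^ k = r ^ k * s := by
        calc s * r ^ k = (s * r ^ k * s⁻¹) * s := by group
          _ = r ^ k * s := by rw [this]
      exact e.symm
    · have h2 : r ^ k * r ^ k = 1 := by rw [← pow_add, ← hk, pow_orderOf_eq_one]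
      have hinv : (r ^ k)⁻¹ = r ^ k := inv_eq_of_mul_eq_one_left h2
      have := htrk k
      rw [hinv] at this
      have e : t * r ^ k = r ^ k * t := by
        calc t * r ^ k = (t * r ^ k * t⁻¹) * t := by group
          _ = r ^ k * t := by rw [this]
      exact e.symm
  · left
    obtain ⟨m, hm⟩ := ho
    -- r^(2m+1) = 1
    have hrm : r ^ (2 * m + 1) = 1 := by rw [← hm, pow_orderOf_eq_one]
    -- g = s * r^m ... show (r^m)⁻¹ s r^m = s t s hmm; directly: conj by c := (r ^ m)⁻¹ * s? we verify c * s * c⁻¹ = t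
    rw [isConj_iff]
    refine ⟨t * r ^ m, ?_⟩
    -- (t r^m) s (t r^m)⁻¹ = t r^m s r^-m t ; r^m s = s r^-m ; so = t s r^-2m t = t s r t = t s s t t = t
    have h1 : r ^ m * s = s * (r ^ m)⁻¹ := by
      have := hsrk m
      calc r ^ m * s = s * (s * r ^ m * s⁻¹) := by rw [hsinv]; simp [← mul_assoc, hs]
        _ = s * (r ^ m)⁻¹ := by rw [this]
    have h2 : (r ^ m)⁻¹ * (r ^ m)⁻¹ = r := by
      have : r ^ m * r ^ m * r = 1 := by rw [← pow_add, ← pow_succ, ← two_mul, hrm]
      calc (r ^ m)⁻¹ * (r ^ m)⁻¹ = (r ^ m)⁻¹ * (r ^ m)⁻¹ * (r ^ m * r ^ m * r) := by rw [this, mul_one]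
        _ = r := by group
    calc t * r ^ m * s * (t * r ^ m)⁻¹ = t * (r ^ m * s) * (r ^ m)⁻¹ * t⁻¹ := by group
      _ = t * (s * (r ^ m)⁻¹) * (r ^ m)⁻¹ * t⁻¹ := by rw [h1]
      _ = t * s * ((r ^ m)⁻¹ * (r ^ m)⁻¹) * t⁻¹ := by group
      _ = t * s * (s * t) * t := by rw [h2, htinv]
      _ = t * (s * s) * (t * t) := by group
      _ = t := by rw [hs, ht, mul_one, mul_one]

theorem invol_of_orderOf {G : Type*} [Group G] (y : G) (hy : orderOf y = 2) : y * y = 1 ∧ y ≠ 1 := by
  constructor
  · rw [← pow_two, ← hy, pow_orderOf_eq_one]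
  · intro h
    rw [h, orderOf_one] at hy
    omega

theorem orderOf_eq_two_of {G : Type*} [Group G] (y : G) (h1 : y * y = 1) (h2 : y ≠ 1) : orderOf y = 2 := by
  apply orderOf_eq_prime
  · rw [pow_two]; exact h1
  · exact h2


/-- Let x and y be commuting, non-conjugate involutions of a finite group G, and suppose that for every involution u commuting with x, each conjugate of y that commutes with u also commutes with y. Then the normal closure of y is a proper, normal, elementary abelian 2-subgroup of G; and if y is the only involution of that normal closure commuting with x, it has order at most 4. -/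
theorem result {G : Type*} [Group G] [Finite G] (x y : G) (hx : orderOf x = 2) (hy : orderOf y = 2)
    (hxy : Commute x y) (hnc : ¬ IsConj x y)
    (hstar : ∀ u : G, orderOf u = 2 → Commute u x → ∀ g : G, Commute (g * y * g⁻¹) u → Commute (g * y * g⁻¹) y) :
    Subgroup.normalClosure ({y} : Set G) ≠ ⊤ ∧ Cfsg.IsElementaryAbelian 2 (Subgroup.normalClosure ({y} : Set G)) ∧
      ((∀ u ∈ Subgroup.normalClosure ({y} : Set G), orderOf u = 2 → Commute u x → u = y) →
        Nat.card ↥(Subgroup.normalClosure ({y} : Set G)) ≤ 4) := by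
  classical
  obtain ⟨hx2, hx1⟩ := invol_of_orderOf x hx
  obtain ⟨hy2, hy1⟩ := invol_of_orderOf y hy
  have hyinv : y⁻¹ = y := inv_eq_of_mul_eq_one_left hy2
  have hxinv : x⁻¹ = x := inv_eq_of_mul_eq_one_left hx2
  -- main claim
  have hmain : ∀ g : G, Commute (g * y * g⁻¹) y := by
    intro g
    have ht2 : (g * y * g⁻¹) * (g * y * g⁻¹) = 1 := by
      calc (g * y * g⁻¹) * (g * y * g⁻¹) = g * (y * y) * g⁻¹ := by group
        _ = 1 := by rw [hy2]; group
    rcases dihedral_dichotomy x (g * y * g⁻¹) hx2 ht2 with h | ⟨u, hu, hux, hut⟩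
    · exfalso
      apply hnc
      have h1 : IsConj y (g * y * g⁻¹) := isConj_iff.mpr ⟨g, rfl⟩
      exact h.trans h1.symm
    · exact hstar u hu hux g hut.symm
  have hall : ∀ g h : G, (g * y * g⁻¹) * (h * y * h⁻¹) = (h * y * h⁻¹) * (g * y * g⁻¹) := by
    intro g h
    have := (hmain (h⁻¹ * g)).eq
    calc (g * y * g⁻¹) * (h * y * h⁻¹) = h * ((h⁻¹ * g) * y * (h⁻¹ * g)⁻¹ * y) * h⁻¹ := by group
      _ = h * (y * ((h⁻¹ * g) * y * (h⁻¹ * g)⁻¹)) * h⁻¹ := by rw [this]
      _ = (h * y * h⁻¹) * (g * y * g⁻¹) := by group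
  set N := Subgroup.normalClosure ({y} : Set G) with hN
  have hgen : ∀ a ∈ Group.conjugatesOfSet ({y} : Set G), ∃ g : G, a = g * y * g⁻¹ := by
    intro a ha
    rw [Group.mem_conjugatesOfSet_iff] at ha
    obtain ⟨b, hb, hba⟩ := ha
    rw [Set.mem_singleton_iff] at hb
    subst hb
    obtain ⟨g, hg⟩ := isConj_iff.mp hba
    exact ⟨g, hg.symm⟩
  have hNcomm : IsMulCommutative N := by
    rw [hN, Subgroup.normalClosure]
    apply Subgroup.isMulCommutative_closure
    intro a ha b hb
    obtain ⟨g, rfl⟩ := hgen a ha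
    obtain ⟨h, rfl⟩ := hgen b hb
    exact hall g h
  have comN : ∀ a ∈ N, ∀ b ∈ N, a * b = b * a := by
    intro a ha b hb
    have := hNcomm.is_comm.comm ⟨a, ha⟩ ⟨b, hb⟩
    exact congrArg Subtype.val this
  have sqN : ∀ a ∈ N, a * a = 1 := by
    intro a ha
    have ha' := ha
    rw [hN, Subgroup.normalClosure] at ha'
    induction ha' using Subgroup.closure_induction with
    | mem a ha0 =>
      obtain ⟨g, rfl⟩ := hgen a ha0
      calc (g * y * g⁻¹) * (g * y * g⁻¹) = g * (y * y) * g⁻¹ := by group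
        _ = 1 := by rw [hy2]; group
    | one => simp
    | mul a b ha0 hb0 iha ihb =>
      have haN : a ∈ N := by rw [hN, Subgroup.normalClosure]; exact ha0
      have hbN : b ∈ N := by rw [hN, Subgroup.normalClosure]; exact hb0
      calc a * b * (a * b) = a * (b * a) * b := by group
        _ = a * (a * b) * b := by rw [comN b hbN a haN]
        _ = (a * a) * (b * b) := by group
        _ = 1 := by rw [iha haN, ihb hbN, mul_one]
    | inv a ha0 iha =>
      have haN : a ∈ N := by rw [hN, Subgroup.normalClosure]; exact ha0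
      have := iha haN
      calc a⁻¹ * a⁻¹ = (a * a)⁻¹ := by group
        _ = 1 := by rw [this, inv_one]
  have hyN : y ∈ N := Subgroup.subset_normalClosure (Set.mem_singleton y)
  have hNnormal : N.Normal := Subgroup.normalClosure_normal
  refine ⟨?_, ⟨hNcomm, fun a ha => by rw [pow_two]; exact sqN a ha⟩, ?_⟩
  · intro htop
    -- G commutative, so x = y
    have hcomm : ∀ a b : G, a * b = b * a := fun a b =>
      comN a (by rw [htop]; trivial) b (by rw [htop]; trivial)
    -- N ≤ zpowers y
    have hle : N ≤ Subgroup.zpowers y := by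
      rw [hN, Subgroup.normalClosure]
      rw [Subgroup.closure_le]
      intro a ha
      obtain ⟨g, rfl⟩ := hgen a ha
      have : g * y * g⁻¹ = y := by rw [hcomm g y]; group
      rw [this]
      exact Subgroup.mem_zpowers y
    have hxz : x ∈ Subgroup.zpowers y := hle (by rw [htop]; trivial)
    obtain ⟨k, hk⟩ := Subgroup.mem_zpowers_iff.mp hxz
    have : x = y := by
      rcases Int.even_or_odd k with ⟨m, rfl⟩ | ⟨m, rfl⟩
      · exfalso
        apply hx1
        rw [← hk, zpow_add, ← zpow_add, ← two_mul, zpow_mul, zpow_two, hy2, one_zpow]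
      · rw [← hk, zpow_add, zpow_mul, zpow_two, hy2, one_zpow, one_mul, zpow_one]
    apply hnc
    rw [this]
  · intro huniq
    -- φ : N →* N, n ↦ n * (x n x⁻¹)
    have hconjN : ∀ n ∈ N, x * n * x⁻¹ ∈ N := fun n hn => hNnormal.conj_mem n hn x
    let φ : ↥N →* ↥N :=
      { toFun := fun n => ⟨n.1 * (x * n.1 * x⁻¹), N.mul_mem n.2 (hconjN n.1 n.2)⟩
        map_one' := by apply Subtype.ext; simp
        map_mul' := by
          intro a b
          apply Subtype.ext
          simp only [Subgroup.coe_mul]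
          have e1 : x * (a.1 * b.1) * x⁻¹ = (x * a.1 * x⁻¹) * (x * b.1 * x⁻¹) := by group
          rw [e1]
          have c := comN b.1 b.2 (x * a.1 * x⁻¹) (hconjN a.1 a.2)
          calc a.1 * b.1 * ((x * a.1 * x⁻¹) * (x * b.1 * x⁻¹))
              = a.1 * (b.1 * (x * a.1 * x⁻¹)) * (x * b.1 * x⁻¹) := by group
            _ = a.1 * ((x * a.1 * x⁻¹) * b.1) * (x * b.1 * x⁻¹) := by rw [c]
            _ = a.1 * (x * a.1 * x⁻¹) * (b.1 * (x * b.1 * x⁻¹)) := by group }
    have hfix : ∀ n ∈ N, x * n * x⁻¹ = n → n = 1 ∨ n = y := by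
      intro n hn hfx
      by_cases h1 : n = 1
      · exact Or.inl h1
      · right
        apply huniq n hn (orderOf_eq_two_of n (sqN n hn) h1)
        have : x * n = n * x := by
          calc x * n = (x * n * x⁻¹) * x := by group
            _ = n * x := by rw [hfx]
        exact this.symm
    have hsmall : ∀ K : Subgroup ↥N, (∀ k ∈ K, (k : G) = 1 ∨ (k : G) = y) → Nat.card K ≤ 2 := by
      intro K hK
      have : Nat.card K ≤ Nat.card Bool := by
        apply Nat.card_le_card_of_injective (fun k : K => decide ((k.1 : G) = 1))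
        intro a b hab
        simp only [decide_eq_decide] at hab
        apply Subtype.ext
        apply Subtype.ext
        rcases hK a.1 a.2 with ha | ha <;> rcases hK b.1 b.2 with hb | hb
        · rw [ha, hb]
        · exact absurd (hab.mp ha) (by rw [hb]; exact hy1)
        · exact absurd (hab.mpr hb) (by rw [ha]; exact hy1)
        · rw [ha, hb]
      simpa using this
    have hker : Nat.card φ.ker ≤ 2 := by
      apply hsmall
      intro k hk
      rw [MonoidHom.mem_ker] at hk
      have hk' : k.1 * (x * k.1 * x⁻¹) = 1 := congrArg Subtype.val hk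
      apply hfix k.1 k.2
      have : x * k.1 * x⁻¹ = (k.1)⁻¹ := (inv_eq_of_mul_eq_one_right hk').symm
      rw [this]
      exact inv_eq_of_mul_eq_one_left (sqN k.1 k.2)
    have hrange : Nat.card φ.range ≤ 2 := by
      apply hsmall
      rintro _ ⟨n, rfl⟩
      apply hfix _ (φ n).2
      show x * (n.1 * (x * n.1 * x⁻¹)) * x⁻¹ = n.1 * (x * n.1 * x⁻¹)
      have c := comN n.1 n.2 (x * n.1 * x⁻¹) (hconjN n.1 n.2)
      calc x * (n.1 * (x * n.1 * x⁻¹)) * x⁻¹ = (x * n.1 * x⁻¹) * ((x * x) * n.1 * (x * x)⁻¹) := by group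
        _ = (x * n.1 * x⁻¹) * n.1 := by rw [hx2]; group
        _ = n.1 * (x * n.1 * x⁻¹) := c.symm
    have h1 := Subgroup.card_mul_index φ.ker
    rw [Subgroup.index_ker] at h1
    calc Nat.card N = Nat.card φ.ker * Nat.card φ.range := h1.symm
      _ ≤ 2 * 2 := Nat.mul_le_mul hker hrange

end Cfsg.Agent.S3276
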