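import Mathlib
import Cfsg.Statements.S3294
import Cfsg.Agent.Lib.Helper19.GenQuat
import Cfsg.Agent.Lib.Helper19.UniqueInvolution
import Cfsg.Agent.Lib.Helper1.PLength
import Cfsg.Agent.Lib.Helper1.CFitting
import Cfsg.Agent.Lib.Helper1.Fitting
-- import your own Cfsg.Agent.* helpers here

set_option autoImplicit false
open Cfsg

namespace Cfsg.Agent.S3294


section quat

open QuaternionGroup

theorem quat_card (m : ℕ) [NeZero m] : Nat.card (QuaternionGroup m) = 4 * m := by
  rw [Nat.card_eq_fintype_card, QuaternionGroup.card]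

theorem quat_nonabelian (m : ℕ) (hm : 2 ≤ m) : ¬ ∀ u v : QuaternionGroup m, u * v = v * u := by
  intro h
  have h1 := h (a 1) (xa 0)
  rw [a_mul_xa, xa_mul_a] at h1
  have h2 : (0 - 1 : ZMod (2 * m)) = 0 + 1 := by
    injection h1
  have h3 : ((2 : ℕ) : ZMod (2 * m)) = 0 := by
    have : (0 + 1 : ZMod (2 * m)) - (0 - 1) = 0 := by rw [h2]; ring
    have h4 : (0 + 1 : ZMod (2 * m)) - (0 - 1) = 2 := by ring
    rw [h4] at this
    exact_mod_cast this
  rw [ZMod.natCast_eq_zero_iff] at h3
  have := Nat.le_of_dvd (by norm_num) h3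
  omega

theorem quat_a_ne_one (m : ℕ) [NeZero m] : (a (m : ZMod (2 * m)) : QuaternionGroup m) ≠ 1 := by
  intro h
  rw [one_def] at h
  have h2 : ((m : ℕ) : ZMod (2 * m)) = 0 := by injection h
  rw [ZMod.natCast_eq_zero_iff] at h2
  have hm : 0 < m := Nat.pos_of_ne_zero (NeZero.ne m)
  have := Nat.le_of_dvd hm h2
  omega

theorem quat_a_sq (m : ℕ) : (a (m : ZMod (2 * m)) : QuaternionGroup m) * a (m : ZMod (2 * m)) = 1 := by
  rw [a_mul_a, one_def]
  congr 1
  have : ((2 * m : ℕ) : ZMod (2 * m)) = 0 := ZMod.natCast_self _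
  rw [← this]; push_cast; ring

theorem quat_uniq (m : ℕ) [NeZero m] (u : QuaternionGroup m) (hu : u * u = 1) :
    u = 1 ∨ u = a (m : ZMod (2 * m)) := by
  have hm : 0 < m := Nat.pos_of_ne_zero (NeZero.ne m)
  have : NeZero (2 * m) := ⟨by omega⟩
  cases u with
  | a i =>
    rw [a_mul_a, one_def] at hu
    have h1 : i + i = 0 := by injection hu
    have hv : i.val < 2 * m := ZMod.val_lt i
    have h2 : ((i.val + i.val : ℕ) : ZMod (2 * m)) = 0 := by
      push_cast
      rw [ZMod.natCast_zmod_val]; exact h1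
    rw [ZMod.natCast_eq_zero_iff] at h2
    have h3 : m ∣ i.val := by
      have : 2 * m ∣ 2 * i.val := by rw [two_mul i.val]; exact h2
      exact Nat.dvd_of_mul_dvd_mul_left (by norm_num) this
    obtain ⟨c, hc⟩ := h3
    have hc2 : c = 0 ∨ c = 1 := by
      have : m * c < 2 * m := by rw [← hc]; exact hv
      have : c < 2 := by nlinarith
      omega
    rcases hc2 with rfl | rfl
    · left
      rw [one_def]; congr 1
      have : i.val = 0 := by rw [hc]; ring
      exact (ZMod.val_eq_zero i).mp this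
    · right
      congr 1
      have h5 : i.val = m := by rw [hc]; ring
      have h6 : ((i.val : ℕ) : ZMod (2 * m)) = i := ZMod.natCast_zmod_val i
      rw [← h6, h5]
  | xa i =>
    exfalso
    rw [xa_mul_xa] at hu
    have : (m : ZMod (2 * m)) + i - i = m := by ring
    rw [this] at hu
    exact quat_a_ne_one m hu

end quat


open Cfsg.Agent.Lib.Helper19 Cfsg.Agent.Lib.Helper1 in
theorem two_group_of_core_free {G : Type*} [Group G] [Finite G] (hsol : Group.IsSolvable G)
    (hO : Cfsg.pPrimeCore 2 G = ⊥) (T : Sylow 2 G)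
    (P : Type*) [Group P] (e : ↥(T : Subgroup G) ≃* P)
    (hPna : ¬ ∀ u v : P, u * v = v * u) (zP : P) (hzP1 : zP ≠ 1) (hzP2 : zP * zP = 1)
    (hPuniq : ∀ u : P, u * u = 1 → u = 1 ∨ u = zP) (hPcard : 32 ≤ Nat.card P) : IsPGroup 2 G := by
  classical
  have : Fact (Nat.Prime 2) := ⟨Nat.prime_two⟩
  have := hsol
  -- transfer to `T`
  have hTp : IsPGroup 2 ↥(T : Subgroup G) := T.isPGroup'
  have hzT1 : e.symm zP ≠ 1 := by
    intro h
    apply hzP1
    have := congrArg e h
    rwa [MulEquiv.apply_symm_apply, map_one] at this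
  have hzT2 : e.symm zP * e.symm zP = 1 := by
    rw [← map_mul, hzP2, map_one]
  have hTuniq : ∀ u : ↥(T : Subgroup G), u * u = 1 → u = 1 ∨ u = e.symm zP := by
    intro u hu
    have h1 : e u * e u = 1 := by rw [← map_mul, hu, map_one]
    rcases hPuniq _ h1 with h | h
    · left
      have := congrArg e.symm h
      rwa [MulEquiv.symm_apply_apply, map_one] at this
    · right
      have := congrArg e.symm h
      rwa [MulEquiv.symm_apply_apply] at this
  have hTna : ¬ ∀ u v : ↥(T : Subgroup G), u * v = v * u := by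
    intro h
    apply hPna
    intro u v
    have := h (e.symm u) (e.symm v)
    have h2 := congrArg e this
    rwa [map_mul, map_mul, MulEquiv.apply_symm_apply, MulEquiv.apply_symm_apply] at h2
  have hTcard : 32 ≤ Nat.card ↥(T : Subgroup G) := by
    rw [Nat.card_congr e.toEquiv]; exact hPcard
  generalize hzT : e.symm zP = zT at hzT1 hzT2 hTuniq
  obtain ⟨N, hN2, α, Y, hαo, hYA, hYinv, hYY, hzα, hTcov, hTc⟩ :=
    quaternion_structure hTp zT hzT1 hzT2 hTuniq hTna
  have hN4 : 4 ≤ N := by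
    rw [hTc] at hTcard
    by_contra hlt
    have : N + 1 ≤ 4 := by omega
    have h2 : 2 ^ (N + 1) ≤ 2 ^ 4 := Nat.pow_le_pow_right (by norm_num) this
    omega
  -- `Q = O₂(G)`
  have hQn : (Cfsg.pCore 2 G).Normal := pCore_normal 2
  have hQp : IsPGroup 2 ↥(Cfsg.pCore 2 G) := pCore_isPGroup 2
  have hQT : Cfsg.pCore 2 G ≤ (T : Subgroup G) := pCore_le_sylow 2 T
  have hCQ : Subgroup.centralizer (Cfsg.pCore 2 G : Set G) ≤ Cfsg.pCore 2 G :=
    centralizer_pCore_le 2 hO
  generalize Cfsg.pCore 2 G = Q at hQn hQp hQT hCQ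
  have huniqG : ∀ u ∈ (T : Subgroup G), u * u = 1 → u = 1 ∨ u = (zT : G) := by
    intro u hu huu
    rcases hTuniq ⟨u, hu⟩ (Subtype.ext huu) with h | h
    · left; exact congrArg Subtype.val h
    · right; exact congrArg Subtype.val h
  have key : ∀ g : G, ∀ m : ℕ, Odd m → g ^ m = 1 → ∀ q ∈ Q, g * q * g⁻¹ = q := by
    intro g m hm hgm
    by_cases hQab : ∀ u ∈ Q, ∀ v ∈ Q, u * v = v * u
    · -- cyclic case
      obtain ⟨c', hc'Q, hc'⟩ := cyclic_of_comm_unique_involution hTp zT hTuniq (Q.subgroupOf T)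
        (by
          intro u hu v hv
          apply Subtype.ext
          exact hQab _ (Subgroup.mem_subgroupOf.mp hu) _ (Subgroup.mem_subgroupOf.mp hv))
      have hcQ : (c' : G) ∈ Q := Subgroup.mem_subgroupOf.mp hc'Q
      have hQc : ∀ q ∈ Q, q ∈ Subgroup.zpowers (c' : G) := by
        intro q hq
        have h1 : (⟨q, hQT hq⟩ : ↥(T : Subgroup G)) ∈ Q.subgroupOf T :=
          Subgroup.mem_subgroupOf.mpr hq
        rw [hc'] at h1
        obtain ⟨i, hi⟩ := Subgroup.mem_zpowers_iff.mp h1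
        rw [Subgroup.mem_zpowers_iff]
        refine ⟨i, ?_⟩
        have := congrArg Subtype.val hi
        simpa using this
      obtain ⟨k, hk⟩ := (IsPGroup.iff_orderOf.mp hTp) c'
      have hk' : orderOf (c' : G) = 2 ^ k := by rw [Subgroup.orderOf_coe]; exact hk
      have h1 : g * (c' : G) * g⁻¹ = (c' : G) :=
        conj_eq_of_odd_of_mem_zpowers g _ k hk' (hQc _ (hQn.conj_mem _ hcQ g)) m hm
          (by rw [hgm]; group)
      intro q hq
      obtain ⟨i, rfl⟩ := Subgroup.mem_zpowers_iff.mp (hQc q hq)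
      rw [← conj_zpow, h1]
    · -- generalized quaternion case
      have hQ'n : (Q.subgroupOf T).Normal := hQn.subgroupOf T
      have hQ'na : ¬ ∀ u ∈ Q.subgroupOf T, ∀ v ∈ Q.subgroupOf T, u * v = v * u := by
        intro h
        apply hQab
        intro u hu v hv
        have := h ⟨u, hQT hu⟩ (Subgroup.mem_subgroupOf.mpr hu) ⟨v, hQT hv⟩
          (Subgroup.mem_subgroupOf.mpr hv)
        exact congrArg Subtype.val this
      have h16 : 16 ≤ Nat.card ↥(Q.subgroupOf T) :=
        card_ge_of_normal_nonabelian_genQuat α Y N hN4 hαo hYinv hTcov (Q.subgroupOf T) hQ'na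
      have hcardQ : Nat.card ↥(Q.subgroupOf T) = Nat.card ↥Q :=
        Nat.card_congr (Subgroup.subgroupOfEquivOfLe hQT).toEquiv
      rw [hcardQ] at h16
      -- the involution lies in `Q`
      have hzQ : (zT : G) ∈ Q := by
        have h2 : 2 ∣ Nat.card ↥Q := by
          obtain ⟨j, hj⟩ := IsPGroup.iff_card.mp hQp
          rw [hj]
          rcases Nat.eq_zero_or_pos j with h0 | h0
          · rw [h0, pow_zero] at hj; omega
          · exact dvd_pow_self 2 h0.ne'
        obtain ⟨u, hu⟩ := exists_prime_orderOf_dvd_card' (G := ↥Q) 2 h2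
        have hu2 : (u : G) * (u : G) = 1 := by
          have : u ^ 2 = 1 := by rw [← hu, pow_orderOf_eq_one]
          rw [pow_two] at this
          exact congrArg Subtype.val this
        have hu1 : (u : G) ≠ 1 := by
          intro h
          have : u = 1 := Subtype.ext h
          rw [this, orderOf_one] at hu; omega
        rcases huniqG _ (hQT u.2) hu2 with h | h
        · exact absurd h hu1
        · rw [← h]; exact u.2
      have hQuniq : ∀ u : ↥Q, u * u = 1 → u = 1 ∨ u = ⟨(zT : G), hzQ⟩ := by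
        intro u hu
        rcases huniqG _ (hQT u.2) (congrArg Subtype.val hu) with h | h
        · left; exact Subtype.ext h
        · right; exact Subtype.ext h
      have hzQ1 : (⟨(zT : G), hzQ⟩ : ↥Q) ≠ 1 := by
        intro h
        apply hzT1
        apply Subtype.ext
        have h' : ((⟨(zT : G), hzQ⟩ : ↥Q) : G) = ((1 : ↥Q) : G) := congrArg Subtype.val h
        exact h'
      have hzQ2 : (⟨(zT : G), hzQ⟩ : ↥Q) * ⟨(zT : G), hzQ⟩ = 1 := by
        apply Subtype.ext
        have h' : ((zT * zT : ↥(T : Subgroup G)) : G) = ((1 : ↥(T : Subgroup G)) : G) :=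
          congrArg Subtype.val hzT2
        exact h'
      have hQna : ¬ ∀ u v : ↥Q, u * v = v * u := by
        intro h
        apply hQab
        intro u hu v hv
        exact congrArg Subtype.val (h ⟨u, hu⟩ ⟨v, hv⟩)
      obtain ⟨k, hk2, a', y', hao, hyA, hinv, hyy, hza, hcov, hQc⟩ :=
        quaternion_structure hQp ⟨(zT : G), hzQ⟩ hzQ1 hzQ2 hQuniq hQna
      have hk3 : 3 ≤ k := by
        rw [hQc] at h16
        by_contra hlt
        have : k + 1 ≤ 3 := by omega
        have h2 : 2 ^ (k + 1) ≤ 2 ^ 3 := Nat.pow_le_pow_right (by norm_num) this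
        omega
      have hmemz : ∀ q : ↥Q, q ∈ Subgroup.zpowers a' ↔ (q : G) ∈ Subgroup.zpowers (a' : G) := by
        intro q
        rw [Subgroup.mem_zpowers_iff, Subgroup.mem_zpowers_iff]
        constructor
        · rintro ⟨i, hi⟩
          exact ⟨i, by rw [← hi]; simp⟩
        · rintro ⟨i, hi⟩
          exact ⟨i, Subtype.ext (by rw [← hi]; simp)⟩
      apply centralizes_genQuat_of_odd Q (a' : G) (y' : G) (zT : G) k hk3
        (by rw [Subgroup.orderOf_coe]; exact hao)
        (fun h => hyA ((hmemz y').mpr h))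
        (by have := congrArg Subtype.val hinv; simpa using this)
        (congrArg Subtype.val hyy)
        (by have := congrArg Subtype.val hza; simpa using this)
        a'.2 y'.2 ?_ g (fun q hq => hQn.conj_mem q hq g) m hm hgm
      intro q hq
      rcases hcov ⟨q, hq⟩ with h | h
      · left; exact (hmemz _).mp h
      · right
        have := (hmemz _).mp h
        simpa using this
  -- every element has 2-power order
  intro g
  have hg0 : orderOf g ≠ 0 := (orderOf_pos g).ne'
  obtain ⟨j, m', hm', hjm⟩ := Nat.exists_eq_two_pow_mul_odd hg0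
  refine ⟨j, ?_⟩
  have h1 : (g ^ (2 ^ j)) ^ m' = 1 := by
    rw [← pow_mul, ← hjm, pow_orderOf_eq_one]
  have h2 := key (g ^ (2 ^ j)) m' hm' h1
  have h3 : g ^ (2 ^ j) ∈ Subgroup.centralizer (Q : Set G) := by
    rw [Subgroup.mem_centralizer_iff]
    intro q hq
    have := h2 q hq
    calc q * g ^ (2 ^ j) = (g ^ (2 ^ j) * q * (g ^ (2 ^ j))⁻¹) * g ^ (2 ^ j) := by rw [this]
      _ = g ^ (2 ^ j) * q := by group
  have h4 : g ^ (2 ^ j) ∈ Q := hCQ h3
  obtain ⟨j', hj'⟩ := hQp ⟨g ^ (2 ^ j), h4⟩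
  have h5 : (g ^ (2 ^ j)) ^ (2 ^ j') = 1 := by
    have := congrArg Subtype.val hj'
    simpa using this
  have h6 : orderOf (g ^ (2 ^ j)) ∣ m' := orderOf_dvd_of_pow_eq_one h1
  have h7 : orderOf (g ^ (2 ^ j)) ∣ 2 ^ j' := orderOf_dvd_of_pow_eq_one h5
  have hcop : Nat.Coprime (2 ^ j') m' := Nat.Coprime.pow_left _ (Nat.coprime_two_left.mpr hm')
  have h8 : orderOf (g ^ (2 ^ j)) = 1 := Nat.eq_one_of_dvd_coprimes hcop h7 h6
  exact orderOf_eq_one_iff.mp h8

/-- A finite solvable group whose Sylow 2-subgroups are generalized quaternion of order at least 32 has a normal 2-complement. -/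
theorem result {G : Type*} [Group G] [Finite G] (hsol : Group.IsSolvable G) (T : Sylow 2 G) (n : ℕ) (hn : 3 ≤ n) (hT : Nonempty ((T : Subgroup G) ≃* QuaternionGroup (2 ^ n))) : Cfsg.HasNormalPComplement 2 G := by
  classical
  have : Fact (Nat.Prime 2) := ⟨Nat.prime_two⟩
  have hsol' := hsol
  obtain ⟨e⟩ := hT
  have hNn : (Cfsg.pPrimeCore 2 G).Normal := Cfsg.Agent.Lib.Helper1.pPrimeCore_normal 2
  have hNodd : (Nat.card ↥(Cfsg.pPrimeCore 2 G)).Coprime 2 :=
    Cfsg.Agent.Lib.Helper1.pPrimeCore_card_coprime 2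
  have hObar : Cfsg.pPrimeCore 2 (G ⧸ Cfsg.pPrimeCore 2 G) = ⊥ :=
    Cfsg.Agent.Lib.Helper1.pPrimeCore_quotient_eq_bot 2
  generalize Cfsg.pPrimeCore 2 G = N at hNn hNodd hObar
  obtain ⟨t, ht⟩ := IsPGroup.iff_card.mp T.isPGroup'
  have hcop : Nat.Coprime (Nat.card ↥(T : Subgroup G)) (Nat.card ↥N) := by
    rw [ht]
    exact Nat.Coprime.pow_left _ hNodd.symm
  have hTN : (T : Subgroup G) ⊓ N = ⊥ := (Subgroup.disjoint_of_coprime_natCard hcop).eq_bot
  have hinj : Function.Injective ((QuotientGroup.mk' N).comp (T : Subgroup G).subtype) := by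
    rw [injective_iff_map_eq_one]
    intro x hx
    have h1 : (x : G) ∈ N := by
      rw [← QuotientGroup.eq_one_iff]
      exact hx
    have h2 : (x : G) ∈ (T : Subgroup G) ⊓ N := ⟨x.2, h1⟩
    rw [hTN, Subgroup.mem_bot] at h2
    exact Subtype.ext h2
  have hrange : ((QuotientGroup.mk' N).comp (T : Subgroup G).subtype).range =
      ((T.mapSurjective (QuotientGroup.mk'_surjective N) : Sylow 2 (G ⧸ N)) : Subgroup (G ⧸ N)) := by
    rw [Sylow.coe_mapSurjective, MonoidHom.range_comp, Subgroup.range_subtype]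
  have hm2 : 2 ≤ 2 ^ n := by
    calc 2 = 2 ^ 1 := by norm_num
      _ ≤ 2 ^ n := Nat.pow_le_pow_right (by norm_num) (by omega)
  have hm8 : 2 ^ 3 ≤ 2 ^ n := Nat.pow_le_pow_right (by norm_num) hn
  have : NeZero (2 ^ n) := ⟨by positivity⟩
  have hG2 : IsPGroup 2 (G ⧸ N) :=
    two_group_of_core_free inferInstance hObar (T.mapSurjective (QuotientGroup.mk'_surjective N))
      (QuaternionGroup (2 ^ n))
      ((MulEquiv.subgroupCongr hrange.symm).trans ((MonoidHom.ofInjective hinj).symm.trans e))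
      (quat_nonabelian _ hm2) _ (quat_a_ne_one _) (quat_a_sq _) (quat_uniq _)
      (by rw [quat_card]; omega)
  refine ⟨T, N, hNn, ?_⟩
  apply Subgroup.isComplement'_of_coprime _ hcop.symm
  obtain ⟨j, hj⟩ := IsPGroup.iff_card.mp hG2
  have hGc : Nat.card G = Nat.card (G ⧸ N) * Nat.card ↥N :=
    Subgroup.card_eq_card_quotient_mul_card_subgroup N
  have hTc : Nat.card ↥(T : Subgroup G) = 2 ^ j := by
    rw [Sylow.card_eq_multiplicity, hGc, hj]
    congr 1
    rw [Nat.factorization_mul (by positivity) (Nat.card_pos.ne'), Nat.factorization_pow]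
    simp only [Finsupp.coe_add, Finsupp.coe_smul, Pi.add_apply, Pi.smul_apply, smul_eq_mul]
    rw [Nat.Prime.factorization_self Nat.prime_two, mul_one]
    have : (Nat.card ↥N).factorization 2 = 0 := by
      apply Nat.factorization_eq_zero_of_not_dvd
      intro h
      have := Nat.Coprime.eq_one_of_dvd hNodd.symm h
      omega
    rw [this, add_zero]
  rw [hTc, hGc, hj, mul_comm]

end Cfsg.Agent.S3294
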