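import Mathlib
import Cfsg.Statements.S3305
-- import your own Cfsg.Agent.* helpers here

set_option autoImplicit false
open Cfsg

namespace Cfsg.Agent.S3305

/-- Any 2-subgroup `P` of `G` mapping into a Sylow 2-subgroup `S` of `G ⧸ H` lies in a Sylow 2-subgroup of `G`
whose image is `S`. -/
theorem exists_sylow_lift {G : Type*} [Group G] [Finite G] (H : Subgroup G) [H.Normal]
    (S : Sylow 2 (G ⧸ H)) (P : Subgroup G) (hP : IsPGroup 2 P)
    (hPS : P ≤ (S : Subgroup (G ⧸ H)).comap (QuotientGroup.mk' H)) :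
    ∃ S1 : Sylow 2 G, P ≤ (S1 : Subgroup G) ∧
      (S1 : Subgroup G).map (QuotientGroup.mk' H) = (S : Subgroup (G ⧸ H)) := by
  have : Fact (Nat.Prime 2) := ⟨Nat.prime_two⟩
  have hπ : Function.Surjective (QuotientGroup.mk' H) := QuotientGroup.mk'_surjective H
  set A := (S : Subgroup (G ⧸ H)).comap (QuotientGroup.mk' H) with hA
  obtain ⟨SA, hSA⟩ := (hP.comap_subtype (K := A) : IsPGroup 2 (P.subgroupOf A)).exists_le_sylow
  have hS1p : IsPGroup 2 (SA.1.map A.subtype) := SA.2.map _
  have hS1i : ¬ 2 ∣ (SA.1.map A.subtype).index := by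
    have hAi : A.index = (S : Subgroup (G ⧸ H)).index := by
      rw [hA, Subgroup.index_comap_of_surjective _ hπ]
    rw [Subgroup.index_map_subtype SA.1, hAi]
    exact Nat.Prime.not_dvd_mul Fact.out SA.not_dvd_index S.not_dvd_index
  refine ⟨hS1p.toSylow hS1i, ?_, ?_⟩
  · intro x hx
    have hxA : x ∈ A := hPS hx
    have : (⟨x, hxA⟩ : A) ∈ P.subgroupOf A := by
      rw [Subgroup.mem_subgroupOf]; exact hx
    have h2 := hSA this
    rw [IsPGroup.toSylow_coe]
    exact ⟨⟨x, hxA⟩, h2, rfl⟩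
  · rw [IsPGroup.toSylow_coe]
    have hle : (SA.1.map A.subtype).map (QuotientGroup.mk' H) ≤ (S : Subgroup (G ⧸ H)) :=
      Subgroup.map_le_iff_le_comap.mpr (Subgroup.map_subtype_le SA.1)
    have hmax := ((hS1p.toSylow hS1i).mapSurjective hπ).3 S.2 hle
    exact hmax.symm

/-- If any two distinct Sylow 2-subgroups of the finite group G intersect in a cyclic group, then the same holds in every quotient group G/H, H a normal subgroup of G. -/
theorem result {G : Type*} [Group G] [Finite G]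
    (hC : ∀ S T : Sylow 2 G, S ≠ T → IsCyclic ↥((S : Subgroup G) ⊓ (T : Subgroup G))) (H : Subgroup G) [H.Normal] :
    ∀ S T : Sylow 2 (G ⧸ H), S ≠ T → IsCyclic ↥((S : Subgroup (G ⧸ H)) ⊓ (T : Subgroup (G ⧸ H))) := by
  intro S T hST
  have : Fact (Nat.Prime 2) := ⟨Nat.prime_two⟩
  have hπ : Function.Surjective (QuotientGroup.mk' H) := QuotientGroup.mk'_surjective H
  set D : Subgroup (G ⧸ H) := (S : Subgroup (G ⧸ H)) ⊓ (T : Subgroup (G ⧸ H)) with hD
  have hD2 : IsPGroup 2 D := S.2.to_le inf_le_left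
  set X : Subgroup G := D.comap (QuotientGroup.mk' H) with hX
  let P₀ : Sylow 2 X := Classical.choice Sylow.nonempty
  set P : Subgroup G := P₀.1.map X.subtype with hPdef
  have hP2 : IsPGroup 2 P := P₀.2.map _
  have hPX : P ≤ X := Subgroup.map_subtype_le _
  have hPA : P ≤ (S : Subgroup (G ⧸ H)).comap (QuotientGroup.mk' H) :=
    hPX.trans (Subgroup.comap_mono inf_le_left)
  have hPB : P ≤ (T : Subgroup (G ⧸ H)).comap (QuotientGroup.mk' H) :=
    hPX.trans (Subgroup.comap_mono inf_le_right)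
  obtain ⟨S1, hPS1, hS1⟩ := exists_sylow_lift H S P hP2 hPA
  obtain ⟨T1, hPT1, hT1⟩ := exists_sylow_lift H T P hP2 hPB
  have hne : S1 ≠ T1 := by
    intro heq
    apply hST
    apply Sylow.ext
    rw [← hS1, ← hT1, heq]
  have hcyc := hC S1 T1 hne
  -- `P₀` embeds in the cyclic group `S1 ⊓ T1`
  have hle : P ≤ (S1 : Subgroup G) ⊓ (T1 : Subgroup G) := le_inf hPS1 hPT1
  let ι : ↥(P₀ : Subgroup X) →* ↥((S1 : Subgroup G) ⊓ (T1 : Subgroup G)) :=
    { toFun := fun x => ⟨x.1.1, hle ⟨x.1, x.2, rfl⟩⟩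
      map_one' := rfl
      map_mul' := fun _ _ => rfl }
  have hι : Function.Injective ι := by
    intro x y hxy
    have : (ι x).1 = (ι y).1 := congrArg Subtype.val hxy
    exact Subtype.ext (Subtype.ext this)
  have hP₀c : IsCyclic ↥(P₀ : Subgroup X) := isCyclic_of_injective ι hι
  -- the restriction of the quotient map `X → D` is surjective and `P₀` maps onto `D`
  let f : X →* D := (QuotientGroup.mk' H).subgroupComap D
  have hf : Function.Surjective f :=
    (QuotientGroup.mk' H).subgroupComap_surjective_of_surjective D hπ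
  have hidx : ((P₀ : Subgroup X).map f).index = 1 := by
    have h1 : ((P₀ : Subgroup X).map f).index ∣ (P₀ : Subgroup X).index := Subgroup.index_map_dvd _ hf
    obtain ⟨k, hk⟩ := hD2.index ((P₀ : Subgroup X).map f)
    rw [hk] at h1 ⊢
    rcases Nat.eq_zero_or_pos k with h0 | h0
    · rw [h0, pow_zero]
    · exfalso
      exact P₀.not_dvd_index ((dvd_pow_self 2 h0.ne').trans h1)
  have htop : (P₀ : Subgroup X).map f = ⊤ := Subgroup.index_eq_one.mp hidx
  let f' : ↥(P₀ : Subgroup X) →* D := f.comp (P₀ : Subgroup X).subtype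
  have hf' : Function.Surjective f' := by
    intro d
    have hd : d ∈ (P₀ : Subgroup X).map f := by rw [htop]; exact Subgroup.mem_top d
    obtain ⟨x, hx, rfl⟩ := hd
    exact ⟨⟨x, hx⟩, rfl⟩
  exact isCyclic_of_surjective f' hf'

end Cfsg.Agent.S3305
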