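import Mathlib
import Cfsg.Statements.S3303
import Cfsg.Agent.S3305
import Cfsg.Agent.Lib.Helper1.PLength
-- import your own Cfsg.Agent.* helpers here

set_option autoImplicit false
open Cfsg

namespace Cfsg.Agent.S3303

/-- An element of odd order centralizes every normal cyclic `2`-subgroup. -/
theorem mem_centralizer_of_odd_of_cyclic_two {L : Type*} [Group L] [Finite L] (Q : Subgroup L) [Q.Normal]
    (hQ2 : IsPGroup 2 Q) (hQc : IsCyclic Q) (g : L) (hg : Odd (orderOf g)) :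
    g ∈ Subgroup.centralizer (Q : Set L) := by
  have : Fact (Nat.Prime 2) := ⟨Nat.prime_two⟩
  set φ : MulAut Q := MulAut.conjNormal g with hφ
  have h1 : φ ^ orderOf g = 1 := by
    rw [hφ, ← map_pow, pow_orderOf_eq_one, map_one]
  have h2 : φ ^ Nat.card (MulAut Q) = 1 := pow_card_eq_one'
  obtain ⟨k, hk⟩ := hQ2.exists_card_eq
  have hcard : ∃ j, Nat.card (MulAut Q) = 2 ^ j := by
    rw [IsCyclic.card_mulAut, hk]
    rcases Nat.eq_zero_or_pos k with h0 | h0
    · exact ⟨0, by rw [h0, pow_zero, Nat.totient_one]⟩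
    · exact ⟨k - 1, by rw [Nat.totient_prime_pow Nat.prime_two h0]; norm_num⟩
  obtain ⟨j, hj⟩ := hcard
  rw [hj] at h2
  have hcop : Nat.Coprime (orderOf g) (2 ^ j) := by
    apply Nat.Coprime.pow_right
    exact Nat.coprime_two_right.mpr hg
  have h3 : φ ^ Nat.gcd (orderOf g) (2 ^ j) = 1 := pow_gcd_eq_one.mpr ⟨h1, h2⟩
  rw [hcop, pow_one] at h3
  rw [Subgroup.mem_centralizer_iff]
  intro q hq
  have h4 : ((φ ⟨q, hq⟩ : Q) : L) = g * q * g⁻¹ := MulAut.conjNormal_apply g ⟨q, hq⟩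
  rw [h3] at h4
  simp only [MulAut.one_apply] at h4
  calc q * g = (g * q * g⁻¹) * g := by rw [← h4]
    _ = g * q := by group

/-- Let G be a finite solvable group in which the intersection of any two distinct Sylow 2-subgroups is cyclic. Then G/O(G) has a normal Sylow 2-subgroup, where O(G) is the largest normal subgroup of odd order. -/
theorem result {G : Type*} [Group G] [Finite G] (hs : Group.IsSolvable G)
    (hC : ∀ S T : Sylow 2 G, S ≠ T → IsCyclic ↥((S : Subgroup G) ⊓ (T : Subgroup G))) :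
    ∃ P : Sylow 2 (G ⧸ Cfsg.oddCore G), (P : Subgroup (G ⧸ Cfsg.oddCore G)).Normal := by
  classical
  have : Fact (Nat.Prime 2) := ⟨Nat.prime_two⟩
  have hsolv : Group.IsSolvable G := hs
  have hCb := Cfsg.Agent.S3305.result hC (Cfsg.oddCore G)
  have h0 : Cfsg.pPrimeCore 2 (G ⧸ Cfsg.oddCore G) = ⊥ :=
    Cfsg.Agent.Lib.Helper1.pPrimeCore_quotient_eq_bot (G := G) 2
  have h1 := Cfsg.Agent.Lib.Helper1.centralizer_pCore_le (G := G ⧸ Cfsg.oddCore G) 2 h0
  have hsub : ∀ S T : Sylow 2 (G ⧸ Cfsg.oddCore G), S = T := by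
    intro S T
    by_contra hne
    have hcyc := hCb S T hne
    have hQS : Cfsg.pCore 2 (G ⧸ Cfsg.oddCore G) ≤ S := Cfsg.Agent.Lib.Helper1.pCore_le_sylow 2 S
    have hQT : Cfsg.pCore 2 (G ⧸ Cfsg.oddCore G) ≤ T := Cfsg.Agent.Lib.Helper1.pCore_le_sylow 2 T
    have hQc : IsCyclic (Cfsg.pCore 2 (G ⧸ Cfsg.oddCore G)) :=
      isCyclic_of_injective (Subgroup.inclusion (le_inf hQS hQT)) (Subgroup.inclusion_injective _)
    have hQ2 : IsPGroup 2 (Cfsg.pCore 2 (G ⧸ Cfsg.oddCore G)) := Cfsg.Agent.Lib.Helper1.pCore_isPGroup 2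
    -- the quotient is a 2-group
    have h2grp : IsPGroup 2 (G ⧸ Cfsg.oddCore G) := by
      intro g
      obtain ⟨a, m, hm, hgm⟩ := Nat.exists_eq_two_pow_mul_odd (orderOf_pos g).ne'
      refine ⟨a, ?_⟩
      have hord : orderOf (g ^ 2 ^ a) = m := by
        rw [orderOf_pow' g (by positivity), hgm, Nat.gcd_eq_right (Dvd.intro _ rfl)]
        exact Nat.mul_div_cancel_left m (by positivity)
      have hmem := mem_centralizer_of_odd_of_cyclic_two (Cfsg.pCore 2 (G ⧸ Cfsg.oddCore G)) hQ2 hQc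
        (g ^ 2 ^ a) (by rw [hord]; exact hm)
      have hmemQ := h1 hmem
      obtain ⟨b, hb⟩ := hQ2 ⟨g ^ 2 ^ a, hmemQ⟩
      have hb' : (g ^ 2 ^ a) ^ 2 ^ b = 1 := by
        have := congrArg Subtype.val hb
        simpa using this
      have hdvd : m ∣ 2 ^ b := by rw [← hord]; exact orderOf_dvd_of_pow_eq_one hb'
      have hm1 : m = 1 := by
        have hc : Nat.Coprime m (2 ^ b) := Nat.Coprime.pow_right _ (Nat.coprime_two_right.mpr hm)
        exact Nat.eq_one_of_dvd_coprimes hc dvd_rfl hdvd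
      rw [← orderOf_eq_one_iff, hord, hm1]
    have hS : (⊤ : Subgroup (G ⧸ Cfsg.oddCore G)) = S := S.3 (h2grp.to_subgroup ⊤) le_top
    have hT : (⊤ : Subgroup (G ⧸ Cfsg.oddCore G)) = T := T.3 (h2grp.to_subgroup ⊤) le_top
    exact hne (Sylow.ext (hS.symm.trans hT))
  have : Subsingleton (Sylow 2 (G ⧸ Cfsg.oddCore G)) := ⟨hsub⟩
  obtain ⟨P⟩ : Nonempty (Sylow 2 (G ⧸ Cfsg.oddCore G)) := Sylow.nonempty
  exact ⟨P, Sylow.normal_of_subsingleton P⟩

end Cfsg.Agent.S3303
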