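import Mathlib
import Cfsg.Statements.S3309
import Cfsg.Agent.Lib.Helper19.TransferCentral
-- import your own Cfsg.Agent.* helpers here

set_option autoImplicit false
open Cfsg
open scoped commutatorElement

namespace Cfsg.Agent.S3309

theorem d4_center : ∀ w : DihedralGroup 4, (∀ x : DihedralGroup 4, x * w = w * x) →
    w = 1 ∨ w = DihedralGroup.r 2 := by
  decide

theorem d4_comm : ⁅(DihedralGroup.r 1 : DihedralGroup 4), (DihedralGroup.sr 0 : DihedralGroup 4)⁆ = (DihedralGroup.r 2 : DihedralGroup 4) := by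
  decide


/-- A finite group whose Sylow 2-subgroups are isomorphic to the direct product of a group of order 2 and the dihedral group of order 8 is not a non-abelian simple group. -/
theorem result {G : Type*} [Group G] [Finite G] (S : Sylow 2 G) (hS : Nonempty (↥(S : Subgroup G) ≃* Multiplicative (ZMod 2) × DihedralGroup 4))
    [IsSimpleGroup G] (hG : ¬ IsMulCommutative G) : False := by
  classical
  obtain ⟨e⟩ := hS
  set H : Subgroup G := (S : Subgroup G) with hH
  let σ : Multiplicative (ZMod 2) := Multiplicative.ofAdd 1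
  have hσ1 : σ ≠ 1 := by decide
  have hσ2 : σ * σ = 1 := by decide
  let ψ : ↥H →* Multiplicative (ZMod 2) :=
    (MonoidHom.fst (Multiplicative (ZMod 2)) (DihedralGroup 4)).comp e.toMonoidHom
  have hψ : ∀ s : ↥H, ψ s = (e s).1 := fun s => rfl
  let z0 : ↥H := e.symm (σ, 1)
  have hez0 : e z0 = (σ, 1) := e.apply_symm_apply _
  have hψz0 : ψ z0 = σ := by rw [hψ, hez0]
  have hz0c : ∀ s : ↥H, s * z0 = z0 * s := by
    intro s
    apply e.injective
    rw [map_mul, map_mul, hez0]
    ext
    · simp only [Prod.fst_mul]; exact mul_comm (e s).1 σ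
    · simp only [Prod.snd_mul, mul_one, one_mul]
  have hz0sq : z0 * z0 = 1 := by
    apply e.injective
    rw [map_mul, hez0, map_one]
    ext
    · simp only [Prod.fst_mul, Prod.fst_one]; exact hσ2
    · simp only [Prod.snd_mul, Prod.snd_one, mul_one]
  set M : Subgroup G := ψ.ker.map H.subtype with hMdef
  have hMS : M ≤ H := by
    rintro _ ⟨c, _, rfl⟩; exact c.2
  have hMsub : M.subgroupOf H = ψ.ker := by
    rw [hMdef]
    exact Subgroup.comap_map_eq_self_of_injective H.subtype_injective _
  have hψsurj : Function.Surjective ψ := by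
    intro y
    refine ⟨e.symm (y, 1), ?_⟩
    rw [hψ, e.apply_symm_apply]
  have hMidx : M.relIndex H = 2 := by
    show (M.subgroupOf H).index = 2
    rw [hMsub, Subgroup.index_ker, MonoidHom.range_eq_top.mpr hψsurj, Subgroup.card_top]
    simp
  have hmemM : ∀ s : ↥H, (s : G) ∈ M ↔ ψ s = 1 := by
    intro s
    rw [← MonoidHom.mem_ker, ← hMsub, Subgroup.mem_subgroupOf]
  have hzH : (z0 : G) ∈ H := z0.2
  have hzc : ∀ s ∈ H, s * (z0 : G) = (z0 : G) * s := by
    intro s hs
    exact congrArg Subtype.val (hz0c ⟨s, hs⟩)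
  have hz2 : (z0 : G) * (z0 : G) = 1 := congrArg Subtype.val hz0sq
  have hz0ne : z0 ≠ 1 := by
    intro h
    rw [h, map_one] at hψz0
    exact hσ1 hψz0.symm
  have hN : ∀ n ∈ Subgroup.normalizer (H : Set G), n⁻¹ * (z0 : G) * n ∉ M := by
    intro n hn hmem
    have hvH : n⁻¹ * (z0 : G) * n ∈ H := (Subgroup.mem_normalizer_iff''.mp hn _).mp hzH
    set v0 : ↥H := ⟨n⁻¹ * (z0 : G) * n, hvH⟩ with hv0
    have hψv : ψ v0 = 1 := (hmemM v0).mp hmem
    have hv0c : ∀ s : ↥H, s * v0 = v0 * s := by
      intro s
      apply Subtype.ext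
      show (s : G) * (n⁻¹ * (z0 : G) * n) = (n⁻¹ * (z0 : G) * n) * (s : G)
      have hs' : n * (s : G) * n⁻¹ ∈ H := (Subgroup.mem_normalizer_iff.mp hn _).mp s.2
      have := hzc _ hs'
      calc (s : G) * (n⁻¹ * (z0 : G) * n) = n⁻¹ * ((n * (s : G) * n⁻¹) * (z0 : G)) * n := by group
        _ = n⁻¹ * ((z0 : G) * (n * (s : G) * n⁻¹)) * n := by rw [this]
        _ = (n⁻¹ * (z0 : G) * n) * (s : G) := by group
    have hv0ne : v0 ≠ 1 := by
      intro h
      apply hz0ne
      apply Subtype.ext
      have h' : n⁻¹ * (z0 : G) * n = 1 := congrArg Subtype.val h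
      have : (z0 : G) = n * (n⁻¹ * (z0 : G) * n) * n⁻¹ := by group
      rw [this, h']; simp
    -- e v0 = (1, w), w central
    have h1 : (e v0).1 = 1 := by rw [← hψ]; exact hψv
    have hwc : ∀ x : DihedralGroup 4, x * (e v0).2 = (e v0).2 * x := by
      intro x
      have := hv0c (e.symm (1, x))
      have h2 := congrArg e this
      rw [map_mul, map_mul, e.apply_symm_apply] at h2
      have h3 := congrArg Prod.snd h2
      simpa using h3
    have hw : (e v0).2 = DihedralGroup.r 2 := by
      rcases d4_center _ hwc with h | h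
      · exfalso
        apply hv0ne
        apply e.injective
        rw [map_one]
        ext
        · exact h1
        · exact h
      · exact h
    -- v0 is a commutator
    set s1 : ↥H := e.symm (1, DihedralGroup.r 1)
    set s2 : ↥H := e.symm (1, DihedralGroup.sr 0)
    have hv0comm : v0 = ⁅s1, s2⁆ := by
      apply e.injective
      rw [map_commutatorElement, e.apply_symm_apply, e.apply_symm_apply]
      ext
      · rw [h1]; simp [commutatorElement_def]
      · rw [hw]
        simp only [commutatorElement_def, Prod.snd_mul, Prod.snd_inv]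
        exact d4_comm.symm
    -- hence z0 is a commutator of elements of H
    have hc1 : n * (s1 : G) * n⁻¹ ∈ H := (Subgroup.mem_normalizer_iff.mp hn _).mp s1.2
    have hc2 : n * (s2 : G) * n⁻¹ ∈ H := (Subgroup.mem_normalizer_iff.mp hn _).mp s2.2
    have hz0comm : z0 = ⁅(⟨_, hc1⟩ : ↥H), ⟨_, hc2⟩⁆ := by
      apply Subtype.ext
      have hv : (n⁻¹ * (z0 : G) * n) = ⁅(s1 : G), (s2 : G)⁆ := by
        have := congrArg Subtype.val hv0comm
        simpa [commutatorElement_def] using this
      have : (z0 : G) = n * (n⁻¹ * (z0 : G) * n) * n⁻¹ := by group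
      rw [this, hv]
      simp only [commutatorElement_def, Subgroup.coe_mul, Subgroup.coe_inv]
      group
    have : ψ z0 = 1 := by
      rw [hz0comm, map_commutatorElement, commutatorElement_def]
      rw [mul_comm (ψ _) (ψ _)]
      simp
    rw [hψz0] at this
    exact hσ1 this
  obtain ⟨K, hKn, hKi, hzK⟩ :=
    Cfsg.Agent.Lib.Helper19.exists_index_two_of_central_involution S M hMS hMidx (z0 : G) hzH hzc hz2 hN
  rcases hKn.eq_bot_or_eq_top with hK | hK
  · rw [hK, Subgroup.index_bot] at hKi
    apply hG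
    have : Fact (Nat.Prime 2) := ⟨Nat.prime_two⟩
    have hcyc : IsCyclic G := isCyclic_of_prime_card hKi
    exact ⟨⟨fun a b => hcyc.commGroup.mul_comm a b⟩⟩
  · rw [hK, Subgroup.index_top] at hKi
    omega

end Cfsg.Agent.S3309
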