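import Cfsg.Statements.S3315
import Cfsg.Agent.Lib.helper14.SU3EvenSU
import Cfsg.Agent.Lib.helper14.SuzAut

set_option autoImplicit false
open Cfsg

namespace Cfsg.Agent.S3315

open Cfsg.Agent.Lib.helper14 Cfsg.Agent.Lib.helper14.SuzModel Cfsg.Agent.Lib.helper14.SuzAut

section model
variable {K : Type*} [Field K] [Fintype K] {q : ℕ} {σ : K →+* K} [CharP K 2]
  [hinv : Fact (∀ x, σ (σ x) = x)]

/-- an automorphism of the model whose square is inner fixes the centre pointwise -/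
theorem fix_center (n : ℕ) (hn : 1 ≤ n) (hq : q = 2 ^ n) (hK : Fintype.card K = q ^ 2)
    (hσ : ∀ x, σ x = x ^ q) (φ : MulAut (SuzP σ)) (g : SuzP σ)
    (hφ : ∀ x, φ (φ x) = g * x * g⁻¹) (z : SuzP σ) (hz : z.b = 0) : φ z = z := by
  have h2 : ∀ x : K, x + x = 0 := CharTwo.add_self_eq_zero
  obtain ⟨ν, ρ, hν, hA, hB⟩ := aut_struct hK hσ φ
  -- the square acts trivially modulo the centre
  have hsq : ∀ b : K, ν * ρ ν * ρ (ρ b) = b := by
    intro b
    obtain ⟨c, hc⟩ := exists_c (σ := σ) hK hσ b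
    have h1 := congrArg SuzP.b (hφ (SuzP.mk' b c hc))
    rw [hA, hA, SuzP.mk'_b, mul_b, mul_b, inv_b, SuzP.mk'_b, map_mul] at h1
    linear_combination h1 + h2 g.b
  have hν1 : ν * ρ ν = 1 := by
    have := hsq 1
    rwa [map_one, map_one, mul_one] at this
  have hρρ : ∀ b, ρ (ρ b) = b := by
    intro b
    have := hsq b
    rwa [hν1, one_mul] at this
  have hfix : ∀ c, σ c = c → ρ c = c := invol_fix n hn hq hK hσ ρ hρρ
  have hNf : σ (ν * σ ν) = ν * σ ν := by rw [map_mul, hinv.out, mul_comm]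
  -- the action on central elements
  have hcen : ∀ w : SuzP σ, w.b = 0 → (φ w).b = 0 ∧ (φ w).c = ν * σ ν * w.c := by
    intro w hw
    refine ⟨phi_b_zero φ.toMonoidHom w hw, ?_⟩
    rw [hB w hw, hfix _ (c_fixed_of_b w hw)]
  -- N(ν)² = 1
  have hN2 : (ν * σ ν) * (ν * σ ν) = 1 := by
    have hw : (zEl 1 (map_one σ) : SuzP σ).b = 0 := rfl
    obtain ⟨hb1, hc1⟩ := hcen _ hw
    obtain ⟨_, hc2⟩ := hcen _ hb1
    have h3 := congrArg SuzP.c (hφ (zEl 1 (map_one σ)))
    rw [hc2, hc1] at h3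
    have h4 : g * zEl 1 (map_one σ) * g⁻¹ = (zEl 1 (map_one σ) : SuzP σ) := by
      rw [← zEl_central, mul_assoc, mul_inv_cancel, mul_one]
    rw [h4, zEl_c, mul_one] at h3
    exact h3
  have hN1 : ν * σ ν = 1 := by
    have h3 : (ν * σ ν + 1) * (ν * σ ν + 1) = 0 := by
      linear_combination hN2 + h2 (ν * σ ν) + h2 1
    have h4 : ν * σ ν + 1 = 0 := by
      rcases mul_eq_zero.mp h3 with h | h <;> exact h
    linear_combination h4 - h2 1
  obtain ⟨hb, hc⟩ := hcen z hz
  ext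
  · rw [hb, hz]
  · rw [hc, hN1, one_mul]

end model

/-- Let S be a Sylow 2-subgroup of SU₃(2ⁿ), n ≥ 2 (realised over the field with 4ⁿ elements). If a finite 2-group R contains a subgroup S' of index 2 isomorphic to S, then the centre of S' is contained in the centre of R. -/
theorem result {R : Type*} [Group R] [Finite R]
    (hR : IsPGroup 2 R) (n : ℕ) (hn : 2 ≤ n) {F : Type*} [Field F] [Fintype F] (hF : Fintype.card F = 4 ^ n)
    (P : Sylow 2 ↥(Cfsg.SU 3 F (2 ^ n))) (S' : Subgroup R) (hS : Nonempty (↥S' ≃* ↥(P : Subgroup ↥(Cfsg.SU 3 F (2 ^ n)))))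
    (hidx : S'.index = 2) :
    (Subgroup.center ↥S').map S'.subtype ≤ Subgroup.center R := by
  have hF' : Fintype.card F = (2 ^ n) ^ 2 := by
    rw [hF, ← pow_mul, mul_comm, pow_mul]; norm_num
  haveI : Fact (Nat.Prime 2) := ⟨Nat.prime_two⟩
  haveI : CharP F 2 := charP_of_card_eq_prime_pow (f := 2 * n) (by rw [hF, pow_mul]; norm_num)
  obtain ⟨σ, hσ⟩ := Cfsg.Agent.Lib.Lead.exists_frob hF'
  haveI : Fact (∀ x, σ (σ x) = x) := ⟨Cfsg.Agent.Lib.Lead.frob_frob hF' σ hσ⟩
  obtain ⟨e1⟩ := SU3EvenSU.sylow_equiv_SU n (by omega) rfl hF' hσ P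
  obtain ⟨e0⟩ := hS
  let e : ↥S' ≃* SuzP σ := e0.trans e1
  haveI hnorm : S'.Normal := Subgroup.normal_of_index_eq_two hidx
  rintro _ ⟨z, hz, rfl⟩
  have hz' : z ∈ Subgroup.center ↥S' := hz
  rw [Subgroup.mem_center_iff] at hz' ⊢
  -- e z is central in the model
  have hezb : (e z).b = 0 := by
    have h1 : e z ∈ Subgroup.center (SuzP σ) := by
      rw [Subgroup.mem_center_iff]
      intro y
      obtain ⟨y', rfl⟩ := e.surjective y
      rw [← map_mul, ← map_mul, hz' y']
    rw [center_eq hF' hσ, mem_ker_bHom] at h1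
    exact h1
  intro r
  by_cases hr : r ∈ S'
  · have := hz' ⟨r, hr⟩
    exact congrArg Subtype.val this
  · -- conjugation by r
    let ψ : MulAut ↥S' := MulAut.conjNormal r
    let φ : MulAut (SuzP σ) := MulAut.congr e ψ
    have hrr : r * r ∈ S' := Subgroup.mul_self_mem_of_index_two hidx r
    have hφφ : ∀ x, φ (φ x) = e ⟨r * r, hrr⟩ * x * (e ⟨r * r, hrr⟩)⁻¹ := by
      intro x
      rw [congr_apply, congr_apply, MulEquiv.symm_apply_apply]
      have h1 : ψ (ψ (e.symm x)) = ⟨r * r, hrr⟩ * e.symm x * (⟨r * r, hrr⟩ : ↥S')⁻¹ := by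
        apply Subtype.ext
        show ((MulAut.conjNormal r (MulAut.conjNormal r (e.symm x)) : ↥S') : R) = _
        rw [MulAut.conjNormal_apply, MulAut.conjNormal_apply]
        simp only [Subgroup.coe_mul, Subgroup.coe_inv]
        group
      rw [h1, map_mul, map_mul, map_inv, MulEquiv.apply_symm_apply]
    have hfix := fix_center n (by omega) rfl hF' hσ φ _ hφφ (e z) hezb
    rw [congr_apply, MulEquiv.symm_apply_apply] at hfix
    have h2 : ψ z = z := e.injective hfix
    have h3 := congrArg Subtype.val h2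
    have h4 : ((ψ z : ↥S') : R) = r * z * r⁻¹ := MulAut.conjNormal_apply r z
    rw [h4] at h3
    show r * (z : R) = (z : R) * r
    calc r * (z : R) = (r * z * r⁻¹) * r := by group
      _ = (z : R) * r := by rw [h3]

end Cfsg.Agent.S3315
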