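import Mathlib
import Cfsg.Statements.S3341
import Cfsg.Agent.S0497
import Cfsg.Agent.Lib.Helper19.Syl9Char
-- import your own Cfsg.Agent.* helpers here

set_option autoImplicit false
open Cfsg

namespace Cfsg.Agent.S3341

/-- Let G be a finite simple group whose Sylow 3-subgroup S is elementary abelian of order 9, such that G has more than one conjugacy class of elements of order 3 and C_G(s) = S for every non-identity s in S. Then G is isomorphic to the alternating group of degree 6. -/
theorem result {G : Type*} [Group G] [Finite G] [IsSimpleGroup G]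
    (P : Sylow 3 G) (S : Subgroup G) (hSP : S = P) (hcomm : IsMulCommutative S) (hexp : ∀ a ∈ S, a ^ 3 = 1)
    (hcard : Nat.card S = 9)
    (hclasses : ∃ a b : G, orderOf a = 3 ∧ orderOf b = 3 ∧ ∀ g : G, g * a * g⁻¹ ≠ b)
    (hcent : ∀ s ∈ S, s ≠ 1 → Subgroup.centralizer ({s} : Set G) = S) :
    Nonempty (G ≃* alternatingGroup (Fin 6)) := by
  classical
  subst hSP
  have h : Cfsg.Agent.Lib.Helper19.Syl9B.Hyp P (P : Subgroup G) :=
    ⟨rfl, fun u hu v hv => congrArg Subtype.val (hcomm.is_comm.comm (⟨u, hu⟩ : (P : Subgroup G)) ⟨v, hv⟩),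
      hexp, hcard, hcent⟩
  obtain ⟨x, z, hx, hz, hx1, hz1, hxz, hrx, hrz, hcase⟩ :=
    Cfsg.Agent.Lib.Helper19.Syl9C.main_group h hclasses
  -- perfectness
  have hperf : commutator G = ⊤ := by
    rcases (inferInstance : (commutator G).Normal).eq_bot_or_eq_top with hb | ht
    · exfalso
      obtain ⟨n, _, hnx⟩ := Cfsg.Agent.Lib.Helper19.Syl9C.exists_not_comm h hx hx1
      apply hnx
      have hmem := Subgroup.commutator_mem_commutator (Subgroup.mem_top n) (Subgroup.mem_top x)
      rw [← commutator_def, hb, Subgroup.mem_bot] at hmem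
      exact commutatorElement_eq_one_iff_mul_comm.mp hmem
    · exact ht
  rcases hcase with h0 | ⟨h2, hN, h4x, h4z, hall⟩
  · exact (Cfsg.Agent.Lib.Helper19.Syl9Char.case_two h hx hz hx1 hz1 hxz hrx hrz hperf h0).elim
  · have hle := Cfsg.Agent.Lib.Helper19.Syl9Char.case_four h hx hz hx1 hz1 hxz hrx hrz h2 h4x h4z hall
    have hn3 : Nat.card (Sylow 3 G) ≡ 1 [MOD 9] := h.card_sylow_mod9
    have hidx : Nat.card (Sylow 3 G) = (Subgroup.normalizer ((P : Subgroup G) : Set G)).index :=
      Sylow.card_eq_index_normalizer P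
    have hmul := Subgroup.card_mul_index (Subgroup.normalizer ((P : Subgroup G) : Set G))
    rw [← hidx, hN] at hmul
    set n := Nat.card (Sylow 3 G) with hn
    have hmod : n % 9 = 1 := hn3
    have hcases : n = 1 ∨ n = 10 ∨ n = 19 := by omega
    rcases hcases with h1 | h10 | h19
    · -- `S` would be normal
      exfalso
      have hi1 : (Subgroup.normalizer ((P : Subgroup G) : Set G)).index = 1 := by rw [← hidx, h1]
      have htop : Subgroup.normalizer ((P : Subgroup G) : Set G) = ⊤ := Subgroup.index_eq_one.mp hi1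
      have : (P : Subgroup G).Normal := Subgroup.normalizer_eq_top_iff.mp htop
      rcases (inferInstance : (P : Subgroup G).Normal).eq_bot_or_eq_top with hb | ht
      · rw [hb, Subgroup.card_bot] at hcard
        omega
      · exact Cfsg.Agent.Lib.Helper19.Syl9C.ne_top h hx hx1 ht
    · apply Cfsg.Agent.S0497.result
      rw [← hmul, h10]
    · -- order 684
      exfalso
      have hG : Nat.card G = 684 := by rw [← hmul, h19]
      have : Fact (Nat.Prime 19) := ⟨by norm_num⟩
      obtain ⟨Q⟩ : Nonempty (Sylow 19 G) := inferInstance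
      have k1 : Nat.card (Sylow 19 G) ≡ 1 [MOD 19] := card_sylow_modEq_one 19 G
      have k2 : Nat.card (Sylow 19 G) ∣ (Q : Subgroup G).index := Sylow.card_dvd_index Q
      have k3 : (Q : Subgroup G).index ∣ Nat.card G := Subgroup.index_dvd_card _
      have k4 : Nat.card (Sylow 19 G) ∣ 684 := hG ▸ k2.trans k3
      have k5 : Nat.card (Sylow 19 G) = 1 := by
        have hdiv : Nat.card (Sylow 19 G) ∈ Nat.divisors 684 := Nat.mem_divisors.mpr ⟨k4, by norm_num⟩
        have hmod19 : Nat.card (Sylow 19 G) % 19 = 1 := k1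
        have : ∀ m ∈ Nat.divisors 684, m % 19 = 1 → m = 1 := by decide
        exact this _ hdiv hmod19
      have hidxQ : Nat.card (Sylow 19 G) = (Subgroup.normalizer ((Q : Subgroup G) : Set G)).index :=
        Sylow.card_eq_index_normalizer Q
      have htop : Subgroup.normalizer ((Q : Subgroup G) : Set G) = ⊤ :=
        Subgroup.index_eq_one.mp (by rw [← hidxQ, k5])
      have : (Q : Subgroup G).Normal := Subgroup.normalizer_eq_top_iff.mp htop
      have hnd : ¬ 19 ∣ (Q : Subgroup G).index := Q.not_dvd_index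
      rcases (inferInstance : (Q : Subgroup G).Normal).eq_bot_or_eq_top with hb | ht
      · apply hnd
        rw [hb, Subgroup.index_bot, hG]
        norm_num
      · obtain ⟨k, hk⟩ := (IsPGroup.iff_card.mp Q.2)
        rw [ht, Subgroup.card_top, hG] at hk
        have : 2 ∣ 19 ^ k := ⟨342, by rw [← hk]⟩
        have := Nat.Prime.dvd_of_dvd_pow Nat.prime_two this
        omega

end Cfsg.Agent.S3341
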