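import Mathlib
import Cfsg.Statements.S3349
-- import your own Cfsg.Agent.* helpers here

set_option autoImplicit false
open Cfsg

namespace Cfsg.Agent.S3349

open scoped commutatorElement in
/-- Let Q be a finite extraspecial p-group and α an automorphism of Q fixing every element of some maximal abelian subgroup of Q. Then the order of α is a power of p. -/
theorem result {Q : Type*} [Group Q] [Finite Q]
    (p : ℕ) [Fact p.Prime] (hQ : Cfsg.IsExtraspecial p Q) (α : MulAut Q)
    (A : Subgroup Q) (hA : IsMulCommutative A) (hmax : ∀ B : Subgroup Q, A ≤ B → IsMulCommutative B → B = A)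
    (hfix : ∀ a ∈ A, α a = a) :
    ∃ k : ℕ, orderOf α = p ^ k := by
  obtain ⟨⟨hp, -, hcomm⟩, -⟩ := hQ
  have hAc : ∀ a ∈ A, ∀ b ∈ A, a * b = b * a := by
    intro a ha b hb
    have := (isMulCommutative_iff (M := A)).mp hA ⟨a, ha⟩ ⟨b, hb⟩
    exact congrArg Subtype.val this
  -- `A` is self-centralizing
  have hCA : Subgroup.centralizer (A : Set Q) ≤ A := by
    intro c hc
    rw [Subgroup.mem_centralizer_iff] at hc
    have hB : IsMulCommutative (Subgroup.closure ((A : Set Q) ∪ {c})) := by
      apply Subgroup.isMulCommutative_closure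
      rintro x (hx | hx) y (hy | hy)
      · exact hAc x hx y hy
      · rw [Set.mem_singleton_iff] at hy
        rw [hy]; exact hc x hx
      · rw [Set.mem_singleton_iff] at hx
        rw [hx]; exact (hc y hy).symm
      · rw [Set.mem_singleton_iff] at hx hy
        rw [hx, hy]
    have hle : A ≤ Subgroup.closure ((A : Set Q) ∪ {c}) := fun a ha =>
      Subgroup.subset_closure (Or.inl ha)
    have := hmax _ hle hB
    rw [← this]
    exact Subgroup.subset_closure (Or.inr rfl)
  have hZA : Subgroup.center Q ≤ A := (Subgroup.center_le_centralizer _).trans hCA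
  -- `A` is normal since `Q' = Z(Q) ≤ A`
  have hAn : ∀ a ∈ A, ∀ x : Q, x * a * x⁻¹ ∈ A := by
    intro a ha x
    have e : x * a * x⁻¹ = ⁅x, a⁆ * a := by rw [commutatorElement_def]; group
    rw [e]
    apply A.mul_mem (hZA _) ha
    rw [← hcomm]
    exact Subgroup.commutator_mem_commutator (Subgroup.mem_top x) (Subgroup.mem_top a)
  -- `x⁻¹ α(x) ∈ C_Q(A) = A`
  have hc : ∀ x : Q, x⁻¹ * α x ∈ A := by
    intro x
    apply hCA
    rw [Subgroup.mem_centralizer_iff]
    intro a ha
    have h1 := hfix _ (hAn a ha x)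
    rw [map_mul, map_mul, map_inv, hfix a ha] at h1
    calc a * (x⁻¹ * α x) = x⁻¹ * (x * a * x⁻¹) * α x := by group
      _ = x⁻¹ * (α x * a * (α x)⁻¹) * α x := by rw [h1]
      _ = x⁻¹ * α x * a := by group
  have hpow : ∀ (k : ℕ) (x : Q), (α ^ k) x = x * (x⁻¹ * α x) ^ k := by
    intro k
    induction k with
    | zero => intro x; simp
    | succ k ih =>
      intro x
      rw [pow_succ', MulAut.mul_apply, ih, map_mul, map_pow, hfix _ (hc x), pow_succ' (x⁻¹ * α x) k,
        ← mul_assoc, mul_inv_cancel_left]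
  have hαA : α ^ Nat.card A = 1 := by
    ext x
    rw [hpow]
    have h1 : (⟨x⁻¹ * α x, hc x⟩ : A) ^ Nat.card A = 1 := pow_card_eq_one'
    have h2 := congrArg Subtype.val h1
    rw [Subgroup.coe_pow, Subgroup.coe_one] at h2
    rw [h2, mul_one]
    rfl
  obtain ⟨j, hj⟩ := (hp.to_subgroup A).exists_card_eq
  rw [hj] at hαA
  have hd := orderOf_dvd_of_pow_eq_one hαA
  obtain ⟨k, -, hk⟩ := (Nat.dvd_prime_pow Fact.out).mp hd
  exact ⟨k, hk⟩

end Cfsg.Agent.S3349
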