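import Cfsg.Statements.S3356
import Mathlib
import Cfsg.Agent.Lib.Helper22.HalfAutA

set_option autoImplicit false
open Cfsg

namespace Cfsg.Agent.S3356

open Cfsg.Agent.Lib.Helper22.HalfAutA

/-- Let G be a finite 3/2-transitive permutation group: G acts faithfully and transitively on a finite set, the point stabilizers are non-trivial, and for each point a all orbits of G_a on the remaining points have the same size. Suppose G has a regular normal subgroup N and G is not a Frobenius group (some two-point stabilizer is non-trivial). Then N is an elementary abelian p-group for some prime p, and every non-trivial normal subgroup of G contains N (so N is the unique minimal normal subgroup). -/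
theorem result {G Ω : Type*} [Group G] [Finite G]
    [MulAction G Ω] [FaithfulSMul G Ω] [Finite Ω] (htrans : MulAction.IsPretransitive G Ω)
    (hne : ∀ a : Ω, MulAction.stabilizer G a ≠ ⊥)
    (hhalf : ∀ a b c : Ω, b ≠ a → c ≠ a →
      Nat.card (MulAction.orbit (MulAction.stabilizer G a) b) = Nat.card (MulAction.orbit (MulAction.stabilizer G a) c))
    (N : Subgroup G) [hN : N.Normal] (hNt : MulAction.IsPretransitive N Ω) (hNr : ∀ a : Ω, MulAction.stabilizer N a = ⊥)
    (hnotF : ∃ a b : Ω, a ≠ b ∧ MulAction.stabilizer G a ⊓ MulAction.stabilizer G b ≠ ⊥) :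
    (∃ p : ℕ, p.Prime ∧ IsMulCommutative N ∧ ∀ x ∈ N, x ^ p = 1) ∧
    (∀ M : Subgroup G, M.Normal → M ≠ ⊥ → N ≤ M) := by
  classical
  obtain ⟨a, b', hab, hst⟩ := hnotF
  set A : Subgroup G := MulAction.stabilizer G a with hA
  have hAmem : ∀ h, h ∈ A ↔ h • a = a := fun h => MulAction.mem_stabilizer_iff
  -- key: h ∈ A, x ∈ N: h • (x • a) = x • a ↔ Commute h x
  have key : ∀ h ∈ A, ∀ x ∈ N, (h • (x • a) = x • a ↔ Commute h x) := by
    intro h hh x hx
    have ha : h • a = a := (hAmem h).1 hh
    constructor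
    · intro hfix
      have h1 : (x⁻¹ * (h * x * h⁻¹)) • a = a := by
        have h0 : (h * x * h⁻¹) • a = x • a := by
          rw [mul_smul, mul_smul]
          have : h⁻¹ • a = a := by rw [inv_smul_eq_iff, ha]
          rw [this, hfix]
        rw [mul_smul, h0, ← mul_smul, inv_mul_cancel, one_smul]
      have h2 : x⁻¹ * (h * x * h⁻¹) ∈ N := mul_mem (inv_mem hx) (hN.conj_mem x hx h)
      have h3 : (⟨_, h2⟩ : N) ∈ MulAction.stabilizer N a := by
        rw [MulAction.mem_stabilizer_iff]
        exact h1
      rw [hNr a, Subgroup.mem_bot] at h3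
      have h4 : x⁻¹ * (h * x * h⁻¹) = 1 := congrArg Subtype.val h3
      show h * x = x * h
      have : h * x = x * (x⁻¹ * (h * x * h⁻¹)) * h := by group
      rw [this, h4, mul_one]
    · intro hc
      rw [← mul_smul, hc.eq, mul_smul, ha]
  have hmove : ∀ x ∈ N, x ≠ 1 → x • a ≠ a := by
    intro x hx hx1 h
    have h3 : (⟨x, hx⟩ : N) ∈ MulAction.stabilizer N a := by
      rw [MulAction.mem_stabilizer_iff]
      exact h
    rw [hNr a, Subgroup.mem_bot] at h3
    exact hx1 (congrArg Subtype.val h3)
  -- stabilizer in A of x • a ≃ St A x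
  have hstab : ∀ x ∈ N, Nat.card (MulAction.stabilizer A (x • a)) = Nat.card (St A x) := by
    intro x hx
    refine Nat.card_congr ⟨fun h => ⟨h.1.1, mem_St'.2 ⟨h.1.2, (key _ h.1.2 x hx).1 ?_⟩⟩,
      fun g => ⟨⟨g.1, (mem_St'.1 g.2).1⟩, ?_⟩, ?_, ?_⟩
    · exact MulAction.mem_stabilizer_iff.1 h.2
    · rw [MulAction.mem_stabilizer_iff]
      exact (key _ (mem_St'.1 g.2).1 x hx).2 (mem_St'.1 g.2).2
    · intro h; rfl
    · intro g; rfl
  have horb : ∀ c : Ω, Nat.card (MulAction.orbit A c) * Nat.card (MulAction.stabilizer A c)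
      = Nat.card A := by
    intro c
    rw [Nat.card_congr (MulAction.orbitEquivQuotientStabilizer A c)]
    exact (Subgroup.card_eq_card_quotient_mul_card_subgroup _).symm
  have hApos : 0 < Nat.card A := Nat.card_pos
  obtain ⟨n0, hn0⟩ := MulAction.exists_smul_eq N a b'
  have hn0' : (n0 : G) • a = b' := hn0
  have hx01 : (n0 : G) ≠ 1 := by
    intro h
    rw [h, one_smul] at hn0'
    exact hab hn0'
  have H : Hyp A N (Nat.card (St A (n0 : G))) := by
    refine ⟨hN, ?_, ⟨n0.1, n0.2, hx01, ?_⟩, ?_⟩
    · intro x hx hx1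
      have h1 := hhalf a (x • a) ((n0 : G) • a) (hmove x hx hx1) (hmove _ n0.2 hx01)
      have h2 := horb (x • a)
      have h3 := horb ((n0 : G) • a)
      rw [hstab x hx] at h2
      rw [hstab _ n0.2, ← h1] at h3
      have hpos : 0 < Nat.card (MulAction.orbit A (x • a)) := by
        apply Nat.pos_of_ne_zero
        intro h0
        rw [h0, zero_mul] at h2
        omega
      exact Nat.eq_of_mul_eq_mul_left hpos (h2.trans h3.symm)
    · intro hbot
      apply hst
      rw [← hbot]
      ext h
      rw [Subgroup.mem_inf, mem_St', MulAction.mem_stabilizer_iff, ← hn0']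
      constructor
      · rintro ⟨h1, h2⟩
        exact ⟨h1, (key h h1 _ n0.2).1 h2⟩
      · rintro ⟨h1, h2⟩
        exact ⟨h1, (key h h1 _ n0.2).2 h2⟩
    · intro h hh hcomm
      apply FaithfulSMul.eq_of_smul_eq_smul (α := Ω)
      intro c
      obtain ⟨n, hn⟩ := MulAction.exists_smul_eq N a c
      have hn' : (n : G) • a = c := hn
      rw [one_smul, ← hn']
      exact (key h hh _ n.2).2 (hcomm _ n.2)
  refine H.main ?_
  intro g
  obtain ⟨n, hn⟩ := MulAction.exists_smul_eq N a (g • a)
  have hn' : (n : G) • a = g • a := hn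
  refine ⟨n.1, n.2, ?_⟩
  rw [hAmem, mul_smul, ← hn', ← mul_smul, inv_mul_cancel, one_smul]

end Cfsg.Agent.S3356
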