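import Cfsg.Statements.S3357
import Mathlib
import Cfsg.Agent.Lib.Helper22.ZFormI
import Cfsg.Agent.Lib.Helper22.ZFormJ

set_option autoImplicit false
open Cfsg

namespace Cfsg.Agent.S3357

/-- Let G be a finite group that occurs as a Frobenius complement. Then G has a faithful irreducible representation over an algebraic closure of the rationals in which no non-identity element of G has 1 as an eigenvalue: there are n ≥ 1 and an injective homomorphism ρ from G to GL(n) over that field, with no invariant subspace other than 0 and the whole space, such that for g ≠ 1 the only vector fixed by ρ(g) is 0. -/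
theorem result {G : Type*} [Group G] [Finite G]
    (hFC : ∃ (L : Type) (_ : Group L) (_ : Finite L) (H : Subgroup L), Cfsg.IsFrobeniusComplement H ∧ Nonempty (G ≃* H)) :
    ∃ (n : ℕ) (ρ : G →* GL (Fin n) (AlgebraicClosure ℚ)), 0 < n ∧ Function.Injective ρ ∧
      (∀ W : Submodule (AlgebraicClosure ℚ) (Fin n → AlgebraicClosure ℚ),
        (∀ g : G, ∀ w ∈ W, ((ρ g : GL (Fin n) (AlgebraicClosure ℚ)) : Matrix (Fin n) (Fin n) (AlgebraicClosure ℚ)).mulVec w ∈ W) → W = ⊥ ∨ W = ⊤) ∧
      ∀ g : G, g ≠ 1 → ∀ v : Fin n → AlgebraicClosure ℚ,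
        ((ρ g : GL (Fin n) (AlgebraicClosure ℚ)) : Matrix (Fin n) (Fin n) (AlgebraicClosure ℚ)).mulVec v = v → v = 0 := by
  obtain ⟨d, ρZ, hd, hρZ⟩ := Cfsg.Agent.Lib.Helper22.ZFormI.zform_of_frobenius_complement hFC
  let F : Matrix (Fin d) (Fin d) ℤ →+* Module.End (AlgebraicClosure ℚ) (Fin d → AlgebraicClosure ℚ) :=
    (Matrix.toLinAlgEquiv' (R := AlgebraicClosure ℚ) (n := Fin d)).toRingEquiv.toRingHom.comp
      (Int.castRingHom (AlgebraicClosure ℚ)).mapMatrix
  let T : G →* Module.End (AlgebraicClosure ℚ) (Fin d → AlgebraicClosure ℚ) :=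
    F.toMonoidHom.comp ρZ
  have hT : ∀ g : G, g ≠ 1 → ∑ i ∈ Finset.range (orderOf g), T g ^ i = 0 := by
    intro g hg
    have h1 : ∑ i ∈ Finset.range (orderOf g), T g ^ i =
        F (∑ i ∈ Finset.range (orderOf g), ρZ g ^ i) := by
      rw [map_sum]
      apply Finset.sum_congr rfl
      intro i _
      rw [map_pow]
      rfl
    rw [h1, hρZ g hg, map_zero]
  haveI : Nonempty (Fin d) := ⟨⟨0, hd⟩⟩
  haveI : Nontrivial (Fin d → AlgebraicClosure ℚ) := inferInstance
  exact Cfsg.Agent.Lib.Helper22.ZFormJ.exists_irreducible_fpf T hT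

end Cfsg.Agent.S3357
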