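import Cfsg.Statements.S3361
import Cfsg.Agent.Lib.helper6.NF3361B
import Cfsg.Agent.Lib.helper6.NF3361E

set_option autoImplicit false
open Cfsg

namespace Cfsg.Agent.S3361

/-- Let q be a prime and V a non-trivial finite vector space over the field with q elements, and let G be a finite solvable group acting faithfully and linearly on V and regularly on the non-zero vectors (transitively, with only the identity fixing a non-zero vector). Then either V can be identified with the additive group of a finite field F so that every element of G acts as x ↦ a·σ(x) (a ∈ F, σ a field automorphism), or V has 5^2, 7^2, 11^2 or 23^2 elements. Moreover, if q ≠ 2 then G has a normal subgroup of index 2, except that when V has 25 elements G may be isomorphic to SL(2,3) and when V has 121 elements G may be isomorphic to SL(2,3) × C₅. -/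
theorem result
    (q : ℕ) [Fact q.Prime] {V : Type*} [AddCommGroup V] [Module (ZMod q) V] [Finite V] [Nontrivial V]
    {G : Type*} [Group G] [Finite G] (hsol : Group.IsSolvable G)
    (ρ : G →* (V ≃ₗ[ZMod q] V)) (hρ : Function.Injective ρ)
    (htrans : ∀ v w : V, v ≠ 0 → w ≠ 0 → ∃ g : G, ρ g v = w)
    (hreg : ∀ v : V, v ≠ 0 → ∀ g : G, ρ g v = v → g = 1) :
    ((∃ (F : Type) (_ : Field F) (_ : Fintype F) (e : V ≃+ F),
        ∀ g : G, ∃ (a : F) (σ : F ≃+* F), ∀ v : V, e (ρ g v) = a * σ (e v)) ∨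
      Nat.card V ∈ ({25, 49, 121, 529} : Set ℕ)) ∧
    (q ≠ 2 → (∃ N : Subgroup G, N.Normal ∧ N.index = 2) ∨
      (Nat.card V = 25 ∧ Nonempty (G ≃* Matrix.SpecialLinearGroup (Fin 2) (ZMod 3))) ∨
      (Nat.card V = 121 ∧ Nonempty (G ≃* Matrix.SpecialLinearGroup (Fin 2) (ZMod 3) × Multiplicative (ZMod 5)))) := by
  classical
  have hqp : q.Prime := Fact.out
  obtain ⟨v₀, hv₀⟩ := exists_ne (0 : V)
  -- the image group
  set H : Subgroup (V ≃ₗ[ZMod q] V) := ρ.range with hHdef
  let eG : G ≃* H := MonoidHom.ofInjective hρ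
  have heG : ∀ g : G, ((eG g : H) : V ≃ₗ[ZMod q] V) = ρ g := fun g => rfl
  have hregH : ∀ v w : V, v ≠ 0 → w ≠ 0 → ∃! h : H, (h : V ≃ₗ[ZMod q] V) v = w := by
    intro v w hv hw
    obtain ⟨g, hg⟩ := htrans v w hv hw
    refine ⟨⟨ρ g, g, rfl⟩, hg, ?_⟩
    rintro ⟨_, g', rfl⟩ hg'
    apply Subtype.ext
    show ρ g' = ρ g
    have h1 : ρ (g⁻¹ * g') v = v := by
      rw [map_mul, LinearEquiv.mul_apply]
      have hg'' : ρ g' v = w := hg'
      rw [hg'', ← hg, ← LinearEquiv.mul_apply, ← map_mul, inv_mul_cancel, map_one]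
      rfl
    have h2 := hreg v hv _ h1
    rw [inv_mul_eq_one] at h2
    rw [h2]
  have hsolvH : Group.IsSolvable H :=
    Group.isSolvable_of_surjective (f := eG.toMonoidHom) eG.surjective
  by_cases hI : ∀ A : Subgroup H, A.Normal → IsCyclic A → ∃ W : Submodule (ZMod q) V,
      W ≠ ⊥ ∧ W ≠ ⊤ ∧ ∀ a ∈ A, ∀ v ∈ W, ((a : H) : V ≃ₗ[ZMod q] V) v ∈ W
  · -- exceptional case
    obtain ⟨N, P, hNn, ⟨e⟩, hcardV, hP, hHcard, hDdvd⟩ :=
      Cfsg.Agent.Lib.helper6.NF3361C.struct688 hregH hI hsolvH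
    refine ⟨Or.inr ?_, ?_⟩
    · rw [hcardV]
      rcases hP with h | h | h | h <;> subst h <;> simp
    · intro _
      rcases Cfsg.Agent.Lib.helper6.NF3361E.caseII_B hregH N hNn e P hP hHcard hDdvd with
        ⟨M, hMn, hM2⟩ | ⟨hP5, ⟨f⟩⟩ | ⟨hP11, ⟨f⟩⟩
      · left
        exact Cfsg.Agent.Lib.helper6.NF3361A.index_two_of_surj eG.toMonoidHom eG.surjective M hM2
      · right; left
        refine ⟨by rw [hcardV, hP5], ⟨eG.trans f⟩⟩
      · right; right
        refine ⟨by rw [hcardV, hP11], ⟨eG.trans f⟩⟩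
  · -- semilinear case
    push Not at hI
    obtain ⟨A, hAn, hAc, hirr⟩ := hI
    have hAc' : ∀ a ∈ A, ∀ b ∈ A, a * b = b * a := by
      intro a ha b hb
      haveI := hAc
      have := (IsCyclic.commGroup (α := A)).mul_comm ⟨a, ha⟩ ⟨b, hb⟩
      exact congrArg Subtype.val this
    have hirr' : ∀ W : Submodule (ZMod q) V, Cfsg.Agent.Lib.helper6.RegLin.Inv A W →
        W = ⊥ ∨ W = ⊤ := by
      intro W hW
      by_contra hcon
      push Not at hcon
      obtain ⟨a, ha, v, hv, hav⟩ := hirr W hcon.1 hcon.2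
      exact hav (hW a ha v hv)
    obtain ⟨F, hF1, hF2, e, hsl⟩ :=
      Cfsg.Agent.Lib.helper6.NF3361B.semilinear_of_irred A hAn hAc' hirr' v₀ hv₀
    have hsl' : ∀ g : G, ∃ (a : F) (σ : F ≃+* F), ∀ v : V, e (ρ g v) = a * σ (e v) := by
      intro g
      exact hsl (eG g)
    refine ⟨Or.inl ⟨F, hF1, hF2, e, hsl'⟩, ?_⟩
    intro hq2
    left
    exact Cfsg.Agent.Lib.helper6.NF3361A.index_two_of_semilinear hq2 ρ htrans e hsl'

end Cfsg.Agent.S3361
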