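import Mathlib
import Cfsg.Statements.S3362
-- import your own Cfsg.Agent.* helpers here

set_option autoImplicit false
open Cfsg

namespace Cfsg.Agent.S3362


open Equiv Subgroup

section Level
variable {α : Type*} [DecidableEq α] [Fintype α]

/-- closure induction in a finite group, using only left multiplication by generators -/
theorem closure_left_ind {S : Set (Perm α)} {P : Perm α → Prop} (h1 : P 1)
    (hmul : ∀ g ∈ S, ∀ a, P a → P (g * a)) : ∀ a ∈ closure S, P a := by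
  intro a ha
  induction ha using Subgroup.closure_induction_left with
  | one => exact h1
  | mul_left g hg a _ ih => exact hmul g hg a ih
  | inv_mul_cancel g hg a _ ih =>
    have hpow : ∀ k : ℕ, P (g ^ k * a) := by
      intro k
      induction k with
      | zero => simpa using ih
      | succ k ihk =>
        rw [pow_succ', mul_assoc]
        exact hmul g hg _ ihk
    have hinv : g⁻¹ = g ^ (orderOf g - 1) := by
      have hpos : 0 < orderOf g := orderOf_pos g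
      rw [inv_eq_iff_mul_eq_one, ← pow_succ', Nat.sub_add_cancel hpos, pow_orderOf_eq_one]
    rw [hinv]
    exact hpow _

theorem level_main (S S' : Set (Perm α)) (β : α) (Δ : Finset α) (u : α → Perm α)
    (hβ : β ∈ Δ) (hu1 : u β = 1)
    (hcl : ∀ g ∈ S, ∀ δ ∈ Δ, g δ ∈ Δ ∧ (u (g δ))⁻¹ * g * u δ ∈ closure S') :
    ∀ a ∈ closure S, a β ∈ Δ ∧ (u (a β))⁻¹ * a ∈ closure S' := by
  apply closure_left_ind
  · refine ⟨by simpa using hβ, ?_⟩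
    simp [hu1]
  · intro g hg a ⟨ha1, ha2⟩
    obtain ⟨h1, h2⟩ := hcl g hg (a β) ha1
    refine ⟨by simpa using h1, ?_⟩
    have : (u ((g * a) β))⁻¹ * (g * a) = ((u (g (a β)))⁻¹ * g * u (a β)) * ((u (a β))⁻¹ * a) := by
      simp only [Perm.mul_apply]; group
    rw [this]
    exact (closure S').mul_mem h2 ha2

theorem level_stab (S S' : Set (Perm α)) (β : α) (Δ : Finset α) (u : α → Perm α)
    (hβ : β ∈ Δ) (hu1 : u β = 1)
    (hcl : ∀ g ∈ S, ∀ δ ∈ Δ, g δ ∈ Δ ∧ (u (g δ))⁻¹ * g * u δ ∈ closure S')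
    (hsub : S' ⊆ S) (hfix : ∀ g ∈ S', g β = β) :
    closure S' = closure S ⊓ MulAction.stabilizer (Perm α) β := by
  apply le_antisymm
  · apply le_inf (closure_mono hsub)
    rw [closure_le]
    intro g hg
    exact hfix g hg
  · rintro a ⟨ha, hab⟩
    have hab' : a β = β := hab
    have := (level_main S S' β Δ u hβ hu1 hcl a ha).2
    rwa [hab', hu1, inv_one, one_mul] at this

theorem level_card (S S' : Set (Perm α)) (β : α) (Δ : Finset α) (u : α → Perm α)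
    (hβ : β ∈ Δ) (hu1 : u β = 1)
    (hcl : ∀ g ∈ S, ∀ δ ∈ Δ, g δ ∈ Δ ∧ (u (g δ))⁻¹ * g * u δ ∈ closure S')
    (hsub : S' ⊆ S) (hfix : ∀ g ∈ S', g β = β)
    (hu : ∀ δ ∈ Δ, u δ ∈ closure S ∧ u δ β = δ) :
    Nat.card (closure S) = Δ.card * Nat.card (closure S') := by
  have hmain := level_main S S' β Δ u hβ hu1 hcl
  have hfix' : ∀ h ∈ closure S', h β = β := by
    intro h hh
    have : closure S' ≤ MulAction.stabilizer (Perm α) β := by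
      rw [closure_le]; intro g hg; exact hfix g hg
    exact this hh
  let φ : closure S → Δ × closure S' := fun a =>
    (⟨(a : Perm α) β, (hmain a a.2).1⟩, ⟨(u ((a : Perm α) β))⁻¹ * a, (hmain a a.2).2⟩)
  have hinj : Function.Injective φ := by
    intro a b hab
    have h1 : (a : Perm α) β = (b : Perm α) β := congrArg (fun p => (p.1 : α)) hab
    have h2 : (u ((a : Perm α) β))⁻¹ * a = (u ((b : Perm α) β))⁻¹ * b :=
      congrArg (fun p => (p.2 : Perm α)) hab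
    rw [h1] at h2
    exact Subtype.ext (mul_left_cancel h2)
  have hsurj : Function.Surjective φ := by
    rintro ⟨⟨δ, hδ⟩, ⟨h, hh⟩⟩
    obtain ⟨hu1', hu2⟩ := hu δ hδ
    have hmem : u δ * h ∈ closure S := (closure S).mul_mem hu1' (closure_mono hsub hh)
    have hβ' : (u δ * h) β = δ := by rw [Perm.mul_apply, hfix' h hh, hu2]
    refine ⟨⟨u δ * h, hmem⟩, ?_⟩
    apply Prod.ext
    · exact Subtype.ext hβ'
    · apply Subtype.ext
      show (u ((u δ * h) β))⁻¹ * (u δ * h) = h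
      rw [hβ']; group
  rw [Nat.card_congr (Equiv.ofBijective φ ⟨hinj, hsurj⟩), Nat.card_prod]
  congr 1
  rw [Nat.card_eq_fintype_card, Fintype.card_coe]

end Level

abbrev Pm := Equiv.Perm (Fin 12)

def ps : Pm := ⟨![0, 1, 2, 4, 5, 3, 7, 8, 6, 10, 11, 9], ![0, 1, 2, 5, 3, 4, 8, 6, 7, 11, 9, 10], by decide, by decide⟩
def pt : Pm := ⟨![0, 1, 2, 6, 7, 8, 9, 10, 11, 3, 4, 5], ![0, 1, 2, 9, 10, 11, 3, 4, 5, 6, 7, 8], by decide, by decide⟩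
def pu : Pm := ⟨![0, 1, 2, 3, 6, 9, 5, 8, 11, 4, 7, 10], ![0, 1, 2, 3, 9, 6, 4, 10, 7, 5, 11, 8], by decide, by decide⟩
def pv : Pm := ⟨![0, 1, 2, 3, 7, 11, 10, 5, 6, 8, 9, 4], ![0, 1, 2, 3, 11, 7, 8, 4, 9, 10, 6, 5], by decide, by decide⟩
def pw : Pm := ⟨![0, 1, 2, 3, 10, 8, 11, 6, 4, 7, 5, 9], ![0, 1, 2, 3, 8, 10, 7, 9, 5, 11, 4, 6], by decide, by decide⟩
def px1 : Pm := ⟨![3, 1, 2, 0, 4, 5, 7, 6, 10, 11, 8, 9], ![3, 1, 2, 0, 4, 5, 7, 6, 10, 11, 8, 9], by decide, by decide⟩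
def px2 : Pm := ⟨![1, 0, 2, 3, 4, 5, 9, 10, 11, 6, 7, 8], ![1, 0, 2, 3, 4, 5, 9, 10, 11, 6, 7, 8], by decide, by decide⟩
def px3 : Pm := ⟨![0, 2, 1, 3, 4, 5, 11, 9, 10, 7, 8, 6], ![0, 2, 1, 3, 4, 5, 11, 9, 10, 7, 8, 6], by decide, by decide⟩

def S1 : Set Pm := {ps, pt, pu, pv, pw, px1, px2, px3}
def S2 : Set Pm := {ps, pt, pu, pv, pw, px1, px2}
def S3 : Set Pm := {ps, pt, pu, pv, pw, px1}
def S4 : Set Pm := {ps, pt, pu, pv, pw}
def S5 : Set Pm := {pu, pv, pw}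
def S6 : Set Pm := ∅

def D1 : Finset (Fin 12) := {0, 1, 2, 3, 4, 5, 6, 7, 8, 9, 10, 11}
def D2 : Finset (Fin 12) := {0, 1, 3, 4, 5, 6, 7, 8, 9, 10, 11}
def D3 : Finset (Fin 12) := {0, 3, 4, 5, 6, 7, 8, 9, 10, 11}
def D4 : Finset (Fin 12) := {3, 4, 5, 6, 7, 8, 9, 10, 11}
def D5 : Finset (Fin 12) := {4, 5, 6, 7, 8, 9, 10, 11}

def a1_0 : Pm := ⟨![1, 2, 0, 3, 4, 5, 8, 6, 7, 10, 11, 9], ![2, 0, 1, 3, 4, 5, 7, 8, 6, 11, 9, 10], by decide, by decide⟩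
def a1_1 : Pm := ⟨![0, 2, 1, 3, 4, 5, 11, 9, 10, 7, 8, 6], ![0, 2, 1, 3, 4, 5, 11, 9, 10, 7, 8, 6], by decide, by decide⟩
def a1_3 : Pm := ⟨![1, 2, 3, 0, 4, 5, 10, 7, 6, 8, 9, 11], ![3, 0, 1, 2, 4, 5, 8, 7, 9, 10, 6, 11], by decide, by decide⟩
def a1_4 : Pm := ⟨![1, 2, 4, 0, 5, 3, 11, 8, 7, 6, 10, 9], ![3, 0, 1, 5, 2, 4, 9, 8, 7, 11, 10, 6], by decide, by decide⟩
def a1_5 : Pm := ⟨![1, 2, 5, 0, 3, 4, 9, 6, 8, 7, 11, 10], ![3, 0, 1, 4, 5, 2, 7, 9, 8, 6, 11, 10], by decide, by decide⟩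
def a1_6 : Pm := ⟨![1, 2, 6, 0, 7, 8, 4, 10, 9, 11, 3, 5], ![3, 0, 1, 10, 6, 11, 2, 4, 5, 8, 7, 9], by decide, by decide⟩
def a1_7 : Pm := ⟨![1, 2, 7, 0, 8, 6, 5, 11, 10, 9, 4, 3], ![3, 0, 1, 11, 10, 6, 5, 2, 4, 9, 8, 7], by decide, by decide⟩
def a1_8 : Pm := ⟨![1, 2, 8, 0, 6, 7, 3, 9, 11, 10, 5, 4], ![3, 0, 1, 6, 11, 10, 4, 5, 2, 7, 9, 8], by decide, by decide⟩
def a1_9 : Pm := ⟨![1, 2, 9, 0, 10, 11, 7, 4, 3, 5, 6, 8], ![3, 0, 1, 8, 7, 9, 10, 6, 11, 2, 4, 5], by decide, by decide⟩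
def a1_10 : Pm := ⟨![1, 2, 10, 0, 8, 3, 9, 4, 6, 11, 5, 7], ![3, 0, 1, 5, 7, 10, 8, 11, 4, 6, 2, 9], by decide, by decide⟩
def a1_11 : Pm := ⟨![1, 2, 11, 0, 6, 4, 10, 5, 7, 9, 3, 8], ![3, 0, 1, 10, 5, 7, 4, 8, 11, 9, 6, 2], by decide, by decide⟩
def u1 : Fin 12 → Pm := ![a1_0, a1_1, 1, a1_3, a1_4, a1_5, a1_6, a1_7, a1_8, a1_9, a1_10, a1_11]

def a2_0 : Pm := ⟨![1, 0, 2, 3, 4, 5, 9, 10, 11, 6, 7, 8], ![1, 0, 2, 3, 4, 5, 9, 10, 11, 6, 7, 8], by decide, by decide⟩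
def a2_3 : Pm := ⟨![1, 3, 2, 0, 4, 5, 11, 8, 9, 7, 6, 10], ![3, 0, 2, 1, 4, 5, 10, 9, 7, 8, 11, 6], by decide, by decide⟩
def a2_4 : Pm := ⟨![1, 4, 2, 0, 5, 3, 9, 6, 10, 8, 7, 11], ![3, 0, 2, 5, 1, 4, 7, 10, 9, 6, 8, 11], by decide, by decide⟩
def a2_5 : Pm := ⟨![1, 5, 2, 0, 3, 4, 10, 7, 11, 6, 8, 9], ![3, 0, 2, 4, 5, 1, 9, 7, 10, 11, 6, 8], by decide, by decide⟩
def a2_6 : Pm := ⟨![1, 6, 2, 0, 7, 8, 5, 11, 3, 10, 9, 4], ![3, 0, 2, 8, 11, 6, 1, 4, 5, 10, 9, 7], by decide, by decide⟩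
def a2_7 : Pm := ⟨![1, 7, 2, 0, 8, 6, 3, 9, 4, 11, 10, 5], ![3, 0, 2, 6, 8, 11, 5, 1, 4, 7, 10, 9], by decide, by decide⟩
def a2_8 : Pm := ⟨![1, 8, 2, 0, 6, 7, 4, 10, 5, 9, 11, 3], ![3, 0, 2, 11, 6, 8, 4, 5, 1, 9, 7, 10], by decide, by decide⟩
def a2_9 : Pm := ⟨![1, 9, 2, 0, 10, 11, 8, 5, 6, 4, 3, 7], ![3, 0, 2, 10, 9, 7, 8, 11, 6, 1, 4, 5], by decide, by decide⟩
def a2_10 : Pm := ⟨![1, 10, 2, 0, 8, 3, 7, 11, 5, 4, 6, 9], ![3, 0, 2, 5, 9, 8, 10, 6, 4, 11, 1, 7], by decide, by decide⟩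
def a2_11 : Pm := ⟨![1, 11, 2, 0, 6, 4, 8, 9, 3, 5, 7, 10], ![3, 0, 2, 8, 5, 9, 4, 10, 6, 7, 11, 1], by decide, by decide⟩
def u2 : Fin 12 → Pm := ![a2_0, 1, 1, a2_3, a2_4, a2_5, a2_6, a2_7, a2_8, a2_9, a2_10, a2_11]

def a3_3 : Pm := ⟨![3, 1, 2, 0, 4, 5, 7, 6, 10, 11, 8, 9], ![3, 1, 2, 0, 4, 5, 7, 6, 10, 11, 8, 9], by decide, by decide⟩
def a3_4 : Pm := ⟨![4, 1, 2, 0, 5, 3, 8, 7, 11, 9, 6, 10], ![3, 1, 2, 5, 0, 4, 10, 7, 6, 9, 11, 8], by decide, by decide⟩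
def a3_5 : Pm := ⟨![5, 1, 2, 0, 3, 4, 6, 8, 9, 10, 7, 11], ![3, 1, 2, 4, 5, 0, 6, 10, 7, 8, 9, 11], by decide, by decide⟩
def a3_6 : Pm := ⟨![6, 1, 2, 0, 7, 8, 10, 9, 4, 5, 11, 3], ![3, 1, 2, 11, 8, 9, 0, 4, 5, 7, 6, 10], by decide, by decide⟩
def a3_7 : Pm := ⟨![7, 1, 2, 0, 8, 6, 11, 10, 5, 3, 9, 4], ![3, 1, 2, 9, 11, 8, 5, 0, 4, 10, 7, 6], by decide, by decide⟩
def a3_8 : Pm := ⟨![8, 1, 2, 0, 6, 7, 9, 11, 3, 4, 10, 5], ![3, 1, 2, 8, 9, 11, 4, 5, 0, 6, 10, 7], by decide, by decide⟩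
def a3_9 : Pm := ⟨![9, 1, 2, 0, 10, 11, 4, 3, 7, 8, 5, 6], ![3, 1, 2, 7, 6, 10, 11, 8, 9, 0, 4, 5], by decide, by decide⟩
def a3_10 : Pm := ⟨![10, 1, 2, 0, 8, 3, 4, 6, 9, 7, 11, 5], ![3, 1, 2, 5, 6, 11, 7, 9, 4, 8, 0, 10], by decide, by decide⟩
def a3_11 : Pm := ⟨![11, 1, 2, 0, 6, 4, 5, 7, 10, 8, 9, 3], ![3, 1, 2, 11, 5, 6, 4, 7, 9, 10, 8, 0], by decide, by decide⟩
def u3 : Fin 12 → Pm := ![1, 1, 1, a3_3, a3_4, a3_5, a3_6, a3_7, a3_8, a3_9, a3_10, a3_11]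

def a4_4 : Pm := ⟨![0, 1, 2, 4, 5, 3, 7, 8, 6, 10, 11, 9], ![0, 1, 2, 5, 3, 4, 8, 6, 7, 11, 9, 10], by decide, by decide⟩
def a4_5 : Pm := ⟨![0, 1, 2, 5, 3, 4, 8, 6, 7, 11, 9, 10], ![0, 1, 2, 4, 5, 3, 7, 8, 6, 10, 11, 9], by decide, by decide⟩
def a4_6 : Pm := ⟨![0, 1, 2, 6, 7, 8, 9, 10, 11, 3, 4, 5], ![0, 1, 2, 9, 10, 11, 3, 4, 5, 6, 7, 8], by decide, by decide⟩
def a4_7 : Pm := ⟨![0, 1, 2, 7, 8, 6, 10, 11, 9, 4, 5, 3], ![0, 1, 2, 11, 9, 10, 5, 3, 4, 8, 6, 7], by decide, by decide⟩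
def a4_8 : Pm := ⟨![0, 1, 2, 8, 6, 7, 11, 9, 10, 5, 3, 4], ![0, 1, 2, 10, 11, 9, 4, 5, 3, 7, 8, 6], by decide, by decide⟩
def a4_9 : Pm := ⟨![0, 1, 2, 9, 10, 11, 3, 4, 5, 6, 7, 8], ![0, 1, 2, 6, 7, 8, 9, 10, 11, 3, 4, 5], by decide, by decide⟩
def a4_10 : Pm := ⟨![0, 1, 2, 10, 8, 3, 6, 4, 11, 5, 9, 7], ![0, 1, 2, 5, 7, 9, 6, 11, 4, 10, 3, 8], by decide, by decide⟩
def a4_11 : Pm := ⟨![0, 1, 2, 11, 6, 4, 7, 5, 9, 3, 10, 8], ![0, 1, 2, 9, 5, 7, 4, 6, 11, 8, 10, 3], by decide, by decide⟩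
def u4 : Fin 12 → Pm := ![1, 1, 1, 1, a4_4, a4_5, a4_6, a4_7, a4_8, a4_9, a4_10, a4_11]

def a5_5 : Pm := ⟨![0, 1, 2, 3, 5, 4, 9, 11, 10, 6, 8, 7], ![0, 1, 2, 3, 5, 4, 9, 11, 10, 6, 8, 7], by decide, by decide⟩
def a5_6 : Pm := ⟨![0, 1, 2, 3, 6, 9, 5, 8, 11, 4, 7, 10], ![0, 1, 2, 3, 9, 6, 4, 10, 7, 5, 11, 8], by decide, by decide⟩
def a5_7 : Pm := ⟨![0, 1, 2, 3, 7, 11, 10, 5, 6, 8, 9, 4], ![0, 1, 2, 3, 11, 7, 8, 4, 9, 10, 6, 5], by decide, by decide⟩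
def a5_8 : Pm := ⟨![0, 1, 2, 3, 8, 10, 7, 9, 5, 11, 4, 6], ![0, 1, 2, 3, 10, 8, 11, 6, 4, 7, 5, 9], by decide, by decide⟩
def a5_9 : Pm := ⟨![0, 1, 2, 3, 9, 6, 4, 10, 7, 5, 11, 8], ![0, 1, 2, 3, 6, 9, 5, 8, 11, 4, 7, 10], by decide, by decide⟩
def a5_10 : Pm := ⟨![0, 1, 2, 3, 10, 8, 11, 6, 4, 7, 5, 9], ![0, 1, 2, 3, 8, 10, 7, 9, 5, 11, 4, 6], by decide, by decide⟩
def a5_11 : Pm := ⟨![0, 1, 2, 3, 11, 7, 8, 4, 9, 10, 6, 5], ![0, 1, 2, 3, 7, 11, 10, 5, 6, 8, 9, 4], by decide, by decide⟩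
def u5 : Fin 12 → Pm := ![1, 1, 1, 1, 1, a5_5, a5_6, a5_7, a5_8, a5_9, a5_10, a5_11]

lemma u1_mem : ∀ δ : Fin 12, u1 δ ∈ closure S1 := by
  have h2 : (1 : Pm) ∈ closure S1 := one_mem _
  have h1 : a1_1 ∈ closure S1 := by
    rw [show a1_1 = px3 * 1 from by decide]
    exact mul_mem (subset_closure (by simp [S1])) h2
  have h0 : a1_0 ∈ closure S1 := by
    rw [show a1_0 = px2 * a1_1 from by decide]
    exact mul_mem (subset_closure (by simp [S1])) h1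
  have h3 : a1_3 ∈ closure S1 := by
    rw [show a1_3 = px1 * a1_0 from by decide]
    exact mul_mem (subset_closure (by simp [S1])) h0
  have h4 : a1_4 ∈ closure S1 := by
    rw [show a1_4 = ps * a1_3 from by decide]
    exact mul_mem (subset_closure (by simp [S1])) h3
  have h6 : a1_6 ∈ closure S1 := by
    rw [show a1_6 = pt * a1_3 from by decide]
    exact mul_mem (subset_closure (by simp [S1])) h3
  have h5 : a1_5 ∈ closure S1 := by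
    rw [show a1_5 = ps * a1_4 from by decide]
    exact mul_mem (subset_closure (by simp [S1])) h4
  have h7 : a1_7 ∈ closure S1 := by
    rw [show a1_7 = pt * a1_4 from by decide]
    exact mul_mem (subset_closure (by simp [S1])) h4
  have h10 : a1_10 ∈ closure S1 := by
    rw [show a1_10 = pw * a1_4 from by decide]
    exact mul_mem (subset_closure (by simp [S1])) h4
  have h9 : a1_9 ∈ closure S1 := by
    rw [show a1_9 = pt * a1_6 from by decide]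
    exact mul_mem (subset_closure (by simp [S1])) h6
  have h11 : a1_11 ∈ closure S1 := by
    rw [show a1_11 = pw * a1_6 from by decide]
    exact mul_mem (subset_closure (by simp [S1])) h6
  have h8 : a1_8 ∈ closure S1 := by
    rw [show a1_8 = pt * a1_5 from by decide]
    exact mul_mem (subset_closure (by simp [S1])) h5
  intro δ
  fin_cases δ
  · exact h0
  · exact h1
  · exact h2
  · exact h3
  · exact h4
  · exact h5
  · exact h6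
  · exact h7
  · exact h8
  · exact h9
  · exact h10
  · exact h11

lemma u2_mem : ∀ δ : Fin 12, u2 δ ∈ closure S2 := by
  have h1 : (1 : Pm) ∈ closure S2 := one_mem _
  have h0 : a2_0 ∈ closure S2 := by
    rw [show a2_0 = px2 * 1 from by decide]
    exact mul_mem (subset_closure (by simp [S2])) h1
  have h3 : a2_3 ∈ closure S2 := by
    rw [show a2_3 = px1 * a2_0 from by decide]
    exact mul_mem (subset_closure (by simp [S2])) h0
  have h4 : a2_4 ∈ closure S2 := by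
    rw [show a2_4 = ps * a2_3 from by decide]
    exact mul_mem (subset_closure (by simp [S2])) h3
  have h6 : a2_6 ∈ closure S2 := by
    rw [show a2_6 = pt * a2_3 from by decide]
    exact mul_mem (subset_closure (by simp [S2])) h3
  have h5 : a2_5 ∈ closure S2 := by
    rw [show a2_5 = ps * a2_4 from by decide]
    exact mul_mem (subset_closure (by simp [S2])) h4
  have h7 : a2_7 ∈ closure S2 := by
    rw [show a2_7 = pt * a2_4 from by decide]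
    exact mul_mem (subset_closure (by simp [S2])) h4
  have h10 : a2_10 ∈ closure S2 := by
    rw [show a2_10 = pw * a2_4 from by decide]
    exact mul_mem (subset_closure (by simp [S2])) h4
  have h9 : a2_9 ∈ closure S2 := by
    rw [show a2_9 = pt * a2_6 from by decide]
    exact mul_mem (subset_closure (by simp [S2])) h6
  have h11 : a2_11 ∈ closure S2 := by
    rw [show a2_11 = pw * a2_6 from by decide]
    exact mul_mem (subset_closure (by simp [S2])) h6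
  have h8 : a2_8 ∈ closure S2 := by
    rw [show a2_8 = pt * a2_5 from by decide]
    exact mul_mem (subset_closure (by simp [S2])) h5
  intro δ
  fin_cases δ
  · exact h0
  · exact h1
  · exact one_mem _
  · exact h3
  · exact h4
  · exact h5
  · exact h6
  · exact h7
  · exact h8
  · exact h9
  · exact h10
  · exact h11

lemma u3_mem : ∀ δ : Fin 12, u3 δ ∈ closure S3 := by
  have h0 : (1 : Pm) ∈ closure S3 := one_mem _
  have h3 : a3_3 ∈ closure S3 := by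
    rw [show a3_3 = px1 * 1 from by decide]
    exact mul_mem (subset_closure (by simp [S3])) h0
  have h4 : a3_4 ∈ closure S3 := by
    rw [show a3_4 = ps * a3_3 from by decide]
    exact mul_mem (subset_closure (by simp [S3])) h3
  have h6 : a3_6 ∈ closure S3 := by
    rw [show a3_6 = pt * a3_3 from by decide]
    exact mul_mem (subset_closure (by simp [S3])) h3
  have h5 : a3_5 ∈ closure S3 := by
    rw [show a3_5 = ps * a3_4 from by decide]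
    exact mul_mem (subset_closure (by simp [S3])) h4
  have h7 : a3_7 ∈ closure S3 := by
    rw [show a3_7 = pt * a3_4 from by decide]
    exact mul_mem (subset_closure (by simp [S3])) h4
  have h10 : a3_10 ∈ closure S3 := by
    rw [show a3_10 = pw * a3_4 from by decide]
    exact mul_mem (subset_closure (by simp [S3])) h4
  have h9 : a3_9 ∈ closure S3 := by
    rw [show a3_9 = pt * a3_6 from by decide]
    exact mul_mem (subset_closure (by simp [S3])) h6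
  have h11 : a3_11 ∈ closure S3 := by
    rw [show a3_11 = pw * a3_6 from by decide]
    exact mul_mem (subset_closure (by simp [S3])) h6
  have h8 : a3_8 ∈ closure S3 := by
    rw [show a3_8 = pt * a3_5 from by decide]
    exact mul_mem (subset_closure (by simp [S3])) h5
  intro δ
  fin_cases δ
  · exact h0
  · exact one_mem _
  · exact one_mem _
  · exact h3
  · exact h4
  · exact h5
  · exact h6
  · exact h7
  · exact h8
  · exact h9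
  · exact h10
  · exact h11

lemma u4_mem : ∀ δ : Fin 12, u4 δ ∈ closure S4 := by
  have h3 : (1 : Pm) ∈ closure S4 := one_mem _
  have h4 : a4_4 ∈ closure S4 := by
    rw [show a4_4 = ps * 1 from by decide]
    exact mul_mem (subset_closure (by simp [S4])) h3
  have h6 : a4_6 ∈ closure S4 := by
    rw [show a4_6 = pt * 1 from by decide]
    exact mul_mem (subset_closure (by simp [S4])) h3
  have h5 : a4_5 ∈ closure S4 := by
    rw [show a4_5 = ps * a4_4 from by decide]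
    exact mul_mem (subset_closure (by simp [S4])) h4
  have h7 : a4_7 ∈ closure S4 := by
    rw [show a4_7 = pt * a4_4 from by decide]
    exact mul_mem (subset_closure (by simp [S4])) h4
  have h10 : a4_10 ∈ closure S4 := by
    rw [show a4_10 = pw * a4_4 from by decide]
    exact mul_mem (subset_closure (by simp [S4])) h4
  have h9 : a4_9 ∈ closure S4 := by
    rw [show a4_9 = pt * a4_6 from by decide]
    exact mul_mem (subset_closure (by simp [S4])) h6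
  have h11 : a4_11 ∈ closure S4 := by
    rw [show a4_11 = pw * a4_6 from by decide]
    exact mul_mem (subset_closure (by simp [S4])) h6
  have h8 : a4_8 ∈ closure S4 := by
    rw [show a4_8 = pt * a4_5 from by decide]
    exact mul_mem (subset_closure (by simp [S4])) h5
  intro δ
  fin_cases δ
  · exact one_mem _
  · exact one_mem _
  · exact one_mem _
  · exact h3
  · exact h4
  · exact h5
  · exact h6
  · exact h7
  · exact h8
  · exact h9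
  · exact h10
  · exact h11

lemma u5_mem : ∀ δ : Fin 12, u5 δ ∈ closure S5 := by
  have h4 : (1 : Pm) ∈ closure S5 := one_mem _
  have h6 : a5_6 ∈ closure S5 := by
    rw [show a5_6 = pu * 1 from by decide]
    exact mul_mem (subset_closure (by simp [S5])) h4
  have h7 : a5_7 ∈ closure S5 := by
    rw [show a5_7 = pv * 1 from by decide]
    exact mul_mem (subset_closure (by simp [S5])) h4
  have h10 : a5_10 ∈ closure S5 := by
    rw [show a5_10 = pw * 1 from by decide]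
    exact mul_mem (subset_closure (by simp [S5])) h4
  have h5 : a5_5 ∈ closure S5 := by
    rw [show a5_5 = pu * a5_6 from by decide]
    exact mul_mem (subset_closure (by simp [S5])) h6
  have h11 : a5_11 ∈ closure S5 := by
    rw [show a5_11 = pw * a5_6 from by decide]
    exact mul_mem (subset_closure (by simp [S5])) h6
  have h8 : a5_8 ∈ closure S5 := by
    rw [show a5_8 = pu * a5_7 from by decide]
    exact mul_mem (subset_closure (by simp [S5])) h7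
  have h9 : a5_9 ∈ closure S5 := by
    rw [show a5_9 = pv * a5_10 from by decide]
    exact mul_mem (subset_closure (by simp [S5])) h10
  intro δ
  fin_cases δ
  · exact one_mem _
  · exact one_mem _
  · exact one_mem _
  · exact one_mem _
  · exact h4
  · exact h5
  · exact h6
  · exact h7
  · exact h8
  · exact h9
  · exact h10
  · exact h11

def res (u : Fin 12 → Pm) (β : Fin 12) (p : Pm) : Pm := (u (p β))⁻¹ * p

lemma mem_of_res {H : Subgroup Pm} {u : Fin 12 → Pm} {β : Fin 12} {p : Pm} (hu : ∀ δ, u δ ∈ H)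
    (h : res u β p ∈ H) : p ∈ H := by
  have : p = u (p β) * res u β p := by unfold res; group
  rw [this]; exact H.mul_mem (hu _) h

lemma S65 : S6 ⊆ S5 := by simp [S6]
lemma S54 : S5 ⊆ S4 := by intro x; simp only [S5, S4, Set.mem_insert_iff, Set.mem_singleton_iff]; tauto
lemma S43 : S4 ⊆ S3 := by intro x; simp only [S4, S3, Set.mem_insert_iff, Set.mem_singleton_iff]; tauto
lemma S32 : S3 ⊆ S2 := by intro x; simp only [S3, S2, Set.mem_insert_iff, Set.mem_singleton_iff]; tauto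
lemma S21 : S2 ⊆ S1 := by intro x; simp only [S2, S1, Set.mem_insert_iff, Set.mem_singleton_iff]; tauto

lemma sift6 (p : Pm) (h : p = 1) : p ∈ closure S6 := by rw [h]; exact one_mem _
lemma sift5 (p : Pm) (h : res u5 4 p = 1) : p ∈ closure S5 :=
  mem_of_res u5_mem (closure_mono S65 (sift6 _ h))
lemma sift4 (p : Pm) (h : res u5 4 (res u4 3 p) = 1) : p ∈ closure S4 :=
  mem_of_res u4_mem (closure_mono S54 (sift5 _ h))
lemma sift3 (p : Pm) (h : res u5 4 (res u4 3 (res u3 0 p)) = 1) : p ∈ closure S3 :=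
  mem_of_res u3_mem (closure_mono S43 (sift4 _ h))
lemma sift2 (p : Pm) (h : res u5 4 (res u4 3 (res u3 0 (res u2 1 p))) = 1) : p ∈ closure S2 :=
  mem_of_res u2_mem (closure_mono S32 (sift3 _ h))

set_option maxRecDepth 100000 in
lemma cert1_s : ∀ δ : Fin 12, δ ∈ D1 → ps δ ∈ D1 ∧ res u5 4 (res u4 3 (res u3 0 (res u2 1 ((u1 (ps δ))⁻¹ * ps * u1 δ)))) = 1 := by
  decide

set_option maxRecDepth 100000 in
lemma cert1_t : ∀ δ : Fin 12, δ ∈ D1 → pt δ ∈ D1 ∧ res u5 4 (res u4 3 (res u3 0 (res u2 1 ((u1 (pt δ))⁻¹ * pt * u1 δ)))) = 1 := by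
  decide

set_option maxRecDepth 100000 in
lemma cert1_u : ∀ δ : Fin 12, δ ∈ D1 → pu δ ∈ D1 ∧ res u5 4 (res u4 3 (res u3 0 (res u2 1 ((u1 (pu δ))⁻¹ * pu * u1 δ)))) = 1 := by
  decide

set_option maxRecDepth 100000 in
lemma cert1_v : ∀ δ : Fin 12, δ ∈ D1 → pv δ ∈ D1 ∧ res u5 4 (res u4 3 (res u3 0 (res u2 1 ((u1 (pv δ))⁻¹ * pv * u1 δ)))) = 1 := by
  decide

set_option maxRecDepth 100000 in
lemma cert1_w : ∀ δ : Fin 12, δ ∈ D1 → pw δ ∈ D1 ∧ res u5 4 (res u4 3 (res u3 0 (res u2 1 ((u1 (pw δ))⁻¹ * pw * u1 δ)))) = 1 := by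
  decide

set_option maxRecDepth 100000 in
lemma cert1_x1 : ∀ δ : Fin 12, δ ∈ D1 → px1 δ ∈ D1 ∧ res u5 4 (res u4 3 (res u3 0 (res u2 1 ((u1 (px1 δ))⁻¹ * px1 * u1 δ)))) = 1 := by
  decide

set_option maxRecDepth 100000 in
lemma cert1_x2 : ∀ δ : Fin 12, δ ∈ D1 → px2 δ ∈ D1 ∧ res u5 4 (res u4 3 (res u3 0 (res u2 1 ((u1 (px2 δ))⁻¹ * px2 * u1 δ)))) = 1 := by
  decide

set_option maxRecDepth 100000 in
lemma cert1_x3 : ∀ δ : Fin 12, δ ∈ D1 → px3 δ ∈ D1 ∧ res u5 4 (res u4 3 (res u3 0 (res u2 1 ((u1 (px3 δ))⁻¹ * px3 * u1 δ)))) = 1 := by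
  decide

set_option maxRecDepth 100000 in
lemma cert2_s : ∀ δ : Fin 12, δ ∈ D2 → ps δ ∈ D2 ∧ res u5 4 (res u4 3 (res u3 0 ((u2 (ps δ))⁻¹ * ps * u2 δ))) = 1 := by
  decide

set_option maxRecDepth 100000 in
lemma cert2_t : ∀ δ : Fin 12, δ ∈ D2 → pt δ ∈ D2 ∧ res u5 4 (res u4 3 (res u3 0 ((u2 (pt δ))⁻¹ * pt * u2 δ))) = 1 := by
  decide

set_option maxRecDepth 100000 in
lemma cert2_u : ∀ δ : Fin 12, δ ∈ D2 → pu δ ∈ D2 ∧ res u5 4 (res u4 3 (res u3 0 ((u2 (pu δ))⁻¹ * pu * u2 δ))) = 1 := by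
  decide

set_option maxRecDepth 100000 in
lemma cert2_v : ∀ δ : Fin 12, δ ∈ D2 → pv δ ∈ D2 ∧ res u5 4 (res u4 3 (res u3 0 ((u2 (pv δ))⁻¹ * pv * u2 δ))) = 1 := by
  decide

set_option maxRecDepth 100000 in
lemma cert2_w : ∀ δ : Fin 12, δ ∈ D2 → pw δ ∈ D2 ∧ res u5 4 (res u4 3 (res u3 0 ((u2 (pw δ))⁻¹ * pw * u2 δ))) = 1 := by
  decide

set_option maxRecDepth 100000 in
lemma cert2_x1 : ∀ δ : Fin 12, δ ∈ D2 → px1 δ ∈ D2 ∧ res u5 4 (res u4 3 (res u3 0 ((u2 (px1 δ))⁻¹ * px1 * u2 δ))) = 1 := by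
  decide

set_option maxRecDepth 100000 in
lemma cert2_x2 : ∀ δ : Fin 12, δ ∈ D2 → px2 δ ∈ D2 ∧ res u5 4 (res u4 3 (res u3 0 ((u2 (px2 δ))⁻¹ * px2 * u2 δ))) = 1 := by
  decide

set_option maxRecDepth 100000 in
lemma cert3_s : ∀ δ : Fin 12, δ ∈ D3 → ps δ ∈ D3 ∧ res u5 4 (res u4 3 ((u3 (ps δ))⁻¹ * ps * u3 δ)) = 1 := by
  decide

set_option maxRecDepth 100000 in
lemma cert3_t : ∀ δ : Fin 12, δ ∈ D3 → pt δ ∈ D3 ∧ res u5 4 (res u4 3 ((u3 (pt δ))⁻¹ * pt * u3 δ)) = 1 := by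
  decide

set_option maxRecDepth 100000 in
lemma cert3_u : ∀ δ : Fin 12, δ ∈ D3 → pu δ ∈ D3 ∧ res u5 4 (res u4 3 ((u3 (pu δ))⁻¹ * pu * u3 δ)) = 1 := by
  decide

set_option maxRecDepth 100000 in
lemma cert3_v : ∀ δ : Fin 12, δ ∈ D3 → pv δ ∈ D3 ∧ res u5 4 (res u4 3 ((u3 (pv δ))⁻¹ * pv * u3 δ)) = 1 := by
  decide

set_option maxRecDepth 100000 in
lemma cert3_w : ∀ δ : Fin 12, δ ∈ D3 → pw δ ∈ D3 ∧ res u5 4 (res u4 3 ((u3 (pw δ))⁻¹ * pw * u3 δ)) = 1 := by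
  decide

set_option maxRecDepth 100000 in
lemma cert3_x1 : ∀ δ : Fin 12, δ ∈ D3 → px1 δ ∈ D3 ∧ res u5 4 (res u4 3 ((u3 (px1 δ))⁻¹ * px1 * u3 δ)) = 1 := by
  decide

set_option maxRecDepth 100000 in
lemma cert4_s : ∀ δ : Fin 12, δ ∈ D4 → ps δ ∈ D4 ∧ res u5 4 ((u4 (ps δ))⁻¹ * ps * u4 δ) = 1 := by
  decide

set_option maxRecDepth 100000 in
lemma cert4_t : ∀ δ : Fin 12, δ ∈ D4 → pt δ ∈ D4 ∧ res u5 4 ((u4 (pt δ))⁻¹ * pt * u4 δ) = 1 := by
  decide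

set_option maxRecDepth 100000 in
lemma cert4_u : ∀ δ : Fin 12, δ ∈ D4 → pu δ ∈ D4 ∧ res u5 4 ((u4 (pu δ))⁻¹ * pu * u4 δ) = 1 := by
  decide

set_option maxRecDepth 100000 in
lemma cert4_v : ∀ δ : Fin 12, δ ∈ D4 → pv δ ∈ D4 ∧ res u5 4 ((u4 (pv δ))⁻¹ * pv * u4 δ) = 1 := by
  decide

set_option maxRecDepth 100000 in
lemma cert4_w : ∀ δ : Fin 12, δ ∈ D4 → pw δ ∈ D4 ∧ res u5 4 ((u4 (pw δ))⁻¹ * pw * u4 δ) = 1 := by
  decide

set_option maxRecDepth 100000 in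
lemma cert5_u : ∀ δ : Fin 12, δ ∈ D5 → pu δ ∈ D5 ∧ (u5 (pu δ))⁻¹ * pu * u5 δ = 1 := by
  decide

set_option maxRecDepth 100000 in
lemma cert5_v : ∀ δ : Fin 12, δ ∈ D5 → pv δ ∈ D5 ∧ (u5 (pv δ))⁻¹ * pv * u5 δ = 1 := by
  decide

set_option maxRecDepth 100000 in
lemma cert5_w : ∀ δ : Fin 12, δ ∈ D5 → pw δ ∈ D5 ∧ (u5 (pw δ))⁻¹ * pw * u5 δ = 1 := by
  decide


lemma hcl1 : ∀ g ∈ S1, ∀ δ ∈ D1, g δ ∈ D1 ∧ (u1 (g δ))⁻¹ * g * u1 δ ∈ closure S2 := by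
  intro g hg
  simp only [S1, Set.mem_insert_iff, Set.mem_singleton_iff] at hg
  rcases hg with rfl | rfl | rfl | rfl | rfl | rfl | rfl | rfl
  · intro δ hδ; obtain ⟨h1, h2⟩ := cert1_s δ hδ; exact ⟨h1, sift2 _ h2⟩
  · intro δ hδ; obtain ⟨h1, h2⟩ := cert1_t δ hδ; exact ⟨h1, sift2 _ h2⟩
  · intro δ hδ; obtain ⟨h1, h2⟩ := cert1_u δ hδ; exact ⟨h1, sift2 _ h2⟩
  · intro δ hδ; obtain ⟨h1, h2⟩ := cert1_v δ hδ; exact ⟨h1, sift2 _ h2⟩
  · intro δ hδ; obtain ⟨h1, h2⟩ := cert1_w δ hδ; exact ⟨h1, sift2 _ h2⟩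
  · intro δ hδ; obtain ⟨h1, h2⟩ := cert1_x1 δ hδ; exact ⟨h1, sift2 _ h2⟩
  · intro δ hδ; obtain ⟨h1, h2⟩ := cert1_x2 δ hδ; exact ⟨h1, sift2 _ h2⟩
  · intro δ hδ; obtain ⟨h1, h2⟩ := cert1_x3 δ hδ; exact ⟨h1, sift2 _ h2⟩

lemma hfix1 : ∀ g ∈ S2, g (2 : Fin 12) = 2 := by
  intro g hg
  simp only [S2, Set.mem_insert_iff, Set.mem_singleton_iff] at hg
  rcases hg with rfl | rfl | rfl | rfl | rfl | rfl | rfl <;> rfl

lemma hu1 : ∀ δ ∈ D1, u1 δ ∈ closure S1 ∧ u1 δ (2 : Fin 12) = δ := by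
  have h : ∀ δ : Fin 12, δ ∈ D1 → u1 δ (2 : Fin 12) = δ := by decide
  exact fun δ hδ => ⟨u1_mem δ, h δ hδ⟩

lemma stab1 : closure S2 = closure S1 ⊓ MulAction.stabilizer Pm (2 : Fin 12) :=
  level_stab S1 S2 2 D1 u1 (by decide) rfl hcl1 S21 hfix1

lemma cardeq1 : Nat.card (closure S1) = D1.card * Nat.card (closure S2) :=
  level_card S1 S2 2 D1 u1 (by decide) rfl hcl1 S21 hfix1 hu1

lemma hcl2 : ∀ g ∈ S2, ∀ δ ∈ D2, g δ ∈ D2 ∧ (u2 (g δ))⁻¹ * g * u2 δ ∈ closure S3 := by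
  intro g hg
  simp only [S2, Set.mem_insert_iff, Set.mem_singleton_iff] at hg
  rcases hg with rfl | rfl | rfl | rfl | rfl | rfl | rfl
  · intro δ hδ; obtain ⟨h1, h2⟩ := cert2_s δ hδ; exact ⟨h1, sift3 _ h2⟩
  · intro δ hδ; obtain ⟨h1, h2⟩ := cert2_t δ hδ; exact ⟨h1, sift3 _ h2⟩
  · intro δ hδ; obtain ⟨h1, h2⟩ := cert2_u δ hδ; exact ⟨h1, sift3 _ h2⟩
  · intro δ hδ; obtain ⟨h1, h2⟩ := cert2_v δ hδ; exact ⟨h1, sift3 _ h2⟩
  · intro δ hδ; obtain ⟨h1, h2⟩ := cert2_w δ hδ; exact ⟨h1, sift3 _ h2⟩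
  · intro δ hδ; obtain ⟨h1, h2⟩ := cert2_x1 δ hδ; exact ⟨h1, sift3 _ h2⟩
  · intro δ hδ; obtain ⟨h1, h2⟩ := cert2_x2 δ hδ; exact ⟨h1, sift3 _ h2⟩

lemma hfix2 : ∀ g ∈ S3, g (1 : Fin 12) = 1 := by
  intro g hg
  simp only [S3, Set.mem_insert_iff, Set.mem_singleton_iff] at hg
  rcases hg with rfl | rfl | rfl | rfl | rfl | rfl <;> rfl

lemma hu2 : ∀ δ ∈ D2, u2 δ ∈ closure S2 ∧ u2 δ (1 : Fin 12) = δ := by
  have h : ∀ δ : Fin 12, δ ∈ D2 → u2 δ (1 : Fin 12) = δ := by decide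
  exact fun δ hδ => ⟨u2_mem δ, h δ hδ⟩

lemma stab2 : closure S3 = closure S2 ⊓ MulAction.stabilizer Pm (1 : Fin 12) :=
  level_stab S2 S3 1 D2 u2 (by decide) rfl hcl2 S32 hfix2

lemma cardeq2 : Nat.card (closure S2) = D2.card * Nat.card (closure S3) :=
  level_card S2 S3 1 D2 u2 (by decide) rfl hcl2 S32 hfix2 hu2

lemma hcl3 : ∀ g ∈ S3, ∀ δ ∈ D3, g δ ∈ D3 ∧ (u3 (g δ))⁻¹ * g * u3 δ ∈ closure S4 := by
  intro g hg
  simp only [S3, Set.mem_insert_iff, Set.mem_singleton_iff] at hg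
  rcases hg with rfl | rfl | rfl | rfl | rfl | rfl
  · intro δ hδ; obtain ⟨h1, h2⟩ := cert3_s δ hδ; exact ⟨h1, sift4 _ h2⟩
  · intro δ hδ; obtain ⟨h1, h2⟩ := cert3_t δ hδ; exact ⟨h1, sift4 _ h2⟩
  · intro δ hδ; obtain ⟨h1, h2⟩ := cert3_u δ hδ; exact ⟨h1, sift4 _ h2⟩
  · intro δ hδ; obtain ⟨h1, h2⟩ := cert3_v δ hδ; exact ⟨h1, sift4 _ h2⟩
  · intro δ hδ; obtain ⟨h1, h2⟩ := cert3_w δ hδ; exact ⟨h1, sift4 _ h2⟩
  · intro δ hδ; obtain ⟨h1, h2⟩ := cert3_x1 δ hδ; exact ⟨h1, sift4 _ h2⟩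

lemma hfix3 : ∀ g ∈ S4, g (0 : Fin 12) = 0 := by
  intro g hg
  simp only [S4, Set.mem_insert_iff, Set.mem_singleton_iff] at hg
  rcases hg with rfl | rfl | rfl | rfl | rfl <;> rfl

lemma hu3 : ∀ δ ∈ D3, u3 δ ∈ closure S3 ∧ u3 δ (0 : Fin 12) = δ := by
  have h : ∀ δ : Fin 12, δ ∈ D3 → u3 δ (0 : Fin 12) = δ := by decide
  exact fun δ hδ => ⟨u3_mem δ, h δ hδ⟩

lemma stab3 : closure S4 = closure S3 ⊓ MulAction.stabilizer Pm (0 : Fin 12) :=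
  level_stab S3 S4 0 D3 u3 (by decide) rfl hcl3 S43 hfix3

lemma cardeq3 : Nat.card (closure S3) = D3.card * Nat.card (closure S4) :=
  level_card S3 S4 0 D3 u3 (by decide) rfl hcl3 S43 hfix3 hu3

lemma hcl4 : ∀ g ∈ S4, ∀ δ ∈ D4, g δ ∈ D4 ∧ (u4 (g δ))⁻¹ * g * u4 δ ∈ closure S5 := by
  intro g hg
  simp only [S4, Set.mem_insert_iff, Set.mem_singleton_iff] at hg
  rcases hg with rfl | rfl | rfl | rfl | rfl
  · intro δ hδ; obtain ⟨h1, h2⟩ := cert4_s δ hδ; exact ⟨h1, sift5 _ h2⟩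
  · intro δ hδ; obtain ⟨h1, h2⟩ := cert4_t δ hδ; exact ⟨h1, sift5 _ h2⟩
  · intro δ hδ; obtain ⟨h1, h2⟩ := cert4_u δ hδ; exact ⟨h1, sift5 _ h2⟩
  · intro δ hδ; obtain ⟨h1, h2⟩ := cert4_v δ hδ; exact ⟨h1, sift5 _ h2⟩
  · intro δ hδ; obtain ⟨h1, h2⟩ := cert4_w δ hδ; exact ⟨h1, sift5 _ h2⟩

lemma hfix4 : ∀ g ∈ S5, g (3 : Fin 12) = 3 := by
  intro g hg
  simp only [S5, Set.mem_insert_iff, Set.mem_singleton_iff] at hg
  rcases hg with rfl | rfl | rfl <;> rfl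

lemma hu4 : ∀ δ ∈ D4, u4 δ ∈ closure S4 ∧ u4 δ (3 : Fin 12) = δ := by
  have h : ∀ δ : Fin 12, δ ∈ D4 → u4 δ (3 : Fin 12) = δ := by decide
  exact fun δ hδ => ⟨u4_mem δ, h δ hδ⟩

lemma stab4 : closure S5 = closure S4 ⊓ MulAction.stabilizer Pm (3 : Fin 12) :=
  level_stab S4 S5 3 D4 u4 (by decide) rfl hcl4 S54 hfix4

lemma cardeq4 : Nat.card (closure S4) = D4.card * Nat.card (closure S5) :=
  level_card S4 S5 3 D4 u4 (by decide) rfl hcl4 S54 hfix4 hu4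

lemma hcl5 : ∀ g ∈ S5, ∀ δ ∈ D5, g δ ∈ D5 ∧ (u5 (g δ))⁻¹ * g * u5 δ ∈ closure S6 := by
  intro g hg
  simp only [S5, Set.mem_insert_iff, Set.mem_singleton_iff] at hg
  rcases hg with rfl | rfl | rfl
  · intro δ hδ; obtain ⟨h1, h2⟩ := cert5_u δ hδ; exact ⟨h1, sift6 _ h2⟩
  · intro δ hδ; obtain ⟨h1, h2⟩ := cert5_v δ hδ; exact ⟨h1, sift6 _ h2⟩
  · intro δ hδ; obtain ⟨h1, h2⟩ := cert5_w δ hδ; exact ⟨h1, sift6 _ h2⟩

lemma hfix5 : ∀ g ∈ S6, g (4 : Fin 12) = 4 := by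
  intro g hg
  simp [S6] at hg

lemma hu5 : ∀ δ ∈ D5, u5 δ ∈ closure S5 ∧ u5 δ (4 : Fin 12) = δ := by
  have h : ∀ δ : Fin 12, δ ∈ D5 → u5 δ (4 : Fin 12) = δ := by decide
  exact fun δ hδ => ⟨u5_mem δ, h δ hδ⟩

lemma stab5 : closure S6 = closure S5 ⊓ MulAction.stabilizer Pm (4 : Fin 12) :=
  level_stab S5 S6 4 D5 u5 (by decide) rfl hcl5 S65 hfix5

lemma cardeq5 : Nat.card (closure S5) = D5.card * Nat.card (closure S6) :=
  level_card S5 S6 4 D5 u5 (by decide) rfl hcl5 S65 hfix5 hu5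

lemma card6 : Nat.card (closure S6) = 1 := by
  rw [S6, Subgroup.closure_empty, Subgroup.card_bot]

lemma card5 : Nat.card (closure S5) = 8 := by
  rw [cardeq5, card6]; decide

lemma card4 : Nat.card (closure S4) = 72 := by
  rw [cardeq4, card5]; decide

lemma card3 : Nat.card (closure S3) = 720 := by
  rw [cardeq3, card4]; decide

lemma card2 : Nat.card (closure S2) = 7920 := by
  rw [cardeq2, card3]; decide

lemma card1 : Nat.card (closure S1) = 95040 := by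
  rw [cardeq1, card2]; decide

lemma fix_base (g : Pm) (hg : g ∈ closure S1) (h2 : g 2 = 2) (h1 : g 1 = 1) (h0 : g 0 = 0)
    (h3 : g 3 = 3) (h4 : g 4 = 4) : g = 1 := by
  have m2 : g ∈ closure S2 := by rw [stab1]; exact ⟨hg, h2⟩
  have m3 : g ∈ closure S3 := by rw [stab2]; exact ⟨m2, h1⟩
  have m4 : g ∈ closure S4 := by rw [stab3]; exact ⟨m3, h0⟩
  have m5 : g ∈ closure S5 := by rw [stab4]; exact ⟨m4, h3⟩
  have m6 : g ∈ closure S6 := by rw [stab5]; exact ⟨m5, h4⟩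
  rw [S6, Subgroup.closure_empty, mem_bot] at m6
  exact m6

def b5 : Fin 5 ↪ Fin 12 := ⟨![2, 1, 0, 3, 4], by decide⟩

lemma stab_b5 : MulAction.stabilizer (closure S1) b5 = ⊥ := by
  rw [eq_bot_iff]
  intro g hg
  rw [MulAction.mem_stabilizer_iff] at hg
  have hpt : ∀ i : Fin 5, (g : Pm) (b5 i) = b5 i := by
    intro i
    have := congrArg (fun e : Fin 5 ↪ Fin 12 => e i) hg
    exact this
  rw [mem_bot]
  apply Subtype.ext
  exact fix_base g g.2 (hpt 0) (hpt 1) (hpt 2) (hpt 3) (hpt 4)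

lemma trans5 : MulAction.IsMultiplyPretransitive (closure S1) (Fin 12) 5 := by
  show MulAction.IsPretransitive (closure S1) (Fin 5 ↪ Fin 12)
  refine (MulAction.isPretransitive_iff_orbit_eq_univ b5).mpr ?_
  apply Set.eq_of_subset_of_ncard_le (Set.subset_univ _) _ Set.finite_univ
  rw [← MulAction.index_stabilizer, stab_b5, Subgroup.index_bot, card1, Set.ncard_univ,
    Nat.card_eq_fintype_card, Fintype.card_embedding_eq]
  decide

lemma sharp5 (y : Fin 5 ↪ Fin 12) : MulAction.stabilizer (closure S1) y = ⊥ := by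
  have := trans5
  obtain ⟨g, rfl⟩ := MulAction.exists_smul_eq (closure S1) b5 y
  have h := MulAction.stabilizer_smul_eq_stabilizer_map_conj g b5
  refine h.trans ?_
  rw [stab_b5, Subgroup.map_bot]




/-- An explicit construction of the Mathieu groups of degrees 11 and 12. On the points 0, …, 11 let s = (3 4 5)(6 7 8)(9 10 11), t = (3 6 9)(4 7 10)(5 8 11), u = (4 6 5 9)(7 8 11 10), v = (4 7 5 11)(6 10 9 8), w = (4 10 5 8)(6 11 9 7), x₁ = (0 3)(6 7)(8 10)(9 11), x₂ = (0 1)(6 9)(7 10)(8 11), x₃ = (1 2)(6 11)(7 9)(8 10) (each written as a product of transpositions). Then the group M₁₂ generated by all eight permutations is sharply 5-transitive on the 12 points and has order 95040, and the group M₁₁ generated by the first seven has order 7920 and is the stabilizer of the point 2 in M₁₂. -/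
theorem result
    (s t u v w x₁ x₂ x₃ : Equiv.Perm (Fin 12))
    (hs : s = Equiv.swap (3 : Fin 12) 5 * Equiv.swap (3 : Fin 12) 4 * Equiv.swap (6 : Fin 12) 8 * Equiv.swap (6 : Fin 12) 7 * Equiv.swap (9 : Fin 12) 11 * Equiv.swap (9 : Fin 12) 10) (ht : t = Equiv.swap (3 : Fin 12) 9 * Equiv.swap (3 : Fin 12) 6 * Equiv.swap (4 : Fin 12) 10 * Equiv.swap (4 : Fin 12) 7 * Equiv.swap (5 : Fin 12) 11 * Equiv.swap (5 : Fin 12) 8)
    (hu : u = Equiv.swap (4 : Fin 12) 9 * Equiv.swap (4 : Fin 12) 5 * Equiv.swap (4 : Fin 12) 6 * Equiv.swap (7 : Fin 12) 10 * Equiv.swap (7 : Fin 12) 11 * Equiv.swap (7 : Fin 12) 8) (hv : v = Equiv.swap (4 : Fin 12) 11 * Equiv.swap (4 : Fin 12) 5 * Equiv.swap (4 : Fin 12) 7 * Equiv.swap (6 : Fin 12) 8 * Equiv.swap (6 : Fin 12) 9 * Equiv.swap (6 : Fin 12) 10) (hw : w = Equiv.swap (4 : Fin 12) 8 * Equiv.swap (4 : Fin 12) 5 * Equiv.swap (4 : Fin 12) 10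 * Equiv.swap (6 : Fin 12) 7 * Equiv.swap (6 : Fin 12) 9 * Equiv.swap (6 : Fin 12) 11)
    (hx₁ : x₁ = Equiv.swap (0 : Fin 12) 3 * Equiv.swap (6 : Fin 12) 7 * Equiv.swap (8 : Fin 12) 10 * Equiv.swap (9 : Fin 12) 11) (hx₂ : x₂ = Equiv.swap (0 : Fin 12) 1 * Equiv.swap (6 : Fin 12) 9 * Equiv.swap (7 : Fin 12) 10 * Equiv.swap (8 : Fin 12) 11)
    (hx₃ : x₃ = Equiv.swap (1 : Fin 12) 2 * Equiv.swap (6 : Fin 12) 11 * Equiv.swap (7 : Fin 12) 9 * Equiv.swap (8 : Fin 12) 10)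
    (M₁₂ M₁₁ : Subgroup (Equiv.Perm (Fin 12))) (hM₁₂ : M₁₂ = Subgroup.closure {s, t, u, v, w, x₁, x₂, x₃})
    (hM₁₁ : M₁₁ = Subgroup.closure {s, t, u, v, w, x₁, x₂}) :
    MulAction.IsMultiplyPretransitive M₁₂ (Fin 12) 5 ∧ (∀ y : Fin 5 ↪ Fin 12, MulAction.stabilizer M₁₂ y = ⊥) ∧
    Nat.card M₁₂ = 95040 ∧ Nat.card M₁₁ = 7920 ∧
    M₁₁ = M₁₂ ⊓ MulAction.stabilizer (Equiv.Perm (Fin 12)) (2 : Fin 12) := by
  have es : s = ps := by rw [hs]; decide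
  have et : t = pt := by rw [ht]; decide
  have eu : u = pu := by rw [hu]; decide
  have ev : v = pv := by rw [hv]; decide
  have ew : w = pw := by rw [hw]; decide
  have ex1 : x₁ = px1 := by rw [hx₁]; decide
  have ex2 : x₂ = px2 := by rw [hx₂]; decide
  have ex3 : x₃ = px3 := by rw [hx₃]; decide
  have e1 : M₁₂ = Subgroup.closure S1 := by
    rw [hM₁₂, es, et, eu, ev, ew, ex1, ex2, ex3]; rfl
  have e2 : M₁₁ = Subgroup.closure S2 := by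
    rw [hM₁₁, es, et, eu, ev, ew, ex1, ex2]; rfl
  clear hM₁₂ hM₁₁
  subst e1 e2
  exact ⟨trans5, sharp5, card1, card2, stab1⟩

end Cfsg.Agent.S3362
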