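import Mathlib
import Cfsg.Statements.S3370
import Cfsg.Agent.S0016
import Cfsg.Agent.Lib.helper8.SylowBasic
-- import your own Cfsg.Agent.* helpers here

set_option autoImplicit false
open Cfsg

namespace Cfsg.Agent.S3370



theorem pow_odd_modEq {x M e : ℕ} (h : x ^ 2 ≡ 1 [MOD M]) (he : Odd e) : x ^ e ≡ x [MOD M] := by
  obtain ⟨b, rfl⟩ := he
  rw [pow_succ, pow_mul]
  have := (h.pow b).mul_right x
  simpa using this

theorem one_add_mul_modEq (M t : ℕ) : 1 + M * t ≡ 1 [MOD M] := by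
  have : 1 + M * t ≡ 1 + 0 [MOD M] :=
    Nat.ModEq.add_left 1 ((Nat.modEq_zero_iff_dvd).mpr (dvd_mul_right _ _))
  simpa using this

/-- if `x - 1 = 2^j` (`x` odd), then `x^2 ≡ 1 mod 2^(j+1)`; same if `x + 1 = 2^j`. -/
theorem sq_modEq_of_sub {x j : ℕ} (hx : x = 2 ^ j + 1) (hj : 1 ≤ j) : x ^ 2 ≡ 1 [MOD 2 ^ (j + 1)] := by
  subst hx
  -- (2^j+1)^2 = 2^(2j) + 2^(j+1) + 1
  have : (2 ^ j + 1) ^ 2 = 1 + 2 ^ (j + 1) * (2 ^ (j - 1) + 1) := by
    obtain ⟨i, rfl⟩ : ∃ i, j = i + 1 := ⟨j - 1, by omega⟩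
    simp only [Nat.add_sub_cancel]
    ring
  rw [this]
  exact one_add_mul_modEq _ _

theorem sq_modEq_of_add {x j : ℕ} (hx : x + 1 = 2 ^ j) (hj : 1 ≤ j) : x ^ 2 ≡ 1 [MOD 2 ^ (j + 1)] := by
  obtain ⟨i, rfl⟩ : ∃ i, j = i + 1 := ⟨j - 1, by omega⟩
  have hx' : x = 2 ^ (i + 1) - 1 := by omega
  have hpos : 1 ≤ 2 ^ (i + 1) := Nat.one_le_two_pow
  -- x^2 = 1 + 2^(i+2) * (2^i - 1) ... use x^2 + 2^(i+2) = 1 + 2^(i+2)*2^i
  have h1 : x ^ 2 + 2 ^ (i + 1 + 1) = 1 + 2 ^ (i + 1 + 1) * 2 ^ i := by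
    have : x + 1 = 2 ^ (i + 1) := hx
    have hx2 : x ^ 2 + 2 * x + 1 = (2 ^ (i + 1)) ^ 2 := by rw [← this]; ring
    have e1 : (2 ^ (i + 1)) ^ 2 = 2 ^ (i + 1 + 1) * 2 ^ i := by ring
    have e2 : 2 ^ (i + 1 + 1) = 2 * 2 ^ (i + 1) := by ring
    rw [e1] at hx2
    rw [e2] at hx2 ⊢
    nlinarith
  have h2 : x ^ 2 + 2 ^ (i + 1 + 1) ≡ 1 [MOD 2 ^ (i + 1 + 1)] := by
    rw [h1]
    exact one_add_mul_modEq _ _
  have h3 : x ^ 2 + 2 ^ (i + 1 + 1) ≡ x ^ 2 + 0 [MOD 2 ^ (i + 1 + 1)] :=
    Nat.ModEq.add_left _ ((Nat.modEq_zero_iff_dvd).mpr dvd_rfl)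
  simpa using h3.symm.trans h2


theorem two_pow_contra {j n : ℕ} (hjn : j < n) (h : 2 ^ n ≡ 2 ^ j [MOD 2 ^ (j + 1)]) : False := by
  have h0 : 2 ^ n ≡ 0 [MOD 2 ^ (j + 1)] :=
    (Nat.modEq_zero_iff_dvd).mpr (pow_dvd_pow 2 (by omega))
  have h1 := h.symm.trans h0
  rw [Nat.modEq_zero_iff_dvd] at h1
  have h2 := Nat.le_of_dvd (by positivity) h1
  rw [pow_succ] at h2
  have : 0 < 2 ^ j := by positivity
  omega

theorem nt (q n p a : ℕ) (hq : q.Prime) (hp : p.Prime) (hn : 1 ≤ n) (ha : 1 ≤ a)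
    (h : q ^ n - 1 = p ^ a) :
    (q = 2 ∧ a = 1) ∨ (p = 2 ∧ n = 1) ∨ (p = 2 ∧ q = 3 ∧ n = 2 ∧ a = 3) := by
  have hqn : 1 ≤ q ^ n := Nat.one_le_pow _ _ hq.pos
  have h' : q ^ n = p ^ a + 1 := by omega
  rcases hq.eq_two_or_odd' with rfl | hqodd
  · -- q = 2
    left
    refine ⟨rfl, ?_⟩
    have hpodd : Odd p := by
      rcases hp.eq_two_or_odd' with rfl | h
      · exfalso
        have e1 : Even (2 ^ n) := (Nat.even_pow.mpr ⟨even_two, by omega⟩)
        have e2 : Even (2 ^ a) := (Nat.even_pow.mpr ⟨even_two, by omega⟩)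
        rw [h'] at e1
        have : Odd (2 ^ a + 1) := e2.add_one
        exact (Nat.not_even_iff_odd.mpr this) e1
      · exact h
    by_contra ha1
    have ha2 : 2 ≤ a := by omega
    have hp2 : 2 ≤ p := hp.two_le
    rcases Nat.even_or_odd a with hev | hod
    · obtain ⟨b, rfl⟩ := hev
      have hb : 1 ≤ b := by omega
      have hp4 : p ^ (b + b) % 4 = 1 := by
        have h2 : p ^ 2 % 4 = 1 := by
          obtain ⟨k, rfl⟩ := hpodd
          have : (2 * k + 1) ^ 2 = 4 * (k * k + k) + 1 := by ring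
          rw [this]; omega
        rw [← two_mul, pow_mul, Nat.pow_mod, h2]
        simp
      have h4 : 2 ^ n % 4 = 2 := by omega
      have hn1 : n = 1 := by
        by_contra hne
        obtain ⟨m, rfl⟩ : ∃ m, n = m + 2 := ⟨n - 2, by omega⟩
        rw [pow_add] at h4
        omega
      subst hn1
      have h1 : p ^ (b + b) = 1 := by omega
      have h2 : p ≤ p ^ (b + b) := by
        calc p = p ^ 1 := (pow_one p).symm
          _ ≤ p ^ (b + b) := Nat.pow_le_pow_right (by omega) (by omega)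
      omega
    · have hdvd : p + 1 ∣ 2 ^ n := by
        rw [h']
        have := Odd.nat_add_dvd_pow_add_pow p 1 hod
        rwa [one_pow] at this
      obtain ⟨j, hj, hpj⟩ := (Nat.dvd_prime_pow Nat.prime_two).mp hdvd
      have hj1 : 1 ≤ j := by
        by_contra hj0
        have : j = 0 := by omega
        subst this
        simp at hpj
        omega
      have hsq := sq_modEq_of_add hpj hj1
      have hpa := pow_odd_modEq hsq hod
      have h1 : 2 ^ n ≡ 2 ^ j [MOD 2 ^ (j + 1)] := by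
        rw [h', ← hpj]; exact hpa.add_right 1
      have hlt : j < n := by
        have h3 : p < p ^ a := by
          calc p = p ^ 1 := (pow_one p).symm
            _ < p ^ a := Nat.pow_lt_pow_right hp.one_lt (by omega)
        have h4 : 2 ^ j < 2 ^ n := by omega
        exact (Nat.pow_lt_pow_iff_right (by norm_num)).mp h4
      exact two_pow_contra hlt h1
  · -- q odd
    right
    have hq3 : 3 ≤ q := by
      have := hq.two_le
      obtain ⟨k, rfl⟩ := hqodd
      omega
    have hp2 : p = 2 := by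
      have h1 : Odd (q ^ n) := hqodd.pow
      have h2 : Even (p ^ a) := by
        rw [← h]; exact Nat.Odd.sub_odd h1 odd_one
      have h3 : Even p := (Nat.even_pow.mp h2).1
      exact (Nat.Prime.even_iff hp).mp h3
    subst hp2
    by_cases hn1 : n = 1
    · left; exact ⟨rfl, hn1⟩
    right
    have hn2 : 2 ≤ n := by omega
    rcases Nat.even_or_odd n with hev | hod
    · obtain ⟨m, rfl⟩ := hev
      have hm : 1 ≤ m := by omega
      have hx3 : 3 ≤ q ^ m := by
        calc 3 ≤ q := hq3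
          _ = q ^ 1 := (pow_one q).symm
          _ ≤ q ^ m := Nat.pow_le_pow_right (by omega) hm
      have hfac : (q ^ m - 1) * (q ^ m + 1) = 2 ^ a := by
        have e1 : q ^ (m + m) = q ^ m * q ^ m := pow_add q m m
        have e2 : (q ^ m - 1) * (q ^ m + 1) = q ^ m * q ^ m - 1 := by
          obtain ⟨y, hy⟩ : ∃ y, q ^ m = y + 1 := ⟨q ^ m - 1, by omega⟩
          rw [hy]; simp only [Nat.add_sub_cancel]
          have : (y + 1) * (y + 1) = y * (y + 1 + 1) + 1 := by ring
          rw [this]; simp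
        rw [e2, ← e1]; omega
      have hd1 : q ^ m - 1 ∣ 2 ^ a := Dvd.intro _ hfac
      have hd2 : q ^ m + 1 ∣ 2 ^ a := Dvd.intro_left _ hfac
      obtain ⟨b, hb, hxb⟩ := (Nat.dvd_prime_pow Nat.prime_two).mp hd1
      obtain ⟨c, hc, hxc⟩ := (Nat.dvd_prime_pow Nat.prime_two).mp hd2
      have hbc : 2 ^ c = 2 ^ b + 2 := by omega
      have hb1 : b = 1 := by
        rcases Nat.lt_or_ge b 2 with hb2 | hb2
        · interval_cases b
          · simp at hxb; omega
          · rfl
        · exfalso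
          obtain ⟨b', rfl⟩ : ∃ b', b = b' + 2 := ⟨b - 2, by omega⟩
          have hc2 : 2 ≤ c := by
            by_contra hc2
            have : c = 0 ∨ c = 1 := by omega
            have h4 : 4 ≤ 2 ^ (b' + 2) := by
              rw [pow_add]; have : 0 < 2 ^ b' := by positivity
              omega
            rcases this with rfl | rfl <;> omega
          obtain ⟨c', rfl⟩ : ∃ c', c = c' + 2 := ⟨c - 2, by omega⟩
          rw [pow_add, pow_add] at hbc
          omega
      subst hb1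
      have hqm : q ^ m = 3 := by omega
      have hc2 : c = 2 := by
        have : 2 ^ c = 2 ^ 2 := by omega
        exact Nat.pow_right_injective (le_refl 2) this
      have hm1 : m = 1 := by
        by_contra hne
        have : 2 ≤ m := by omega
        have : q ^ 2 ≤ q ^ m := Nat.pow_le_pow_right (by omega) this
        nlinarith
      subst hm1
      refine ⟨rfl, by simpa using hqm, rfl, ?_⟩
      have : 2 ^ a = 2 ^ 3 := by rw [← hfac, hqm]; norm_num
      exact Nat.pow_right_injective (le_refl 2) this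
    · exfalso
      have hdvd : q - 1 ∣ 2 ^ a := by
        rw [← h]
        have := Nat.sub_dvd_pow_sub_pow q 1 n
        rwa [one_pow] at this
      obtain ⟨j, hj, hqj⟩ := (Nat.dvd_prime_pow Nat.prime_two).mp hdvd
      have hj1 : 1 ≤ j := by
        by_contra hj0
        have : j = 0 := by omega
        subst this
        simp at hqj
        omega
      have hqj' : q = 2 ^ j + 1 := by omega
      have hsq := sq_modEq_of_sub hqj' hj1
      have hqa := pow_odd_modEq hsq hod
      have h1 : 2 ^ a ≡ 2 ^ j [MOD 2 ^ (j + 1)] := by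
        have h2 : 2 ^ a + 1 ≡ 2 ^ j + 1 [MOD 2 ^ (j + 1)] := by
          rw [← h', ← hqj']; exact hqa
        exact Nat.ModEq.add_right_cancel' 1 h2
      have hlt : j < a := by
        have h3 : q < q ^ n := by
          calc q = q ^ 1 := (pow_one q).symm
            _ < q ^ n := Nat.pow_lt_pow_right hq.one_lt (by omega)
        have h4 : 2 ^ j < 2 ^ a := by omega
        exact (Nat.pow_lt_pow_iff_right (by norm_num)).mp h4
      exact two_pow_contra hlt h1



section Act
variable {q : ℕ} [Fact q.Prime] {V : Type*} [AddCommGroup V] [Module (ZMod q) V] [Finite V]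
  {G : Type*} [Group G] [Finite G] (ρ : G →* (V ≃ₗ[ZMod q] V))

theorem eq_one_of_fix (hρ : Function.Injective ρ) {g : G} (h : ∀ w, ρ g w = w) : g = 1 := by
  apply hρ
  rw [map_one]
  ext w
  exact h w

/-- orbit–stabilizer for the action on the nonzero vectors -/
theorem card_G (htrans : ∀ v w : V, v ≠ 0 → w ≠ 0 → ∃ g : G, ρ g v = w) {v : V} (hv : v ≠ 0) :
    ∃ S : Subgroup G, (∀ g, g ∈ S ↔ ρ g v = v) ∧ Nat.card G = (Nat.card V - 1) * Nat.card S := by
  letI : MulAction G V := MulAction.compHom V ρ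
  have hsm : ∀ (g : G) (w : V), g • w = ρ g w := fun _ _ => rfl
  refine ⟨MulAction.stabilizer G v, fun g => by rw [MulAction.mem_stabilizer_iff, hsm], ?_⟩
  have horb : MulAction.orbit G v = {w | w ≠ 0} := by
    ext w
    constructor
    · rintro ⟨g, rfl⟩
      show ρ g v ≠ 0
      intro h
      exact hv ((ρ g).map_eq_zero_iff.mp h)
    · intro hw
      obtain ⟨g, hg⟩ := htrans v w hv hw
      exact ⟨g, hg⟩
  have h1 := MulAction.index_stabilizer (G := G) (x := v)
  have h2 := (MulAction.stabilizer G v).index_mul_card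
  rw [h1, horb] at h2
  have h3 : ({w : V | w ≠ 0}).ncard = Nat.card V - 1 := by
    have : {w : V | w ≠ 0} = ({0} : Set V)ᶜ := by ext; simp
    rw [this, Set.ncard_compl, Set.ncard_singleton]
  rw [h3] at h2
  exact h2.symm


/-- Case `q = 2`: the stabilizer of a nonzero vector is trivial. -/
theorem stab_trivial_two {p : ℕ} [Fact p.Prime] (hG : IsPGroup p G) (hρ : Function.Injective ρ)
    (hV : Nat.card V = p + 1) {v : V} (hv : v ≠ 0) (S : Subgroup G)
    (hS : ∀ g, g ∈ S ↔ ρ g v = v) : Nat.card S = 1 := by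
  letI : MulAction G V := MulAction.compHom V ρ
  have hsm : ∀ (g : G) (w : V), g • w = ρ g w := fun _ _ => rfl
  have hSp : IsPGroup p S := hG.to_subgroup S
  have hmod := hSp.card_modEq_card_fixedPoints V
  have h0 : (0 : V) ∈ MulAction.fixedPoints S V := by
    intro g
    show ρ (g : G) 0 = 0
    exact map_zero _
  have hvf : v ∈ MulAction.fixedPoints S V := by
    intro g
    show ρ (g : G) v = v
    exact (hS g).mp g.2
  have hp2 : 2 ≤ p := (Fact.out : p.Prime).two_le
  have hle : Nat.card (MulAction.fixedPoints S V) ≤ p + 1 := by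
    rw [← hV]; exact Nat.card_le_card_of_injective _ Subtype.val_injective
  have hge : 2 ≤ Nat.card (MulAction.fixedPoints S V) := by
    have hnt : Nontrivial (MulAction.fixedPoints S V) :=
      ⟨⟨⟨0, h0⟩, ⟨v, hvf⟩, fun h => hv (congrArg Subtype.val h).symm⟩⟩
    exact Finite.one_lt_card_iff_nontrivial.mpr hnt
  have heq : Nat.card (MulAction.fixedPoints S V) = p + 1 := by
    rw [hV] at hmod
    have h1 : (p + 1) % p = Nat.card (MulAction.fixedPoints S V) % p := hmod
    have h2 : (p + 1) % p = 1 := by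
      rw [Nat.add_mod_left]; exact Nat.mod_eq_of_lt (by omega)
    rw [h2] at h1
    set c := Nat.card (MulAction.fixedPoints S V) with hc
    by_contra hne
    have hcp : c ≤ p := by omega
    rcases Nat.lt_or_ge c p with hlt | hge'
    · rw [Nat.mod_eq_of_lt hlt] at h1; omega
    · have : c = p := by omega
      rw [this, Nat.mod_self] at h1; omega
  have huniv : MulAction.fixedPoints S V = Set.univ := by
    apply Set.eq_of_subset_of_ncard_le (Set.subset_univ _) _ Set.finite_univ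
    rw [Set.ncard_univ, hV, ← Nat.card_coe_set_eq, heq]
  have hbot : S = ⊥ := by
    rw [eq_bot_iff]
    intro g hg
    rw [Subgroup.mem_bot]
    apply eq_one_of_fix ρ hρ
    intro w
    have hw : w ∈ MulAction.fixedPoints S V := by rw [huniv]; trivial
    exact hw ⟨g, hg⟩
  rw [hbot, Subgroup.card_bot]


/-- Case `dim V = 1`: trivial stabilizer and `G` is cyclic. -/
theorem case_dim_one (hρ : Function.Injective ρ) (hdim : Module.finrank (ZMod q) V = 1) {v : V}
    (hv : v ≠ 0) (S : Subgroup G) (hS : ∀ g, g ∈ S ↔ ρ g v = v) :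
    Nat.card S = 1 ∧ IsCyclic G := by
  have hspan : ∀ w : V, ∃ c : ZMod q, c • v = w := (finrank_eq_one_iff_of_nonzero' v hv).mp hdim
  have hbot : S = ⊥ := by
    rw [eq_bot_iff]
    intro g hg
    rw [Subgroup.mem_bot]
    apply eq_one_of_fix ρ hρ
    intro w
    obtain ⟨c, rfl⟩ := hspan w
    rw [map_smul, (hS g).mp hg]
  refine ⟨by rw [hbot, Subgroup.card_bot], ?_⟩
  have huniq : ∀ c c' : ZMod q, c • v = c' • v → c = c' := fun c c' h =>
    smul_left_injective (ZMod q) hv h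
  let χ : G → ZMod q := fun g => Classical.choose (hspan (ρ g v))
  have hχ : ∀ g, χ g • v = ρ g v := fun g => Classical.choose_spec (hspan (ρ g v))
  have h1 : χ 1 = 1 := by
    apply huniq
    rw [hχ, map_one, one_smul]; rfl
  have hmul : ∀ g h, χ (g * h) = χ g * χ h := by
    intro g h
    apply huniq
    rw [hχ, map_mul, mul_comm, mul_smul, hχ g, ← map_smul, hχ h]; rfl
  let χ' : G →* ZMod q := ⟨⟨χ, h1⟩, hmul⟩
  have hinj : Function.Injective χ' := by
    intro g h hgh
    have hgh' : χ g = χ h := hgh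
    have h2 : ρ g v = ρ h v := by rw [← hχ g, ← hχ h, hgh']
    have h3 : h⁻¹ * g ∈ S := by
      rw [hS, map_mul, map_inv]
      show (ρ h)⁻¹ (ρ g v) = v
      rw [h2]
      exact (ρ h).symm_apply_apply v
    rw [hbot, Subgroup.mem_bot] at h3
    exact (inv_mul_eq_one.mp h3).symm
  exact isCyclic_of_subgroup_isDomain χ' hinj

end Act


section Eight
variable {V : Type*} [AddCommGroup V] [Module (ZMod 3) V] [Finite V]
  {G : Type*} [Group G] [Finite G] (ρ : G →* (V ≃ₗ[ZMod 3] V))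

theorem case_8 (hρ : Function.Injective ρ)
    (htrans : ∀ v w : V, v ≠ 0 → w ≠ 0 → ∃ g : G, ρ g v = w) (hG : IsPGroup 2 G)
    (hcard : Nat.card G = 8) (hV : Nat.card V = 9) :
    IsCyclic G ∨ Nonempty (G ≃* QuaternionGroup 2) := by
  haveI : Fact (Nat.Prime 3) := ⟨Nat.prime_three⟩
  haveI : Fact (Nat.Prime 2) := ⟨Nat.prime_two⟩
  -- all stabilizers are trivial
  have hstab : ∀ w : V, w ≠ 0 → ∀ g : G, ρ g w = w → g = 1 := by
    intro w hw g hg
    obtain ⟨S, hS, hc⟩ := card_G ρ htrans hw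
    rw [hcard, hV] at hc
    have h1 : Nat.card S = 1 := by omega
    have hbot : S = ⊥ := Subgroup.card_eq_one.mp h1
    have : g ∈ S := (hS g).mpr hg
    rwa [hbot, Subgroup.mem_bot] at this
  -- involutions act as -1
  have hneg : ∀ g : G, g * g = 1 → g ≠ 1 → ∀ w : V, ρ g w = -w := by
    intro g hg2 hg1 w
    have hfix : ρ g (w + ρ g w) = w + ρ g w := by
      rw [map_add]
      have : ρ g (ρ g w) = w := by
        have h := congrArg (fun f : V ≃ₗ[ZMod 3] V => f w) (congrArg ρ hg2)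
        simpa using h
      rw [this, add_comm]
    have h0 : w + ρ g w = 0 := by
      by_contra hne
      exact hg1 (hstab _ hne g hfix)
    exact (neg_eq_of_add_eq_zero_right h0).symm
  have hinvol : ∀ g h : G, g * g = 1 → g ≠ 1 → h * h = 1 → h ≠ 1 → g = h := by
    intro g h hg2 hg1 hh2 hh1
    apply hρ
    ext w
    rw [hneg g hg2 hg1, hneg h hh2 hh1]
  have hle : ∀ H K : Subgroup G, Nat.card H = 2 → Nat.card K = 2 → H ≤ K := by
    intro H K hH hK
    have hKnt : Nontrivial K := Finite.one_lt_card_iff_nontrivial.mp (by rw [hK]; norm_num)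
    obtain ⟨⟨k, hkK⟩, hk1⟩ := exists_ne (1 : K)
    have hk1' : k ≠ 1 := fun h => hk1 (Subtype.ext h)
    have hk2 : k * k = 1 := by
      have := pow_card_eq_one' (G := K) (x := ⟨k, hkK⟩)
      rw [hK, sq] at this
      exact congrArg Subtype.val this
    intro x hx
    by_cases hx1 : x = 1
    · rw [hx1]; exact K.one_mem
    · have hx2 : x * x = 1 := by
        have := pow_card_eq_one' (G := H) (x := ⟨x, hx⟩)
        rw [hH, sq] at this
        exact congrArg Subtype.val this
      rw [hinvol x k hx2 hx1 hk2 hk1']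
      exact hkK
  have huniq : ∀ H K : Subgroup G, Nat.card H = 2 → Nat.card K = 2 → H = K :=
    fun H K hH hK => le_antisymm (hle H K hH hK) (hle K H hK hH)
  rcases Cfsg.Agent.S0016.result 2 hG huniq with hc | ⟨_, n, ⟨e⟩⟩
  · exact Or.inl hc
  · right
    have hn0 : NeZero (2 ^ n) := ⟨by positivity⟩
    have hc := Nat.card_congr e.toEquiv
    rw [hcard, Nat.card_eq_fintype_card, QuaternionGroup.card] at hc
    have h2n : 2 ^ n = 2 ^ 1 := by omega
    have hn : n = 1 := Nat.pow_right_injective (le_refl 2) h2n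
    subst hn
    exact ⟨e⟩

end Eight



def MX : Matrix (Fin 2) (Fin 2) (ZMod 3) := !![0, 1; 1, 1]
def MY : Matrix (Fin 2) (Fin 2) (ZMod 3) := !![1, 0; 1, 2]

/-- the property checked by brute force -/
def NormProp (a b c d : ZMod 3) (i : Fin 8) : Prop :=
  a * d - b * c ≠ 0 → !![a, b; c, d] * MX = MX ^ (i : ℕ) * !![a, b; c, d] →
    ((i = 1 ∧ ∃ j : Fin 8, !![a, b; c, d] = MX ^ (j : ℕ)) ∨
     (i = 3 ∧ ∃ j : Fin 8, !![a, b; c, d] = MY * MX ^ (j : ℕ)))

instance (a b c d : ZMod 3) (i : Fin 8) : Decidable (NormProp a b c d i) := by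
  unfold NormProp; infer_instance

set_option maxRecDepth 100000 in
theorem norm_entries : ∀ a b c d : ZMod 3, ∀ i : Fin 8, NormProp a b c d i := by
  decide +kernel

theorem norm_matrix (M : Matrix (Fin 2) (Fin 2) (ZMod 3)) (i : Fin 8) (hdet : M.det ≠ 0)
    (h : M * MX = MX ^ (i : ℕ) * M) :
    (i = 1 ∧ ∃ j : Fin 8, M = MX ^ (j : ℕ)) ∨ (i = 3 ∧ ∃ j : Fin 8, M = MY * MX ^ (j : ℕ)) := by
  have hM : M = !![M 0 0, M 0 1; M 1 0, M 1 1] := Matrix.eta_fin_two M
  have hd : M 0 0 * M 1 1 - M 0 1 * M 1 0 ≠ 0 := by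
    rw [← Matrix.det_fin_two]; exact hdet
  have := norm_entries (M 0 0) (M 0 1) (M 1 0) (M 1 1) i hd (by rw [← hM]; exact h)
  rw [← hM] at this
  exact this

abbrev Gam := GL (Fin 2) (ZMod 3)

def gX : Gam := ⟨MX, !![2, 1; 1, 0], by decide, by decide⟩
def gY : Gam := ⟨MY, MY, by decide, by decide⟩

theorem gX_pow4 : gX ^ 4 ≠ 1 := by
  intro h
  have := congrArg Units.val h
  rw [Units.val_pow_eq_pow_val] at this
  revert this
  decide

theorem gX_pow8 : gX ^ 8 = 1 := by
  apply Units.ext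
  rw [Units.val_pow_eq_pow_val]
  decide

theorem orderOf_gX : orderOf gX = 8 := by
  have := orderOf_eq_prime_pow (p := 2) (n := 2) (x := gX) (by simpa using gX_pow4)
    (by simpa using gX_pow8)
  simpa using this

theorem gY_sq : gY ^ 2 = 1 := by
  apply Units.ext
  rw [Units.val_pow_eq_pow_val]
  decide

theorem gY_ne : gY ≠ 1 := by
  intro h
  have := congrArg Units.val h
  revert this
  decide

theorem orderOf_gY : orderOf gY = 2 := orderOf_eq_prime gY_sq gY_ne

theorem gY_gX : gY * gX = gX ^ 3 * gY := by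
  apply Units.ext
  rw [Units.val_mul, Units.val_mul, Units.val_pow_eq_pow_val]
  decide


theorem sd16 (H : Subgroup Gam) (hcard : Nat.card H = 16) (hX : gX ∈ H) :
    Cfsg.IsQuasiDihedral H := by
  classical
  set x : H := ⟨gX, hX⟩ with hx
  have hox : orderOf x = 8 := by rw [← orderOf_gX]; exact Subgroup.orderOf_mk gX hX
  set C : Subgroup H := Subgroup.zpowers x with hC
  have hCcard : Nat.card C = 8 := by rw [Nat.card_zpowers, hox]
  have hidx : C.index = 2 := by
    have := C.card_mul_index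
    rw [hCcard, hcard] at this
    omega
  have hCn : C.Normal := Subgroup.normal_of_index_eq_two hidx
  have hne : C ≠ ⊤ := by
    intro h
    rw [h, Subgroup.card_top, hcard] at hCcard
    omega
  obtain ⟨y', -, hy'⟩ := SetLike.exists_of_lt (lt_top_iff_ne_top.mpr hne)
  have hconj : y' * x * y'⁻¹ ∈ C := hCn.conj_mem x (Subgroup.mem_zpowers x) y'
  obtain ⟨i, hi⟩ : ∃ i : Fin 8, y' * x * y'⁻¹ = x ^ (i : ℕ) := by
    rw [hC, mem_zpowers_iff_mem_range_orderOf, hox] at hconj
    simp only [Finset.mem_image, Finset.mem_range] at hconj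
    obtain ⟨k, hk, hk'⟩ := hconj
    exact ⟨⟨k, hk⟩, hk'.symm⟩
  have hcomm : y' * x = x ^ (i : ℕ) * y' := by rw [← hi]; group
  have hmat : ((y' : Gam) : Matrix (Fin 2) (Fin 2) (ZMod 3)) * MX =
      MX ^ (i : ℕ) * ((y' : Gam) : Matrix (Fin 2) (Fin 2) (ZMod 3)) := by
    have h1 := congrArg (fun z : H => ((z : Gam) : Matrix (Fin 2) (Fin 2) (ZMod 3))) hcomm
    simp only [Subgroup.coe_mul, Subgroup.coe_pow, Units.val_mul, Units.val_pow_eq_pow_val] at h1
    exact h1
  rcases norm_matrix _ i (Matrix.GeneralLinearGroup.det_ne_zero (y' : Gam)) hmat with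
    ⟨_, j, hj⟩ | ⟨hi3, j, hj⟩
  · exfalso
    apply hy'
    have : y' = x ^ (j : ℕ) := by
      apply Subtype.ext
      apply Units.ext
      rw [hj, Subgroup.coe_pow, Units.val_pow_eq_pow_val]
      rfl
    rw [this]
    exact Subgroup.pow_mem _ (Subgroup.mem_zpowers x) _
  · have hy'eq : (y' : Gam) = gY * gX ^ (j : ℕ) := by
      apply Units.ext
      rw [hj, Units.val_mul, Units.val_pow_eq_pow_val]
      rfl
    have hYmem : gY ∈ H := by
      have : gY = (y' : Gam) * (gX ^ (j : ℕ))⁻¹ := by rw [hy'eq]; group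
      rw [this]
      exact H.mul_mem y'.2 (H.inv_mem (H.pow_mem hX _))
    refine ⟨3, le_refl 3, by rw [hcard]; norm_num, x, ⟨gY, hYmem⟩, by rw [hox]; norm_num, ?_, ?_⟩
    · rw [Subgroup.orderOf_mk]; exact orderOf_gY
    · apply Subtype.ext
      rw [Subgroup.coe_mul, Subgroup.coe_mul, Subgroup.coe_inv, Subgroup.coe_pow]
      show gY * gX * gY⁻¹ = gX ^ (2 ^ (3 - 1) - 1)
      rw [gY_gX]
      group


theorem isQuasiDihedral_of_equiv {A B : Type*} [Group A] [Group B] (e : A ≃* B)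
    (h : Cfsg.IsQuasiDihedral A) : Cfsg.IsQuasiDihedral B := by
  obtain ⟨n, hn, hcard, x, y, hx, hy, hrel⟩ := h
  refine ⟨n, hn, by rw [← Nat.card_congr e.toEquiv, hcard], e x, e y, ?_, ?_, ?_⟩
  · rw [MulEquiv.orderOf_eq, hx]
  · rw [MulEquiv.orderOf_eq, hy]
  · rw [← map_inv, ← map_mul, ← map_mul, hrel, map_pow]

theorem card_Gam : Nat.card Gam = 48 := by
  rw [Matrix.card_GL_field, ZMod.card]
  decide

open Cfsg.Agent.Lib.helper8 Pointwise in
theorem case_16 {G : Type*} [Group G] [Finite G] (ψ : G →* Gam) (hψ : Function.Injective ψ)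
    (hcard : Nat.card G = 16) : Cfsg.IsQuasiDihedral G := by
  have : Fact (Nat.Prime 2) := ⟨Nat.prime_two⟩
  let e₁ : G ≃* ψ.range := MonoidHom.ofInjective hψ
  have hHcard : Nat.card ψ.range = 16 := by rw [← Nat.card_congr e₁.toEquiv, hcard]
  have hfac : (Nat.card Gam).factorization 2 = 4 :=
    h8_factorization_of_eq 2 4 3 _ Nat.prime_two (by rw [card_Gam]; norm_num) (by decide)
  let P : Sylow 2 Gam := Sylow.ofCard ψ.range (by rw [hHcard, hfac]; norm_num)
  have hpg : IsPGroup 2 (Subgroup.zpowers gX) := by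
    apply IsPGroup.of_card (n := 3)
    rw [Nat.card_zpowers, orderOf_gX]; norm_num
  obtain ⟨Q, hQ⟩ := hpg.exists_le_sylow
  obtain ⟨g, hg⟩ := MulAction.exists_smul_eq Gam P Q
  have hQeq : (Q : Subgroup Gam) = MulAut.conj g • ψ.range := by
    rw [← hg, Sylow.coe_subgroup_smul]; rfl
  have hXmem : gX ∈ MulAut.conj g • ψ.range := by
    rw [← hQeq]; exact hQ (Subgroup.mem_zpowers gX)
  let e₂ : ψ.range ≃* (MulAut.conj g • ψ.range : Subgroup Gam) :=
    Subgroup.equivSMul (MulAut.conj g) ψ.range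
  have hcard' : Nat.card (MulAut.conj g • ψ.range : Subgroup Gam) = 16 := by
    rw [← Nat.card_congr e₂.toEquiv, hHcard]
  have := sd16 _ hcard' hXmem
  exact isQuasiDihedral_of_equiv (e₁.trans e₂).symm this


section Main

/-- the linear automorphisms of a 2-dimensional space over `F_3` as matrices -/
noncomputable def toGam {V : Type*} [AddCommGroup V] [Module (ZMod 3) V] [Finite V]
    (hdim : Module.finrank (ZMod 3) V = 2) : (V ≃ₗ[ZMod 3] V) ≃* Gam :=
  (LinearMap.GeneralLinearGroup.generalLinearEquiv (ZMod 3) V).symm.trans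
    (Matrix.GeneralLinearGroup.toLin' (Module.finBasisOfFinrankEq (ZMod 3) V hdim)).symm

theorem case_three {V : Type*} [AddCommGroup V] [Module (ZMod 3) V] [Finite V]
    {G : Type*} [Group G] [Finite G] (ρ : G →* (V ≃ₗ[ZMod 3] V)) (hρ : Function.Injective ρ)
    (htrans : ∀ v w : V, v ≠ 0 → w ≠ 0 → ∃ g : G, ρ g v = w) (hG : IsPGroup 2 G)
    (hdim : Module.finrank (ZMod 3) V = 2) (hV : Nat.card V = 9) {v : V} (hv : v ≠ 0) :
    (IsCyclic G ∧ Nat.card G = 8) ∨ Nonempty (G ≃* QuaternionGroup 2) ∨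
      (Cfsg.IsQuasiDihedral G ∧ Nat.card G = 16) := by
  haveI : Fact (Nat.Prime 3) := ⟨Nat.prime_three⟩
  haveI : Fact (Nat.Prime 2) := ⟨Nat.prime_two⟩
  obtain ⟨S, hS, hcard⟩ := card_G ρ htrans hv
  rw [hV] at hcard
  let ψ : G →* Gam := (toGam hdim).toMonoidHom.comp ρ
  have hψ : Function.Injective ψ := (toGam hdim).injective.comp hρ
  have hdvd48 : Nat.card G ∣ 48 := by
    rw [← card_Gam, Nat.card_congr (MonoidHom.ofInjective hψ).toEquiv]
    exact Subgroup.card_subgroup_dvd_card _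
  obtain ⟨j, hj⟩ := IsPGroup.iff_card.mp (hG.to_subgroup S)
  rw [hj] at hcard
  have hj1 : j ≤ 1 := by
    by_contra hj2
    obtain ⟨j', rfl⟩ : ∃ j', j = j' + 2 := ⟨j - 2, by omega⟩
    rw [hcard, pow_add] at hdvd48
    have h32 : 32 ∣ 48 := Dvd.dvd.trans ⟨2 ^ j', by ring⟩ hdvd48
    omega
  interval_cases j
  · have hc8 : Nat.card G = 8 := by rw [hcard]; norm_num
    rcases case_8 ρ hρ htrans hG hc8 hV with h | h
    · exact Or.inl ⟨h, hc8⟩
    · exact Or.inr (Or.inl h)
  · have hc16 : Nat.card G = 16 := by rw [hcard]; norm_num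
    exact Or.inr (Or.inr ⟨case_16 ψ hψ hc16, hc16⟩)

end Main



/-- Let q be a prime, V a non-trivial finite vector space over the field with q elements, and G a non-trivial finite p-group (p prime) acting faithfully and linearly on V and transitively on the non-zero vectors. Then either q = 2 and G has prime order p = |V| − 1; or p = 2, V has q elements with q = 2^m + 1 and G is cyclic of order 2^m; or p = 2, q = 3, V has 9 elements and G is cyclic of order 8, quaternion of order 8, or semidihedral of order 16. -/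
theorem result (q : ℕ) [Fact q.Prime] {V : Type*} [AddCommGroup V] [Module (ZMod q) V] [Finite V] [Nontrivial V]
    {G : Type*} [Group G] [Finite G] [Nontrivial G] (p : ℕ) [Fact p.Prime] (hG : IsPGroup p G)
    (ρ : G →* (V ≃ₗ[ZMod q] V)) (hρ : Function.Injective ρ)
    (htrans : ∀ v w : V, v ≠ 0 → w ≠ 0 → ∃ g : G, ρ g v = w) :
    (q = 2 ∧ p = Nat.card V - 1 ∧ Nat.card G = p) ∨
    (p = 2 ∧ Nat.card V = q ∧ (∃ m : ℕ, q = 2 ^ m + 1 ∧ Nat.card G = 2 ^ m) ∧ IsCyclic G) ∨
    (p = 2 ∧ q = 3 ∧ Nat.card V = 9 ∧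
      ((IsCyclic G ∧ Nat.card G = 8) ∨ Nonempty (G ≃* QuaternionGroup 2) ∨ (Cfsg.IsQuasiDihedral G ∧ Nat.card G = 16))) := by
  have hq : q.Prime := Fact.out
  have hp : p.Prime := Fact.out
  obtain ⟨v, hv⟩ := exists_ne (0 : V)
  obtain ⟨S, hS, hcard⟩ := card_G ρ htrans hv
  have hV : Nat.card V = q ^ Module.finrank (ZMod q) V := by
    rw [Module.natCard_eq_pow_finrank (K := ZMod q) (V := V), Nat.card_zmod]
  have hn : 1 ≤ Module.finrank (ZMod q) V := Module.finrank_pos
  obtain ⟨k, hk⟩ := IsPGroup.iff_card.mp hG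
  have hq1 : 1 ≤ q ^ Module.finrank (ZMod q) V := Nat.one_le_pow _ _ hq.pos
  have hdvd : q ^ Module.finrank (ZMod q) V - 1 ∣ p ^ k := ⟨Nat.card S, by rw [← hk, hcard, hV]⟩
  obtain ⟨a, ha, hqa⟩ := (Nat.dvd_prime_pow hp).mp hdvd
  have ha1 : 1 ≤ a := by
    by_contra h0
    have ha0 : a = 0 := by omega
    rw [ha0, pow_zero] at hqa
    have hV2 : Nat.card V = 2 := by rw [hV]; omega
    obtain ⟨g, hg⟩ := exists_ne (1 : G)
    apply hg
    apply eq_one_of_fix ρ hρ
    intro w
    by_cases hw : w = 0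
    · rw [hw, map_zero]
    · obtain ⟨y, hy, huniq⟩ := (Nat.card_eq_two_iff' (0 : V)).mp hV2
      have h1 : ρ g w ≠ 0 := fun h => hw ((ρ g).map_eq_zero_iff.mp h)
      rw [huniq _ h1, huniq _ hw]
  rcases nt q _ p a hq hp hn ha1 hqa with ⟨hq2, ha1'⟩ | ⟨hp2, hn1⟩ | ⟨hp2, hq3, hn2, ha3⟩
  · left
    subst ha1'
    rw [pow_one] at hqa
    have hVp : Nat.card V = p + 1 := by rw [hV]; omega
    have hS1 := stab_trivial_two ρ hG hρ hVp hv S hS
    refine ⟨hq2, by rw [hVp]; omega, ?_⟩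
    rw [hcard, hS1, mul_one, hVp]; omega
  · right; left
    obtain ⟨hS1, hcyc⟩ := case_dim_one ρ hρ hn1 hv S hS
    have hVq : Nat.card V = q := by rw [hV, hn1, pow_one]
    rw [hn1, pow_one, hp2] at hqa
    refine ⟨hp2, hVq, ⟨a, by omega, ?_⟩, hcyc⟩
    rw [hcard, hS1, mul_one, hVq]; exact hqa
  · right; right
    subst hq3
    subst hp2
    have hV9 : Nat.card V = 9 := by rw [hV, hn2]; norm_num
    exact ⟨rfl, rfl, hV9, case_three ρ hρ htrans hG hn2 hV9 hv⟩

end Cfsg.Agent.S3370
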