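import Cfsg.Statements.S3371
import Mathlib
import Cfsg.Agent.S1160
import Cfsg.Agent.Lib.Helper22.HalfG
import Cfsg.Agent.Lib.Helper22.LinDLA

set_option autoImplicit false
open Cfsg

namespace Cfsg.Agent.S3371

open Cfsg.Agent.Lib.Helper22.HalfG

/-- Let q be a prime, V a non-trivial finite vector space over the field with q elements, and G a finite p-group (p prime) acting faithfully and linearly on V such that all G-orbits on the non-zero vectors have the same size. Then one of the following holds: G is cyclic or generalized quaternion and acts semiregularly on the non-zero vectors; or V has q² elements with q = 2^m − 1 and G is dihedral of order 2^(m+1) or semidihedral of order 2^(m+2); or V has q² elements with q = 2^m + 1 and, in suitable coordinates V = F_q², G is exactly the group of maps (x, y) ↦ (a x, ± a⁻¹ y) and (x, y) ↦ (± a⁻¹ y, a x) with a ≠ 0; or V has 81 elements (q = 3) and G is a 2-group. -/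
theorem result (q : ℕ) [Fact q.Prime] {V : Type*} [AddCommGroup V] [Module (ZMod q) V] [Finite V] [Nontrivial V]
    {G : Type*} [Group G] [Finite G] (p : ℕ) [Fact p.Prime] (hG : IsPGroup p G)
    (ρ : G →* (V ≃ₗ[ZMod q] V)) (hρ : Function.Injective ρ)
    (hhalf : ∀ v w : V, v ≠ 0 → w ≠ 0 → Nat.card {u : V | ∃ g : G, ρ g v = u} = Nat.card {u : V | ∃ g : G, ρ g w = u}) :
    ((IsCyclic G ∨ ∃ n : ℕ, Nonempty (G ≃* QuaternionGroup n)) ∧ ∀ v : V, v ≠ 0 → ∀ g : G, ρ g v = v → g = 1) ∨
    (Nat.card V = q ^ 2 ∧ ∃ m : ℕ, q = 2 ^ m - 1 ∧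
      (Nonempty (G ≃* DihedralGroup (2 ^ m)) ∨ (Cfsg.IsQuasiDihedral G ∧ Nat.card G = 2 ^ (m + 2)))) ∨
    (Nat.card V = q ^ 2 ∧ (∃ m : ℕ, q = 2 ^ m + 1) ∧
      ∃ e : V ≃ₗ[ZMod q] (Fin 2 → ZMod q), ∀ f : (Fin 2 → ZMod q) ≃ₗ[ZMod q] (Fin 2 → ZMod q),
        (∃ g : G, f = e.symm.trans ((ρ g).trans e)) ↔
        ∃ a s : ZMod q, a ≠ 0 ∧ (s = 1 ∨ s = -1) ∧
          ((∀ v, f v = ![a * v 0, s * a⁻¹ * v 1]) ∨ (∀ v, f v = ![s * a⁻¹ * v 1, a * v 0]))) ∨
    (Nat.card V = 81 ∧ q = 3 ∧ p = 2) := by
  classical
  let act : DistribMulAction G V := DistribMulAction.compHom V (ρ : G →* (V ≃ₗ[ZMod q] V))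
  have hsm : ∀ (g : G) (v : V), g • v = ρ g v := fun _ _ => rfl
  have : SMulCommClass G (ZMod q) V := ⟨fun g c v => by rw [hsm, hsm, map_smul]⟩
  have : FaithfulSMul G V := ⟨fun {g g'} h => hρ (LinearEquiv.ext h)⟩
  have hstab : ∀ v w : V, v ≠ 0 → w ≠ 0 →
      Nat.card (MulAction.stabilizer G v) = Nat.card (MulAction.stabilizer G w) :=
    fun v w hv hw => stab_card_of_orbit_card v w (hhalf v w hv hw)
  by_cases hp2 : p = 2
  swap
  · have hqp : q.Prime := Fact.out
    have hE : ∀ e : V, q • e = 0 := by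
      intro e
      rw [← Nat.cast_smul_eq_nsmul (ZMod q), ZMod.natCast_self, zero_smul]
    obtain ⟨hcyc, hfpf⟩ := Cfsg.Agent.S1160.result hp2 hG hqp hE hstab
    left
    refine ⟨Or.inl hcyc, ?_⟩
    intro v hv g hg
    by_contra hg1
    exact hv (hfpf g hg1 v hg)
  · subst hp2
    by_cases hq2 : q = 2
    · left
      have h0 : ((2 : ℕ) : ZMod q) = 0 := by
        rw [ZMod.natCast_eq_zero_iff, hq2]
      let r : Representation (ZMod q) G V := Representation.ofDistribMulAction (ZMod q) G V
      obtain ⟨w, hw0, hw⟩ := Cfsg.Agent.Lib.Helper22.LinDLA.exists_fixed_ne_zero 2 hG h0 r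
      have hall : ∀ g : G, g = 1 := by
        intro g
        apply FaithfulSMul.eq_of_smul_eq_smul (α := V)
        intro v
        rw [one_smul]
        by_cases hv : v = 0
        · rw [hv, smul_zero]
        · have h1 : MulAction.stabilizer G w = ⊤ := by
            rw [eq_top_iff]
            intro x _
            exact hw x
          have h2 : Nat.card (MulAction.stabilizer G v) = Nat.card G := by
            rw [hstab v w hv hw0, h1, Subgroup.card_top]
          have h3 : MulAction.stabilizer G v = ⊤ := (Subgroup.card_eq_iff_eq_top _).mp h2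
          have h4 : g ∈ MulAction.stabilizer G v := h3 ▸ Subgroup.mem_top g
          exact h4
      have : Subsingleton G := ⟨fun a b => (hall a).trans (hall b).symm⟩
      exact ⟨Or.inl isCyclic_of_subsingleton, fun v _ g _ => hall g⟩
    · rcases two_group_main q hq2 hG hstab with h | h | h | h
      · left
        exact h
      · right; left
        exact h
      · right; right; left
        obtain ⟨hV, hm, e0, e1, hspan, hind, hp1, hp2⟩ := h
        refine ⟨hV, hm, ?_⟩
        obtain ⟨e, he⟩ := exists_coord e0 e1 hspan hind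
        refine ⟨e, ?_⟩
        have hdiag : ∀ (g : G) (a b : ZMod q), g • e0 = a • e0 → g • e1 = b • e1 →
            ∀ v : Fin 2 → ZMod q, e (g • e.symm v) = ![a * v 0, b * v 1] := by
          intro g a b h0 h1 v
          apply e.symm.injective
          rw [e.symm_apply_apply, he, he, smul_add, smul_comm g, h0, smul_comm g, h1, smul_smul,
            smul_smul]
          simp [mul_comm]
        have hanti : ∀ (g : G) (a b : ZMod q), g • e0 = a • e1 → g • e1 = b • e0 →
            ∀ v : Fin 2 → ZMod q, e (g • e.symm v) = ![b * v 1, a * v 0] := by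
          intro g a b h0 h1 v
          apply e.symm.injective
          rw [e.symm_apply_apply, he, he, smul_add, smul_comm g, h0, smul_comm g, h1, smul_smul,
            smul_smul, add_comm]
          simp [mul_comm]
        intro f
        constructor
        · rintro ⟨g, rfl⟩
          obtain ⟨a, s, ha, hs, h | h⟩ := hp2 g
          · exact ⟨a, s, ha, hs, Or.inl (fun v => hdiag g a (s * a⁻¹) h.1 h.2 v)⟩
          · exact ⟨a, s, ha, hs, Or.inr (fun v => hanti g a (s * a⁻¹) h.1 h.2 v)⟩
        · rintro ⟨a, s, ha, hs, hf | hf⟩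
          · obtain ⟨⟨g, hg0, hg1⟩, _⟩ := hp1 a ha s hs
            refine ⟨g, LinearEquiv.ext (fun v => ?_)⟩
            rw [hf v]
            exact (hdiag g a _ hg0 hg1 v).symm
          · obtain ⟨_, ⟨g, hg0, hg1⟩⟩ := hp1 a ha s hs
            refine ⟨g, LinearEquiv.ext (fun v => ?_)⟩
            rw [hf v]
            exact (hanti g a _ hg0 hg1 v).symm
      · right; right; right
        exact ⟨h.1, h.2, rfl⟩

end Cfsg.Agent.S3371
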