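import Mathlib
import Cfsg.Statements.S3374
import Cfsg.Agent.Lib.Helper19.SL25Pres
import Cfsg.Agent.Lib.helper23.FrobSemi
-- import your own Cfsg.Agent.* helpers here

set_option autoImplicit false
open Cfsg

namespace Cfsg.Agent.S3374

open Cfsg.Agent.Lib.Helper19.SL25

theorem fact11 : Fact (Nat.Prime 11) := ⟨by norm_num⟩

attribute [local instance] fact11

abbrev S11 := Matrix.SpecialLinearGroup (Fin 2) (ZMod 11)

def bx : S11 := ⟨!![7, 1; 9, 3], by decide⟩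
def by' : S11 := ⟨!![3, 0; 0, 4], by decide⟩
def bz : S11 := ⟨!![10, 0; 0, 10], by decide⟩

def ggen : Fin 3 → S11 := ![bx, by', bz]

lemma hrel11 : ∀ r ∈ rels5, FreeGroup.lift ggen r = 1 := by
  intro r hr
  simp only [rels5, Set.mem_insert_iff, Set.mem_singleton_iff] at hr
  rcases hr with rfl | rfl | rfl | rfl | rfl | rfl
  · rw [map_pow, FreeGroup.lift_apply_of]; show bx ^ 3 = 1; decide
  · rw [map_pow, FreeGroup.lift_apply_of]; show by' ^ 5 = 1; decide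
  · rw [map_pow, FreeGroup.lift_apply_of]; show bz ^ 2 = 1; decide
  · simp only [map_mul, map_inv, FreeGroup.lift_apply_of]; show bz⁻¹ * bx * bz * bx⁻¹ = 1; decide
  · simp only [map_mul, map_inv, FreeGroup.lift_apply_of]; show bz⁻¹ * by' * bz * by'⁻¹ = 1; decide
  · simp only [map_mul, map_inv, map_pow, FreeGroup.lift_apply_of]
    show (bx * by') ^ 2 * bz⁻¹ = 1; decide

def g11 : P5 →* S11 := PresentedGroup.toGroup hrel11

lemma g11X : g11 X = bx := PresentedGroup.toGroup.of hrel11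
lemma g11Y : g11 Y = by' := PresentedGroup.toGroup.of hrel11
lemma g11Z : g11 Z = bz := PresentedGroup.toGroup.of hrel11

abbrev Q4 := ZMod 11 × ZMod 11 × ZMod 11 × ZMod 11

def toM (q : Q4) : Matrix (Fin 2) (Fin 2) (ZMod 11) := !![q.1, q.2.1; q.2.2.1, q.2.2.2]

def mulQ (q r : Q4) : Q4 :=
  (q.1 * r.1 + q.2.1 * r.2.2.1, q.1 * r.2.1 + q.2.1 * r.2.2.2,
    q.2.2.1 * r.1 + q.2.2.2 * r.2.2.1, q.2.2.1 * r.2.1 + q.2.2.2 * r.2.2.2)

lemma toM_mul (q r : Q4) : toM q * toM r = toM (mulQ q r) := by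
  simp only [toM, mulQ, Matrix.mul_fin_two]

def t : Fin 120 → Q4 := ![(1, 0, 0, 1), (7, 1, 9, 3), (3, 0, 0, 4), (10, 0, 0, 10), (3, 10, 2, 7), (10, 4, 5, 1), (4, 10, 2, 8), (10, 3, 3, 1), (9, 0, 0, 5), (8, 0, 0, 7), (9, 7, 6, 6), (8, 1, 9, 4), (7, 0, 0, 8), (8, 5, 4, 4), (1, 7, 6, 10), (9, 8, 8, 6), (1, 8, 8, 10), (8, 9, 1, 4), (5, 0, 0, 9), (2, 0, 0, 6), (5, 8, 8, 2), (5, 6, 7, 2), (2, 4, 5, 5), (5, 7, 6, 2), (4, 0, 0, 3), (2, 1, 9, 5), (2, 9, 1, 5), (3, 6, 7, 7), (5, 10, 2, 2), (2, 3, 3, 5), (5, 2, 10, 2), (3, 2, 10, 7), (2, 5, 4, 5), (6, 0, 0, 2), (8, 7, 8, 3), (6, 3, 3, 9), (1, 1, 1, 2), (4, 2, 10, 8), (6, 5, 4, 9), (4, 6, 7, 8), (6, 4, 5, 9), (1, 5, 9, 2), (9, 10, 2, 6), (7, 7, 8, 5), (9, 2, 10, 6), (4, 7, 6, 8), (6, 1, 9, 9), (4, 8, 8, 8), (6, 9, 1, 9), (9, 6, 7, 6), (2, 6, 2, 1), (3, 4, 3, 8), (5, 4, 3, 7), (10, 10, 10, 9), (2, 10, 10, 1), (7, 9, 1, 3), (1, 2, 10, 10), (7, 5, 4, 3), (3,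 9, 5, 8), (10, 6, 2, 9), (4, 4, 3, 6), (3, 3, 4, 8), (1, 6, 7, 10), (7, 4, 5, 3), (1, 10, 2, 10), (7, 3, 3, 3), (6, 2, 6, 4), (9, 5, 9, 10), (4, 5, 9, 6), (6, 7, 8, 4), (9, 1, 1, 10), (3, 7, 6, 7), (3, 8, 8, 7), (10, 9, 1, 1), (9, 3, 4, 10), (8, 2, 6, 3), (4, 1, 1, 6), (8, 8, 7, 3), (6, 8, 7, 4), (10, 5, 4, 1), (9, 9, 5, 10), (10, 1, 9, 1), (5, 1, 1, 7), (7, 8, 7, 5), (5, 9, 5, 7), (1, 9, 5, 2), (7, 6, 2, 5), (7, 2, 6, 5), (8, 4, 5, 4), (5, 5, 9, 7), (8, 3, 3, 4), (2, 7, 8, 1), (2, 8, 7, 1), (1, 4, 3, 2), (7, 10, 10, 5), (5, 3, 4, 7), (1, 3, 4, 2), (2, 2, 6, 1), (0, 8, 4, 0), (6, 10, 10, 4), (0, 9, 6, 0), (4, 3, 4, 6), (0, 6, 9, 0), (10, 2, 6, 9), (10, 8, 7, 9), (4, 9, 5, 6), (6, 6, 2, 4), (0, 1, 10, 0), (9, 4, 3, 10), (3, 5, 9, 8), (10, 7, 8, 9), (3, 1, 1, 8), (0, 10, 1, 0), (0, 3, 7, 0), (0, 2, 5, 0), (0, 5, 2, 0), (8, 10, 10, 3), (0, 4, 8, 0), (0, 7, 3, 0), (8, 6, 2, 3)]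

set_option maxRecDepth 100000 in
lemma tX : ∀ c : Fin 120, t (nX c) = mulQ (t c) (7, 1, 9, 3) := by decide +kernel

set_option maxRecDepth 100000 in
lemma tY : ∀ c : Fin 120, t (nY c) = mulQ (t c) (3, 0, 0, 4) := by decide +kernel

set_option maxRecDepth 100000 in
lemma tZ : ∀ c : Fin 120, t (nZ c) = mulQ (t c) (10, 0, 0, 10) := by decide +kernel

set_option maxRecDepth 100000 in
lemma ttr : ∀ c : Fin 120, c ≠ 0 → (t c).1 + (t c).2.2.2 ≠ 2 := by decide +kernel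

lemma table (p : P5) : ∃ c : Fin 120, p = w c ∧
    ((g11 p : S11) : Matrix (Fin 2) (Fin 2) (ZMod 11)) = toM (t c) := by
  induction p using right_induction with
  | h1 =>
    refine ⟨0, rfl, ?_⟩
    rw [map_one]
    show (1 : Matrix (Fin 2) (Fin 2) (ZMod 11)) = toM (1, 0, 0, 1)
    rw [toM, Matrix.one_fin_two]
  | hX p ih =>
    obtain ⟨c, hc, hm⟩ := ih
    refine ⟨nX c, by rw [hc, stepX], ?_⟩
    have e : ((g11 (p * X) : S11) : Matrix (Fin 2) (Fin 2) (ZMod 11)) =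
        ((g11 p : S11) : Matrix (Fin 2) (Fin 2) (ZMod 11)) * toM (7, 1, 9, 3) := by
      rw [map_mul, g11X, Matrix.SpecialLinearGroup.coe_mul]; rfl
    calc ((g11 (p * X) : S11) : Matrix (Fin 2) (Fin 2) (ZMod 11))
        = ((g11 p : S11) : Matrix (Fin 2) (Fin 2) (ZMod 11)) * toM (7, 1, 9, 3) := e
      _ = toM (t c) * toM (7, 1, 9, 3) := by rw [hm]
      _ = toM (mulQ (t c) (7, 1, 9, 3)) := toM_mul _ _
      _ = toM (t (nX c)) := congrArg toM (tX c).symm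
  | hY p ih =>
    obtain ⟨c, hc, hm⟩ := ih
    refine ⟨nY c, by rw [hc, stepY], ?_⟩
    have e : ((g11 (p * Y) : S11) : Matrix (Fin 2) (Fin 2) (ZMod 11)) =
        ((g11 p : S11) : Matrix (Fin 2) (Fin 2) (ZMod 11)) * toM (3, 0, 0, 4) := by
      rw [map_mul, g11Y, Matrix.SpecialLinearGroup.coe_mul]; rfl
    calc ((g11 (p * Y) : S11) : Matrix (Fin 2) (Fin 2) (ZMod 11))
        = ((g11 p : S11) : Matrix (Fin 2) (Fin 2) (ZMod 11)) * toM (3, 0, 0, 4) := e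
      _ = toM (t c) * toM (3, 0, 0, 4) := by rw [hm]
      _ = toM (mulQ (t c) (3, 0, 0, 4)) := toM_mul _ _
      _ = toM (t (nY c)) := congrArg toM (tY c).symm
  | hZ p ih =>
    obtain ⟨c, hc, hm⟩ := ih
    refine ⟨nZ c, by rw [hc, stepZ], ?_⟩
    have e : ((g11 (p * Z) : S11) : Matrix (Fin 2) (Fin 2) (ZMod 11)) =
        ((g11 p : S11) : Matrix (Fin 2) (Fin 2) (ZMod 11)) * toM (10, 0, 0, 10) := by
      rw [map_mul, g11Z, Matrix.SpecialLinearGroup.coe_mul]; rfl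
    calc ((g11 (p * Z) : S11) : Matrix (Fin 2) (Fin 2) (ZMod 11))
        = ((g11 p : S11) : Matrix (Fin 2) (Fin 2) (ZMod 11)) * toM (10, 0, 0, 10) := e
      _ = toM (t c) * toM (10, 0, 0, 10) := by rw [hm]
      _ = toM (mulQ (t c) (10, 0, 0, 10)) := toM_mul _ _
      _ = toM (t (nZ c)) := congrArg toM (tZ c).symm

lemma fix_zero (q : Q4) (hdet : q.1 * q.2.2.2 - q.2.1 * q.2.2.1 = 1) (htr : q.1 + q.2.2.2 ≠ 2)
    (v : Fin 2 → ZMod 11) (hv : (toM q).mulVec v = v) : v = 0 := by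
  obtain ⟨a, b, c, d⟩ := q
  simp only at hdet htr
  have h0 := congrFun hv 0
  have h1 := congrFun hv 1
  simp only [toM, Matrix.mulVec, dotProduct, Fin.sum_univ_two, Matrix.of_apply, Matrix.cons_val_zero,
    Matrix.cons_val_one] at h0 h1
  have hk : (2 : ZMod 11) - a - d ≠ 0 := by
    intro h
    apply htr
    linear_combination -h
  have e0 : ((2 : ZMod 11) - a - d) * v 0 = 0 := by
    linear_combination (d - 1) * h0 - b * h1 - (v 0) * hdet
  have e1 : ((2 : ZMod 11) - a - d) * v 1 = 0 := by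
    linear_combination (a - 1) * h1 - c * h0 - (v 1) * hdet
  have hv0 : v 0 = 0 := (mul_eq_zero.mp e0).resolve_left hk
  have hv1 : v 1 = 0 := (mul_eq_zero.mp e1).resolve_left hk
  ext i
  fin_cases i
  · exact hv0
  · exact hv1

/-- the action on `(ZMod 11)²` -/
def act : S11 →* MulAut (Multiplicative (Fin 2 → ZMod 11)) where
  toFun A := AddEquiv.toMultiplicative (Matrix.SpecialLinearGroup.toLin' A).toAddEquiv
  map_one' := by
    ext v
    simp
  map_mul' A B := by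
    ext v
    simp


/-- SL(2,5) occurs as a Frobenius complement: there is a finite group L with a subgroup H isomorphic to SL(2,5) which is a non-trivial proper subgroup meeting each conjugate gHg⁻¹ with g outside H trivially. -/
theorem result :
    ∃ (L : Type) (_ : Group L) (_ : Finite L) (H : Subgroup L),
      Cfsg.IsFrobeniusComplement H ∧ Nonempty (H ≃* Matrix.SpecialLinearGroup (Fin 2) (ZMod 5)) := by
  set φ : P5 →* MulAut (Multiplicative (Fin 2 → ZMod 11)) := act.comp g11 with hφ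
  have hfree : ∀ h : P5, h ≠ 1 → ∀ n : Multiplicative (Fin 2 → ZMod 11), φ h n = n → n = 1 := by
    intro h hh n hn
    obtain ⟨c, hc, hm⟩ := table h
    have hc0 : c ≠ 0 := by
      rintro rfl
      exact hh hc
    have hdet : (t c).1 * (t c).2.2.2 - (t c).2.1 * (t c).2.2.1 = 1 := by
      have h1 := (g11 h).2
      rw [hm, toM, Matrix.det_fin_two_of] at h1
      exact h1
    have hv : (toM (t c)).mulVec (Multiplicative.toAdd n) = Multiplicative.toAdd n := by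
      rw [← hm]
      have h1 : (Matrix.SpecialLinearGroup.toLin' (g11 h)) (Multiplicative.toAdd n) =
          Multiplicative.toAdd n := by
        have h2 := congrArg Multiplicative.toAdd hn
        simpa [hφ, act] using h2
      rw [Matrix.SpecialLinearGroup.toLin'_apply, Matrix.toLin'_apply] at h1
      exact h1
    have h0 := fix_zero (t c) hdet (ttr c hc0) _ hv
    exact Multiplicative.toAdd.injective h0
  have hnt : Nontrivial P5 := by
    rw [← Finite.one_lt_card_iff_nontrivial, card_P5]; norm_num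
  have hF := Cfsg.Agent.Lib.helper23.isFrobeniusComplement_range_inr φ hfree
  have hfin : Finite (Multiplicative (Fin 2 → ZMod 11) ⋊[φ] P5) :=
    Finite.of_equiv _ SemidirectProduct.equivProd.symm
  refine ⟨_, inferInstance, hfin, _, hF, ⟨?_⟩⟩
  exact ((MonoidHom.ofInjective SemidirectProduct.inr_injective).symm).trans iso5

end Cfsg.Agent.S3374
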