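import Mathlib
import Cfsg.Statements.S3375
-- import your own Cfsg.Agent.* helpers here

set_option autoImplicit false
open Cfsg

namespace Cfsg.Agent.S3375

section aux

variable {H : Type*} [Group H]

/-- The subgroup of fixed points of an automorphism. -/
def fixSub (γ : MulAut H) : Subgroup H where
  carrier := {h | γ h = h}
  one_mem' := map_one γ
  mul_mem' := fun {a b} ha hb => by
    show γ (a * b) = a * b
    rw [map_mul, ha, hb]
  inv_mem' := fun {a} ha => by
    show γ a⁻¹ = a⁻¹
    rw [map_inv, ha]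

theorem mem_fixSub (γ : MulAut H) (h : H) : h ∈ fixSub γ ↔ γ h = h := Iff.rfl

theorem inverted_of_form (γ : MulAut H) (hγγ : ∀ h, γ (γ h) = h) (h : H) :
    γ (h * (γ h)⁻¹) = (h * (γ h)⁻¹)⁻¹ := by
  rw [map_mul, map_inv, hγγ, mul_inv_rev, inv_inv]

theorem comm_of_inverted (γ : MulAut H) (A : Subgroup H) (hinv : ∀ a ∈ A, γ a = a⁻¹) :
    ∀ a ∈ A, ∀ b ∈ A, a * b = b * a := by
  intro a ha b hb
  have h1 : γ (a * b) = (a * b)⁻¹ := hinv _ (A.mul_mem ha hb)
  rw [map_mul, hinv a ha, hinv b hb, mul_inv_rev] at h1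
  have h2 : (a⁻¹ * b⁻¹)⁻¹ = (b⁻¹ * a⁻¹)⁻¹ := congrArg _ h1
  simpa using h2.symm

/-- If `γ² = 1`, `A` is a `γ`-invariant subgroup of index two and `γ` has exactly two fixed points,
then `γ` inverts `A`. -/
theorem inverted_of_index_two [Finite H] (γ : MulAut H) (hγγ : ∀ h, γ (γ h) = h)
    (hfix : Nat.card (fixSub γ) = 2) (A : Subgroup H) (hA : A.index = 2) (hAγ : ∀ a ∈ A, γ a ∈ A) :
    ∀ a ∈ A, γ a = a⁻¹ := by
  have hmemA : ∀ h : H, h * (γ h)⁻¹ ∈ A := by
    intro h
    rw [Subgroup.mul_mem_iff_of_index_two hA, inv_mem_iff]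
    constructor
    · exact hAγ h
    · intro hh
      have := hAγ _ hh
      rwa [hγγ] at this
  -- the induced map on cosets of the fixed subgroup
  let f : H ⧸ fixSub γ → A := Quotient.lift (fun h => (⟨h * (γ h)⁻¹, hmemA h⟩ : A)) (by
    intro h k hk
    have hk' : h⁻¹ * k ∈ fixSub γ := QuotientGroup.leftRel_apply.mp hk
    rw [mem_fixSub, map_mul, map_inv] at hk'
    apply Subtype.ext
    show h * (γ h)⁻¹ = k * (γ k)⁻¹
    have e : γ k = γ h * (h⁻¹ * k) := by
      rw [← hk']; group
    rw [e]; group)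
  have hf : Function.Injective f := by
    intro q₁ q₂
    induction q₁ using Quotient.inductionOn with
    | _ h =>
    induction q₂ using Quotient.inductionOn with
    | _ k =>
    intro hfk
    have h1 : h * (γ h)⁻¹ = k * (γ k)⁻¹ := congrArg Subtype.val hfk
    apply Quotient.sound
    apply QuotientGroup.leftRel_apply.mpr
    rw [mem_fixSub, map_mul, map_inv]
    have e : (γ h)⁻¹ = h⁻¹ * (k * (γ k)⁻¹) := by rw [← h1]; group
    rw [e]; group
  have hcard : Nat.card (H ⧸ fixSub γ) = Nat.card A := by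
    have h1 := Subgroup.card_mul_index (fixSub γ)
    have h2 := Subgroup.card_mul_index A
    rw [hfix] at h1
    rw [hA] at h2
    have : (fixSub γ).index = Nat.card (H ⧸ fixSub γ) := rfl
    omega
  have hbij : Function.Bijective f := (Nat.bijective_iff_injective_and_card f).mpr ⟨hf, hcard⟩
  intro a ha
  obtain ⟨q, hq⟩ := hbij.2 ⟨a, ha⟩
  induction q using Quotient.inductionOn with
  | _ h =>
  have : h * (γ h)⁻¹ = a := congrArg Subtype.val hq
  rw [← this]
  exact inverted_of_form γ hγγ h

end aux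

/-- Let γ be an automorphism of order 2 of a finite group H. (i) If γ fixes only the identity, then H is abelian and γ inverts every element. (ii) If γ has exactly two fixed points and H has a subgroup of index 2, then H has a γ-invariant abelian subgroup of index 2 on which γ acts by inversion. -/
theorem result {H : Type*} [Group H] [Finite H] (γ : MulAut H) (hγ : orderOf γ = 2) :
    ((∀ h : H, γ h = h → h = 1) → (∀ a b : H, a * b = b * a) ∧ ∀ h : H, γ h = h⁻¹) ∧
    ((Nat.card {h : H // γ h = h} = 2 ∧ ∃ M : Subgroup H, M.index = 2) →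
      ∃ A : Subgroup H, A.index = 2 ∧ IsMulCommutative A ∧ (∀ a ∈ A, γ a ∈ A) ∧ ∀ a ∈ A, γ a = a⁻¹) := by
  have hγ2 : γ ^ 2 = 1 := by rw [← hγ]; exact pow_orderOf_eq_one γ
  have hγγ : ∀ h, γ (γ h) = h := by
    intro h
    have := congrArg (fun φ : MulAut H => φ h) hγ2
    simpa [pow_two] using this
  refine ⟨?_, ?_⟩
  · intro hfpf
    have hinj : Function.Injective (fun h : H => h * (γ h)⁻¹) := by
      intro h k hk
      have hk' : h * (γ h)⁻¹ = k * (γ k)⁻¹ := hk
      have h1 : γ (k⁻¹ * h) = k⁻¹ * h := by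
        rw [map_mul, map_inv]
        have e : (γ h) = (γ k) * (k⁻¹ * h) := by
          have : (γ h)⁻¹ = h⁻¹ * (k * (γ k)⁻¹) := by rw [← hk']; group
          calc γ h = ((γ h)⁻¹)⁻¹ := (inv_inv _).symm
            _ = (h⁻¹ * (k * (γ k)⁻¹))⁻¹ := by rw [this]
            _ = γ k * (k⁻¹ * h) := by group
        rw [e]; group
      have h2 := hfpf _ h1
      calc h = k * (k⁻¹ * h) := by group
        _ = k := by rw [h2, mul_one]
    have hsurj := Finite.surjective_of_injective hinj
    have hinv : ∀ h : H, γ h = h⁻¹ := by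
      intro a
      obtain ⟨h, rfl⟩ := hsurj a
      exact inverted_of_form γ hγγ h
    refine ⟨?_, hinv⟩
    intro a b
    exact comm_of_inverted γ ⊤ (fun a _ => hinv a) a (Subgroup.mem_top a) b (Subgroup.mem_top b)
  · rintro ⟨hfix, M, hM⟩
    have hfix' : Nat.card (fixSub γ) = 2 := hfix
    -- a γ-invariant subgroup of index two
    obtain ⟨A, hA, hAγ⟩ : ∃ A : Subgroup H, A.index = 2 ∧ ∀ a ∈ A, γ a ∈ A := by
      by_cases hMγ : ∀ h ∈ M, γ h ∈ M
      · exact ⟨M, hM, hMγ⟩
      · have hmul := fun a b => Subgroup.mul_mem_iff_of_index_two hM (a := a) (b := b)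
        let A : Subgroup H :=
          { carrier := {h | h ∈ M ↔ γ h ∈ M}
            one_mem' := by
              show (1 : H) ∈ M ↔ γ 1 ∈ M
              rw [map_one]
            mul_mem' := fun {a b} ha hb => by
              show a * b ∈ M ↔ γ (a * b) ∈ M
              have ha' : a ∈ M ↔ γ a ∈ M := ha
              have hb' : b ∈ M ↔ γ b ∈ M := hb
              rw [map_mul, hmul, hmul, ha', hb']
            inv_mem' := fun {a} ha => by
              show a⁻¹ ∈ M ↔ γ a⁻¹ ∈ M
              have ha' : a ∈ M ↔ γ a ∈ M := ha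
              rw [map_inv, inv_mem_iff, inv_mem_iff, ha'] }
        have hmemA : ∀ h, h ∈ A ↔ (h ∈ M ↔ γ h ∈ M) := fun h => Iff.rfl
        refine ⟨A, ?_, ?_⟩
        · rw [Subgroup.index_eq_two_iff]
          have hex : ∃ a : H, a ∈ M ∧ γ a ∉ M := by
            by_contra hne
            apply hMγ
            intro h hh
            by_contra hn
            exact hne ⟨h, hh, hn⟩
          obtain ⟨a, haM, hγa⟩ := hex
          refine ⟨a, fun b => ?_⟩
          rw [hmemA, hmemA, map_mul, hmul, hmul]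
          by_cases h1 : b ∈ M <;> by_cases h2 : γ b ∈ M <;> simp [h1, h2, haM, hγa, Xor']
        · intro a ha
          rw [hmemA] at ha ⊢
          rw [hγγ]
          exact ha.symm
    have hinv := inverted_of_index_two γ hγγ hfix' A hA hAγ
    refine ⟨A, hA, ?_, hAγ, hinv⟩
    rw [isMulCommutative_iff]
    intro a b
    apply Subtype.ext
    exact comm_of_inverted γ A hinv a a.2 b b.2

end Cfsg.Agent.S3375
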