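import Cfsg.Statements.S3380
import Mathlib
import Cfsg.Agent.Lib.Helper22.ImprimA
import Cfsg.Agent.Lib.Helper22.ImprimB
import Cfsg.Agent.Lib.Helper22.LinDLA

set_option autoImplicit false
open Cfsg

namespace Cfsg.Agent.S3380

/-- Let a finite p-group G act faithfully and irreducibly on a non-trivial finite vector space V over the field with q elements (q prime), and suppose G is not cyclic, generalized quaternion, dihedral or semidihedral. Then G has a subgroup H of index p and V is the direct sum of p subspaces, each invariant under H, on none of which H acts faithfully, and which every element of G outside H permutes in a single p-cycle. -/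
theorem result
    (q : ℕ) [Fact q.Prime] {V : Type*} [AddCommGroup V] [Module (ZMod q) V] [Finite V] [Nontrivial V]
    {G : Type*} [Group G] [Finite G] (p : ℕ) [Fact p.Prime] (hG : IsPGroup p G)
    (ρ : G →* (V ≃ₗ[ZMod q] V)) (hρ : Function.Injective ρ)
    (hirr : ∀ W : Submodule (ZMod q) V, (∀ g : G, ∀ w ∈ W, ρ g w ∈ W) → W = ⊥ ∨ W = ⊤)
    (hnc : ¬ IsCyclic G) (hnq : ∀ n : ℕ, ¬ Nonempty (G ≃* QuaternionGroup n))
    (hnd : ∀ n : ℕ, ¬ Nonempty (G ≃* DihedralGroup n)) (hnsd : ¬ Cfsg.IsQuasiDihedral G) :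
    ∃ (H : Subgroup G) (W : Fin p → Submodule (ZMod q) V), H.index = p ∧
      iSup W = ⊤ ∧ iSupIndep W ∧
      (∀ h ∈ H, ∀ i, ∀ w ∈ W i, ρ h w ∈ W i) ∧
      (∀ i, ∃ h ∈ H, h ≠ 1 ∧ ∀ w ∈ W i, ρ h w = w) ∧
      ∀ g : G, g ∉ H → ∃ σ : Equiv.Perm (Fin p), orderOf σ = p ∧ ∀ i, (W i).map (ρ g : V →ₗ[ZMod q] V) = W (σ i) := by
  classical
  have hp : p.Prime := Fact.out
  -- the representation
  let r : Representation (ZMod q) G V :=
    { toFun := fun g => (ρ g : V →ₗ[ZMod q] V)
      map_one' := by rw [map_one]; rfl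
      map_mul' := fun g h => by rw [map_mul]; rfl }
  have hr : ∀ g v, r g v = ρ g v := fun _ _ => rfl
  have hfaith : ∀ g, r g = 1 → g = 1 := by
    intro g hg
    apply hρ
    rw [map_one]
    ext v
    have := LinearMap.congr_fun hg v
    rw [hr] at this
    simpa using this
  have hirr' : ∀ W : Submodule (ZMod q) V, (∀ g, ∀ w ∈ W, r g w ∈ W) → W = ⊥ ∨ W = ⊤ :=
    fun W hW => hirr W hW
  -- p ≠ q
  have hpq : ((p : ℕ) : ZMod q) ≠ 0 := by
    intro h0
    obtain ⟨w, hw0, hw⟩ := Cfsg.Agent.Lib.Helper22.LinDLA.exists_fixed_ne_zero p hG h0 r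
    apply hnc
    -- the fixed space is everything
    let F : Submodule (ZMod q) V :=
      { carrier := {v | ∀ g, r g v = v}
        add_mem' := fun {a b} ha hb g => by rw [map_add, ha g, hb g]
        zero_mem' := fun g => map_zero _
        smul_mem' := fun c v hv g => by rw [map_smul, hv g] }
    have hF : ∀ v, v ∈ F ↔ ∀ g, r g v = v := fun v => Iff.rfl
    have hFinv : ∀ g, ∀ v ∈ F, r g v ∈ F := by
      intro g v hv
      rw [(hF v).mp hv g]
      exact hv
    rcases hirr' F hFinv with h | h
    · exfalso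
      have : w ∈ F := (hF w).mpr hw
      rw [h, Submodule.mem_bot] at this
      exact hw0 this
    · have hall : ∀ g : G, g = 1 := by
        intro g
        apply hfaith
        ext v
        have : v ∈ F := h ▸ Submodule.mem_top
        simpa using (hF v).mp this g
      have : Subsingleton G := ⟨fun a b => (hall a).trans (hall b).symm⟩
      exact isCyclic_of_subsingleton
  obtain ⟨A1, b, hA1, hA1c, hb, hbA, hcomm⟩ :=
    Cfsg.Agent.Lib.Helper22.ImprimB.exists_A1_b p hG hnc hnq hnd hnsd
  obtain ⟨H, c, W, hidx, hsup, hind, hinv, hunf, hcne, hmap⟩ :=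
    Cfsg.Agent.Lib.Helper22.ImprimA.imprim r p hpq hfaith hirr' A1 hA1 hA1c b hb hbA hcomm
  have hfin : Finite A1 := inferInstance
  let e : A1 ≃ Fin p := Finite.equivFinOfCardEq hA1
  refine ⟨H, fun i => W (e.symm i), hidx, ?_, ?_, ?_, ?_, ?_⟩
  · exact (Equiv.iSup_comp (g := W) e.symm).trans hsup
  · exact hind.comp e.symm.injective
  · intro h hh i w hw
    exact hinv h hh (e.symm i) w hw
  · intro i
    obtain ⟨h, hh, h1, h2⟩ := hunf (e.symm i)
    exact ⟨h, hh, h1, fun w hw => h2 w hw⟩
  · intro g hg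
    have hcg := hcne g hg
    let σ : Equiv.Perm (Fin p) := e.symm.trans ((Equiv.mulLeft (c g)).trans e)
    have hσ : ∀ i, σ i = e (c g * e.symm i) := fun i => rfl
    have hσpow : ∀ (n : ℕ) (i : Fin p), (σ ^ n) i = e ((c g) ^ n * e.symm i) := by
      intro n
      induction n with
      | zero => intro i; simp
      | succ n ih =>
        intro i
        rw [pow_succ', Equiv.Perm.mul_apply, ih, hσ, Equiv.symm_apply_apply, ← mul_assoc,
          ← pow_succ']
    refine ⟨σ, ?_, ?_⟩
    · apply orderOf_eq_prime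
      · ext i
        rw [hσpow]
        have h1 : (c g) ^ Nat.card A1 = 1 := pow_card_eq_one'
        rw [hA1] at h1
        rw [h1, one_mul, Equiv.apply_symm_apply, Equiv.Perm.one_apply]
      · intro h1
        have h2 := Equiv.ext_iff.mp h1 (e 1)
        rw [hσ, Equiv.symm_apply_apply, mul_one, Equiv.Perm.one_apply] at h2
        exact hcg (e.injective h2)
    · intro i
      have := hmap g (e.symm i)
      show Submodule.map (r g) (W (e.symm i)) = W (e.symm (σ i))
      rw [hσ, Equiv.symm_apply_apply]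
      exact this

end Cfsg.Agent.S3380
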