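import Mathlib
import Cfsg.Statements.S3381
-- import your own Cfsg.Agent.* helpers here

set_option autoImplicit false
open Cfsg

namespace Cfsg.Agent.S3381


section helpers

variable {q : ℕ} [Fact q.Prime] {V : Type*} [AddCommGroup V] [Module (ZMod q) V]
  {G : Type*} [Group G]

/-- the fixed space of `ρ g` -/
def fixSub (ρ : G →* (V ≃ₗ[ZMod q] V)) (g : G) : Submodule (ZMod q) V where
  carrier := {v | ρ g v = v}
  add_mem' := by
    intro a b ha hb
    show ρ g (a + b) = a + b
    rw [map_add, ha, hb]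
  zero_mem' := map_zero _
  smul_mem' := by
    intro c v hv
    show ρ g (c • v) = c • v
    rw [map_smul, hv]

theorem mem_fixSub (ρ : G →* (V ≃ₗ[ZMod q] V)) (g : G) (v : V) :
    v ∈ fixSub ρ g ↔ ρ g v = v := Iff.rfl

/-- structure of the stabilizers -/
theorem stab_structure (ρ : G →* (V ≃ₗ[ZMod q] V))
    (hstab : ∀ v : V, v ≠ 0 → Nat.card {g : G // ρ g v = v} = 2) (v : V) (hv : v ≠ 0) :
    ∃ t : G, t ≠ 1 ∧ t * t = 1 ∧ ρ t v = v ∧ ∀ g : G, ρ g v = v → g = 1 ∨ g = t := by
  have h2 := hstab v hv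
  have h1 : ρ (1 : G) v = v := by rw [map_one]; rfl
  rw [Nat.card_eq_two_iff' (⟨1, h1⟩ : {g : G // ρ g v = v})] at h2
  obtain ⟨⟨t, ht⟩, htne, htuniq⟩ := h2
  have ht1 : t ≠ 1 := fun h => htne (Subtype.ext h)
  have hall : ∀ g : G, ρ g v = v → g = 1 ∨ g = t := by
    intro g hg
    by_cases h : g = 1
    · exact Or.inl h
    · right
      have := htuniq ⟨g, hg⟩ (fun h' => h (congrArg Subtype.val h'))
      exact congrArg Subtype.val this
  refine ⟨t, ht1, ?_, ht, hall⟩
  have htt : ρ (t * t) v = v := by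
    rw [map_mul]
    show ρ t (ρ t v) = v
    rw [ht, ht]
  rcases hall _ htt with h | h
  · exact h
  · exfalso
    apply ht1
    have : t * t = t * 1 := by rw [mul_one]; exact h
    exact mul_left_cancel this


theorem apply_apply_of_sq (ρ : G →* (V ≃ₗ[ZMod q] V)) (t : G) (ht : t * t = 1) (v : V) :
    ρ t (ρ t v) = v := by
  have : ρ (t * t) v = v := by rw [ht, map_one]; rfl
  rw [map_mul] at this
  exact this

theorem comm_of_central (ρ : G →* (V ≃ₗ[ZMod q] V)) (c : G) (hc : c ∈ Subgroup.center G) (g : G)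
    (v : V) : ρ c (ρ g v) = ρ g (ρ c v) := by
  have h1 : ρ (c * g) v = ρ (g * c) v := by rw [(Subgroup.mem_center_iff.mp hc g)]
  rw [map_mul, map_mul] at h1
  exact h1

theorem eq_zero_of_add_self (hq2 : q ≠ 2) (d : V) (h : d + d = 0) : d = 0 := by
  have h2 : (2 : ZMod q) • d = 0 := by rw [two_smul]; exact h
  rcases smul_eq_zero.mp h2 with h3 | h3
  · exfalso
    have h4 : ((2 : ℕ) : ZMod q) = 0 := by exact_mod_cast h3
    rw [ZMod.natCast_eq_zero_iff] at h4
    have hq : q.Prime := Fact.out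
    have := Nat.le_of_dvd (by norm_num) h4
    have := hq.two_le
    omega
  · exact h3

/-- `q = 2` is impossible -/
theorem q_ne_two (ρ : G →* (V ≃ₗ[ZMod q] V)) (hρ : Function.Injective ρ)
    (hstab : ∀ v : V, v ≠ 0 → Nat.card {g : G // ρ g v = v} = 2)
    (z : G) (hz1 : z ≠ 1) (hzz : z * z = 1) (hzc : z ∈ Subgroup.center G) : q ≠ 2 := by
  intro hq
  have hchar : ∀ v : V, v + v = 0 := by
    intro v
    have h2 : (2 : ZMod q) • v = v + v := two_smul _ v
    have h3 : (2 : ZMod q) = 0 := by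
      have : ((2 : ℕ) : ZMod q) = 0 := by rw [ZMod.natCast_eq_zero_iff, hq]
      exact_mod_cast this
    rw [h3, zero_smul] at h2
    exact h2.symm
  have hneg : ∀ v : V, -v = v := fun v => neg_eq_of_add_eq_zero_left (hchar v)
  have hρz : ρ z ≠ 1 := by
    intro h
    apply hz1
    apply hρ
    rw [h, map_one]
  obtain ⟨w, hw⟩ : ∃ w, ρ z w ≠ w := by
    by_contra hcon
    push Not at hcon
    apply hρz
    ext v
    exact hcon v
  have hw0 : w ≠ 0 := by
    rintro rfl
    exact hw (map_zero _)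
  have hv0 : w + ρ z w ≠ 0 := by
    intro h
    apply hw
    have := eq_neg_of_add_eq_zero_right h
    rw [this, hneg]
  have hzv0 : ρ z (w + ρ z w) = w + ρ z w := by
    rw [map_add, apply_apply_of_sq ρ z hzz, add_comm]
  obtain ⟨t, ht1, htt, htw, -⟩ := stab_structure ρ hstab w hw0
  have htz : t ≠ z := by
    intro h
    rw [h] at htw
    exact hw htw
  generalize hv₀ : w + ρ z w = v₀ at hv0 hzv0
  have hu_t : ρ t (v₀ + ρ t v₀) = v₀ + ρ t v₀ := by
    rw [map_add, apply_apply_of_sq ρ t htt, add_comm]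
  have hu_z : ρ z (v₀ + ρ t v₀) = v₀ + ρ t v₀ := by
    rw [map_add, comm_of_central ρ z hzc t, hzv0]
  by_cases hu : v₀ + ρ t v₀ = 0
  · have h1 : ρ t v₀ = v₀ := by
      have := eq_neg_of_add_eq_zero_right hu
      rw [this, hneg]
    obtain ⟨s, -, -, -, hall⟩ := stab_structure ρ hstab v₀ hv0
    rcases hall t h1 with h | h
    · exact ht1 h
    · rcases hall z hzv0 with h' | h'
      · exact hz1 h'
      · exact htz (h.trans h'.symm)
  · obtain ⟨s, -, -, -, hall⟩ := stab_structure ρ hstab _ hu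
    rcases hall t hu_t with h | h
    · exact ht1 h
    · rcases hall z hu_z with h' | h'
      · exact hz1 h'
      · exact htz (h.trans h'.symm)

/-- a central involution acts as `-1` -/
theorem central_inv_neg (ρ : G →* (V ≃ₗ[ZMod q] V)) (hρ : Function.Injective ρ)
    (hstab : ∀ v : V, v ≠ 0 → Nat.card {g : G // ρ g v = v} = 2) (hq2 : q ≠ 2)
    (c : G) (hc1 : c ≠ 1) (hcc : c * c = 1) (hcc' : c ∈ Subgroup.center G) (v : V) :
    ρ c v = -v := by
  by_contra hcon
  have hv0 : v + ρ c v ≠ 0 := by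
    intro h
    apply hcon
    exact (eq_neg_of_add_eq_zero_right h)
  have hcv0 : ρ c (v + ρ c v) = v + ρ c v := by
    rw [map_add, apply_apply_of_sq ρ c hcc, add_comm]
  have hρc : ρ c ≠ 1 := by
    intro h
    apply hc1
    apply hρ
    rw [h, map_one]
  obtain ⟨w, hw⟩ : ∃ w, ρ c w ≠ w := by
    by_contra hcon'
    push Not at hcon'
    apply hρc
    ext v
    exact hcon' v
  have hv1 : w - ρ c w ≠ 0 := by
    intro h
    apply hw
    exact (sub_eq_zero.mp h).symm
  have hcv1 : ρ c (w - ρ c w) = -(w - ρ c w) := by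
    rw [map_sub, apply_apply_of_sq ρ c hcc, neg_sub]
  generalize v + ρ c v = v₀ at hv0 hcv0
  generalize w - ρ c w = v₁ at hv1 hcv1
  have hsum : v₀ + v₁ ≠ 0 := by
    intro h
    apply hv1
    have h1 : v₁ = -v₀ := eq_neg_of_add_eq_zero_right h
    have h2 : ρ c v₁ = v₁ := by rw [h1, map_neg, hcv0]
    rw [hcv1] at h2
    apply eq_zero_of_add_self hq2
    nth_rewrite 1 [← h2]
    exact neg_add_cancel v₁
  obtain ⟨s, hs1, hss, hsv, -⟩ := stab_structure ρ hstab _ hsum
  have hd : ρ s v₀ - v₀ = 0 := by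
    have h1 : ρ s v₀ + ρ s v₁ = v₀ + v₁ := by rw [← map_add]; exact hsv
    have h2 : ρ s v₀ - v₀ = v₁ - ρ s v₁ := by
      rw [sub_eq_sub_iff_add_eq_add]
      rw [h1, add_comm]
    have h3 : ρ c (ρ s v₀ - v₀) = ρ s v₀ - v₀ := by
      rw [map_sub, comm_of_central ρ c hcc' s, hcv0]
    have h4 : ρ c (ρ s v₀ - v₀) = -(ρ s v₀ - v₀) := by
      rw [h2, map_sub, comm_of_central ρ c hcc' s, hcv1, map_neg]
      abel
    apply eq_zero_of_add_self hq2
    nth_rewrite 1 [← h3]
    rw [h4]
    exact neg_add_cancel _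
  have hs0 : ρ s v₀ = v₀ := sub_eq_zero.mp hd
  have hs1' : ρ s v₁ = v₁ := by
    have h1 : ρ s v₀ + ρ s v₁ = v₀ + v₁ := by rw [← map_add]; exact hsv
    rw [hs0] at h1
    exact add_left_cancel h1
  obtain ⟨t₀, -, -, -, hall⟩ := stab_structure ρ hstab v₀ hv0
  have hsc : s = c := by
    rcases hall s hs0 with h | h
    · exact absurd h hs1
    · rcases hall c hcv0 with h' | h'
      · exact absurd h' hc1
      · exact h.trans h'.symm
  rw [hsc, hcv1] at hs1'
  apply hv1
  apply eq_zero_of_add_self hq2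
  nth_rewrite 1 [← hs1']
  exact neg_add_cancel v₁


theorem card_mul_le_of_disjoint [Finite V] (A B : Submodule (ZMod q) V)
    (h : ∀ v : V, v ∈ A → v ∈ B → v = 0) : Nat.card A * Nat.card B ≤ Nat.card V := by
  rw [← Nat.card_prod]
  apply Nat.card_le_card_of_injective (fun p : A × B => (p.1 : V) + (p.2 : V))
  rintro ⟨a, b⟩ ⟨a', b'⟩ hab
  simp only at hab
  have h1 : (a : V) - a' = b' - b := by
    rw [sub_eq_sub_iff_add_eq_add]; rw [hab]; abel
  have h2 : (a : V) - a' = 0 := by
    apply h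
    · exact A.sub_mem a.2 a'.2
    · rw [h1]; exact B.sub_mem b'.2 b.2
  have h3 : (b' : V) - b = 0 := by rw [← h1]; exact h2
  have ha : a = a' := Subtype.ext (sub_eq_zero.mp h2)
  have hb : b = b' := Subtype.ext (sub_eq_zero.mp h3).symm
  rw [ha, hb]

theorem card_mul_eq_of_complement [Finite V] (A B : Submodule (ZMod q) V)
    (h : ∀ v : V, v ∈ A → v ∈ B → v = 0) (hsum : ∀ v : V, ∃ a ∈ A, ∃ b ∈ B, v = a + b) :
    Nat.card A * Nat.card B = Nat.card V := by
  apply le_antisymm (card_mul_le_of_disjoint A B h)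
  rw [← Nat.card_prod]
  apply Nat.card_le_card_of_surjective (fun p : A × B => (p.1 : V) + (p.2 : V))
  intro v
  obtain ⟨a, ha, b, hb, rfl⟩ := hsum v
  exact ⟨(⟨a, ha⟩, ⟨b, hb⟩), rfl⟩

end helpers


theorem main {q : ℕ} [Fact q.Prime] {V : Type*} [AddCommGroup V] [Module (ZMod q) V] [Finite V]
    [Nontrivial V] {G : Type*} [Group G] [Finite G] (ρ : G →* (V ≃ₗ[ZMod q] V))
    (hρ : Function.Injective ρ)
    (hstab : ∀ v : V, v ≠ 0 → Nat.card {g : G // ρ g v = v} = 2)
    (z : G) (hz : orderOf z = 2) (hzc : z ∈ Subgroup.center G) :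
    ∃ r : ℕ, Nat.card V = q ^ (2 * r) ∧
      Nat.card {g : G // orderOf g = 2 ∧ g ∉ Subgroup.center G} = q ^ r + 1 := by
  classical
  have hz1 : z ≠ 1 := by
    intro h; rw [h, orderOf_one] at hz; omega
  have hzz : z * z = 1 := by rw [← pow_two, ← hz, pow_orderOf_eq_one]
  have hq2 : q ≠ 2 := q_ne_two ρ hρ hstab z hz1 hzz hzc
  have hzneg : ∀ v, ρ z v = -v := central_inv_neg ρ hρ hstab hq2 z hz1 hzz hzc
  have hneg_ne : ∀ v : V, v ≠ 0 → -v ≠ v := by
    intro v hv h
    apply hv
    apply eq_zero_of_add_self hq2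
    nth_rewrite 1 [← h]
    exact neg_add_cancel v
  -- the predicate `T`
  let T : G → Prop := fun g => g ≠ 1 ∧ g * g = 1 ∧ g ≠ z
  have hTiff : ∀ g : G, (orderOf g = 2 ∧ g ∉ Subgroup.center G) ↔ T g := by
    intro g
    constructor
    · rintro ⟨ho, hgc⟩
      refine ⟨?_, ?_, ?_⟩
      · intro h; rw [h, orderOf_one] at ho; omega
      · rw [← pow_two, ← ho, pow_orderOf_eq_one]
      · intro h; rw [h] at hgc; exact hgc hzc
    · rintro ⟨h1, h2, h3⟩
      refine ⟨orderOf_eq_prime (by rw [pow_two]; exact h2) h1, ?_⟩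
      intro hgc
      apply h3
      apply hρ
      ext v
      rw [central_inv_neg ρ hρ hstab hq2 g h1 h2 hgc v, hzneg v]
  -- (a)
  have hTfix : ∀ t, T t → ∃ v : V, v ≠ 0 ∧ ρ t v = v := by
    rintro t ⟨ht1, htt, htz⟩
    by_contra hcon
    push Not at hcon
    apply htz
    apply hρ
    ext v
    rw [hzneg v]
    have h1 : ρ t (v + ρ t v) = v + ρ t v := by
      rw [map_add, apply_apply_of_sq ρ t htt, add_comm]
    have h2 : v + ρ t v = 0 := by
      by_contra h
      exact hcon _ h h1
    exact eq_neg_of_add_eq_zero_right h2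
  -- (b)
  have hTz : ∀ t, T t → T (t * z) := by
    rintro t ⟨ht1, htt, htz⟩
    have hcomm : z * t = t * z := Subgroup.mem_center_iff.mp hzc t |>.symm
    refine ⟨?_, ?_, ?_⟩
    · intro h
      apply htz
      have : t = z⁻¹ := eq_inv_of_mul_eq_one_left h
      rw [this]
      exact inv_eq_of_mul_eq_one_left hzz
    · calc t * z * (t * z) = t * (z * t) * z := by group
        _ = t * (t * z) * z := by rw [hcomm]
        _ = (t * t) * (z * z) := by group
        _ = 1 := by rw [htt, hzz, one_mul]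
    · intro h
      apply ht1
      have : t * z = 1 * z := by rw [one_mul]; exact h
      exact mul_right_cancel this
  have hfixz : ∀ t (v : V), v ∈ fixSub ρ (t * z) ↔ ρ t v = -v := by
    intro t v
    rw [mem_fixSub, map_mul]
    show ρ t (ρ z v) = v ↔ ρ t v = -v
    rw [hzneg, map_neg]
    exact neg_eq_iff_eq_neg
  -- (c)
  have two_ne : (2 : ZMod q) ≠ 0 := by
    intro h3
    have h4 : ((2 : ℕ) : ZMod q) = 0 := by exact_mod_cast h3
    rw [ZMod.natCast_eq_zero_iff] at h4
    have hq : q.Prime := Fact.out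
    have := Nat.le_of_dvd (by norm_num) h4
    have := hq.two_le
    omega
  have hcompl : ∀ t, T t → Nat.card (fixSub ρ t) * Nat.card (fixSub ρ (t * z)) = Nat.card V := by
    rintro t ⟨ht1, htt, htz⟩
    apply card_mul_eq_of_complement
    · intro v h1 h2
      rw [mem_fixSub] at h1
      rw [hfixz] at h2
      apply eq_zero_of_add_self hq2
      have : v = -v := h1.symm.trans h2
      nth_rewrite 1 [this]
      exact neg_add_cancel v
    · intro v
      refine ⟨(2 : ZMod q)⁻¹ • (v + ρ t v), ?_, (2 : ZMod q)⁻¹ • (v - ρ t v), ?_, ?_⟩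
      · apply Submodule.smul_mem
        rw [mem_fixSub, map_add, apply_apply_of_sq ρ t htt, add_comm]
      · apply Submodule.smul_mem
        rw [hfixz, map_sub, apply_apply_of_sq ρ t htt, neg_sub]
      · rw [← smul_add]
        have : v + ρ t v + (v - ρ t v) = (2 : ZMod q) • v := by rw [two_smul]; abel
        rw [this, smul_smul, inv_mul_cancel₀ two_ne, one_smul]
  -- (d)
  have hdisj : ∀ s t, T s → T t → s ≠ t →
      Nat.card (fixSub ρ s) * Nat.card (fixSub ρ t) ≤ Nat.card V := by
    rintro s t ⟨hs1, hss, hsz⟩ ⟨ht1, htt, htz⟩ hst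
    apply card_mul_le_of_disjoint
    intro v h1 h2
    by_contra hv
    obtain ⟨u, -, -, -, hall⟩ := stab_structure ρ hstab v hv
    rcases hall s h1 with h | h
    · exact hs1 h
    · rcases hall t h2 with h' | h'
      · exact ht1 h'
      · exact hst (h.trans h'.symm)
  -- the involution attached to a nonzero vector
  have htv : ∀ v : V, v ≠ 0 → ∃ t, T t ∧ ρ t v = v ∧ ∀ g, g ≠ 1 → ρ g v = v → g = t := by
    intro v hv
    obtain ⟨t, ht1, htt, htv, hall⟩ := stab_structure ρ hstab v hv
    refine ⟨t, ⟨ht1, htt, ?_⟩, htv, ?_⟩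
    · intro h
      rw [h, hzneg] at htv
      exact hneg_ne v hv htv
    · intro g hg1 hgv
      rcases hall g hgv with h | h
      · exact absurd h hg1
      · exact h
  have hE2 : ∀ s, T s → ∃ t, T t ∧ t ≠ s ∧ t ≠ s * z := by
    intro s hs
    obtain ⟨v₀, hv₀, hsv₀⟩ := hTfix s hs
    obtain ⟨v₁, hv₁, hsv₁⟩ := hTfix (s * z) (hTz s hs)
    have hsv₁' : ρ s v₁ = -v₁ := (hfixz s v₁).mp hsv₁
    have hsum : v₀ + v₁ ≠ 0 := by
      intro h
      have h1 : v₁ = -v₀ := eq_neg_of_add_eq_zero_right h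
      have h2 : ρ s v₁ = v₁ := by rw [h1, map_neg, hsv₀]
      rw [hsv₁'] at h2
      exact hneg_ne v₁ hv₁ h2
    obtain ⟨t, hTt, htv, -⟩ := htv _ hsum
    refine ⟨t, hTt, ?_, ?_⟩
    · intro h
      rw [h, map_add, hsv₀, hsv₁'] at htv
      exact hneg_ne v₁ hv₁ (add_left_cancel htv)
    · intro h
      rw [h] at htv
      have h3 : ρ (s * z) (v₀ + v₁) = -v₀ + v₁ := by
        rw [map_mul]
        show ρ s (ρ z (v₀ + v₁)) = -v₀ + v₁
        rw [hzneg, map_neg, map_add, hsv₀, hsv₁', neg_add, neg_neg]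
      rw [h3] at htv
      exact hneg_ne v₀ hv₀ (add_right_cancel htv)
  have hnpos : 0 < Nat.card V := Nat.card_pos
  have hE3 : ∀ s, T s → Nat.card (fixSub ρ s) * Nat.card (fixSub ρ s) = Nat.card V := by
    intro s hs
    obtain ⟨t, hTt, hts, htsz⟩ := hE2 s hs
    have hsz := hTz s hs
    have htz := hTz t hTt
    have h1 := hcompl s hs
    have h2 := hcompl t hTt
    have h3 := hdisj s t hs hTt (Ne.symm hts)
    have h4 := hdisj s (t * z) hs htz (by
      intro h
      apply htsz
      rw [h, mul_assoc, hzz, mul_one])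
    have h5 := hdisj (s * z) t hsz hTt (Ne.symm htsz)
    have h6 := hdisj (s * z) (t * z) hsz htz (by
      intro h
      exact hts (mul_right_cancel h).symm)
    have hapos : 0 < Nat.card (fixSub ρ s) := Nat.card_pos
    have hbpos : 0 < Nat.card (fixSub ρ (s * z)) := Nat.card_pos
    generalize Nat.card (fixSub ρ s) = a at *
    generalize Nat.card (fixSub ρ (s * z)) = b at *
    generalize Nat.card (fixSub ρ t) = c at *
    generalize Nat.card (fixSub ρ (t * z)) = d at *
    generalize Nat.card V = n at *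
    have ha : a * a ≤ n := by
      have : a * a * n ≤ n * n := by
        calc a * a * n = a * a * (c * d) := by rw [h2]
          _ = (a * c) * (a * d) := by ring
          _ ≤ n * n := Nat.mul_le_mul h3 h4
      exact Nat.le_of_mul_le_mul_right this hnpos
    have hb : b * b ≤ n := by
      have : b * b * n ≤ n * n := by
        calc b * b * n = b * b * (c * d) := by rw [h2]
          _ = (b * c) * (b * d) := by ring
          _ ≤ n * n := Nat.mul_le_mul h5 h6
      exact Nat.le_of_mul_le_mul_right this hnpos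
    have hab : a ≤ b := by
      have : a * a ≤ a * b := by rw [h1]; exact ha
      exact Nat.le_of_mul_le_mul_left this hapos
    have hba : b ≤ a := by
      have : b * b ≤ b * a := by rw [mul_comm b a, h1]; exact hb
      exact Nat.le_of_mul_le_mul_left this hbpos
    have : a = b := le_antisymm hab hba
    rw [← h1, ← this]
  -- a base involution
  obtain ⟨v₀, hv₀⟩ := exists_ne (0 : V)
  obtain ⟨s₀, hTs₀, hs₀v₀, -⟩ := htv v₀ hv₀
  have hr : q ^ Module.finrank (ZMod q) (fixSub ρ s₀) = Nat.card (fixSub ρ s₀) :=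
    FiniteField.pow_finrank_eq_natCard q _
  generalize Module.finrank (ZMod q) (fixSub ρ s₀) = r at hr
  have hVcard : Nat.card V = q ^ (2 * r) := by
    rw [← hE3 s₀ hTs₀, ← hr, two_mul, pow_add]
  have hcT : ∀ t, T t → Nat.card (fixSub ρ t) = q ^ r := by
    intro t hTt
    have h1 := hE3 t hTt
    rw [← hE3 s₀ hTs₀, ← hr] at h1
    exact Nat.mul_self_inj.mp h1
  have hqr : 2 ≤ q ^ r := by
    rw [hr]
    have : Nontrivial (fixSub ρ s₀) := by
      refine ⟨⟨⟨v₀, hs₀v₀⟩, 0, ?_⟩⟩
      intro h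
      exact hv₀ (congrArg Subtype.val h)
    exact Finite.one_lt_card
  refine ⟨r, hVcard, ?_⟩
  let _ : Fintype V := Fintype.ofFinite V
  let _ : Fintype G := Fintype.ofFinite G
  let f : V → G := fun v => if h : v ≠ 0 then Classical.choose (htv v h) else 1
  have hf : ∀ v (h : v ≠ 0), T (f v) ∧ ρ (f v) v = v ∧ ∀ g, g ≠ 1 → ρ g v = v → g = f v := by
    intro v h
    have := Classical.choose_spec (htv v h)
    simp only [f, dif_pos h]
    exact this
  have hmaps : Set.MapsTo f ↑(Finset.univ.filter (fun v : V => v ≠ 0))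
      ↑(Finset.univ.filter (fun g : G => T g)) := by
    intro v hv
    simp only [Finset.coe_filter, Finset.mem_univ, true_and, Set.mem_ofPred_eq] at hv
    simp only [Finset.coe_filter, Finset.mem_univ, true_and, Set.mem_ofPred_eq]
    exact (hf v hv).1
  have hcount := Finset.card_eq_sum_card_fiberwise hmaps
  have hfiber : ∀ t ∈ Finset.univ.filter (fun g : G => T g),
      ((Finset.univ.filter (fun v : V => v ≠ 0)).filter (fun v => f v = t)).card = q ^ r - 1 := by
    intro t ht
    have hTt : T t := by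
      simp only [Finset.mem_filter, Finset.mem_univ, true_and] at ht
      exact ht
    have h1 : (Finset.univ.filter (fun v : V => v ≠ 0)).filter (fun v => f v = t) =
        (Finset.univ.filter (fun v : V => ρ t v = v)).erase 0 := by
      ext v
      simp only [Finset.mem_filter, Finset.mem_univ, true_and, Finset.mem_erase]
      constructor
      · rintro ⟨hv, hfv⟩
        refine ⟨hv, ?_⟩
        rw [← hfv]; exact (hf v hv).2.1
      · rintro ⟨hv, htv'⟩
        refine ⟨hv, ?_⟩
        exact ((hf v hv).2.2 t hTt.1 htv').symm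
    have h0 : (0 : V) ∈ Finset.univ.filter (fun v : V => ρ t v = v) := by
      simp only [Finset.mem_filter, Finset.mem_univ, true_and]
      exact map_zero _
    rw [h1, Finset.card_erase_of_mem h0]
    have h2 : Nat.card (fixSub ρ t) = (Finset.univ.filter (fun v : V => ρ t v = v)).card := by
      rw [← Fintype.card_subtype, ← Nat.card_eq_fintype_card]
      exact Nat.card_congr (Equiv.refl _)
    rw [← h2, hcT t hTt]
  rw [Finset.sum_congr rfl hfiber, Finset.sum_const, smul_eq_mul] at hcount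
  have hVs : (Finset.univ.filter (fun v : V => v ≠ 0)).card = q ^ (2 * r) - 1 := by
    rw [Finset.filter_ne' Finset.univ (0 : V), Finset.card_erase_of_mem (Finset.mem_univ _),
      Finset.card_univ, ← Nat.card_eq_fintype_card, hVcard]
  rw [hVs] at hcount
  have hTs : Nat.card {g : G // orderOf g = 2 ∧ g ∉ Subgroup.center G} =
      (Finset.univ.filter (fun g : G => T g)).card := by
    rw [Nat.card_congr (Equiv.subtypeEquivRight hTiff), Nat.card_eq_fintype_card,
      Fintype.card_subtype]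
  rw [hTs]
  generalize (Finset.univ.filter (fun g : G => T g)).card = k at hcount
  have hQ2 : q ^ (2 * r) = q ^ r * q ^ r := by rw [two_mul, pow_add]
  rw [hQ2] at hcount
  generalize q ^ r = Q at hqr hcount
  obtain ⟨Q', rfl⟩ : ∃ Q', Q = Q' + 1 := ⟨Q - 1, by omega⟩
  have hQ'pos : 0 < Q' := by omega
  have h1 : (Q' + 1) * (Q' + 1) - 1 = (Q' + 2) * Q' := by
    have : (Q' + 1) * (Q' + 1) = (Q' + 2) * Q' + 1 := by ring
    rw [this, Nat.add_sub_cancel]
  rw [h1, Nat.add_sub_cancel] at hcount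
  have := Nat.eq_of_mul_eq_mul_right hQ'pos hcount
  omega

/-- Let G be a finite group acting faithfully and linearly on a non-trivial finite vector space V over the field with q elements (q prime) so that every non-zero vector has a stabilizer of order 2, and suppose G has a central involution. Then V has q^(2r) elements for some r and G contains exactly q^r + 1 non-central involutions. -/
theorem result
    (q : ℕ) [Fact q.Prime] {V : Type*} [AddCommGroup V] [Module (ZMod q) V] [Finite V] [Nontrivial V]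
    {G : Type*} [Group G] [Finite G] (ρ : G →* (V ≃ₗ[ZMod q] V)) (hρ : Function.Injective ρ)
    (hstab : ∀ v : V, v ≠ 0 → Nat.card {g : G // ρ g v = v} = 2)
    (z : G) (hz : orderOf z = 2) (hzc : z ∈ Subgroup.center G) :
    ∃ r : ℕ, Nat.card V = q ^ (2 * r) ∧
      Nat.card {g : G // orderOf g = 2 ∧ g ∉ Subgroup.center G} = q ^ r + 1 :=
  main ρ hρ hstab z hz hzc

end Cfsg.Agent.S3381
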