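import Mathlib
import Cfsg.Statements.S3383
import Cfsg.Agent.Lib.Helper19.Frobenius
-- import your own Cfsg.Agent.* helpers here

set_option autoImplicit false
open Cfsg

namespace Cfsg.Agent.S3383

open Cfsg.Agent.Lib.Helper19
open scoped Pointwise

/-- The Frobenius kernel (when a subgroup) is the set of solutions of `x ^ [L : H] = 1`. -/
theorem mem_kernel_iff_pow {L : Type*} [Group L] [Finite L]
    (H : Subgroup L) (hH : Cfsg.IsFrobeniusComplement H)
    (K : Subgroup L) (hK : (K : Set L) = Cfsg.frobeniusKernel H) (x : L) :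
    x ∈ K ↔ x ^ H.index = 1 := by
  have hcard : Nat.card K = H.index := by
    rw [← card_frobeniusKernel H hH, ← hK]
    rfl
  constructor
  · intro hx
    have h := pow_card_eq_one' (G := K) (x := ⟨x, hx⟩)
    rw [hcard] at h
    have := congrArg Subtype.val h
    simpa using this
  · intro hpow
    by_contra hx
    have hx' : x ∉ Cfsg.frobeniusKernel H := by rw [← hK]; exact hx
    have hx1 : x ≠ 1 := fun h => hx' (Or.inl h)
    have hex : ∃ g : L, x ∈ MulAut.conj g • H := by
      by_contra hne
      exact hx' (Or.inr (fun g hg => hne ⟨g, hg⟩))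
    obtain ⟨g, hg⟩ := hex
    rw [mem_conj_smul_iff'] at hg
    have h1 : (g⁻¹ * x * g) ^ H.index = 1 := by
      have e : g⁻¹ * x * g = g⁻¹ * x * (g⁻¹)⁻¹ := by group
      rw [e, conj_pow, hpow]; group
    have h2 : (g⁻¹ * x * g) ^ Nat.card H = 1 := by
      have h : (⟨g⁻¹ * x * g, hg⟩ : H) ^ Nat.card H = 1 := pow_card_eq_one'
      have := congrArg Subtype.val h
      rwa [Subgroup.coe_pow, Subgroup.coe_one] at this
    have h3 : (g⁻¹ * x * g) ^ Nat.gcd H.index (Nat.card H) = 1 := pow_gcd_eq_one.mpr ⟨h1, h2⟩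
    rw [index_coprime_card H hH, pow_one] at h3
    apply hx1
    have : x = g * (g⁻¹ * x * g) * g⁻¹ := by group
    rw [this, h3]; group

/-- Let H be a Frobenius complement in a finite group L and K the Frobenius kernel (as a subgroup). Then K is characteristic in L, and every normal subgroup of L either contains K or is contained in K. -/
theorem result {L : Type*} [Group L] [Finite L]
    (H : Subgroup L) (hH : Cfsg.IsFrobeniusComplement H)
    (K : Subgroup L) (hK : (K : Set L) = Cfsg.frobeniusKernel H) :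
    K.Characteristic ∧ ∀ N : Subgroup L, N.Normal → K ≤ N ∨ N ≤ K := by
  have hmem := mem_kernel_iff_pow H hH K hK
  have hKn : K.Normal := by
    constructor
    intro x hx g
    rw [hmem] at hx ⊢
    rw [conj_pow, hx]; group
  refine ⟨?_, ?_⟩
  · rw [Subgroup.characteristic_iff_comap_le]
    intro φ x hx
    rw [Subgroup.mem_comap] at hx
    rw [hmem] at hx ⊢
    have : φ (x ^ H.index) = φ 1 := by
      rw [map_pow, map_one]; exact hx
    exact φ.injective this
  · intro N hN
    by_cases hNK : N ≤ K
    · exact Or.inr hNK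
    · left
      -- pick y ∈ N \ K
      obtain ⟨y, hyN, hyK⟩ := Set.not_subset.mp hNK
      have hy' : y ∉ Cfsg.frobeniusKernel H := by rw [← hK]; exact hyK
      have hy1 : y ≠ 1 := fun h => hy' (Or.inl h)
      have hex : ∃ g : L, y ∈ MulAut.conj g • H := by
        by_contra hne
        exact hy' (Or.inr (fun g hg => hne ⟨g, hg⟩))
      obtain ⟨g, hg⟩ := hex
      rw [mem_conj_smul_iff'] at hg
      set h := g⁻¹ * y * g with hh
      have hhN : h ∈ N := by
        have := hN.conj_mem y hyN g⁻¹
        simpa [hh] using this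
      have hh1 : h ≠ 1 := by
        intro h1
        apply hy1
        have : y = g * h * g⁻¹ := by rw [hh]; group
        rw [this, h1]; group
      -- the injective map K → K ⊓ N
      let f : K → (K ⊓ N : Subgroup L) := fun k =>
        ⟨(k : L)⁻¹ * (h⁻¹ * k * h), by
          refine ⟨K.mul_mem (K.inv_mem k.2) ?_, ?_⟩
          · have := hKn.conj_mem k.1 k.2 h⁻¹
            simpa using this
          · have h1 : (k : L)⁻¹ * (h⁻¹ * k * h) = ((k : L)⁻¹ * h⁻¹ * ((k : L)⁻¹)⁻¹) * h := by group
            rw [h1]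
            exact N.mul_mem (hN.conj_mem _ (N.inv_mem hhN) _) hhN⟩
      have hf : Function.Injective f := by
        intro k₁ k₂ hk
        have hk' : (k₁ : L)⁻¹ * (h⁻¹ * k₁ * h) = (k₂ : L)⁻¹ * (h⁻¹ * k₂ * h) := congrArg Subtype.val hk
        -- c = k₂ k₁⁻¹ commutes with h
        set c : L := k₂ * (k₁ : L)⁻¹ with hc
        have hcK : c ∈ K := K.mul_mem k₂.2 (K.inv_mem k₁.2)
        have e : (k₁ : L)⁻¹ * h⁻¹ * k₁ = (k₂ : L)⁻¹ * h⁻¹ * k₂ := by
          apply mul_right_cancel (b := h)
          calc (k₁ : L)⁻¹ * h⁻¹ * k₁ * h = (k₁ : L)⁻¹ * (h⁻¹ * k₁ * h) := by group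
            _ = (k₂ : L)⁻¹ * (h⁻¹ * k₂ * h) := hk'
            _ = (k₂ : L)⁻¹ * h⁻¹ * k₂ * h := by group
        have hcomm : c⁻¹ * h * c = h := by
          have e1 : c * h⁻¹ = h⁻¹ * c := by
            calc c * h⁻¹ = k₂ * ((k₁ : L)⁻¹ * h⁻¹ * k₁) * (k₁ : L)⁻¹ := by rw [hc]; group
              _ = k₂ * ((k₂ : L)⁻¹ * h⁻¹ * k₂) * (k₁ : L)⁻¹ := by rw [e]
              _ = h⁻¹ * c := by rw [hc]; group
          calc c⁻¹ * h * c = c⁻¹ * h * (c * h⁻¹) * h := by group
            _ = c⁻¹ * h * (h⁻¹ * c) * h := by rw [e1]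
            _ = h := by group
        have hcH : c ∈ H := by
          by_contra hcH
          have hbot := hH.2.2 c hcH
          have hmc : h ∈ MulAut.conj c • H := by
            rw [mem_conj_smul_iff', hcomm]
            exact hg
          have : h ∈ H ⊓ MulAut.conj c • H := Subgroup.mem_inf.mpr ⟨hg, hmc⟩
          rw [hbot, Subgroup.mem_bot] at this
          exact hh1 this
        have hcker : c ∈ Cfsg.frobeniusKernel H := by rw [← hK]; exact hcK
        have hc1 : c = 1 := mem_frobeniusKernel_of_mem H hcH hcker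
        apply Subtype.ext
        have : (k₂ : L) = c * k₁ := by rw [hc]; group
        rw [this, hc1, one_mul]
      have hcard : Nat.card K ≤ Nat.card (K ⊓ N : Subgroup L) := Nat.card_le_card_of_injective f hf
      have heq : K ⊓ N = K := Subgroup.eq_of_le_of_card_ge inf_le_left hcard
      rw [← heq]
      exact inf_le_right

end Cfsg.Agent.S3383
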