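import Mathlib
import Cfsg.Statements.S3389
import Cfsg.Agent.Lib.Helper19.Frobenius
import Cfsg.Agent.Lib.helper6.OrbitTools
-- import your own Cfsg.Agent.* helpers here

set_option autoImplicit false
open Cfsg

namespace Cfsg.Agent.S3389

open MulAction Cfsg.Agent.Lib.Helper19 Cfsg.Agent.Lib.Helper20
open scoped Pointwise

section aux

variable {G : Type*} [Group G] [Finite G] {Ω : Type*} [Fintype Ω] [MulAction G Ω]

/-- Part (a): the centre acts semiregularly on the fixed points of any element. -/
theorem center_card_dvd [FaithfulSMul G Ω] (htr : IsPretransitive G Ω) (g : G) :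
    Nat.card (Subgroup.center G) ∣ Nat.card (fixedBy Ω g) := by
  rw [Nat.card_coe_set_eq]
  apply Cfsg.Agent.Lib.helper6.dvd_ncard_of_invariant (Q := Subgroup.center G) (Nat.card (Subgroup.center G)) _
    (fixedBy Ω g) (Set.toFinite _) rfl
  · intro z ω hω
    rw [mem_fixedBy] at hω ⊢
    rw [Subgroup.smul_def, smul_smul, (Subgroup.mem_center_iff.mp z.2 g), mul_smul, hω]
  · intro ω _
    have hstab : stabilizer (Subgroup.center G) ω = ⊥ := by
      rw [eq_bot_iff]
      intro z hz
      rw [mem_stabilizer_iff, Subgroup.smul_def] at hz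
      rw [Subgroup.mem_bot]
      apply Subtype.ext
      apply eq_of_smul_eq_smul (α := Ω)
      intro ω'
      obtain ⟨h, rfl⟩ := htr.exists_smul_eq ω ω'
      rw [Subgroup.coe_one, one_smul, smul_smul, ← (Subgroup.mem_center_iff.mp z.2 h), mul_smul, hz]
    have h1 := Cfsg.Agent.Lib.helper6.ncard_orbit_mul_card_stabilizer (Q := Subgroup.center G) ω
    rw [hstab, Subgroup.card_bot, mul_one] at h1
    exact h1

/-- If an element has at most two fixed points, among them `α ≠ β`, then any further fixed point is `α` or `β`. -/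
theorem eq_or_eq_of_card_le_two (y : G) (hy : Nat.card (fixedBy Ω y) ≤ 2) (α β γ : Ω) (hαβ : α ≠ β)
    (hα : y • α = α) (hβ : y • β = β) (hγ : y • γ = γ) : γ = α ∨ γ = β := by
  classical
  by_contra hne
  rw [not_or] at hne
  have hsub : ({α, β, γ} : Set Ω) ⊆ fixedBy Ω y := by
    intro x hx
    rcases hx with rfl | rfl | rfl
    · exact hα
    · exact hβ
    · exact hγ
  have h3 : ({α, β, γ} : Set Ω).ncard = 3 :=
    Set.ncard_eq_three.mpr ⟨α, β, γ, hαβ, fun h => hne.1 h.symm, fun h => hne.2 h.symm, rfl⟩
  have hle := Set.ncard_le_ncard hsub (Set.toFinite _)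
  rw [h3, ← Nat.card_coe_set_eq] at hle
  omega

/-- Part (b): fixity two forces even order. -/
theorem even_card_of_fixity_two (htr : IsPretransitive G Ω)
    (hfix : ∀ g : G, g ≠ 1 → Nat.card (fixedBy Ω g) ≤ 2) (g : G) (hg1 : g ≠ 1)
    (hg : Nat.card (fixedBy Ω g) = 2) : 2 ∣ Nat.card G := by
  classical
  by_contra hodd
  obtain ⟨α, β, hαβ, hFix⟩ : ∃ α β, α ≠ β ∧ fixedBy Ω g = {α, β} := by
    rw [Nat.card_coe_set_eq] at hg
    exact Set.ncard_eq_two.mp hg
  have hgα : g • α = α := by
    have : α ∈ fixedBy Ω g := by rw [hFix]; simp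
    exact this
  have hgβ : g • β = β := by
    have : β ∈ fixedBy Ω g := by rw [hFix]; simp
    exact this
  set H : Subgroup G := stabilizer G α ⊓ stabilizer G β with hH
  have hmemH : ∀ x : G, x ∈ H ↔ x • α = α ∧ x • β = β := by
    intro x
    rw [hH, Subgroup.mem_inf, mem_stabilizer_iff, mem_stabilizer_iff]
  have hgH : g ∈ H := (hmemH g).mpr ⟨hgα, hgβ⟩
  have hFrob : Cfsg.IsFrobeniusComplement H := by
    refine ⟨?_, ?_, ?_⟩
    · intro hbot
      rw [hbot, Subgroup.mem_bot] at hgH
      exact hg1 hgH
    · intro htop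
      obtain ⟨x, hx⟩ := htr.exists_smul_eq α β
      have hxH : x ∈ H := by rw [htop]; exact Subgroup.mem_top x
      have := ((hmemH x).mp hxH).1
      exact hαβ (this.symm.trans hx)
    · intro x hx
      rw [eq_bot_iff]
      intro y hy
      obtain ⟨hyH, hyx⟩ := Subgroup.mem_inf.mp hy
      rw [mem_conj_smul_iff', hmemH] at hyx
      rw [hmemH] at hyH
      rw [Subgroup.mem_bot]
      by_contra hy1
      have hyxα : y • (x • α) = x • α := by
        have := hyx.1
        rw [mul_smul, mul_smul] at this
        have h2 := congrArg (fun ω => x • ω) this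
        simpa using h2
      have hyxβ : y • (x • β) = x • β := by
        have := hyx.2
        rw [mul_smul, mul_smul] at this
        have h2 := congrArg (fun ω => x • ω) this
        simpa using h2
      have hcard := hfix y hy1
      have hinj : x • α ≠ x • β := fun h => hαβ (smul_left_cancel x h)
      rcases eq_or_eq_of_card_le_two y hcard α β (x • α) hαβ hyH.1 hyH.2 hyxα with h1 | h1
      · rcases eq_or_eq_of_card_le_two y hcard α β (x • β) hαβ hyH.1 hyH.2 hyxβ with h2 | h2
        · exact hinj (h1.trans h2.symm)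
        · exact hx ((hmemH x).mpr ⟨h1, h2⟩)
      · rcases eq_or_eq_of_card_le_two y hcard α β (x • β) hαβ hyH.1 hyH.2 hyxβ with h2 | h2
        · apply hodd
          have hpow : ∀ n : ℕ, (x ^ n) • α = if Even n then α else β := by
            intro n
            induction n with
            | zero => simp
            | succ n ih =>
              rw [pow_succ', mul_smul, ih]
              by_cases hn : Even n
              · rw [if_pos hn, if_neg (by rw [Nat.even_add_one]; exact not_not.mpr hn), h1]
              · rw [if_neg hn, if_pos (by rw [Nat.even_add_one]; exact hn), h2]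
          have h3 := hpow (orderOf x)
          rw [pow_orderOf_eq_one, one_smul] at h3
          have heven : Even (orderOf x) := by
            by_contra hne
            rw [if_neg hne] at h3
            exact hαβ h3
          exact (even_iff_two_dvd.mp heven).trans (orderOf_dvd_natCard x)
        · exact hinj (h1.trans h2.symm)
  -- counting
  have : Fintype G := Fintype.ofFinite G
  have : Nonempty Ω := ⟨α⟩
  have hB := burnside_top (G := G) (Ω := Ω)
  rw [card_orbits_eq_one_of_pretransitive, one_mul] at hB
  have hlow : ∀ y : G, (if y = 1 then Nat.card Ω else 0) +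
      2 * (if y ∈ Cfsg.frobeniusKernel H then 0 else 1) ≤ Nat.card (fixedBy Ω y) := by
    intro y
    by_cases hy1 : y = 1
    · subst hy1
      rw [if_pos rfl, if_pos (one_mem_frobeniusKernel H), mul_zero, add_zero]
      have : fixedBy Ω (1 : G) = Set.univ := by
        ext ω; simp
      rw [this, Nat.card_congr (Equiv.Set.univ _)]
    · rw [if_neg hy1, zero_add]
      by_cases hk : y ∈ Cfsg.frobeniusKernel H
      · rw [if_pos hk]; exact Nat.zero_le _
      · rw [if_neg hk, mul_one]
        have hex : ∃ x : G, y ∈ MulAut.conj x • H := by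
          by_contra hne
          exact hk (Or.inr fun x hx => hne ⟨x, hx⟩)
        obtain ⟨x, hx⟩ := hex
        rw [mem_conj_smul_iff', hmemH] at hx
        have h1 : y • (x • α) = x • α := by
          have := hx.1
          rw [mul_smul, mul_smul] at this
          have h2 := congrArg (fun ω => x • ω) this
          simpa using h2
        have h2 : y • (x • β) = x • β := by
          have := hx.2
          rw [mul_smul, mul_smul] at this
          have h2 := congrArg (fun ω => x • ω) this
          simpa using h2
        have hne : x • α ≠ x • β := fun h => hαβ (smul_left_cancel x h)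
        have hsub : ({x • α, x • β} : Set Ω) ⊆ fixedBy Ω y := by
          intro ω hω
          rcases hω with rfl | rfl
          · exact h1
          · exact h2
        have hle := Set.ncard_le_ncard hsub (Set.toFinite _)
        rw [Set.ncard_pair hne, ← Nat.card_coe_set_eq] at hle
        exact hle
  have hsum := Finset.sum_le_sum (s := Finset.univ) (fun y _ => hlow y)
  rw [hB, Finset.sum_add_distrib, Finset.sum_ite_eq' Finset.univ (1 : G), if_pos (Finset.mem_univ _),
    ← Finset.mul_sum] at hsum
  have hc := card_compl_frobeniusKernel H hFrob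
  have hHi := Subgroup.card_mul_index H
  have hH2 : 2 ≤ Nat.card H := by
    have := (Subgroup.one_lt_card_iff_ne_bot (H := H)).mpr hFrob.1
    omega
  have hΩ : 0 < Nat.card Ω := Nat.card_pos
  have h5 : 2 * H.index ≤ Nat.card H * H.index := Nat.mul_le_mul_right _ hH2
  omega

/-- Part (c). -/
theorem not_dvd_of_fixity (htr : IsPretransitive G Ω) (k : ℕ)
    (hfix : ∀ g : G, g ≠ 1 → Nat.card (fixedBy Ω g) ≤ k) (p : ℕ) (hp : p.Prime) (hkp : k < p) (α : Ω)
    (h1 : p ∣ Nat.card (stabilizer G α)) (h2 : p ∣ (stabilizer G α).index) : False := by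
  have : Fact p.Prime := ⟨hp⟩
  obtain ⟨y, hy⟩ := exists_prime_orderOf_dvd_card' p h1
  have hyG : orderOf (y : G) = p := by rw [Subgroup.orderOf_coe, hy]
  have hy1 : (y : G) ≠ 1 := by
    intro h
    rw [h, orderOf_one] at hyG
    exact hp.one_lt.ne hyG
  have hP : IsPGroup p (Subgroup.zpowers (y : G)) := by
    apply IsPGroup.of_card (n := 1)
    rw [Nat.card_zpowers, hyG, pow_one]
  have hmod := hP.card_modEq_card_fixedPoints Ω
  have hidx : (stabilizer G α).index = Nat.card Ω := index_stabilizer_of_transitive G α
  rw [hidx] at h2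
  have hdvd : p ∣ Nat.card (fixedPoints (Subgroup.zpowers (y : G)) Ω) :=
    (Nat.modEq_zero_iff_dvd).mp (hmod.symm.trans ((Nat.modEq_zero_iff_dvd).mpr h2))
  have hsub : (fixedPoints (Subgroup.zpowers (y : G)) Ω) ⊆ fixedBy Ω (y : G) := by
    intro ω hω
    exact hω ⟨(y : G), Subgroup.mem_zpowers _⟩
  have hαmem : α ∈ fixedPoints (Subgroup.zpowers (y : G)) Ω := by
    rintro ⟨z, hz⟩
    obtain ⟨n, rfl⟩ := Subgroup.mem_zpowers_iff.mp hz
    show (y : G) ^ n • α = α
    have : ((y ^ n : stabilizer G α) : G) • α = α := (y ^ n).2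
    simpa using this
  have hle := Set.ncard_le_ncard hsub (Set.toFinite _)
  rw [← Nat.card_coe_set_eq, ← Nat.card_coe_set_eq] at hle
  have hk := hfix _ hy1
  have hpos : 0 < Nat.card (fixedPoints (Subgroup.zpowers (y : G)) Ω) := by
    rw [Nat.card_pos_iff]
    exact ⟨⟨⟨α, hαmem⟩⟩, inferInstance⟩
  have := Nat.le_of_dvd hpos hdvd
  omega

end aux

/-- Let G be a finite group acting faithfully and transitively on a finite set Ω with fixity k ≥ 1: every non-identity element fixes at most k points and some non-identity element fixes exactly k points. Then |Z(G)| divides k; if k = 2 then |G| is even; and for every prime p > k dividing |G| and every point α, either p does not divide |G_α| or G_α contains a Sylow p-subgroup of G. -/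
theorem result {G : Type*} [Group G] [Finite G] {Ω : Type*} [Fintype Ω] [MulAction G Ω] [FaithfulSMul G Ω]
    (htr : MulAction.IsPretransitive G Ω) (k : ℕ) (hk : 1 ≤ k)
    (hfix : ∀ g : G, g ≠ 1 → Nat.card (MulAction.fixedBy Ω g) ≤ k) (hex : ∃ g : G, g ≠ 1 ∧ Nat.card (MulAction.fixedBy Ω g) = k) :
    Nat.card (Subgroup.center G) ∣ k ∧ (k = 2 → 2 ∣ Nat.card G) ∧
      ∀ (p : ℕ), p.Prime → k < p → p ∣ Nat.card G → ∀ α : Ω,
        ¬ p ∣ Nat.card (MulAction.stabilizer G α) ∨ ¬ p ∣ (MulAction.stabilizer G α).index := by
  obtain ⟨g, hg1, hgk⟩ := hex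
  refine ⟨?_, ?_, ?_⟩
  · rw [← hgk]
    exact center_card_dvd htr g
  · intro hk2
    subst hk2
    exact even_card_of_fixity_two htr hfix g hg1 hgk
  · intro p hp hkp _ α
    by_contra hcon
    rw [not_or, not_not, not_not] at hcon
    exact not_dvd_of_fixity htr k hfix p hp hkp α hcon.1 hcon.2

end Cfsg.Agent.S3389
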