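import Mathlib
import Cfsg.Statements.S3390
import Cfsg.Agent.S3224
import Cfsg.Agent.Lib.Helper19.Fix2A
import Cfsg.Agent.Lib.Helper19.Fix2B
import Cfsg.Agent.Lib.Helper19.Fix2C
-- import your own Cfsg.Agent.* helpers here

set_option autoImplicit false
open Cfsg

namespace Cfsg.Agent.S3390

/-- Let G be a finite group acting faithfully and transitively on a finite set Ω with fixity 2 (every non-identity element fixes at most two points, and some fixes exactly two). Let α ∈ Ω and S a Sylow 2-subgroup of G. Then one of the following holds: the stabilizer S_α of α in S is trivial; S is dihedral or semidihedral and either |S_α| = 2 or |S : S_α| = 2; |S| ≥ 4, S has exactly one orbit of size 2 on Ω, every other S-orbit is regular, and G has a normal subgroup of index 2 or of index |S| which is a Frobenius group; or S ≤ G_α. -/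
theorem result {G : Type*} [Group G] [Finite G] {Ω : Type*} [Fintype Ω] [MulAction G Ω] [FaithfulSMul G Ω] (htr : MulAction.IsPretransitive G Ω)
    (hfix : ∀ g : G, g ≠ 1 → Nat.card (MulAction.fixedBy Ω g) ≤ 2) (hex : ∃ g : G, g ≠ 1 ∧ Nat.card (MulAction.fixedBy Ω g) = 2) (α : Ω) (S : Sylow 2 G) :
    (S : Subgroup G) ⊓ MulAction.stabilizer G α = ⊥ ∨
    (((∃ n : ℕ, Nonempty (↥(S : Subgroup G) ≃* DihedralGroup n)) ∨ Cfsg.IsQuasiDihedral ↥(S : Subgroup G)) ∧
       (Nat.card ↥((S : Subgroup G) ⊓ MulAction.stabilizer G α) = 2 ∨ ((S : Subgroup G) ⊓ MulAction.stabilizer G α).relIndex (S : Subgroup G) = 2)) ∨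
    (4 ≤ Nat.card (S : Subgroup G) ∧
       (∃ ω : Ω, Nat.card (MulAction.orbit ↥(S : Subgroup G) ω) = 2 ∧
          ∀ ω' : Ω, ω' ∉ MulAction.orbit ↥(S : Subgroup G) ω → Nat.card (MulAction.orbit ↥(S : Subgroup G) ω') = Nat.card (S : Subgroup G)) ∧
       ∃ N : Subgroup G, N.Normal ∧ (N.index = 2 ∨ N.index = Nat.card (S : Subgroup G)) ∧ (∃ H : Subgroup ↥N, Cfsg.IsFrobeniusComplement H)) ∨
    (S : Subgroup G) ≤ MulAction.stabilizer G α := by
  classical
  have : Fact (Nat.Prime 2) := ⟨Nat.prime_two⟩
  have h2G : Cfsg.Agent.Lib.Helper19.Fix2.Fx2 G Ω := Cfsg.Agent.Lib.Helper19.Fix2.fx2_of_card hfix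
  have hP : IsPGroup 2 ↥(S : Subgroup G) := S.isPGroup'
  have h2P : Cfsg.Agent.Lib.Helper19.Fix2.Fx2 ↥(S : Subgroup G) Ω := by
    intro g hg a b c ha hb hc
    exact h2G (g : G) (fun h => hg (Subtype.ext h)) a b c ha hb hc
  have hVeq : MulAction.stabilizer ↥(S : Subgroup G) α =
      (MulAction.stabilizer G α).subgroupOf (S : Subgroup G) := by
    ext s
    rw [Subgroup.mem_subgroupOf, MulAction.mem_stabilizer_iff, MulAction.mem_stabilizer_iff]
    rfl
  have hrel : ((S : Subgroup G) ⊓ MulAction.stabilizer G α).relIndex (S : Subgroup G) =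
      (MulAction.stabilizer ↥(S : Subgroup G) α).index := by
    rw [Subgroup.inf_relIndex_left, hVeq]
    rfl
  have hcard : Nat.card ↥((S : Subgroup G) ⊓ MulAction.stabilizer G α) =
      Nat.card (MulAction.stabilizer ↥(S : Subgroup G) α) := by
    rw [hVeq, ← Subgroup.inf_subgroupOf_left]
    exact (Nat.card_congr (Subgroup.subgroupOfEquivOfLe
      (inf_le_left : (S : Subgroup G) ⊓ MulAction.stabilizer G α ≤ (S : Subgroup G))).toEquiv).symm
  rcases Cfsg.Agent.Lib.Helper19.Fix2.fx2_pgroup_main hP h2P α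
    (fun x hx hC => Cfsg.Agent.S3224.result hP x hx hC) with h | h | h | h
  · -- trivial stabilizer
    left
    rw [eq_bot_iff]
    intro x hx
    obtain ⟨hx1, hx2⟩ := Subgroup.mem_inf.mp hx
    have hm : (⟨x, hx1⟩ : ↥(S : Subgroup G)) ∈ MulAction.stabilizer ↥(S : Subgroup G) α := by
      rw [hVeq, Subgroup.mem_subgroupOf]; exact hx2
    rw [h, Subgroup.mem_bot] at hm
    rw [Subgroup.mem_bot]
    exact congrArg Subtype.val hm
  · -- S fixes α
    right; right; right
    intro s hs
    have hm : (⟨s, hs⟩ : ↥(S : Subgroup G)) ∈ MulAction.stabilizer ↥(S : Subgroup G) α := by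
      rw [h]; trivial
    rw [hVeq, Subgroup.mem_subgroupOf] at hm
    exact hm
  · -- dihedral / quasidihedral
    right; left
    refine ⟨h.1, ?_⟩
    rw [hcard, hrel]
    exact h.2
  · -- Frobenius case
    right; right; left
    obtain ⟨hi, c, hreg⟩ := h
    have hVne : MulAction.stabilizer ↥(S : Subgroup G) α ≠ ⊥ := by
      intro hb
      have := c.hx0
      rw [hb, Subgroup.mem_bot] at this
      exact c.hx01 this
    have hVcard : 1 < Nat.card (MulAction.stabilizer ↥(S : Subgroup G) α) := by
      rw [Subgroup.one_lt_card_iff_ne_bot]; exact hVne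
    have hPcard : Nat.card (MulAction.stabilizer ↥(S : Subgroup G) α) * 2 =
        Nat.card ↥(S : Subgroup G) := by
      have := Subgroup.card_mul_index (MulAction.stabilizer ↥(S : Subgroup G) α)
      rw [hi] at this
      exact this
    refine ⟨by omega, ⟨α, ?_, ?_⟩, ?_⟩
    · rw [Nat.card_coe_set_eq, ← MulAction.index_stabilizer, hi]
    · intro ω' hω'
      have h1 : ω' ≠ α := by
        rintro rfl
        exact hω' (MulAction.mem_orbit_self _)
      have h2 : ω' ≠ c.ω' := by
        rintro rfl
        apply hω'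
        exact ⟨c.t, c.ht⟩
      rw [Nat.card_coe_set_eq, ← MulAction.index_stabilizer, hreg ω' h1 h2, Subgroup.index_bot]
    · let rc : Cfsg.Agent.Lib.Helper19.Fix2.RegCfg G Ω S :=
        { α := α
          β := c.ω'
          hαβ := c.hne.symm
          t := (c.t : G)
          htS := c.t.2
          htα := c.ht
          htβ := c.ht'
          hQ := by rw [← hVeq]; exact hi
          hβ := by
            intro s hs
            have h1 : (⟨s, hs⟩ : ↥(S : Subgroup G)) ∈ MulAction.stabilizer ↥(S : Subgroup G) c.ω' ↔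
                (⟨s, hs⟩ : ↥(S : Subgroup G)) ∈ MulAction.stabilizer ↥(S : Subgroup G) α := by
              rw [c.hstab]
            rw [MulAction.mem_stabilizer_iff, MulAction.mem_stabilizer_iff] at h1
            exact h1
          u := (c.x0 : G)
          huS := c.x0.2
          huα := MulAction.mem_stabilizer_iff.mp c.hx0
          hu1 := fun h => c.hx01 (Subtype.ext h)
          hreg := by
            intro γ h1 h2 s hs hsγ
            have hm : (⟨s, hs⟩ : ↥(S : Subgroup G)) ∈ MulAction.stabilizer ↥(S : Subgroup G) γ :=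
              MulAction.mem_stabilizer_iff.mpr hsγ
            rw [hreg γ h1 h2, Subgroup.mem_bot] at hm
            exact congrArg Subtype.val hm }
      obtain ⟨N, hN, hNi, H, hH⟩ := rc.exists_frobenius htr h2G
      exact ⟨N, hN, Or.inl hNi, H, hH⟩

end Cfsg.Agent.S3390
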