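import Mathlib
import Cfsg.Statements.S3391
import Cfsg.Agent.Lib.helper3.SuzukiFixA

set_option autoImplicit false
open Cfsg

namespace Cfsg.Agent.S3391

/-- Let q = 2^{2m+1} ≥ 8 and let G be isomorphic to the Suzuki group Sz(q). If G acts faithfully and transitively on a finite set Ω with fixity 2 (every non-identity element fixes at most two points, and some fixes exactly two), then either |Ω| = q² + 1 and the action is 2-transitive, or |Ω| = q²(q² + 1) and the point stabilizers have order q − 1. -/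
theorem result {G : Type*} [Group G] [Finite G] (F : Type) [Field F] [Fintype F] (m : ℕ) (hm : 1 ≤ m) (hF : Fintype.card F = 2 ^ (2 * m + 1))
    (e : G ≃* ↥(Cfsg.Lie.Sz F (2 ^ (m + 1)))) {Ω : Type*} [Fintype Ω] [MulAction G Ω] [FaithfulSMul G Ω] (htr : MulAction.IsPretransitive G Ω)
    (hfix : ∀ g : G, g ≠ 1 → Nat.card (MulAction.fixedBy Ω g) ≤ 2) (hex : ∃ g : G, g ≠ 1 ∧ Nat.card (MulAction.fixedBy Ω g) = 2) :
    (Fintype.card Ω = Fintype.card F ^ 2 + 1 ∧ MulAction.IsMultiplyPretransitive G Ω 2) ∨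
    (Fintype.card Ω = Fintype.card F ^ 2 * (Fintype.card F ^ 2 + 1) ∧ ∀ α : Ω, Nat.card (MulAction.stabilizer G α) = Fintype.card F - 1) := by
  classical
  obtain ⟨φ, hφ⟩ : ∃ φ : Cfsg.Sz F m ≃* G,
      φ = (Cfsg.Agent.Lib.helper3.szLieEquiv hF hm).trans e.symm := ⟨_, rfl⟩
  let act : MulAction (Cfsg.Sz F m) Ω := MulAction.compHom Ω φ.toMonoidHom
  have hsmul : ∀ (s : Cfsg.Sz F m) (ω : Ω), s • ω = φ s • ω := fun _ _ => rfl
  have htr' : MulAction.IsPretransitive (Cfsg.Sz F m) Ω := by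
    refine ⟨fun a b => ?_⟩
    obtain ⟨g, hg⟩ := htr.exists_smul_eq a b
    exact ⟨φ.symm g, by rw [hsmul, φ.apply_symm_apply, hg]⟩
  have hfb : ∀ s : Cfsg.Sz F m,
      MulAction.fixedBy Ω s = MulAction.fixedBy Ω (φ s) := by
    intro s; ext ω; simp only [MulAction.mem_fixedBy, hsmul]
  have hfix' : ∀ s : Cfsg.Sz F m, s ≠ 1 →
      Nat.card (MulAction.fixedBy Ω s) ≤ 2 := by
    intro s hs
    rw [hfb]
    exact hfix _ (by rwa [Ne, MulEquiv.map_eq_one_iff])
  have hex' : ∃ s : Cfsg.Sz F m, s ≠ 1 ∧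
      Nat.card (MulAction.fixedBy Ω s) = 2 := by
    obtain ⟨g, hg1, hg2⟩ := hex
    refine ⟨φ.symm g, ?_, ?_⟩
    · rwa [Ne, MulEquiv.map_eq_one_iff]
    · rw [hfb, φ.apply_symm_apply]; exact hg2
  rcases Cfsg.Agent.Lib.helper3.sz_fixity_two hF hm htr' hfix' hex' with ⟨h1, h2⟩ | ⟨h1, h2⟩
  · left
    refine ⟨by rw [h1, hF], ?_⟩
    rw [MulAction.is_two_pretransitive_iff]
    intro a b c d hab hcd
    obtain ⟨s, hs1, hs2⟩ := h2 a b c d hab hcd
    exact ⟨φ s, hs1, hs2⟩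
  · right
    refine ⟨by rw [h1, hF], ?_⟩
    intro α
    rw [hF, ← h2 α]
    refine Nat.card_congr ⟨fun g => ⟨φ.symm g.1, ?_⟩, fun s => ⟨φ s.1, ?_⟩, ?_, ?_⟩
    · rw [MulAction.mem_stabilizer_iff, hsmul, φ.apply_symm_apply]
      exact g.2
    · have := s.2
      rw [MulAction.mem_stabilizer_iff, hsmul] at this
      exact this
    · intro g
      apply Subtype.ext
      exact φ.apply_symm_apply g.1
    · intro s
      apply Subtype.ext
      exact φ.symm_apply_apply s.1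

end Cfsg.Agent.S3391
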