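import Mathlib
import Cfsg.Statements.S3420
import Cfsg.Agent.Lib.Helper19.ChiefSimple
-- import your own Cfsg.Agent.* helpers here

set_option autoImplicit false
open Cfsg

namespace Cfsg.Agent.S3420

/-- Let n ≥ 11 and let G be a finite group with the same order and the same set of element orders as the alternating group of degree n. Then G has normal subgroups N < H such that H/N is a non-abelian simple group whose order is divisible by every prime p with n/2 < p ≤ n. -/
theorem result {G : Type*} [Group G] [Finite G] (n : ℕ) (hn : 11 ≤ n)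
    (hcard : Nat.card G = Nat.card ↥(alternatingGroup (Fin n)))
    (hspec : Set.range (orderOf : G → ℕ) = Set.range (orderOf : ↥(alternatingGroup (Fin n)) → ℕ)) :
    ∃ (N H : Subgroup G) (_ : N.Normal), H.Normal ∧ N < H ∧
      IsSimpleGroup (↥H ⧸ N.subgroupOf H) ∧ ¬ IsMulCommutative (↥H ⧸ N.subgroupOf H) ∧
      ∀ p : ℕ, p.Prime → n < 2 * p → p ≤ n → p ∣ Nat.card (↥H ⧸ N.subgroupOf H) := by
  obtain ⟨p₀, q₀, hp₀, hq₀, h2p₀, hpq₀, hq₀n⟩ :=
    Cfsg.Agent.Lib.Helper19.TwoPrimes.two_primes_half n hn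
  have hcard2 := Cfsg.Agent.Lib.Helper19.AltSolv.two_mul_card n (by omega) hcard
  have hmod : ∀ p q : ℕ, (p.Prime ∧ n < 2 * p ∧ p ≤ n) → (q.Prime ∧ n < 2 * q ∧ q ≤ n) → p ≠ q →
      ¬ p ≡ 1 [MOD q] := by
    rintro p q ⟨hp, hp1, hp2⟩ ⟨hq, hq1, hq2⟩ hne h
    rcases Nat.lt_or_ge p q with hlt | hge
    · have h3 : p % q = 1 % q := h
      rw [Nat.mod_eq_of_lt hlt, Nat.mod_eq_of_lt hq.one_lt] at h3
      have := hp.one_lt
      omega
    · have hlt : q < p := lt_of_le_of_ne hge (Ne.symm hne)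
      have h4 : q ∣ p - 1 := (Nat.modEq_iff_dvd' hp.one_lt.le).mp h.symm
      obtain ⟨c, hc⟩ := h4
      have hc1 : c = 1 := by
        rcases Nat.lt_or_ge c 2 with h | h
        · rcases Nat.eq_zero_or_pos c with h0 | h0
          · rw [h0, mul_zero] at hc; omega
          · omega
        · have : q * 2 ≤ q * c := Nat.mul_le_mul_left q h
          omega
      rw [hc1, mul_one] at hc
      rcases hp.eq_two_or_odd with h | h
      · omega
      · rcases hq.eq_two_or_odd with h' | h'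
        · omega
        · omega
  obtain ⟨N, H, hN, hH, hNH, hs, hnc, hall⟩ :=
    Cfsg.Agent.Lib.Helper19.ChiefSimple.exists_simple_section (G := G)
      (fun p => p.Prime ∧ n < 2 * p ∧ p ≤ n)
      (fun p hp => hp.1)
      (fun p hp => (Cfsg.Agent.Lib.Helper19.AltSolv.dvd_and_sq_not_dvd hp.1 hp.2.2 hp.2.1
        (by have := hp.2.1; omega) hcard2).1)
      (fun p hp => (Cfsg.Agent.Lib.Helper19.AltSolv.dvd_and_sq_not_dvd hp.1 hp.2.2 hp.2.1
        (by have := hp.2.1; omega) hcard2).2)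
      hmod
      (fun p q hp hq hne g => Cfsg.Agent.Lib.Helper19.AltSolv.spec_no_order n hspec hp.1 hq.1 hne
        (by have := hp.2.1; have := hq.2.1; omega)
        (by have := hp.2.1; have := hq.2.1; have := hp.2.2; nlinarith) g)
      p₀ q₀ ⟨hp₀, h2p₀, by omega⟩ ⟨hq₀, by omega, hq₀n⟩ (by omega)
  exact ⟨N, H, hN, hH, hNH, hs, hnc, fun p hp h1 h2 => hall p ⟨hp, h1, h2⟩⟩

end Cfsg.Agent.S3420
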