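import Mathlib
import Cfsg.Statements.S3437
import Cfsg.Agent.Lib.Helper19.Frob13
import Cfsg.Agent.Lib.Helper19.SL33
-- import your own Cfsg.Agent.* helpers here

set_option autoImplicit false
open Cfsg

namespace Cfsg.Agent.S3437

open Matrix

theorem center_eq_bot {F : Type*} [Field F] [Fintype F] (hF : Fintype.card F = 3) :
    Subgroup.center (Matrix.SpecialLinearGroup (Fin 3) F) = ⊥ := by
  rw [eq_bot_iff]
  intro A hA
  rw [Matrix.SpecialLinearGroup.mem_center_iff] at hA
  obtain ⟨r, hr, hrA⟩ := hA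
  rw [Subgroup.mem_bot]
  have h3 : r ^ 3 = r := by
    have := FiniteField.pow_card r
    rwa [hF] at this
  have hr1 : r = 1 := by
    rw [Fintype.card_fin] at hr
    rw [← h3, hr]
  rw [hr1, map_one] at hrA
  exact Subtype.ext hrA.symm

/-- the isomorphism `SL₃(F) ≃* SL₃(ZMod 3)` -/
noncomputable def slEquiv {F : Type*} [Field F] [Fintype F] (e : ZMod 3 ≃+* F) :
    Matrix.SpecialLinearGroup (Fin 3) F ≃* Matrix.SpecialLinearGroup (Fin 3) (ZMod 3) where
  toFun := Matrix.SpecialLinearGroup.map e.symm.toRingHom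
  invFun := Matrix.SpecialLinearGroup.map e.toRingHom
  left_inv y := by
    apply Subtype.ext
    ext i j
    simp [Matrix.SpecialLinearGroup.map_apply_coe]
  right_inv y := by
    apply Subtype.ext
    ext i j
    simp [Matrix.SpecialLinearGroup.map_apply_coe]
  map_mul' := map_mul _

theorem range_PSL {F : Type*} [Field F] [Fintype F] (hF : Fintype.card F = 3) :
    Set.range (orderOf : Matrix.ProjectiveSpecialLinearGroup (Fin 3) F → ℕ) =
      {1, 2, 3, 4, 6, 8, 13} := by
  have p3 : Nat.Prime 3 := by norm_num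
  let e : ZMod 3 ≃+* F := ZMod.ringEquivOfPrime F p3 hF
  let E := slEquiv e
  let q : Matrix.SpecialLinearGroup (Fin 3) F →* Matrix.ProjectiveSpecialLinearGroup (Fin 3) F :=
    QuotientGroup.mk' _
  have hq_inj : Function.Injective q := by
    rw [← MonoidHom.ker_eq_bot_iff, QuotientGroup.ker_mk', center_eq_bot hF]
  have hq_surj : Function.Surjective q := QuotientGroup.mk'_surjective _
  rw [← Cfsg.Agent.Lib.Helper19.SL33.range_orderOf_S33]
  ext k
  constructor
  · rintro ⟨y, rfl⟩
    obtain ⟨s, rfl⟩ := hq_surj y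
    exact ⟨E s, by rw [MulEquiv.orderOf_eq, orderOf_injective q hq_inj]⟩
  · rintro ⟨t, rfl⟩
    exact ⟨q (E.symm t), by rw [orderOf_injective q hq_inj, MulEquiv.orderOf_eq]⟩

/-- There is a finite solvable group with exactly the same set of element orders as the simple group PSL(3,3). -/
theorem result {F : Type*} [Field F] [Fintype F] (hF : Fintype.card F = 3) :
    ∃ (H : Type) (_ : Group H) (_ : Fintype H), Group.IsSolvable H ∧
      Set.range (orderOf : H → ℕ) = Set.range (orderOf : Matrix.ProjectiveSpecialLinearGroup (Fin 3) F → ℕ) := by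
  obtain ⟨H, iG, iF, hsol, hrange⟩ := Cfsg.Agent.Lib.Helper19.Frob13.exists_solvable_13
  exact ⟨H, iG, iF, hsol, by rw [hrange, range_PSL hF]⟩

end Cfsg.Agent.S3437
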