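import Mathlib
import Cfsg.Statements.S3438
import Cfsg.Agent.S0279
import Cfsg.Agent.Lib.Helper19.Frob7
import Cfsg.Agent.Lib.Helper19.SU33
-- import your own Cfsg.Agent.* helpers here

set_option autoImplicit false
open Cfsg

namespace Cfsg.Agent.S3438

open Matrix Cfsg.Agent.Lib.Helper19.SU33

theorem mem_SU_iff_pow {F : Type*} [Field F] [Fintype F] (hF : Fintype.card F = 9)
    (A : Matrix.SpecialLinearGroup (Fin 3) F) :
    A ∈ Cfsg.SU 3 F 3 ↔ (A.1)ᵀ * (A.1).map (· ^ 3) = 1 := by
  have hF' : Fintype.card F = 3 ^ 2 := by rw [hF]; norm_num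
  obtain ⟨σ, hσ⟩ := Cfsg.Agent.Lib.Lead.exists_frob hF'
  rw [Cfsg.Agent.S0279.mem_SU_iff' σ hσ]
  have h : (A.1).map σ = (A.1).map (· ^ 3) := by
    ext i j
    simp [hσ]
  rw [h]

noncomputable def slEquiv9 {F : Type*} [Field F] (e : F ≃+* F9) :
    Matrix.SpecialLinearGroup (Fin 3) F ≃* S39 where
  toFun := Matrix.SpecialLinearGroup.map e.toRingHom
  invFun := Matrix.SpecialLinearGroup.map e.symm.toRingHom
  left_inv y := by
    apply Subtype.ext
    ext i j <;> simp [Matrix.SpecialLinearGroup.map_apply_coe]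
  right_inv y := by
    apply Subtype.ext
    ext i j <;> simp [Matrix.SpecialLinearGroup.map_apply_coe]
  map_mul' := map_mul _

theorem slEquiv9_coe {F : Type*} [Field F] (e : F ≃+* F9)
    (A : Matrix.SpecialLinearGroup (Fin 3) F) : (slEquiv9 e A).1 = (A.1).map e := by
  ext i j <;> simp [slEquiv9, Matrix.SpecialLinearGroup.map_apply_coe]

theorem isU_iff {F : Type*} [Field F] [Fintype F] (hF : Fintype.card F = 9) (e : F ≃+* F9)
    (A : Matrix.SpecialLinearGroup (Fin 3) F) :
    A ∈ Cfsg.SU 3 F 3 ↔ IsU (slEquiv9 e A) := by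
  rw [mem_SU_iff_pow hF]
  unfold IsU
  rw [slEquiv9_coe]
  have h2 : ((A.1).map e).map (· ^ 3) = ((A.1).map (· ^ 3)).map e := by
    apply Matrix.ext
    intro i j
    simp only [Matrix.map_apply, map_pow]
  rw [h2, ← Matrix.transpose_map, ← Matrix.map_mul]
  constructor
  · intro h
    rw [h, Matrix.map_one e (map_zero e) (map_one e)]
  · intro h
    apply Matrix.map_injective e.injective
    show ((A.1)ᵀ * (A.1).map (· ^ 3)).map e = (1 : Matrix (Fin 3) (Fin 3) F).map e
    rw [h, Matrix.map_one e (map_zero e) (map_one e)]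

theorem center_SU_eq_bot {F : Type*} [Field F] [Fintype F] (hF : Fintype.card F = 9) :
    Subgroup.center (Cfsg.SU 3 F 3) = ⊥ := by
  have hF' : Fintype.card F = 3 ^ 2 := by rw [hF]; norm_num
  have h := Cfsg.Agent.S0279.card_center_SU (n := 3) hF' (by norm_num)
  rw [← Subgroup.card_eq_one, h]
  rfl

theorem range_PSU {F : Type*} [Field F] [Fintype F] (hF : Fintype.card F = 9) :
    Set.range (orderOf : Cfsg.PSU 3 F 3 → ℕ) = {1, 2, 3, 4, 6, 7, 8, 12} := by
  have hcard : Fintype.card F = Fintype.card F9 := by rw [hF, F9.card]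
  let e : F ≃+* F9 := FiniteField.ringEquivOfCardEq hcard
  let E := slEquiv9 e
  let q : Cfsg.SU 3 F 3 →* Cfsg.PSU 3 F 3 := QuotientGroup.mk' _
  have hq_inj : Function.Injective q := by
    rw [← MonoidHom.ker_eq_bot_iff, QuotientGroup.ker_mk', center_SU_eq_bot hF]
  have hq_surj : Function.Surjective q := QuotientGroup.mk'_surjective _
  have key : ∀ s : Cfsg.SU 3 F 3, orderOf (q s) = orderOf (E s.1) := by
    intro s
    rw [orderOf_injective q hq_inj, MulEquiv.orderOf_eq, Subgroup.orderOf_coe]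
  have lift : ∀ w : S39, IsU w → ∃ t : Cfsg.SU 3 F 3, orderOf t = orderOf w := by
    intro w hw
    have hmem : E.symm w ∈ Cfsg.SU 3 F 3 := by
      rw [isU_iff hF e]
      show IsU (E (E.symm w))
      rw [MulEquiv.apply_symm_apply]
      exact hw
    refine ⟨⟨E.symm w, hmem⟩, ?_⟩
    rw [← Subgroup.orderOf_coe]
    exact MulEquiv.orderOf_eq E.symm w
  have hq : ∀ t : Cfsg.SU 3 F 3, orderOf (q t) = orderOf t := fun t => orderOf_injective q hq_inj t
  obtain ⟨t7, h7⟩ := lift _ exists_isU_order7.choose_spec.1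
  obtain ⟨t8, h8⟩ := lift _ exists_isU_order8.choose_spec.1
  obtain ⟨t12, h12⟩ := lift _ exists_isU_order12.choose_spec.1
  rw [exists_isU_order7.choose_spec.2] at h7
  rw [exists_isU_order8.choose_spec.2] at h8
  rw [exists_isU_order12.choose_spec.2] at h12
  ext k
  constructor
  · rintro ⟨y, rfl⟩
    obtain ⟨s, rfl⟩ := hq_surj y
    rw [key]
    exact orderOf_mem_of_isU _ ((isU_iff hF e s.1).mp s.2)
  · simp only [Set.mem_insert_iff, Set.mem_singleton_iff]
    rintro (rfl | rfl | rfl | rfl | rfl | rfl | rfl | rfl)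
    · exact ⟨1, orderOf_one⟩
    · exact ⟨q (t12 ^ 6), by rw [hq, orderOf_pow' _ (by norm_num), h12]; norm_num⟩
    · exact ⟨q (t12 ^ 4), by rw [hq, orderOf_pow' _ (by norm_num), h12]; norm_num⟩
    · exact ⟨q (t12 ^ 3), by rw [hq, orderOf_pow' _ (by norm_num), h12]; norm_num⟩
    · exact ⟨q (t12 ^ 2), by rw [hq, orderOf_pow' _ (by norm_num), h12]; norm_num⟩
    · exact ⟨q t7, by rw [hq, h7]⟩
    · exact ⟨q t8, by rw [hq, h8]⟩
    · exact ⟨q t12, by rw [hq, h12]⟩

/-- There is a finite solvable group with exactly the same set of element orders as the simple group PSU(3,3) (realised over the field with 9 elements). -/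
theorem result {F : Type*} [Field F] [Fintype F] (hF : Fintype.card F = 9) :
    ∃ (H : Type) (_ : Group H) (_ : Fintype H), Group.IsSolvable H ∧ Set.range (orderOf : H → ℕ) = Set.range (orderOf : Cfsg.PSU 3 F 3 → ℕ) := by
  obtain ⟨H, iG, iF, hsol, hrange⟩ := Cfsg.Agent.Lib.Helper19.Frob7.exists_solvable_7
  exact ⟨H, iG, iF, hsol, by rw [hrange, range_PSU hF]⟩

end Cfsg.Agent.S3438
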