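import Mathlib
import Cfsg.Statements.S3439
import Cfsg.Agent.Lib.Helper19.TwoFrob
import Cfsg.Agent.Lib.Helper19.PSp43
-- import your own Cfsg.Agent.* helpers here

set_option autoImplicit false
open Cfsg

namespace Cfsg.Agent.S3439

open Matrix Cfsg.Agent.Lib.Helper19.PSp43

noncomputable def spEquiv {F : Type*} [Field F] (e : F ≃+* ZMod 3) :
    Matrix.symplecticGroup (Fin 2) F ≃* Matrix.symplecticGroup (Fin 2) (ZMod 3) where
  toFun A := ⟨A.1.map e, SymplecticGroup.map_mem A.2 e⟩
  invFun B := ⟨B.1.map e.symm, SymplecticGroup.map_mem B.2 e.symm⟩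
  left_inv A := by
    apply Subtype.ext
    ext i j
    simp
  right_inv B := by
    apply Subtype.ext
    ext i j
    simp
  map_mul' A B := by
    apply Subtype.ext
    exact Matrix.map_mul

theorem map_center {G H : Type*} [Group G] [Group H] (e : G ≃* H) :
    (Subgroup.center G).map e.toMonoidHom = Subgroup.center H := by
  ext y
  rw [Subgroup.mem_map, Subgroup.mem_center_iff]
  constructor
  · rintro ⟨x, hx, rfl⟩ h
    rw [Subgroup.mem_center_iff] at hx
    have := congrArg e (hx (e.symm h))
    rw [map_mul, map_mul, MulEquiv.apply_symm_apply] at this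
    exact this
  · intro hy
    refine ⟨e.symm y, ?_, MulEquiv.apply_symm_apply e y⟩
    rw [Subgroup.mem_center_iff]
    intro g
    apply e.injective
    rw [map_mul, map_mul, MulEquiv.apply_symm_apply]
    exact hy (e g)

theorem range_PSp {F : Type*} [Field F] [Fintype F] (hF : Fintype.card F = 3) :
    Set.range (orderOf : Cfsg.PSp 2 F → ℕ) = {1, 2, 3, 4, 5, 6, 9, 12} := by
  have p3 : Nat.Prime 3 := by norm_num
  let e : F ≃+* ZMod 3 := (ZMod.ringEquivOfPrime F p3 hF).symm
  let E := spEquiv e
  let Q : Cfsg.PSp 2 F ≃* PSpZ := QuotientGroup.congr _ _ E (map_center E)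
  rw [← range_orderOf_PSp43]
  ext k
  constructor
  · rintro ⟨y, rfl⟩
    exact ⟨Q y, MulEquiv.orderOf_eq Q y⟩
  · rintro ⟨z, rfl⟩
    exact ⟨Q.symm z, MulEquiv.orderOf_eq Q.symm z⟩

/-- There is a finite solvable group with exactly the same set of element orders as the simple group PSp(4,3). -/
theorem result {F : Type*} [Field F] [Fintype F] (hF : Fintype.card F = 3) :
    ∃ (H : Type) (_ : Group H) (_ : Fintype H), Group.IsSolvable H ∧ Set.range (orderOf : H → ℕ) = Set.range (orderOf : Cfsg.PSp 2 F → ℕ) := by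
  obtain ⟨H, iG, iF, hsol, hrange⟩ := Cfsg.Agent.Lib.Helper19.TwoFrob.exists_solvable_spectrum
  exact ⟨H, iG, iF, hsol, by rw [hrange, range_PSp hF]⟩

end Cfsg.Agent.S3439
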