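import Mathlib
import Cfsg.Statements.S3444
import Cfsg.Agent.Lib.Helper19.Isospectral

set_option autoImplicit false
open Cfsg

namespace Cfsg.Agent.S3444

theorem result {G : Type*} [Group G] [Finite G] (K : Subgroup G) [K.Normal] (hK : K ≠ ⊥)
    (hs : Group.IsSolvable K) (N : ℕ) :
    ∃ (H : Type) (_ : Group H) (_ : Fintype H), N < Fintype.card H ∧ Set.range (orderOf : H → ℕ) = Set.range (orderOf : G → ℕ) :=
  Cfsg.Agent.Lib.Helper19.exists_large_isospectral
    (Cfsg.Agent.Lib.Helper19.hasNEA_of_solvable_normal K hK hs) N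

end Cfsg.Agent.S3444
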