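import Mathlib
import Cfsg.Statements.S3448
import Cfsg.Agent.Lib.Helper19.A5Spec

set_option autoImplicit false
open Cfsg

namespace Cfsg.Agent.S3448

open Cfsg.Agent.Lib.Helper19

theorem result : Set.range (orderOf : alternatingGroup (Fin 5) × alternatingGroup (Fin 5) → ℕ) = {1, 2, 3, 5, 6, 10, 15} := by
  ext k
  simp only [Set.mem_range, Set.mem_insert_iff, Set.mem_singleton_iff]
  constructor
  · rintro ⟨⟨a, b⟩, rfl⟩
    rw [Prod.orderOf]
    rcases a5_orderOf_mem a with h | h | h | h <;> rcases a5_orderOf_mem b with h' | h' | h' | h' <;>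
      rw [h, h'] <;> decide
  · intro hk
    have key : ∀ i j : ℕ, (i = 1 ∨ i = 2 ∨ i = 3 ∨ i = 5) → (j = 1 ∨ j = 2 ∨ j = 3 ∨ j = 5) →
        ∃ y : alternatingGroup (Fin 5) × alternatingGroup (Fin 5), orderOf y = Nat.lcm i j := by
      intro i j hi hj
      obtain ⟨a, ha⟩ := a5_exists_order i hi
      obtain ⟨b, hb⟩ := a5_exists_order j hj
      exact ⟨(a, b), by rw [Prod.orderOf, ha, hb]⟩
    rcases hk with rfl | rfl | rfl | rfl | rfl | rfl | rfl
    · exact key 1 1 (by decide) (by decide)
    · exact key 2 1 (by decide) (by decide)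
    · exact key 3 1 (by decide) (by decide)
    · exact key 5 1 (by decide) (by decide)
    · exact key 2 3 (by decide) (by decide)
    · exact key 2 5 (by decide) (by decide)
    · exact key 3 5 (by decide) (by decide)

end Cfsg.Agent.S3448
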