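import Mathlib
import Cfsg.Statements.S3449
import Cfsg.Agent.Lib.Helper19.A5Spec

set_option autoImplicit false
open Cfsg

namespace Cfsg.Agent.S3449

open Cfsg.Agent.Lib.Helper19

theorem lhs_eq : Set.range (orderOf : alternatingGroup (Fin 5) × alternatingGroup (Fin 5) × alternatingGroup (Fin 5) → ℕ) =
    {1, 2, 3, 5, 6, 10, 15, 30} := by
  ext k
  simp only [Set.mem_range, Set.mem_insert_iff, Set.mem_singleton_iff]
  constructor
  · rintro ⟨⟨a, b, c⟩, rfl⟩
    rw [Prod.orderOf, Prod.orderOf]
    rcases a5_orderOf_mem a with h | h | h | h <;> rcases a5_orderOf_mem b with h' | h' | h' | h' <;>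
      rcases a5_orderOf_mem c with h'' | h'' | h'' | h'' <;>
      rw [h, h', h''] <;> decide
  · intro hk
    have key : ∀ i j l : ℕ, (i = 1 ∨ i = 2 ∨ i = 3 ∨ i = 5) → (j = 1 ∨ j = 2 ∨ j = 3 ∨ j = 5) →
        (l = 1 ∨ l = 2 ∨ l = 3 ∨ l = 5) →
        ∃ y : alternatingGroup (Fin 5) × alternatingGroup (Fin 5) × alternatingGroup (Fin 5),
          orderOf y = Nat.lcm i (Nat.lcm j l) := by
      intro i j l hi hj hl
      obtain ⟨a, ha⟩ := a5_exists_order i hi
      obtain ⟨b, hb⟩ := a5_exists_order j hj
      obtain ⟨c, hc⟩ := a5_exists_order l hl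
      exact ⟨(a, b, c), by rw [Prod.orderOf, Prod.orderOf, ha, hb, hc]⟩
    rcases hk with rfl | rfl | rfl | rfl | rfl | rfl | rfl | rfl
    · exact key 1 1 1 (by decide) (by decide) (by decide)
    · exact key 2 1 1 (by decide) (by decide) (by decide)
    · exact key 3 1 1 (by decide) (by decide) (by decide)
    · exact key 5 1 1 (by decide) (by decide) (by decide)
    · exact key 2 3 1 (by decide) (by decide) (by decide)
    · exact key 2 5 1 (by decide) (by decide) (by decide)
    · exact key 3 5 1 (by decide) (by decide) (by decide)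
    · exact key 2 3 5 (by decide) (by decide) (by decide)

theorem rhs_eq : Set.range (orderOf : Multiplicative (ZMod 30) → ℕ) = {1, 2, 3, 5, 6, 10, 15, 30} := by
  ext k
  simp only [Set.mem_range, Set.mem_insert_iff, Set.mem_singleton_iff]
  constructor
  · rintro ⟨x, rfl⟩
    have hdvd : orderOf x ∣ 30 := by
      have := orderOf_dvd_natCard x
      simpa using this
    have hmem : orderOf x ∈ Nat.divisors 30 := Nat.mem_divisors.mpr ⟨hdvd, by norm_num⟩
    have hdiv : Nat.divisors 30 = {1, 2, 3, 5, 6, 10, 15, 30} := by decide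
    rw [hdiv] at hmem
    simpa using hmem
  · intro hk
    have key : ∀ a : ℕ, ∃ x : Multiplicative (ZMod 30), orderOf x = 30 / Nat.gcd 30 a := by
      intro a
      refine ⟨Multiplicative.ofAdd (a : ZMod 30), ?_⟩
      rw [orderOf_ofAdd_eq_addOrderOf, ZMod.addOrderOf_coe a (by norm_num)]
    rcases hk with rfl | rfl | rfl | rfl | rfl | rfl | rfl | rfl
    · exact key 0
    · exact key 15
    · exact key 10
    · exact key 6
    · exact key 5
    · exact key 3
    · exact key 2
    · exact key 1

theorem result : Set.range (orderOf : alternatingGroup (Fin 5) × alternatingGroup (Fin 5) × alternatingGroup (Fin 5) → ℕ) =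
      Set.range (orderOf : Multiplicative (ZMod 30) → ℕ) := by
  rw [lhs_eq, rhs_eq]

end Cfsg.Agent.S3449
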