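import Mathlib
import Cfsg.Statements.S3452
import Cfsg.Agent.Lib.Helper19.PGL2SpecC
import Cfsg.Agent.Lib.Helper19.WeilE
import Cfsg.Agent.Lib.Helper19.FrobNineB
-- import your own Cfsg.Agent.* helpers here

set_option autoImplicit false
open Cfsg

namespace Cfsg.Agent.S3452

/-- For F a finite field whose number of elements is a prime or equals 9, the group PGL(2,F) = GL(2,F)/Z(GL(2,F)) is not determined by its set of element orders: for every bound N there is a finite group of order greater than N with exactly the same set of element orders as PGL(2,F). -/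
theorem result {F : Type*} [Field F] [Fintype F] (hF : (Fintype.card F).Prime ∨ Fintype.card F = 9) (N : ℕ) :
    ∃ (H : Type) (_ : Group H) (_ : Fintype H), N < Fintype.card H ∧
      Set.range (orderOf : H → ℕ) = Set.range (orderOf : Matrix.GeneralLinearGroup (Fin 2) F ⧸ Subgroup.center (Matrix.GeneralLinearGroup (Fin 2) F) → ℕ) := by
  classical
  obtain ⟨p, hchar⟩ := CharP.exists F
  have : Fact p.Prime := ⟨CharP.char_is_prime F p⟩
  have hpP : p.Prime := Fact.out
  obtain ⟨k, _, hcard⟩ := FiniteField.card F p
  rw [Cfsg.Agent.Lib.Helper19.PGL2Spec.spec p]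
  rcases hF with hq | hq
  · -- `|F| = p`
    have hk : (k : ℕ) = 1 := by
      by_contra hk
      rw [hcard] at hq
      exact Nat.Prime.not_prime_pow' hk hq
    rw [hk, pow_one] at hcard
    rw [hcard]
    by_cases h2 : p = 2
    · subst h2
      exact Cfsg.Agent.Lib.Helper19.FrobSpec.family_two N
    by_cases h3 : p = 3
    · subst h3
      exact Cfsg.Agent.Lib.Helper19.FrobSpec.family_three N
    have h5 : 5 ≤ p := by
      have h2' := hpP.two_le
      by_contra hlt
      have h4 : p = 4 := by omega
      rw [h4] at hpP
      exact absurd hpP (by norm_num)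
    exact Cfsg.Agent.Lib.Helper19.Weil.weil_family h5 N
  · -- `|F| = 9`
    have hp3 : p = 3 := by
      have h1 : p ∣ 3 ^ 2 := by
        have : p ∣ p ^ (k : ℕ) := dvd_pow_self p k.pos.ne'
        rw [← hcard, hq] at this
        exact this
      exact (Nat.prime_dvd_prime_iff_eq hpP Nat.prime_three).mp (hpP.dvd_of_dvd_pow h1)
    rw [hq, hp3]
    exact Cfsg.Agent.Lib.Helper19.FrobNine.family_nine N

end Cfsg.Agent.S3452
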