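import Cfsg.Statements.S3466
import Cfsg.Agent.S3444
import Cfsg.Agent.S3439
import Cfsg.Agent.Lib.helper23.P4S.Defs
import Cfsg.Agent.Lib.helper23.P4S.MainS
import Cfsg.Agent.Lib.helper23.P4S.MainC

set_option autoImplicit false
open Cfsg

namespace Cfsg.Agent.S3466

open Cfsg.Agent.Lib.helper23.P4S in
/-- Let F be a finite field with q ≥ 3 elements such that q is not of the form 3^(2t+1) with t ≥ 1. Then PSp(4,F) is not determined by its set of element orders, not even up to finitely many groups: for every bound N there is a finite group of order greater than N with exactly the same set of element orders as PSp(4,F). -/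
theorem result {F : Type*} [Field F] [Fintype F] (h3 : 3 ≤ Fintype.card F) (hq : ∀ t : ℕ, 1 ≤ t → Fintype.card F ≠ 3 ^ (2 * t + 1)) (N : ℕ) :
    ∃ (H : Type) (_ : Group H) (_ : Fintype H), N < Fintype.card H ∧ Set.range (orderOf : H → ℕ) = Set.range (orderOf : Cfsg.PSp 2 F → ℕ) := by
  classical
  by_cases h33 : Fintype.card F = 3
  · -- q = 3: landed S3439 gives a solvable group with the same spectrum
    obtain ⟨H, iG, iF, hsol, hr⟩ := Cfsg.Agent.S3439.result h33
    have hne : (⊤ : Subgroup H) ≠ ⊥ := by
      intro h
      -- then `H` is trivial, so its spectrum is `{1}`, but `PSp 2 F` has an element of order `2`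
      have h2 : (2 : ℕ) ∈ Set.range (orderOf : H → ℕ) := by
        rw [hr]
        haveI : Fact (Nat.Prime 3) := ⟨Nat.prime_three⟩
        haveI : CharP F 3 := by
          obtain ⟨p, hp⟩ := CharP.exists F
          haveI := hp
          have hpp : p.Prime := CharP.char_is_prime F p
          obtain ⟨n, hn, hcard⟩ := FiniteField.card F p
          rw [h33] at hcard
          have : p = 3 := by
            have h1 : p ∣ 3 := by
              rw [hcard]; exact dvd_pow_self p n.ne_zero
            exact (Nat.prime_dvd_prime_iff_eq hpp Nat.prime_three).1 h1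
          subst this; exact hp
        rw [psp4_spec 3 2, h33]
        right; left
        norm_num
      obtain ⟨x, hx⟩ := h2
      have hx1 : x = 1 := by
        have : x ∈ (⊤ : Subgroup H) := Subgroup.mem_top x
        rw [h] at this
        exact Subgroup.mem_bot.1 this
      rw [hx1, orderOf_one] at hx
      omega
    have hs : Group.IsSolvable (⊤ : Subgroup H) :=
      solvable_of_solvable_injective (Subgroup.subtype_injective _)
    obtain ⟨H', i1, i2, h1, h2⟩ := Cfsg.Agent.S3444.result (⊤ : Subgroup H) hne hs N
    exact ⟨H', i1, i2, h1, by rw [h2, hr]⟩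
  · obtain ⟨p, hp⟩ := CharP.exists F
    haveI := hp
    haveI hpp : Fact p.Prime := ⟨CharP.char_is_prime F p⟩
    obtain ⟨n, hn, hcard⟩ := FiniteField.card F p
    have hq4 : 4 ≤ p ^ (n : ℕ) := by
      rw [← hcard]; omega
    have hn3 : p = 3 → Even (n : ℕ) := by
      intro hp3
      by_contra hodd
      rw [Nat.not_even_iff_odd] at hodd
      obtain ⟨t, ht⟩ := hodd
      rcases Nat.eq_zero_or_pos t with h0 | h0
      · apply h33
        rw [hcard, hp3, ht, h0]
        norm_num
      · exact hq t h0 (by rw [hcard, hp3, ht])
    obtain ⟨G, iG, iF, K, hKn, hK, hKs, hG⟩ := constr p n n.pos hq4 hn3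
    obtain ⟨H', i1, i2, h1, h2⟩ := Cfsg.Agent.S3444.result K hK hKs N
    refine ⟨H', i1, i2, h1, ?_⟩
    rw [h2]
    ext m
    rw [hG m, psp4_spec p m, hcard]

end Cfsg.Agent.S3466
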