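import Mathlib
import Cfsg.Statements.S3488
import Cfsg.Agent.Lib.Helper19.A6Spec

set_option autoImplicit false
open Cfsg

namespace Cfsg.Agent.S3488

open Matrix Polynomial Equiv

section general

variable {F : Type*} [Field F]

/-- Cayley–Hamilton for an affine `3 × 3` matrix whose linear part has determinant one. -/
theorem affine_CH (a b c d e f : F) (hdet : a * d - b * c = 1) :
    (!![a,b,e;c,d,f;0,0,1] - 1) *
      (!![a,b,e;c,d,f;0,0,1] * !![a,b,e;c,d,f;0,0,1] - (a+d) • !![a,b,e;c,d,f;0,0,1] + 1) =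
      (0 : Matrix (Fin 3) (Fin 3) F) := by
  ext i j
  fin_cases i <;> fin_cases j <;> simp [Matrix.mul_apply, Fin.sum_univ_three, Matrix.one_apply]
  · linear_combination (-(a - 1)) * hdet
  · linear_combination (-b) * hdet
  · linear_combination (-e) * hdet
  · linear_combination (-c) * hdet
  · linear_combination (-(d - 1)) * hdet
  · linear_combination (-f) * hdet

theorem eq_aff (M : Matrix (Fin 3) (Fin 3) F) (h0 : M 2 0 = 0) (h1 : M 2 1 = 0) (h2 : M 2 2 = 1) :
    M = !![M 0 0, M 0 1, M 0 2; M 1 0, M 1 1, M 1 2; 0, 0, 1] := by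
  ext i j
  fin_cases i <;> fin_cases j <;> simp [h0, h1, h2]

theorem det_aff (M : Matrix (Fin 3) (Fin 3) F) (h0 : M 2 0 = 0) (h1 : M 2 1 = 0) (h2 : M 2 2 = 1) :
    M.det = M 0 0 * M 1 1 - M 0 1 * M 1 0 := by
  rw [Matrix.det_fin_three, h0, h1, h2]
  ring

/-- Cayley–Hamilton in the form `(M - 1) (M² - t M + 1) = 0`. -/
theorem affine_CH' (M : Matrix (Fin 3) (Fin 3) F) (h0 : M 2 0 = 0) (h1 : M 2 1 = 0) (h2 : M 2 2 = 1)
    (hdet : M.det = 1) :
    (M - 1) * (M * M - (M 0 0 + M 1 1) • M + 1) = 0 := by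
  have hd : M 0 0 * M 1 1 - M 0 1 * M 1 0 = 1 := by rw [← det_aff M h0 h1 h2, hdet]
  have := affine_CH (M 0 0) (M 0 1) (M 1 0) (M 1 1) (M 0 2) (M 1 2) hd
  rw [← eq_aff M h0 h1 h2] at this
  exact this

theorem aeval_P (M : Matrix (Fin 3) (Fin 3) F) (t : F) (h : (M - 1) * (M * M - t • M + 1) = 0) :
    aeval M ((X - 1) * (X ^ 2 - C t * X + 1) : F[X]) = 0 := by
  have : aeval M ((X - 1) * (X ^ 2 - C t * X + 1) : F[X]) = (M - 1) * (M * M - t • M + 1) := by
    simp only [map_mul, map_sub, map_add, map_one, aeval_X, aeval_C,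
      Algebra.algebraMap_eq_smul_one, smul_mul_assoc, one_mul, pow_two]
  rw [this, h]

theorem pow_eq_one_of_aeval (M : Matrix (Fin 3) (Fin 3) F) (k : ℕ) (P Q : F[X])
    (hPQ : (X ^ k - 1 : F[X]) = P * Q) (hP : aeval M P = 0) : M ^ k = 1 := by
  have : aeval M (X ^ k - 1 : F[X]) = 0 := by rw [hPQ, map_mul, hP, zero_mul]
  simpa [sub_eq_zero] using this

variable [Fintype F]

theorem two_eq_zero_of_card (hF : Fintype.card F = 4) : (2 : F) = 0 := by
  have h4 : ((Fintype.card F : ℕ) : F) = 0 := FiniteField.cast_card_eq_zero F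
  rw [hF] at h4
  have : (2 : F) * 2 = 0 := by
    have : ((4 : ℕ) : F) = 2 * 2 := by norm_num
    rw [← this]; exact h4
  rcases mul_eq_zero.mp this with h | h <;> exact h

theorem cases_of_card (hF : Fintype.card F = 4) (t : F) : t = 0 ∨ t = 1 ∨ t ^ 2 = t + 1 := by
  have h2 := two_eq_zero_of_card hF
  have h4 : t ^ 4 = t := by
    have := FiniteField.pow_card t
    rwa [hF] at this
  have : t * ((t - 1) * (t ^ 2 + t + 1)) = 0 := by linear_combination h4
  rcases mul_eq_zero.mp this with h | h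
  · left; exact h
  · rcases mul_eq_zero.mp h with h | h
    · right; left; exact sub_eq_zero.mp h
    · right; right
      linear_combination h - (t + 1) * h2

section pows

variable (hF : Fintype.card F = 4) (M : Matrix (Fin 3) (Fin 3) F)
    (h0 : M 2 0 = 0) (h1 : M 2 1 = 0) (h2 : M 2 2 = 1) (hdet : M.det = 1)

include hF h0 h1 h2 hdet

theorem aff_pow4 (ht : M 0 0 + M 1 1 = 0) : M ^ 4 = 1 := by
  have hP := aeval_P M _ (affine_CH' M h0 h1 h2 hdet)
  apply pow_eq_one_of_aeval M 4 _ (X + 1) _ hP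
  rw [ht, map_zero]
  ring

theorem aff_pow3 (ht : M 0 0 + M 1 1 = 1) : M ^ 3 = 1 := by
  have hP := aeval_P M _ (affine_CH' M h0 h1 h2 hdet)
  have hc2 : (2 : F) = 0 := two_eq_zero_of_card hF
  have hX2 : (2 : F[X]) = 0 := by
    have h : (2 : F[X]) = C (2 : F) := (C_ofNat 2).symm
    rw [h, hc2, map_zero]
  apply pow_eq_one_of_aeval M 3 _ 1 _ hP
  rw [ht, map_one]
  linear_combination (X ^ 2 - X) * hX2

theorem aff_pow5 (ht : (M 0 0 + M 1 1) ^ 2 = (M 0 0 + M 1 1) + 1) : M ^ 5 = 1 := by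
  have hP := aeval_P M _ (affine_CH' M h0 h1 h2 hdet)
  have hc2 : (2 : F) = 0 := two_eq_zero_of_card hF
  have hX2 : (2 : F[X]) = 0 := by
    have h : (2 : F[X]) = C (2 : F) := (C_ofNat 2).symm
    rw [h, hc2, map_zero]
  set t := M 0 0 + M 1 1 with htdef
  apply pow_eq_one_of_aeval M 5 _ (X ^ 2 + (C t + 1) * X + 1) _ hP
  have hT : (C t : F[X]) ^ 2 = C t + 1 := by
    rw [← map_pow, ht, map_add, map_one]
  linear_combination ((X - 1) * X ^ 2 * C t) * hX2 + ((X - 1) * X ^ 2) * hT

/-- Every affine matrix over `𝔽₄` with linear part of determinant one has order dividing `4`, `3` or `5`. -/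
theorem aff_pow : M ^ 4 = 1 ∨ M ^ 3 = 1 ∨ M ^ 5 = 1 := by
  rcases cases_of_card hF (M 0 0 + M 1 1) with h | h | h
  · exact Or.inl (aff_pow4 hF M h0 h1 h2 hdet h)
  · exact Or.inr (Or.inl (aff_pow3 hF M h0 h1 h2 hdet h))
  · exact Or.inr (Or.inr (aff_pow5 hF M h0 h1 h2 hdet h))

end pows

end general

section group

variable {F : Type*} [Field F]

/-- The set of affine matrices (last row `(0, 0, 1)`) in `SL₃(F)`. -/
def affSet (F : Type*) [Field F] : Set (Matrix.SpecialLinearGroup (Fin 3) F) :=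
  {M | (M : Matrix (Fin 3) (Fin 3) F) 2 0 = 0 ∧ (M : Matrix (Fin 3) (Fin 3) F) 2 1 = 0 ∧
    (M : Matrix (Fin 3) (Fin 3) F) 2 2 = 1}

theorem mem_affSet_of_mem_closure (x : Matrix.SpecialLinearGroup (Fin 3) F)
    (hx : x ∈ Subgroup.closure (affSet F)) : x ∈ affSet F := by
  induction hx using Subgroup.closure_induction with
  | mem x hx => exact hx
  | one => simp [affSet]
  | mul x y _ _ hx hy =>
    obtain ⟨a0, a1, a2⟩ := hx
    obtain ⟨b0, b1, b2⟩ := hy
    refine ⟨?_, ?_, ?_⟩ <;>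
      simp [Matrix.SpecialLinearGroup.coe_mul, Matrix.mul_apply, Fin.sum_univ_three, a0, a1, a2, b0, b1, b2]
  | inv x _ hx =>
    obtain ⟨a0, a1, a2⟩ := hx
    have hd := det_aff x.1 a0 a1 a2
    rw [x.2] at hd
    refine ⟨?_, ?_, ?_⟩ <;>
      simp [Matrix.SpecialLinearGroup.coe_inv, Matrix.adjugate_fin_three, a0, a1, a2]
    exact hd.symm

/-- The affine matrix with prescribed entries as an element of `SL₃(F)`. -/
def mkAff (a b c d e f : F) (h : a * d - b * c = 1) : Matrix.SpecialLinearGroup (Fin 3) F :=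
  ⟨!![a,b,e;c,d,f;0,0,1], by rw [Matrix.det_fin_three]; simp; linear_combination h⟩

theorem mkAff_mem (a b c d e f : F) (h : a * d - b * c = 1) : mkAff a b c d e f h ∈ affSet F := by
  refine ⟨?_, ?_, ?_⟩ <;> simp [mkAff]

theorem coe_pow_eq (x : Subgroup.closure (affSet F)) (k : ℕ) :
    (((x ^ k : Subgroup.closure (affSet F)) : Matrix.SpecialLinearGroup (Fin 3) F) :
      Matrix (Fin 3) (Fin 3) F) = (x.1.1) ^ k := by
  simp

theorem pow_eq_one_of_coe (x : Subgroup.closure (affSet F)) (k : ℕ) (h : (x.1.1) ^ k = 1) :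
    x ^ k = 1 := by
  apply Subtype.ext
  apply Subtype.ext
  rw [coe_pow_eq, h]
  simp

variable [Fintype F]

theorem orderOf_mem_of_closure (hF : Fintype.card F = 4) (x : Subgroup.closure (affSet F)) :
    orderOf x = 1 ∨ orderOf x = 2 ∨ orderOf x = 3 ∨ orderOf x = 4 ∨ orderOf x = 5 := by
  obtain ⟨h0, h1, h2⟩ := mem_affSet_of_mem_closure x.1 x.2
  rcases aff_pow hF x.1.1 h0 h1 h2 x.1.2 with h | h | h
  · have hd := orderOf_dvd_of_pow_eq_one (pow_eq_one_of_coe x 4 h)
    obtain ⟨m, hm, hmeq⟩ := (Nat.dvd_prime_pow Nat.prime_two (m := 2)).mp hd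
    interval_cases m
    · left; simpa using hmeq
    · right; left; simpa using hmeq
    · right; right; right; left; simpa using hmeq
  · have hd := orderOf_dvd_of_pow_eq_one (pow_eq_one_of_coe x 3 h)
    rcases (Nat.dvd_prime Nat.prime_three).mp hd with h1 | h1
    · left; exact h1
    · right; right; left; exact h1
  · have hd := orderOf_dvd_of_pow_eq_one (pow_eq_one_of_coe x 5 h)
    rcases (Nat.dvd_prime Nat.prime_five).mp hd with h1 | h1
    · left; exact h1
    · right; right; right; right; exact h1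

theorem exists_omega (hF : Fintype.card F = 4) : ∃ w : F, w ^ 2 = w + 1 := by
  classical
  by_contra hne
  have hall : ∀ t : F, t = 0 ∨ t = 1 := by
    intro t
    rcases cases_of_card hF t with h | h | h
    · exact Or.inl h
    · exact Or.inr h
    · exact absurd ⟨t, h⟩ hne
  have hle : Fintype.card F ≤ 2 := by
    calc Fintype.card F = (Finset.univ : Finset F).card := Finset.card_univ.symm
      _ ≤ ({0, 1} : Finset F).card :=
          Finset.card_le_card (by intro t _; rcases hall t with h | h <;> simp [h])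
      _ ≤ 2 := Finset.card_le_two
  omega

theorem sl_pow_eq_one (y : Matrix.SpecialLinearGroup (Fin 3) F) (k : ℕ) (h : y.1 ^ k = 1) :
    y ^ k = 1 := by
  apply Subtype.ext
  rw [Matrix.SpecialLinearGroup.coe_pow, h]
  rfl

theorem exists_orderOf_closure (y : Matrix.SpecialLinearGroup (Fin 3) F) (hy : y ∈ affSet F) :
    ∃ x : Subgroup.closure (affSet F), orderOf x = orderOf y :=
  ⟨⟨y, Subgroup.subset_closure hy⟩, Subgroup.orderOf_mk y _⟩

theorem exists_order3 (hF : Fintype.card F = 4) :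
    ∃ x : Subgroup.closure (affSet F), orderOf x = 3 := by
  set y : Matrix.SpecialLinearGroup (Fin 3) F := mkAff 0 (-1) 1 1 0 0 (by ring) with hy
  have hmem : y ∈ affSet F := mkAff_mem _ _ _ _ _ _ _
  obtain ⟨x, hx⟩ := exists_orderOf_closure y hmem
  refine ⟨x, ?_⟩
  rw [hx]
  have : Fact (Nat.Prime 3) := ⟨Nat.prime_three⟩
  apply orderOf_eq_prime
  · apply sl_pow_eq_one
    exact aff_pow3 hF y.1 hmem.1 hmem.2.1 hmem.2.2 y.2 (by simp [hy, mkAff])
  · intro h
    have := congrArg (fun m : Matrix.SpecialLinearGroup (Fin 3) F => m.1 0 0) h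
    simp [hy, mkAff] at this

theorem exists_order5 (hF : Fintype.card F = 4) :
    ∃ x : Subgroup.closure (affSet F), orderOf x = 5 := by
  obtain ⟨w, hw⟩ := exists_omega hF
  set y : Matrix.SpecialLinearGroup (Fin 3) F := mkAff 0 (-1) 1 w 0 0 (by ring) with hy
  have hmem : y ∈ affSet F := mkAff_mem _ _ _ _ _ _ _
  obtain ⟨x, hx⟩ := exists_orderOf_closure y hmem
  refine ⟨x, ?_⟩
  rw [hx]
  have : Fact (Nat.Prime 5) := ⟨Nat.prime_five⟩
  apply orderOf_eq_prime
  · apply sl_pow_eq_one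
    exact aff_pow5 hF y.1 hmem.1 hmem.2.1 hmem.2.2 y.2 (by simpa [hy, mkAff] using hw)
  · intro h
    have := congrArg (fun m : Matrix.SpecialLinearGroup (Fin 3) F => m.1 0 0) h
    simp [hy, mkAff] at this

theorem exists_order4 (hF : Fintype.card F = 4) :
    ∃ x : Subgroup.closure (affSet F), orderOf x = 4 := by
  have h2 : (2 : F) = 0 := two_eq_zero_of_card hF
  set y : Matrix.SpecialLinearGroup (Fin 3) F := mkAff 1 1 0 1 0 1 (by ring) with hy
  have hmem : y ∈ affSet F := mkAff_mem _ _ _ _ _ _ _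
  obtain ⟨x, hx⟩ := exists_orderOf_closure y hmem
  refine ⟨x, ?_⟩
  rw [hx]
  have : Fact (Nat.Prime 2) := ⟨Nat.prime_two⟩
  have key := orderOf_eq_prime_pow (x := y) (p := 2) (n := 1) ?_ ?_
  · simpa using key
  · intro h
    have := congrArg (fun m : Matrix.SpecialLinearGroup (Fin 3) F => m.1 0 2) h
    simp only [pow_one, Matrix.SpecialLinearGroup.coe_pow] at this
    simp [hy, mkAff, pow_two, Matrix.mul_apply, Fin.sum_univ_three] at this
  · apply sl_pow_eq_one
    exact aff_pow4 hF y.1 hmem.1 hmem.2.1 hmem.2.2 y.2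
      (by simp only [hy, mkAff]; simp; linear_combination h2)

theorem exists_order2 (hF : Fintype.card F = 4) :
    ∃ x : Subgroup.closure (affSet F), orderOf x = 2 := by
  obtain ⟨x, hx⟩ := exists_order4 hF
  refine ⟨x ^ 2, ?_⟩
  rw [orderOf_pow' x (by norm_num), hx]
  rfl

theorem spec_closure (hF : Fintype.card F = 4) :
    Set.range (orderOf : Subgroup.closure (affSet F) → ℕ) = {1, 2, 3, 4, 5} := by
  ext n
  simp only [Set.mem_range, Set.mem_insert_iff, Set.mem_singleton_iff]
  constructor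
  · rintro ⟨x, rfl⟩
    exact orderOf_mem_of_closure hF x
  · rintro (rfl | rfl | rfl | rfl | rfl)
    · exact ⟨1, orderOf_one⟩
    · exact exists_order2 hF
    · exact exists_order3 hF
    · exact exists_order4 hF
    · exact exists_order5 hF

end group

/-- The subgroup of SL₃(F) (|F| = 4) generated by all matrices whose last row is (0, 0, 1) has the same set of element orders as the alternating group A₆. -/
theorem result {F : Type*} [Field F] [Fintype F] (hF : Fintype.card F = 4) :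
    Set.range (orderOf : Subgroup.closure {M : Matrix.SpecialLinearGroup (Fin 3) F |
        (M : Matrix (Fin 3) (Fin 3) F) 2 0 = 0 ∧ (M : Matrix (Fin 3) (Fin 3) F) 2 1 = 0 ∧ (M : Matrix (Fin 3) (Fin 3) F) 2 2 = 1} → ℕ) =
      Set.range (orderOf : alternatingGroup (Fin 6) → ℕ) := by
  rw [Cfsg.Agent.Lib.Helper19.a6_spec]
  exact spec_closure hF

end Cfsg.Agent.S3488
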