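import Mathlib
import Cfsg.Statements.S3491
import Cfsg.Agent.S3488
import Cfsg.Agent.Lib.Helper19.Isospectral

set_option autoImplicit false
open Cfsg

namespace Cfsg.Agent.S3491

open Cfsg.Agent.S3488 Cfsg.Agent.Lib.Helper19 Matrix

section

variable {F : Type*} [Field F]

/-- The linear part of an affine matrix, as a monoid homomorphism. -/
def linPart : Subgroup.closure (affSet F) →* Matrix (Fin 2) (Fin 2) F where
  toFun x := !![x.1.1 0 0, x.1.1 0 1; x.1.1 1 0, x.1.1 1 1]
  map_one' := by
    ext i j
    fin_cases i <;> fin_cases j <;> simp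
  map_mul' x y := by
    obtain ⟨h0, h1, h2⟩ := mem_affSet_of_mem_closure y.1 y.2
    ext i j
    fin_cases i <;> fin_cases j <;>
      simp [Matrix.mul_apply, Fin.sum_univ_three, Fin.sum_univ_two, h0, h1]

theorem coe_of_mem_ker (x : Subgroup.closure (affSet F)) (hx : x ∈ (linPart (F := F)).ker) :
    x.1.1 = !![1, 0, x.1.1 0 2; 0, 1, x.1.1 1 2; 0, 0, 1] := by
  obtain ⟨h0, h1, h2⟩ := mem_affSet_of_mem_closure x.1 x.2
  rw [MonoidHom.mem_ker] at hx
  have e00 : x.1.1 0 0 = 1 := by
    have := congrFun (congrFun hx 0) 0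
    simpa [linPart] using this
  have e01 : x.1.1 0 1 = 0 := by
    have := congrFun (congrFun hx 0) 1
    simpa [linPart] using this
  have e10 : x.1.1 1 0 = 0 := by
    have := congrFun (congrFun hx 1) 0
    simpa [linPart] using this
  have e11 : x.1.1 1 1 = 1 := by
    have := congrFun (congrFun hx 1) 1
    simpa [linPart] using this
  have := eq_aff x.1.1 h0 h1 h2
  rw [e00, e01, e10, e11] at this
  exact this

theorem hasNEA_closure [Fintype F] (hF : Fintype.card F = 4) :
    HasNEA (Subgroup.closure (affSet F)) := by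
  have h2 : (2 : F) = 0 := two_eq_zero_of_card hF
  refine ⟨(linPart (F := F)).ker, 2, MonoidHom.normal_ker _, ?_, Nat.prime_two, ?_, ?_⟩
  · -- nontrivial
    intro hbot
    set y : Matrix.SpecialLinearGroup (Fin 3) F := mkAff 1 0 0 1 1 0 (by ring) with hy
    have hmem : y ∈ affSet F := mkAff_mem _ _ _ _ _ _ _
    set x : Subgroup.closure (affSet F) := ⟨y, Subgroup.subset_closure hmem⟩ with hx
    have hxk : x ∈ (linPart (F := F)).ker := by
      rw [MonoidHom.mem_ker]
      ext i j
      fin_cases i <;> fin_cases j <;> simp [linPart, hx, hy, mkAff]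
    rw [hbot, Subgroup.mem_bot] at hxk
    have := congrArg (fun m : Subgroup.closure (affSet F) => m.1.1 0 2) hxk
    simp [hx, hy, mkAff] at this
  · rintro ⟨x, hx⟩ ⟨y, hy⟩
    apply Subtype.ext
    apply Subtype.ext
    apply Subtype.ext
    show x.1.1 * y.1.1 = y.1.1 * x.1.1
    rw [coe_of_mem_ker x hx, coe_of_mem_ker y hy]
    ext i j
    fin_cases i <;> fin_cases j <;> simp [Matrix.mul_apply, Fin.sum_univ_three, add_comm]
  · rintro ⟨x, hx⟩
    apply Subtype.ext
    apply Subtype.ext
    apply Subtype.ext
    show x.1.1 ^ 2 = 1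
    rw [coe_of_mem_ker x hx, pow_two]
    ext i j
    fin_cases i <;> fin_cases j <;> simp [Matrix.mul_apply, Fin.sum_univ_three]
    · linear_combination (x.1.1 0 2) * h2
    · linear_combination (x.1.1 1 2) * h2

end

/-- For every natural number N there is a finite group of order greater than N whose set of element orders equals that of the alternating group of degree 6. -/
theorem result (N : ℕ) : ∃ (H : Type) (_ : Group H) (_ : Fintype H), N < Fintype.card H ∧ Set.range (orderOf : H → ℕ) = Set.range (orderOf : alternatingGroup (Fin 6) → ℕ) := by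
  have : Fintype (GaloisField 2 2) := Fintype.ofFinite _
  have hF : Fintype.card (GaloisField 2 2) = 4 := by
    rw [← Nat.card_eq_fintype_card, GaloisField.card 2 2 (by norm_num)]
    norm_num
  obtain ⟨H, iG, iF, hN, hspec⟩ := exists_large_isospectral (hasNEA_closure hF) N
  refine ⟨H, iG, iF, hN, hspec.trans ?_⟩
  exact Cfsg.Agent.S3488.result hF

end Cfsg.Agent.S3491
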