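import Mathlib
import Cfsg.Statements.S3494
-- import your own Cfsg.Agent.* helpers here

set_option autoImplicit false
open Cfsg

namespace Cfsg.Agent.S3494

open MulAction
open scoped Pointwise

section aux

variable {G : Type*} [Group G] {Ω : Type*} [MulAction G Ω]

/-- Fibres of an "equivariant" map are blocks; in a primitive action a fibre with two points is everything. -/
theorem fiber_eq_univ {Y : Type*} (F : Ω → Y)
    (hF : ∀ (g : G) (ξ η : Ω), F ξ = F η → F (g • ξ) = F (g • η))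
    (hprim : IsPreprimitive G Ω) (ξ η : Ω) (hne : ξ ≠ η) (h : F ξ = F η) : ∀ ζ, F ζ = F ξ := by
  set B : Set Ω := {ζ | F ζ = F ξ} with hB
  have hblock : IsBlock G B := by
    rw [isBlock_iff_smul_eq_of_mem]
    intro g a ha hga
    ext x
    constructor
    · rintro ⟨b, hb, rfl⟩
      show F (g • b) = F ξ
      have h1 : F b = F a := by rw [show F b = F ξ from hb, show F a = F ξ from ha]
      rw [hF g b a h1]
      exact hga
    · intro hx
      refine ⟨g⁻¹ • x, ?_, by simp⟩
      show F (g⁻¹ • x) = F ξ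
      have h1 : F x = F (g • a) := by rw [show F x = F ξ from hx, show F (g • a) = F ξ from hga]
      have h2 := hF g⁻¹ x (g • a) h1
      rw [inv_smul_smul] at h2
      rw [h2]
      exact ha
  rcases hprim.isTrivialBlock_of_isBlock hblock with hsub | huniv
  · exact absurd (hsub (show ξ ∈ B from rfl) (show η ∈ B from h.symm)) hne
  · intro ζ
    have : ζ ∈ B := by rw [huniv]; exact Set.mem_univ ζ
    exact this

/-- The orbital of the pair `(α, ω)`. -/
def Orb (G : Type*) [Group G] {Ω : Type*} [MulAction G Ω] (α ω : Ω) : Set (Ω × Ω) :=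
  {p | ∃ g : G, g • α = p.1 ∧ g • ω = p.2}

theorem Orb_smul_iff (α ω : Ω) (g : G) (ξ η : Ω) :
    (g • ξ, g • η) ∈ Orb G α ω ↔ (ξ, η) ∈ Orb G α ω := by
  constructor
  · rintro ⟨x, hx1, hx2⟩
    refine ⟨g⁻¹ * x, ?_, ?_⟩
    · show (g⁻¹ * x) • α = ξ
      rw [mul_smul, hx1, inv_smul_smul]
    · show (g⁻¹ * x) • ω = η
      rw [mul_smul, hx2, inv_smul_smul]
  · rintro ⟨x, hx1, hx2⟩
    refine ⟨g * x, ?_, ?_⟩
    · show (g * x) • α = g • ξ
      rw [mul_smul, hx1]
    · show (g * x) • ω = g • η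
      rw [mul_smul, hx2]

theorem Orb_base (α ω : Ω) : (α, ω) ∈ Orb G α ω := ⟨1, one_smul _ _, one_smul _ _⟩

/-- The kernel of `G_ξ` on the out-neighbours of `ξ`. -/
def Kx (G : Type*) [Group G] {Ω : Type*} [MulAction G Ω] (α ω ξ : Ω) : Subgroup G where
  carrier := {x | x • ξ = ξ ∧ ∀ η, (ξ, η) ∈ Orb G α ω → x • η = η}
  one_mem' := ⟨one_smul _ _, fun _ _ => one_smul _ _⟩
  mul_mem' := fun {a b} ha hb => ⟨by rw [mul_smul, hb.1, ha.1], fun η hη => by
    rw [mul_smul, hb.2 η hη, ha.2 η hη]⟩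
  inv_mem' := fun {a} ha => ⟨by rw [inv_smul_eq_iff, ha.1], fun η hη => by
    rw [inv_smul_eq_iff, ha.2 η hη]⟩

theorem mem_Kx (α ω ξ : Ω) (x : G) :
    x ∈ Kx G α ω ξ ↔ x • ξ = ξ ∧ ∀ η, (ξ, η) ∈ Orb G α ω → x • η = η := Iff.rfl

theorem mem_Kx_smul_iff (α ω ξ : Ω) (g x : G) :
    x ∈ Kx G α ω (g • ξ) ↔ g⁻¹ * x * g ∈ Kx G α ω ξ := by
  rw [mem_Kx, mem_Kx]
  constructor
  · rintro ⟨h1, h2⟩
    refine ⟨?_, fun η hη => ?_⟩
    · rw [mul_smul, mul_smul, h1, inv_smul_smul]
    · have := h2 (g • η) ((Orb_smul_iff α ω g ξ η).mpr hη)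
      rw [mul_smul, mul_smul, this, inv_smul_smul]
  · rintro ⟨h1, h2⟩
    refine ⟨?_, fun η hη => ?_⟩
    · rw [mul_smul, mul_smul, inv_smul_eq_iff] at h1
      exact h1
    · have hη' : (ξ, g⁻¹ • η) ∈ Orb G α ω := by
        rw [← Orb_smul_iff α ω g, smul_inv_smul]
        exact hη
      have := h2 _ hη'
      rw [mul_smul, mul_smul, smul_inv_smul, inv_smul_eq_iff, smul_inv_smul] at this
      exact this

theorem card_Kx_smul (α ω ξ : Ω) (g : G) :
    Nat.card (Kx G α ω (g • ξ)) = Nat.card (Kx G α ω ξ) := by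
  apply Nat.card_congr
  refine
    { toFun := fun x => ⟨g⁻¹ * x.1 * g, (mem_Kx_smul_iff α ω ξ g x.1).mp x.2⟩
      invFun := fun y => ⟨g * y.1 * g⁻¹, (mem_Kx_smul_iff α ω ξ g _).mpr (by
        have : g⁻¹ * (g * y.1 * g⁻¹) * g = y.1 := by group
        rw [this]; exact y.2)⟩
      left_inv := fun x => by apply Subtype.ext; simp only []; group
      right_inv := fun y => by apply Subtype.ext; simp only []; group }

open Classical in
/-- In-degree equals out-degree in an orbital graph of a transitive action on a finite set. -/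
theorem deg_eq [Fintype Ω] (htr : IsPretransitive G Ω) (α ω : Ω) (ξ₀ η₀ : Ω) :
    (Finset.univ.filter (fun η => (ξ₀, η) ∈ Orb G α ω)).card =
      (Finset.univ.filter (fun ξ => (ξ, η₀) ∈ Orb G α ω)).card := by
  have hout : ∀ ξ : Ω, (Finset.univ.filter (fun η => (ξ, η) ∈ Orb G α ω)).card =
      (Finset.univ.filter (fun η => (α, η) ∈ Orb G α ω)).card := by
    intro ξ
    obtain ⟨g, rfl⟩ := htr.exists_smul_eq α ξ
    symm
    apply Finset.card_bij (fun η _ => g • η)
    · intro η hη
      simp only [Finset.mem_filter, Finset.mem_univ, true_and] at hη ⊢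
      exact (Orb_smul_iff α ω g α η).mpr hη
    · intro a _ b _ hab
      exact smul_left_cancel g hab
    · intro η hη
      simp only [Finset.mem_filter, Finset.mem_univ, true_and] at hη
      refine ⟨g⁻¹ • η, ?_, smul_inv_smul g η⟩
      simp only [Finset.mem_filter, Finset.mem_univ, true_and]
      rw [← Orb_smul_iff α ω g, smul_inv_smul]
      exact hη
  have hin : ∀ η : Ω, (Finset.univ.filter (fun ξ => (ξ, η) ∈ Orb G α ω)).card =
      (Finset.univ.filter (fun ξ => (ξ, α) ∈ Orb G α ω)).card := by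
    intro η
    obtain ⟨g, rfl⟩ := htr.exists_smul_eq α η
    symm
    apply Finset.card_bij (fun ξ _ => g • ξ)
    · intro ξ hξ
      simp only [Finset.mem_filter, Finset.mem_univ, true_and] at hξ ⊢
      exact (Orb_smul_iff α ω g ξ α).mpr hξ
    · intro a _ b _ hab
      exact smul_left_cancel g hab
    · intro ξ hξ
      simp only [Finset.mem_filter, Finset.mem_univ, true_and] at hξ
      refine ⟨g⁻¹ • ξ, ?_, smul_inv_smul g ξ⟩
      simp only [Finset.mem_filter, Finset.mem_univ, true_and]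
      rw [← Orb_smul_iff α ω g, smul_inv_smul]
      exact hξ
  have hsum := Finset.sum_card_bipartiteAbove_eq_sum_card_bipartiteBelow
    (s := (Finset.univ : Finset Ω)) (t := (Finset.univ : Finset Ω)) (fun ξ η => (ξ, η) ∈ Orb G α ω)
  simp only [Finset.bipartiteAbove, Finset.bipartiteBelow] at hsum
  rw [Finset.sum_congr rfl (fun ξ _ => hout ξ), Finset.sum_congr rfl (fun η _ => hin η),
    Finset.sum_const, Finset.sum_const, smul_eq_mul, smul_eq_mul] at hsum
  have hpos : 0 < (Finset.univ : Finset Ω).card := Finset.card_pos.mpr ⟨α, Finset.mem_univ α⟩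
  rw [hout ξ₀, hin η₀]
  exact Nat.eq_of_mul_eq_mul_left hpos hsum

/-- Main theorem: in an extremely primitive group, the kernel of `G_α` on a nontrivial suborbit is trivial. -/
theorem Kx_eq_bot [Finite G] [Fintype Ω] [FaithfulSMul G Ω] (hprim : IsPreprimitive G Ω)
    (hep : ∀ (α : Ω) (ω : Ω), IsPreprimitive (stabilizer G α) (orbit (stabilizer G α) ω))
    (α ω : Ω) (hω : ω ≠ α) : Kx G α ω α = ⊥ := by
  classical
  have htr : IsPretransitive G Ω := hprim.toIsPretransitive
  have hF : ∀ (g : G) (ξ η : Ω), Kx G α ω ξ = Kx G α ω η → Kx G α ω (g • ξ) = Kx G α ω (g • η) := by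
    intro g ξ η h
    ext x
    rw [mem_Kx_smul_iff, mem_Kx_smul_iff, h]
  by_cases hA : ∀ β, (α, β) ∈ Orb G α ω → ∀ δ, (β, δ) ∈ Orb G α ω → ∀ k ∈ Kx G α ω α, k • δ = δ
  · -- Case A: `K(α) ≤ K(ω)`, hence equal, hence normal in `G`
    have hle : Kx G α ω α ≤ Kx G α ω ω := fun k hk =>
      ⟨hk.2 ω (Orb_base α ω), fun δ hδ => hA ω (Orb_base α ω) δ hδ k hk⟩
    obtain ⟨g, hg⟩ := htr.exists_smul_eq α ω
    have hcard : Nat.card (Kx G α ω ω) ≤ Nat.card (Kx G α ω α) := by
      rw [← hg, card_Kx_smul]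
    have heq : Kx G α ω α = Kx G α ω ω := Subgroup.eq_of_le_of_card_ge hle hcard
    have hall := fiber_eq_univ (G := G) (fun ξ => Kx G α ω ξ) hF hprim α ω hω.symm heq
    rw [eq_bot_iff]
    intro k hk
    rw [Subgroup.mem_bot]
    apply eq_of_smul_eq_smul (α := Ω)
    intro ζ
    rw [one_smul]
    have : k ∈ Kx G α ω ζ := by rw [hall ζ]; exact hk
    exact this.1
  · -- Case B
    exfalso
    simp only [not_forall] at hA
    obtain ⟨β, hβ, δ, hδ, k, hk, hkδ⟩ := hA
    -- `K(α)` is normal in `G_α`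
    have hnorm : ((Kx G α ω α).subgroupOf (stabilizer G α)).Normal := by
      constructor
      intro n hn g
      rw [Subgroup.mem_subgroupOf] at hn ⊢
      have hgα : (g : G) • α = α := g.2
      have h1 := (mem_Kx_smul_iff α ω α (g : G) ((g : G) * n * (g : G)⁻¹))
      rw [hgα] at h1
      rw [Subgroup.coe_mul, Subgroup.coe_mul, Subgroup.coe_inv, h1]
      have : (g : G)⁻¹ * ((g : G) * n * (g : G)⁻¹) * (g : G) = n := by group
      rw [this]
      exact hn
    -- `K(α)` is transitive on the `G_α`-orbit of `δ`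
    have htrans : ∀ δ' ∈ orbit (stabilizer G α) δ, ∃ k' ∈ Kx G α ω α, k' • δ = δ' := by
      intro δ' hδ'
      let a : orbit (stabilizer G α) δ := ⟨δ, mem_orbit_self δ⟩
      have hblock := IsBlock.orbit_of_normal (G := stabilizer G α)
        (N := (Kx G α ω α).subgroupOf (stabilizer G α)) a
      rcases (hep α δ).isTrivialBlock_of_isBlock hblock with hsub | huniv
      · exfalso
        have hkstab : k ∈ stabilizer G α := hk.1
        let k' : (Kx G α ω α).subgroupOf (stabilizer G α) := ⟨⟨k, hkstab⟩, hk⟩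
        have h1 : k' • a ∈ orbit ((Kx G α ω α).subgroupOf (stabilizer G α)) a := mem_orbit a k'
        have h2 : a ∈ orbit ((Kx G α ω α).subgroupOf (stabilizer G α)) a := mem_orbit_self a
        have h3 := hsub h1 h2
        have h4 : ((k' • a : orbit (stabilizer G α) δ) : Ω) = k • δ := rfl
        apply hkδ
        rw [← h4, h3]
      · have hmem : (⟨δ', hδ'⟩ : orbit (stabilizer G α) δ) ∈
            orbit ((Kx G α ω α).subgroupOf (stabilizer G α)) a := by
          rw [huniv]; exact Set.mem_univ _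
        obtain ⟨n, hn⟩ := hmem
        refine ⟨((n : stabilizer G α) : G), n.2, ?_⟩
        have := congrArg Subtype.val hn
        exact this
    -- every point of the `G_α`-orbit of `δ` is an out-neighbour of every out-neighbour of `α`
    have hsub2 : ∀ β', (α, β') ∈ Orb G α ω → ∀ δ' ∈ orbit (stabilizer G α) δ, (β', δ') ∈ Orb G α ω := by
      intro β' hβ' δ' hδ'
      obtain ⟨x, hx1, hx2⟩ := hβ'
      obtain ⟨y, hy1, hy2⟩ := hβ
      -- z := x * y⁻¹ fixes α and maps β to β'
      have hzα : (x * y⁻¹) • α = α := by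
        simp only [] at hx1 hy1
        rw [mul_smul, inv_smul_eq_iff.mpr hy1.symm, hx1]
      have hzβ : (x * y⁻¹) • β = β' := by
        simp only [] at hx2 hy2
        rw [mul_smul, ← hy2, inv_smul_smul, hx2]
      -- δ'' := z⁻¹ • δ' is in the orbit of δ
      have hδ'' : (x * y⁻¹)⁻¹ • δ' ∈ orbit (stabilizer G α) δ := by
        obtain ⟨s, hs⟩ := hδ'
        have hzinv : (x * y⁻¹)⁻¹ ∈ stabilizer G α := by
          rw [mem_stabilizer_iff, inv_smul_eq_iff, hzα]
        refine ⟨⟨(x * y⁻¹)⁻¹, hzinv⟩ * s, ?_⟩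
        show ((x * y⁻¹)⁻¹ * (s : G)) • δ = (x * y⁻¹)⁻¹ • δ'
        rw [mul_smul]
        have hs' : (s : G) • δ = δ' := hs
        rw [hs']
      obtain ⟨k', hk', hk'δ⟩ := htrans _ hδ''
      -- (β, k' • δ) ∈ Orb since k' fixes β
      have h1 : (β, (x * y⁻¹)⁻¹ • δ') ∈ Orb G α ω := by
        rw [← hk'δ]
        have hk'β : k' • β = β := hk'.2 β ⟨y, hy1, hy2⟩
        have := (Orb_smul_iff α ω k' β δ).mpr hδ
        rwa [hk'β] at this
      have h2 := (Orb_smul_iff α ω (x * y⁻¹) β ((x * y⁻¹)⁻¹ • δ')).mpr h1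
      rwa [hzβ, smul_inv_smul] at h2
    -- in-neighbourhoods of points of the orbit of δ all equal the out-neighbourhood of α
    have hin : ∀ δ' ∈ orbit (stabilizer G α) δ, ∀ ξ, (ξ, δ') ∈ Orb G α ω ↔ (α, ξ) ∈ Orb G α ω := by
      intro δ' hδ' ξ
      have hsubset : (Finset.univ.filter (fun η => (α, η) ∈ Orb G α ω)) ⊆
          (Finset.univ.filter (fun ξ => (ξ, δ') ∈ Orb G α ω)) := by
        intro η hη
        simp only [Finset.mem_filter, Finset.mem_univ, true_and] at hη ⊢
        exact hsub2 η hη δ' hδ'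
      have hcard := deg_eq htr α ω α δ'
      have heq := Finset.eq_of_subset_of_card_le hsubset (le_of_eq hcard.symm)
      have := Finset.ext_iff.mp heq ξ
      simp only [Finset.mem_filter, Finset.mem_univ, true_and] at this
      exact this.symm
    -- two distinct points with the same in-neighbourhood
    have hkδmem : k • δ ∈ orbit (stabilizer G α) δ := ⟨⟨k, hk.1⟩, rfl⟩
    have hFin : ∀ (g : G) (ξ η : Ω), {ζ | (ζ, ξ) ∈ Orb G α ω} = {ζ | (ζ, η) ∈ Orb G α ω} →
        {ζ | (ζ, g • ξ) ∈ Orb G α ω} = {ζ | (ζ, g • η) ∈ Orb G α ω} := by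
      intro g ξ η h
      ext ζ
      simp only [Set.mem_ofPred_eq]
      have h1 := Set.ext_iff.mp h (g⁻¹ • ζ)
      simp only [Set.mem_ofPred_eq] at h1
      rw [← Orb_smul_iff α ω g (g⁻¹ • ζ) ξ, ← Orb_smul_iff α ω g (g⁻¹ • ζ) η, smul_inv_smul] at h1
      exact h1
    have heq2 : {ζ | (ζ, δ) ∈ Orb G α ω} = {ζ | (ζ, k • δ) ∈ Orb G α ω} := by
      ext ζ
      simp only [Set.mem_ofPred_eq]
      rw [hin δ (mem_orbit_self δ) ζ, hin (k • δ) hkδmem ζ]
    have hall := fiber_eq_univ (G := G) (fun η => {ζ | (ζ, η) ∈ Orb G α ω}) hFin hprim δ (k • δ)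
      (fun h => hkδ h.symm) heq2
    have h3 := Set.ext_iff.mp (hall ω) ω
    simp only [Set.mem_ofPred_eq] at h3
    rw [hin δ (mem_orbit_self δ) ω] at h3
    obtain ⟨g, hg1, hg2⟩ := h3.mpr (Orb_base α ω)
    simp only [] at hg1 hg2
    apply hω
    exact (smul_left_cancel g (hg1.trans hg2.symm)).symm

end aux

/-- Manning's Theorem on extremely primitive groups. Let a finite group G act faithfully and primitively on a finite set Ω with non-trivial point stabilizers, and suppose every point stabilizer G_α acts primitively on each of its orbits. Then G_α acts faithfully on each of its orbits other than {α}: an element of G_α fixing every point of one such orbit is the identity. -/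
theorem result {G : Type*} [Group G] [Finite G] {Ω : Type*} [Fintype Ω] [MulAction G Ω] [FaithfulSMul G Ω] (hprim : MulAction.IsPreprimitive G Ω) (hH : ∀ α : Ω, MulAction.stabilizer G α ≠ ⊥) (hep : ∀ (α : Ω) (ω : Ω), MulAction.IsPreprimitive (MulAction.stabilizer G α) (MulAction.orbit (MulAction.stabilizer G α) ω))
    (α ω : Ω) (hω : ω ≠ α) (h : MulAction.stabilizer G α) (hfix : ∀ x ∈ MulAction.orbit (MulAction.stabilizer G α) ω, h • x = x) : h = 1 := by
  have hbot := Kx_eq_bot hprim hep α ω hω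
  have hmem : (h : G) ∈ Kx G α ω α := by
    refine ⟨h.2, fun η hη => ?_⟩
    obtain ⟨g, hg1, hg2⟩ := hη
    have hgmem : g ∈ stabilizer G α := hg1
    have : η ∈ orbit (stabilizer G α) ω := ⟨⟨g, hgmem⟩, hg2⟩
    exact hfix η this
  rw [hbot, Subgroup.mem_bot] at hmem
  exact Subtype.ext hmem

end Cfsg.Agent.S3494
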