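import Cfsg.Statements.S3495
import Cfsg.Agent.Lib.Helper20.HallSep

set_option autoImplicit false
open Cfsg

namespace Cfsg.Agent.S3495



/-- Let a finite group G act faithfully and primitively on a finite set Ω with non-trivial point stabilizers, each acting primitively on every one of its orbits (an extremely primitive group), and suppose G has an elementary abelian normal p-subgroup N acting regularly on Ω (affine type). Then every non-trivial subgroup M of a point stabilizer G_α that is normal in G_α has the same orbits on Ω as G_α, and normalizes no subgroup of N other than 1 and N. -/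
theorem result {G : Type*} [Group G] [Finite G] {Ω : Type*} [Fintype Ω] [MulAction G Ω] [FaithfulSMul G Ω] (hprim : MulAction.IsPreprimitive G Ω) (hH : ∀ α : Ω, MulAction.stabilizer G α ≠ ⊥) (hep : ∀ (α : Ω) (ω : Ω), MulAction.IsPreprimitive (MulAction.stabilizer G α) (MulAction.orbit (MulAction.stabilizer G α) ω))
    (N : Subgroup G) [N.Normal] (hNc : IsMulCommutative N) (p : ℕ) (hp : p.Prime) (hNp : ∀ n ∈ N, n ^ p = 1)
    (hNtr : MulAction.IsPretransitive N Ω) (hNreg : ∀ ω : Ω, MulAction.stabilizer N ω = ⊥) (α : Ω) (M : Subgroup G) (hM : M ≠ ⊥) (hMle : M ≤ MulAction.stabilizer G α)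
    (hMn : MulAction.stabilizer G α ≤ Subgroup.normalizer (M : Set G)) :
    (∀ ω : Ω, MulAction.orbit M ω = MulAction.orbit (MulAction.stabilizer G α) ω) ∧
    (∀ L : Subgroup G, L ≤ N → M ≤ Subgroup.normalizer (L : Set G) → L = ⊥ ∨ L = N) := by
  classical
  haveI := hprim
  have htr : MulAction.IsPretransitive G Ω := hprim.toIsPretransitive
  set H := MulAction.stabilizer G α with hHdef
  -- regularity of N
  have hreg : ∀ (β : Ω) (n₁ n₂ : G), n₁ ∈ N → n₂ ∈ N → n₁ • β = n₂ • β → n₁ = n₂ := by
    intro β n₁ n₂ h1 h2 h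
    have hmem : (⟨n₂⁻¹ * n₁, N.mul_mem (N.inv_mem h2) h1⟩ : N) ∈ MulAction.stabilizer N β := by
      rw [MulAction.mem_stabilizer_iff]
      change (n₂⁻¹ * n₁) • β = β
      rw [mul_smul, h, inv_smul_smul]
    rw [hNreg, Subgroup.mem_bot] at hmem
    have h3 : n₂⁻¹ * n₁ = 1 := congrArg Subtype.val hmem
    exact (inv_mul_eq_one.mp h3).symm
  have hNtrans : ∀ ω : Ω, ∃ n ∈ N, n • α = ω := by
    intro ω
    obtain ⟨n, hn⟩ := hNtr.exists_smul_eq α ω
    exact ⟨n, n.2, hn⟩
  obtain ⟨m₀, hm₀M, hm₀1⟩ : ∃ m ∈ M, m ≠ 1 := by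
    by_contra hcon
    push Not at hcon
    exact hM ((Subgroup.eq_bot_iff_forall M).mpr hcon)
  have hMfix : ∀ m ∈ M, m • α = α := fun m hm => hMle hm
  haveI : Nontrivial Ω := by
    by_contra hnt
    rw [not_nontrivial_iff_subsingleton] at hnt
    apply hm₀1
    apply FaithfulSMul.eq_of_smul_eq_smul (α := Ω)
    intro x
    exact Subsingleton.elim _ _
  have hmax : IsCoatom H := MulAction.IsPreprimitive.isCoatom_stabilizer_of_isPreprimitive G α
  have hcardG : Nat.card G = Nat.card H * Nat.card Ω := by
    have h1 := MulAction.index_stabilizer G α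
    rw [MulAction.orbit_eq_univ, Set.ncard_univ] at h1
    rw [← h1]
    exact (Subgroup.card_mul_index H).symm
  have hcardN : Nat.card N = Nat.card Ω := by
    have h1 := MulAction.index_stabilizer N α
    rw [MulAction.orbit_eq_univ, Set.ncard_univ, hNreg] at h1
    rw [← h1, Subgroup.index_bot]
  -- irreducibility of H on N
  have hirr : ∀ L : Subgroup G, L ≤ N → H ≤ Subgroup.normalizer (L : Set G) → L = ⊥ ∨ L = N := by
    intro L hLN hHL
    rcases hmax.le_iff.mp (le_sup_left : H ≤ H ⊔ L) with h | h
    · right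
      apply Subgroup.eq_of_le_of_card_ge hLN
      have hd := Cfsg.Agent.Lib.Helper20.card_sup_dvd_of_le_normalizer' H L hHL
      rw [h, Subgroup.card_top, hcardG, ← hcardN] at hd
      have : Nat.card N ∣ Nat.card L := Nat.dvd_of_mul_dvd_mul_left Nat.card_pos hd
      exact Nat.le_of_dvd Nat.card_pos this
    · left
      rw [Subgroup.eq_bot_iff_forall]
      intro l hl
      have hlH : l ∈ H := by
        rw [← h]; exact Subgroup.mem_sup_right hl
      exact hreg α l 1 (hLN hl) N.one_mem (by rw [one_smul]; exact hlH)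
  -- C_N(M) is H-invariant
  have hCconj : ∀ h ∈ H, ∀ c ∈ N ⊓ Subgroup.centralizer (M : Set G),
      h * c * h⁻¹ ∈ N ⊓ Subgroup.centralizer (M : Set G) := by
    intro h hh c hc
    rw [Subgroup.mem_inf] at hc
    refine Subgroup.mem_inf.mpr ⟨‹N.Normal›.conj_mem c hc.1 h, ?_⟩
    rw [Subgroup.mem_centralizer_iff]
    intro m hm
    have hm' : h⁻¹ * m * h⁻¹⁻¹ ∈ M :=
      (Subgroup.mem_normalizer_iff.mp (hMn (H.inv_mem hh)) m).mp hm
    have hcm := Subgroup.mem_centralizer_iff.mp hc.2 _ hm'
    have e1 : m * (h * c * h⁻¹) = h * ((h⁻¹ * m * h⁻¹⁻¹) * c) * h⁻¹ := by group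
    have e2 : h * c * h⁻¹ * m = h * (c * (h⁻¹ * m * h⁻¹⁻¹)) * h⁻¹ := by group
    rw [e1, e2, hcm]
  have hCnorm : H ≤ Subgroup.normalizer ((N ⊓ Subgroup.centralizer (M : Set G) : Subgroup G) : Set G) := by
    intro h hh
    rw [Subgroup.mem_normalizer_iff]
    intro c
    constructor
    · exact hCconj h hh c
    · intro hc
      have := hCconj h⁻¹ (H.inv_mem hh) _ hc
      simpa [mul_assoc] using this
  have hCbot : N ⊓ Subgroup.centralizer (M : Set G) = ⊥ := by
    rcases hirr _ inf_le_left hCnorm with h | h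
    · exact h
    · exfalso
      apply hm₀1
      apply FaithfulSMul.eq_of_smul_eq_smul (α := Ω)
      intro x
      rw [one_smul]
      obtain ⟨n, hn, rfl⟩ := hNtrans x
      have hnC : n ∈ Subgroup.centralizer (M : Set G) := by
        have : n ∈ N ⊓ Subgroup.centralizer (M : Set G) := by rw [h]; exact hn
        exact (Subgroup.mem_inf.mp this).2
      have := Subgroup.mem_centralizer_iff.mp hnC m₀ hm₀M
      rw [← mul_smul, this, mul_smul, hMfix m₀ hm₀M]
  -- the only fixed point of M is α
  have hfixM : ∀ ω : Ω, (∀ m ∈ M, m • ω = ω) → ω = α := by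
    intro ω hω
    obtain ⟨n, hn, rfl⟩ := hNtrans ω
    have hnC : n ∈ N ⊓ Subgroup.centralizer (M : Set G) := by
      refine Subgroup.mem_inf.mpr ⟨hn, ?_⟩
      rw [Subgroup.mem_centralizer_iff]
      intro m hm
      have h1 : m * n * m⁻¹ = n := by
        apply hreg α _ _ (‹N.Normal›.conj_mem n hn m) hn
        have hminv : m⁻¹ • α = α := by
          have := hMfix m hm
          rw [← this, inv_smul_smul, this]
        rw [mul_smul, mul_smul, hminv]
        exact hω m hm
      calc m * n = (m * n * m⁻¹) * m := by group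
        _ = n * m := by rw [h1]
    rw [hCbot, Subgroup.mem_bot] at hnC
    rw [hnC, one_smul]
  -- part 1
  have part1 : ∀ ω : Ω, MulAction.orbit M ω = MulAction.orbit H ω := by
    intro ω
    apply Set.Subset.antisymm
    · rintro x ⟨m, rfl⟩
      exact ⟨⟨(m : G), hMle m.2⟩, rfl⟩
    · by_cases hωα : ω = α
      · rintro x ⟨h, rfl⟩
        subst hωα
        have : (h : G) • ω = ω := h.2
        change (h : G) • ω ∈ _
        rw [this]
        exact MulAction.mem_orbit_self _
      · have hΔprim := hep α ω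
        have hMn' : (M.subgroupOf H).Normal :=
          (Subgroup.normal_subgroupOf_iff_le_normalizer hMle).mpr hMn
        have hnotfix : MulAction.fixedPoints (M.subgroupOf H) (MulAction.orbit H ω) ≠ Set.univ := by
          intro hfix
          apply hωα
          apply hfixM
          intro m hm
          have hmem : (⟨ω, MulAction.mem_orbit_self ω⟩ : MulAction.orbit H ω) ∈
              MulAction.fixedPoints (M.subgroupOf H) (MulAction.orbit H ω) := by
            rw [hfix]; trivial
          have := hmem ⟨⟨m, hMle hm⟩, by rw [Subgroup.mem_subgroupOf]; exact hm⟩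
          exact congrArg Subtype.val this
        have htrM := MulAction.IsQuasiPreprimitive.isPretransitive_of_normal
          (G := H) (X := MulAction.orbit H ω) (N := M.subgroupOf H) hnotfix
        intro x hx
        obtain ⟨m, hm⟩ := htrM.exists_smul_eq ⟨ω, MulAction.mem_orbit_self ω⟩ ⟨x, hx⟩
        have hm' : ((m : H) : G) • ω = x := congrArg Subtype.val hm
        exact ⟨⟨((m : H) : G), Subgroup.mem_subgroupOf.mp m.2⟩, hm'⟩
  refine ⟨part1, ?_⟩
  -- part 2
  intro L hLN hML
  apply hirr L hLN
  have hconj : ∀ h ∈ H, ∀ l ∈ L, h * l * h⁻¹ ∈ L := by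
    intro h hh l hl
    have hx : h • (l • α) ∈ MulAction.orbit M (l • α) := by
      rw [part1]
      exact ⟨⟨h, hh⟩, rfl⟩
    obtain ⟨m, hm⟩ := hx
    have hm' : (m : G) • (l • α) = h • (l • α) := hm
    have hmL : (m : G) * l * (m : G)⁻¹ ∈ L :=
      (Subgroup.mem_normalizer_iff.mp (hML m.2) l).mp hl
    have heq : h * l * h⁻¹ = (m : G) * l * (m : G)⁻¹ := by
      apply hreg α _ _ (‹N.Normal›.conj_mem l (hLN hl) h) (‹N.Normal›.conj_mem l (hLN hl) m)
      have h1 : h⁻¹ • α = α := by
        have : h • α = α := hh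
        rw [← this, inv_smul_smul, this]
      have h2 : (m : G)⁻¹ • α = α := by
        have := hMfix m m.2
        rw [← this, inv_smul_smul, this]
      rw [mul_smul, mul_smul, mul_smul, mul_smul, h1, h2, hm']
    rw [heq]; exact hmL
  intro h hh
  rw [Subgroup.mem_normalizer_iff]
  intro l
  constructor
  · exact hconj h hh l
  · intro hl
    have := hconj h⁻¹ (H.inv_mem hh) _ hl
    simpa [mul_assoc] using this

end Cfsg.Agent.S3495
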