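import Cfsg.Statements.S3496
import Mathlib
import Cfsg.Agent.S3495
import Cfsg.Agent.Lib.Helper1.MinNormal
import Cfsg.Agent.Lib.helper4.PrimSolvB
import Cfsg.Agent.Lib.Helper22.ExtPrimC

set_option autoImplicit false
open Cfsg

namespace Cfsg.Agent.S3496

open Cfsg.Agent.Lib.Helper22.ExtPrimA Cfsg.Agent.Lib.Helper22.ExtPrimB
  Cfsg.Agent.Lib.Helper22.ExtPrimC

/-- The soluble extremely primitive groups. Let a finite solvable group G act faithfully and primitively on a finite set Ω with p ^ d points (p prime), with non-trivial point stabilizers each acting primitively on every one of its orbits. Then there is a prime q such that every orbit of a point stabilizer G_α other than {α} has exactly q points, q divides p ^ d − 1 but no p ^ i − 1 with 0 < i < d, and G_α has a normal subgroup T of order q with G_α generated by T and one further element and the order of G_α dividing q·d (so G_α is cyclic of order q, or an extension of T by a cyclic group of order dividing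 d). -/
theorem result {G : Type*} [Group G] [Finite G] {Ω : Type*} [Fintype Ω] [MulAction G Ω] [FaithfulSMul G Ω] [Group.IsSolvable G] (p d : ℕ) (hp : p.Prime) (hcard : Fintype.card Ω = p ^ d)
    (hprim : MulAction.IsPreprimitive G Ω) (hH : ∀ α : Ω, MulAction.stabilizer G α ≠ ⊥) (hep : ∀ (α : Ω) (ω : Ω), MulAction.IsPreprimitive (MulAction.stabilizer G α) (MulAction.orbit (MulAction.stabilizer G α) ω)) (α : Ω) :
    ∃ q : ℕ, q.Prime ∧ (∀ ω : Ω, ω ≠ α → Nat.card (MulAction.orbit (MulAction.stabilizer G α) ω) = q) ∧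
      q ∣ p ^ d - 1 ∧ (∀ i : ℕ, 0 < i → i < d → ¬ q ∣ p ^ i - 1) ∧
      ∃ T : Subgroup G, T ≤ MulAction.stabilizer G α ∧ MulAction.stabilizer G α ≤ Subgroup.normalizer (T : Set G) ∧ Nat.card T = q ∧
        (∃ h : G, MulAction.stabilizer G α = T ⊔ Subgroup.zpowers h) ∧ Nat.card (MulAction.stabilizer G α) ∣ q * d := by
  classical
  have hH1 : MulAction.stabilizer G α ≠ ⊥ := hH α
  have hGnt : Nontrivial G := by
    obtain ⟨g, hg⟩ := Subgroup.ne_bot_iff_exists_ne_one.1 hH1
    exact ⟨⟨g.1, 1, fun h => hg (Subtype.ext h)⟩⟩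
  obtain ⟨N, hNn, hN1, hNmin⟩ := Cfsg.Agent.Lib.Helper1.exists_minimal_normal (G := G)
  have := hNn
  obtain ⟨hNc, p', hp', hNp'⟩ :=
    Cfsg.Agent.Lib.Helper1.minimal_normal_of_solvable N hN1 hNmin
  have : Nonempty Ω := ⟨α⟩
  obtain ⟨hNtr, hNreg, p'', d'', hp'', hd'', hcardΩ, hcardN⟩ :=
    Cfsg.Agent.Lib.helper4.prim_solv_regular hprim N hN1 hNmin
  have hNcard : Nat.card N = p ^ d := by
    rw [hcardN, ← hcardΩ, Nat.card_eq_fintype_card, hcard]
  have hpp : p' = p := by
    obtain ⟨x, hx⟩ := Subgroup.ne_bot_iff_exists_ne_one.1 hN1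
    have hxp : x ^ p' = 1 := Subtype.ext (by simpa using hNp' x.1 x.2)
    have : Fact p'.Prime := ⟨hp'⟩
    have ho : orderOf x = p' := orderOf_eq_prime hxp hx
    have hdvd : orderOf x ∣ Nat.card N := orderOf_dvd_natCard x
    rw [ho, hNcard] at hdvd
    exact (Nat.prime_dvd_prime_iff_eq hp' hp).1 (hp'.dvd_of_dvd_pow hdvd)
  have hNp : ∀ n ∈ N, n ^ p = 1 := by rw [← hpp]; exact hNp'
  -- minimal normal subgroup of the stabilizer
  have hHnt : Nontrivial (MulAction.stabilizer G α) :=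
    (Subgroup.nontrivial_iff_ne_bot _).2 hH1
  obtain ⟨M₀, hM₀n, hM₀1, hM₀min⟩ :=
    Cfsg.Agent.Lib.Helper1.exists_minimal_normal (G := MulAction.stabilizer G α)
  have := hM₀n
  obtain ⟨hM₀c, q, hq, hM₀q⟩ :=
    Cfsg.Agent.Lib.Helper1.minimal_normal_of_solvable M₀ hM₀1 hM₀min
  have hT1 : M₀.map (MulAction.stabilizer G α).subtype ≠ ⊥ := by
    intro h
    apply hM₀1
    exact (Subgroup.map_eq_bot_iff_of_injective M₀
      (MulAction.stabilizer G α).subtype_injective).1 h
  have hTle : M₀.map (MulAction.stabilizer G α).subtype ≤ MulAction.stabilizer G α :=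
    Subgroup.map_subtype_le M₀
  have hTn : MulAction.stabilizer G α
      ≤ Subgroup.normalizer ((M₀.map (MulAction.stabilizer G α).subtype : Subgroup G) : Set G) := by
    intro g hg
    have hfw : ∀ k : MulAction.stabilizer G α,
        ∀ n ∈ M₀.map (MulAction.stabilizer G α).subtype,
        k.1 * n * k.1⁻¹ ∈ M₀.map (MulAction.stabilizer G α).subtype := by
      rintro k _ ⟨m, hm, rfl⟩
      exact ⟨k * m * k⁻¹, hM₀n.conj_mem m hm k, rfl⟩
    rw [Subgroup.mem_set_normalizer_iff]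
    intro n
    refine ⟨hfw ⟨g, hg⟩ n, fun hn => ?_⟩
    have := hfw ⟨g, hg⟩⁻¹ _ hn
    have e : ((⟨g, hg⟩ : MulAction.stabilizer G α)⁻¹).1 * (g * n * g⁻¹)
        * ((⟨g, hg⟩ : MulAction.stabilizer G α)⁻¹).1⁻¹ = n := by
      simp only [Subgroup.coe_inv]
      group
    rwa [e] at this
  obtain ⟨horb, hirr⟩ := Cfsg.Agent.S3495.result hprim hH hep N hNc p hp hNp hNtr hNreg α
    (M₀.map (MulAction.stabilizer G α).subtype) hT1 hTle hTn
  have hM₀c' : ∀ a ∈ M₀, ∀ b ∈ M₀, a * b = b * a := by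
    intro a ha b hb
    exact congrArg Subtype.val (hM₀c.is_comm.comm ⟨a, ha⟩ ⟨b, hb⟩)
  obtain ⟨horbq, hTq, hgen, hdvd, hord1, hord2⟩ := main_all α N p d hp hNp hNcard hNtr (hNreg α)
    M₀ hM₀n hM₀1 hM₀c' q hq hM₀q horb hirr
  refine ⟨q, hq, ?_, hord1, hord2,
    M₀.map (MulAction.stabilizer G α).subtype, hTle, hTn, hTq, hgen, hdvd⟩
  intro ω hω
  rw [← horb ω]
  exact horbq ω hω

end Cfsg.Agent.S3496
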