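import Cfsg.Statements.S3497
import Mathlib
import Cfsg.Agent.S3494
import Cfsg.Agent.Lib.Helper1.Cores
import Cfsg.Agent.Lib.Helper1.Fitting
import Cfsg.Agent.Lib.Helper22.ExtPrimE
import Cfsg.Agent.Lib.Helper22.ExtPrimF

set_option autoImplicit false
open Cfsg

namespace Cfsg.Agent.S3497

open Cfsg.Agent.Lib.Helper22.ExtPrimD Cfsg.Agent.Lib.Helper22.ExtPrimE
  Cfsg.Agent.Lib.Helper22.ExtPrimF

/-- Restrictions on the point stabilizer of an extremely primitive group. Let a finite group G act faithfully and primitively on a finite set Ω with point stabilizers H = G_α whose order is neither 1 nor a prime, each acting primitively on every one of its orbits. Then H has trivial center, the Fitting subgroup F(H) is an elementary abelian p-group for some prime p, and if F(H) ≠ 1 has order p ^ e then p ^ e divides the number of points minus one and H / F(H) embeds in GL_e(p) (there is a homomorphism from H to GL_e(p) with kernel exactly F(H)). -/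
theorem result {G : Type*} [Group G] [Finite G] {Ω : Type*} [Fintype Ω] [MulAction G Ω] [FaithfulSMul G Ω] (hprim : MulAction.IsPreprimitive G Ω) (hep : ∀ (α : Ω) (ω : Ω), MulAction.IsPreprimitive (MulAction.stabilizer G α) (MulAction.orbit (MulAction.stabilizer G α) ω)) (α : Ω)
    (hH1 : MulAction.stabilizer G α ≠ ⊥) (hHp : ¬ (Nat.card (MulAction.stabilizer G α)).Prime) :
    Subgroup.center (MulAction.stabilizer G α) = ⊥ ∧
    IsMulCommutative (Cfsg.fittingSubgroup (MulAction.stabilizer G α)) ∧
    ∃ p e : ℕ, p.Prime ∧ Nat.card (Cfsg.fittingSubgroup (MulAction.stabilizer G α)) = p ^ e ∧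
      (∀ x ∈ Cfsg.fittingSubgroup (MulAction.stabilizer G α), x ^ p = 1) ∧
      (Cfsg.fittingSubgroup (MulAction.stabilizer G α) ≠ ⊥ →
        p ^ e ∣ Fintype.card Ω - 1 ∧
        ∃ φ : MulAction.stabilizer G α →* GL (Fin e) (ZMod p), φ.ker = Cfsg.fittingSubgroup (MulAction.stabilizer G α)) := by
  classical
  have htr : MulAction.IsPretransitive G Ω := hprim.toIsPretransitive
  have hH : ∀ β : Ω, MulAction.stabilizer G β ≠ ⊥ := by
    intro β hβ
    obtain ⟨g, rfl⟩ := MulAction.exists_smul_eq G α β
    apply hH1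
    rw [Subgroup.eq_bot_iff_forall]
    intro h hh
    have hmem : g * h * g⁻¹ ∈ MulAction.stabilizer G (g • α) := by
      rw [MulAction.mem_stabilizer_iff, mul_smul, mul_smul, inv_smul_smul,
        MulAction.mem_stabilizer_iff.1 hh]
    rw [hβ, Subgroup.mem_bot] at hmem
    have : h = g⁻¹ * (g * h * g⁻¹) * g := by group
    rw [this, hmem]; group
  have hFn : (Cfsg.fittingSubgroup (MulAction.stabilizer G α)).Normal :=
    Cfsg.Agent.Lib.Helper1.fittingSubgroup_normal
  have hFnil : Group.IsNilpotent (Cfsg.fittingSubgroup (MulAction.stabilizer G α)) :=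
    Cfsg.Agent.Lib.Helper1.fittingSubgroup_nilpotent
  have hZF : Subgroup.center (MulAction.stabilizer G α)
      ≤ Cfsg.fittingSubgroup (MulAction.stabilizer G α) :=
    le_sSup ⟨inferInstance, by open scoped IsMulCommutative in exact inferInstance⟩
  by_cases hF0 : Cfsg.fittingSubgroup (MulAction.stabilizer G α) = ⊥
  · refine ⟨?_, ?_, 2, 0, Nat.prime_two, ?_, ?_, fun h => absurd hF0 h⟩
    · rw [eq_bot_iff, ← hF0]; exact hZF
    · refine ⟨⟨fun a b => ?_⟩⟩
      have key : ∀ x ∈ Cfsg.fittingSubgroup (MulAction.stabilizer G α), x = 1 := by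
        intro x hx
        rw [hF0, Subgroup.mem_bot] at hx
        exact hx
      have ha := key a.1 a.2
      have hb := key b.1 b.2
      apply Subtype.ext
      rw [Subgroup.coe_mul, Subgroup.coe_mul, ha, hb]
    · rw [hF0, Subgroup.card_bot, pow_zero]
    · intro x hx
      rw [hF0, Subgroup.mem_bot] at hx
      rw [hx, one_pow]
  -- faithfulness on orbits
  have hfaith : ∀ ω : Ω, ω ≠ α →
      FaithfulSMul (MulAction.stabilizer G α) (MulAction.orbit (MulAction.stabilizer G α) ω) := by
    intro ω hω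
    refine ⟨fun {h1 h2} hh => ?_⟩
    have h3 : h2⁻¹ * h1 = 1 := by
      apply Cfsg.Agent.S3494.result hprim hH hep α ω hω
      intro x hx
      have := congrArg Subtype.val (hh ⟨x, hx⟩)
      rw [MulAction.orbit.coe_smul, MulAction.orbit.coe_smul] at this
      rw [mul_smul, this, inv_smul_smul]
    have : h1 = h2 * (h2⁻¹ * h1) := by group
    rw [this, h3, mul_one]
  -- a point different from α
  obtain ⟨ω0, hω0⟩ : ∃ ω : Ω, ω ≠ α := by
    obtain ⟨h, hh⟩ := Subgroup.ne_bot_iff_exists_ne_one.1 hH1
    have hh1 : (h : G) ≠ 1 := fun e => hh (Subtype.ext e)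
    by_contra hcon
    push Not at hcon
    apply hh1
    apply FaithfulSMul.eq_of_smul_eq_smul (α := Ω)
    intro ω
    rw [hcon ω, one_smul]
    exact h.2
  have := hfaith ω0 hω0
  obtain ⟨hFc, -, -, hFself, hFmin⟩ :=
    nilpotent_normal (hep α ω0) (Cfsg.fittingSubgroup (MulAction.stabilizer G α)) hF0
  have hsemi : ∀ f ∈ Cfsg.fittingSubgroup (MulAction.stabilizer G α), ∀ ω : Ω, ω ≠ α →
      f • ω = ω → f = 1 := by
    intro f hf ω hω hfix
    have := hfaith ω hω
    obtain ⟨-, -, hs, -, -⟩ :=
      nilpotent_normal (hep α ω) (Cfsg.fittingSubgroup (MulAction.stabilizer G α)) hF0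
    apply hs ⟨ω, MulAction.mem_orbit_self ω⟩ f hf
    apply Subtype.ext
    rw [MulAction.orbit.coe_smul]
    exact hfix
  obtain ⟨p, hp, hexp, e, hcard⟩ :=
    exponent_of_minimal (Cfsg.fittingSubgroup (MulAction.stabilizer G α)) hFc hF0 hFmin
  have hFcomm : IsMulCommutative (Cfsg.fittingSubgroup (MulAction.stabilizer G α)) :=
    ⟨⟨fun a b => Subtype.ext (hFc a.1 a.2 b.1 b.2)⟩⟩
  refine ⟨?_, hFcomm, p, e, hp, hcard, hexp, fun _ => ⟨?_, ?_⟩⟩
  · by_contra hZ
    exact hHp (card_prime_of_center (hep α ω0) hZ)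
  · rw [← hcard]
    apply card_dvd_card_sub_one α
    · intro k
      exact k.1.2
    · intro k ω hω hk
      apply Subtype.ext
      exact hsemi k.1 k.2 ω hω hk
  · obtain ⟨φ, hφ⟩ := exists_GL_hom (Cfsg.fittingSubgroup (MulAction.stabilizer G α)) p e hp
      hexp hcard
    refine ⟨φ, ?_⟩
    rw [hφ]
    apply le_antisymm
    · intro c hc
      apply hFself
      intro z hz
      exact (Subgroup.mem_centralizer_iff.1 hc z hz).symm
    · intro f hf
      rw [Subgroup.mem_centralizer_iff]
      intro z hz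
      exact hFc z hz f hf

end Cfsg.Agent.S3497
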