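import Cfsg.Statements.S3498
import Cfsg.Agent.S0031
import Cfsg.Agent.Lib.Helper20.Wielandt

set_option autoImplicit false
open Cfsg

namespace Cfsg.Agent.S3498


open Cfsg.Agent.Lib.Helper20

/-- a finite nonabelian simple group has no maximal subgroup of prime order -/
theorem simple_no_max_prime {G : Type*} [Group G] [Finite G] (hs : IsSimpleGroup G)
    (hnc : ¬ IsMulCommutative G) (H : Subgroup G) (hmax : IsCoatom H) {p : ℕ} (hp : p.Prime)
    (hcard : Nat.card H = p) : False := by
  haveI : Fact p.Prime := ⟨hp⟩
  have hHp : IsPGroup p H := IsPGroup.of_card (n := 1) (by rw [hcard, pow_one])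
  have hHcyc : IsCyclic H := isCyclic_of_prime_card hcard
  -- normalizer of H is H
  have hN : Subgroup.normalizer (H : Set G) = H := by
    rcases eq_or_lt_of_le (Subgroup.le_normalizer (H := H)) with h | h
    · exact h.symm
    · exfalso
      have h := hmax.2 _ h
      have hn : H.Normal := Subgroup.normalizer_eq_top_iff.mp h
      rcases hn.eq_bot_or_eq_top with h1 | h1
      · rw [h1] at hcard
        simp at hcard
        exact hp.ne_one hcard.symm
      · exact hmax.1 h1
  -- H is a Sylow p-subgroup
  obtain ⟨P, hHP⟩ := hHp.exists_le_sylow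
  have hPH : (P : Subgroup G) = H := by
    by_contra hne
    have hlt : H < (P : Subgroup G) := lt_of_le_of_ne hHP (Ne.symm hne)
    -- normalizer condition in the p-group P
    have hnil : Group.IsNilpotent (P : Subgroup G) := P.isPGroup'.isNilpotent
    have hnc' := Group.normalizerCondition_of_isNilpotent (G := (P : Subgroup G))
    have hlt' : H.subgroupOf (P : Subgroup G) < ⊤ := by
      rw [lt_top_iff_ne_top, Ne, Subgroup.subgroupOf_eq_top]
      exact not_le_of_gt hlt
    have h2 := hnc' _ hlt'
    obtain ⟨x, hx, hxn⟩ := SetLike.exists_of_lt h2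
    have hx' : (x : G) ∈ Subgroup.normalizer (H : Set G) := by
      rw [Subgroup.mem_set_normalizer_iff] at hx ⊢
      intro y
      constructor
      · intro hy
        have hyP : y ∈ (P : Subgroup G) := hHP hy
        have := (hx ⟨y, hyP⟩).mp hy
        exact this
      · intro hy
        have hyP : y ∈ (P : Subgroup G) := by
          have h3 : y = (x : G)⁻¹ * ((x : G) * y * (x : G)⁻¹) * (x : G) := by group
          rw [h3]
          exact mul_mem (mul_mem (inv_mem x.2) (hHP hy)) x.2
        have := (hx ⟨y, hyP⟩).mpr hy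
        exact this
    rw [hN] at hx'
    exact hxn (by rw [Subgroup.mem_subgroupOf]; exact hx')
  -- Burnside transfer
  have hPc : Subgroup.normalizer ((P : Subgroup G) : Set G) ≤
      Subgroup.centralizer ((P : Subgroup G) : Set G) := by
    rw [hPH, hN]
    intro x hx
    rw [Subgroup.mem_centralizer_iff]
    intro y hy
    obtain ⟨g, hg⟩ := hHcyc.exists_generator
    have h1 : (⟨x, hx⟩ : H) ∈ Subgroup.zpowers g := hg _
    have h2 : (⟨y, hy⟩ : H) ∈ Subgroup.zpowers g := hg _
    obtain ⟨i, hi⟩ := h1
    obtain ⟨j, hj⟩ := h2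
    have : (⟨y, hy⟩ : H) * ⟨x, hx⟩ = ⟨x, hx⟩ * ⟨y, hy⟩ := by
      rw [← hi, ← hj, ← zpow_add, ← zpow_add, add_comm]
    exact congrArg Subtype.val this
  have hcompl := MonoidHom.ker_transferSylow_isComplement' P hPc
  set K := (MonoidHom.transferSylow P hPc).ker with hK
  have hKn : K.Normal := MonoidHom.normal_ker _
  rcases hKn.eq_bot_or_eq_top with h1 | h1
  · -- then P = ⊤
    have h2 := hcompl.card_mul_card
    rw [h1] at h2
    simp at h2
    exact hmax.1 (hPH ▸ h2)
  · have h2 := hcompl.card_mul_card
    rw [h1] at h2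
    simp at h2
    have h3 : Nat.card (P : Subgroup G) = 1 := by
      have hpos : 0 < Nat.card G := Nat.card_pos
      nlinarith [Nat.card_pos (α := (P : Subgroup G))]
    rw [hPH, hcard] at h3
    exact hp.ne_one h3


/-- A maximal subgroup of a finite almost simple group does not have prime order. Here G is almost simple in the sense that it has a non-abelian simple normal subgroup T with trivial centralizer. -/
theorem result {G : Type*} [Group G] [Finite G] (T : Subgroup G) [T.Normal] (hT : IsSimpleGroup T) (hTc : ¬ IsMulCommutative T)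
    (hC : Subgroup.centralizer (T : Set G) = ⊥) (H : Subgroup G) (hmax : IsCoatom H) : ¬ (Nat.card H).Prime := by
  intro hprime
  classical
  haveI hfp : Fact (Nat.card H).Prime := ⟨hprime⟩
  have hHcyc : IsCyclic H := isCyclic_of_prime_card rfl
  -- elements of H commute
  have hHcomm : ∀ x ∈ H, ∀ y ∈ H, x * y = y * x := by
    intro x hx y hy
    obtain ⟨g, hg⟩ := hHcyc.exists_generator
    obtain ⟨i, hi⟩ := hg ⟨x, hx⟩
    obtain ⟨j, hj⟩ := hg ⟨y, hy⟩
    have : (⟨x, hx⟩ : H) * ⟨y, hy⟩ = ⟨y, hy⟩ * ⟨x, hx⟩ := by
      rw [← hi, ← hj, ← zpow_add, ← zpow_add, add_comm]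
    exact congrArg Subtype.val this
  rcases (T.subgroupOf H).eq_bot_or_eq_top_of_prime_card with hbot | htop
  · -- H ⊓ T = ⊥
    have hdisj : H ⊓ T = ⊥ := by
      rw [Subgroup.subgroupOf_eq_bot] at hbot
      rw [inf_comm]; exact hbot.eq_bot
    -- a nontrivial element h of H
    have hHne : H ≠ ⊥ := by
      intro hb
      rw [hb] at hprime
      simp at hprime
      exact Nat.not_prime_one hprime
    obtain ⟨h, hh1⟩ := (Subgroup.ne_bot_iff_exists_ne_one.mp hHne)
    have hh1' : (h : G) ≠ 1 := fun hc => hh1 (Subtype.ext hc)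
    have hzp : Subgroup.zpowers (h : G) = H := by
      have h1 : Subgroup.zpowers h = ⊤ := zpowers_eq_top_of_prime_card rfl hh1
      have h2 := congrArg (Subgroup.map H.subtype) h1
      rw [MonoidHom.map_zpowers, ← MonoidHom.range_eq_map, Subgroup.range_subtype] at h2
      exact h2
    -- the centralizer of h is H
    have hC : Subgroup.centralizer {(h : G)} = H := by
      have hle : H ≤ Subgroup.centralizer {(h : G)} := by
        intro x hx
        rw [Subgroup.mem_centralizer_singleton_iff]
        exact hHcomm x hx h h.2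
      rcases eq_or_lt_of_le hle with h1 | h1
      · exact h1.symm
      · exfalso
        have h2 := hmax.2 _ h1
        have h3 : (h : G) ∈ Subgroup.centralizer (T : Set G) := by
          rw [Subgroup.mem_centralizer_iff]
          intro t _
          have : t ∈ Subgroup.centralizer {(h : G)} := by rw [h2]; exact Subgroup.mem_top t
          rw [Subgroup.mem_centralizer_singleton_iff] at this
          exact this
        rw [hC, Subgroup.mem_bot] at h3
        exact hh1' h3
    -- conjugation by h is a fixed-point-free automorphism of T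
    set φ : T ≃* T := MulAut.conjNormal (h : G) with hφ
    have hφapp : ∀ t : T, ((φ t : T) : G) = (h : G) * t * (h : G)⁻¹ := fun t => by
      rw [hφ]; exact MulAut.conjNormal_apply _ _
    have hfpf : MonoidHom.FixedPointFree (φ : T →* T) := by
      intro t ht
      have h1 : (h : G) * t * (h : G)⁻¹ = t := by
        rw [← hφapp t]; exact congrArg Subtype.val ht
      have h2 : (t : G) ∈ Subgroup.centralizer {(h : G)} := by
        rw [Subgroup.mem_centralizer_singleton_iff]
        calc (t : G) * h = ((h : G) * t * (h : G)⁻¹) * h := by rw [h1]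
          _ = h * t := by group
      rw [hC] at h2
      have h3 : (t : G) ∈ H ⊓ T := ⟨h2, t.2⟩
      rw [hdisj, Subgroup.mem_bot] at h3
      exact Subtype.ext h3
    -- a prime q dividing |T|
    have hTnt : Nontrivial T := hT.toNontrivial
    have hTcard : Nat.card T ≠ 1 := by
      intro hc
      have := (Nat.card_eq_one_iff_unique.mp hc).1
      exact not_subsingleton T this
    obtain ⟨q, hq, hqd⟩ := Nat.exists_prime_and_dvd hTcard
    have : Fact q.Prime := ⟨hq⟩
    obtain ⟨Q, hQ⟩ := Cfsg.Agent.S0031.result φ hfpf q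
    have hQne : (Q : Subgroup T) ≠ ⊥ := Q.ne_bot_of_dvd_card hqd
    have hQtop : (Q : Subgroup T) ≠ ⊤ := by
      intro hc
      have hpg : IsPGroup q T := by
        intro t
        obtain ⟨k, hk⟩ := Q.isPGroup' ⟨t, by rw [hc]; exact Subgroup.mem_top t⟩
        exact ⟨k, by simpa using congrArg Subtype.val hk⟩
      have hnil := hpg.isNilpotent
      have hsolv : Group.IsSolvable T := inferInstance
      have hcomm := IsSimpleGroup.comm_iff_isSolvable.mpr hsolv
      exact hTc ⟨⟨hcomm⟩⟩
    set Q' : Subgroup G := (Q : Subgroup T).map T.subtype with hQ'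
    have hQ'T : Q' ≤ T := by
      rintro _ ⟨y, _, rfl⟩
      exact y.2
    have hhQ : (h : G) ∈ Subgroup.normalizer (Q' : Set G) := by
      rw [Subgroup.mem_set_normalizer_iff]
      intro x
      constructor
      · rintro ⟨y, hy, rfl⟩
        refine ⟨φ y, ?_, hφapp y⟩
        have : φ y ∈ (Q : Subgroup T).map (φ : T →* T) := ⟨y, hy, rfl⟩
        rwa [hQ] at this
      · rintro ⟨z, hz, hzx⟩
        have hz' : z ∈ (Q : Subgroup T).map (φ : T →* T) := by rw [hQ]; exact hz
        obtain ⟨y, hy, rfl⟩ := hz'
        refine ⟨y, hy, ?_⟩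
        have h1 : ((φ y : T) : G) = (h : G) * x * (h : G)⁻¹ := hzx
        rw [hφapp y] at h1
        have : (y : G) = x := by
          have := congrArg (fun w => (h : G)⁻¹ * w * (h : G)) h1
          simpa [mul_assoc] using this
        exact this
    have hHQ : H ≤ Subgroup.normalizer (Q' : Set G) := by
      rw [← hzp, Subgroup.zpowers_le]; exact hhQ
    -- Q' ⊔ H = ⊤
    have hQ'ne : Q' ≠ ⊥ := by
      intro hb
      apply hQne
      rw [hQ', Subgroup.map_eq_bot_iff_of_injective _ T.subtype_injective] at hb
      exact hb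
    have hnotle : ¬ Q' ≤ H := by
      intro hle
      apply hQ'ne
      rw [eq_bot_iff, ← hdisj]
      exact le_inf hle hQ'T
    have htop : Q' ⊔ H = ⊤ := by
      apply hmax.2
      exact lt_of_le_of_ne le_sup_right (fun hc => hnotle (hc ▸ le_sup_left))
    -- then T ≤ Q'
    have hTQ : T ≤ Q' := by
      intro t ht
      have h1 : t ∈ ((Q' ⊔ H : Subgroup G) : Set G) := by rw [htop]; exact Subgroup.mem_top t
      rw [Subgroup.coe_mul_of_right_le_normalizer_left Q' H hHQ] at h1
      obtain ⟨a, ha, k, hk, hak⟩ := h1
      have hak' : a * k = t := hak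
      have hkT : k ∈ T := by
        have : k = a⁻¹ * t := by rw [← hak']; group
        rw [this]
        exact mul_mem (inv_mem (hQ'T ha)) ht
      have hk1 : k ∈ H ⊓ T := ⟨hk, hkT⟩
      rw [hdisj, Subgroup.mem_bot] at hk1
      rw [hk1, mul_one] at hak'
      rw [← hak']; exact ha
    apply hQtop
    rw [eq_top_iff]
    intro t _
    obtain ⟨y, hy, hyt⟩ := hTQ t.2
    have : y = t := Subtype.ext hyt
    rw [← this]; exact hy
  · -- H ≤ T
    have hHT : H ≤ T := Subgroup.subgroupOf_eq_top.mp htop
    have hTtop : T = ⊤ := by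
      rcases eq_or_lt_of_le hHT with h1 | h1
      · exfalso
        apply hTc
        refine ⟨⟨fun a b => ?_⟩⟩
        have := hHcomm a (h1 ▸ a.2) b (h1 ▸ b.2)
        exact Subtype.ext this
      · exact hmax.2 _ h1
    subst hTtop
    have e : G ≃* (⊤ : Subgroup G) := Subgroup.topEquiv.symm
    have hs : IsSimpleGroup G := e.isSimpleGroup
    have hnc : ¬ IsMulCommutative G := by
      intro hc
      apply hTc
      refine ⟨⟨fun a b => ?_⟩⟩
      exact Subtype.ext (hc.is_comm.comm (a : G) b)
    exact simple_no_max_prime hs hnc H hmax hprime rfl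

end Cfsg.Agent.S3498
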