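import Cfsg.Statements.S3504

set_option autoImplicit false
open Cfsg

namespace Cfsg.Agent.S3504


section perm
variable {n : ℕ}

theorem cycleType_of_prime_derangement (g : Equiv.Perm (Fin n)) (hg : (orderOf g).Prime)
    (hfp : ∀ i, g i ≠ i) :
    orderOf g ∣ n ∧ g.cycleType = Multiset.replicate (n / orderOf g) (orderOf g) := by
  obtain ⟨k, hk⟩ := Equiv.Perm.cycleType_prime_order hg
  have hsum : g.cycleType.sum = n := by
    rw [Equiv.Perm.sum_cycleType]
    have : g.support = Finset.univ := by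
      ext i; simp [Equiv.Perm.mem_support, hfp i]
    rw [this, Finset.card_univ, Fintype.card_fin]
  rw [hk, Multiset.sum_replicate, smul_eq_mul] at hsum
  have hpos : 0 < orderOf g := hg.pos
  have hdiv : n / orderOf g = k + 1 := Nat.div_eq_of_eq_mul_left hpos hsum.symm
  exact ⟨⟨k+1, by rw [mul_comm]; exact hsum.symm⟩, by rw [hdiv, hk]⟩

theorem exists_prime_derangement {p : ℕ} (hp : p.Prime) (hpn : p ∣ n) (hn : 0 < n) :
    ∃ g : Equiv.Perm (Fin n), orderOf g = p ∧ (∀ i, g i ≠ i) := by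
  obtain ⟨g, hg⟩ := (Equiv.Perm.exists_with_cycleType_iff (Fin n)
    (m := Multiset.replicate (n / p) p)).mpr ⟨by
      rw [Multiset.sum_replicate, smul_eq_mul, Fintype.card_fin, Nat.div_mul_cancel hpn],
      fun a ha => by rw [Multiset.eq_of_mem_replicate ha]; exact hp.two_le⟩
  have hk : 0 < n / p := Nat.div_pos (Nat.le_of_dvd hn hpn) hp.pos
  refine ⟨g, ?_, ?_⟩
  · rw [← Equiv.Perm.lcm_cycleType, hg]
    apply Nat.dvd_antisymm
    · rw [Multiset.lcm_dvd]
      intro b hb
      rw [Multiset.eq_of_mem_replicate hb]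
    · apply Multiset.dvd_lcm
      rw [Multiset.mem_replicate]
      exact ⟨hk.ne', rfl⟩
  · intro i
    have hsum := Equiv.Perm.sum_cycleType g
    rw [hg, Multiset.sum_replicate, smul_eq_mul, Nat.div_mul_cancel hpn] at hsum
    have : g.support = Finset.univ :=
      Finset.eq_univ_of_card _ (by rw [← hsum, Fintype.card_fin])
    have hi : i ∈ g.support := this ▸ Finset.mem_univ i
    exact Equiv.Perm.mem_support.mp hi

end perm


/-- For n ≥ 5, the fixed-point-free permutations of prime order in the symmetric group of degree n form a single conjugacy class if and only if n is a prime power. -/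
theorem result (n : ℕ) (hn : 5 ≤ n) :
    Nat.card {c : ConjClasses (Equiv.Perm (Fin n)) // ∃ g : Equiv.Perm (Fin n), ConjClasses.mk g = c ∧ (orderOf g).Prime ∧ ∀ i : Fin n, g i ≠ i} = 1 ↔ IsPrimePow n := by
  have hn0 : n ≠ 0 := by omega
  have hn1 : n ≠ 1 := by omega
  have hnpos : 0 < n := by omega
  rw [Nat.card_eq_one_iff_unique]
  constructor
  · rintro ⟨hsub, -⟩
    obtain ⟨p, hp, hpn⟩ := Nat.exists_prime_and_dvd hn1
    by_contra hnpp
    have hex : ∃ q : ℕ, q.Prime ∧ q ∣ n ∧ q ≠ p := by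
      by_contra hcon
      push Not at hcon
      apply hnpp
      have := Nat.eq_prime_pow_of_unique_prime_dvd hn0 (fun {d} hd hdn => hcon d hd hdn)
      rw [isPrimePow_nat_iff]
      refine ⟨p, n.primeFactorsList.length, hp, ?_, this.symm⟩
      rcases Nat.eq_zero_or_pos n.primeFactorsList.length with h0 | h0
      · rw [h0, pow_zero] at this
        exact absurd this hn1
      · exact h0
    obtain ⟨q, hq, hqn, hqp⟩ := hex
    obtain ⟨g₁, ho₁, hf₁⟩ := exists_prime_derangement hp hpn hnpos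
    obtain ⟨g₂, ho₂, hf₂⟩ := exists_prime_derangement hq hqn hnpos
    have h := @Subsingleton.elim _ hsub
      ⟨ConjClasses.mk g₁, g₁, rfl, ho₁ ▸ hp, hf₁⟩ ⟨ConjClasses.mk g₂, g₂, rfl, ho₂ ▸ hq, hf₂⟩
    have h' : ConjClasses.mk g₁ = ConjClasses.mk g₂ := congrArg Subtype.val h
    rw [ConjClasses.mk_eq_mk_iff_isConj, Equiv.Perm.isConj_iff_cycleType_eq] at h'
    have : orderOf g₁ = orderOf g₂ := by
      rw [← Equiv.Perm.lcm_cycleType, ← Equiv.Perm.lcm_cycleType, h']
    rw [ho₁, ho₂] at this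
    exact hqp this.symm
  · intro hpp
    rw [isPrimePow_nat_iff] at hpp
    obtain ⟨p, k, hp, hk, hpk⟩ := hpp
    have hpn : p ∣ n := dvd_trans (dvd_pow_self p hk.ne') hpk.dvd
    constructor
    · constructor
      rintro ⟨c₁, g₁, rfl, hp₁, hf₁⟩ ⟨c₂, g₂, rfl, hp₂, hf₂⟩
      apply Subtype.ext
      change ConjClasses.mk g₁ = ConjClasses.mk g₂
      rw [ConjClasses.mk_eq_mk_iff_isConj, Equiv.Perm.isConj_iff_cycleType_eq]
      obtain ⟨hd₁, hc₁⟩ := cycleType_of_prime_derangement g₁ hp₁ hf₁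
      obtain ⟨hd₂, hc₂⟩ := cycleType_of_prime_derangement g₂ hp₂ hf₂
      have e₁ : orderOf g₁ = p := by
        exact (Nat.prime_dvd_prime_iff_eq hp₁ hp).mp
          (hp₁.dvd_of_dvd_pow (dvd_trans hd₁ hpk.symm.dvd))
      have e₂ : orderOf g₂ = p := by
        exact (Nat.prime_dvd_prime_iff_eq hp₂ hp).mp
          (hp₂.dvd_of_dvd_pow (dvd_trans hd₂ hpk.symm.dvd))
      rw [hc₁, hc₂, e₁, e₂]
    · obtain ⟨g, ho, hf⟩ := exists_prime_derangement hp hpn hnpos
      exact ⟨⟨ConjClasses.mk g, g, rfl, ho ▸ hp, hf⟩⟩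

end Cfsg.Agent.S3504
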