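import Cfsg.Statements.S3508

set_option autoImplicit false
open Cfsg

namespace Cfsg.Agent.S3508

open Polynomial in
theorem core (p : ℕ) [Fact p.Prime] {V : Type*} [AddCommGroup V] [Module (ZMod p) V] [Finite V]
    (A : Module.End (ZMod p) V) (r s : ℕ) (hA : A ^ (p ^ r) = 1)
    (hs : Module.finrank (ZMod p) V < p ^ s) :
    A ^ (p ^ s) = 1 ∧ ∑ j ∈ Finset.range (p ^ s), A ^ j = 0 := by
  have hpow : ∀ e : ℕ, (A - 1) ^ (p ^ e) = A ^ (p ^ e) - 1 := by
    intro e
    have h1 : ((X : (ZMod p)[X]) - 1) ^ (p ^ e) = X ^ (p ^ e) - 1 := by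
      rw [sub_pow_char_pow, one_pow]
    have := congrArg (aeval A) h1
    simpa using this
  have hnil : IsNilpotent (A - 1) := ⟨p ^ r, by rw [hpow, hA, sub_self]⟩
  have hfin : (A - 1) ^ Module.finrank (ZMod p) V = 0 := by
    have h1 := hnil.charpoly_eq_X_pow_finrank
    have h2 := (A - 1).aeval_self_charpoly
    rw [h1] at h2
    simpa using h2
  have hq : ∀ e, Module.finrank (ZMod p) V ≤ e → (A - 1) ^ e = 0 := fun e he => by
    rw [← Nat.sub_add_cancel he, pow_add, hfin, mul_zero]
  constructor
  · have h2 := hpow s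
    rw [hq _ hs.le] at h2
    exact (sub_eq_zero.mp h2.symm)
  · have h1 : (∑ j ∈ Finset.range (p ^ s), (X : (ZMod p)[X]) ^ j) = (X - 1) ^ (p ^ s - 1) := by
      have hne : (X - 1 : (ZMod p)[X]) ≠ 0 := by
        have := X_sub_C_ne_zero (1 : ZMod p)
        simpa using this
      apply mul_right_cancel₀ hne
      rw [geom_sum_mul, ← pow_succ, Nat.sub_add_cancel (Nat.one_le_pow _ _ (Fact.out : p.Prime).pos),
        sub_pow_char_pow, one_pow]
    have h2 := congrArg (aeval A) h1
    simp only [map_sum, map_pow, aeval_X, map_sub, map_one] at h2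
    rw [h2]
    exact hq _ (Nat.le_sub_one_of_lt hs)


theorem affine_bound {G Ω : Type*} [Group G] [MulAction G Ω] [FaithfulSMul G Ω] (p : ℕ) [Fact p.Prime]
    (N : Subgroup G) [N.Normal] {V : Type*} [AddCommGroup V] [Module (ZMod p) V] [Finite V]
    (e : V ≃+ Additive N)
    (hNtr : MulAction.IsPretransitive N Ω) (ω0 : Ω) (g : G) (r s : ℕ) (hg : g ^ (p ^ r) = 1)
    (hs : Nat.card V < p ^ (p ^ s)) : g ^ (p ^ s) = 1 := by
  let A : Module.End (ZMod p) V :=
    (e.symm.toAddMonoidHom.comp ((MulEquiv.toAdditive (MulAut.conjNormal g : N ≃* N)).toAddMonoidHom.comp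
      e.toAddMonoidHom)).toZModLinearMap p
  have hA1 : ∀ n : N, A (e.symm (Additive.ofMul n)) = e.symm (Additive.ofMul (MulAut.conjNormal g n)) := by
    intro n
    change e.symm (Additive.ofMul (MulAut.conjNormal g (Additive.toMul (e (e.symm (Additive.ofMul n)))))) = _
    rw [AddEquiv.apply_symm_apply]
    rfl
  have hAk : ∀ (k : ℕ) (n : N), (A ^ k) (e.symm (Additive.ofMul n))
      = e.symm (Additive.ofMul (MulAut.conjNormal (g ^ k) n)) := by
    intro k
    induction k with
    | zero => intro n; simp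
    | succ k ih =>
      intro n
      rw [pow_succ', Module.End.mul_apply, ih, hA1, pow_succ', map_mul, MulAut.mul_apply]
  have hsurj : ∀ x : V, ∃ n : N, x = e.symm (Additive.ofMul n) := fun x =>
    ⟨Additive.toMul (e x), by simp⟩
  have hAr : A ^ (p ^ r) = 1 := by
    apply LinearMap.ext
    intro x
    obtain ⟨n, rfl⟩ := hsurj x
    rw [hAk, hg, map_one]
    rfl
  have hfr : Module.finrank (ZMod p) V < p ^ s := by
    have h1 := Module.natCard_eq_pow_finrank (K := ZMod p) (V := V)
    rw [Nat.card_zmod] at h1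
    rw [h1] at hs
    exact (Nat.pow_lt_pow_iff_right (Fact.out : p.Prime).one_lt).mp hs
  obtain ⟨hAq, hSq⟩ := core p A r s hAr hfr
  obtain ⟨t, ht⟩ := MulAction.exists_smul_eq N ω0 (g • ω0)
  have hconj : ∀ (h : G) (n : N) (ω : Ω), h • (n • ω) = (MulAut.conjNormal h n) • (h • ω) := by
    intro h n ω
    rw [Subgroup.smul_def, Subgroup.smul_def, MulAut.conjNormal_apply, smul_smul, smul_smul]
    congr 1
    group
  have hk : ∀ k : ℕ, g ^ k • ω0 =
      (Additive.toMul (e ((∑ j ∈ Finset.range k, A ^ j) (e.symm (Additive.ofMul t)))) : N) • ω0 := by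
    intro k
    induction k with
    | zero => simp
    | succ k ih =>
      rw [pow_succ', mul_smul, ih, hconj, ← ht, smul_smul, Finset.sum_range_succ', pow_zero]
      congr 1
      simp only [pow_succ', ← Finset.mul_sum, LinearMap.add_apply, Module.End.mul_apply,
        Module.End.one_apply]
      obtain ⟨P', hP'⟩ := hsurj ((∑ j ∈ Finset.range k, A ^ j) (e.symm (Additive.ofMul t)))
      rw [hP', hA1]
      simp
  have h0 : g ^ (p ^ s) • ω0 = ω0 := by
    rw [hk, hSq]
    simp
  have hall : ∀ ω : Ω, g ^ (p ^ s) • ω = (1 : G) • ω := by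
    intro ω
    obtain ⟨n, rfl⟩ := MulAction.exists_smul_eq N ω0 ω
    rw [hconj, h0, one_smul]
    have := hAk (p ^ s) n
    rw [hAq] at this
    have h2 : MulAut.conjNormal (g ^ (p ^ s)) n = n :=
      (Additive.ofMul.injective (e.symm.injective this)).symm
    rw [h2]
  exact FaithfulSMul.eq_of_smul_eq_smul hall


theorem arith (p m : ℕ) (hp : p.Prime) (h : p ^ (m - 1) ≤ m) : m ≤ 2 ∧ (2 < p → m ≤ 1) := by
  have key : ∀ k : ℕ, k + 3 < 2 ^ (k + 2) := by
    intro k
    induction k with
    | zero => norm_num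
    | succ k ih => rw [pow_succ]; omega
  have key3 : ∀ k : ℕ, k + 2 < 3 ^ (k + 1) := by
    intro k
    induction k with
    | zero => norm_num
    | succ k ih => rw [pow_succ]; omega
  constructor
  · by_contra hm
    push Not at hm
    obtain ⟨k, rfl⟩ : ∃ k, m = k + 3 := ⟨m - 3, by omega⟩
    have h1 : 2 ^ (k + 3 - 1) ≤ p ^ (k + 3 - 1) := Nat.pow_le_pow_left hp.two_le _
    have h2 := key k
    have : k + 3 - 1 = k + 2 := by omega
    rw [this] at h1 h
    omega
  · intro hp3
    by_contra hm
    push Not at hm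
    obtain ⟨k, rfl⟩ : ∃ k, m = k + 2 := ⟨m - 2, by omega⟩
    have h1 : 3 ^ (k + 2 - 1) ≤ p ^ (k + 2 - 1) := Nat.pow_le_pow_left hp3 _
    have h2 := key3 k
    have : k + 2 - 1 = k + 1 := by omega
    rw [this] at h1 h
    omega



/-- Let a finite group G act faithfully on a set Ω with p ^ m points (p prime) and have an elementary abelian normal p-subgroup N acting regularly on Ω (so G is a group of affine transformations of an m-dimensional space over the field with p elements). If G contains an element of order p ^ r with r ≥ 1, then p ^ (r − 1) ≤ m. In particular an element of order p ^ m forces m ≤ 2, and m ≤ 1 when p is odd. -/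
theorem result {G : Type*} [Group G] [Finite G] {Ω : Type*} [Fintype Ω] [MulAction G Ω] [FaithfulSMul G Ω] (p m : ℕ) (hp : p.Prime) (hcard : Fintype.card Ω = p ^ m)
    (N : Subgroup G) [N.Normal] (hNc : IsMulCommutative N) (hNp : ∀ n ∈ N, n ^ p = 1)
    (hNtr : MulAction.IsPretransitive N Ω) (hNreg : ∀ ω : Ω, MulAction.stabilizer N ω = ⊥)
    (g : G) (r : ℕ) (hr : 1 ≤ r) (hg : orderOf g = p ^ r) :
    p ^ (r - 1) ≤ m ∧ (r = m → m ≤ 2 ∧ (2 < p → m ≤ 1)) := by
  have : Fact p.Prime := ⟨hp⟩
  have hmain : p ^ (r - 1) ≤ m := by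
    by_contra hlt
    push Not at hlt
    have hΩ : Nonempty Ω := by
      rw [← Fintype.card_pos_iff, hcard]
      exact Nat.pow_pos hp.pos
    obtain ⟨ω0⟩ := hΩ
    -- card N = p ^ m
    have hcardN : Nat.card N = p ^ m := by
      rw [← hcard, ← Nat.card_eq_fintype_card]
      apply Nat.card_eq_of_bijective (fun n : N => n • ω0)
      constructor
      · intro a b hab
        have h1 : b⁻¹ * a ∈ MulAction.stabilizer N ω0 := by
          rw [MulAction.mem_stabilizer_iff, mul_smul]
          change a • ω0 = b • ω0 at hab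
          rw [hab, inv_smul_smul]
        rw [hNreg ω0, Subgroup.mem_bot] at h1
        exact (inv_mul_eq_one.mp h1).symm
      · intro ω
        exact MulAction.exists_smul_eq N ω0 ω
    let cg : CommGroup N := { (inferInstance : Group N) with mul_comm := fun a b => hNc.is_comm.comm a b }
    let acg : AddCommGroup (Additive N) := @Additive.addCommGroup N cg
    have hx : ∀ x : Additive N, p • x = 0 := fun x => by
      obtain ⟨n, rfl⟩ := Additive.ofMul.surjective x
      rw [← ofMul_pow]
      have : n ^ p = 1 := Subtype.ext (by simpa using hNp n n.2)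
      rw [this, ofMul_one]
    let mod : Module (ZMod p) (Additive N) := @AddCommGroup.zmodModule p (Additive N) acg hx
    have hfin : Finite (Additive N) := inferInstanceAs (Finite N)
    have hg1 : g ^ (p ^ r) = 1 := by rw [← hg]; exact pow_orderOf_eq_one g
    have hs : Nat.card (Additive N) < p ^ (p ^ (r - 1)) := by
      change Nat.card N < _
      rw [hcardN]
      exact Nat.pow_lt_pow_right hp.one_lt hlt
    have hfinal := @affine_bound G Ω _ _ _ p _ N _ (Additive N) acg mod hfin (AddEquiv.refl _) hNtr ω0 g r (r - 1) hg1 hs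
    have hdvd := orderOf_dvd_of_pow_eq_one hfinal
    rw [hg] at hdvd
    have hle := Nat.le_of_dvd (Nat.pow_pos hp.pos) hdvd
    have : r ≤ r - 1 := (Nat.pow_le_pow_iff_right hp.one_lt).mp hle
    omega
  refine ⟨hmain, ?_⟩
  intro hrm
  subst hrm
  exact arith p r hp hmain


end Cfsg.Agent.S3508
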