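import Cfsg.Statements.S3511

set_option autoImplicit false
open Cfsg

namespace Cfsg.Agent.S3511

lemma exists_prime_pow_mem_zpowers {G : Type*} [Group G] [Finite G] (g x : G)
    (hx : x ∈ Subgroup.zpowers g) (hx1 : x ≠ 1) :
    ∃ p : ℕ, p.Prime ∧ p ∣ orderOf g ∧ g ^ (orderOf g / p) ∈ Subgroup.zpowers x := by
  set n := orderOf g with hn
  have hnpos : 0 < n := orderOf_pos g
  obtain ⟨k, rfl⟩ := (mem_powers_iff_mem_zpowers).mpr hx
  have hnk : ¬ n ∣ k := by
    intro h
    apply hx1
    exact orderOf_dvd_iff_pow_eq_one.mp h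
  set e := Nat.gcd n k with he
  have hen : e ∣ n := Nat.gcd_dvd_left n k
  have hepos : 0 < e := Nat.gcd_pos_of_pos_left k hnpos
  have hne : n / e ≠ 1 := by
    intro h
    have : n = e := by
      have := Nat.div_mul_cancel hen
      rw [h, one_mul] at this
      exact this.symm
    apply hnk
    rw [this]
    exact Nat.gcd_dvd_right n k
  obtain ⟨p, hp, hpd⟩ := Nat.exists_prime_and_dvd hne
  have hpn : p ∣ n := hpd.trans (Nat.div_dvd_of_dvd hen)
  refine ⟨p, hp, hpn, ?_⟩
  obtain ⟨c, hc⟩ := hpd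
  have hnpc : n / p = e * c := by
    have h1 : n = e * (p * c) := by
      rw [← hc]; exact (Nat.mul_div_cancel' hen).symm
    have h2 : n = p * (e * c) := by rw [h1]; ring
    rw [h2, Nat.mul_div_cancel_left _ hp.pos]
  have hge : g ^ e ∈ Subgroup.zpowers (g ^ k) := by
    have hb := Nat.gcd_eq_gcd_ab n k
    have : g ^ e = (g ^ k) ^ (Nat.gcdB n k) := by
      rw [← zpow_natCast g e]
      rw [show ((e : ℕ) : ℤ) = (n : ℤ) * Nat.gcdA n k + (k : ℤ) * Nat.gcdB n k from hb]
      rw [zpow_add, zpow_mul, zpow_mul, zpow_natCast, zpow_natCast, hn, pow_orderOf_eq_one, one_zpow,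
        one_mul]
    rw [this]
    exact Subgroup.zpow_mem _ (Subgroup.mem_zpowers _) _
  rw [hnpc, pow_mul]
  exact Subgroup.pow_mem _ hge _


/-- Let a finite group G act faithfully on a set Ω. If every element of G of square-free order has a regular cycle (an orbit of the cyclic group it generates with trivial stabilizer), then every element of G has a regular cycle. -/
theorem result {G : Type*} [Group G] [Finite G] {Ω : Type*} [MulAction G Ω] [FaithfulSMul G Ω]
    (h : ∀ g : G, Squarefree (orderOf g) → ∃ ω : Ω, MulAction.stabilizer (Subgroup.zpowers g) ω = ⊥) (g : G) :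
    ∃ ω : Ω, MulAction.stabilizer (Subgroup.zpowers g) ω = ⊥ := by
  set n := orderOf g with hn
  have hnpos : 0 < n := orderOf_pos g
  set m := ∏ p ∈ n.primeFactors, p with hm
  have hmn : m ∣ n := Nat.prod_primeFactors_dvd n
  have hmpos : 0 < m := Nat.pos_of_dvd_of_pos hmn hnpos
  have hmsq : Squarefree m := by
    rw [hm]
    apply Finset.squarefree_prod_of_pairwise_isCoprime
    · intro a ha b hb hab
      have hpa := Nat.prime_of_mem_primeFactors ha
      have hpb := Nat.prime_of_mem_primeFactors hb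
      exact Nat.coprime_iff_isRelPrime.mp ((Nat.coprime_primes hpa hpb).mpr hab)
    · intro a ha
      exact (Nat.prime_of_mem_primeFactors ha).prime.squarefree
  have hord : orderOf (g ^ (n / m)) = m := by
    rw [orderOf_pow, ← hn, Nat.gcd_eq_right (Nat.div_dvd_of_dvd hmn), Nat.div_div_self hmn hnpos.ne']
  obtain ⟨ω, hω⟩ := h (g ^ (n / m)) (by rw [hord]; exact hmsq)
  refine ⟨ω, ?_⟩
  rw [Subgroup.eq_bot_iff_forall]
  rintro ⟨x, hx⟩ hxω
  by_contra hx1
  have hx1' : x ≠ 1 := fun h => hx1 (Subtype.ext h)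
  obtain ⟨p, hp, hpn, hmem⟩ := exists_prime_pow_mem_zpowers g x hx hx1'
  have hfix : (g ^ (n / p)) • ω = ω := by
    obtain ⟨j, hj⟩ := Subgroup.mem_zpowers_iff.mp hmem
    rw [← hj]
    have hxω' : x • ω = ω := hxω
    have : ∀ j : ℤ, (x ^ j) • ω = ω := by
      intro j
      have hxmem : x ∈ MulAction.stabilizer G ω := hxω'
      exact Subgroup.zpow_mem _ hxmem j
    exact this j
  have hpm : p ∣ m := by
    rw [hm]
    exact Finset.dvd_prod_of_mem _ (Nat.mem_primeFactors.mpr ⟨hp, hpn, hnpos.ne'⟩)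
  have hnp : n / p = (n / m) * (m / p) := by
    obtain ⟨a, ha⟩ := hmn
    obtain ⟨b, hb⟩ := hpm
    have hbpos : 0 < b := by
      rcases Nat.eq_zero_or_pos b with h0 | h0
      · rw [h0, mul_zero] at hb; omega
      · exact h0
    rw [ha, Nat.mul_div_cancel_left _ hmpos, hb, Nat.mul_div_cancel_left _ hp.pos,
      mul_assoc, Nat.mul_div_cancel_left _ hp.pos, mul_comm]
  have hmem' : (g ^ (n / m)) ^ (m / p) ∈ Subgroup.zpowers (g ^ (n / m)) :=
    Subgroup.pow_mem _ (Subgroup.mem_zpowers _) _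
  have hstab : (⟨(g ^ (n / m)) ^ (m / p), hmem'⟩ : Subgroup.zpowers (g ^ (n / m))) ∈
      MulAction.stabilizer (Subgroup.zpowers (g ^ (n / m))) ω := by
    rw [MulAction.mem_stabilizer_iff]
    change ((g ^ (n / m)) ^ (m / p)) • ω = ω
    rw [← pow_mul, ← hnp]
    exact hfix
  rw [hω, Subgroup.mem_bot] at hstab
  have h1 : (g ^ (n / m)) ^ (m / p) = 1 := congrArg Subtype.val hstab
  have hdvd : m ∣ m / p := by
    have := orderOf_dvd_of_pow_eq_one h1
    rwa [hord] at this
  have hlt : m / p < m := Nat.div_lt_self hmpos hp.one_lt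
  have hpos : 0 < m / p := Nat.div_pos (Nat.le_of_dvd hmpos hpm) hp.pos
  exact absurd (Nat.le_of_dvd hpos hdvd) (by omega)

end Cfsg.Agent.S3511
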