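import Cfsg.Statements.S3514
import Cfsg.Agent.Lib.Helper20.HallSep

set_option autoImplicit false
open Cfsg

namespace Cfsg.Agent.S3514


open Cfsg.Agent.Lib.Helper20

section orb
variable {Γ : Type*} [Group Γ]

/-- `|S'K : S'| = |K : K ∩ S'|` when `S'` normalizes `K` -/
theorem relIndex_sup_eq_of_le_normalizer [Finite Γ] (S' K : Subgroup Γ)
    (hLE : S' ≤ Subgroup.normalizer (K : Set Γ)) : S'.relIndex (S' ⊔ K) = S'.relIndex K := by
  have h1 : K.relIndex (S' ⊔ K) = K.relIndex S' := by
    have := Subgroup.normal_subgroupOf_of_le_normalizer hLE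
    have := Subgroup.normal_subgroupOf_sup_of_le_normalizer hLE
    exact (Nat.card_congr
      (QuotientGroup.quotientInfEquivProdNormalizerQuotient S' K hLE).toEquiv).symm
  have e1 := Cfsg.Agent.Lib.helper23.card_mul_relIndex (le_sup_right : K ≤ S' ⊔ K)
  have e2 := Cfsg.Agent.Lib.helper23.card_mul_relIndex (le_sup_left : S' ≤ S' ⊔ K)
  have e3 := Cfsg.Agent.Lib.helper23.card_mul_relIndex (inf_le_right : K ⊓ S' ≤ S')
  have e4 := Cfsg.Agent.Lib.helper23.card_mul_relIndex (inf_le_right : S' ⊓ K ≤ K)
  rw [Subgroup.inf_relIndex_right] at e3 e4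
  rw [h1] at e1
  have hpos : 0 < Nat.card S' := Nat.card_pos
  have hinf : Nat.card ↥(S' ⊓ K) = Nat.card ↥(K ⊓ S') := by rw [inf_comm]
  apply Nat.eq_of_mul_eq_mul_left hpos
  rw [e2, ← e1, ← e4, ← e3, hinf]
  ring

variable {V : Type*} [MulAction Γ V]

theorem card_orbit_eq_relIndex [Finite Γ] (K : Subgroup Γ) (v : V) :
    Nat.card {u : V | ∃ k ∈ K, k • v = u} = (MulAction.stabilizer Γ v).relIndex K := by
  have h1 : {u : V | ∃ k ∈ K, k • v = u} = MulAction.orbit K v := by
    ext u
    constructor
    · rintro ⟨k, hk, rfl⟩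
      exact ⟨⟨k, hk⟩, rfl⟩
    · rintro ⟨⟨k, hk⟩, rfl⟩
      exact ⟨k, hk, rfl⟩
  rw [h1, Nat.card_coe_set_eq, ← MulAction.index_stabilizer]
  rfl

end orb


/-- Let p be a prime, V a finite vector space over the field with p elements, and H a group of linear transformations of V all of whose orbits on V have size coprime to p. (i) Every normal subgroup K of H has all its orbits on V of size coprime to p. (ii) If N is a group of linear transformations of V of order coprime to p that is normalized by H, then the group generated by N and H has all its orbits on V of size coprime to p. -/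
theorem result (p : ℕ) [Fact p.Prime] {V : Type*} [AddCommGroup V] [Module (ZMod p) V] [Finite V]
    (H : Subgroup (V ≃ₗ[ZMod p] V)) (hH : ∀ v : V, ¬ p ∣ Nat.card {u : V | ∃ h ∈ H, h v = u}) :
    (∀ K : Subgroup (V ≃ₗ[ZMod p] V), K ≤ H → H ≤ Subgroup.normalizer (K : Set (V ≃ₗ[ZMod p] V)) →
        ∀ v : V, ¬ p ∣ Nat.card {u : V | ∃ k ∈ K, k v = u}) ∧
    (∀ N : Subgroup (V ≃ₗ[ZMod p] V), ¬ p ∣ Nat.card N → H ≤ Subgroup.normalizer (N : Set (V ≃ₗ[ZMod p] V)) →
        ∀ v : V, ¬ p ∣ Nat.card {u : V | ∃ x ∈ N ⊔ H, x v = u}) := by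
  classical
  have hp : p.Prime := Fact.out
  haveI : Finite (V ≃ₗ[ZMod p] V) :=
    Finite.of_injective (fun f => (f : V → V)) DFunLike.coe_injective
  have key : ∀ (K : Subgroup (V ≃ₗ[ZMod p] V)) (v : V),
      Nat.card {u : V | ∃ k ∈ K, k v = u} =
        (MulAction.stabilizer (V ≃ₗ[ZMod p] V) v).relIndex K :=
    fun K v => card_orbit_eq_relIndex K v
  constructor
  · intro K hKH hHK v
    rw [key]
    have hv := hH v
    rw [key] at hv
    set S := MulAction.stabilizer (V ≃ₗ[ZMod p] V) v with hS
    set S' := S ⊓ H with hS'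
    have h1 : S.relIndex K = S'.relIndex K := by
      rw [← Subgroup.inf_relIndex_right S K, ← Subgroup.inf_relIndex_right S' K, hS', inf_assoc,
        inf_eq_right.mpr hKH]
    have h2 : S'.relIndex (S' ⊔ K) = S'.relIndex K :=
      relIndex_sup_eq_of_le_normalizer S' K (inf_le_right.trans hHK)
    have h3 : S'.relIndex (S' ⊔ K) * (S' ⊔ K).relIndex H = S'.relIndex H :=
      Subgroup.relIndex_mul_relIndex S' (S' ⊔ K) H le_sup_left (sup_le inf_le_right hKH)
    have h4 : S'.relIndex H = S.relIndex H := Subgroup.inf_relIndex_right S H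
    intro hd
    apply hv
    rw [← h4, ← h3, h2, ← h1]
    exact Dvd.dvd.mul_right hd _
  · intro N hN hHN v
    rw [key]
    have hv := hH v
    rw [key] at hv
    set S := MulAction.stabilizer (V ≃ₗ[ZMod p] V) v with hS
    set S' := S ⊓ H with hS'
    set L := N ⊔ H with hL
    have hHL : H ≤ L := le_sup_right
    have h1 : S.relIndex L ∣ S'.relIndex L := by
      rw [← Subgroup.inf_relIndex_right S L]
      exact Subgroup.relIndex_dvd_of_le_left L (le_inf inf_le_left (inf_le_right.trans hHL))
    have h2 : S'.relIndex H * H.relIndex L = S'.relIndex L :=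
      Subgroup.relIndex_mul_relIndex S' H L inf_le_right hHL
    have h3 : H.relIndex L = H.relIndex N := by
      rw [hL, sup_comm]
      exact relIndex_sup_eq_of_le_normalizer H N hHN
    have h4 : S'.relIndex H = S.relIndex H := Subgroup.inf_relIndex_right S H
    intro hd
    have hd' := hd.trans h1
    rw [← h2, h3, h4] at hd'
    rcases (Nat.Prime.dvd_mul hp).mp hd' with h | h
    · exact hv h
    · exact hN (h.trans (Subgroup.relIndex_dvd_card _ _))

end Cfsg.Agent.S3514
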