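import Cfsg.Statements.S3515
import Cfsg.Agent.Lib.Helper20.AffineClosure

set_option autoImplicit false
open Cfsg

namespace Cfsg.Agent.S3515

theorem four_points : ∀ x : Fin 2 → ZMod 2, x = 0 ∨ x = Pi.single 0 1 ∨ x = Pi.single 1 1 ∨
    x = Pi.single 0 1 + Pi.single 1 1 := by decide


/-- Every primitive affine permutation group of degree p² is 3-closed. Let p be a prime and G a group of permutations of the plane V = F_p² consisting of affine maps x ↦ Ax + b, containing all translations, and acting primitively on V. Then any permutation σ of V that agrees on every triple of points with some element of G (σ preserves every G-orbit on ordered triples) already lies in G. -/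
theorem result (p : ℕ) [Fact p.Prime] (G : Subgroup (Equiv.Perm (Fin 2 → ZMod p)))
    (haff : (G : Set (Equiv.Perm (Fin 2 → ZMod p))) ⊆ {τ : Equiv.Perm (Fin 2 → ZMod p) | ∃ (A : (Fin 2 → ZMod p) ≃ₗ[ZMod p] (Fin 2 → ZMod p)) (b : Fin 2 → ZMod p), ∀ x, τ x = A x + b})
    (htrans : ∀ b : Fin 2 → ZMod p, ∃ g ∈ G, ∀ x, g x = x + b) (hprim : MulAction.IsPreprimitive G (Fin 2 → ZMod p))
    (σ : Equiv.Perm (Fin 2 → ZMod p)) (hσ : (∀ t : Fin 3 → (Fin 2 → ZMod p), ∃ g ∈ G, ∀ i, σ (t i) = g (t i))) : σ ∈ G := by
  obtain ⟨g, hg, hgt⟩ := hσ ![0, Pi.single 0 1, Pi.single 1 1]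
  have h0 : σ 0 = g 0 := hgt 0
  have h1 : σ (Pi.single 0 1) = g (Pi.single 0 1) := hgt 1
  have h2 : σ (Pi.single 1 1) = g (Pi.single 1 1) := hgt 2
  suffices hsg : σ = g by rw [hsg]; exact hg
  by_cases hp : p = 2
  · subst hp
    have hagree : ∀ x : Fin 2 → ZMod 2, x ≠ Pi.single 0 1 + Pi.single 1 1 → σ x = g x := by
      intro x hx
      rcases four_points x with rfl | rfl | rfl | rfl
      · exact h0
      · exact h1
      · exact h2
      · exact absurd rfl hx
    apply Equiv.ext
    intro x
    by_cases hx : x = Pi.single 0 1 + Pi.single 1 1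
    · subst hx
      by_contra hne
      have hy : g.symm (σ (Pi.single 0 1 + Pi.single 1 1)) ≠ Pi.single 0 1 + Pi.single 1 1 := by
        intro h
        apply hne
        have := congrArg g h
        rw [Equiv.apply_symm_apply] at this
        exact this
      have h3 := hagree _ hy
      rw [Equiv.apply_symm_apply] at h3
      exact hy (σ.injective h3)
    · exact hagree x hx
  · obtain ⟨A, b, hA⟩ := Cfsg.Agent.Lib.Helper20.affine_of_triples hp σ (fun t => by
      obtain ⟨g', hg', h'⟩ := hσ t
      obtain ⟨A', b', hAb'⟩ := haff hg'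
      exact ⟨A', b', fun i => by rw [h' i, hAb']⟩)
    obtain ⟨A', b', hA'⟩ := haff hg
    have hb : b = b' := by
      have := h0
      rw [hA, hA', map_zero, map_zero, zero_add, zero_add] at this
      exact this
    have he1 : A (Pi.single 0 1) = A' (Pi.single 0 1) := by
      have := h1
      rw [hA, hA', hb] at this
      exact add_right_cancel this
    have he2 : A (Pi.single 1 1) = A' (Pi.single 1 1) := by
      have := h2
      rw [hA, hA', hb] at this
      exact add_right_cancel this
    apply Equiv.ext
    intro x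
    have hx : x = x 0 • (Pi.single 0 1 : Fin 2 → ZMod p) + x 1 • (Pi.single 1 1 : Fin 2 → ZMod p) := by
      ext i
      fin_cases i <;> simp
    rw [hA, hA', hb, hx, map_add, map_add, map_smul, map_smul, map_smul, map_smul, he1, he2]

end Cfsg.Agent.S3515
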