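import Cfsg.Statements.S3517

set_option autoImplicit false
open Cfsg

namespace Cfsg.Agent.S3517

open Module in
theorem exists_linearEquiv_of_li {K V ι : Type*} [Field K] [AddCommGroup V] [Module K V]
    [FiniteDimensional K V] (u v : ι → V) (hu : LinearIndependent K u)
    (hv : LinearIndependent K v) : ∃ A : V ≃ₗ[K] V, ∀ i, A (u i) = v i := by
  let f : Submodule.span K (Set.range u) ≃ₗ[K] Submodule.span K (Set.range v) :=
    (Basis.span hu).equiv (Basis.span hv) (Equiv.refl ι)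
  obtain ⟨g, hg⟩ := Submodule.exists_linearEquiv_restrict_eq f
  refine ⟨g, fun i => ?_⟩
  have h1 : f (Basis.span hu i) = Basis.span hv i := by
    change (Basis.span hu).equiv (Basis.span hv) (Equiv.refl ι) (Basis.span hu i) = _
    rw [Basis.equiv_apply]; rfl
  have h2 := hg (Basis.span hu i)
  rw [h1, Basis.span_apply, Basis.span_apply] at h2
  exact h2.symm

theorem exists_single {d : ℕ} (x y : Fin d → ZMod 2) (hx : x ≠ 0) (hy : y ≠ 0) :
    ∃ A : (Fin d → ZMod 2) ≃ₗ[ZMod 2] (Fin d → ZMod 2), A x = y := by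
  obtain ⟨A, hA⟩ := exists_linearEquiv_of_li (K := ZMod 2) (fun _ : Unit => x) (fun _ : Unit => y)
    (linearIndependent_unique_iff.mpr hx) (linearIndependent_unique_iff.mpr hy)
  exact ⟨A, hA ()⟩

theorem li_pair {d : ℕ} (x y : Fin d → ZMod 2) (hx : x ≠ 0) (hy : y ≠ 0) (hxy : x ≠ y) :
    LinearIndependent (ZMod 2) ![x, y] := by
  rw [LinearIndependent.pair_iff]
  have h01 : ∀ s : ZMod 2, s = 0 ∨ s = 1 := by decide
  intro s t h
  have hs := h01 s
  have ht := h01 t
  rcases hs with rfl | rfl <;> rcases ht with rfl | rfl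
  · exact ⟨rfl, rfl⟩
  · simp at h; exact absurd h hy
  · simp at h; exact absurd h hx
  · exfalso
    apply hxy
    simp only [one_smul] at h
    have hyy : y + y = 0 := by
      ext i
      exact CharTwo.add_self_eq_zero (y i)
    exact add_right_cancel (h.trans hyy.symm)

theorem exists_pair {d : ℕ} (x y x' y' : Fin d → ZMod 2) (hx : x ≠ 0) (hy : y ≠ 0) (hxy : x ≠ y)
    (hx' : x' ≠ 0) (hy' : y' ≠ 0) (hxy' : x' ≠ y') :
    ∃ A : (Fin d → ZMod 2) ≃ₗ[ZMod 2] (Fin d → ZMod 2), A x = x' ∧ A y = y' := by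
  obtain ⟨A, hA⟩ := exists_linearEquiv_of_li (K := ZMod 2) ![x, y] ![x', y']
    (li_pair x y hx hy hxy) (li_pair x' y' hx' hy' hxy')
  exact ⟨A, by simpa using hA 0, by simpa using hA 1⟩


/-- For d ≥ 3, the 3-closure of the affine group AGL_d(2) acting on F_2^d is the full symmetric group: every permutation of F_2^d agrees on every ordered triple of points with some affine map (AGL_d(2) is 3-transitive). -/
theorem result (d : ℕ) (hd : 3 ≤ d) (σ : Equiv.Perm (Fin d → ZMod 2)) (t : Fin 3 → (Fin d → ZMod 2)) :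
    ∃ (A : (Fin d → ZMod 2) ≃ₗ[ZMod 2] (Fin d → ZMod 2)) (b : Fin d → ZMod 2), ∀ i, σ (t i) = A (t i) + b := by
  have hinj := σ.injective
  -- reduce to finding a linear map on the differences
  suffices h : ∃ A : (Fin d → ZMod 2) ≃ₗ[ZMod 2] (Fin d → ZMod 2),
      A (t 1 - t 0) = σ (t 1) - σ (t 0) ∧ A (t 2 - t 0) = σ (t 2) - σ (t 0) by
    obtain ⟨A, h1, h2⟩ := h
    refine ⟨A, σ (t 0) - A (t 0), ?_⟩
    intro i
    fin_cases i
    · simp
    · have : A (t 1) = A (t 1 - t 0) + A (t 0) := by rw [← map_add, sub_add_cancel]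
      simp only [Fin.mk_one, Fin.isValue]
      rw [this, h1]; abel
    · have : A (t 2) = A (t 2 - t 0) + A (t 0) := by rw [← map_add, sub_add_cancel]
      simp only [Fin.reduceFinMk, Fin.isValue]
      rw [this, h2]; abel
  have e1 : t 1 - t 0 = 0 ↔ σ (t 1) - σ (t 0) = 0 := by
    rw [sub_eq_zero, sub_eq_zero]
    exact ⟨fun h => by rw [h], fun h => hinj h⟩
  have e2 : t 2 - t 0 = 0 ↔ σ (t 2) - σ (t 0) = 0 := by
    rw [sub_eq_zero, sub_eq_zero]
    exact ⟨fun h => by rw [h], fun h => hinj h⟩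
  have e3 : t 1 - t 0 = t 2 - t 0 ↔ σ (t 1) - σ (t 0) = σ (t 2) - σ (t 0) := by
    rw [sub_left_inj, sub_left_inj]
    exact ⟨fun h => by rw [h], fun h => hinj h⟩
  by_cases h1 : t 1 - t 0 = 0
  · by_cases h2 : t 2 - t 0 = 0
    · refine ⟨LinearEquiv.refl _ _, ?_, ?_⟩
      · rw [h1, e1.mp h1]; simp
      · rw [h2, e2.mp h2]; simp
    · obtain ⟨A, hA⟩ := exists_single _ _ h2 (fun h => h2 (e2.mpr h))
      refine ⟨A, ?_, hA⟩
      rw [h1, e1.mp h1, map_zero]
  · by_cases h2 : t 2 - t 0 = 0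
    · obtain ⟨A, hA⟩ := exists_single _ _ h1 (fun h => h1 (e1.mpr h))
      refine ⟨A, hA, ?_⟩
      rw [h2, e2.mp h2, map_zero]
    · by_cases h3 : t 1 - t 0 = t 2 - t 0
      · obtain ⟨A, hA⟩ := exists_single _ _ h1 (fun h => h1 (e1.mpr h))
        refine ⟨A, hA, ?_⟩
        rw [← h3, hA]; exact e3.mp h3
      · exact exists_pair _ _ _ _ h1 h2 h3 (fun h => h1 (e1.mpr h)) (fun h => h2 (e2.mpr h))
          (fun h => h3 (e3.mpr h))

end Cfsg.Agent.S3517
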