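import Cfsg.Statements.S3518
import Cfsg.Agent.Lib.Helper20.AffinePrime

set_option autoImplicit false
open Cfsg

namespace Cfsg.Agent.S3518



/-- Closures of subgroups of the one-dimensional affine group. Let p be a prime and G a group of permutations of F_p lying in the affine group AGL₁(p) = {x ↦ ax + b, a ≠ 0} and containing all translations. (1) If G is a proper subgroup of AGL₁(p), then G is 2-closed: a permutation of F_p agreeing on every ordered pair of points with some element of G lies in G. (2) Every permutation of F_p agrees on every ordered pair with some element of AGL₁(p) (the 2-closure of AGL₁(p) is the symmetric group). (3) AGL₁(p) is 3-closed: a permutation agreeing on every ordered triple with some affine map is affine. -/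
theorem result (p : ℕ) [Fact p.Prime] (G : Subgroup (Equiv.Perm (ZMod p))) (hG : G ≤ Cfsg.affineGroup (ZMod p))
    (htrans : ∀ b : ZMod p, ∃ g ∈ G, ∀ x, g x = x + b) :
    (G ≠ Cfsg.affineGroup (ZMod p) → ∀ σ : Equiv.Perm (ZMod p), (∀ t : Fin 2 → ZMod p, ∃ g ∈ G, ∀ i, σ (t i) = g (t i)) → σ ∈ G) ∧
    (∀ σ : Equiv.Perm (ZMod p), (∀ t : Fin 2 → ZMod p, ∃ g ∈ Cfsg.affineGroup (ZMod p), ∀ i, σ (t i) = g (t i))) ∧
    (∀ σ : Equiv.Perm (ZMod p), (∀ t : Fin 3 → ZMod p, ∃ g ∈ Cfsg.affineGroup (ZMod p), ∀ i, σ (t i) = g (t i)) → σ ∈ Cfsg.affineGroup (ZMod p)) := by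
  have hp1 : Fact (1 < p) := ⟨(Fact.out : p.Prime).one_lt⟩
  refine ⟨fun hne σ hσ => Cfsg.Agent.Lib.Helper20.twoClosed_of_ne G hG htrans hne σ hσ, ?_, ?_⟩
  · intro σ t
    by_cases h : t 0 = t 1
    · refine ⟨Cfsg.Agent.Lib.Helper20.affPerm 1 (σ (t 0) - t 0),
        Cfsg.Agent.Lib.Helper20.affPerm_mem _ _, fun i => ?_⟩
      rw [Cfsg.Agent.Lib.Helper20.affPerm_apply]
      fin_cases i
      · simp
      · simp only [Fin.mk_one, Fin.isValue, Units.val_one, one_mul]
        rw [← h]; ring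
    · have hd : t 1 - t 0 ≠ 0 := sub_ne_zero.mpr (Ne.symm h)
      have hs : σ (t 1) - σ (t 0) ≠ 0 := by
        rw [sub_ne_zero]
        intro e
        exact h (σ.injective e).symm
      have ha : (σ (t 1) - σ (t 0)) * (t 1 - t 0)⁻¹ ≠ 0 := mul_ne_zero hs (inv_ne_zero hd)
      refine ⟨Cfsg.Agent.Lib.Helper20.affPerm (Units.mk0 _ ha)
        (σ (t 0) - (σ (t 1) - σ (t 0)) * (t 1 - t 0)⁻¹ * t 0),
        Cfsg.Agent.Lib.Helper20.affPerm_mem _ _, fun i => ?_⟩
      rw [Cfsg.Agent.Lib.Helper20.affPerm_apply, Units.val_mk0]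
      fin_cases i
      · simp
      · simp only [Fin.mk_one, Fin.isValue]
        have e : (σ (t 1) - σ (t 0)) * (t 1 - t 0)⁻¹ * t 1 +
            (σ (t 0) - (σ (t 1) - σ (t 0)) * (t 1 - t 0)⁻¹ * t 0) =
            (σ (t 1) - σ (t 0)) * ((t 1 - t 0)⁻¹ * (t 1 - t 0)) + σ (t 0) := by ring
        rw [e, inv_mul_cancel₀ hd]; ring
  · intro σ hσ
    have hform : ∀ x : ZMod p, σ x = (σ 1 - σ 0) * x + σ 0 := by
      intro x
      obtain ⟨g, ⟨a, b, hab⟩, hg⟩ := hσ ![0, 1, x]
      have h0 : σ 0 = g 0 := hg 0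
      have h1 : σ 1 = g 1 := hg 1
      have h2 : σ x = g x := hg 2
      rw [hab] at h0 h1 h2
      rw [h2, h1, h0]; ring
    have hk : σ 1 - σ 0 ≠ 0 := by
      rw [sub_ne_zero]
      intro e
      exact one_ne_zero (σ.injective e)
    exact ⟨Units.mk0 _ hk, σ 0, hform⟩

end Cfsg.Agent.S3518
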