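import Mathlib
import Cfsg.Statements.S3532
import Cfsg.Agent.S2475
import Cfsg.Agent.Lib.Helper19.FieldFrob
-- import your own Cfsg.Agent.* helpers here

set_option autoImplicit false
open Cfsg

namespace Cfsg.Agent.S3532

open Cfsg.Agent.Lib.Helper19.FieldFrob

theorem range_orderOf_prod (A B : Type*) [Monoid A] [Monoid B] :
    Set.range (orderOf : A × B → ℕ) =
      Set.image2 Nat.lcm (Set.range (orderOf : A → ℕ)) (Set.range (orderOf : B → ℕ)) := by
  ext k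
  constructor
  · rintro ⟨⟨a, b⟩, rfl⟩
    exact ⟨_, ⟨a, rfl⟩, _, ⟨b, rfl⟩, (Prod.orderOf (a, b)).symm⟩
  · rintro ⟨_, ⟨a, rfl⟩, _, ⟨b, rfl⟩, rfl⟩
    exact ⟨(a, b), Prod.orderOf _⟩

theorem lcm_sets (p m1 m2 : ℕ) (hp : p.Prime) :
    Set.image2 Nat.lcm (insert p {k | k ∣ m1}) (insert p {k | k ∣ m2}) =
      Set.image2 Nat.lcm {m | m ∣ p ∨ m ∣ m1 ∨ m ∣ m2} {m | m ∣ p ∨ m ∣ m1 ∨ m ∣ m2} := by
  ext k
  constructor
  · rintro ⟨a, ha, b, hb, rfl⟩
    refine ⟨a, ?_, b, ?_, rfl⟩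
    · rcases ha with rfl | ha
      · exact Or.inl dvd_rfl
      · exact Or.inr (Or.inl ha)
    · rcases hb with rfl | hb
      · exact Or.inl dvd_rfl
      · exact Or.inr (Or.inr hb)
  · rintro ⟨a, ha, b, hb, rfl⟩
    have h1 : ∀ c, c ∣ p → c = 1 ∨ c = p := fun c hc => (Nat.dvd_prime hp).1 hc
    have one1 : (1 : ℕ) ∈ insert p {k | k ∣ m1} := Or.inr (one_dvd _)
    have one2 : (1 : ℕ) ∈ insert p {k | k ∣ m2} := Or.inr (one_dvd _)
    have pp1 : p ∈ insert p {k | k ∣ m1} := Or.inl rfl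
    have pp2 : p ∈ insert p {k | k ∣ m2} := Or.inl rfl
    rcases ha with ha | ha | ha <;> rcases hb with hb | hb | hb
    · rcases h1 a ha with h | h <;> rcases h1 b hb with h' | h' <;> rw [h, h']
      · exact ⟨1, one1, 1, one2, rfl⟩
      · exact ⟨1, one1, p, pp2, rfl⟩
      · exact ⟨p, pp1, 1, one2, rfl⟩
      · exact ⟨p, pp1, p, pp2, rfl⟩
    · rcases h1 a ha with h | h <;> rw [h]
      · exact ⟨b, Or.inr hb, 1, one2, Nat.lcm_comm _ _⟩
      · exact ⟨b, Or.inr hb, p, pp2, Nat.lcm_comm _ _⟩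
    · rcases h1 a ha with h | h <;> rw [h]
      · exact ⟨1, one1, b, Or.inr hb, rfl⟩
      · exact ⟨p, pp1, b, Or.inr hb, rfl⟩
    · rcases h1 b hb with h | h <;> rw [h]
      · exact ⟨a, Or.inr ha, 1, one2, rfl⟩
      · exact ⟨a, Or.inr ha, p, pp2, rfl⟩
    · exact ⟨Nat.lcm a b, Or.inr (Nat.lcm_dvd ha hb), 1, one2, Nat.lcm_one_right _⟩
    · exact ⟨a, Or.inr ha, b, Or.inr hb, rfl⟩
    · rcases h1 b hb with h | h <;> rw [h]
      · exact ⟨1, one1, a, Or.inr ha, Nat.lcm_comm _ _⟩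
      · exact ⟨p, pp1, a, Or.inr ha, Nat.lcm_comm _ _⟩
    · exact ⟨b, Or.inr hb, a, Or.inr ha, Nat.lcm_comm _ _⟩
    · exact ⟨1, one1, Nat.lcm a b, Or.inr (Nat.lcm_dvd ha hb), Nat.lcm_one_left _⟩

/-- Let q ≥ 4 be a prime power and L = PSL(2,q). There is a finite solvable group with the same set of element orders as L × L (so L × L is not determined by its spectrum). -/
theorem result {F : Type*} [Field F] [Fintype F] (hF : 4 ≤ Fintype.card F) :
    ∃ (H : Type) (_ : Group H) (_ : Finite H), Group.IsSolvable H ∧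
      Set.range (orderOf : H → ℕ) = Set.range (orderOf : Matrix.ProjectiveSpecialLinearGroup (Fin 2) F × Matrix.ProjectiveSpecialLinearGroup (Fin 2) F → ℕ) := by
  obtain ⟨p, hp⟩ := CharP.exists F
  have := hp
  obtain ⟨n, hpp, hq⟩ := FiniteField.card F p
  have : Fact p.Prime := ⟨hpp⟩
  have hspec := Cfsg.Agent.S2475.result (F := F) p hF
  have hd2 : Nat.gcd 2 (Fintype.card F - 1) ∣ 2 := Nat.gcd_dvd_left _ _
  have hdq : Nat.gcd 2 (Fintype.card F - 1) ∣ Fintype.card F - 1 := Nat.gcd_dvd_right _ _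
  have hdq' : Nat.gcd 2 (Fintype.card F - 1) ∣ Fintype.card F + 1 := by
    have : Fintype.card F + 1 = (Fintype.card F - 1) + 2 := by omega
    rw [this]; exact dvd_add hdq hd2
  have hsq : Fintype.card F ^ 2 - 1 = (Fintype.card F - 1) * (Fintype.card F + 1) := by
    have h1 : 1 ≤ Fintype.card F := by omega
    obtain ⟨c, hc⟩ : ∃ c, Fintype.card F = c + 1 := ⟨Fintype.card F - 1, by omega⟩
    rw [hc]
    have : (c + 1) ^ 2 - 1 = (c + 1 - 1) * (c + 1 + 1) := by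
      rw [Nat.add_sub_cancel]
      have : (c + 1) ^ 2 = c * (c + 1 + 1) + 1 := by ring
      rw [this, Nat.add_sub_cancel]
    exact this
  have hm1 : (Fintype.card F - 1) / Nat.gcd 2 (Fintype.card F - 1) ∣ Fintype.card F ^ 2 - 1 := by
    rw [hsq]
    exact (Nat.div_dvd_of_dvd hdq).trans (dvd_mul_right _ _)
  have hm2 : (Fintype.card F + 1) / Nat.gcd 2 (Fintype.card F - 1) ∣ Fintype.card F ^ 2 - 1 := by
    rw [hsq]
    exact (Nat.div_dvd_of_dvd hdq').trans (dvd_mul_left _ _)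
  have hK : Nat.card (GaloisField p (2 * n)) = Fintype.card F ^ 2 := by
    rw [GaloisField.card p (2 * n) (by positivity), hq, ← pow_mul, mul_comm]
  rw [← hK] at hm1 hm2
  obtain ⟨ζ1, h1⟩ := exists_unit_orderOf (K := GaloisField p (2 * n)) _ hm1
  obtain ⟨ζ2, h2⟩ := exists_unit_orderOf (K := GaloisField p (2 * n)) _ hm2
  have := isSolvable_Fr (Subgroup.zpowers ζ1)
  have := isSolvable_Fr (Subgroup.zpowers ζ2)
  refine ⟨Fr (Subgroup.zpowers ζ1) × Fr (Subgroup.zpowers ζ2), inferInstance, inferInstance,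
    inferInstance, ?_⟩
  rw [range_orderOf_prod, range_orderOf_prod, hspec, range_orderOf_Fr_zpowers p hpp,
    range_orderOf_Fr_zpowers p hpp, h1, h2]
  exact lcm_sets p _ _ hpp

end Cfsg.Agent.S3532
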