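import Cfsg.Statements.S3554

set_option autoImplicit false
open Cfsg

namespace Cfsg.Agent.S3554

/-- Let G act faithfully and transitively on a finite set and suppose G has a non-trivial cyclic normal subgroup. Then some element of G of prime order fixes no point. -/
theorem result {G Ω : Type*} [Group G] [Finite G] [MulAction G Ω] [FaithfulSMul G Ω] [Finite Ω]
    (htrans : MulAction.IsPretransitive G Ω) (C : Subgroup G) (hC : C.Normal) (hC1 : C ≠ ⊥) (hcyc : IsCyclic ↥C) :
    ∃ g : G, (orderOf g).Prime ∧ ∀ ω : Ω, g • ω ≠ ω := by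
  obtain ⟨g0, hg0⟩ := hcyc.exists_generator
  set n := orderOf g0 with hn
  have hncard : n = Nat.card C := orderOf_eq_card_of_forall_mem_zpowers hg0
  have hnpos : 0 < n := orderOf_pos g0
  have hn1 : n ≠ 1 := by
    intro h1
    apply hC1
    rw [← Subgroup.card_eq_one, ← hncard, h1]
  obtain ⟨p, hp, hpn⟩ := Nat.exists_prime_and_dvd hn1
  have hnG : orderOf (g0 : G) = n := Subgroup.orderOf_coe g0
  set c : G := (g0 : G) ^ (n / p) with hc
  have hcC : c ∈ C := C.pow_mem g0.2 _
  have hordc : orderOf c = p := by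
    rw [hc, orderOf_pow, hnG, Nat.gcd_eq_right (Nat.div_dvd_of_dvd hpn), Nat.div_div_self hpn hnpos.ne']
  have hcp : c ^ p = 1 := by rw [← hordc]; exact pow_orderOf_eq_one c
  have hconj : ∀ h : G, ∃ t : ℕ, h * c * h⁻¹ = c ^ t := by
    intro h
    have hmem : h * c * h⁻¹ ∈ C := hC.conj_mem c hcC h
    have h1 : (⟨h * c * h⁻¹, hmem⟩ : C) ∈ Subgroup.zpowers g0 := hg0 _
    obtain ⟨j, hj⟩ := (mem_powers_iff_mem_zpowers).mpr h1
    have hj' : (g0 : G) ^ j = h * c * h⁻¹ := by
      have := congrArg Subtype.val hj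
      simpa using this
    have hjp : ((g0 : G) ^ j) ^ p = 1 := by
      rw [hj', conj_pow, hcp]; simp
    have hdvd : n ∣ j * p := by
      rw [← hnG]
      apply orderOf_dvd_of_pow_eq_one
      rw [pow_mul]; exact hjp
    have hdvd2 : n / p ∣ j := by
      have hnp : n = (n / p) * p := (Nat.div_mul_cancel hpn).symm
      rw [hnp] at hdvd
      exact Nat.dvd_of_mul_dvd_mul_right hp.pos hdvd
    obtain ⟨t, ht⟩ := hdvd2
    refine ⟨t, ?_⟩
    rw [← hj', ht, pow_mul]
  refine ⟨c, by rw [hordc]; exact hp, ?_⟩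
  intro ω hω
  have hall : ∀ ω' : Ω, c • ω' = ω' := by
    intro ω'
    obtain ⟨k, hk⟩ := MulAction.exists_smul_eq G ω ω'
    obtain ⟨t, ht⟩ := hconj k⁻¹
    have hfix : (c ^ t) • ω = ω := by
      have : c ∈ MulAction.stabilizer G ω := hω
      exact Subgroup.pow_mem _ this t
    rw [← ht] at hfix
    simp only [inv_inv, mul_smul] at hfix
    rw [hk] at hfix
    have := congrArg (fun z => k • z) hfix
    simp only [smul_inv_smul] at this
    rw [hk] at this
    exact this
  have hc1 : c = 1 := by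
    apply FaithfulSMul.eq_of_smul_eq_smul (α := Ω)
    intro a
    rw [hall a, one_smul]
  rw [hc1, orderOf_one] at hordc
  exact hp.ne_one hordc.symm

end Cfsg.Agent.S3554
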