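import Cfsg.Statements.S3555
import Cfsg.Agent.Lib.Helper18.DerangeInvol

set_option autoImplicit false
open Cfsg

namespace Cfsg.Agent.S3555

open scoped Pointwise

theorem result {G Ω : Type*} [Group G] [Finite G] [MulAction G Ω] [FaithfulSMul G Ω] [Finite Ω]
    (htrans : MulAction.IsPretransitive G Ω) (hinv : ∀ g : G, (∀ ω : Ω, g • ω ≠ ω) → orderOf g = 2) :
    (IsMulCommutative G ∧ ∀ g : G, g ^ 2 = 1) ∨
    (∃ H : Subgroup G, Cfsg.IsFrobeniusComplement H ∧
      (∀ x ∈ Cfsg.frobeniusKernel H, x ^ 2 = 1) ∧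
      ∀ x ∈ Cfsg.frobeniusKernel H, ∀ y ∈ Cfsg.frobeniusKernel H, x * y = y * x) := by
  classical
  haveI : Fintype G := Fintype.ofFinite G
  haveI : Fintype Ω := Fintype.ofFinite Ω
  have hinv' : ∀ g : G, (∀ ω : Ω, g • ω ≠ ω) → g * g = 1 := by
    intro g hg
    have := hinv g hg
    rw [← pow_two, ← this]
    exact pow_orderOf_eq_one g
  have key : ∀ (h : G) (γ δ : Ω), γ ≠ δ → h • γ = γ → h • δ = δ → h = 1 :=
    fun h γ δ hne h1 h2 =>
      Cfsg.Agent.Lib.Helper18.DerangeInvol.eq_one_of_fix_two hinv' h γ δ hne h1 h2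
  have comm_of_sq : (∀ g : G, g ^ 2 = 1) → IsMulCommutative G := by
    intro hsq
    refine ⟨⟨fun a b => ?_⟩⟩
    have h1 := hsq (a * b)
    have ha := hsq a
    have hb := hsq b
    rw [pow_two] at h1 ha hb
    calc a * b = a * (a * b * (a * b)) * b := by rw [h1, mul_one]
      _ = (a * a) * b * a * (b * b) := by group
      _ = b * a := by rw [ha, hb, one_mul, mul_one]
  rcases isEmpty_or_nonempty Ω with hΩ | ⟨⟨α⟩⟩
  · left
    have hall : ∀ g : G, g = 1 := fun g =>
      FaithfulSMul.eq_of_smul_eq_smul (α := Ω) (fun ω => isEmptyElim ω)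
    have hsq : ∀ g : G, g ^ 2 = 1 := fun g => by rw [hall g, one_pow]
    exact ⟨comm_of_sq hsq, hsq⟩
  obtain ⟨H, hH⟩ : ∃ H : Subgroup G, H = MulAction.stabilizer G α := ⟨_, rfl⟩
  have hfixconj : ∀ (x : G) (ω : Ω), x • ω = ω → ∃ k : G, k • α = ω ∧ k⁻¹ * x * k ∈ H := by
    intro x ω hx
    obtain ⟨k, hk⟩ := MulAction.exists_smul_eq G α ω
    refine ⟨k, hk, ?_⟩
    rw [hH, MulAction.mem_stabilizer_iff, mul_smul, mul_smul, hk, hx, ← hk, ← mul_smul,
      inv_mul_cancel, one_smul]
  by_cases hbot : H = ⊥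
  · left
    have hsq : ∀ g : G, g ^ 2 = 1 := by
      intro g
      by_cases hg : g = 1
      · rw [hg, one_pow]
      · rw [pow_two]
        apply hinv'
        intro ω hω
        obtain ⟨k, _, hk⟩ := hfixconj g ω hω
        rw [hbot, Subgroup.mem_bot] at hk
        apply hg
        have : g = k * (k⁻¹ * g * k) * k⁻¹ := by group
        rw [this, hk]
        group
    exact ⟨comm_of_sq hsq, hsq⟩
  right
  have hmemconj : ∀ (x g : G), x ∈ MulAut.conj g • H ↔ g⁻¹ * x * g ∈ H := by
    intro x g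
    rw [Subgroup.mem_pointwise_smul_iff_inv_smul_mem, MulAut.smul_def, ← map_inv,
      MulAut.conj_apply, inv_inv]
  have hderange : ∀ x : G, (∀ g : G, x ∉ MulAut.conj g • H) → ∀ ω : Ω, x • ω ≠ ω := by
    intro x hx ω hω
    obtain ⟨k, _, hk⟩ := hfixconj x ω hω
    exact hx k ((hmemconj x k).mpr hk)
  have hker_sq : ∀ x ∈ Cfsg.frobeniusKernel H, x * x = 1 := by
    intro x hx
    rcases hx with rfl | hx
    · exact one_mul 1
    · exact hinv' x (hderange x hx)
  refine ⟨H, ⟨hbot, ?_, ?_⟩, ?_, ?_⟩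
  · intro htop
    apply hbot
    have hall : ∀ g : G, g = 1 := by
      intro g
      apply FaithfulSMul.eq_of_smul_eq_smul (α := Ω)
      intro ω
      obtain ⟨k, hk⟩ := MulAction.exists_smul_eq G α ω
      have h1 : k⁻¹ * g * k ∈ H := by rw [htop]; exact Subgroup.mem_top _
      rw [hH, MulAction.mem_stabilizer_iff] at h1
      rw [one_smul, ← hk]
      have : g • k • α = k • (k⁻¹ * g * k) • α := by
        rw [← mul_smul, ← mul_smul]
        congr 1
        group
      rw [this, h1]
    rw [eq_bot_iff]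
    intro x _
    rw [Subgroup.mem_bot]
    exact hall x
  · intro g hg
    rw [eq_bot_iff]
    rintro x ⟨hx1, hx2⟩
    rw [Subgroup.mem_bot]
    have hx2' : g⁻¹ * x * g ∈ H := (hmemconj x g).mp hx2
    rw [hH] at hx1 hx2' hg
    have hx1' : x ∈ MulAction.stabilizer G α := hx1
    rw [MulAction.mem_stabilizer_iff] at hx1' hx2' hg
    have hx3 : x • (g • α) = g • α := by
      have : x • g • α = g • (g⁻¹ * x * g) • α := by
        rw [← mul_smul, ← mul_smul]
        congr 1
        group
      rw [this, hx2']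
    exact key x α (g • α) (fun h => hg h.symm) hx1' hx3
  · intro x hx
    rw [pow_two]
    exact hker_sq x hx
  · intro x hx y hy
    have hx2 := hker_sq x hx
    have hy2 := hker_sq y hy
    have hxy : (x * y) * (x * y) = 1 := by
      rcases hx with rfl | hx
      · rw [one_mul]; exact hy2
      rcases hy with rfl | hy
      · rw [mul_one]; exact hx2
      by_cases hone : x * y = 1
      · rw [hone, one_mul]
      apply hinv'
      intro γ hγ
      apply hone
      have hxinv : x⁻¹ = x := inv_eq_of_mul_eq_one_right hx2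
      have hyγ : y • γ = x • γ := by
        have : x⁻¹ • (x * y) • γ = x⁻¹ • γ := by rw [hγ]
        rw [mul_smul, ← mul_smul, inv_mul_cancel, one_smul, hxinv] at this
        exact this
      have hne : γ ≠ x • γ := fun h => hderange x hx γ h.symm
      have hδ : (x * y) • (x • γ) = x • γ := by
        rw [mul_smul, ← hyγ, ← mul_smul y y, hy2, one_smul]
        exact hyγ.symm
      exact key (x * y) γ (x • γ) hne hγ hδ
    calc x * y = x * (x * y * (x * y)) * y := by rw [hxy, mul_one]
      _ = (x * x) * y * x * (y * y) := by group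
      _ = y * x := by rw [hx2, hy2, one_mul, mul_one]

end Cfsg.Agent.S3555
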