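import Cfsg.Statements.S3557
import Cfsg.Agent.Lib.Helper20.TwoPSqD

set_option autoImplicit false
open Cfsg

namespace Cfsg.Agent.S3557



/-- Let G act faithfully and transitively on a finite set with 2p² points, p a prime, and suppose G is 2-closed: every permutation of the set which, on each ordered pair of points, agrees with some element of G, is itself induced by an element of G. Then some element of G of prime order fixes no point. -/
theorem result {G Ω : Type*} [Group G] [Finite G] [MulAction G Ω] [FaithfulSMul G Ω] [Finite Ω]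
    (htrans : MulAction.IsPretransitive G Ω) (p : ℕ) (hp : p.Prime) (hcard : Nat.card Ω = 2 * p ^ 2)
    (hcl : ∀ σ : Equiv.Perm Ω, (∀ a b : Ω, ∃ g : G, σ a = g • a ∧ σ b = g • b) → ∃ g : G, ∀ a : Ω, σ a = g • a) :
    ∃ g : G, (orderOf g).Prime ∧ ∀ ω : Ω, g • ω ≠ ω := by
  by_cases hp2 : p = 2
  · subst hp2
    exact Cfsg.Agent.Lib.Helper20.TwoPSq.main_two htrans (by rw [hcard]; norm_num)
  · exact Cfsg.Agent.Lib.Helper20.TwoPSq.main_odd htrans p hp hp2 hcard hcl

end Cfsg.Agent.S3557
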