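import Cfsg.Statements.S3559
import Cfsg.Agent.Lib.Helper20.SRing2

set_option autoImplicit false
open Cfsg

namespace Cfsg.Agent.S3559

open MulAction

theorem ker_card {C : Type*} [Group C] [Finite C] (hcyc : IsCyclic C) (p : ℕ) (hp : p.Prime)
    (hdvd : p ∣ Nat.card C) : Nat.card {u : C // u ^ p = 1} = p := by
  letI : CommGroup C := IsCyclic.commGroup
  have h := IsCyclic.card_powMonoidHom_ker (G := C) p
  rw [Nat.gcd_eq_right hdvd] at h
  refine (Nat.card_congr ?_).trans h
  exact Equiv.subtypeEquivRight (fun u => by rw [MonoidHom.mem_ker, powMonoidHom_apply])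

theorem exists_two_primes (n : ℕ) (hn : 2 ≤ n) (hnp : ¬ IsPrimePow n) :
    ∃ p q : ℕ, p.Prime ∧ q.Prime ∧ p ≠ q ∧ p ∣ n ∧ q ∣ n := by
  obtain ⟨p, hp, hpn⟩ := Nat.exists_prime_and_dvd (show n ≠ 1 by omega)
  by_contra hcon
  push Not at hcon
  apply hnp
  rw [isPrimePow_iff_unique_prime_dvd]
  refine ⟨p, ⟨hp, hpn⟩, ?_⟩
  rintro q ⟨hq, hqn⟩
  by_contra hne
  exact hcon p q hp hq (fun h => hne h.symm) hpn hqn


/-- Let G act faithfully and transitively on a finite set whose number of points n ≥ 2 is not a prime power, and suppose G has a cyclic subgroup acting regularly (transitively with trivial point stabilizers). Then G is imprimitive or doubly transitive. -/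
theorem result {G Ω : Type*} [Group G] [Finite G] [MulAction G Ω] [FaithfulSMul G Ω] [Finite Ω]
    (htrans : MulAction.IsPretransitive G Ω) (hn : 2 ≤ Nat.card Ω) (hnp : ¬ IsPrimePow (Nat.card Ω))
    (C : Subgroup G) (hcyc : IsCyclic ↥C) (hC : MulAction.IsPretransitive ↥C Ω ∧ ∀ a : Ω, MulAction.stabilizer ↥C a = ⊥) :
    ¬ MulAction.IsPreprimitive G Ω ∨ MulAction.IsMultiplyPretransitive G Ω 2 := by
  by_cases hprim : MulAction.IsPreprimitive G Ω
  · right
    have hne : Nonempty Ω := by
      by_contra h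
      rw [not_nonempty_iff] at h
      rw [Nat.card_of_isEmpty] at hn
      omega
    obtain ⟨ω₀⟩ := hne
    have hsurj : ∀ ω : Ω, ∃ c : C, C.subtype c • ω₀ = ω := by
      intro ω
      obtain ⟨c, hc⟩ := @MulAction.exists_smul_eq ↥C Ω _ hC.1 ω₀ ω
      exact ⟨c, hc⟩
    have hinj : ∀ c : C, C.subtype c • ω₀ = ω₀ → c = 1 := by
      intro c hc
      have : c ∈ MulAction.stabilizer ↥C ω₀ := by
        rw [MulAction.mem_stabilizer_iff]; exact hc
      rw [hC.2 ω₀, Subgroup.mem_bot] at this
      exact this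
    have hcard : Nat.card C = Nat.card Ω := by
      apply Nat.card_congr
      apply Equiv.ofBijective (fun c : C => C.subtype c • ω₀)
      constructor
      · intro c c' h
        exact Cfsg.Agent.Lib.Helper20.SRing.inj_of_reg hinj h
      · intro ω
        exact hsurj ω
    obtain ⟨p, q, hp, hq, hpq, hpn, hqn⟩ := exists_two_primes _ hn hnp
    have : Fact p.Prime := ⟨hp⟩
    have : Fact q.Prime := ⟨hq⟩
    have hkp := ker_card hcyc p hp (by rw [hcard]; exact hpn)
    have hkq := ker_card hcyc q hq (by rw [hcard]; exact hqn)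
    have hcomm : ∀ a b : C, a * b = b * a := by
      intro a b
      letI : CommGroup C := IsCyclic.commGroup
      exact mul_comm a b
    have hst := Cfsg.Agent.Lib.Helper20.SRing.stab_trans_of_two_primes (ι := C.subtype) (ω₀ := ω₀)
      hcomm hprim hsurj hinj p q hpq hkp hkq
    rw [MulAction.is_two_pretransitive_iff]
    intro a b c d hab hcd
    obtain ⟨g₁, hg₁⟩ := MulAction.exists_smul_eq G a ω₀
    obtain ⟨g₂, hg₂⟩ := MulAction.exists_smul_eq G c ω₀
    obtain ⟨x, hx⟩ := hsurj (g₁ • b)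
    obtain ⟨x', hx'⟩ := hsurj (g₂ • d)
    have hx1 : x ≠ 1 := by
      intro h
      rw [h, map_one, one_smul, ← hg₁] at hx
      exact hab (MulAction.injective g₁ hx)
    have hx1' : x' ≠ 1 := by
      intro h
      rw [h, map_one, one_smul, ← hg₂] at hx'
      exact hcd (MulAction.injective g₂ hx')
    obtain ⟨k, hk, hkx⟩ := hst x x' hx1 hx1'
    rw [MulAction.mem_stabilizer_iff] at hk
    refine ⟨g₂⁻¹ * k * g₁, ?_, ?_⟩
    · rw [mul_smul, mul_smul, hg₁, hk, ← hg₂, inv_smul_smul]
    · rw [mul_smul, mul_smul, ← hx, hkx, hx', inv_smul_smul]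
  · left; exact hprim

end Cfsg.Agent.S3559
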