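import Cfsg.Statements.S3560
import Cfsg.Agent.Lib.Helper20.Hamming

set_option autoImplicit false
open Cfsg

namespace Cfsg.Agent.S3560



/-- Let K be a finite group isomorphic to a direct product of r ≥ 2 groups all of the same order m ≥ 3. Then K is not a B-group: there is a primitive but not doubly transitive permutation group (on some finite set) containing a regular subgroup isomorphic to K. -/
theorem result {K : Type*} [Group K] [Finite K] {ι : Type*} [Fintype ι] (F : ι → Type*) [∀ i, Group (F i)]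
    (hr : 2 ≤ Fintype.card ι) (m : ℕ) (hm : 3 ≤ m) (hcard : ∀ i, Nat.card (F i) = m) (e : K ≃* (∀ i, F i)) :
    ∃ (n : ℕ) (G R : Subgroup (Equiv.Perm (Fin n))), R ≤ G ∧ Nonempty (↥R ≃* K) ∧
      MulAction.IsPretransitive ↥R (Fin n) ∧ (∀ a : Fin n, MulAction.stabilizer ↥R a = ⊥) ∧
      MulAction.IsPreprimitive ↥G (Fin n) ∧ ¬ MulAction.IsMultiplyPretransitive ↥G (Fin n) 2 := by
  classical
  have hfin : ∀ i, Finite (F i) := fun i => Nat.finite_of_card_ne_zero (by rw [hcard i]; omega)
  let b : ∀ i, F i ≃ Fin m := fun i => Finite.equivFinOfCardEq (hcard i)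
  have hne : Nonempty (ι → Fin m) := ⟨fun _ => ⟨0, by omega⟩⟩
  refine Cfsg.Agent.Lib.Helper20.transport_perm (Cfsg.Agent.Lib.Helper20.hamIso ι m)
    (Cfsg.Agent.Lib.Helper20.regRep F b).range (Cfsg.Agent.Lib.Helper20.regRep_range_le F b) ?_
    (Cfsg.Agent.Lib.Helper20.regRep_transitive F b) (Cfsg.Agent.Lib.Helper20.regRep_free F b)
    (Cfsg.Agent.Lib.Helper20.hamIso_preprimitive hm)
    (Cfsg.Agent.Lib.Helper20.hamIso_not_two hr (by omega))
  exact ⟨(MonoidHom.ofInjective (Cfsg.Agent.Lib.Helper20.regRep_injective F b)).symm.trans e.symm⟩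

end Cfsg.Agent.S3560
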