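import Cfsg.Statements.S3573

set_option autoImplicit false
open Cfsg

namespace Cfsg.Agent.S3573

open Equiv Equiv.Perm

variable {α : Type*} [Fintype α] [DecidableEq α]

/-- invariance in iff form -/
def Inv (σ : Perm α) (s : Finset α) : Prop := ∀ y, y ∈ s ↔ σ y ∈ s

theorem inv_of_image (σ : Perm α) (s : Finset α) (h : s.image σ = s) : Inv σ s := by
  intro y
  constructor
  · intro hy
    rw [← h]
    exact Finset.mem_image_of_mem _ hy
  · intro hy
    rw [← h] at hy
    obtain ⟨z, hz, hzy⟩ := Finset.mem_image.mp hy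
    rwa [← σ.injective hzy]

theorem image_of_inv (σ : Perm α) (s : Finset α) (h : Inv σ s) : s.image σ = s := by
  ext y
  constructor
  · intro hy
    obtain ⟨z, hz, rfl⟩ := Finset.mem_image.mp hy
    exact (h z).mp hz
  · intro hy
    refine Finset.mem_image.mpr ⟨σ⁻¹ y, ?_, by simp⟩
    rw [h]
    simpa using hy

theorem inv_pow (σ : Perm α) (s : Finset α) (h : Inv σ s) (i : ℕ) (y : α) : y ∈ s ↔ (σ ^ i) y ∈ s := by
  induction i with
  | zero => simp
  | succ i ih => rw [pow_succ', Perm.mul_apply, ← h]; exact ih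

/-- the moved part of an invariant set has cardinality divisible by `r` -/
theorem dvd_card_moved (σ : Perm α) (r : ℕ) [hr : Fact r.Prime] (hσ : σ ^ r = 1) (s : Finset α)
    (h : Inv σ s) : r ∣ (s.filter (fun x => σ x ≠ x)).card := by
  set T := s.filter (fun x => σ x ≠ x) with hT
  have hTinv : ∀ x, x ∈ T ↔ σ x ∈ T := by
    intro x
    simp only [hT, Finset.mem_filter]
    rw [← h x]
    constructor
    · rintro ⟨h1, h2⟩
      exact ⟨h1, fun h3 => h2 (σ.injective h3)⟩
    · rintro ⟨h1, h2⟩
      exact ⟨h1, fun h3 => h2 (congrArg σ h3)⟩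
  let τ : Perm {x // x ∈ T} := σ.subtypePerm (fun x => (hTinv x).symm)
  have hτ : τ ^ r ^ 1 = 1 := by
    rw [pow_one]
    ext x
    simp only [τ, Perm.subtypePerm_pow, Perm.subtypePerm_apply, hσ, Perm.coe_one, id_eq]
  have hsupp : τ.supportᶜ = ∅ := by
    rw [Finset.compl_eq_empty_iff]
    ext x
    simp only [Finset.mem_univ, iff_true, Perm.mem_support, τ]
    intro hx
    have hx' := congrArg Subtype.val hx
    simp only [Perm.subtypePerm_apply] at hx'
    have := x.2
    simp only [hT, Finset.mem_filter] at this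
    exact this.2 hx'
  have := card_compl_support_modEq hτ
  rw [hsupp, Finset.card_empty, Fintype.card_coe] at this
  exact (Nat.modEq_zero_iff_dvd.mp this.symm)

/-- construction of invariant subsets of the support -/
theorem exists_inv_moved (σ : Perm α) (r : ℕ) (hr : r.Prime) (hσ : orderOf σ = r) (c : ℕ)
    (hc : r * c ≤ σ.support.card) :
    ∃ T : Finset α, T ⊆ σ.support ∧ Inv σ T ∧ T.card = r * c := by
  induction c with
  | zero => exact ⟨∅, Finset.empty_subset _, fun y => by simp, by simp⟩
  | succ c ih =>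
    obtain ⟨T, hTs, hTinv, hTc⟩ := ih (by rw [Nat.mul_succ] at hc; omega)
    have hlt : T.card < σ.support.card := by
      rw [hTc]; rw [Nat.mul_succ] at hc; have := hr.pos; omega
    obtain ⟨x, hx, hxT⟩ := Finset.exists_mem_notMem_of_card_lt_card hlt
    have hx' : σ x ≠ x := Perm.mem_support.mp hx
    set O := (σ.cycleOf x).support with hO
    have hOc : O.card = r := by
      have hcyc := Perm.isCycle_cycleOf σ hx'
      have h1 : O.card ∣ r := by
        rw [hO, ← hcyc.orderOf, ← hσ]
        exact Perm.orderOf_cycleOf_dvd_orderOf σ x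
      have h2 : 2 ≤ O.card := hcyc.two_le_card_support
      rcases (Nat.dvd_prime hr).mp h1 with h3 | h3
      · omega
      · exact h3
    have hOinv : Inv σ O := by
      intro y
      rw [hO, Perm.mem_support_cycleOf_iff' hx', Perm.mem_support_cycleOf_iff' hx',
        Perm.sameCycle_apply_right]
    have hdisj : Disjoint T O := by
      rw [Finset.disjoint_left]
      intro y hyT hyO
      rw [hO, Perm.mem_support_cycleOf_iff' hx'] at hyO
      obtain ⟨i, -, hi⟩ := hyO.exists_pow_eq'
      apply hxT
      rw [inv_pow σ T hTinv i x, hi]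
      exact hyT
    refine ⟨T ∪ O, Finset.union_subset hTs (Perm.support_cycleOf_le σ x), ?_, ?_⟩
    · intro y
      rw [Finset.mem_union, Finset.mem_union, ← hTinv y, ← hOinv y]
    · rw [Finset.card_union_of_disjoint hdisj, hTc, hOc, Nat.mul_succ]


theorem support_eq_filter (σ : Perm α) : σ.support = Finset.univ.filter (fun x => σ x ≠ x) := by
  ext x; simp

theorem exists_inv_of_mod (n k r : ℕ) (hr : r.Prime) (hk : k ≤ n) (hmod : k % r ≤ n % r)
    (σ : Perm (Fin n)) (hσ : orderOf σ = r) : ∃ s : Finset (Fin n), s.card = k ∧ s.image σ = s := by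
  haveI : Fact r.Prime := ⟨hr⟩
  have hσr : σ ^ r = 1 := by rw [← hσ]; exact pow_orderOf_eq_one σ
  have hdvd : r ∣ σ.support.card := by
    rw [support_eq_filter]
    exact dvd_card_moved σ r hσr Finset.univ (fun y => by simp)
  obtain ⟨c, hc⟩ := hdvd
  have hfix : σ.supportᶜ.card = n - r * c := by
    rw [Finset.card_compl, Fintype.card_fin, hc]
  have hle : r * c ≤ n := by
    rw [← hc]
    calc σ.support.card ≤ Fintype.card (Fin n) := Finset.card_le_univ _
      _ = n := Fintype.card_fin n
  -- choose c' and f'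
  have key : ∃ c' f' : ℕ, c' ≤ c ∧ f' ≤ n - r * c ∧ r * c' + f' = k := by
    have hf : (n - r * c) % r = n % r := by
      have : n = r * c + (n - r * c) := by omega
      conv_rhs => rw [this, Nat.mul_add_mod]
    have hf2 : n % r ≤ n - r * c := by rw [← hf]; exact Nat.mod_le _ _
    by_cases h1 : k / r ≤ c
    · exact ⟨k / r, k % r, h1, le_trans hmod hf2, Nat.div_add_mod k r⟩
    · push Not at h1
      have h2 : r * c ≤ k := by
        calc r * c ≤ r * (k / r) := Nat.mul_le_mul_left _ h1.le
          _ ≤ k := Nat.mul_div_le k r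
      exact ⟨c, k - r * c, le_refl _, by omega, by omega⟩
  obtain ⟨c', f', hc', hf', hsum⟩ := key
  obtain ⟨T, hTs, hTinv, hTc⟩ := exists_inv_moved σ r hr hσ c' (by
    rw [hc]; exact Nat.mul_le_mul_left _ hc')
  obtain ⟨F, hFs, hFc⟩ := Finset.exists_subset_card_eq (s := σ.supportᶜ) (n := f') (by rw [hfix]; exact hf')
  have hFfix : ∀ y ∈ F, σ y = y := by
    intro y hy
    have := hFs hy
    rw [Finset.mem_compl, Perm.mem_support, not_not] at this
    exact this
  have hFinv : Inv σ F := by
    intro y
    constructor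
    · intro hy; rw [hFfix y hy]; exact hy
    · intro hy
      have := hFfix _ hy
      have h2 : σ y = y := σ.injective this
      rw [h2] at hy; exact hy
  have hdisj : Disjoint T F := by
    rw [Finset.disjoint_left]
    intro y hyT hyF
    have h1 := hTs hyT
    have h2 := hFs hyF
    rw [Finset.mem_compl] at h2
    exact h2 h1
  refine ⟨T ∪ F, ?_, image_of_inv σ _ ?_⟩
  · rw [Finset.card_union_of_disjoint hdisj, hTc, hFc, hsum]
  · intro y
    rw [Finset.mem_union, Finset.mem_union, ← hTinv y, ← hFinv y]

theorem mod_of_forall (n k r : ℕ) (hr : r.Prime) (hrn : r ≤ n)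
    (h : ∀ σ : Perm (Fin n), orderOf σ = r → ∃ s : Finset (Fin n), s.card = k ∧ s.image σ = s) :
    k % r ≤ n % r := by
  haveI : Fact r.Prime := ⟨hr⟩
  have hnr : n / r ≠ 0 := by
    rw [Nat.ne_zero_iff_zero_lt]
    exact Nat.div_pos hrn hr.pos
  obtain ⟨σ, hct⟩ := (Equiv.Perm.exists_with_cycleType_iff (Fin n) (m := Multiset.replicate (n / r) r)).mpr
    ⟨by rw [Multiset.sum_replicate, smul_eq_mul, Fintype.card_fin]; exact Nat.div_mul_le_self n r,
     fun a ha => by rw [Multiset.eq_of_mem_replicate ha]; exact hr.two_le⟩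
  have hσ : orderOf σ = r := by
    rw [← Perm.lcm_cycleType, hct]
    apply Nat.dvd_antisymm
    · apply Multiset.lcm_dvd.mpr
      intro a ha
      rw [Multiset.eq_of_mem_replicate ha]
    · exact Multiset.dvd_lcm (Multiset.mem_replicate.mpr ⟨hnr, rfl⟩)
  have hsupp : σ.support.card = n / r * r := by
    rw [← Perm.sum_cycleType, hct, Multiset.sum_replicate, smul_eq_mul]
  obtain ⟨s, hsk, hsi⟩ := h σ hσ
  have hinv := inv_of_image σ s hsi
  have hσr : σ ^ r = 1 := by rw [← hσ]; exact pow_orderOf_eq_one σ
  obtain ⟨q, hq⟩ := dvd_card_moved σ r hσr s hinv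
  have hsplit := Finset.card_filter_add_card_filter_not (s := s) (fun x => σ x ≠ x)
  have hfixle : (s.filter (fun a => ¬ σ a ≠ a)).card ≤ n % r := by
    have h1 : (s.filter (fun a => ¬ σ a ≠ a)) ⊆ σ.supportᶜ := by
      intro x hx
      rw [Finset.mem_filter] at hx
      rw [Finset.mem_compl, Perm.mem_support]
      exact hx.2
    have h2 := Finset.card_le_card h1
    rw [Finset.card_compl, Fintype.card_fin, hsupp] at h2
    have h3 : n - n / r * r = n % r := by
      have := Nat.div_add_mod n r
      rw [mul_comm] at this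
      omega
    rw [h3] at h2
    exact h2
  rw [hq, hsk] at hsplit
  have hlt : n % r < r := Nat.mod_lt _ hr.pos
  rw [← hsplit, Nat.mul_add_mod, Nat.mod_eq_of_lt (lt_of_le_of_lt hfixle hlt)]
  exact hfixle



/-- Let 1 ≤ k with 2k < n and consider the symmetric group of degree n acting on the k-subsets of an n-set. Let r be a prime dividing the number C(n,k) of k-subsets. If r is odd, then every permutation of order r fixes some k-subset if and only if r ≤ k and the remainder of k modulo r is at most the remainder of n modulo r. If r = 2, then every involution fixes some k-subset if and only if k is even or n is odd. -/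
theorem result (n k : ℕ) (hk : 1 ≤ k) (hkn : 2 * k < n) (r : ℕ) (hr : r.Prime) (hrd : r ∣ Nat.choose n k) :
    (r ≠ 2 → ((∀ σ : Equiv.Perm (Fin n), orderOf σ = r → ∃ s : Finset (Fin n), s.card = k ∧ s.image σ = s) ↔
      (r ≤ k ∧ k % r ≤ n % r))) ∧
    (r = 2 → ((∀ σ : Equiv.Perm (Fin n), orderOf σ = 2 → ∃ s : Finset (Fin n), s.card = k ∧ s.image σ = s) ↔
      (Even k ∨ Odd n))) := by
  have hkn' : k ≤ n := by omega
  have hrn : r ≤ n := by
    have h1 : Nat.choose n k ∣ n.factorial := by
      rw [← Nat.choose_mul_factorial_mul_factorial hkn', mul_assoc]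
      exact dvd_mul_right _ _
    exact (Nat.Prime.dvd_factorial hr).mp (dvd_trans hrd h1)
  constructor
  · intro _
    constructor
    · intro h
      have hmod := mod_of_forall n k r hr hrn h
      refine ⟨?_, hmod⟩
      by_contra hlt
      push Not at hlt
      have hkr : k % r = k := Nat.mod_eq_of_lt hlt
      have hkd : k / r = 0 := Nat.div_eq_of_lt hlt
      haveI : Fact r.Prime := ⟨hr⟩
      have hluc := Choose.choose_modEq_choose_mod_mul_choose_div_nat (n := n) (k := k) (p := r)
      rw [hkr, hkd, Nat.choose_zero_right, mul_one] at hluc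
      have h1 : r ∣ Nat.choose (n % r) k := by
        rw [← Nat.modEq_zero_iff_dvd]
        exact hluc.symm.trans (Nat.modEq_zero_iff_dvd.mpr hrd)
      rw [hkr] at hmod
      have h2 : Nat.choose (n % r) k ∣ (n % r).factorial := by
        rw [← Nat.choose_mul_factorial_mul_factorial hmod, mul_assoc]
        exact dvd_mul_right _ _
      have h3 := (Nat.Prime.dvd_factorial hr).mp (dvd_trans h1 h2)
      have := Nat.mod_lt n hr.pos
      omega
    · rintro ⟨_, hmod⟩ σ hσ
      exact exists_inv_of_mod n k r hr hkn' hmod σ hσ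
  · intro h2
    subst h2
    have hiff : k % 2 ≤ n % 2 ↔ (Even k ∨ Odd n) := by
      rw [Nat.even_iff, Nat.odd_iff]
      omega
    rw [← hiff]
    constructor
    · intro h
      exact mod_of_forall n k 2 hr hrn h
    · intro hmod σ hσ
      exact exists_inv_of_mod n k 2 hr hkn' hmod σ hσ


end Cfsg.Agent.S3573
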