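import Cfsg.Statements.S3575
import Cfsg.Agent.Lib.Helper20.UnifPartArith
import Cfsg.Agent.Lib.Helper20.UnifPartNec
import Cfsg.Agent.Lib.Helper20.UnifPartModel

set_option autoImplicit false
open Cfsg

namespace Cfsg.Agent.S3575

open Cfsg.Agent.Lib.Helper20.UnifPart


/-- Let a, b ≥ 2 and consider the symmetric group of degree a·b acting on the partitions of an (a·b)-set into b parts of size a (encoded as maps onto a b-element set all of whose fibres have a elements; a permutation fixes such a partition when it permutes the fibres). Let r be a prime dividing the number (ab)!/((a!)^b·b!) of such partitions, and let ℓ and k be the remainders of a and b modulo r. Then every permutation of order r fixes some such partition if and only if r ≤ a and one of the following holds: ℓ = 0; or k = 0 and ℓ = 1; or ℓ and k are non-zero, k·ℓ < r, and either b < r or (k + r)·ℓ ≤ k·a + r. -/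
theorem result (a b : ℕ) (ha : 2 ≤ a) (hb : 2 ≤ b) (r : ℕ) (hr : r.Prime)
    (hrd : r ∣ (a * b).factorial / (a.factorial ^ b * b.factorial)) :
    (∀ σ : Equiv.Perm (Fin (a * b)), orderOf σ = r →
        ∃ f : Fin (a * b) → Fin b, (∀ j : Fin b, Nat.card {x : Fin (a * b) // f x = j} = a) ∧
          ∃ π : Equiv.Perm (Fin b), ∀ x : Fin (a * b), f (σ x) = π (f x)) ↔
      (r ≤ a ∧ (a % r = 0 ∨ (b % r = 0 ∧ a % r = 1) ∨
        (a % r ≠ 0 ∧ b % r ≠ 0 ∧ (b % r) * (a % r) < r ∧ (b < r ∨ (b % r + r) * (a % r) ≤ (b % r) * a + r)))) := by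
  have hr2 : 2 ≤ r := hr.two_le
  have hrab : r ≤ a * b := prime_le_of_dvd_count a b r (by omega) hr hrd
  haveI : Fact r.Prime := ⟨hr⟩
  constructor
  · intro H
    apply arith_nec a b r hr2 ha hb hrab
    intro j hj1 hjab
    obtain ⟨σ, hct⟩ := (Equiv.Perm.exists_with_cycleType_iff (Fin (a * b))
      (m := Multiset.replicate j r)).mpr
      ⟨by rw [Multiset.sum_replicate, smul_eq_mul, Fintype.card_fin, Nat.mul_comm]; exact hjab,
       fun x hx => by rw [Multiset.eq_of_mem_replicate hx]; exact hr2⟩
    have hσ : orderOf σ = r := by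
      rw [← Equiv.Perm.lcm_cycleType, hct]
      apply Nat.dvd_antisymm
      · apply Multiset.lcm_dvd.mpr
        intro x hx
        rw [Multiset.eq_of_mem_replicate hx]
      · exact Multiset.dvd_lcm (Multiset.mem_replicate.mpr ⟨by omega, rfl⟩)
    have hsupp : σ.support.card = r * j := by
      rw [← Equiv.Perm.sum_cycleType, hct, Multiset.sum_replicate, smul_eq_mul, Nat.mul_comm]
    obtain ⟨f, hf, π, hπ⟩ := H σ hσ
    exact exists_t_of_fixed (by omega) σ (by rw [← hσ]; exact pow_orderOf_eq_one σ) f hf π hπ j
      hsupp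
  · rintro ⟨hra, hcond⟩ σ hσ
    have hσr : σ ^ r = 1 := by rw [← hσ]; exact pow_orderOf_eq_one σ
    obtain ⟨j, hj⟩ := dvd_card_support σ r hσr
    have hj1 : 1 ≤ j := by
      rcases Nat.eq_zero_or_pos j with h0 | h0
      · exfalso
        rw [h0, Nat.mul_zero, Finset.card_eq_zero, Equiv.Perm.support_eq_empty_iff] at hj
        rw [hj, orderOf_one] at hσ
        omega
      · exact h0
    have hjab : r * j ≤ a * b := by
      rw [← hj]
      calc σ.support.card ≤ Fintype.card (Fin (a * b)) := Finset.card_le_univ _
        _ = a * b := Fintype.card_fin _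
    obtain ⟨t, ht1, ht2, ht3⟩ := arith_suff a b r j hr2 ha hb hra hjab hcond
    have hmodel : Model a r j b := by
      have h1 := Model.cycs (a := a) hr t
      have h2 := Model.fixeds (a := a) hr (b - t * r) (j - t * a) (by omega)
      have := h1.glue h2
      rwa [Nat.add_sub_cancel' ht2, Nat.add_sub_cancel' ht1] at this
    exact exists_partition_of_model hr hj1 hmodel σ hσ hj

end Cfsg.Agent.S3575
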