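import Cfsg.Statements.S3590
import Cfsg.Agent.S3444
import Cfsg.Agent.Lib.Helper1.S8U.Defs
import Cfsg.Agent.Lib.Helper11.S8UANISO
import Cfsg.Agent.Lib.Helper11.S8USPEC
import Cfsg.Agent.Lib.Helper11.S8UAFFSPECcore
import Cfsg.Agent.Lib.helper2.S8UTGALLcore
import Cfsg.Agent.Lib.Helper28.S8UAFF3
import Cfsg.Agent.Lib.Helper13.S8UHD1
import Cfsg.Agent.Lib.Helper13.S8UHD2
import Cfsg.Agent.Lib.helper15.S8URAD
import Cfsg.Agent.Lib.helper15.S8UTGODD
import Cfsg.Agent.Lib.Helper29.S8UTGTWO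
import Cfsg.Agent.Lib.Helper29.S8UTGFOUR
import Cfsg.Agent.Lib.Helper22.S8UTGEIGHT

set_option autoImplicit false
open Cfsg

namespace Cfsg.Agent.S3590

open Cfsg.Agent.Lib.Helper1.S8U in
/-- Let F be a finite field of characteristic 2. Then PSp(8,F) is not determined by its set of element orders, not even up to finitely many groups: for every bound there is a finite group of larger order with exactly the same set of element orders as PSp(8,F). -/
theorem result {F : Type*} [Field F] [Fintype F]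
    [CharP F 2] (M : ℕ) :
    ∃ (H : Type) (_ : Group H) (_ : Fintype H), M < Fintype.card H ∧ Set.range (orderOf : H → ℕ) = Set.range (orderOf : Cfsg.PSp 4 F → ℕ) := by
  obtain ⟨a, b, hab⟩ := aniso_ex (F := F)
  have hfin : Finite (AffK (Hd a b hab)) := aff_finite (Hd a b hab)
  obtain ⟨N, hN1, hN2, hN3⟩ := aff_rad (Hd a b hab)
  obtain ⟨H, i1, i2, h1, h2⟩ := Cfsg.Agent.S3444.result N hN2 hN3 M
  refine ⟨H, i1, i2, h1, ?_⟩
  rw [h2]
  ext n
  have hAFF3 := aff_range (Hd a b hab)
  have hTG := s8utgall_core a b hab hAFF3 (tgt_odd a b hab) (tgt_two a b hab) (tgt_four a b hab)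
    (tgt_eight a b hab)
  rw [s8uaffspec_core a b hab hAFF3 (hd_one a b hab) (hd_two a b hab) hTG n, psp_spec n]

end Cfsg.Agent.S3590
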