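import Cfsg.Statements.S3599
import Cfsg.Agent.Lib.Helper20.Crit2

set_option autoImplicit false
open Cfsg

namespace Cfsg.Agent.S3599

open Cfsg.Agent.Lib.Helper20.Crit


/-- A finite group is critical with respect to a set Ω of natural numbers when its set of element orders is Ω while no proper section H/N (H a subgroup, N normal in H, (H, N) ≠ (whole group, 1)) has Ω as its set of element orders. Let s ≥ 1 and let p(j,0), p(j,1) (j < s) be 2s pairwise distinct primes, and let Ω be the set of all products c(0)·…·c(s−1) with each c(j) ∈ {1, p(j,0), p(j,1)}. Then there are 2^s pairwise non-isomorphic finite groups critical with respect to Ω. -/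
theorem result (s : ℕ) (hs : 1 ≤ s) (p : Fin s → Fin 2 → ℕ)
    (hp : ∀ j i, (p j i).Prime) (hinj : ∀ j i j' i', p j i = p j' i' → j = j' ∧ i = i') :
    ∃ (G : Fin (2 ^ s) → Type) (_ : ∀ a, Group (G a)) (_ : ∀ a, Fintype (G a)),
      (∀ a b, a ≠ b → ¬ Nonempty (G a ≃* G b)) ∧
      ∀ a, Set.range (orderOf : (G a) → ℕ) = {m : ℕ | ∃ c : Fin s → ℕ, (∀ j, c j = 1 ∨ c j = p j 0 ∨ c j = p j 1) ∧ m = ∏ j, c j} ∧
      ∀ (H : Subgroup (G a)) (N : Subgroup ↥H) [N.Normal], (H ≠ ⊤ ∨ N ≠ ⊥) → Set.range (orderOf : (↥H ⧸ N) → ℕ) ≠ {m : ℕ | ∃ c : Fin s → ℕ, (∀ j, c j = 1 ∨ c j = p j 0 ∨ c j = p j 1) ∧ m = ∏ j, c j} := by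
  classical
  have hfin2 : ∀ i : Fin 2, i = 0 ∨ i = 1 := by decide
  have hne : ∀ j (i : Fin 2), p j i ≠ p j (i + 1) := by
    intro j i h
    have := (hinj _ _ _ _ h).2
    revert this
    rcases hfin2 i with rfl | rfl <;> decide
  have hX : ∀ j i, ∃ (X : Type) (_ : Group X) (_ : Fintype X), Good (p j i) (p j (i + 1)) X ∧
      Set.range (orderOf : X → ℕ) = {1, p j i, p j (i + 1)} ∧
      IsCrit {1, p j i, p j (i + 1)} X :=
    fun j i => exists_crit _ _ (hp j i) (hp j (i + 1)) (hne j i)
  choose X instG instF hgood hspec hcrit using hX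
  letI : ∀ j i, Group (X j i) := instG
  letI : ∀ j i, Fintype (X j i) := instF
  -- the two primes
  have hpair : ∀ j (i : Fin 2), ({1, p j i, p j (i + 1)} : Set ℕ) = {1, p j 0, p j 1} := by
    intro j i
    rcases hfin2 i with rfl | rfl
    · rfl
    · have : (1 : Fin 2) + 1 = 0 := by decide
      rw [this]
      ext m
      simp only [Set.mem_insert_iff, Set.mem_singleton_iff]
      tauto
  have hspec' : ∀ j i, Set.range (orderOf : X j i → ℕ) = {1, p j 0, p j 1} := by
    intro j i
    rw [hspec, hpair]
  -- prime divisors of the orders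
  have hprimes : ∀ j i (ℓ : ℕ), ℓ.Prime → ℓ ∣ Nat.card (X j i) → ℓ = p j 0 ∨ ℓ = p j 1 := by
    intro j i ℓ hℓ hdvd
    haveI : Fact ℓ.Prime := ⟨hℓ⟩
    obtain ⟨x, hx⟩ := exists_prime_orderOf_dvd_card' ℓ hdvd
    have : ℓ ∈ Set.range (orderOf : X j i → ℕ) := ⟨x, hx⟩
    rw [hspec'] at this
    simp only [Set.mem_insert_iff, Set.mem_singleton_iff] at this
    rcases this with h | h | h
    · exact absurd h hℓ.ne_one
    · exact Or.inl h
    · exact Or.inr h
  have hcopX : ∀ j i j' i', j ≠ j' → Nat.Coprime (Nat.card (X j i)) (Nat.card (X j' i')) := by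
    intro j i j' i' hjj
    apply Nat.coprime_of_dvd
    intro ℓ hℓ h1 h2
    rcases hprimes j i ℓ hℓ h1 with e1 | e1 <;> rcases hprimes j' i' ℓ hℓ h2 with e2 | e2
    all_goals
      rw [e1] at e2
      exact hjj (hinj _ _ _ _ e2).1
  have hcopr : ∀ j (k : Fin 2) j' i', j ≠ j' → Nat.Coprime (p j k) (Nat.card (X j' i')) := by
    intro j k j' i' hjj
    rw [Nat.Prime.coprime_iff_not_dvd (hp j k)]
    intro hdvd
    rcases hprimes j' i' _ (hp j k) hdvd with e | e
    · exact hjj (hinj _ _ _ _ e).1
    · exact hjj (hinj _ _ _ _ e).1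
  set bits : Fin (2 ^ s) → Fin s → Fin 2 := fun a => finFunctionFinEquiv.symm a with hbits
  set Ωs : Set ℕ := {m : ℕ | ∃ c : Fin s → ℕ, (∀ j, c j = 1 ∨ c j = p j 0 ∨ c j = p j 1) ∧
    m = ∏ j, c j} with hΩs
  refine ⟨fun a => ∀ j, X j (bits a j), fun a => inferInstance, fun a => inferInstance, ?_, ?_⟩
  · -- non-isomorphism
    have key : ∀ a b : Fin (2 ^ s), (∃ j, bits a j = 0 ∧ bits b j = 1) →
        ¬ Nonempty ((∀ j, X j (bits a j)) ≃* (∀ j, X j (bits b j))) := by
      rintro a b ⟨j, ha, hb⟩ ⟨e⟩
      -- closure for `p j 0` in `G a`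
      have hca : ∀ x y : (∀ i, X i (bits a i)), x ^ (p j 0) = 1 → y ^ (p j 0) = 1 →
          (x * y) ^ (p j 0) = 1 := by
        rw [pi_closure_iff (Y := fun i => X i (bits a i)) (p j 0) j
          (fun i hij => hcopr j 0 i _ (Ne.symm hij))]
        have := (hgood j (bits a j)).2
        rw [ha] at this
        rw [ha]
        exact this
      -- transfer to `G b`
      have hcb : ∀ x y : (∀ i, X i (bits b i)), x ^ (p j 0) = 1 → y ^ (p j 0) = 1 →
          (x * y) ^ (p j 0) = 1 := by
        intro x y hx hy
        have h1 := hca (e.symm x) (e.symm y) (by rw [← map_pow, hx, map_one])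
          (by rw [← map_pow, hy, map_one])
        rw [← map_mul, ← map_pow] at h1
        have := congrArg e h1
        simpa using this
      rw [pi_closure_iff (Y := fun i => X i (bits b i)) (p j 0) j
        (fun i hij => hcopr j 0 i _ (Ne.symm hij))] at hcb
      -- contradiction in `X j (bits b j)`
      have h10 : (1 : Fin 2) + 1 = 0 := by decide
      have hg := hgood j (bits b j)
      have hsp := hspec' j (bits b j)
      rw [hb] at hg hsp hcb
      rw [h10] at hg
      have hg2 : Good (p j 0) (p j 1) (X j 1) := ⟨fun x => (hg.1 x).symm, hcb⟩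
      have hx : ∃ x : X j 1, orderOf x = p j 1 := by
        have : p j 1 ∈ Set.range (orderOf : X j 1 → ℕ) := by rw [hsp]; simp
        exact this
      have hy : ∃ y : X j 1, orderOf y = p j 0 := by
        have : p j 0 ∈ Set.range (orderOf : X j 1 → ℕ) := by rw [hsp]; simp
        exact this
      obtain ⟨x, hx⟩ := hx
      obtain ⟨y, hy⟩ := hy
      have hne10 : p j 1 ≠ p j 0 := by
        have := hne j 1
        rwa [h10] at this
      exact Good.not_both (hp j 1) (hp j 0) hne10 hg hg2 x y hx hy
    intro a b hab
    have hbne : bits a ≠ bits b := by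
      intro h
      apply hab
      exact finFunctionFinEquiv.symm.injective h
    obtain ⟨j, hj⟩ : ∃ j, bits a j ≠ bits b j := by
      by_contra hcon
      push Not at hcon
      exact hbne (funext hcon)
    rcases hfin2 (bits a j) with h1 | h1 <;> rcases hfin2 (bits b j) with h2 | h2
    · exact absurd (h1.trans h2.symm) hj
    · exact key a b ⟨j, h1, h2⟩
    · rintro ⟨e⟩
      exact key b a ⟨j, h2, h1⟩ ⟨e.symm⟩
    · exact absurd (h1.trans h2.symm) hj
  · intro a
    have hcop : ∀ i j, i ≠ j → Nat.Coprime (Nat.card (X i (bits a i))) (Nat.card (X j (bits a j))) :=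
      fun i j hij => hcopX i _ j _ hij
    constructor
    · -- the spectrum
      ext m
      constructor
      · rintro ⟨g, rfl⟩
        refine ⟨fun j => orderOf (g j), ?_, ?_⟩
        · intro j
          have : orderOf (g j) ∈ Set.range (orderOf : X j (bits a j) → ℕ) := ⟨_, rfl⟩
          rw [hspec'] at this
          simpa using this
        · exact orderOf_pi_eq_prod (Y := fun i => X i (bits a i)) hcop g
      · rintro ⟨c, hc, rfl⟩
        have hex : ∀ j, ∃ y : X j (bits a j), orderOf y = c j := by
          intro j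
          have : c j ∈ Set.range (orderOf : X j (bits a j) → ℕ) := by
            rw [hspec']
            simpa using hc j
          exact this
        choose y hy using hex
        refine ⟨y, ?_⟩
        rw [orderOf_pi_eq_prod (Y := fun i => X i (bits a i)) hcop y]
        exact Finset.prod_congr rfl (fun j _ => hy j)
    · -- criticality
      have := isCrit_pi (Y := fun i => X i (bits a i)) hcop
        (fun j => {1, p j (bits a j), p j (bits a j + 1)}) Ωs
        (fun j => hspec j (bits a j))
        (by
          intro j m hm d hd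
          simp only [Set.mem_insert_iff, Set.mem_singleton_iff] at hm ⊢
          rcases hm with rfl | rfl | rfl
          · left; exact Nat.dvd_one.1 hd
          · rcases (Nat.dvd_prime (hp _ _)).1 hd with h | h
            · left; exact h
            · right; left; exact h
          · rcases (Nat.dvd_prime (hp _ _)).1 hd with h | h
            · left; exact h
            · right; right; exact h)
        (by
          intro j m hm
          rw [hpair] at hm
          simp only [Set.mem_insert_iff, Set.mem_singleton_iff] at hm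
          refine ⟨fun j' => if j' = j then m else 1, ?_, ?_⟩
          · intro j'
            by_cases h : j' = j
            · subst h
              simpa using hm
            · simp [h]
          · simp)
        (fun j => hcrit j (bits a j))
      exact this

end Cfsg.Agent.S3599
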