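import Cfsg.Statements.S3619

set_option autoImplicit false
open Cfsg

namespace Cfsg.Agent.S3619

open MulAction
open scoped Pointwise


/-- Let G act faithfully on a finite set in such a way that every non-trivial normal subgroup of G is transitive (G is quasiprimitive). Let Γ be a subset with more than one point and not the whole set, such that the pointwise stabilizer of the complement of Γ acts transitively on Γ (a Jordan set). If that pointwise stabilizer acts primitively on Γ, then G is k-fold transitive where k is one more than the number of points outside Γ (the Jordan set is a trivial one). -/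
theorem result {G Ω : Type*} [Group G] [Finite G] [MulAction G Ω] [FaithfulSMul G Ω] [Finite Ω]
    (hqp : ∀ N : Subgroup G, N.Normal → N ≠ ⊥ → MulAction.IsPretransitive ↥N Ω)
    (Γ : Set Ω) (hΓ1 : 1 < Γ.ncard) (hΓ2 : Γ.ncard < Nat.card Ω)
    (hJ : MulAction.IsPretransitive ↥(fixingSubgroup G Γᶜ) ↥(SubMulAction.ofFixingSubgroup G Γᶜ))
    (hJp : MulAction.IsPreprimitive ↥(fixingSubgroup G Γᶜ) ↥(SubMulAction.ofFixingSubgroup G Γᶜ)) :
    MulAction.IsMultiplyPretransitive G Ω (Nat.card Ω - Γ.ncard + 1) := by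
  classical
  set H := fixingSubgroup G Γᶜ with hH
  -- membership in the sub-action
  have hmemΓ : ∀ x : Ω, x ∈ SubMulAction.ofFixingSubgroup G Γᶜ ↔ x ∈ Γ := by
    intro x
    rw [SubMulAction.mem_ofFixingSubgroup_iff]
    simp
  have hfix : ∀ h ∈ H, ∀ z ∉ Γ, h • z = z := by
    intro h hh z hz
    exact (mem_fixingSubgroup_iff G).mp hh z hz
  -- two distinct points of Γ
  obtain ⟨γ₀, γ₁, hγ₀, hγ₁, hne⟩ := (Set.one_lt_ncard_iff (Set.toFinite Γ)).mp hΓ1
  -- transitivity of H on Γ
  have htr : ∀ x ∈ Γ, ∀ y ∈ Γ, ∃ h ∈ H, h • x = y := by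
    intro x hx y hy
    obtain ⟨h, hh⟩ := hJ.exists_smul_eq
      (⟨x, (hmemΓ x).mpr hx⟩ : SubMulAction.ofFixingSubgroup G Γᶜ) ⟨y, (hmemΓ y).mpr hy⟩
    exact ⟨h, h.2, congrArg Subtype.val hh⟩
  have hHΓ : ∀ h ∈ H, ∀ x ∈ Γ, h • x ∈ Γ := by
    intro h hh x hx
    have := (SubMulAction.ofFixingSubgroup G Γᶜ).smul_mem (⟨h, hh⟩ : H) ((hmemΓ x).mpr hx)
    exact (hmemΓ _).mp this
  obtain ⟨h₀, hh₀, hh₀γ⟩ := htr γ₀ hγ₀ γ₁ hγ₁
  have hHne : (Subgroup.normalClosure (H : Set G)) ≠ ⊥ := by
    intro h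
    have : h₀ ∈ Subgroup.normalClosure (H : Set G) := Subgroup.subset_normalClosure hh₀
    rw [h, Subgroup.mem_bot] at this
    rw [this, one_smul] at hh₀γ
    exact hne hh₀γ
  have hNtr := hqp _ Subgroup.normalClosure_normal hHne
  have hGtr : IsPretransitive G Ω := by
    constructor
    intro x y
    obtain ⟨n, hn⟩ := hNtr.exists_smul_eq x y
    exact ⟨(n : G), hn⟩
  have hprim : IsPreprimitive G Ω := by
    refine { toIsPretransitive := hGtr, isTrivialBlock_of_isBlock := ?_ }
    intro B₀ hB₀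
    by_contra hB₀t
    have hB₀ns : ¬ B₀.Subsingleton := fun h => hB₀t (Or.inl h)
    have hB₀nu : B₀ ≠ Set.univ := fun h => hB₀t (Or.inr h)
    -- translate to contain γ₀
    obtain ⟨b, hb⟩ : B₀.Nonempty := by
      by_contra h
      rw [Set.not_nonempty_iff_eq_empty] at h
      exact hB₀ns (h ▸ Set.subsingleton_empty)
    obtain ⟨g, hg⟩ := hGtr.exists_smul_eq b γ₀
    set B := g • B₀ with hBdef
    have hB : IsBlock G B := hB₀.translate g
    have hγ₀B : γ₀ ∈ B := hg ▸ Set.smul_mem_smul_set hb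
    have hBns : ¬ B.Subsingleton := by
      intro h
      apply hB₀ns
      intro x hx y hy
      have := h (Set.smul_mem_smul_set (a := g) hx) (Set.smul_mem_smul_set (a := g) hy)
      exact (MulAction.injective g) this
    have hBnu : B ≠ Set.univ := by
      intro h
      apply hB₀nu
      rw [Set.eq_univ_iff_forall] at h ⊢
      intro x
      have := h (g • x)
      exact (Set.smul_mem_smul_set_iff).mp this
    -- stabilizing criterion
    have hstab : ∀ x : G, (∃ ω ∈ B, x • ω ∈ B) → x • B = B := by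
      rintro x ⟨ω, hω, hxω⟩
      have h1 : (x • B ∩ (1 : G) • B).Nonempty :=
        ⟨x • ω, Set.smul_mem_smul_set hω, by rw [one_smul]; exact hxω⟩
      have := hB.smul_eq_smul_of_nonempty h1
      rwa [one_smul] at this
    -- the trace on Γ is a trivial block
    have hBH : IsBlock H (Subtype.val ⁻¹' B : Set (SubMulAction.ofFixingSubgroup G Γᶜ)) :=
      (hB.subgroup (H := H)).subtype_val_preimage
    rcases hJp.isTrivialBlock_of_isBlock hBH with hsub | huniv
    · -- B ∩ Γ = {γ₀}
      obtain ⟨β, hβ, hβne⟩ : ∃ β ∈ B, β ≠ γ₀ := by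
        by_contra hcon
        push Not at hcon
        apply hBns
        intro x hx y hy
        rw [hcon x hx, hcon y hy]
      have hβΓ : β ∉ Γ := by
        intro hβΓ
        apply hβne
        have m1 : (⟨β, (hmemΓ β).mpr hβΓ⟩ : SubMulAction.ofFixingSubgroup G Γᶜ) ∈
            (Subtype.val ⁻¹' B : Set (SubMulAction.ofFixingSubgroup G Γᶜ)) := hβ
        have m2 : (⟨γ₀, (hmemΓ γ₀).mpr hγ₀⟩ : SubMulAction.ofFixingSubgroup G Γᶜ) ∈
            (Subtype.val ⁻¹' B : Set (SubMulAction.ofFixingSubgroup G Γᶜ)) := hγ₀B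
        exact congrArg Subtype.val (hsub m1 m2)
      have h1 : h₀ • B = B := hstab h₀ ⟨β, hβ, by rw [hfix h₀ hh₀ β hβΓ]; exact hβ⟩
      have hγ₁B : γ₁ ∈ B := by
        rw [← h1, ← hh₀γ]; exact Set.smul_mem_smul_set hγ₀B
      apply hne
      have m1 : (⟨γ₀, (hmemΓ γ₀).mpr hγ₀⟩ : SubMulAction.ofFixingSubgroup G Γᶜ) ∈
          (Subtype.val ⁻¹' B : Set (SubMulAction.ofFixingSubgroup G Γᶜ)) := hγ₀B
      have m2 : (⟨γ₁, (hmemΓ γ₁).mpr hγ₁⟩ : SubMulAction.ofFixingSubgroup G Γᶜ) ∈
          (Subtype.val ⁻¹' B : Set (SubMulAction.ofFixingSubgroup G Γᶜ)) := hγ₁B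
      exact congrArg Subtype.val (hsub m1 m2)
    · -- Γ ⊆ B
      have hΓB : Γ ⊆ B := by
        intro x hx
        have : (⟨x, (hmemΓ x).mpr hx⟩ : SubMulAction.ofFixingSubgroup G Γᶜ) ∈
            (Subtype.val ⁻¹' B : Set (SubMulAction.ofFixingSubgroup G Γᶜ)) := by
          rw [huniv]; trivial
        exact this
      -- every conjugate of an element of H stabilizes B
      have hconj : ∀ x : G, ∀ h ∈ H, (x * h * x⁻¹) • B = B := by
        intro x h hh
        by_cases hx : x⁻¹ • B = B
        · have hxB : x • B = B := by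
            conv_lhs => rw [← hx]
            rw [smul_smul, mul_inv_cancel, one_smul]
          have hhB : h • B = B := hstab h ⟨γ₀, hγ₀B, hΓB (hHΓ h hh γ₀ hγ₀)⟩
          rw [mul_smul, mul_smul, hx, hhB, hxB]
        · -- x⁻¹ • B is disjoint from B hence fixed pointwise by h
          have hdisj : Disjoint (x⁻¹ • B) B := by
            have := hB (g₁ := x⁻¹) (g₂ := 1) (by rw [one_smul]; exact hx)
            rwa [one_smul] at this
          have hhx : h • (x⁻¹ • B) = x⁻¹ • B := by
            ext ω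
            constructor
            · rintro ⟨ω', hω', rfl⟩
              have : ω' ∉ Γ := fun hΓ' => Set.disjoint_left.mp hdisj hω' (hΓB hΓ')
              have e : (fun y => h • y) ω' = ω' := hfix h hh ω' this
              rw [e]; exact hω'
            · intro hω
              have : ω ∉ Γ := fun hΓ' => Set.disjoint_left.mp hdisj hω (hΓB hΓ')
              exact ⟨ω, hω, hfix h hh ω this⟩
          rw [mul_smul, mul_smul, hhx, smul_smul, mul_inv_cancel, one_smul]
      have hNB : Subgroup.normalClosure (H : Set G) ≤ stabilizer G B := by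
        unfold Subgroup.normalClosure
        rw [Subgroup.closure_le]
        intro y hy
        obtain ⟨h, hh, hc⟩ := Group.mem_conjugatesOfSet_iff.mp hy
        obtain ⟨x, hx⟩ := isConj_iff.mp hc
        rw [← hx]
        exact hconj x h hh
      apply hBnu
      rw [Set.eq_univ_iff_forall]
      intro ω
      obtain ⟨n, hn⟩ := hNtr.exists_smul_eq γ₀ ω
      have h2 : (n : G) • B = B := hNB n.2
      rw [← h2, ← hn]
      exact Set.smul_mem_smul_set hγ₀B
  -- apply Jordan's theorem
  have hcompl : (Γᶜ).ncard = Nat.card Ω - Γ.ncard := Set.ncard_compl Γ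
  obtain ⟨n, hn⟩ : ∃ n, Nat.card Ω - Γ.ncard = n + 1 := ⟨Nat.card Ω - Γ.ncard - 1, by omega⟩
  have hsn : (Γᶜ).ncard = n + 1 := by rw [hcompl, hn]
  have hsn' : n + 2 < Nat.card Ω := by omega
  have hmp := hprim.isMultiplyPreprimitive hsn hsn' hJp
  rw [hn]
  exact hmp.isMultiplyPretransitive

end Cfsg.Agent.S3619
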