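import Cfsg.Statements.S3626
import Mathlib
import Cfsg.Agent.S2514
import Cfsg.Agent.S2515
import Cfsg.Agent.S3444
import Cfsg.Agent.Lib.helper7.REE.Ax
import Cfsg.Agent.Lib.Helper10.REEG8K

set_option autoImplicit false
open Cfsg

namespace Cfsg.Agent.S3626

/-- Let R be the small Ree group over the field with q = 3^(2m+1) ≥ 27 elements. Then there are finite groups of arbitrarily large order with exactly the same set of element orders as R × R × R. -/
theorem result {K : Type*} [Field K] [Fintype K] {m : ℕ} (hm : 1 ≤ m) (hK : Fintype.card K = 3 ^ (2 * m + 1)) (N : ℕ) :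
    ∃ (H : Type) (_ : Group H) (_ : Fintype H), N < Fintype.card H ∧
      Set.range (orderOf : H → ℕ) = Set.range (orderOf : ↥(Cfsg.Lie.twistedG2 K (3 ^ m)) × ↥(Cfsg.Lie.twistedG2 K (3 ^ m)) × ↥(Cfsg.Lie.twistedG2 K (3 ^ m)) → ℕ) := by
  classical
  obtain ⟨R⟩ := Cfsg.Agent.Lib.helper7.REE.ree_ax hm hK
  have hmu := R.mu_set
  obtain ⟨H0, iG, iF, ⟨P, hPn, hPne, hP3⟩, hH0⟩ :=
    Cfsg.Agent.S2515.result (2 * m + 1) (by omega) ⟨m, by ring⟩
  -- the intermediate group
  have hspec : Set.range (orderOf : (Fin 3 → ↥(Cfsg.Lie.twistedG2 K (3 ^ m))) → ℕ) =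
      Set.range (orderOf : (Fin (3 - 1) → ↥(Cfsg.Lie.twistedG2 K (3 ^ m))) × H0 → ℕ) := by
    refine Cfsg.Agent.S2514.result (G := ↥(Cfsg.Lie.twistedG2 K (3 ^ m))) (H := H0) 3 (by norm_num) ?_ ?_
    · rw [hH0, hmu]
      intro x hx
      simp only [Set.mem_insert_iff, Set.mem_singleton_iff] at hx ⊢
      rcases hx with h | h | h | h
      · exact Or.inl h
      · exact Or.inr (Or.inl h)
      · exact Or.inr (Or.inr (Or.inl h))
      · exact Or.inr (Or.inr (Or.inr (Or.inl h)))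
    · rw [hH0, hmu]
      have hsub : (({6, 9, Cfsg.Agent.Lib.helper7.REE.qq m - 1, (Cfsg.Agent.Lib.helper7.REE.qq m + 1) / 2,
          Cfsg.Agent.Lib.helper7.REE.qq m - Cfsg.Agent.Lib.helper7.REE.rr m + 1,
          Cfsg.Agent.Lib.helper7.REE.qq m + Cfsg.Agent.Lib.helper7.REE.rr m + 1} : Set ℕ) \
          ({6, 9, 3 ^ (2 * m + 1) - 1, (3 ^ (2 * m + 1) + 1) / 2} : Set ℕ)) ⊆
          (({Cfsg.Agent.Lib.helper7.REE.qq m - Cfsg.Agent.Lib.helper7.REE.rr m + 1,
          Cfsg.Agent.Lib.helper7.REE.qq m + Cfsg.Agent.Lib.helper7.REE.rr m + 1} : Finset ℕ) : Set ℕ) := by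
        intro x hx
        obtain ⟨hx1, hx2⟩ := hx
        simp only [Set.mem_insert_iff, Set.mem_singleton_iff] at hx1 hx2
        simp only [Finset.coe_insert, Finset.coe_singleton, Set.mem_insert_iff, Set.mem_singleton_iff]
        rcases hx1 with h | h | h | h | h | h
        · exact absurd (Or.inl h) hx2
        · exact absurd (Or.inr (Or.inl h)) hx2
        · exact absurd (Or.inr (Or.inr (Or.inl h))) hx2
        · exact absurd (Or.inr (Or.inr (Or.inr h))) hx2
        · exact Or.inl h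
        · exact Or.inr h
      calc _ ≤ (({Cfsg.Agent.Lib.helper7.REE.qq m - Cfsg.Agent.Lib.helper7.REE.rr m + 1,
          Cfsg.Agent.Lib.helper7.REE.qq m + Cfsg.Agent.Lib.helper7.REE.rr m + 1} : Finset ℕ) : Set ℕ).ncard :=
            Set.ncard_le_ncard hsub (Finset.finite_toSet _)
        _ = ({Cfsg.Agent.Lib.helper7.REE.qq m - Cfsg.Agent.Lib.helper7.REE.rr m + 1,
          Cfsg.Agent.Lib.helper7.REE.qq m + Cfsg.Agent.Lib.helper7.REE.rr m + 1} : Finset ℕ).card :=
            Set.ncard_coe_finset _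
        _ ≤ 2 := Finset.card_le_two
        _ < 3 := by norm_num
  -- the solvable normal subgroup of the intermediate group
  let X := (Fin (3 - 1) → ↥(Cfsg.Lie.twistedG2 K (3 ^ m))) × H0
  let Kn : Subgroup X := Subgroup.prod ⊥ P
  haveI : Kn.Normal := Subgroup.prod_normal _ _
  have hKne : Kn ≠ ⊥ := by
    intro h
    apply hPne
    rw [Subgroup.eq_bot_iff_forall]
    intro x hx
    have : ((1 : Fin (3 - 1) → ↥(Cfsg.Lie.twistedG2 K (3 ^ m))), x) ∈ Kn :=
      Subgroup.mem_prod.2 ⟨Subgroup.mem_bot.2 rfl, hx⟩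
    rw [h, Subgroup.mem_bot] at this
    exact (Prod.ext_iff.1 this).2
  have hKs : Group.IsSolvable Kn := by
    haveI : Finite H0 := Finite.of_fintype H0
    haveI : Fact (Nat.Prime 3) := ⟨by norm_num⟩
    have hsolP : Group.IsSolvable P := by
      haveI := hP3.isNilpotent
      infer_instance
    -- Kn embeds into P via the second projection
    let f : Kn →* P :=
      { toFun := fun x => ⟨x.1.2, (Subgroup.mem_prod.1 x.2).2⟩
        map_one' := rfl
        map_mul' := fun _ _ => rfl }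
    have hf : Function.Injective f := by
      intro a b hab
      have h2 : a.1.2 = b.1.2 := congrArg Subtype.val hab
      have ha1 : a.1.1 = 1 := Subgroup.mem_bot.1 (Subgroup.mem_prod.1 a.2).1
      have hb1 : b.1.1 = 1 := Subgroup.mem_bot.1 (Subgroup.mem_prod.1 b.2).1
      exact Subtype.ext (Prod.ext (ha1.trans hb1.symm) h2)
    exact solvable_of_solvable_injective hf
  obtain ⟨H, iHG, iHF, hN, hHspec⟩ := Cfsg.Agent.S3444.result (G := X) Kn hKne hKs N
  refine ⟨H, iHG, iHF, hN, ?_⟩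
  rw [hHspec, ← hspec]
  -- G × G × G ≃* (Fin 3 → G)
  let e : (Fin 3 → ↥(Cfsg.Lie.twistedG2 K (3 ^ m))) ≃* (↥(Cfsg.Lie.twistedG2 K (3 ^ m)) × ↥(Cfsg.Lie.twistedG2 K (3 ^ m)) × ↥(Cfsg.Lie.twistedG2 K (3 ^ m))) :=
    { toFun := fun f => (f 0, f 1, f 2)
      invFun := fun p => ![p.1, p.2.1, p.2.2]
      left_inv := fun f => by
        funext i
        fin_cases i <;> rfl
      right_inv := fun p => rfl
      map_mul' := fun f g => rfl }
  ext n
  constructor
  · rintro ⟨x, rfl⟩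
    exact ⟨e x, MulEquiv.orderOf_eq e x⟩
  · rintro ⟨x, rfl⟩
    exact ⟨e.symm x, MulEquiv.orderOf_eq e.symm x⟩

end Cfsg.Agent.S3626
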