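import Cfsg.Statements.S3633
import Cfsg.Agent.Lib.Helper20.PrimeGraph2

set_option autoImplicit false
open Cfsg

namespace Cfsg.Agent.S3633



/-- Let G be a finite group and ρ a set of at least three prime divisors of the order of G that are pairwise non-adjacent in the prime graph (no element of order rs for distinct r, s ∈ ρ). Then at most one prime of ρ divides the order of any given solvable normal subgroup of G; in particular G is not solvable. -/
theorem result {G : Type*} [Group G] [Finite G] (ρ : Finset ℕ) (hρ : 3 ≤ ρ.card) (hc : ((∀ r ∈ ρ, r.Prime ∧ r ∣ Nat.card G) ∧ (∀ r ∈ ρ, ∀ s ∈ ρ, r ≠ s → ¬ ∃ x : G, orderOf x = r * s)))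
    (K : Subgroup G) [K.Normal] (hK : Group.IsSolvable ↥K) :
    (∀ r ∈ ρ, ∀ s ∈ ρ, r ∣ Nat.card ↥K → s ∣ Nat.card ↥K → r = s) ∧ ¬ Group.IsSolvable G := by
  obtain ⟨hc1, hc2⟩ := hc
  have hprime : ∀ ℓ ∈ ρ, ℓ.Prime := fun ℓ hℓ => (hc1 ℓ hℓ).1
  have hdvd : ∀ ℓ ∈ ρ, ℓ ∣ Nat.card G := fun ℓ hℓ => (hc1 ℓ hℓ).2
  refine ⟨Cfsg.Agent.Lib.Helper20.solvable_normal_at_most_one ρ hρ hprime hdvd hc2 K hK, ?_⟩
  intro hsolv
  have htop : Group.IsSolvable ↥(⊤ : Subgroup G) :=
    solvable_of_solvable_injective (Subgroup.subtype_injective ⊤)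
  have h := Cfsg.Agent.Lib.Helper20.solvable_normal_at_most_one ρ hρ hprime hdvd hc2 ⊤ htop
  obtain ⟨a, b, c, ha, hb, -, hab, -, -⟩ := Finset.two_lt_card_iff.mp (by omega : 2 < ρ.card)
  apply hab
  apply h a ha b hb
  · rw [Subgroup.card_top]; exact hdvd a ha
  · rw [Subgroup.card_top]; exact hdvd b hb

end Cfsg.Agent.S3633
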