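import Cfsg.Statements.S3660
import Cfsg.Agent.Lib.Lead.AffSL2

set_option autoImplicit false
open Cfsg

namespace Cfsg.Agent.S3660

open Cfsg.Agent.Lib.Lead

theorem aux {F : Type*} [Field F] [Fintype F] [CharP F 2] (N : ℕ) :
    ∃ (H : Type) (_ : Group H) (_ : Finite H), N < Nat.card H ∧
      ((∀ p : ℕ, p.Prime → (p ∣ Nat.card (Matrix.ProjectiveSpecialLinearGroup (Fin 2) F) ↔ p ∣ Nat.card H)) ∧
      (∀ p q : ℕ, p.Prime → q.Prime → p ≠ q → ((∃ g : (Matrix.ProjectiveSpecialLinearGroup (Fin 2) F), orderOf g = p * q) ↔ (∃ g : H, orderOf g = p * q)))) := by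
  classical
  have : Finite (AffSL2.Aff F N) := Finite.of_equiv _ SemidirectProduct.equivProd.symm
  have hfin : Finite (Shrink.{0} (AffSL2.Aff F N)) := Finite.of_equiv _ (equivShrink _)
  have hcardS : Nat.card (Shrink.{0} (AffSL2.Aff F N)) = Nat.card (AffSL2.Aff F N) :=
    Nat.card_congr (equivShrink _).symm
  have hcardP : Nat.card (Matrix.ProjectiveSpecialLinearGroup (Fin 2) F)
      = Nat.card (Matrix.SpecialLinearGroup (Fin 2) F) :=
    Nat.card_congr (AffSL2.pslEquiv (F := F)).toEquiv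
  obtain ⟨n, hn⟩ : ∃ n : ℕ, Fintype.card F = 2 ^ n := by
    obtain ⟨n, -, hn⟩ := FiniteField.card F 2
    exact ⟨n, hn⟩
  have hSLpos : 0 < Nat.card (Matrix.SpecialLinearGroup (Fin 2) F) := Nat.card_pos
  have h2dvd : 2 ∣ Nat.card (Matrix.SpecialLinearGroup (Fin 2) F) := by
    obtain ⟨g, hg⟩ := AffSL2.exists_involution (F := F)
    have := orderOf_dvd_natCard g
    rwa [hg] at this
  refine ⟨Shrink.{0} (AffSL2.Aff F N), inferInstance, hfin, ?_, ?_, ?_⟩
  · rw [hcardS, AffSL2.card_aff]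
    have h1 : 2 ≤ Fintype.card F := by
      have := Fintype.one_lt_card (α := F)
      omega
    have h2 : 2 ^ (2 * N) ≤ Fintype.card F ^ (2 * N) := Nat.pow_le_pow_left h1 _
    have h3 : N < 2 ^ (2 * N) := by
      calc N < 2 ^ N := Nat.lt_two_pow_self
        _ ≤ 2 ^ (2 * N) := Nat.pow_le_pow_right (by norm_num) (by omega)
    calc N < 2 ^ (2 * N) := h3
      _ ≤ Fintype.card F ^ (2 * N) := h2
      _ ≤ Fintype.card F ^ (2 * N) * Nat.card (Matrix.SpecialLinearGroup (Fin 2) F) :=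
        Nat.le_mul_of_pos_right _ hSLpos
  · intro p hp
    rw [hcardS, AffSL2.card_aff, hcardP, hn, ← pow_mul]
    constructor
    · intro h
      exact Dvd.dvd.mul_left h _
    · intro h
      rcases (Nat.Prime.dvd_mul hp).mp h with h1 | h1
      · have hp2 : p = 2 := (Nat.prime_dvd_prime_iff_eq hp Nat.prime_two).mp (hp.dvd_of_dvd_pow h1)
        rw [hp2]
        exact h2dvd
      · exact h1
  · intro p q hp hq hpq
    constructor
    · rintro ⟨g, hg⟩
      obtain ⟨x, hx⟩ := (AffSL2.exists_order_iff (F := F) (k := N) p q hp hq hpq).mpr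
        ⟨AffSL2.pslEquiv g, by rw [MulEquiv.orderOf_eq, hg]⟩
      exact ⟨(Shrink.mulEquiv.{0} (α := AffSL2.Aff F N)).symm x, by rw [MulEquiv.orderOf_eq, hx]⟩
    · rintro ⟨y, hy⟩
      obtain ⟨g, hg⟩ := (AffSL2.exists_order_iff (F := F) (k := N) p q hp hq hpq).mp
        ⟨Shrink.mulEquiv.{0} (α := AffSL2.Aff F N) y, by rw [MulEquiv.orderOf_eq, hy]⟩
      exact ⟨(AffSL2.pslEquiv (F := F)).symm g, by rw [MulEquiv.orderOf_eq, hg]⟩

theorem result {F : Type*} [Field F] [Fintype F] [CharP F 2] (hF : 4 ≤ Fintype.card F) (N : ℕ) :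
    ∃ (H : Type) (_ : Group H) (_ : Finite H), N < Nat.card H ∧
      ((∀ p : ℕ, p.Prime → (p ∣ Nat.card (Matrix.ProjectiveSpecialLinearGroup (Fin 2) F) ↔ p ∣ Nat.card H)) ∧
      (∀ p q : ℕ, p.Prime → q.Prime → p ≠ q → ((∃ g : (Matrix.ProjectiveSpecialLinearGroup (Fin 2) F), orderOf g = p * q) ↔ (∃ g : H, orderOf g = p * q)))) := by
  have _h := hF
  exact aux N

end Cfsg.Agent.S3660
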