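import Cfsg.Statements.S3678
import Cfsg.Agent.Lib.Lead.SL2F8
import Cfsg.Agent.S1005
import Cfsg.Agent.S0243

set_option autoImplicit false
open Cfsg

namespace Cfsg.Agent.S3678

open Cfsg.Agent.Lib.Lead

theorem prime_dvd_iff (p : ℕ) (hp : p.Prime) (a b c : ℕ) :
    p ∣ 2 ^ a * 3 ^ b * 7 ^ c → p = 2 ∨ p = 3 ∨ p = 7 := by
  intro h
  rcases (Nat.Prime.dvd_mul hp).mp h with h1 | h1
  · rcases (Nat.Prime.dvd_mul hp).mp h1 with h2 | h2
    · left
      exact (Nat.prime_dvd_prime_iff_eq hp Nat.prime_two).mp (hp.dvd_of_dvd_pow h2)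
    · right; left
      exact (Nat.prime_dvd_prime_iff_eq hp Nat.prime_three).mp (hp.dvd_of_dvd_pow h2)
  · right; right
    exact (Nat.prime_dvd_prime_iff_eq hp (by norm_num)).mp (hp.dvd_of_dvd_pow h1)

theorem result {F : Type*} [Field F] [Fintype F] (hF : Fintype.card F = 7) (N : ℕ) :
    ∃ (H : Type) (_ : Group H) (_ : Finite H), N < Nat.card H ∧
      ((∀ p : ℕ, p.Prime → (p ∣ Nat.card (Matrix.ProjectiveSpecialLinearGroup (Fin 2) F) ↔ p ∣ Nat.card H)) ∧
      (∀ p q : ℕ, p.Prime → q.Prime → p ≠ q → ((∃ g : (Matrix.ProjectiveSpecialLinearGroup (Fin 2) F), orderOf g = p * q) ↔ (∃ g : H, orderOf g = p * q)))) := by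
  classical
  have hsimple : IsSimpleGroup (Matrix.ProjectiveSpecialLinearGroup (Fin 2) F) :=
    Matrix.ProjectiveSpecialLinearGroup.rank_two_simple (by
      rw [Nat.card_eq_fintype_card, hF]; norm_num)
  have hcard := Cfsg.Agent.S0243.result hF 2 (le_refl 2)
  have h168 : Nat.card (Matrix.ProjectiveSpecialLinearGroup (Fin 2) F) = 168 := by
    rw [Fin.prod_univ_two] at hcard
    generalize Nat.card (Matrix.ProjectiveSpecialLinearGroup (Fin 2) F) = M at hcard ⊢
    norm_num at hcard
    omega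
  have hfinP : Finite (Matrix.ProjectiveSpecialLinearGroup (Fin 2) F) :=
    Nat.finite_of_card_ne_zero (by rw [h168]; norm_num)
  let _inst : Fintype (GaloisField 2 3) := Fintype.ofFinite _
  have hF8 : Fintype.card (GaloisField 2 3) = 8 := by
    rw [← Nat.card_eq_fintype_card, GaloisField.card 2 3 (by norm_num)]
    norm_num
  have hfin : Finite (AffSL2.Aff (GaloisField 2 3) N) := Finite.of_equiv _ SemidirectProduct.equivProd.symm
  have hSL : Nat.card (Matrix.SpecialLinearGroup (Fin 2) (GaloisField 2 3)) = 504 := by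
    have h1 := Nat.card_congr (AffSL2.pslEquiv (F := GaloisField 2 3)).toEquiv
    have h2 := Cfsg.Agent.S0243.result hF8 2 (le_refl 2)
    rw [Fin.prod_univ_two] at h2
    rw [← h1]
    generalize Nat.card (Matrix.ProjectiveSpecialLinearGroup (Fin 2) (GaloisField 2 3)) = M at h2 ⊢
    norm_num at h2
    omega
  have hcardH : Nat.card (AffSL2.Aff (GaloisField 2 3) N) = 8 ^ (2 * N) * 504 := by
    rw [AffSL2.card_aff, hF8, hSL]
  refine ⟨AffSL2.Aff (GaloisField 2 3) N, inferInstance, hfin, ?_, ?_, ?_⟩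
  · rw [hcardH]
    have h3 : N < 8 ^ (2 * N) := by
      calc N < 2 ^ N := Nat.lt_two_pow_self
        _ ≤ 8 ^ N := Nat.pow_le_pow_left (by norm_num) _
        _ ≤ 8 ^ (2 * N) := Nat.pow_le_pow_right (by norm_num) (by omega)
    calc N < 8 ^ (2 * N) := h3
      _ ≤ 8 ^ (2 * N) * 504 := Nat.le_mul_of_pos_right _ (by norm_num)
  · intro p hp
    rw [hcardH, h168]
    have e1 : (168 : ℕ) = 2 ^ 3 * 3 ^ 1 * 7 ^ 1 := by norm_num
    have e2 : (8 : ℕ) ^ (2 * N) * 504 = 2 ^ (3 * (2 * N) + 3) * 3 ^ 2 * 7 ^ 1 := by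
      have : (8 : ℕ) = 2 ^ 3 := by norm_num
      rw [this, ← pow_mul, pow_add]
      ring
    constructor
    · intro h
      rw [e1] at h
      rcases prime_dvd_iff p hp _ _ _ h with rfl | rfl | rfl
      · exact Dvd.dvd.mul_left (by norm_num) _
      · exact Dvd.dvd.mul_left (by norm_num) _
      · exact Dvd.dvd.mul_left (by norm_num) _
    · intro h
      rw [e2] at h
      rcases prime_dvd_iff p hp _ _ _ h with rfl | rfl | rfl <;> norm_num
  · intro p q hp hq hpq
    have h6 : 6 ≤ p * q := by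
      have h1 := hp.two_le
      have h2 := hq.two_le
      rcases Nat.lt_or_ge p 3 with h | h
      · have hp2 : p = 2 := by omega
        have : q ≠ 2 := fun h => hpq (hp2.trans h.symm)
        have : 3 ≤ q := by omega
        nlinarith
      · nlinarith
    constructor
    · rintro ⟨g, hg⟩
      exfalso
      have h1 := (Cfsg.Agent.S1005.result (G := Matrix.ProjectiveSpecialLinearGroup (Fin 2) F) h168).1 g
      rw [hg] at h1
      rcases h1 with h | h | h | h | h
      · omega
      · omega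
      · omega
      · omega
      · have hp7 : p ∣ 7 := ⟨q, h.symm⟩
        have hq7 : q ∣ 7 := ⟨p, by rw [mul_comm]; exact h.symm⟩
        have h7 : Nat.Prime 7 := by norm_num
        have e1 := (Nat.prime_dvd_prime_iff_eq hp h7).mp hp7
        have e2 := (Nat.prime_dvd_prime_iff_eq hq h7).mp hq7
        exact hpq (e1.trans e2.symm)
    · rintro ⟨x, hx⟩
      exfalso
      obtain ⟨g, hg⟩ := (AffSL2.exists_order_iff (F := GaloisField 2 3) (k := N) p q hp hq hpq).mp ⟨x, hx⟩
      exact SL2F8.no_pq hF8 g p q hp hq hpq hg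

end Cfsg.Agent.S3678
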