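import Cfsg.Statements.S3680
import Cfsg.Agent.Lib.Helper20.SimplePow

set_option autoImplicit false
open Cfsg

namespace Cfsg.Agent.S3680


open Cfsg.Agent.Lib.Helper20

section prim
variable {G Ω : Type*} [Group G] [MulAction G Ω]

/-- the centralizer of a transitive subgroup is semiregular (faithful action) -/
theorem eq_one_of_mem_centralizer_of_fixed [FaithfulSMul G Ω] (K : Subgroup G)
    (hK : MulAction.IsPretransitive K Ω) {c : G} (hc : c ∈ Subgroup.centralizer (K : Set G))
    {ω : Ω} (hω : c • ω = ω) : c = 1 := by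
  apply FaithfulSMul.eq_of_smul_eq_smul (α := Ω)
  intro ω'
  obtain ⟨k, hk⟩ := hK.exists_smul_eq ω ω'
  have hk' : (k : G) • ω = ω' := hk
  rw [one_smul, ← hk', ← mul_smul]
  have : c * (k : G) = k * c := (Subgroup.mem_centralizer_iff.mp hc k k.2).symm
  rw [this, mul_smul, hω]

/-- nontrivial normal subgroups of a faithful primitive group are transitive -/
theorem pretransitive_of_normal_ne_bot [FaithfulSMul G Ω] (hprim : MulAction.IsPreprimitive G Ω)
    (K : Subgroup G) [K.Normal] (hK : K ≠ ⊥) : MulAction.IsPretransitive K Ω := by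
  apply MulAction.IsQuasiPreprimitive.isPretransitive_of_normal (G := G)
  intro h
  apply hK
  rw [eq_bot_iff]
  intro k hk
  rw [Subgroup.mem_bot]
  apply FaithfulSMul.eq_of_smul_eq_smul (α := Ω)
  intro ω
  have : ω ∈ MulAction.fixedPoints K Ω := by rw [h]; trivial
  rw [one_smul]
  exact this ⟨k, hk⟩

/-- a semiregular subgroup containing a transitive subgroup equals it -/
theorem le_of_semiregular_of_pretransitive (K C : Subgroup G) (hKC : K ≤ C)
    (hK : MulAction.IsPretransitive K Ω) (ω : Ω) (hC : ∀ c ∈ C, c • ω = ω → c = 1) : C ≤ K := by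
  intro c hc
  obtain ⟨k, hk⟩ := hK.exists_smul_eq ω (c • ω)
  have hk' : (k : G) • ω = c • ω := hk
  have h1 : ((k : G)⁻¹ * c) • ω = ω := by
    rw [mul_smul, ← hk', ← mul_smul, inv_mul_cancel, one_smul]
  have h2 := hC _ (mul_mem (inv_mem (hKC k.2)) hc) h1
  have : c = k := by
    have := congrArg (fun x => (k : G) * x) h2
    simpa using this
  rw [this]; exact k.2

end prim

/-- product of two powers of `T` is a power of `T` -/
theorem prod_pow_equiv (T : Type) [Group T] (a : ℕ) :
    ∀ b : ℕ, Nonempty ((Fin a → T) × (Fin b → T) ≃* (Fin (a + b) → T)) := by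
  intro b
  induction b with
  | zero =>
    refine ⟨?_⟩
    have e1 : (Fin 0 → T) ≃* Unit :=
      { toFun := fun _ => (), invFun := fun _ => Fin.elim0, left_inv := fun f => by
          funext i; exact i.elim0, right_inv := fun _ => rfl, map_mul' := fun _ _ => rfl }
    exact (MulEquiv.prodCongr (MulEquiv.refl _) e1).trans (MulEquiv.prodUnique)
  | succ b ih =>
    obtain ⟨e⟩ := ih
    refine ⟨?_⟩
    exact ((MulEquiv.prodCongr (MulEquiv.refl _) (snocMulEquiv T b).symm).trans
      (MulEquiv.prodAssoc).symm).trans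
      ((MulEquiv.prodCongr e (MulEquiv.refl T)).trans (snocMulEquiv T (a + b)))

section twoRegular
variable {G Ω : Type*} [Group G] [MulAction G Ω]

/-- two commuting regular subgroups are isomorphic -/
theorem nonempty_mulEquiv_of_commuting_regular (M1 M2 : Subgroup G) (ω0 : Ω)
    (hcomm : ∀ a ∈ M1, ∀ b ∈ M2, a * b = b * a)
    (h1t : MulAction.IsPretransitive M1 Ω) (h2t : MulAction.IsPretransitive M2 Ω)
    (h1s : ∀ a ∈ M1, a • ω0 = ω0 → a = 1) (h2s : ∀ b ∈ M2, b • ω0 = ω0 → b = 1) :
    Nonempty (M1 ≃* M2) := by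
  classical
  -- uniqueness in M2
  have huniq : ∀ b b' : M2, (b : G) • ω0 = (b' : G) • ω0 → b = b' := by
    intro b b' h
    have h3 : ((b' : G)⁻¹ * b) • ω0 = ω0 := by
      rw [mul_smul, h, ← mul_smul, inv_mul_cancel, one_smul]
    have h4 := h2s _ (mul_mem (inv_mem b'.2) b.2) h3
    apply Subtype.ext
    have := congrArg (fun x => (b' : G) * x) h4
    simpa using this
  have huniq1 : ∀ a a' : M1, (a : G) • ω0 = (a' : G) • ω0 → a = a' := by
    intro a a' h
    have h3 : ((a' : G)⁻¹ * a) • ω0 = ω0 := by
      rw [mul_smul, h, ← mul_smul, inv_mul_cancel, one_smul]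
    have h4 := h1s _ (mul_mem (inv_mem a'.2) a.2) h3
    apply Subtype.ext
    have := congrArg (fun x => (a' : G) * x) h4
    simpa using this
  have hex : ∀ a : M1, ∃ b : M2, (b : G) • ω0 = (a : G) • ω0 := fun a =>
    h2t.exists_smul_eq ω0 ((a : G) • ω0)
  choose f hf using hex
  have hfmul : ∀ a a' : M1, f (a * a') = f a' * f a := by
    intro a a'
    apply huniq
    rw [hf]
    calc ((a * a' : M1) : G) • ω0 = (a : G) • ((a' : G) • ω0) := by
          rw [Subgroup.coe_mul, mul_smul]
      _ = (a : G) • ((f a' : G) • ω0) := by rw [hf a']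
      _ = ((a : G) * (f a' : G)) • ω0 := by rw [mul_smul]
      _ = ((f a' : G) * (a : G)) • ω0 := by rw [hcomm a a.2 (f a') (f a').2]
      _ = (f a' : G) • ((a : G) • ω0) := by rw [mul_smul]
      _ = (f a' : G) • ((f a : G) • ω0) := by rw [hf a]
      _ = ((f a' * f a : M2) : G) • ω0 := by rw [Subgroup.coe_mul, mul_smul]
  let ψ : M1 →* M2 := MonoidHom.mk' (fun a => (f a)⁻¹) (fun a a' => by
    rw [hfmul, mul_inv_rev])
  refine ⟨MulEquiv.ofBijective ψ ⟨?_, ?_⟩⟩
  · intro a a' h
    have h' : (f a)⁻¹ = (f a')⁻¹ := h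
    have h'' : f a = f a' := inv_injective h'
    apply huniq1
    rw [← hf a, ← hf a', h'']
  · intro b
    obtain ⟨a, ha⟩ := h1t.exists_smul_eq ω0 (((b⁻¹ : M2) : G) • ω0)
    have ha' : (a : G) • ω0 = ((b⁻¹ : M2) : G) • ω0 := ha
    refine ⟨a, ?_⟩
    have : f a = b⁻¹ := huniq _ _ (by rw [hf, ha'])
    change (f a)⁻¹ = b
    rw [this, inv_inv]

end twoRegular


/-- The socle of a finite primitive permutation group. Let a finite group G act faithfully and primitively on a set Ω, and let N be the subgroup generated by the minimal normal subgroups of G. Then either N is an elementary abelian p-group for some prime p and acts regularly on Ω (transitively with trivial point stabilizers), or N is isomorphic to a direct product of m ≥ 1 copies of a non-abelian simple group. -/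
theorem result {G Ω : Type*} [Group G] [Finite G] [MulAction G Ω] [FaithfulSMul G Ω] [Finite Ω]
    (hprim : MulAction.IsPreprimitive G Ω) (N : Subgroup G)
    (hN : N = sSup {V : Subgroup G | V.Normal ∧ V ≠ ⊥ ∧ ∀ M : Subgroup G, M.Normal → M ≤ V → M = ⊥ ∨ M = V}) :
    (∃ p : ℕ, p.Prime ∧ IsMulCommutative N ∧ (∀ x : N, x ^ p = 1) ∧
      MulAction.IsPretransitive N Ω ∧ ∀ ω : Ω, MulAction.stabilizer N ω = ⊥) ∨
    (∃ (T : Type) (_ : Group T) (m : ℕ), 1 ≤ m ∧ IsSimpleGroup T ∧ ¬ IsMulCommutative T ∧ Nonempty (N ≃* (Fin m → T))) := by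
  classical
  set 𝓜 : Set (Subgroup G) := {V : Subgroup G | V.Normal ∧ V ≠ ⊥ ∧
    ∀ M : Subgroup G, M.Normal → M ≤ V → M = ⊥ ∨ M = V} with h𝓜
  by_cases hempty : 𝓜 = ∅
  · -- G is trivial
    left
    have hGtriv : ∀ g : G, g = 1 := by
      by_contra hcon
      push Not at hcon
      obtain ⟨g, hg⟩ := hcon
      have htop : (⊤ : Subgroup G) ≠ ⊥ := by
        intro h
        have : g ∈ (⊤ : Subgroup G) := Subgroup.mem_top g
        rw [h, Subgroup.mem_bot] at this
        exact hg this
      obtain ⟨V, -, hV⟩ := exists_minimal_le_of_wellFoundedLT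
        (fun V : Subgroup G => V.Normal ∧ V ≠ ⊥) ⊤ ⟨inferInstance, htop⟩
      have hVm : V ∈ 𝓜 := ⟨hV.1.1, hV.1.2, fun M hM hMV => by
        by_cases hb : M = ⊥
        · exact Or.inl hb
        · exact Or.inr (le_antisymm hMV (hV.2 ⟨hM, hb⟩ hMV))⟩
      rw [hempty] at hVm
      exact hVm
    refine ⟨2, Nat.prime_two, ⟨⟨fun a b => ?_⟩⟩, fun x => ?_, ⟨fun x y => ?_⟩, fun ω => ?_⟩
    · apply Subtype.ext
      rw [Subgroup.coe_mul, Subgroup.coe_mul, hGtriv a, hGtriv b]
    · apply Subtype.ext
      rw [Subgroup.coe_pow, hGtriv x]; simp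
    · obtain ⟨g, hg⟩ := hprim.toIsPretransitive.exists_smul_eq x y
      refine ⟨1, ?_⟩
      rw [one_smul, ← hg, hGtriv g, one_smul]
    · rw [eq_bot_iff]
      intro n _
      rw [Subgroup.mem_bot]
      exact Subtype.ext (hGtriv n)
  · obtain ⟨M1, hM1⟩ := Set.nonempty_iff_ne_empty.mpr hempty
    obtain ⟨hM1n, hM1ne, hM1min⟩ := hM1
    haveI := hM1n
    have hM1t := pretransitive_of_normal_ne_bot hprim M1 hM1ne
    set C := Subgroup.centralizer (M1 : Set G) with hC
    have hCsemi : ∀ c ∈ C, ∀ ω : Ω, c • ω = ω → c = 1 := fun c hc ω hω =>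
      eq_one_of_mem_centralizer_of_fixed M1 hM1t hc hω
    have hΩne : Nonempty Ω := by
      by_contra hcon
      rw [not_nonempty_iff] at hcon
      apply hM1ne
      rw [eq_bot_iff]
      intro m _
      rw [Subgroup.mem_bot]
      apply FaithfulSMul.eq_of_smul_eq_smul (α := Ω)
      intro ω
      exact hcon.elim ω
    obtain ⟨ω0⟩ := hΩne
    have hother : ∀ V ∈ 𝓜, V ≠ M1 → V ≤ C := by
      intro V hV hne
      obtain ⟨hVn, hVne, hVmin⟩ := hV
      haveI := hVn
      have hdisj : Disjoint V M1 := by
        rw [disjoint_iff]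
        rcases hVmin (V ⊓ M1) inferInstance inf_le_left with h | h
        · exact h
        · exfalso
          have hVM : V ≤ M1 := h.ge.trans inf_le_right
          rcases hM1min V hVn hVM with h' | h'
          · exact hVne h'
          · exact hne h'
      intro v hv
      rw [hC, Subgroup.mem_centralizer_iff]
      intro m hm
      exact (Subgroup.commute_of_normal_of_disjoint V M1 hVn hM1n hdisj v m hv hm).eq.symm
    by_cases hab : M1 ≤ C
    · -- abelian case
      left
      have hCM : C = M1 := le_antisymm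
        (le_of_semiregular_of_pretransitive M1 C hab hM1t ω0 (fun c hc h => hCsemi c hc ω0 h)) hab
      have huniq : 𝓜 = {M1} := by
        ext V
        constructor
        · intro hV
          by_contra hne
          have hne' : V ≠ M1 := hne
          have hVC := hother V hV hne'
          rw [hCM] at hVC
          rcases hM1min V hV.1 hVC with h | h
          · exact hV.2.1 h
          · exact hne' h
        · intro hV
          have : V = M1 := hV
          rw [this]
          exact ⟨hM1n, hM1ne, hM1min⟩
      have hNM : N = M1 := by rw [hN, huniq, sSup_singleton]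
      have hcommM1 : ∀ a ∈ M1, ∀ b ∈ M1, a * b = b * a := by
        intro a ha b hb
        have := hab hb
        rw [hC, Subgroup.mem_centralizer_iff] at this
        exact this a ha
      -- a prime p with x^p = 1 on M1
      have hcard1 : Nat.card M1 ≠ 1 := by
        intro h
        exact hM1ne ((Subgroup.card_eq_one).mp h)
      obtain ⟨p, hp, hpd⟩ := Nat.exists_prime_and_dvd hcard1
      haveI : Fact p.Prime := ⟨hp⟩
      obtain ⟨x, hx⟩ := exists_prime_orderOf_dvd_card' p hpd
      let Ωp : Subgroup G :=
        { carrier := {y | y ∈ M1 ∧ y ^ p = 1}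
          mul_mem' := fun {a b} ha hb => ⟨mul_mem ha.1 hb.1, by
            rw [(show Commute a b from hcommM1 a ha.1 b hb.1).mul_pow, ha.2, hb.2, one_mul]⟩
          one_mem' := ⟨one_mem _, one_pow _⟩
          inv_mem' := fun {a} ha => ⟨inv_mem ha.1, by rw [inv_pow, ha.2, inv_one]⟩ }
      have hΩpn : Ωp.Normal := by
        constructor
        intro y hy g
        exact ⟨hM1n.conj_mem y hy.1 g, by rw [conj_pow, hy.2]; simp⟩
      have hΩple : Ωp ≤ M1 := fun y hy => hy.1
      have hΩpne : Ωp ≠ ⊥ := by
        intro h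
        have hx1 : (x : G) ∈ Ωp := ⟨x.2, by
          have := pow_orderOf_eq_one x
          rw [hx] at this
          have h2 := congrArg Subtype.val this
          simpa using h2⟩
        rw [h, Subgroup.mem_bot] at hx1
        have : x = 1 := Subtype.ext hx1
        rw [this, orderOf_one] at hx
        exact hp.ne_one hx.symm
      have hΩpeq : Ωp = M1 := by
        rcases hM1min Ωp hΩpn hΩple with h | h
        · exact absurd h hΩpne
        · exact h
      have hexp : ∀ y ∈ M1, y ^ p = 1 := fun y hy => by
        have : y ∈ Ωp := by rw [hΩpeq]; exact hy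
        exact this.2
      subst hNM
      refine ⟨p, hp, ⟨⟨fun a b => ?_⟩⟩, fun y => ?_, hM1t, fun ω => ?_⟩
      · exact Subtype.ext (hcommM1 a a.2 b b.2)
      · apply Subtype.ext
        rw [Subgroup.coe_pow, hexp y y.2]; rfl
      · rw [eq_bot_iff]
        intro n hn
        rw [Subgroup.mem_bot]
        have hn' : (n : G) • ω = ω := hn
        exact Subtype.ext (hCsemi n (hab n.2) ω hn')
    · -- nonabelian case
      right
      obtain ⟨T, hTg, m, hTs, hm, ⟨e1⟩⟩ := minimal_normal_simple_pow M1 hM1ne hM1min
      have hTnc : ¬ IsMulCommutative T := by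
        intro hTc
        apply hab
        intro a ha
        rw [hC, Subgroup.mem_centralizer_iff]
        intro b hb
        have : (⟨b, hb⟩ : M1) * ⟨a, ha⟩ = ⟨a, ha⟩ * ⟨b, hb⟩ := by
          apply e1.injective
          rw [map_mul, map_mul]
          funext i
          exact hTc.is_comm.comm _ _
        exact congrArg Subtype.val this
      by_cases hex : ∃ V ∈ 𝓜, V ≠ M1
      · obtain ⟨M2, hM2, hne⟩ := hex
        obtain ⟨hM2n, hM2ne, hM2min⟩ := hM2
        haveI := hM2n
        have hM2t := pretransitive_of_normal_ne_bot hprim M2 hM2ne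
        have hM2C : M2 ≤ C := hother M2 ⟨hM2n, hM2ne, hM2min⟩ hne
        have hCM2 : C = M2 := le_antisymm
          (le_of_semiregular_of_pretransitive M2 C hM2C hM2t ω0 (fun c hc h => hCsemi c hc ω0 h))
          hM2C
        have h𝓜eq : 𝓜 = {M1, M2} := by
          ext V
          constructor
          · intro hV
            by_cases h1 : V = M1
            · left; exact h1
            · right
              have hVC := hother V hV h1
              rw [hCM2] at hVC
              rcases hM2min V hV.1 hVC with h | h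
              · exact absurd h hV.2.1
              · exact h
          · rintro (h | h)
            · rw [h]; exact ⟨hM1n, hM1ne, hM1min⟩
            · have : V = M2 := h
              rw [this]; exact ⟨hM2n, hM2ne, hM2min⟩
        have hNeq : N = M1 ⊔ M2 := by rw [hN, h𝓜eq, sSup_pair]
        have hcomm12 : ∀ a ∈ M1, ∀ b ∈ M2, a * b = b * a := by
          intro a ha b hb
          have hb' : b ∈ C := hM2C hb
          rw [hC, Subgroup.mem_centralizer_iff] at hb'
          exact hb' a ha
        have hM1cM2 : M1 ≤ Subgroup.centralizer (M2 : Set G) := by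
          intro a ha
          rw [Subgroup.mem_centralizer_iff]
          intro b hb
          exact (hcomm12 a ha b hb).symm
        have hM1semi : ∀ a ∈ M1, a • ω0 = ω0 → a = 1 := fun a ha h =>
          eq_one_of_mem_centralizer_of_fixed M2 hM2t (hM1cM2 ha) h
        have hM2semi : ∀ b ∈ M2, b • ω0 = ω0 → b = 1 := fun b hb h => hCsemi b (hM2C hb) ω0 h
        obtain ⟨e12⟩ := nonempty_mulEquiv_of_commuting_regular M1 M2 ω0 hcomm12 hM1t hM2t
          hM1semi hM2semi
        have hdisj : Disjoint M1 M2 := by
          rw [disjoint_iff]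
          rcases hM1min (M1 ⊓ M2) inferInstance inf_le_left with h | h
          · exact h
          · exfalso
            have h12 : M1 ≤ M2 := h.ge.trans inf_le_right
            rcases hM2min M1 hM1n h12 with h' | h'
            · exact hM1ne h'
            · exact hne h'.symm
        have hcomm : ∀ (j : M1) (x : M2), Commute (M1.subtype j) (M2.subtype x) :=
          fun j x => hcomm12 j j.2 x x.2
        obtain ⟨e3⟩ := prod_pow_equiv T m m
        have e : N ≃* (Fin (m + m) → T) :=
          (MulEquiv.subgroupCongr hNeq).trans ((prodEquivSup M1 M2 hcomm hdisj).symm.trans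
            ((MulEquiv.prodCongr e1 (e12.symm.trans e1)).trans e3))
        exact ⟨T, hTg, m + m, by omega, hTs, hTnc, ⟨e⟩⟩
      · push Not at hex
        have h𝓜eq : 𝓜 = {M1} := by
          ext V
          constructor
          · intro hV
            exact hex V hV
          · intro hV
            have : V = M1 := hV
            rw [this]
            exact ⟨hM1n, hM1ne, hM1min⟩
        have hNeq : N = M1 := by rw [hN, h𝓜eq, sSup_singleton]
        exact ⟨T, hTg, m, hm, hTs, hTnc, ⟨(MulEquiv.subgroupCongr hNeq).trans e1⟩⟩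

end Cfsg.Agent.S3680
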