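import Cfsg.Statements.S3681

set_option autoImplicit false
open Cfsg

namespace Cfsg.Agent.S3681

open MulAction Equiv
open scoped Pointwise

section
variable {Ω : Type*} [DecidableEq Ω]

/-- if the supports of `x` and `y` meet in exactly one point, their commutator is a 3-cycle -/
theorem commutator_eq_swap_mul_swap (x y : Perm Ω) (γ : Ω) (hx : x γ ≠ γ) (hy : y γ ≠ γ)
    (hxy : ∀ ω, x ω ≠ ω → y ω ≠ ω → ω = γ) :
    x * y * x⁻¹ * y⁻¹ = swap γ (y γ) * swap γ (x γ) := by
  have hxyne : x γ ≠ y γ := by
    intro h
    have h1 : x (x γ) ≠ x γ := fun h' => hx (x.injective h')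
    have h2 : y (x γ) ≠ x γ := by rw [h]; exact fun h' => hy (y.injective h')
    exact hx (hxy _ h1 h2)
  have hyγA : x (y γ) = y γ := by
    by_contra h
    have h2 : y (y γ) ≠ y γ := fun h' => hy (y.injective h')
    exact hy (hxy _ h h2)
  have hxγB : y (x γ) = x γ := by
    by_contra h
    have h1 : x (x γ) ≠ x γ := fun h' => hx (x.injective h')
    exact hx (hxy _ h1 h)
  ext ω
  simp only [Perm.coe_mul, Function.comp_apply]
  set u := y⁻¹ ω with hu
  have hyu : y u = ω := by rw [hu]; simp
  by_cases huγ : u = γ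
  · -- ω = y γ
    have hω : ω = y γ := by rw [← hyu, huγ]
    rw [huγ]
    set a' := x⁻¹ γ with ha'
    have hxa' : x a' = γ := by rw [ha']; simp
    have ha'γ : a' ≠ γ := by
      intro h
      rw [h] at hxa'
      exact hx hxa'
    have ha'A : x a' ≠ a' := by rw [hxa']; exact fun h => ha'γ h.symm
    have ha'B : y a' = a' := by
      by_contra h
      exact ha'γ (hxy _ ha'A h)
    rw [ha'B, hxa', hω]
    rw [swap_apply_of_ne_of_ne hy (Ne.symm hxyne), swap_apply_right]
  · by_cases huB : y u = u
    · -- ω ∉ supp y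
      have hωu : ω = u := by rw [← hyu, huB]
      rw [← hωu]
      set v := x⁻¹ ω with hv
      have hxv : x v = ω := by rw [hv]; simp
      by_cases hvγ : v = γ
      · have hω : ω = x γ := by rw [← hxv, hvγ]
        rw [hvγ, hyγA, hω, swap_apply_right, swap_apply_left]
      · have hvB : y v = v := by
          by_contra h
          have hvA : x v = v := by
            by_contra h'
            exact hvγ (hxy _ h' h)
          have : ω = v := by rw [← hxv, hvA]
          rw [← this] at h
          rw [hωu] at h
          exact h huB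
        rw [hvB, hxv]
        have h1 : ω ≠ γ := by
          intro h
          rw [hωu] at h
          exact huγ h
        have h2 : ω ≠ x γ := by
          intro h
          apply hvγ
          apply x.injective
          rw [hxv, h]
        have h3 : ω ≠ y γ := by
          intro h
          have : y ω ≠ ω := by rw [h]; exact fun h' => hy (y.injective h')
          rw [hωu] at this
          exact this huB
        rw [swap_apply_of_ne_of_ne h1 h2, swap_apply_of_ne_of_ne h1 h3]
    · -- u ∈ supp y, u ≠ γ, so u ∉ supp x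
      have huA : x u = u := by
        by_contra h
        exact huγ (hxy _ h huB)
      have hxiu : x⁻¹ u = u := by
        rw [Perm.inv_eq_iff_eq]; exact huA.symm
      rw [hxiu, hyu]
      have hωB : y ω ≠ ω := by
        rw [← hyu]
        exact fun h' => huB (y.injective h')
      by_cases hωA : x ω = ω
      · rw [hωA]
        have h1 : ω ≠ γ := fun h => hx (h ▸ hωA)
        have h2 : ω ≠ x γ := by
          intro h
          have : x (x γ) ≠ x γ := fun h' => hx (x.injective h')
          rw [← h] at this
          exact this hωA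
        have h3 : ω ≠ y γ := by
          intro h
          apply huγ
          apply y.injective
          rw [hyu, h]
        rw [swap_apply_of_ne_of_ne h1 h2, swap_apply_of_ne_of_ne h1 h3]
      · have hωγ : ω = γ := hxy _ hωA hωB
        rw [hωγ, swap_apply_left, swap_apply_of_ne_of_ne hx hxyne]

theorem isThreeCycle_commutator [Fintype Ω] (x y : Perm Ω) (γ : Ω) (hx : x γ ≠ γ) (hy : y γ ≠ γ)
    (hxy : ∀ ω, x ω ≠ ω → y ω ≠ ω → ω = γ) :
    (x * y * x⁻¹ * y⁻¹).IsThreeCycle := by
  have hxyne : x γ ≠ y γ := by
    intro h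
    have h1 : x (x γ) ≠ x γ := fun h' => hx (x.injective h')
    have h2 : y (x γ) ≠ x γ := by rw [h]; exact fun h' => hy (y.injective h')
    exact hx (hxy _ h1 h2)
  rw [commutator_eq_swap_mul_swap x y γ hx hy hxy]
  exact Equiv.Perm.isThreeCycle_swap_mul_swap_same (Ne.symm hy) (Ne.symm hx) (Ne.symm hxyne)

/-- a subgroup meeting `Sym(Δ)` trivially has order at most `n!/|Δ|!` -/
theorem card_mul_factorial_le [Fintype Ω] (K : Subgroup (Perm Ω)) (Δ : Finset Ω)
    (hΔ : ∀ σ ∈ K, (∀ ω ∉ Δ, σ ω = ω) → σ = 1) :
    Nat.card K * Nat.factorial Δ.card ≤ Nat.factorial (Fintype.card Ω) := by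
  classical
  let f : K × Perm {ω // ω ∈ Δ} → Perm Ω := fun p => Perm.ofSubtype p.2 * (p.1 : Perm Ω)
  have hf : Function.Injective f := by
    rintro ⟨g, s⟩ ⟨g', s'⟩ h
    have h1 : Perm.ofSubtype s * (g : Perm Ω) = Perm.ofSubtype s' * (g' : Perm Ω) := h
    have h2 : (g : Perm Ω) * (g' : Perm Ω)⁻¹ = (Perm.ofSubtype s)⁻¹ * Perm.ofSubtype s' := by
      rw [eq_inv_mul_iff_mul_eq, ← mul_assoc, h1]; group
    have h3 : (g : Perm Ω) * (g' : Perm Ω)⁻¹ = 1 := by
      apply hΔ _ (K.mul_mem g.2 (K.inv_mem g'.2))
      intro ω hω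
      rw [h2, ← map_inv, ← map_mul]
      exact Perm.ofSubtype_apply_of_not_mem _ hω
    have hg : g = g' := by
      apply Subtype.ext
      exact mul_inv_eq_one.mp h3
    rw [h3] at h2
    have hs : s = s' := by
      apply Perm.ofSubtype_injective
      exact inv_mul_eq_one.mp h2.symm
    rw [hg, hs]
  have := Nat.card_le_card_of_injective f hf
  rw [Nat.card_prod, Nat.card_eq_fintype_card (α := Perm {ω // ω ∈ Δ}),
    Nat.card_eq_fintype_card (α := Perm Ω), Fintype.card_perm, Fintype.card_perm,
    Fintype.card_coe] at this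
  exact this

end


/-- Bochert's bound for primitive groups. Let a finite group G act faithfully and primitively on a finite set Ω with n elements, and suppose the image of G in the symmetric group of Ω does not contain the alternating group of Ω. Then |G| · ⌊(n + 1)/2⌋! ≤ n!, that is, the index of G in the symmetric group is at least ⌊(n + 1)/2⌋!. -/
theorem result {G Ω : Type*} [Group G] [Finite G] [MulAction G Ω] [FaithfulSMul G Ω] [Fintype Ω] [DecidableEq Ω]
    (hprim : MulAction.IsPreprimitive G Ω) (hA : ¬ alternatingGroup Ω ≤ (MulAction.toPermHom G Ω).range) :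
    Nat.card G * Nat.factorial ((Fintype.card Ω + 1) / 2) ≤ Nat.factorial (Fintype.card Ω) := by
  classical
  set K : Subgroup (Equiv.Perm Ω) := (MulAction.toPermHom G Ω).range with hK
  have hcardK : Nat.card K = Nat.card G := by
    have : Function.Injective (MulAction.toPermHom G Ω) := MulAction.toPerm_injective
    exact (Nat.card_congr (MonoidHom.ofInjective this).toEquiv).symm
  -- K is primitive
  have hKprim : IsPreprimitive K Ω := by
    let φ : G → K := (MulAction.toPermHom G Ω).rangeRestrict
    let f : Ω →ₑ[φ] Ω := { toFun := id, map_smul' := fun g ω => rfl }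
    exact IsPreprimitive.of_surjective (f := f) Function.surjective_id
  -- the property
  let Pr : Finset Ω → Prop := fun Δ => ∀ σ ∈ K, (∀ ω ∉ Δ, σ ω = ω) → σ = 1
  have hPr0 : Pr ∅ := by
    intro σ _ h
    ext ω
    exact h ω (Finset.notMem_empty ω)
  obtain ⟨S, hS, hSmax⟩ : ∃ S : Finset Ω, Pr S ∧ ∀ Δ : Finset Ω, Pr Δ → S ⊆ Δ → Δ = S := by
    have hfin : {Δ : Finset Ω | Pr Δ}.Finite := Set.toFinite _
    obtain ⟨S, hS⟩ := hfin.exists_maximal ⟨∅, hPr0⟩
    exact ⟨S, hS.1, fun Δ hΔ hle => le_antisymm (hS.2 hΔ hle) hle⟩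
  have hPrΓ : Pr Sᶜ := by
    intro y hyK hysupp
    by_contra hy1
    obtain ⟨γ, hγ⟩ : ∃ γ, y γ ≠ γ := by
      by_contra h
      push Not at h
      exact hy1 (Equiv.ext h)
    have hγS : γ ∉ S := by
      intro h
      apply hγ
      apply hysupp
      simpa using h
    have hnot : ¬ Pr (insert γ S) := by
      intro h
      have := hSmax _ h (Finset.subset_insert γ S)
      exact hγS (this ▸ Finset.mem_insert_self γ S)
    simp only [Pr] at hnot
    push Not at hnot
    obtain ⟨x, hxK, hxsupp, hx1⟩ := hnot
    have hxγ : x γ ≠ γ := by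
      intro h
      apply hx1
      apply hS x hxK
      intro ω hω
      by_cases hωγ : ω = γ
      · rw [hωγ]; exact h
      · apply hxsupp
        simp [hωγ, hω]
    have hxy : ∀ ω, x ω ≠ ω → y ω ≠ ω → ω = γ := by
      intro ω hxω hyω
      by_contra hne
      have h1 : ω ∈ insert γ S := by
        by_contra h
        exact hxω (hxsupp ω h)
      have h2 : ω ∈ S := by
        rcases Finset.mem_insert.mp h1 with h | h
        · exact absurd h hne
        · exact h
      apply hyω
      apply hysupp
      simpa using h2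
    have h3 := isThreeCycle_commutator x y γ hxγ hγ hxy
    have hmem : x * y * x⁻¹ * y⁻¹ ∈ K :=
      K.mul_mem (K.mul_mem (K.mul_mem hxK hyK) (K.inv_mem hxK)) (K.inv_mem hyK)
    exact hA (Equiv.Perm.alternatingGroup_le_of_isPreprimitive_of_isThreeCycle_mem hKprim h3 hmem)
  have b1 := card_mul_factorial_le K S hS
  have b2 := card_mul_factorial_le K Sᶜ hPrΓ
  rw [hcardK] at b1 b2
  have hsum : S.card + Sᶜ.card = Fintype.card Ω := Finset.card_add_card_compl S
  rcases le_total S.card Sᶜ.card with h | h
  · have : (Fintype.card Ω + 1) / 2 ≤ Sᶜ.card := by omega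
    exact le_trans (Nat.mul_le_mul_left _ (Nat.factorial_le this)) b2
  · have : (Fintype.card Ω + 1) / 2 ≤ S.card := by omega
    exact le_trans (Nat.mul_le_mul_left _ (Nat.factorial_le this)) b1

end Cfsg.Agent.S3681
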