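import Cfsg.Statements.S3683

set_option autoImplicit false
open Cfsg

namespace Cfsg.Agent.S3683

/-- Let a finite group G act faithfully and primitively on a set Ω, and suppose the stabilizer of a point a fixes a second point b ≠ a (a suborbit of length 1 other than {a}). Then the stabilizer of a is trivial and G is cyclic of prime order. -/
theorem result {G Ω : Type*} [Group G] [Finite G] [MulAction G Ω] [FaithfulSMul G Ω] [Finite Ω]
    (hprim : MulAction.IsPreprimitive G Ω) (a b : Ω) (hab : a ≠ b) (hfix : ∀ g : G, g • a = a → g • b = b) :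
    MulAction.stabilizer G a = ⊥ ∧ IsCyclic G ∧ (Nat.card G).Prime := by
  haveI : Nontrivial Ω := ⟨⟨a, b, hab⟩⟩
  haveI := hprim
  have hmax : IsCoatom (MulAction.stabilizer G a) :=
    MulAction.IsPreprimitive.isCoatom_stabilizer_of_isPreprimitive G a
  set S := MulAction.stabilizer G a with hS
  have hSb : S ≤ MulAction.stabilizer G b := fun g hg => hfix g hg
  have hbtop : MulAction.stabilizer G b ≠ ⊤ := by
    intro h
    obtain ⟨g, hg⟩ := MulAction.exists_smul_eq G b a
    have : g ∈ MulAction.stabilizer G b := by rw [h]; trivial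
    rw [MulAction.mem_stabilizer_iff] at this
    exact hab (hg.symm.trans this)
  have hSeq : MulAction.stabilizer G b = S := by
    rcases hmax.le_iff.mp hSb with h | h
    · exact absurd h hbtop
    · exact h
  obtain ⟨g, hg⟩ := MulAction.exists_smul_eq G a b
  have hconj : S.map (MulAut.conj g).toMonoidHom = S := by
    rw [hS, ← MulAction.stabilizer_smul_eq_stabilizer_map_conj, hg, hSeq]
  have hgS : g ∉ S := by
    intro h
    rw [hS, MulAction.mem_stabilizer_iff] at h
    exact hab (h.symm.trans hg)
  have hgN : g ∈ Subgroup.normalizer (S : Set G) :=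
    Subgroup.mem_normalizer_iff_map_conj_eq.mpr hconj
  have hNtop : Subgroup.normalizer (S : Set G) = ⊤ := by
    rcases hmax.le_iff.mp (Subgroup.le_normalizer (H := S)) with h | h
    · exact h
    · exact absurd (h ▸ hgN) hgS
  have hSn : S.Normal := Subgroup.normalizer_eq_top_iff.mp hNtop
  have hSbot : S = ⊥ := by
    rw [Subgroup.eq_bot_iff_forall]
    intro s hs
    apply FaithfulSMul.eq_of_smul_eq_smul (α := Ω)
    intro x
    rw [one_smul]
    obtain ⟨k, hk⟩ := MulAction.exists_smul_eq G a x
    have h1 : k⁻¹ * s * k⁻¹⁻¹ ∈ S := hSn.conj_mem s hs k⁻¹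
    rw [hS, MulAction.mem_stabilizer_iff, inv_inv, mul_smul, mul_smul, hk] at h1
    have := congrArg (fun z => k • z) h1
    simp only [smul_inv_smul] at this
    rw [hk] at this
    exact this
  refine ⟨hSbot, ?_⟩
  rw [hSbot] at hmax
  have hsub : ∀ H : Subgroup G, H = ⊥ ∨ H = ⊤ := by
    intro H
    rcases hmax.le_iff.mp (bot_le : (⊥ : Subgroup G) ≤ H) with h | h
    · exact Or.inr h
    · exact Or.inl h
  have hGnt : Nontrivial G := by
    by_contra hnt
    rw [not_nontrivial_iff_subsingleton] at hnt
    exact hmax.1 (Subsingleton.elim _ _)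
  obtain ⟨x, hx⟩ := exists_ne (1 : G)
  have hxtop : Subgroup.zpowers x = ⊤ := by
    rcases hsub (Subgroup.zpowers x) with h | h
    · exact absurd (Subgroup.zpowers_eq_bot.mp h) hx
    · exact h
  have hcyc : IsCyclic G := isCyclic_iff_exists_zpowers_eq_top.mpr ⟨x, hxtop⟩
  refine ⟨hcyc, ?_⟩
  have hcard : Nat.card G = orderOf x := by
    rw [← Nat.card_zpowers, hxtop, Subgroup.card_top]
  rw [hcard]
  have hn1 : orderOf x ≠ 1 := by
    intro h; exact hx (orderOf_eq_one_iff.mp h)
  obtain ⟨q, hq, hqn⟩ := Nat.exists_prime_and_dvd hn1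
  have hxq : x ^ q = 1 := by
    rcases hsub (Subgroup.zpowers (x ^ q)) with h | h
    · exact Subgroup.zpowers_eq_bot.mp h
    · exfalso
      have h1 : Nat.card (Subgroup.zpowers (x ^ q)) = orderOf x := by
        rw [h, Subgroup.card_top, hcard]
      rw [Nat.card_zpowers, orderOf_pow, Nat.gcd_eq_right hqn] at h1
      have hpos : 0 < orderOf x := orderOf_pos x
      have : orderOf x / q < orderOf x := Nat.div_lt_self hpos hq.one_lt
      omega
  have : orderOf x ∣ q := orderOf_dvd_of_pow_eq_one hxq
  rcases (Nat.dvd_prime hq).mp this with h | h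
  · exact absurd h hn1
  · rw [h]; exact hq

end Cfsg.Agent.S3683
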