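import Cfsg.Statements.S3684
import Cfsg.Agent.Lib.Helper24.TwoInvol

set_option autoImplicit false
open Cfsg

namespace Cfsg.Agent.S3684

section aux
variable {G Ω : Type*} [Group G] [MulAction G Ω]

/-- a normal subgroup contained in a point stabilizer of a transitive faithful action is trivial -/
theorem normal_le_stabilizer_eq_bot [FaithfulSMul G Ω] [MulAction.IsPretransitive G Ω] (a : Ω)
    (K : Subgroup G) [hK : K.Normal] (hle : K ≤ MulAction.stabilizer G a) : K = ⊥ := by
  rw [Subgroup.eq_bot_iff_forall]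
  intro s hs
  apply FaithfulSMul.eq_of_smul_eq_smul (α := Ω)
  intro x
  rw [one_smul]
  obtain ⟨k, hk⟩ := MulAction.exists_smul_eq G a x
  have h1 : k⁻¹ * s * k⁻¹⁻¹ ∈ MulAction.stabilizer G a := hle (hK.conj_mem s hs k⁻¹)
  rw [MulAction.mem_stabilizer_iff, inv_inv, mul_smul, mul_smul, hk] at h1
  have := congrArg (fun z => k • z) h1
  simp only [smul_inv_smul] at this
  rw [hk] at this
  exact this

theorem inv_conj_second {t s : G} (ht : t * t = 1) (hs : s * s = 1) :
    s * (t * s) * s⁻¹ = (t * s)⁻¹ := by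
  have hs' : s⁻¹ = s := inv_eq_of_mul_eq_one_left hs
  have ht' : t⁻¹ = t := inv_eq_of_mul_eq_one_left ht
  rw [mul_inv_rev, hs', ht', mul_assoc, mul_assoc, hs, mul_one]

theorem conj_inv_of_conj {y r : G} (hy : y * r * y⁻¹ = r⁻¹) : y⁻¹ * r * y⁻¹⁻¹ = r⁻¹ := by
  have h1 : r = y⁻¹ * r⁻¹ * y := by rw [← hy]; group
  rw [inv_inv]
  symm
  calc r⁻¹ = (y⁻¹ * r⁻¹ * y)⁻¹ := by rw [← h1]
    _ = y⁻¹ * r * y := by group

end aux


/-- Let a finite group G act faithfully and primitively on a set Ω, and suppose the stabilizer of a point a has an orbit of length 2. Then the stabilizer of a has order 2 and G is isomorphic to the dihedral group of order 2p for some prime p. -/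
theorem result {G Ω : Type*} [Group G] [Finite G] [MulAction G Ω] [FaithfulSMul G Ω] [Finite Ω]
    (hprim : MulAction.IsPreprimitive G Ω) (a b : Ω) (h2 : Nat.card (MulAction.orbit (MulAction.stabilizer G a) b) = 2) :
    Nat.card (MulAction.stabilizer G a) = 2 ∧ ∃ p : ℕ, p.Prime ∧ Nonempty (G ≃* DihedralGroup p) := by
  classical
  haveI := hprim
  have htr : MulAction.IsPretransitive G Ω := hprim.toIsPretransitive
  set H := MulAction.stabilizer G a with hH
  set Hb := MulAction.stabilizer G b with hHb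
  -- a ≠ b
  have hab : a ≠ b := by
    intro h
    have : MulAction.orbit H b = {b} := by
      ext x
      constructor
      · rintro ⟨h', rfl⟩
        have : (h' : G) • b = b := by rw [← h]; exact h'.2
        exact this
      · rintro rfl; exact MulAction.mem_orbit_self _
    rw [this] at h2
    simp at h2
  haveI : Nontrivial Ω := ⟨⟨a, b, hab⟩⟩
  have hmax : IsCoatom H := MulAction.IsPreprimitive.isCoatom_stabilizer_of_isPreprimitive G a
  -- index of the two point stabilizer in H
  have hstab : MulAction.stabilizer H b = Hb.subgroupOf H := by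
    ext h
    rw [MulAction.mem_stabilizer_iff, Subgroup.mem_subgroupOf, hHb, MulAction.mem_stabilizer_iff]
    rfl
  have hidx : Hb.relIndex H = 2 := by
    have h1 := MulAction.index_stabilizer H b
    rw [hstab] at h1
    change (Hb.subgroupOf H).index = 2
    rw [h1, ← Nat.card_coe_set_eq]
    exact h2
  -- conjugate stabilizers have the same order
  obtain ⟨g, hg⟩ := MulAction.exists_smul_eq G a b
  have hconj : Hb = H.map (MulAut.conj g).toMonoidHom := by
    rw [hHb, ← hg, MulAction.stabilizer_smul_eq_stabilizer_map_conj]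
  have hcardeq : Nat.card Hb = Nat.card H := by
    rw [hconj]
    exact (Nat.card_congr (H.equivMapOfInjective (MulAut.conj g).toMonoidHom
      (MulAut.conj g).injective).toEquiv).symm
  have hrel : ∀ A B : Subgroup G, A.relIndex B * Nat.card ↥(A ⊓ B) = Nat.card B := by
    intro A B
    rw [← Subgroup.inf_relIndex_right]
    have := Subgroup.card_mul_index ((A ⊓ B).subgroupOf B)
    rw [Nat.card_congr (Subgroup.subgroupOfEquivOfLe (inf_le_right : A ⊓ B ≤ B)).toEquiv] at this
    rw [mul_comm]; exact this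
  have hidx' : H.relIndex Hb = 2 := by
    have e1 := hrel Hb H
    have e2 := hrel H Hb
    rw [hidx] at e1
    rw [inf_comm, hcardeq, ← e1] at e2
    exact Nat.eq_of_mul_eq_mul_right Nat.card_pos e2
  -- K = H ⊓ Hb is normal in G
  have hn1 : (Hb.subgroupOf H).Normal := Subgroup.normal_of_index_eq_two hidx
  have hn2 : (H.subgroupOf Hb).Normal := Subgroup.normal_of_index_eq_two hidx'
  rw [Subgroup.normal_subgroupOf_iff_le_normalizer_inf] at hn1 hn2
  rw [inf_comm] at hn1
  have hHbH : ¬ Hb ≤ H := by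
    intro hle
    have : Hb = H := Subgroup.eq_of_le_of_card_ge hle hcardeq.ge
    rw [this, Subgroup.relIndex_self] at hidx
    omega
  have hsup : H ⊔ Hb = ⊤ := by
    rcases hmax.le_iff.mp (le_sup_left : H ≤ H ⊔ Hb) with h | h
    · exact h
    · exact absurd (le_sup_right.trans h.le) hHbH
  have hKn : (H ⊓ Hb).Normal := by
    rw [← Subgroup.normalizer_eq_top_iff, eq_top_iff, ← hsup]
    exact sup_le hn1 hn2
  have hKbot : H ⊓ Hb = ⊥ := normal_le_stabilizer_eq_bot a (H ⊓ Hb) inf_le_left
  have hcardH : Nat.card H = 2 := by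
    have := hrel Hb H
    rw [hidx, inf_comm, hKbot, Subgroup.card_bot] at this
    omega
  refine ⟨hcardH, ?_⟩
  -- an involution generating H
  haveI : Fact (Nat.Prime 2) := ⟨Nat.prime_two⟩
  obtain ⟨t0, ht0⟩ := exists_prime_orderOf_dvd_card' (G := H) 2 (by rw [hcardH])
  set t : G := (t0 : G) with ht
  have hto : orderOf t = 2 := by rw [ht, Subgroup.orderOf_coe]; exact ht0
  have hHt : H = Subgroup.zpowers t := by
    symm
    apply Subgroup.eq_of_le_of_card_ge
    · rw [Subgroup.zpowers_le]; exact t0.2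
    · rw [Nat.card_zpowers, hto, hcardH]
  -- H is not normal
  have hHnn : ¬ H.Normal := by
    intro hn
    have := normal_le_stabilizer_eq_bot a H le_rfl
    rw [this, Subgroup.card_bot] at hcardH
    omega
  obtain ⟨x, hx⟩ : ∃ x : G, x * t * x⁻¹ ∉ H := by
    by_contra hcon
    push Not at hcon
    apply hHnn
    constructor
    intro n hn y
    rw [hHt, Subgroup.mem_zpowers_iff] at hn
    obtain ⟨k, rfl⟩ := hn
    have : y * t ^ k * y⁻¹ = (y * t * y⁻¹) ^ k := by
      rw [conj_zpow]
    rw [this]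
    exact H.zpow_mem (hcon y) k
  set s := x * t * x⁻¹ with hs
  have hso : orderOf s = 2 := by
    have : s = (MulAut.conj x).toMonoidHom t := by simp [hs]
    rw [this, orderOf_injective _ (MulAut.conj x).injective, hto]
  have hclos : Subgroup.closure ({t, s} : Set G) = ⊤ := by
    have hle : H ≤ Subgroup.closure ({t, s} : Set G) := by
      rw [hHt, Subgroup.zpowers_le]
      exact Subgroup.subset_closure (by simp)
    rcases hmax.le_iff.mp hle with h | h
    · exact h
    · exfalso
      apply hx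
      rw [← h]
      exact Subgroup.subset_closure (by simp)
  set m := orderOf (t * s) with hm
  have e : G ≃* DihedralGroup m :=
    (Subgroup.topEquiv.symm.trans (MulEquiv.subgroupCongr hclos.symm)).trans
      (Cfsg.Agent.Lib.Helper24.tiEquiv hto hso)
  have hcardG : Nat.card G = 2 * m := by
    rw [Nat.card_congr e.toEquiv, DihedralGroup.nat_card]
  refine ⟨m, ?_, ⟨e⟩⟩
  -- m is prime
  have ht2 : t * t = 1 := Cfsg.Agent.Lib.Helper24.ti_sq_of_order hto
  have hs2 : s * s = 1 := Cfsg.Agent.Lib.Helper24.ti_sq_of_order hso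
  have hm1 : m ≠ 1 := by
    intro h1
    rw [hm, orderOf_eq_one_iff] at h1
    apply hx
    have : s = t := by
      have h3 : s = t⁻¹ := eq_inv_of_mul_eq_one_right h1
      rw [h3, Cfsg.Agent.Lib.Helper24.ti_inv_of_sq ht2]
    rw [this, hHt]
    exact Subgroup.mem_zpowers t
  have hm0 : 0 < m := orderOf_pos _
  rw [Nat.prime_def]
  refine ⟨by omega, ?_⟩
  intro k hk
  by_contra hcon
  rw [not_or] at hcon
  obtain ⟨hk1, hkm⟩ := hcon
  have hk0 : k ≠ 0 := by
    rintro rfl
    rw [zero_dvd_iff] at hk; omega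
  -- the normal subgroup generated by (t s)^k
  set R := Subgroup.zpowers ((t * s) ^ k) with hR
  have hRcard : Nat.card R = m / k := by
    rw [hR, Nat.card_zpowers, orderOf_pow_of_dvd hk0 hk]
  have hinv_t : t * (t * s) * t⁻¹ = (t * s)⁻¹ := Cfsg.Agent.Lib.Helper24.ti_conj_one ht2 hs2
  have hinv_s : s * (t * s) * s⁻¹ = (t * s)⁻¹ := inv_conj_second ht2 hs2
  have hnorm : ∀ y : G, y * (t * s) * y⁻¹ = (t * s)⁻¹ → y ∈ Subgroup.normalizer (R : Set G) := by
    intro y hy
    have hconjpow : ∀ z ∈ R, y * z * y⁻¹ ∈ R := by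
      intro z hz
      rw [hR, Subgroup.mem_zpowers_iff] at hz
      obtain ⟨j, rfl⟩ := hz
      have : y * ((t * s) ^ k) ^ j * y⁻¹ = (((t * s) ^ k) ^ j)⁻¹ := by
        rw [← zpow_natCast, ← zpow_mul, ← conj_zpow, hy, inv_zpow]
      rw [this]
      exact R.inv_mem (Subgroup.zpow_mem_zpowers _ j)
    have hy' : y⁻¹ * (t * s) * y⁻¹⁻¹ = (t * s)⁻¹ := conj_inv_of_conj hy
    have hconjpow' : ∀ z ∈ R, y⁻¹ * z * y⁻¹⁻¹ ∈ R := by
      intro z hz
      rw [hR, Subgroup.mem_zpowers_iff] at hz
      obtain ⟨j, rfl⟩ := hz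
      have : y⁻¹ * ((t * s) ^ k) ^ j * y⁻¹⁻¹ = (((t * s) ^ k) ^ j)⁻¹ := by
        rw [← zpow_natCast, ← zpow_mul, ← conj_zpow, hy', inv_zpow]
      rw [this]
      exact R.inv_mem (Subgroup.zpow_mem_zpowers _ j)
    rw [Subgroup.mem_normalizer_iff]
    intro z
    constructor
    · exact hconjpow z
    · intro hz
      have := hconjpow' _ hz
      simpa [mul_assoc] using this
  have hRn : R.Normal := by
    rw [← Subgroup.normalizer_eq_top_iff, eq_top_iff, ← hclos, Subgroup.closure_le]
    intro y hy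
    rcases hy with rfl | rfl
    · exact hnorm _ hinv_t
    · exact hnorm _ hinv_s
  have hRbot : R ≠ ⊥ := by
    intro h
    rw [h, Subgroup.card_bot] at hRcard
    have : m / k = 1 := hRcard.symm
    have hkm' : k * (m / k) = m := Nat.mul_div_cancel' hk
    rw [this, mul_one] at hkm'
    exact hkm hkm'
  -- R is transitive
  have hRtr : MulAction.IsPretransitive R Ω := by
    apply MulAction.IsQuasiPreprimitive.isPretransitive_of_normal (G := G)
    intro hfix
    apply hRbot
    apply normal_le_stabilizer_eq_bot a R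
    intro z hz
    have : a ∈ MulAction.fixedPoints R Ω := by rw [hfix]; trivial
    exact this ⟨z, hz⟩
  -- |Ω| = m divides |R| = m / k
  have hΩ : Nat.card Ω = m := by
    have h1 := MulAction.index_stabilizer G a
    rw [MulAction.orbit_eq_univ, Set.ncard_univ] at h1
    have h3 := Subgroup.card_mul_index H
    rw [hcardH, hcardG, h1] at h3
    omega
  have hdvd : Nat.card Ω ∣ Nat.card R := by
    have h1 := MulAction.index_stabilizer R a
    rw [MulAction.orbit_eq_univ, Set.ncard_univ] at h1
    rw [← h1]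
    exact Subgroup.index_dvd_card _
  rw [hΩ, hRcard] at hdvd
  have hpos : 0 < m / k := Nat.div_pos (Nat.le_of_dvd hm0 hk) (Nat.pos_of_ne_zero hk0)
  have hle := Nat.le_of_dvd hpos hdvd
  have hkm' : k * (m / k) = m := Nat.mul_div_cancel' hk
  have hk2 : 2 ≤ k := by omega
  nlinarith

end Cfsg.Agent.S3684
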