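import Cfsg.Statements.S3696

set_option autoImplicit false
open Cfsg

namespace Cfsg.Agent.S3696

open MulAction



theorem pow_split (p : ℕ) (hp : 2 ≤ p) (a : ℕ) : ∀ t, 1 ≤ t → t ≤ a →
    (t - 1) * p + p ^ (a - t + 1) ≤ p ^ a := by
  intro t ht
  induction t, ht using Nat.le_induction with
  | base =>
    intro h
    have : a - 1 + 1 = a := by omega
    simp [this]
  | succ t ht ih =>
    intro h
    have ih' := ih (by omega)
    have e1 : a - (t + 1) + 1 = a - t := by omega
    have e2 : a - t + 1 = (a - t) + 1 := rfl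
    rw [e1]
    rw [pow_succ] at ih'
    have hy : 2 ≤ p ^ (a - t) := by
      calc 2 ≤ p := hp
        _ = p ^ 1 := (pow_one p).symm
        _ ≤ p ^ (a - t) := Nat.pow_le_pow_right (by omega) (by omega)
    have hxy : p + p ^ (a - t) ≤ p ^ (a - t) * p := by nlinarith
    have e3 : t + 1 - 1 = (t - 1) + 1 := by omega
    rw [e3, add_mul, one_mul]
    omega

theorem amgm_list (l : List ℕ) : l.prod * l.length ^ l.length ≤ l.sum ^ l.length := by
  rcases Nat.eq_zero_or_pos l.length with h0 | hpos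
  · have : l = [] := List.length_eq_zero_iff.1 h0
    subst this; simp
  set k := l.length with hk
  have hkR : (0 : ℝ) < k := by exact_mod_cast hpos
  let z : Fin k → ℝ := fun i => (l.get i : ℝ)
  have hsum : (l.sum : ℝ) = ∑ i, z i := by
    have : l.sum = ∑ i : Fin k, l.get i := by
      rw [← List.sum_ofFn, List.ofFn_get]
    rw [this]; push_cast; rfl
  have hprod : (l.prod : ℝ) = ∏ i, z i := by
    have : l.prod = ∏ i : Fin k, l.get i := by
      rw [← List.prod_ofFn, List.ofFn_get]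
    rw [this]; push_cast; rfl
  have hz : ∀ i ∈ (Finset.univ : Finset (Fin k)), 0 ≤ z i := fun i _ => Nat.cast_nonneg _
  have h := Real.geom_mean_le_arith_mean_weighted Finset.univ (fun _ => (1 / k : ℝ)) z
    (fun _ _ => by positivity) (by simp [hkR.ne']) hz
  rw [Real.finsetProd_rpow _ _ hz, ← Finset.mul_sum] at h
  have hP : 0 ≤ ∏ i, z i := Finset.prod_nonneg hz
  have h2 : (∏ i, z i) ≤ ((1 / k : ℝ) * ∑ i, z i) ^ k := by
    have := pow_le_pow_left₀ (Real.rpow_nonneg hP _) h k
    rw [← Real.rpow_natCast, ← Real.rpow_mul hP, one_div, inv_mul_cancel₀ hkR.ne', Real.rpow_one] at this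
    rw [one_div]; exact this
  have h3 : (l.prod : ℝ) * (k : ℝ) ^ k ≤ (l.sum : ℝ) ^ k := by
    rw [hsum, hprod]
    rw [mul_pow, one_div, inv_pow] at h2
    have hkk : (0 : ℝ) < (k : ℝ) ^ k := by positivity
    calc (∏ i, z i) * (k : ℝ) ^ k ≤ (((k : ℝ) ^ k)⁻¹ * (∑ i, z i) ^ k) * (k : ℝ) ^ k :=
          mul_le_mul_of_nonneg_right h2 hkk.le
      _ = (∑ i, z i) ^ k := by field_simp
  exact_mod_cast h3

theorem amgm (X : Multiset ℕ) : X.prod * (Multiset.card X) ^ (Multiset.card X) ≤
    X.sum ^ (Multiset.card X) := by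
  induction X using Quotient.inductionOn with
  | h l => simpa using amgm_list l




variable {Ω : Type*} [Fintype Ω] [DecidableEq Ω]

/-- elements of order dividing `p` in a commutative subgroup -/
def Vp (p : ℕ) (B : Subgroup (Equiv.Perm Ω)) (hc : ∀ x ∈ B, ∀ y ∈ B, x * y = y * x) :
    Subgroup (Equiv.Perm Ω) where
  carrier := {x | x ∈ B ∧ x ^ p = 1}
  one_mem' := ⟨B.one_mem, one_pow _⟩
  mul_mem' := by
    rintro x y ⟨hx, hx1⟩ ⟨hy, hy1⟩
    refine ⟨B.mul_mem hx hy, ?_⟩
    rw [(show Commute x y from hc x hx y hy).mul_pow, hx1, hy1, one_mul]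
  inv_mem' := by
    rintro x ⟨hx, hx1⟩
    exact ⟨B.inv_mem hx, by rw [inv_pow, hx1, inv_one]⟩

omit [Fintype Ω] [DecidableEq Ω] in
theorem mem_Vp {p : ℕ} {B : Subgroup (Equiv.Perm Ω)} {hc : ∀ x ∈ B, ∀ y ∈ B, x * y = y * x}
    {x : Equiv.Perm Ω} : x ∈ Vp p B hc ↔ x ∈ B ∧ x ^ p = 1 := Iff.rfl

omit [Fintype Ω] [DecidableEq Ω] in
theorem Vp_le {p : ℕ} {B : Subgroup (Equiv.Perm Ω)} {hc : ∀ x ∈ B, ∀ y ∈ B, x * y = y * x} :
    Vp p B hc ≤ B := fun _ hx => hx.1

theorem eq_bot_of_Vp_eq_bot {p : ℕ} [Fact p.Prime] {B : Subgroup (Equiv.Perm Ω)}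
    {hc : ∀ x ∈ B, ∀ y ∈ B, x * y = y * x} (hB : IsPGroup p B) (h : Vp p B hc = ⊥) : B = ⊥ := by
  rw [Subgroup.eq_bot_iff_forall]
  intro b hb
  by_contra hne
  obtain ⟨j, hj⟩ := hB ⟨b, hb⟩
  have hbj : b ^ p ^ j = 1 := by
    have := congrArg Subtype.val hj
    simpa using this
  -- minimal j
  have hex : ∃ j, b ^ p ^ j = 1 := ⟨j, hbj⟩
  classical
  set m := Nat.find hex with hm
  have hm1 : b ^ p ^ m = 1 := Nat.find_spec hex
  have hm0 : m ≠ 0 := by
    intro h0
    rw [h0, pow_zero, pow_one] at hm1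
    exact hne hm1
  obtain ⟨m', hm'⟩ := Nat.exists_eq_succ_of_ne_zero hm0
  have hc' : b ^ p ^ m' ∈ Vp p B hc := by
    refine ⟨B.pow_mem hb _, ?_⟩
    rw [← pow_mul, ← pow_succ]
    have : m' + 1 = m := by omega
    rw [this]; exact hm1
  rw [h, Subgroup.mem_bot] at hc'
  have := Nat.find_min hex (show m' < m by omega)
  exact this hc'

theorem key (p : ℕ) [hp : Fact p.Prime] : ∀ (r : ℕ) (B : Subgroup (Equiv.Perm Ω))
    (hc : ∀ x ∈ B, ∀ y ∈ B, x * y = y * x) (_ : IsPGroup p B) (U : Finset Ω)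
    (_ : ∀ b ∈ B, ∀ u ∈ U, b u ∈ U) (_ : ∀ b ∈ B, (∀ u ∈ U, b u = u) → b = 1)
    (_ : Nat.card (Vp p B hc) = p ^ r),
    ∃ X : Multiset ℕ, Multiset.card X = r ∧ Nat.card B ≤ X.prod ∧ X.sum ≤ U.card := by
  classical
  intro r
  induction r using Nat.strong_induction_on with
  | _ r ih =>
  intro B hc hB U hinv hfaith hr
  have hp2 : 2 ≤ p := hp.out.two_le
  by_cases hbot : Vp p B hc = ⊥
  · have hB0 : B = ⊥ := eq_bot_of_Vp_eq_bot hB hbot
    have hr0 : r = 0 := by
      rw [hbot, Subgroup.card_bot] at hr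
      by_contra h0
      have : 2 ≤ p ^ r := by
        calc 2 ≤ p := hp2
          _ = p ^ 1 := (pow_one p).symm
          _ ≤ p ^ r := Nat.pow_le_pow_right (by omega) (by omega)
      omega
    refine ⟨0, by simp [hr0], ?_, by simp⟩
    rw [hB0, Subgroup.card_bot]; simp
  · obtain ⟨⟨v, hv⟩, hv1⟩ := (Subgroup.ne_bot_iff_exists_ne_one).1 hbot
    have hv1' : v ≠ 1 := fun h => hv1 (Subtype.ext h)
    have hvB : v ∈ B := hv.1
    have hvp : v ^ p = 1 := hv.2
    obtain ⟨u, huU, hvu⟩ : ∃ u ∈ U, v u ≠ u := by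
      by_contra hcon
      push Not at hcon
      exact hv1' (hfaith v hvB hcon)
    set S : Subgroup (Equiv.Perm Ω) := stabilizer (Equiv.Perm Ω) u with hS
    have hSmem : ∀ x : Equiv.Perm Ω, x ∈ S ↔ x u = u := fun x => by
      rw [hS, mem_stabilizer_iff]; rfl
    set B' : Subgroup (Equiv.Perm Ω) := B ⊓ S with hB'def
    have hc' : ∀ x ∈ B', ∀ y ∈ B', x * y = y * x := fun x hx y hy => hc x hx.1 y hy.1
    have hB' : IsPGroup p B' := hB.to_le inf_le_left
    -- orbit
    have horb : ∀ x : Ω, x ∈ orbit ↥B u ↔ ∃ b ∈ B, b u = x := by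
      intro x
      constructor
      · rintro ⟨⟨b, hb⟩, rfl⟩
        exact ⟨b, hb, rfl⟩
      · rintro ⟨b, hb, rfl⟩
        exact ⟨⟨b, hb⟩, rfl⟩
    have hstab : stabilizer ↥B u = S.subgroupOf B := by
      ext ⟨b, hb⟩
      rw [mem_stabilizer_iff, Subgroup.mem_subgroupOf, hSmem]
      rfl
    have hidx : S.relIndex B = (orbit ↥B u).ncard := by
      rw [Subgroup.relIndex, ← hstab, index_stabilizer]
    -- cardinalities
    have hcardB : Nat.card B' * S.relIndex B = Nat.card B := by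
      have := Subgroup.relIndex_mul_relIndex ⊥ B' B bot_le inf_le_left
      rwa [Subgroup.relIndex_bot_left, Subgroup.relIndex_bot_left, hB'def,
        Subgroup.inf_relIndex_left] at this
    have hVeq : Vp p B' hc' = Vp p B hc ⊓ S := by
      ext x
      simp only [mem_Vp, Subgroup.mem_inf, hB'def]
      tauto
    have hcardV : Nat.card (Vp p B' hc') * S.relIndex (Vp p B hc) = Nat.card (Vp p B hc) := by
      have := Subgroup.relIndex_mul_relIndex ⊥ (Vp p B hc ⊓ S) (Vp p B hc) bot_le inf_le_left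
      rwa [Subgroup.relIndex_bot_left, Subgroup.relIndex_bot_left,
        Subgroup.inf_relIndex_left, ← hVeq] at this
    have hqle : S.relIndex (Vp p B hc) ≤ S.relIndex B :=
      Subgroup.relIndex_le_of_le_right Vp_le (by
        intro h0
        rw [h0, mul_zero] at hcardB
        exact (Nat.card_pos (α := B)).ne' hcardB.symm)
    have hq1 : S.relIndex (Vp p B hc) ≠ 1 := by
      rw [Ne, Subgroup.relIndex_eq_one]
      intro hle
      exact hvu ((hSmem v).1 (hle hv))
    obtain ⟨r', hr'⟩ := (hB'.to_le (Vp_le (hc := hc'))).exists_card_eq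
    obtain ⟨a, ha⟩ : ∃ a, S.relIndex B = p ^ a := by
      have hdvd : S.relIndex B ∣ Nat.card B := Subgroup.relIndex_dvd_card _ _
      obtain ⟨n, hn⟩ := hB.exists_card_eq
      rw [hn] at hdvd
      obtain ⟨a, _, ha⟩ := (Nat.dvd_prime_pow hp.out).1 hdvd
      exact ⟨a, ha⟩
    rw [hr', hr] at hcardV
    have hr'le : r' ≤ r := by
      have : p ^ r' ∣ p ^ r := Dvd.intro _ hcardV
      exact (Nat.pow_dvd_pow_iff_le_right hp2).1 this
    have hq : S.relIndex (Vp p B hc) = p ^ (r - r') := by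
      have h1 : p ^ r = p ^ r' * p ^ (r - r') := by
        rw [← pow_add]; congr 1; omega
      rw [h1] at hcardV
      exact Nat.eq_of_mul_eq_mul_left (pow_pos hp.out.pos _) hcardV
    have ht1 : 1 ≤ r - r' := by
      by_contra hcon
      have : r - r' = 0 := by omega
      rw [this, pow_zero] at hq
      exact hq1 hq
    have hta : r - r' ≤ a := by
      rw [hq, ha] at hqle
      exact (Nat.pow_le_pow_iff_right hp2).1 hqle
    -- the sets
    set O : Finset Ω := U.filter (fun x => x ∈ orbit ↥B u) with hO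
    set U' : Finset Ω := U.filter (fun x => x ∉ orbit ↥B u) with hU'
    have hOcard : O.card = p ^ a := by
      rw [← ha, hidx, ← Set.ncard_coe_finset]
      congr 1
      ext x
      simp only [hO, Finset.coe_filter, Set.mem_ofPred_eq, and_iff_right_iff_imp]
      intro hx
      obtain ⟨b, hb, rfl⟩ := (horb x).1 hx
      exact hinv b hb u huU
    have hUcard : O.card + U'.card = U.card := by
      rw [hO, hU']
      exact Finset.card_filter_add_card_filter_not _
    have hinv' : ∀ b ∈ B', ∀ x ∈ U', b x ∈ U' := by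
      intro b hb x hx
      rw [hU', Finset.mem_filter] at hx ⊢
      refine ⟨hinv b hb.1 x hx.1, fun hbx => hx.2 ?_⟩
      obtain ⟨c, hc1, hc2⟩ := (horb _).1 hbx
      refine (horb x).2 ⟨b⁻¹ * c, B.mul_mem (B.inv_mem hb.1) hc1, ?_⟩
      rw [Equiv.Perm.mul_apply, hc2]; simp
    have hfaith' : ∀ b ∈ B', (∀ x ∈ U', b x = x) → b = 1 := by
      intro b hb hfix
      apply hfaith b hb.1
      intro x hx
      by_cases hxo : x ∈ orbit ↥B u
      · obtain ⟨c, hc1, rfl⟩ := (horb x).1 hxo
        have hbu : b u = u := (hSmem b).1 hb.2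
        have hcomm := hc b hb.1 c hc1
        calc b (c u) = (b * c) u := rfl
          _ = (c * b) u := by rw [hcomm]
          _ = c (b u) := rfl
          _ = c u := by rw [hbu]
      · exact hfix x (by rw [hU', Finset.mem_filter]; exact ⟨hx, hxo⟩)
    have hrlt : r' < r := by omega
    obtain ⟨X', hX'card, hX'prod, hX'sum⟩ := ih r' hrlt B' hc' hB' U' hinv' hfaith' hr'
    refine ⟨X' + Multiset.replicate (r - r' - 1) p + {p ^ (a - (r - r') + 1)}, ?_, ?_, ?_⟩
    · simp only [Multiset.card_add, Multiset.card_replicate, Multiset.card_singleton, hX'card]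
      omega
    · rw [Multiset.prod_add, Multiset.prod_add, Multiset.prod_replicate, Multiset.prod_singleton,
        mul_assoc, ← pow_add]
      have : r - r' - 1 + (a - (r - r') + 1) = a := by omega
      rw [this, ← hcardB, ha]
      exact Nat.mul_le_mul_right _ hX'prod
    · rw [Multiset.sum_add, Multiset.sum_add, Multiset.sum_replicate, Multiset.sum_singleton,
        smul_eq_mul]
      have := pow_split p hp2 a (r - r') ht1 hta
      omega


/-- Let p be a prime, Ω a finite set with n ≥ p elements, and A an abelian p-subgroup of the symmetric group on Ω whose elements of order dividing p number p^k (so k is the rank of A). Then |A| · k^k ≤ n^k, that is, |A| ≤ (n/k)^k. -/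
theorem result {Ω : Type*} [Fintype Ω] [DecidableEq Ω]
    (p : ℕ) (hp : p.Prime) (hn : p ≤ Fintype.card Ω) (A : Subgroup (Equiv.Perm Ω)) (hA : IsPGroup p A) (hab : IsMulCommutative A)
    (k : ℕ) (hk : Nat.card {x : A // x ^ p = 1} = p ^ k) :
    Nat.card A * k ^ k ≤ Fintype.card Ω ^ k := by
  classical
  haveI : Fact p.Prime := ⟨hp⟩
  have hc : ∀ x ∈ A, ∀ y ∈ A, x * y = y * x := by
    intro x hx y hy
    have := hab.is_comm.comm ⟨x, hx⟩ ⟨y, hy⟩
    exact congrArg Subtype.val this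
  have hV : Nat.card (Vp p A hc) = p ^ k := by
    rw [← hk]
    refine Nat.card_congr ?_
    exact
      { toFun := fun x => ⟨⟨x.1, x.2.1⟩, Subtype.ext x.2.2⟩
        invFun := fun x => ⟨x.1.1, x.1.2, congrArg Subtype.val x.2⟩
        left_inv := fun x => rfl
        right_inv := fun x => rfl }
  obtain ⟨X, hXc, hXp, hXs⟩ := key p k A hc hA Finset.univ (fun _ _ _ _ => Finset.mem_univ _)
    (fun b _ hb => Equiv.ext (fun x => hb x (Finset.mem_univ _))) hV
  have h1 := amgm X
  rw [hXc] at h1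
  rw [Finset.card_univ] at hXs
  calc Nat.card A * k ^ k ≤ X.prod * k ^ k := Nat.mul_le_mul_right _ hXp
    _ ≤ X.sum ^ k := h1
    _ ≤ Fintype.card Ω ^ k := Nat.pow_le_pow_left hXs k

end Cfsg.Agent.S3696
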