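import Cfsg.Statements.S3703
import Cfsg.Agent.Lib.Helper18.MazurovB
import Cfsg.Agent.Lib.Helper22.FrobKernel
import Cfsg.Agent.Lib.Helper19.Frobenius

set_option autoImplicit false
open Cfsg

namespace Cfsg.Agent.S3703

open scoped Pointwise

theorem result {G : Type*} [Group G] [Finite G] (N : Subgroup G) [N.Normal]
    (Fb Hb : Subgroup (G ⧸ N)) [Fb.Normal] (hHb : Cfsg.IsFrobeniusComplement Hb) (hker : Cfsg.frobeniusKernel Hb = (Fb : Set (G ⧸ N)))
    (hcyc : IsCyclic Hb) (hcop : (Nat.card Fb).Coprime (Nat.card N))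
    (hnot : ¬ Fb ≤ (Subgroup.centralizer (N : Set G)).map (QuotientGroup.mk' N)) :
    ∃ p : ℕ, p.Prime ∧ p ∣ Nat.card N ∧ ∃ g : G, orderOf g = p * Nat.card Hb := by
  classical
  obtain ⟨Fs, hFs⟩ : ∃ Fs : Subgroup G, Fs = Fb.comap (QuotientGroup.mk' N) := ⟨_, rfl⟩
  haveI : Fs.Normal := by rw [hFs]; infer_instance
  have hmemFs : ∀ x : G, x ∈ Fs ↔ (x : G ⧸ N) ∈ Fb := by intro x; rw [hFs]; rfl
  have hNF : N ≤ Fs := by
    intro x hx
    rw [hmemFs, (QuotientGroup.eq_one_iff x).mpr hx]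
    exact Fb.one_mem
  have hcompl := Cfsg.Agent.Lib.Helper22.FrobKernel.isComplement' Fb Hb hHb hker
  have hdisj : ∀ y : G ⧸ N, y ∈ Fb → y ∈ Hb → y = 1 := by
    intro y h1 h2
    have := hcompl.disjoint
    rw [Subgroup.disjoint_def] at this
    exact this h1 h2
  obtain ⟨⟨hb, hbH⟩, hgen⟩ := hcyc.exists_generator
  have hordb : orderOf hb = Nat.card Hb := by
    have h1 := orderOf_eq_card_of_forall_mem_zpowers hgen
    rw [← h1]
    exact (Subgroup.orderOf_mk hb hbH).symm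
  obtain ⟨h, rfl⟩ := QuotientGroup.mk_surjective hb
  have hm : 2 ≤ Nat.card Hb := by
    have h0 : 0 < Nat.card Hb := Nat.card_pos
    have h1 : Nat.card Hb ≠ 1 := by
      intro h1
      exact hHb.1 (Subgroup.card_eq_one.mp h1)
    omega
  have hord : ∀ j : ℕ, h ^ j ∈ Fs ↔ Nat.card Hb ∣ j := by
    intro j
    rw [hmemFs, QuotientGroup.mk_pow]
    constructor
    · intro hj
      have h1 : (h : G ⧸ N) ^ j = 1 := hdisj _ hj (Hb.pow_mem hbH j)
      rw [← hordb]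
      exact orderOf_dvd_of_pow_eq_one h1
    · intro hj
      rw [← hordb] at hj
      rw [orderOf_dvd_iff_pow_eq_one.mp hj]
      exact Fb.one_mem
  have hpow : ∀ x : G, x ∉ Fs → x ^ Nat.card Hb ∈ N := by
    intro x hx
    rw [hmemFs] at hx
    have hx' : (x : G ⧸ N) ∉ Cfsg.frobeniusKernel Hb := by rw [hker]; exact hx
    have h1 : ¬ ((x : G ⧸ N) = 1 ∨ ∀ g, (x : G ⧸ N) ∉ MulAut.conj g • Hb) := hx'
    push Not at h1
    obtain ⟨_, g, hg⟩ := h1
    rw [Cfsg.Agent.Lib.Helper19.mem_conj_smul_iff'] at hg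
    have h2 : (g⁻¹ * (x : G ⧸ N) * g) ^ Nat.card Hb = 1 := by
      have h3 := pow_card_eq_one' (G := Hb) (x := ⟨_, hg⟩)
      have h4 := congrArg Subtype.val h3
      rw [Subgroup.coe_pow] at h4
      exact h4
    have h5 : (g⁻¹ * (x : G ⧸ N) * g) ^ Nat.card Hb = g⁻¹ * (x : G ⧸ N) ^ Nat.card Hb * g := by
      have := conj_pow (a := g⁻¹) (b := (x : G ⧸ N)) (i := Nat.card Hb)
      simpa using this
    rw [← QuotientGroup.eq_one_iff, QuotientGroup.mk_pow]
    rw [h5] at h2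
    calc (x : G ⧸ N) ^ Nat.card Hb = g * (g⁻¹ * (x : G ⧸ N) ^ Nat.card Hb * g) * g⁻¹ := by group
      _ = 1 := by rw [h2]; group
  have hfpf : ∀ x : G, x ∉ Fs → ∀ u ∈ Fs, u * x * u⁻¹ * x⁻¹ ∈ N → u ∈ N := by
    intro x hx u hu hcomm
    by_contra huN
    rw [hmemFs] at hx hu
    have hu1 : (u : G ⧸ N) ≠ 1 := fun h => huN ((QuotientGroup.eq_one_iff u).mp h)
    have hc : (x : G ⧸ N) * (u : G ⧸ N) = (u : G ⧸ N) * (x : G ⧸ N) := by
      have h1 := (QuotientGroup.eq_one_iff _).mpr hcomm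
      obtain ⟨ub, hub⟩ : ∃ ub : G ⧸ N, ub = (u : G ⧸ N) := ⟨_, rfl⟩
      obtain ⟨xb, hxb⟩ : ∃ xb : G ⧸ N, xb = (x : G ⧸ N) := ⟨_, rfl⟩
      have e : ((u * x * u⁻¹ * x⁻¹ : G) : G ⧸ N) = ub * xb * ub⁻¹ * xb⁻¹ := by
        rw [hub, hxb]; rfl
      rw [e] at h1
      rw [← hub, ← hxb]
      calc xb * ub = (ub * xb * ub⁻¹ * xb⁻¹)⁻¹ * (ub * xb) := by group
        _ = ub * xb := by rw [h1, inv_one, one_mul]
    exact hx (Cfsg.Agent.Lib.Helper22.FrobKernel.centralizer_le Fb Hb hHb hker hu hu1 hc)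
  have hcop' : (N.relIndex Fs).Coprime (Nat.card N) := by
    have hcard : Nat.card Fs = Nat.card N * Nat.card Fb := by
      have h1 := QuotientGroup.card_preimage_mk N (Fb : Set (G ⧸ N))
      rw [hFs]
      exact h1
    have h1 := Cfsg.Agent.Lib.Helper22.card_mul_relIndex_of_le hNF
    have h2 : N.relIndex Fs = Nat.card Fb := by
      have hN0 : 0 < Nat.card N := Nat.card_pos
      rw [hcard] at h1
      exact Nat.eq_of_mul_eq_mul_left hN0 h1
    rw [h2]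
    exact hcop
  have hnot' : ¬ Fs ≤ N ⊔ Subgroup.centralizer (N : Set G) := by
    intro hle
    apply hnot
    intro y hy
    obtain ⟨x, rfl⟩ := QuotientGroup.mk_surjective y
    have hx : x ∈ Fs := (hmemFs x).mpr hy
    have h1 : (QuotientGroup.mk' N) x ∈ (N ⊔ Subgroup.centralizer (N : Set G)).map (QuotientGroup.mk' N) :=
      Subgroup.mem_map_of_mem _ (hle hx)
    rw [Subgroup.map_sup, QuotientGroup.map_mk'_self, bot_sup_eq] at h1
    exact h1
  exact Cfsg.Agent.Lib.Helper18.MazurovB.core N Fs hNF (Nat.card Hb) hm h hord hpow hfpf hcop' hnot'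

end Cfsg.Agent.S3703
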