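import Cfsg.Statements.S3704
import Cfsg.Agent.Lib.Helper20.PermChar

set_option autoImplicit false
open Cfsg

namespace Cfsg.Agent.S3704

open Cfsg.Agent.Lib.Helper20 MulAction in
theorem key {G Ω : Type*} [Group G] [Finite G] [MulAction G Ω] [Finite Ω]
    [IsMultiplyPretransitive G Ω 2] (H : Subgroup G) (hidx : H.index = Nat.card Ω)
    (ω₁ ω₂ : Ω) (hω : ω₂ ∉ orbit H ω₁) (g : G) :
    Nat.card (fixedBy Ω g) = Nat.card (fixedBy (G ⧸ H) g) := by
  classical
  have : Fintype Ω := Fintype.ofFinite Ω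
  have : Fintype G := Fintype.ofFinite G
  have : Fintype (G ⧸ H) := Fintype.ofFinite _
  have htr : IsPretransitive G Ω := isPretransitive_of_is_two_pretransitive
  have h2t : ∀ {a b c d : Ω}, a ≠ b → c ≠ d → ∃ g : G, g • a = c ∧ g • b = d :=
    fun hab hcd => (is_two_pretransitive_iff (G := G) (α := Ω)).mp inferInstance hab hcd
  have hne : ω₁ ≠ ω₂ := by
    rintro rfl
    exact hω (mem_orbit_self _)
  set Δ : Set Ω := orbit H ω₁ with hΔ
  -- H-invariance of Δ
  have hΔinv : ∀ (h : G), h ∈ H → ∀ ω : Ω, h • ω ∈ Δ ↔ ω ∈ Δ := by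
    intro h hh ω
    have e : h • ω = (⟨h, hh⟩ : H) • ω := rfl
    rw [e, hΔ, ← orbit_eq_iff, orbit_smul, orbit_eq_iff]
  let rel : Ω → G ⧸ H → Prop := fun ω y => (y.out)⁻¹ • ω ∈ Δ
  have hrel : ∀ (ω : Ω) (a : G), rel ω (QuotientGroup.mk a) ↔ a⁻¹ • ω ∈ Δ := by
    intro ω a
    obtain ⟨h, hh⟩ := QuotientGroup.mk_out_eq_mul H a
    change ((QuotientGroup.mk a : G ⧸ H).out)⁻¹ • ω ∈ Δ ↔ _
    rw [hh, mul_inv_rev, mul_smul]
    exact hΔinv _ (H.inv_mem h.2) _
  let A : Matrix Ω (G ⧸ H) ℚ := fun ω y => if rel ω y then 1 else 0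
  have hA : ∀ (g : G) (a : Ω) (y : G ⧸ H), A (g • a) (g • y) = A a y := by
    intro g a y
    obtain ⟨b, rfl⟩ := QuotientGroup.mk_surjective y
    have e : g • (QuotientGroup.mk b : G ⧸ H) = QuotientGroup.mk (g * b) := rfl
    change (if rel (g • a) (g • (QuotientGroup.mk b : G ⧸ H)) then (1 : ℚ) else 0) =
      if rel a (QuotientGroup.mk b) then 1 else 0
    rw [e]
    have : rel (g • a) (QuotientGroup.mk (g * b)) ↔ rel a (QuotientGroup.mk b) := by
      rw [hrel, hrel, mul_inv_rev, mul_smul, inv_smul_smul]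
    simp only [this]
  have hA01 : ∀ ω y, A ω y = 0 ∨ A ω y = 1 := by
    intro ω y
    change (if rel ω y then (1 : ℚ) else 0) = 0 ∨ (if rel ω y then (1 : ℚ) else 0) = 1
    split_ifs <;> simp
  let N : Ω → Ω → ℚ := fun i j => ∑ y, A i y * A j y
  have hN : ∀ (g : G) (i j : Ω), N (g • i) (g • j) = N i j := by
    intro g i j
    change ∑ y, A (g • i) y * A (g • j) y = ∑ y, A i y * A j y
    rw [← Equiv.sum_comp (MulAction.toPerm g : Equiv.Perm (G ⧸ H))]
    apply Finset.sum_congr rfl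
    intro y _
    change A (g • i) (g • y) * A (g • j) (g • y) = _
    rw [hA, hA]
  have hAA : ∀ i j, (A * A.transpose) i j = if i = j then (N ω₁ ω₁ - N ω₁ ω₂) + N ω₁ ω₂
      else N ω₁ ω₂ := by
    intro i j
    have e : (A * A.transpose) i j = N i j := by
      simp only [Matrix.mul_apply, Matrix.transpose_apply]
      rfl
    rw [e]
    split_ifs with hij
    · subst hij
      obtain ⟨g, rfl⟩ := htr.exists_smul_eq ω₁ i
      rw [hN]; ring
    · obtain ⟨g, rfl, rfl⟩ := h2t hne hij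
      rw [hN]
  have hy₁ : A ω₁ (QuotientGroup.mk 1) = 1 := by
    change (if rel ω₁ (QuotientGroup.mk 1) then (1 : ℚ) else 0) = 1
    rw [if_pos]
    rw [hrel, inv_one, one_smul]
    exact mem_orbit_self _
  have hy₂ : A ω₂ (QuotientGroup.mk 1) = 0 := by
    change (if rel ω₂ (QuotientGroup.mk 1) then (1 : ℚ) else 0) = 0
    rw [if_neg]
    rw [hrel, inv_one, one_smul]
    exact hω
  have hpos : 0 < N ω₁ ω₁ - N ω₁ ω₂ := by
    have e : N ω₁ ω₁ - N ω₁ ω₂ = ∑ y, A ω₁ y * (A ω₁ y - A ω₂ y) := by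
      change ∑ y, A ω₁ y * A ω₁ y - ∑ y, A ω₁ y * A ω₂ y = _
      rw [← Finset.sum_sub_distrib]
      apply Finset.sum_congr rfl
      intro y _
      ring
    rw [e]
    apply Finset.sum_pos'
    · intro y _
      rcases hA01 ω₁ y with h | h <;> rcases hA01 ω₂ y with h' | h' <;> rw [h, h'] <;> norm_num
    · exact ⟨QuotientGroup.mk 1, Finset.mem_univ _, by rw [hy₁, hy₂]; norm_num⟩
  have hc : 0 ≤ N ω₁ ω₂ := by
    apply Finset.sum_nonneg
    intro y _
    rcases hA01 ω₁ y with h | h <;> rcases hA01 ω₂ y with h' | h' <;> rw [h, h'] <;> norm_num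
  have hcard : Fintype.card Ω = Fintype.card (G ⧸ H) := by
    rw [← Nat.card_eq_fintype_card, ← Nat.card_eq_fintype_card, ← hidx]
    rfl
  exact card_fixedBy_eq_of_incidence hcard A hA _ _ hpos hc hAA g


/-- Let G be a finite group acting faithfully and 2-transitively on a finite set Ω of size n, and let H be a subgroup of index n in G which is not transitive on Ω and fixes no point of Ω. Then H has exactly two orbits on Ω. -/
theorem result {G Ω : Type*} [Group G] [Finite G] [MulAction G Ω] [FaithfulSMul G Ω] [Finite Ω] (h2 : MulAction.IsMultiplyPretransitive G Ω 2) (H : Subgroup G) (hidx : H.index = Nat.card Ω) (hnt : ¬ MulAction.IsPretransitive H Ω) (hfix : ∀ a : Ω, ∃ h : H, h • a ≠ a) : Nat.card (MulAction.orbitRel.Quotient H Ω) = 2 := by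
  classical
  have : Fintype G := Fintype.ofFinite G
  -- two points in different H-orbits
  have hex : ∃ ω₁ ω₂ : Ω, ω₂ ∉ MulAction.orbit H ω₁ := by
    by_contra hcon
    push Not at hcon
    apply hnt
    constructor
    intro x y
    exact hcon x y
  obtain ⟨ω₁, ω₂, hω⟩ := hex
  have hne : ω₁ ≠ ω₂ := by
    rintro rfl
    exact hω (MulAction.mem_orbit_self _)
  have hkey := fun g => key H hidx ω₁ ω₂ hω g
  have h1 := Cfsg.Agent.Lib.Helper20.sum_fixedBy_mul_quotient (X := Ω) H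
  have h3 : ∑ g : G, Nat.card (MulAction.fixedBy Ω g) * Nat.card (MulAction.fixedBy (G ⧸ H) g) =
      2 * Nat.card G := by
    rw [← Cfsg.Agent.Lib.Helper20.card_orbits_prod_eq_two (G := G) (X := Ω) ⟨ω₁, ω₂, hne⟩,
      ← Cfsg.Agent.Lib.Helper20.burnside_top]
    apply Finset.sum_congr rfl
    intro g _
    rw [Cfsg.Agent.Lib.Helper20.card_fixedBy_prod, ← hkey g]
  rw [h1] at h3
  exact Nat.eq_of_mul_eq_mul_right Nat.card_pos h3

end Cfsg.Agent.S3704
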