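import Cfsg.Statements.S3733

set_option autoImplicit false
open Cfsg

namespace Cfsg.Agent.S3733

open scoped IsMulCommutative

noncomputable def conjHom {G : Type*} [Group G] (V : Subgroup G) (a : G) : V →* V := by
  classical
  exact if ha : a ∈ Subgroup.normalizer (V : Set G) then
    { toFun := fun v => ⟨a * v * a⁻¹, (Subgroup.mem_normalizer_iff.mp ha v).mp v.2⟩
      map_one' := by ext; simp
      map_mul' := fun x y => by ext; simp }
  else 1

lemma conjHom_coe {G : Type*} [Group G] (V : Subgroup G) (a : G)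
    (ha : a ∈ Subgroup.normalizer (V : Set G)) (v : V) :
    ((conjHom V a v : V) : G) = a * v * a⁻¹ := by
  unfold conjHom
  simp [ha]

lemma conjHom_mul {G : Type*} [Group G] (V : Subgroup G) (a b : G)
    (ha : a ∈ Subgroup.normalizer (V : Set G)) (hb : b ∈ Subgroup.normalizer (V : Set G)) (v : V) :
    conjHom V a (conjHom V b v) = conjHom V (a * b) v := by
  apply Subtype.ext
  rw [conjHom_coe V a ha, conjHom_coe V b hb, conjHom_coe V (a * b) (Subgroup.mul_mem _ ha hb)]
  group

lemma conjHom_one {G : Type*} [Group G] (V : Subgroup G) (v : V) : conjHom V 1 v = v := by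
  apply Subtype.ext
  rw [conjHom_coe V 1 (Subgroup.one_mem _)]
  simp

lemma trace_mem_centralizer {G : Type*} [Group G] [Fintype G] [DecidableEq G] (V : Subgroup G)
    [IsMulCommutative V] (B : Subgroup G) [DecidablePred (· ∈ B)]
    (hB : B ≤ Subgroup.normalizer (V : Set G)) (v : V) :
    ((∏ b ∈ Finset.univ.filter (· ∈ B), conjHom V b v : V) : G) ∈
      V ⊓ Subgroup.centralizer (B : Set G) := by
  refine ⟨Subtype.property _, ?_⟩
  change _ ∈ Subgroup.centralizer (B : Set G)
  rw [Subgroup.mem_centralizer_iff]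
  intro b0 hb0
  have hb0N := hB hb0
  have key : conjHom V b0 (∏ b ∈ Finset.univ.filter (· ∈ B), conjHom V b v) =
      ∏ b ∈ Finset.univ.filter (· ∈ B), conjHom V b v := by
    rw [map_prod]
    symm
    apply Finset.prod_equiv (Equiv.mulLeft b0⁻¹)
    · intro b
      simp only [Finset.mem_filter, Finset.mem_univ, true_and, Equiv.coe_mulLeft]
      constructor
      · intro hb; exact B.mul_mem (B.inv_mem hb0) hb
      · intro hb
        have := B.mul_mem hb0 hb
        simpa using this
    · intro b hb
      rw [Finset.mem_filter] at hb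
      have hbN := hB hb.2
      have hb' : b0⁻¹ * b ∈ Subgroup.normalizer (V : Set G) :=
        Subgroup.mul_mem _ (Subgroup.inv_mem _ hb0N) hbN
      simp only [Equiv.coe_mulLeft]
      rw [conjHom_mul V b0 (b0⁻¹ * b) hb0N hb']
      congr 1
      group
  have key' := congrArg (Subtype.val) key
  rw [conjHom_coe V b0 hb0N] at key'
  have : b0 * (↑(∏ b ∈ Finset.univ.filter (· ∈ B), conjHom V b v) : G) =
      (↑(∏ b ∈ Finset.univ.filter (· ∈ B), conjHom V b v) : G) * b0 := by
    have := congrArg (fun z => z * b0) key'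
    simpa using this
  exact this


/-- Let A and V be subgroups of a finite group with V abelian and nontrivial and A normalizing V. Suppose a nonempty finite family of proper subgroups of A partitions A: every non-identity element of A lies in exactly one member. If the number of members minus one is coprime to the order of V, then some member B of the family has a non-identity fixed point on V, that is V ∩ C(B) ≠ 1. -/
theorem result {G : Type*} [Group G] [Finite G] (A V : Subgroup G) (hVab : IsMulCommutative V) (hV : V ≠ ⊥) (hAV : A ≤ Subgroup.normalizer (V : Set G)) (𝒜 : Finset (Subgroup G)) (hne : 𝒜.Nonempty) (hprop : ∀ B ∈ 𝒜, B < A) (hpart : ∀ a ∈ A, a ≠ 1 → ∃! B, B ∈ 𝒜 ∧ a ∈ B) (hk : (𝒜.card - 1).Coprime (Nat.card V)) : ∃ B ∈ 𝒜, V ⊓ Subgroup.centralizer (B : Set G) ≠ ⊥ := by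
  classical
  haveI := hVab
  by_contra hcon
  have hcon' : ∀ B ∈ 𝒜, V ⊓ Subgroup.centralizer (B : Set G) = ⊥ := by
    intro B hB
    by_contra h
    exact hcon ⟨B, hB, h⟩
  haveI : Fintype G := Fintype.ofFinite G
  have hTB : ∀ B ∈ 𝒜, ∀ v : V, (∏ b ∈ Finset.univ.filter (· ∈ B), conjHom V b v : V) = 1 := by
    intro B hB v
    have h1 := trace_mem_centralizer V B ((hprop B hB).le.trans hAV) v
    rw [hcon' B hB, Subgroup.mem_bot] at h1
    exact Subtype.ext h1
  obtain ⟨B0, hB0⟩ := hne
  have hTA : ∀ v : V, (∏ b ∈ Finset.univ.filter (· ∈ A), conjHom V b v : V) = 1 := by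
    intro v
    have h1 := trace_mem_centralizer V A hAV v
    have h2 : V ⊓ Subgroup.centralizer (A : Set G) ≤ V ⊓ Subgroup.centralizer (B0 : Set G) :=
      inf_le_inf_left _ (Subgroup.centralizer_le (hprop B0 hB0).le)
    have h3 := h2 h1
    rw [hcon' B0 hB0, Subgroup.mem_bot] at h3
    exact Subtype.ext h3
  have hpow : ∀ v : V, v ^ (𝒜.card - 1) = 1 := by
    intro v
    set f : G → V := fun a => conjHom V a v with hf
    have hprod : ∏ B ∈ 𝒜, ∏ b ∈ Finset.univ.filter (· ∈ B), f b = 1 := by
      apply Finset.prod_eq_one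
      intro B hB
      exact hTB B hB v
    have hsub : ∀ B ∈ 𝒜, Finset.univ.filter (· ∈ B) =
        (Finset.univ.filter (· ∈ A)).filter (· ∈ B) := by
      intro B hB
      ext x
      simp only [Finset.mem_filter, Finset.mem_univ, true_and]
      constructor
      · intro hx; exact ⟨(hprop B hB).le hx, hx⟩
      · intro hx; exact hx.2
    have h1 : ∏ B ∈ 𝒜, ∏ b ∈ Finset.univ.filter (· ∈ B), f b =
        ∏ a ∈ Finset.univ.filter (· ∈ A), (f a) ^ (𝒜.filter (fun B => a ∈ B)).card := by
      rw [Finset.prod_congr rfl (fun B hB => by rw [hsub B hB, Finset.prod_filter])]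
      rw [Finset.prod_comm]
      apply Finset.prod_congr rfl
      intro a _
      rw [← Finset.prod_filter, Finset.prod_const]
    have hA1 : (1 : G) ∈ Finset.univ.filter (· ∈ A) := by
      simp [A.one_mem]
    have hf1 : f 1 = v := conjHom_one V v
    have hcount1 : (𝒜.filter (fun B => (1 : G) ∈ B)).card = 𝒜.card := by
      congr 1
      apply Finset.filter_true_of_mem
      intro B _
      exact B.one_mem
    have hcount : ∀ a ∈ (Finset.univ.filter (· ∈ A)).erase 1,
        (f a) ^ (𝒜.filter (fun B => a ∈ B)).card = f a := by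
      intro a ha
      rw [Finset.mem_erase, Finset.mem_filter] at ha
      obtain ⟨B, ⟨hB𝒜, haB⟩, huniq⟩ := hpart a ha.2.2 ha.1
      have : 𝒜.filter (fun B => a ∈ B) = {B} := by
        ext B'
        simp only [Finset.mem_filter, Finset.mem_singleton]
        constructor
        · intro h; exact huniq B' h
        · rintro rfl; exact ⟨hB𝒜, haB⟩
      rw [this, Finset.card_singleton, pow_one]
    rw [h1, ← Finset.mul_prod_erase _ _ hA1, hcount1, hf1,
      Finset.prod_congr rfl hcount] at hprod
    have hTA' := hTA v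
    rw [← Finset.mul_prod_erase _ _ hA1] at hTA'
    change f 1 * ∏ x ∈ (Finset.univ.filter (· ∈ A)).erase 1, f x = 1 at hTA'
    rw [hf1] at hTA'
    have hcard : 𝒜.card = (𝒜.card - 1) + 1 := by
      have : 0 < 𝒜.card := Finset.card_pos.mpr ⟨B0, hB0⟩
      omega
    rw [hcard, pow_succ, mul_assoc, hTA', mul_one] at hprod
    exact hprod
  apply hV
  rw [Subgroup.eq_bot_iff_forall]
  intro x hx
  have h1 := hpow ⟨x, hx⟩
  have h2 : orderOf (⟨x, hx⟩ : V) ∣ 𝒜.card - 1 := orderOf_dvd_of_pow_eq_one h1
  have h3 : orderOf (⟨x, hx⟩ : V) ∣ Nat.card V := orderOf_dvd_natCard _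
  have h4 : orderOf (⟨x, hx⟩ : V) = 1 := Nat.eq_one_of_dvd_coprimes hk h2 h3
  rw [orderOf_eq_one_iff] at h4
  exact congrArg Subtype.val h4

end Cfsg.Agent.S3733
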