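import Cfsg.Statements.S3735
import Cfsg.Agent.Lib.Helper20.Wielandt

set_option autoImplicit false
open Cfsg

namespace Cfsg.Agent.S3735


open Cfsg.Agent.Lib.Helper20

section clifford
variable {G : Type*} [Group G]

/-- `X` is a minimal nontrivial `K`-invariant subgroup of `V` -/
def IsMinInv (K V X : Subgroup G) : Prop :=
  X ≤ V ∧ X ≠ ⊥ ∧ K ≤ Subgroup.normalizer (X : Set G) ∧
    ∀ Y : Subgroup G, Y ≤ X → K ≤ Subgroup.normalizer (Y : Set G) → Y = ⊥ ∨ Y = X

theorem exists_isMinInv [Finite G] (K V X : Subgroup G) (hXV : X ≤ V) (hX : X ≠ ⊥)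
    (hK : K ≤ Subgroup.normalizer (X : Set G)) : ∃ Y : Subgroup G, Y ≤ X ∧ IsMinInv K V Y := by
  obtain ⟨Y, hYX, hYmin⟩ := exists_minimal_le_of_wellFoundedLT
    (fun Y : Subgroup G => Y ≤ X ∧ Y ≠ ⊥ ∧ K ≤ Subgroup.normalizer (Y : Set G)) X ⟨le_rfl, hX, hK⟩
  refine ⟨Y, hYX, hYmin.1.1.trans hXV, hYmin.1.2.1, hYmin.1.2.2, ?_⟩
  intro Z hZY hZK
  by_cases hZ : Z = ⊥
  · exact Or.inl hZ
  · right
    exact le_antisymm hZY (hYmin.2 ⟨hZY.trans hYmin.1.1, hZ, hZK⟩ hZY)

theorem le_normalizer_sSup {K : Subgroup G} {S : Set (Subgroup G)}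
    (h : ∀ X ∈ S, K ≤ Subgroup.normalizer (X : Set G)) :
    K ≤ Subgroup.normalizer ((sSup S : Subgroup G) : Set G) := by
  rw [sSup_eq_iSup']
  refine le_trans ?_ (Subgroup.iInf_normalizer_le_normalizer_iSup _)
  exact le_iInf (fun X => h X.1 X.2)

theorem le_normalizer_iSup {ι : Sort*} {K : Subgroup G} {S : ι → Subgroup G}
    (h : ∀ i, K ≤ Subgroup.normalizer (S i : Set G)) :
    K ≤ Subgroup.normalizer ((⨆ i, S i : Subgroup G) : Set G) :=
  le_trans (le_iInf h) (Subgroup.iInf_normalizer_le_normalizer_iSup _)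

/-- conjugate of an `A`-invariant subgroup by an element normalizing `A` is `A`-invariant -/
theorem conj_inv_of_normal {A Y : Subgroup G} {h : G}
    (hh : h ∈ Subgroup.normalizer (A : Set G)) (hY : A ≤ Subgroup.normalizer (Y : Set G)) :
    A ≤ Subgroup.normalizer ((Y.map (MulAut.conj h).toMonoidHom : Subgroup G) : Set G) := by
  apply le_normalizer_of_conj_mem'
  rintro a ha _ ⟨y, hy, rfl⟩
  have h1 : h⁻¹ * a * h ∈ A := by
    have := (Subgroup.mem_set_normalizer_iff.mp (inv_mem hh) a).mp ha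
    simpa using this
  refine ⟨(h⁻¹ * a * h) * y * (h⁻¹ * a * h)⁻¹, conj_mem_of_le_normalizer' hY h1 hy, ?_⟩
  simp [mul_assoc]

theorem isMinInv_conj {A V Y : Subgroup G} {h : G}
    (hh : h ∈ Subgroup.normalizer (A : Set G)) (hhV : h ∈ Subgroup.normalizer (V : Set G))
    (hY : IsMinInv A V Y) : IsMinInv A V (Y.map (MulAut.conj h).toMonoidHom) := by
  obtain ⟨hYV, hYne, hYA, hYmin⟩ := hY
  refine ⟨?_, ?_, conj_inv_of_normal hh hYA, ?_⟩
  · rintro _ ⟨y, hy, rfl⟩
    exact (Subgroup.mem_set_normalizer_iff.mp hhV y).mp (hYV hy)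
  · intro hb
    apply hYne
    rw [eq_bot_iff] at hb ⊢
    intro y hy
    have : (MulAut.conj h).toMonoidHom y ∈ (⊥ : Subgroup G) := hb ⟨y, hy, rfl⟩
    rw [Subgroup.mem_bot] at this ⊢
    exact (MulAut.conj h).injective (by simpa using this)
  · intro Z hZ hZA
    -- conjugate back
    have hZ' : Z.map (MulAut.conj h⁻¹).toMonoidHom ≤ Y := by
      rintro _ ⟨z, hz, rfl⟩
      obtain ⟨y, hy, hyz⟩ := hZ hz
      have : (MulAut.conj h⁻¹).toMonoidHom z = y := by
        rw [← hyz]; simp [mul_assoc]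
      rw [this]; exact hy
    have hback : (Z.map (MulAut.conj h⁻¹).toMonoidHom).map (MulAut.conj h).toMonoidHom = Z := by
      ext x
      constructor
      · rintro ⟨_, ⟨z, hz, rfl⟩, rfl⟩
        have : (MulAut.conj h).toMonoidHom ((MulAut.conj h⁻¹).toMonoidHom z) = z := by
          simp [mul_assoc]
        rw [this]; exact hz
      · intro hx
        refine ⟨(MulAut.conj h⁻¹).toMonoidHom x, ⟨x, hx, rfl⟩, ?_⟩
        simp [mul_assoc]
    rcases hYmin _ hZ' (conj_inv_of_normal (inv_mem hh) hZA) with h1 | h1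
    · left
      rw [← hback, h1, Subgroup.map_bot]
    · right
      rw [← hback, h1]

end clifford


/-- Clifford's Theorem for actions on finite abelian groups, first part. Let H and V be subgroups of a finite group with V abelian and H normalizing V, and let A be a normal subgroup of H. If every H-invariant subgroup of V has an H-invariant complement in V, then every A-invariant subgroup of V has an A-invariant complement in V. -/
theorem result {G : Type*} [Group G] [Finite G] (H A V : Subgroup G) (hVab : IsMulCommutative V) (hHV : H ≤ Subgroup.normalizer (V : Set G)) (hAH : A ≤ H) (hAn : H ≤ Subgroup.normalizer (A : Set G)) (hss : ∀ U : Subgroup G, U ≤ V → H ≤ Subgroup.normalizer (U : Set G) → ∃ W : Subgroup G, W ≤ V ∧ H ≤ Subgroup.normalizer (W : Set G) ∧ U ⊓ W = ⊥ ∧ U ⊔ W = V) (U : Subgroup G) (hUV : U ≤ V) (hAU : A ≤ Subgroup.normalizer (U : Set G)) : ∃ W : Subgroup G, W ≤ V ∧ A ≤ Subgroup.normalizer (W : Set G) ∧ U ⊓ W = ⊥ ∧ U ⊔ W = V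 := by
  classical
  -- commutation in V
  have hcomm : ∀ x ∈ V, ∀ y ∈ V, x * y = y * x := by
    intro x hx y hy
    have := hVab.is_comm.comm (⟨x, hx⟩ : V) ⟨y, hy⟩
    exact congrArg Subtype.val this
  -- Step 1: V is the join of minimal H-invariant subgroups
  set SH := sSup {X : Subgroup G | IsMinInv H V X} with hSH
  have hSHV : SH ≤ V := sSup_le (fun X hX => hX.1)
  have hSHinv : H ≤ Subgroup.normalizer (SH : Set G) := le_normalizer_sSup (fun X hX => hX.2.2.1)
  obtain ⟨W, hWV, hWinv, hdisj, hsup⟩ := hss SH hSHV hSHinv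
  have hW : W = ⊥ := by
    by_contra hne
    obtain ⟨Y, hYW, hY⟩ := exists_isMinInv H V W hWV hne hWinv
    have h1 : Y ≤ SH := le_sSup hY
    have h2 : Y ≤ SH ⊓ W := le_inf h1 hYW
    rw [hdisj] at h2
    exact hY.2.1 (eq_bot_iff.mpr h2)
  have hSHeq : SH = V := by rw [← hsup, hW, sup_bot_eq]
  -- Step 2: V is the join of minimal A-invariant subgroups
  set SA := sSup {Y : Subgroup G | IsMinInv A V Y} with hSA
  have hSAV : SA ≤ V := sSup_le (fun X hX => hX.1)
  have hSAeq : SA = V := by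
    apply le_antisymm hSAV
    rw [← hSHeq]
    apply sSup_le
    intro X hX
    obtain ⟨hXV, hXne, hXH, hXmin⟩ := hX
    obtain ⟨Y, hYX, hY⟩ := exists_isMinInv A V X hXV hXne (hAH.trans hXH)
    set C : ↥H → Subgroup G := fun h => Y.map (MulAut.conj (h : G)).toMonoidHom with hC
    set J := ⨆ h : H, C h with hJ
    have hJX : J ≤ X := by
      apply iSup_le
      rintro ⟨h, hh⟩ _ ⟨y, hy, rfl⟩
      exact conj_mem_of_le_normalizer' hXH hh (hYX hy)
    have hJinv : H ≤ Subgroup.normalizer (J : Set G) := by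
      apply le_normalizer_of_conj_mem'
      intro b hb x hx
      refine Subgroup.iSup_induction C (C := fun x => b * x * b⁻¹ ∈ J) hx ?_ ?_ ?_
      · rintro ⟨k, hk⟩ _ ⟨a, ha, rfl⟩
        refine (le_iSup C ⟨b * k, mul_mem hb hk⟩) ⟨a, ha, ?_⟩
        simp [mul_assoc]
      · simp
      · intro x y hx hy
        have : b * (x * y) * b⁻¹ = (b * x * b⁻¹) * (b * y * b⁻¹) := by group
        rw [this]; exact mul_mem hx hy
    have hYJ : Y ≤ J := by
      refine le_trans ?_ (le_iSup C ⟨1, one_mem H⟩)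
      intro a ha
      exact ⟨a, ha, by simp⟩
    have hJne : J ≠ ⊥ := fun hb => hY.2.1 (eq_bot_iff.mpr (hb ▸ hYJ))
    rcases hXmin J hJX hJinv with h1 | h1
    · exact absurd h1 hJne
    · rw [← h1]
      apply iSup_le
      intro h
      apply le_sSup
      exact isMinInv_conj (hAn h.2) (hHV h.2) hY
  -- Step 3: maximal A-invariant W with U ⊓ W = ⊥
  obtain ⟨W, -, hWmax⟩ := exists_maximal_ge_of_wellFoundedGT
    (fun W : Subgroup G => W ≤ V ∧ A ≤ Subgroup.normalizer (W : Set G) ∧ U ⊓ W = ⊥) ⊥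
    ⟨bot_le, by
      rw [Subgroup.normalizer_eq_top_iff.mpr (inferInstance : (⊥ : Subgroup G).Normal)]
      exact le_top, inf_bot_eq _⟩
  obtain ⟨⟨hWV, hWA, hUW⟩, hmax⟩ := hWmax
  refine ⟨W, hWV, hWA, hUW, ?_⟩
  by_contra hne
  have hlt : U ⊔ W ≤ V := sup_le hUV hWV
  -- some minimal A-invariant Y is not below U ⊔ W
  have hex : ∃ Y : Subgroup G, IsMinInv A V Y ∧ ¬ Y ≤ U ⊔ W := by
    by_contra hcon
    push Not at hcon
    apply hne
    apply le_antisymm hlt
    rw [← hSAeq]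
    exact sSup_le (fun Y hY => hcon Y hY)
  obtain ⟨Y, hY, hYnot⟩ := hex
  obtain ⟨hYV, hYne, hYA, hYmin⟩ := hY
  have hUWA : A ≤ Subgroup.normalizer ((U ⊔ W : Subgroup G) : Set G) :=
    (le_inf hAU hWA).trans (Subgroup.normalizer_inf_normalizer_le_normalizer_sup U W)
  have hinfA : A ≤ Subgroup.normalizer ((Y ⊓ (U ⊔ W) : Subgroup G) : Set G) := by
    apply le_normalizer_of_conj_mem'
    intro a ha x hx
    exact ⟨conj_mem_of_le_normalizer' hYA ha hx.1, conj_mem_of_le_normalizer' hUWA ha hx.2⟩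
  have hYdisj : Y ⊓ (U ⊔ W) = ⊥ := by
    rcases hYmin _ inf_le_left hinfA with h1 | h1
    · exact h1
    · exact absurd (h1 ▸ inf_le_right) hYnot
  have hWYA : A ≤ Subgroup.normalizer ((W ⊔ Y : Subgroup G) : Set G) :=
    (le_inf hWA hYA).trans (Subgroup.normalizer_inf_normalizer_le_normalizer_sup W Y)
  have hWnY : W ≤ Subgroup.normalizer (Y : Set G) := by
    apply le_normalizer_of_conj_mem'
    intro w hw y hy
    have : w * y * w⁻¹ = y := by
      rw [hcomm w (hWV hw) y (hYV hy)]; group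
    rw [this]; exact hy
  have hdisj' : U ⊓ (W ⊔ Y) = ⊥ := by
    rw [eq_bot_iff]
    intro x hx
    have hxU : x ∈ U := hx.1
    have hxWY : x ∈ ((W ⊔ Y : Subgroup G) : Set G) := hx.2
    rw [Subgroup.coe_mul_of_left_le_normalizer_right W Y hWnY] at hxWY
    obtain ⟨w, hw, y, hy, hwy⟩ := hxWY
    have hwy' : w * y = x := hwy
    subst hwy'
    have hy' : y ∈ Y ⊓ (U ⊔ W) := by
      refine ⟨hy, ?_⟩
      have : y = w⁻¹ * (w * y) := by group
      rw [this]
      exact mul_mem ((le_sup_right : W ≤ U ⊔ W) (inv_mem hw)) ((le_sup_left : U ≤ U ⊔ W) hxU)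
    rw [hYdisj, Subgroup.mem_bot] at hy'
    rw [hy', mul_one] at hxU ⊢
    have : w ∈ U ⊓ W := ⟨hxU, hw⟩
    rwa [hUW] at this
  have hle := hmax ⟨sup_le hWV hYV, hWYA, hdisj'⟩ le_sup_left
  exact hYnot ((le_sup_right.trans hle).trans le_sup_right)

end Cfsg.Agent.S3735
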