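import Cfsg.Statements.S3737
import Cfsg.Agent.Lib.Helper20.ThompsonPQ
import Cfsg.Agent.S3736

set_option autoImplicit false
open Cfsg

namespace Cfsg.Agent.S3737

open Cfsg.Agent.Lib.Helper20
open scoped commutatorElement


/-- Thompson's strengthening of the P × Q lemma for odd primes. Let p be an odd prime and let P, Q and G be subgroups of a finite group with P a p-group, Q of order prime to p and normalized by P, and G a p-group normalized by both P and Q. If every element of G centralized by P is centralized by Q, then Q centralizes G. -/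
theorem result {X : Type*} [Group X] [Finite X] {p : ℕ} [Fact p.Prime] (hp : p ≠ 2) (P Q G : Subgroup X) (hP : IsPGroup p P) (hQ : (Nat.card Q).Coprime p) (hPQ : P ≤ Subgroup.normalizer (Q : Set X)) (hG : IsPGroup p G) (hPG : P ≤ Subgroup.normalizer (G : Set X)) (hQG : Q ≤ Subgroup.normalizer (G : Set X)) (hC : G ⊓ Subgroup.centralizer (P : Set X) ≤ Subgroup.centralizer (Q : Set X)) : Q ≤ Subgroup.centralizer (G : Set X) := by
  classical
  by_contra hcon
  let 𝒮 : Set (Subgroup X) := {U | U ≤ G ∧ P ≤ Subgroup.normalizer (U : Set X) ∧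
    Q ≤ Subgroup.normalizer (U : Set X) ∧ ¬ Q ≤ Subgroup.centralizer (U : Set X)}
  have hfin : 𝒮.Finite := Set.toFinite _
  have hne : 𝒮.Nonempty := ⟨G, le_rfl, hPG, hQG, hcon⟩
  obtain ⟨U, hU𝒮, hUmin⟩ := hfin.exists_minimal hne
  obtain ⟨hUG, hPU, hQU, hUQ⟩ := hU𝒮
  have hU : IsPGroup p U := hG.to_le hUG
  have hnt : ⁅U, Q⁆ ≠ ⊥ := by
    intro h
    rw [Subgroup.commutator_eq_bot_iff_le_centralizer] at h
    exact hUQ (Subgroup.le_centralizer_iff.mp h)
  have hmin : ∀ U' : Subgroup X, U' < U → P ⊔ Q ≤ Subgroup.normalizer (U' : Set X) → ⁅U', Q⁆ = ⊥ := by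
    intro U' hlt hN
    by_contra hne'
    have hmem : U' ∈ 𝒮 := by
      refine ⟨hlt.le.trans hUG, le_sup_left.trans hN, le_sup_right.trans hN, ?_⟩
      intro h
      apply hne'
      rw [Subgroup.commutator_eq_bot_iff_le_centralizer]
      exact Subgroup.le_centralizer_iff.mp h
    exact (not_le_of_gt hlt) (hUmin hmem hlt.le)
  have h36 := Cfsg.Agent.S3736.result (P ⊔ Q) Q U hU (sup_le hPU hQU) le_sup_right
    (sup_le hPQ Subgroup.le_normalizer) hQ hnt hmin
  obtain ⟨_, hstruct, _, _⟩ := h36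
  have hcl : ⁅U, U⁆ ≤ Subgroup.centralizer (U : Set X) := by
    rcases hstruct with ⟨hab, _⟩ | ⟨_, _, hsp⟩
    · rw [Subgroup.commutator_self_eq_bot_iff.mpr hab]
      exact bot_le
    · rw [← Subgroup.map_subtype_commutator, hsp]
      rintro _ ⟨z, hz, rfl⟩
      rw [Subgroup.mem_centralizer_iff]
      intro g hg
      have h1 := (Subgroup.mem_center_iff.mp hz) ⟨g, hg⟩
      exact congrArg Subtype.val h1
  have hC' : U ⊓ Subgroup.centralizer (P : Set X) ≤ Subgroup.centralizer (Q : Set X) :=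
    (inf_le_inf_right _ hUG).trans hC
  exact hUQ (pq_class_two hp P Q U hP hQ hPQ hU hPU hQU hcl hC')

end Cfsg.Agent.S3737
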