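import Cfsg.Statements.S3739
import Cfsg.Agent.Lib.Helper20.RankThree

set_option autoImplicit false
open Cfsg

namespace Cfsg.Agent.S3739

open Cfsg.Agent.Lib.Helper20


/-- Let G be a finite group with C_G(O₂(G)) ≤ O₂(G) containing an element of order 6, and let d be a non-identity 3-element of G normalizing a nontrivial elementary abelian 2-subgroup W with C_W(d) = 1. Then G has an elementary abelian subgroup of order 8. -/
theorem result {G : Type*} [Group G] [Finite G] (hchar : Subgroup.centralizer (Cfsg.pCore 2 G : Set G) ≤ Cfsg.pCore 2 G) (hsix : ∃ g : G, orderOf g = 6) (d : G) (hd1 : d ≠ 1) (hd : IsPGroup 3 ↥(Subgroup.zpowers d)) (W : Subgroup G) (hW : Cfsg.IsElementaryAbelian 2 W) (hW1 : W ≠ ⊥) (hdW : d ∈ Subgroup.normalizer (W : Set G)) (hfpf : W ⊓ Subgroup.centralizer {d} = ⊥) : ∃ E : Subgroup G, Cfsg.IsElementaryAbelian 2 E ∧ Nat.card E = 8 := by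
  classical
  by_contra hcon
  have hno : ∀ E : Subgroup G, (∀ a ∈ E, ∀ b ∈ E, a * b = b * a) → (∀ a ∈ E, a ^ 2 = 1) →
      Nat.card E ≤ 4 := by
    intro E hEc hE2
    by_contra h
    push Not at h
    obtain ⟨E', hc', h2', h8⟩ := exists_E8 E hEc hE2 h
    exact hcon ⟨E', ⟨⟨⟨fun a b => Subtype.ext (hc' a a.2 b b.2)⟩⟩, h2'⟩, h8⟩
  obtain ⟨g, hg⟩ := hsix
  obtain ⟨hWab, hW2⟩ := hW
  have hWc : ∀ a ∈ W, ∀ b ∈ W, a * b = b * a := fun a ha b hb =>
    congrArg Subtype.val (hWab.is_comm.comm ⟨a, ha⟩ ⟨b, hb⟩)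
  obtain ⟨hWn, hW4, hWR, hWcR, hinv⟩ := e8_part1 hno hchar ⟨d, hd1⟩ d hd W hWc hW2 hW1 hdW hfpf
  have hfpf' : ∀ w ∈ W, d * w = w * d → w = 1 := by
    intro w hw hdw
    have : w ∈ W ⊓ Subgroup.centralizer {d} := by
      refine ⟨hw, ?_⟩
      show w ∈ Subgroup.centralizer {d}
      rw [Subgroup.mem_centralizer_iff]
      intro y hy
      rw [Set.mem_singleton_iff] at hy
      rw [hy]; exact hdw
    rw [hfpf, Subgroup.mem_bot] at this
    exact this
  exact e8_part2 hno hchar g hg d hd W hWc hW2 hWn hW4 hWR hWcR hinv hfpf'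

end Cfsg.Agent.S3739
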