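import Cfsg.Statements.S3740
import Cfsg.Agent.Lib.Helper1.Dickson.NormP

set_option autoImplicit false
open Cfsg

namespace Cfsg.Agent.S3740

open Cfsg.Agent.Lib.helper14 Cfsg.Agent.Lib.Helper1.Dickson

theorem result (F : Type) [Field F] [Fintype F] {p : ℕ} [Fact p.Prime] [CharP F p] (hp : p ≠ 2) (a : Matrix.SpecialLinearGroup (Fin 2) F) (ha : IsPGroup p ↥(Subgroup.zpowers a)) (R : Subgroup (Matrix.SpecialLinearGroup (Fin 2) F)) (hR : (Nat.card R).Coprime p) (haR : a ∈ Subgroup.normalizer (R : Set (Matrix.SpecialLinearGroup (Fin 2) F))) (hnt : ⁅R, Subgroup.zpowers a⁆ ≠ ⊥) : p = 3 ∧ Nonempty (↥R ≃* QuaternionGroup 2) ∧ Nonempty (↥(R ⊔ Subgroup.zpowers a) ≃* Matrix.SpecialLinearGroup (Fin 2) (ZMod 3)) := by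
  obtain ⟨c, hc⟩ := exists_conj_into_US p (Subgroup.zpowers a) ha
  obtain ⟨t, ht⟩ := (mem_US (F := F) _).mp (hc a (Subgroup.mem_zpowers a))
  obtain ⟨r, hr, hra⟩ : ∃ r ∈ R, r * a ≠ a * r := by
    by_contra hcon
    push Not at hcon
    apply hnt
    rw [Subgroup.commutator_eq_bot_iff_le_centralizer]
    intro r hr
    rw [Subgroup.mem_centralizer_iff]
    intro h hh
    obtain ⟨k, rfl⟩ := Subgroup.mem_zpowers_iff.mp hh
    have : Commute r a := hcon r hr
    exact (this.zpow_right k).eq.symm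
  have ht0 : t ≠ 0 := by
    intro h
    rw [h, uS_zero] at ht
    have ha1 : a = 1 := by
      have : c * a * c⁻¹ = c * 1 * c⁻¹ := by rw [← ht]; group
      exact mul_left_cancel (mul_right_cancel this)
    apply hra
    rw [ha1, mul_one, one_mul]
  set φ : Matrix.SpecialLinearGroup (Fin 2) F ≃* Matrix.SpecialLinearGroup (Fin 2) F :=
    MulAut.conj c with hφ
  have hφa : φ a = uS t := by rw [hφ, MulAut.conj_apply]; exact ht.symm
  set R' : Subgroup (Matrix.SpecialLinearGroup (Fin 2) F) := R.map φ.toMonoidHom with hR'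
  have eRR' : R ≃* R' := R.equivMapOfInjective φ.toMonoidHom φ.injective
  have hcardR' : (Nat.card R').Coprime p := by
    rw [← Nat.card_congr eRR'.toEquiv]; exact hR
  have haR' : uS t ∈ Subgroup.normalizer (R' : Set (Matrix.SpecialLinearGroup (Fin 2) F)) := by
    rw [hR', ← Subgroup.map_equiv_normalizer_eq, ← hφa]
    exact Subgroup.mem_map_of_mem _ haR
  have hnt' : ∃ r' ∈ R', r' * uS t ≠ uS t * r' := by
    refine ⟨φ r, Subgroup.mem_map_of_mem _ hr, ?_⟩
    rw [← hφa, ← map_mul, ← map_mul]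
    intro h
    exact hra (φ.injective h)
  obtain ⟨hp3, ⟨e1⟩, ⟨e2⟩⟩ := normP_core p hp t ht0 R' hcardR' haR' hnt'
  refine ⟨hp3, ⟨eRR'.trans e1⟩, ?_⟩
  have hE : (R ⊔ Subgroup.zpowers a).map φ.toMonoidHom = R' ⊔ Subgroup.zpowers (uS t) := by
    rw [Subgroup.map_sup, MonoidHom.map_zpowers, ← hφa]
    rfl
  exact ⟨((R ⊔ Subgroup.zpowers a).equivMapOfInjective φ.toMonoidHom φ.injective).trans
    ((MulEquiv.subgroupCongr hE).trans e2)⟩

end Cfsg.Agent.S3740
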