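import Cfsg.Statements.S3741
import Cfsg.Agent.Lib.helper17.PAct

set_option autoImplicit false
open Cfsg

namespace Cfsg.Agent.S3741

open scoped commutatorElement

theorem conj_comm_mem_left {G : Type*} [Group G] (A B : Subgroup G) {x : G} (hx : x ∈ A) :
    ∀ z ∈ ⁅A, B⁆, x * z * x⁻¹ ∈ ⁅A, B⁆ := by
  intro z hz
  rw [Subgroup.commutator_def] at hz ⊢
  induction hz using Subgroup.closure_induction with
  | mem z hz =>
    obtain ⟨a, ha, b, hb, rfl⟩ := hz
    have e : x * ⁅a, b⁆ * x⁻¹ = ⁅x * a, b⁆ * ⁅x, b⁆⁻¹ := by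
      simp only [commutatorElement_def]; group
    rw [e]
    exact Subgroup.mul_mem _ (Subgroup.subset_closure ⟨x * a, A.mul_mem hx ha, b, hb, rfl⟩)
      (Subgroup.inv_mem _ (Subgroup.subset_closure ⟨x, hx, b, hb, rfl⟩))
  | one => simp
  | mul y z _ _ hy hz =>
    have e : x * (y * z) * x⁻¹ = (x * y * x⁻¹) * (x * z * x⁻¹) := by group
    rw [e]; exact Subgroup.mul_mem _ hy hz
  | inv y _ hy =>
    have e : x * y⁻¹ * x⁻¹ = (x * y * x⁻¹)⁻¹ := by group
    rw [e]; exact Subgroup.inv_mem _ hy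

theorem mem_normalizer_of_conj {G : Type*} [Group G] (Z : Subgroup G) (x : G)
    (h1 : ∀ z ∈ Z, x * z * x⁻¹ ∈ Z) (h2 : ∀ z ∈ Z, x⁻¹ * z * x⁻¹⁻¹ ∈ Z) :
    x ∈ Subgroup.normalizer (Z : Set G) := by
  rw [Subgroup.mem_normalizer_iff]
  intro z
  constructor
  · exact h1 z
  · intro h
    have := h2 _ h
    simpa [mul_assoc] using this

theorem sup_le_normalizer_commutator {G : Type*} [Group G] (A B : Subgroup G) :
    A ⊔ B ≤ Subgroup.normalizer ((⁅A, B⁆ : Subgroup G) : Set G) := by
  apply sup_le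
  · intro x hx
    exact mem_normalizer_of_conj _ x (conj_comm_mem_left A B hx)
      (conj_comm_mem_left A B (A.inv_mem hx))
  · intro x hx
    rw [Subgroup.commutator_comm]
    exact mem_normalizer_of_conj _ x (conj_comm_mem_left B A hx)
      (conj_comm_mem_left B A (B.inv_mem hx))

/-- `[A,B]` of order `p` in a `p`-group is centralized by `A ⊔ B`. -/
theorem comm_le_centralizer {G : Type*} [Group G] [Finite G] {p : ℕ} [Fact p.Prime]
    (hG : IsPGroup p G) (A B : Subgroup G) (hcard : Nat.card ↥⁅A, B⁆ = p) :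
    ⁅A, B⁆ ≤ Subgroup.centralizer ((A ⊔ B : Subgroup G) : Set G) := by
  have hp : p.Prime := Fact.out
  have hne : ⁅A, B⁆ ≠ ⊥ := by
    intro h
    rw [h, Subgroup.card_bot] at hcard
    exact hp.one_lt.ne hcard
  have h1 := Cfsg.Agent.Lib.helper17.inf_centralizer_ne_bot_of_pgroups (p := p)
    (Q := A ⊔ B) (Y := ⁅A, B⁆) (hG.to_subgroup _) (hG.to_subgroup _) hne
    (sup_le_normalizer_commutator A B)
  have hdvd : Nat.card ↥(⁅A, B⁆ ⊓ Subgroup.centralizer ((A ⊔ B : Subgroup G) : Set G)) ∣ p := by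
    rw [← hcard]
    exact Subgroup.card_dvd_of_le inf_le_left
  rcases (Nat.dvd_prime hp).mp hdvd with h | h
  · exact absurd (Subgroup.eq_bot_of_card_eq _ h) h1
  · have : ⁅A, B⁆ ⊓ Subgroup.centralizer ((A ⊔ B : Subgroup G) : Set G) = ⁅A, B⁆ :=
      Subgroup.eq_of_le_of_card_ge inf_le_left (by rw [h, hcard])
    rw [← this]
    exact inf_le_right

/-- If `a ∉ C(B)`, then `C_B(a)` has index `p` in `B`. -/
theorem card_comm_of_notMem {G : Type*} [Group G] [Finite G] {p : ℕ} [Fact p.Prime]
    (B Z : Subgroup G) (a : G) (hcomm : ∀ b ∈ B, ⁅a, b⁆ ∈ Z)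
    (hZB : Z ≤ Subgroup.centralizer (B : Set G)) (hZ : Nat.card Z = p)
    (hna : a ∉ Subgroup.centralizer (B : Set G)) :
    p * Nat.card {b : B // a * (b : G) = (b : G) * a} = Nat.card B := by
  have hp : p.Prime := Fact.out
  let φ : B →* Z := MonoidHom.mk' (fun b => ⟨⁅a, (b : G)⁆, hcomm b b.2⟩) (by
    intro b b'
    apply Subtype.ext
    change ⁅a, (b : G) * (b' : G)⁆ = ⁅a, (b : G)⁆ * ⁅a, (b' : G)⁆
    have hc : (b : G) * ⁅a, (b' : G)⁆ = ⁅a, (b' : G)⁆ * (b : G) :=
      (Subgroup.mem_centralizer_iff.mp (hZB (hcomm b' b'.2)) b b.2)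
    have e : ⁅a, (b : G) * (b' : G)⁆ = ⁅a, (b : G)⁆ * ((b : G) * ⁅a, (b' : G)⁆ * (b : G)⁻¹) := by
      simp only [commutatorElement_def]; group
    rw [e, hc, mul_inv_cancel_right])
  have hker : ∀ b : B, b ∈ φ.ker ↔ a * (b : G) = (b : G) * a := by
    intro b
    rw [MonoidHom.mem_ker]
    change (⟨⁅a, (b : G)⁆, _⟩ : Z) = 1 ↔ _
    rw [Subtype.ext_iff]
    change ⁅a, (b : G)⁆ = 1 ↔ _
    exact commutatorElement_eq_one_iff_mul_comm
  have hrange : φ.range = ⊤ := by
    have : Fact (Nat.card Z).Prime := ⟨by rw [hZ]; exact hp⟩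
    rcases φ.range.eq_bot_or_eq_top_of_prime_card with h | h
    · exfalso
      apply hna
      rw [Subgroup.mem_centralizer_iff]
      intro b hb
      have hb1 : φ ⟨b, hb⟩ ∈ φ.range := ⟨_, rfl⟩
      rw [h, Subgroup.mem_bot] at hb1
      have : (⟨b, hb⟩ : B) ∈ φ.ker := hb1
      rw [hker] at this
      exact this.symm
    · exact h
  have h1 : Nat.card φ.ker * φ.ker.index = Nat.card B := Subgroup.card_mul_index _
  rw [Subgroup.index_ker, hrange, Subgroup.card_top, hZ] at h1
  rw [← h1, mul_comm]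
  congr 1
  exact Nat.card_congr (Equiv.subtypeEquivRight (fun b => (hker b).symm))

open Classical in
theorem half {G : Type*} [Group G] [Finite G] {p : ℕ} [Fact p.Prime] (A B Z : Subgroup G)
    [Fintype A] [Fintype B]
    (hcomm : ∀ a ∈ A, ∀ b ∈ B, ⁅a, b⁆ ∈ Z) (hZB : Z ≤ Subgroup.centralizer (B : Set G))
    (hZ : Nat.card Z = p) :
    p * (∑ a : A, ∑ b : B, if (a : G) * (b : G) = (b : G) * (a : G) then 1 else 0) +
      Nat.card ↥(A ⊓ Subgroup.centralizer (B : Set G)) * Nat.card B =
    Nat.card ↥(A ⊓ Subgroup.centralizer (B : Set G)) * (p * Nat.card B) +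
      Nat.card A * Nat.card B := by
  have hterm : ∀ a : A, p * (∑ b : B, if (a : G) * (b : G) = (b : G) * (a : G) then 1 else 0) +
      (if (a : G) ∈ Subgroup.centralizer (B : Set G) then Nat.card B else 0) =
      (if (a : G) ∈ Subgroup.centralizer (B : Set G) then p * Nat.card B else 0) + Nat.card B := by
    intro a
    by_cases ha : (a : G) ∈ Subgroup.centralizer (B : Set G)
    · rw [if_pos ha, if_pos ha]
      have : ∀ b : B, (a : G) * (b : G) = (b : G) * (a : G) := fun b =>
        (Subgroup.mem_centralizer_iff.mp ha b b.2).symm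
      simp only [this, if_true, Finset.sum_const, Finset.card_univ, smul_eq_mul, mul_one]
      rw [Nat.card_eq_fintype_card]
    · rw [if_neg ha, if_neg ha, add_zero, zero_add, Finset.sum_boole]
      rw [← card_comm_of_notMem B Z a (hcomm a a.2) hZB hZ ha, Nat.card_eq_fintype_card,
        Fintype.card_subtype]
      simp
  have hsum := Finset.sum_congr rfl (fun a (_ : a ∈ (Finset.univ : Finset A)) => hterm a)
  rw [Finset.sum_add_distrib, Finset.sum_add_distrib, ← Finset.mul_sum, Finset.sum_const,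
    Finset.card_univ, smul_eq_mul, ← Finset.sum_filter, ← Finset.sum_filter, Finset.sum_const,
    Finset.sum_const, smul_eq_mul, smul_eq_mul] at hsum
  have hc : (Finset.univ.filter (fun a : A => (a : G) ∈ Subgroup.centralizer (B : Set G))).card =
      Nat.card ↥(A ⊓ Subgroup.centralizer (B : Set G)) := by
    rw [← Nat.card_congr (Subgroup.subgroupOfEquivOfLe
      (inf_le_left : A ⊓ Subgroup.centralizer (B : Set G) ≤ A)).toEquiv,
      Nat.card_eq_fintype_card, Fintype.card_subtype]
    congr 1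
    ext a
    simp only [Finset.mem_filter, Finset.mem_univ, true_and, Subgroup.mem_subgroupOf,
      Subgroup.mem_inf]
    exact ⟨fun h => ⟨a.2, h⟩, fun h => h.2⟩
  rw [hc, ← Nat.card_eq_fintype_card (α := A)] at hsum
  exact hsum


/-- Let A and B be subgroups of a finite p-group with [A, B] ≤ A ∩ B and [A, B] of order at most p. Then |A : C_A(B)| = |B : C_B(A)|. -/
theorem result {G : Type*} [Group G] [Finite G] {p : ℕ} [Fact p.Prime] (hG : IsPGroup p G) (A B : Subgroup G) (hAB : ⁅A, B⁆ ≤ A ⊓ B) (hcard : Nat.card ↥⁅A, B⁆ ≤ p) : (A ⊓ Subgroup.centralizer (B : Set G)).relIndex A = (B ⊓ Subgroup.centralizer (A : Set G)).relIndex B := by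
  classical
  have hp : p.Prime := Fact.out
  by_cases hbot : ⁅A, B⁆ = ⊥
  · have hAB' : A ≤ Subgroup.centralizer (B : Set G) :=
      Subgroup.commutator_eq_bot_iff_le_centralizer.mp hbot
    have hBA' : B ≤ Subgroup.centralizer (A : Set G) := by
      rw [Subgroup.commutator_comm] at hbot
      exact Subgroup.commutator_eq_bot_iff_le_centralizer.mp hbot
    rw [Subgroup.relIndex_eq_one.mpr (le_inf le_rfl hAB'),
      Subgroup.relIndex_eq_one.mpr (le_inf le_rfl hBA')]
  · have hZ : Nat.card ↥⁅A, B⁆ = p := by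
      obtain ⟨n, hn⟩ := IsPGroup.iff_card.mp (hG.to_subgroup ⁅A, B⁆)
      rcases n with _ | _ | n
      · exact absurd (Subgroup.eq_bot_of_card_eq _ (by simpa using hn)) hbot
      · simpa using hn
      · exfalso
        rw [hn] at hcard
        have : p ^ 2 ≤ p ^ (n + 1 + 1) := Nat.pow_le_pow_right hp.pos (by omega)
        have h2 : p < p ^ 2 := by nlinarith [hp.one_lt]
        omega
    have hcen := comm_le_centralizer hG A B hZ
    have hcenA : ⁅A, B⁆ ≤ Subgroup.centralizer (A : Set G) :=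
      hcen.trans (Subgroup.centralizer_le (SetLike.coe_subset_coe.mpr le_sup_left))
    have hcenB : ⁅A, B⁆ ≤ Subgroup.centralizer (B : Set G) :=
      hcen.trans (Subgroup.centralizer_le (SetLike.coe_subset_coe.mpr le_sup_right))
    have : Fintype A := Fintype.ofFinite A
    have : Fintype B := Fintype.ofFinite B
    have h1 := half (p := p) A B ⁅A, B⁆ (fun a ha b hb => Subgroup.commutator_mem_commutator ha hb)
      hcenB hZ
    have h2 := half (p := p) B A ⁅A, B⁆ (fun b hb a ha => by
      rw [Subgroup.commutator_comm]; exact Subgroup.commutator_mem_commutator hb ha) hcenA hZ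
    rw [Finset.sum_comm] at h2
    have hsame : (∑ a : A, ∑ b : B, if (b : G) * (a : G) = (a : G) * (b : G) then 1 else 0) =
        ∑ a : A, ∑ b : B, if (a : G) * (b : G) = (b : G) * (a : G) then 1 else 0 := by
      apply Finset.sum_congr rfl; intro a _
      apply Finset.sum_congr rfl; intro b _
      simp only [eq_comm]
    rw [hsame] at h2
    set n := ∑ a : A, ∑ b : B, if (a : G) * (b : G) = (b : G) * (a : G) then 1 else 0 with hn
    set cA := Nat.card ↥(A ⊓ Subgroup.centralizer (B : Set G)) with hcA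
    set cB := Nat.card ↥(B ⊓ Subgroup.centralizer (A : Set G)) with hcB
    have hiA : (A ⊓ Subgroup.centralizer (B : Set G)).relIndex A * cA = Nat.card A := by
      have := Subgroup.card_mul_index ((A ⊓ Subgroup.centralizer (B : Set G)).subgroupOf A)
      rw [Nat.card_congr (Subgroup.subgroupOfEquivOfLe
        (inf_le_left : A ⊓ Subgroup.centralizer (B : Set G) ≤ A)).toEquiv] at this
      rw [mul_comm]; exact this
    have hiB : (B ⊓ Subgroup.centralizer (A : Set G)).relIndex B * cB = Nat.card B := by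
      have := Subgroup.card_mul_index ((B ⊓ Subgroup.centralizer (A : Set G)).subgroupOf B)
      rw [Nat.card_congr (Subgroup.subgroupOfEquivOfLe
        (inf_le_left : B ⊓ Subgroup.centralizer (A : Set G) ≤ B)).toEquiv] at this
      rw [mul_comm]; exact this
    have hcApos : 0 < cA := Nat.card_pos
    have hcBpos : 0 < cB := Nat.card_pos
    obtain ⟨q, rfl⟩ : ∃ q, p = q + 1 := ⟨p - 1, by have := hp.pos; omega⟩
    have hq : 0 < q := by have := hp.one_lt; omega
    have hx : q * (cA * Nat.card B) = q * (cB * Nat.card A) := by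
      ring_nf at h1 h2 ⊢
      linarith
    have hx' : cA * Nat.card B = cB * Nat.card A := Nat.eq_of_mul_eq_mul_left hq hx
    rw [← hiA, ← hiB] at hx'
    have : (cA * cB) * (B ⊓ Subgroup.centralizer (A : Set G)).relIndex B =
        (cA * cB) * (A ⊓ Subgroup.centralizer (B : Set G)).relIndex A := by
      linarith [hx']
    exact (Nat.eq_of_mul_eq_mul_left (Nat.mul_pos hcApos hcBpos) this).symm

end Cfsg.Agent.S3741
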