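import Cfsg.Statements.S3745
import Cfsg.Agent.Lib.Helper20.HallRel

set_option autoImplicit false
open Cfsg

namespace Cfsg.Agent.S3745

open Cfsg.Agent.Lib.Helper20 Cfsg.Agent.Lib.Lead
open scoped Pointwise

/-- part (c): every `A`-invariant π-subgroup lies in an `A`-invariant Hall π-subgroup -/
theorem part_c.{u} {X : Type u} [Group X] [Finite X] (A G : Subgroup X)
    (hAG : A ≤ Subgroup.normalizer (G : Set X)) (hcop : (Nat.card A).Coprime (Nat.card G))
    (hsolv : Group.IsSolvable G) (π : Set ℕ) (U : Subgroup X) (hUG : U ≤ G)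
    (hAU : A ≤ Subgroup.normalizer (U : Set X)) (hU : PiNum π (Nat.card U)) :
    ∃ H : Subgroup X, Cfsg.IsPiHallOf π H G ∧ A ≤ Subgroup.normalizer (H : Set X) ∧ U ≤ H := by
  set σ : Set ℕ := π ∪ {p | p ∣ Nat.card A} with hσ
  have hσA : PiNum σ (Nat.card A) := fun q _ hd => Or.inr hd
  have hA' : A ≤ A ⊔ G := le_sup_left
  have hG' : G ≤ A ⊔ G := le_sup_right
  have hΓN : A ⊔ G ≤ Subgroup.normalizer (G : Set X) := sup_le hAG Subgroup.le_normalizer
  have hΓ : PiSepS σ ↥(A ⊔ G) := by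
    have hKn : (G.subgroupOf (A ⊔ G)).Normal := Subgroup.normal_subgroupOf_sup_of_le_normalizer hAG
    have hKs : Group.IsSolvable (G.subgroupOf (A ⊔ G)) := Cfsg.Agent.S0001.solvable_subgroupOf G _
    apply piSepS_of_sup_eq_top (A.subgroupOf (A ⊔ G)) (G.subgroupOf (A ⊔ G))
    · rw [← Subgroup.subgroupOf_sup hA' hG', Subgroup.subgroupOf_self]
    · rw [Cfsg.Agent.S0001.card_subgroupOf_of_le hA']; exact hσA
  have hV : PiNum σ (Nat.card (A ⊔ U : Subgroup X)) := by
    apply PiNum.of_dvd _ (card_sup_dvd_of_le_normalizer' A U hAU)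
    exact hσA.mul (fun q hq hd => Or.inl (hU q hq hd))
  have hVΓ : A ⊔ U ≤ A ⊔ G := sup_le hA' (hUG.trans hG')
  obtain ⟨T, hTΓ, hT1, hT2, hVT⟩ := hall_rel_dominance σ (A ⊔ G) hΓ (A ⊔ U) hVΓ hV
  have hAT : A ≤ T := le_sup_left.trans hVT
  refine ⟨T ⊓ G, ⟨inf_le_right, ?_, ?_⟩, ?_, le_inf (le_sup_right.trans hVT) hUG⟩
  · intro q hq hd
    rcases hT1 q hq (dvd_trans hd (Subgroup.card_dvd_of_le inf_le_left)) with h | h
    · exact h
    · exfalso
      have h2 : q ∣ Nat.card G := dvd_trans hd (Subgroup.card_dvd_of_le inf_le_right)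
      exact hq.one_lt.ne' (Nat.eq_one_of_dvd_coprimes hcop h h2)
  · intro q hq hqπ hd
    rw [Subgroup.inf_relIndex_right,
      ← relIndex_sup_eq_of_le_normalizer' T G (hTΓ.trans hΓN)] at hd
    apply hT2 q hq (Or.inl hqπ)
    rw [← Subgroup.relIndex_mul_relIndex T (T ⊔ G) (A ⊔ G) le_sup_left (sup_le hTΓ hG')]
    exact dvd_mul_of_dvd_left hd _
  · rw [Subgroup.le_normalizer_iff]
    intro a ha x hx
    exact ⟨T.mul_mem (T.mul_mem (hAT ha) hx.1) (T.inv_mem (hAT ha)),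
      (Subgroup.le_normalizer_iff.mp hAG) a ha x hx.2⟩


/-- Coprime action on a solvable group and Hall subgroups. Let A and G be subgroups of a finite group with A normalizing G, the orders of A and G coprime, and G solvable, and let π be a set of primes. Then (a) G has an A-invariant Hall π-subgroup; (b) any two A-invariant Hall π-subgroups of G are conjugate by an element of C_G(A); (c) every A-invariant π-subgroup of G lies in an A-invariant Hall π-subgroup of G. -/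
theorem result {X : Type*} [Group X] [Finite X] (A G : Subgroup X) (hAG : A ≤ Subgroup.normalizer (G : Set X)) (hcop : (Nat.card A).Coprime (Nat.card G)) (hsolv : Group.IsSolvable G) (π : Set ℕ) : (∃ H : Subgroup X, Cfsg.IsPiHallOf π H G ∧ A ≤ Subgroup.normalizer (H : Set X)) ∧ (∀ H₁ H₂ : Subgroup X, Cfsg.IsPiHallOf π H₁ G → A ≤ Subgroup.normalizer (H₁ : Set X) → Cfsg.IsPiHallOf π H₂ G → A ≤ Subgroup.normalizer (H₂ : Set X) → ∃ c ∈ G ⊓ Subgroup.centralizer (A : Set X), H₂ = H₁.map (MulAut.conj c).toMonoidHom) ∧ (∀ U : Subgroup X, U ≤ G → A ≤ Subgroup.normalizer (U : Set X) → (∀ p : ℕ, p.Prime → p ∣ Nat.card U → p ∈ π) → ∃ H : Subgroup X, Cfsg.IsPiHallOf π H G ∧ A ≤ Subgroup.normalizer (H : Set X) ∧ U ≤ H) := by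
  have hGs : Group.IsSolvable G := hsolv
  refine ⟨?_, ?_, ?_⟩
  · obtain ⟨H, hH, hAH, -⟩ := part_c A G hAG hcop hsolv π ⊥ bot_le
      (by rw [Subgroup.le_normalizer_iff]
          intro a _ x hx
          rw [Subgroup.mem_bot] at hx ⊢
          rw [hx]; group)
      (by rw [Subgroup.card_bot]; exact piNum_one π)
    exact ⟨H, hH, hAH⟩
  · intro H₁ H₂ h1 hA1 h2 hA2
    have hG : PiSepS π ↥G := piSepS_of_solvable π ↥G
    obtain ⟨k, hk, hkH⟩ := hall_rel_conj π G hG H₁ H₂ h1.1 h1.2.1 h1.2.2 h2.1 h2.2.1 h2.2.2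
    obtain ⟨c, hc, hcH⟩ := conj_by_centralizer A G hAG hcop (Or.inr hsolv) H₁ hA1 k hk
      (by rw [hkH]; exact hA2)
    refine ⟨c, hc, ?_⟩
    rw [← hkH, ← hcH]
    rfl
  · intro U hUG hAU hU
    exact part_c A G hAG hcop hsolv π U hUG hAU hU

end Cfsg.Agent.S3745
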