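import Cfsg.Statements.S3746
import Cfsg.Agent.S1258
import Cfsg.Agent.Lib.Helper9.Quasisimple

set_option autoImplicit false
open Cfsg

namespace Cfsg.Agent.S3746


/-- If `φ : E →* Q` is surjective with central kernel and `Q` is quasisimple (and `E` finite), then
the commutator subgroup of `E` is quasisimple. -/
theorem isQuasisimple_commutator_of_central_ext {E Q : Type*} [Group E] [Group Q] [Finite E]
    (φ : E →* Q) (hφ : Function.Surjective φ) (hker : φ.ker ≤ Subgroup.center E)
    (hQ : Cfsg.IsQuasisimple Q) : Cfsg.IsQuasisimple ↥(commutator E) := by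
  obtain ⟨hperf, hsimp⟩ := hQ
  let ψ : E →* Q ⧸ Subgroup.center Q := (QuotientGroup.mk' (Subgroup.center Q)).comp φ
  have hψ : Function.Surjective ψ := (QuotientGroup.mk'_surjective _).comp hφ
  -- commutator E ⊔ ker φ = ⊤
  have hsup : commutator E ⊔ φ.ker = ⊤ := by
    have hmap : (commutator E).map φ = commutator Q := by
      rw [commutator_def, commutator_def, Subgroup.map_commutator,
        Subgroup.map_top_of_surjective _ hφ]
    have := Subgroup.comap_map_eq φ (commutator E)
    rw [hmap, hperf.commutator_eq_top, Subgroup.comap_top] at this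
    exact this.symm
  have hkerψ : ψ.ker = Subgroup.center E := by
    apply le_antisymm
    · -- Y := ker ψ
      have hY1 : ⁅ψ.ker, (⊤ : Subgroup E)⁆ ≤ φ.ker := by
        rw [Subgroup.commutator_le]
        intro g₁ hg₁ g₂ _
        rw [MonoidHom.mem_ker] at hg₁ ⊢
        have hc : φ g₁ ∈ Subgroup.center Q := by
          have : (QuotientGroup.mk (φ g₁) : Q ⧸ Subgroup.center Q) = 1 := hg₁
          rwa [QuotientGroup.eq_one_iff] at this
        rw [map_commutatorElement, commutatorElement_eq_one_iff_commute]
        exact (Subgroup.mem_center_iff.mp hc (φ g₂)).symm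
      have hY2 : ⁅⁅ψ.ker, (⊤ : Subgroup E)⁆, (⊤ : Subgroup E)⁆ = ⊥ := by
        rw [Subgroup.commutator_eq_bot_iff_le_centralizer]
        refine (hY1.trans hker).trans ?_
        rw [Subgroup.coe_top, Subgroup.centralizer_univ]
      have hY3 : ⁅⁅(⊤ : Subgroup E), ψ.ker⁆, (⊤ : Subgroup E)⁆ = ⊥ := by
        rw [Subgroup.commutator_comm (⊤ : Subgroup E) ψ.ker]; exact hY2
      have hY4 : ⁅⁅(⊤ : Subgroup E), (⊤ : Subgroup E)⁆, ψ.ker⁆ = ⊥ :=
        Subgroup.commutator_commutator_eq_bot_of_rotate hY3 hY2
      rw [Subgroup.commutator_eq_bot_iff_le_centralizer] at hY4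
      have h5 : φ.ker ≤ Subgroup.centralizer (ψ.ker : Set E) :=
        hker.trans (Subgroup.center_le_centralizer _)
      have h6 : (⊤ : Subgroup E) ≤ Subgroup.centralizer (ψ.ker : Set E) := by
        rw [← hsup]
        exact sup_le hY4 h5
      intro y hy
      rw [Subgroup.mem_center_iff]
      intro g
      have := h6 (Subgroup.mem_top g)
      rw [Subgroup.mem_centralizer_iff] at this
      exact (this y hy).symm
    · intro y hy
      rw [MonoidHom.mem_ker]
      change (QuotientGroup.mk (φ y) : Q ⧸ Subgroup.center Q) = 1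
      rw [QuotientGroup.eq_one_iff, Subgroup.mem_center_iff]
      intro q
      obtain ⟨e, rfl⟩ := hφ q
      rw [← map_mul, ← map_mul, Subgroup.mem_center_iff.mp hy e]
  have e1 : E ⧸ ψ.ker ≃* Q ⧸ Subgroup.center Q := QuotientGroup.quotientKerEquivOfSurjective ψ hψ
  have e2 : E ⧸ ψ.ker ≃* E ⧸ Subgroup.center E := QuotientGroup.quotientMulEquivOfEq hkerψ
  have e : E ⧸ Subgroup.center E ≃* Q ⧸ Subgroup.center Q := e2.symm.trans e1
  have hs : IsSimpleGroup (E ⧸ Subgroup.center E) := e.isSimpleGroup
  have hnc : ¬ IsMulCommutative (E ⧸ Subgroup.center E) := by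
    intro hc
    have hc' : IsMulCommutative (Q ⧸ Subgroup.center Q) := by
      refine ⟨⟨fun a b => ?_⟩⟩
      have := hc.is_comm.comm (e.symm a) (e.symm b)
      rw [← map_mul, ← map_mul] at this
      exact e.symm.injective this
    have := Group.IsPerfect.subsingleton_of_isMulCommutative (G := Q ⧸ Subgroup.center Q)
    exact not_subsingleton (Q ⧸ Subgroup.center Q) this
  exact (Cfsg.Agent.S1258.result hs hnc).2


/-- Let Z ≤ Z(G) be a central subgroup of a finite group G and E a subgroup of G containing Z whose image E/Z is a component of G/Z (subnormal and quasisimple). Then the derived subgroup [E, E] is a component of G. -/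
theorem result {G : Type*} [Group G] [Finite G] (Z : Subgroup G) (hZ : Z ≤ Subgroup.center G) [Z.Normal] (E : Subgroup G) (hZE : Z ≤ E) (hE : Cfsg.IsComponent (E.map (QuotientGroup.mk' Z))) : Cfsg.IsComponent ⁅E, E⁆ := by
  obtain ⟨hsub, hqs⟩ := hE
  set π := QuotientGroup.mk' Z with hπ
  -- E is subnormal
  have hEsub : E.IsSubnormal := by
    have := hsub.comap π
    rwa [Subgroup.comap_map_eq_self (by rw [hπ, QuotientGroup.ker_mk']; exact hZE)] at this
  -- commutator as a map
  have hcomm : ⁅E, E⁆ = (commutator ↥E).map E.subtype := by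
    rw [commutator_def, Subgroup.map_commutator, ← MonoidHom.range_eq_map, Subgroup.range_subtype]
  rw [hcomm]
  refine ⟨?_, ?_⟩
  · exact Subgroup.IsSubnormal.trans' (Subgroup.Normal.isSubnormal inferInstance) hEsub
  · have hker : (π.subgroupMap E).ker ≤ Subgroup.center ↥E := by
      intro x hx
      rw [MonoidHom.mem_ker] at hx
      have h1 : π (x : G) = 1 := by
        have := congrArg Subtype.val hx
        simpa using this
      have h2 : (x : G) ∈ Z := by
        rw [hπ] at h1
        exact (QuotientGroup.eq_one_iff _).mp h1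
      have h3 := hZ h2
      rw [Subgroup.mem_center_iff] at h3 ⊢
      intro g
      ext
      exact h3 g
    have hq := isQuasisimple_commutator_of_central_ext (π.subgroupMap E)
      (MonoidHom.subgroupMap_surjective π E) hker hqs
    exact Cfsg.Agent.Lib.Helper9.isQuasisimple_of_mulEquiv
      ((commutator ↥E).equivMapOfInjective E.subtype E.subtype_injective) hq

end Cfsg.Agent.S3746
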