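import Cfsg.Statements.S3748
import Cfsg.Agent.Lib.Helper20.Wielandt
import Cfsg.Agent.Lib.helper23.Fitting
import Cfsg.Agent.S0064

set_option autoImplicit false
open Cfsg

namespace Cfsg.Agent.S3748



/-- Call a proper subgroup M of G primitive when M = N_G(N) for every non-trivial normal subgroup N of M. If M is a primitive subgroup of the finite group G, then no non-trivial subnormal subgroup of G is contained in M; in particular M ∩ F(G) = 1. -/
theorem result {G : Type*} [Group G] [Finite G] (M : Subgroup G) (hM : M ≠ ⊤) (hprim : ∀ N : Subgroup G, N ≤ M → M ≤ Subgroup.normalizer (N : Set G) → N ≠ ⊥ → Subgroup.normalizer (N : Set G) = M) : (∀ L : Subgroup G, L.IsSubnormal → L ≤ M → L = ⊥) ∧ M ⊓ Cfsg.fittingSubgroup G = ⊥ := by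
  classical
  have part1 : ∀ L : Subgroup G, L.IsSubnormal → L ≤ M → L = ⊥ := by
    intro L hL hLM
    by_contra hLbot
    set S : Set (Subgroup G) := {L | L.IsSubnormal ∧ L ≤ M} with hS
    set Sg := sSup S with hSg
    have hSgsub : Sg.IsSubnormal :=
      Cfsg.Agent.Lib.Helper20.isSubnormal_sSup S (fun H hH => hH.1)
    have hSgM : Sg ≤ M := sSup_le (fun H hH => hH.2)
    have hLSg : L ≤ Sg := le_sSup ⟨hL, hLM⟩
    have hSgbot : Sg ≠ ⊥ := by
      intro h
      apply hLbot
      rw [eq_bot_iff, ← h]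
      exact hLSg
    have hMN : M ≤ Subgroup.normalizer (Sg : Set G) := by
      apply Cfsg.Agent.Lib.Helper20.le_normalizer_of_conj_mem'
      intro m hm x hx
      have hmem : Sg.map (MulAut.conj m).toMonoidHom ∈ S := by
        refine ⟨hSgsub.map (MulAut.conj m).surjective, ?_⟩
        rintro _ ⟨y, hy, rfl⟩
        exact mul_mem (mul_mem hm (hSgM hy)) (inv_mem hm)
      exact (le_sSup hmem : _ ≤ Sg) ⟨x, hx, rfl⟩
    have hnorm := hprim Sg hSgM hMN hSgbot
    rcases Subgroup.IsSubnormal.iff_eq_top_or_exists.mp hSgsub with h1 | ⟨K, hlt, hKsub, hKn⟩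
    · apply hM
      rw [eq_top_iff, ← h1]
      exact hSgM
    · have hK : K ≤ M := by
        rw [← hnorm]
        exact (Subgroup.normal_subgroupOf_iff_le_normalizer hlt.le).mp hKn
      have : K ≤ Sg := le_sSup ⟨hKsub, hK⟩
      exact absurd this (not_le_of_gt hlt)
  refine ⟨part1, ?_⟩
  apply part1 _ _ inf_le_left
  -- M ⊓ F(G) is subnormal in F(G), which is normal in G
  have hFn : (Cfsg.fittingSubgroup G).Normal :=
    Cfsg.Agent.Lib.helper23.fittingSubgroup_normal G
  have hFnil : Group.IsNilpotent (Cfsg.fittingSubgroup G) :=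
    Cfsg.Agent.Lib.helper23.fittingSubgroup_isNilpotent G
  have h1 : ((M ⊓ Cfsg.fittingSubgroup G).subgroupOf (Cfsg.fittingSubgroup G)).IsSubnormal :=
    Cfsg.Agent.S0064.result.mp hFnil _
  exact Subgroup.IsSubnormal.trans inf_le_right h1 hFn.isSubnormal

end Cfsg.Agent.S3748
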