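import Cfsg.Statements.S3749
import Cfsg.Agent.S0023
import Cfsg.Agent.S0024
import Cfsg.Agent.Lib.helper17.PAct
import Cfsg.Agent.Lib.helper17.SylowNormal
import Cfsg.Agent.Lib.helper23.PCore
import Cfsg.Agent.Lib.Helper20.HallSep

set_option autoImplicit false
open Cfsg

namespace Cfsg.Agent.S3749

open Cfsg.Agent.Lib.Lead Cfsg.Agent.Lib.Helper20
open scoped Pointwise


/-- Call a proper subgroup M of G primitive when M = N_G(N) for every non-trivial normal subgroup N of M. Let M be a primitive subgroup of the finite group G, p a prime with O_p(M) ≠ 1, and N a normal subgroup of G with M ∩ N = 1. Then p does not divide the order of N; for every prime q there is exactly one Sylow q-subgroup of N normalized by M; and if the order of N has at least two prime divisors then M is not a maximal subgroup of G. -/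
theorem result {G : Type*} [Group G] [Finite G] (M : Subgroup G) (hM : M ≠ ⊤) (hprim : ∀ N : Subgroup G, N ≤ M → M ≤ Subgroup.normalizer (N : Set G) → N ≠ ⊥ → Subgroup.normalizer (N : Set G) = M) {p : ℕ} [Fact p.Prime] (hOp : Cfsg.pCore p ↥M ≠ ⊥) (N : Subgroup G) [N.Normal] (hMN : M ⊓ N = ⊥) : ¬ p ∣ Nat.card N ∧ (∀ q : ℕ, [Fact q.Prime] → ∃! Q : Sylow q ↥N, M ≤ Subgroup.normalizer ((Q : Subgroup ↥N).map N.subtype : Set G)) ∧ ((∃ q r : ℕ, q.Prime ∧ r.Prime ∧ q ≠ r ∧ q ∣ Nat.card N ∧ r ∣ Nat.card N) → ¬ IsCoatom M) := by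
  have hp : p.Prime := Fact.out
  set P : Subgroup G := (Cfsg.pCore p ↥M).map M.subtype with hPdef
  have hPM : P ≤ M := Subgroup.map_subtype_le _
  have hP0 : P ≠ ⊥ := by
    intro h
    rw [hPdef, Subgroup.map_eq_bot_iff_of_injective _ M.subtype_injective] at h
    exact hOp h
  have hpn : (Cfsg.pCore p ↥M).Normal := Cfsg.Agent.Lib.helper23.pCore_normal p ↥M
  have hMP : M ≤ Subgroup.normalizer (P : Set G) := by
    rw [Subgroup.le_normalizer_iff]
    rintro m hm _ ⟨y, hy, rfl⟩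
    exact ⟨⟨m, hm⟩ * y * ⟨m, hm⟩⁻¹, hpn.conj_mem y hy ⟨m, hm⟩, rfl⟩
  have hNP : Subgroup.normalizer (P : Set G) = M := hprim P hPM hMP hP0
  have hPp : IsPGroup p P := (Cfsg.Agent.Lib.helper23.pCore_isPGroup p ↥M).map M.subtype
  have hPN : P ≤ Subgroup.normalizer (N : Set G) := by
    rw [Subgroup.normalizer_eq_top_iff.mpr inferInstance]; exact le_top
  have hCN : ∀ c : G, c ∈ N → c ∈ Subgroup.centralizer (P : Set G) → c = 1 := by
    intro c hcN hcP
    have h1 : c ∈ M := by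
      rw [← hNP]; exact Subgroup.centralizer_le_normalizer _ hcP
    have h2 : c ∈ M ⊓ N := ⟨h1, hcN⟩
    rwa [hMN, Subgroup.mem_bot] at h2
  -- (a)
  have hpN : ¬ p ∣ Nat.card N := by
    intro hdvd
    obtain ⟨T, hPT⟩ := hPp.exists_le_sylow
    have hY1 : (T : Subgroup G) ⊓ N ≠ ⊥ := by
      rw [← Cfsg.Agent.Lib.helper17.sylowInfNormal_map T N]
      intro h
      rw [Subgroup.map_eq_bot_iff_of_injective _ N.subtype_injective] at h
      exact (Cfsg.Agent.Lib.helper17.sylowInfNormal T N).ne_bot_of_dvd_card hdvd h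
    have hYp : IsPGroup p ((T : Subgroup G) ⊓ N : Subgroup G) := T.isPGroup'.to_le inf_le_left
    have hPY : P ≤ Subgroup.normalizer (((T : Subgroup G) ⊓ N : Subgroup G) : Set G) := by
      rw [Subgroup.le_normalizer_iff]
      intro a ha x hx
      exact ⟨(T : Subgroup G).mul_mem ((T : Subgroup G).mul_mem (hPT ha) hx.1)
        ((T : Subgroup G).inv_mem (hPT ha)), ‹N.Normal›.conj_mem x hx.2 a⟩
    have h1 := Cfsg.Agent.Lib.helper17.inf_centralizer_ne_bot_of_pgroups hPp hYp hY1 hPY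
    obtain ⟨z, hz1⟩ := (Subgroup.ne_bot_iff_exists_ne_one).mp h1
    apply hz1
    apply Subtype.ext
    exact hCN z z.2.1.2 z.2.2
  -- coprime action of P on N
  have hcop : (Nat.card P).Coprime (Nat.card N) := by
    obtain ⟨k, hk⟩ := IsPGroup.iff_card.mp hPp
    rw [hk]
    exact Nat.Coprime.pow_left k ((Nat.Prime.coprime_iff_not_dvd hp).mpr hpN)
  have hPsolv : Group.IsSolvable P := by
    have : Group.IsNilpotent P := hPp.isNilpotent
    infer_instance
  have hsolv : Group.IsSolvable P ∨ Group.IsSolvable N := Or.inl hPsolv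
  -- uniqueness of P-invariant Sylow subgroups
  have huniq : ∀ (q : ℕ) [Fact q.Prime] (Q Q' : Sylow q ↥N),
      P ≤ Subgroup.normalizer ((Q : Subgroup ↥N).map N.subtype : Set G) →
      P ≤ Subgroup.normalizer ((Q' : Subgroup ↥N).map N.subtype : Set G) → Q = Q' := by
    intro q _ Q Q' hQ hQ'
    obtain ⟨c, hc, hcQ⟩ := Cfsg.Agent.S0024.result P N hPN hcop hsolv q Q Q' hQ hQ'
    have hc1 : c = 1 := Subtype.ext (hCN c c.2 hc)
    rw [hc1, map_one, one_smul] at hcQ
    exact hcQ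
  -- M-invariance of the P-invariant Sylow subgroup
  have hinv : ∀ (q : ℕ) [Fact q.Prime] (Q : Sylow q ↥N),
      P ≤ Subgroup.normalizer ((Q : Subgroup ↥N).map N.subtype : Set G) →
      M ≤ Subgroup.normalizer ((Q : Subgroup ↥N).map N.subtype : Set G) := by
    intro q _ Q hQ m hm
    rw [← conj_smul_eq_iff]
    set Q₀ : Subgroup G := (Q : Subgroup ↥N).map N.subtype with hQ₀
    set Q₁ : Subgroup G := MulAut.conj m • Q₀ with hQ₁
    have hQ₀N : Q₀ ≤ N := Subgroup.map_subtype_le _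
    have hQ₁N : Q₁ ≤ N := by
      rintro _ ⟨x, hx, rfl⟩
      exact ‹N.Normal›.conj_mem x (hQ₀N hx) m
    have hcardQ₁ : Nat.card (Q₁.subgroupOf N) = q ^ (Nat.card N).factorization q := by
      rw [Cfsg.Agent.S0001.card_subgroupOf_of_le hQ₁N, hQ₁, Cfsg.Agent.S0001.card_conj, hQ₀,
        Subgroup.card_map_of_injective N.subtype_injective, Sylow.card_eq_multiplicity]
    have hPQ₁ : P ≤ Subgroup.normalizer (Q₁ : Set G) := by
      rw [Subgroup.le_normalizer_iff]
      rintro a ha _ ⟨x, hx, rfl⟩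
      have ha' : m⁻¹ * a * m ∈ P := by
        have := (Subgroup.le_normalizer_iff.mp hMP) m⁻¹ (M.inv_mem hm) a ha
        simpa using this
      have hx' : (m⁻¹ * a * m) * x * (m⁻¹ * a * m)⁻¹ ∈ Q₀ :=
        (Subgroup.le_normalizer_iff.mp hQ) _ ha' x hx
      refine ⟨_, hx', ?_⟩
      simp only [MulEquiv.toMonoidHom_eq_coe, MonoidHom.coe_coe, MulAut.conj_apply,
        MulDistribMulAction.toMonoidEnd_apply, MulDistribMulAction.toMonoidHom_apply,
        MulAut.smul_def]
      group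
    have hQ' : P ≤ Subgroup.normalizer
        (((Sylow.ofCard (Q₁.subgroupOf N) hcardQ₁ : Sylow q ↥N) : Subgroup ↥N).map N.subtype
          : Set G) := by
      rw [Sylow.coe_ofCard, Subgroup.map_subgroupOf_eq_of_le hQ₁N]
      exact hPQ₁
    have e := huniq q Q (Sylow.ofCard (Q₁.subgroupOf N) hcardQ₁) hQ hQ'
    have e2 : ((Sylow.ofCard (Q₁.subgroupOf N) hcardQ₁ : Sylow q ↥N) : Subgroup ↥N).map N.subtype
        = Q₁ := by
      rw [Sylow.coe_ofCard, Subgroup.map_subgroupOf_eq_of_le hQ₁N]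
    rw [← e2, ← e]
  refine ⟨hpN, ?_, ?_⟩
  · intro q _
    obtain ⟨Q, hQ⟩ := Cfsg.Agent.S0023.result P N hPN hcop hsolv q
    refine ⟨Q, hinv q Q hQ, ?_⟩
    intro Q' hQ'
    exact (huniq q Q Q' hQ (hPM.trans hQ')).symm
  · rintro ⟨q, r, hq, hr, hqr, hqN, hrN⟩ hco
    have : Fact q.Prime := ⟨hq⟩
    obtain ⟨Q, hQ⟩ := Cfsg.Agent.S0023.result P N hPN hcop hsolv q
    have hMQ := hinv q Q hQ
    set Q₀ : Subgroup G := (Q : Subgroup ↥N).map N.subtype with hQ₀
    have hQ₀N : Q₀ ≤ N := Subgroup.map_subtype_le _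
    have hQ₀1 : Q₀ ≠ ⊥ := by
      intro h
      rw [hQ₀, Subgroup.map_eq_bot_iff_of_injective _ N.subtype_injective] at h
      exact Q.ne_bot_of_dvd_card hqN h
    have hlt : M < M ⊔ Q₀ := by
      refine lt_of_le_of_ne le_sup_left ?_
      intro h
      have h1 : Q₀ ≤ M := by rw [h]; exact le_sup_right
      apply hQ₀1
      rw [eq_bot_iff, ← hMN]
      exact le_inf h1 hQ₀N
    have htop : M ⊔ Q₀ = ⊤ := hco.2 _ hlt
    have hNQ : N ≤ Q₀ := by
      intro x hx
      have hx' : x ∈ ((M ⊔ Q₀ : Subgroup G) : Set G) := by rw [htop]; trivial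
      rw [Subgroup.coe_mul_of_left_le_normalizer_right M Q₀ hMQ] at hx'
      obtain ⟨m, hm, y, hy, hxy⟩ := hx'
      have hxy' : m * y = x := hxy
      have hmN : m ∈ N := by
        have := N.mul_mem hx (N.inv_mem (hQ₀N hy))
        rw [← hxy'] at this
        simpa using this
      have hm1 : m ∈ M ⊓ N := ⟨hm, hmN⟩
      rw [hMN, Subgroup.mem_bot] at hm1
      rw [← hxy', hm1, one_mul]; exact hy
    have hd : Nat.card N ∣ q ^ (Nat.card N).factorization q := by
      have := Subgroup.card_dvd_of_le hNQ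
      rwa [hQ₀, Subgroup.card_map_of_injective N.subtype_injective,
        Sylow.card_eq_multiplicity] at this
    have hrq : r ∣ q ^ (Nat.card N).factorization q := dvd_trans hrN hd
    exact hqr ((Nat.prime_dvd_prime_iff_eq hr hq).mp (hr.dvd_of_dvd_pow hrq)).symm

end Cfsg.Agent.S3749
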