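import Cfsg.Statements.S3750
import Cfsg.Agent.S1320
import Cfsg.Agent.S1261
import Cfsg.Agent.S1262
import Cfsg.Agent.Lib.helper23.Fitting

set_option autoImplicit false
open Cfsg

namespace Cfsg.Agent.S3750

open scoped Pointwise


/-- Call a proper subgroup M of G primitive when M = N_G(N) for every non-trivial normal subgroup N of M. Let M be a primitive subgroup of the finite group G and N a normal subgroup of G with M ∩ F*(N) ≠ 1. Then F(G) = 1 and F*(N) = F*(G) = E(G); in particular every minimal normal subgroup of G is contained in N. -/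
theorem result {G : Type*} [Group G] [Finite G] (M : Subgroup G) (hM : M ≠ ⊤) (hprim : ∀ N : Subgroup G, N ≤ M → M ≤ Subgroup.normalizer (N : Set G) → N ≠ ⊥ → Subgroup.normalizer (N : Set G) = M) (N : Subgroup G) [N.Normal] (hMF : M ⊓ (Cfsg.generalizedFittingSubgroup ↥N).map N.subtype ≠ ⊥) : Cfsg.fittingSubgroup G = ⊥ ∧ (Cfsg.generalizedFittingSubgroup ↥N).map N.subtype = Cfsg.generalizedFittingSubgroup G ∧ Cfsg.generalizedFittingSubgroup G = Cfsg.layer G ∧ ∀ K : Subgroup G, K.Normal → K ≠ ⊥ → (∀ K' : Subgroup G, K'.Normal → K' ≤ K → K' = ⊥ ∨ K' = K) → K ≤ N := by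
  have hFsn : (Cfsg.generalizedFittingSubgroup G).Normal :=
    Cfsg.Agent.Lib.Helper12.generalizedFittingSubgroup_normal G
  have hAn : (Cfsg.fittingSubgroup G).Normal := Cfsg.Agent.Lib.helper23.fittingSubgroup_normal G
  have hAnil : Group.IsNilpotent (Cfsg.fittingSubgroup G) :=
    Cfsg.Agent.Lib.helper23.fittingSubgroup_isNilpotent G
  have hD : (Cfsg.generalizedFittingSubgroup ↥N).map N.subtype =
      Cfsg.generalizedFittingSubgroup G ⊓ N := (Cfsg.Agent.S1320.result N).symm
  rw [hD] at hMF ⊢
  set Fs := Cfsg.generalizedFittingSubgroup G with hFs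
  set A := Cfsg.fittingSubgroup G with hA
  set L := M ⊓ (Fs ⊓ N) with hL
  have hDn : (Fs ⊓ N : Subgroup G).Normal := inferInstance
  have hML : M ≤ Subgroup.normalizer (L : Set G) := by
    rw [Subgroup.le_normalizer_iff]
    intro m hm x hx
    exact ⟨M.mul_mem (M.mul_mem hm hx.1) (M.inv_mem hm), hDn.conj_mem x hx.2 m⟩
  have hNL : Subgroup.normalizer (L : Set G) = M := hprim L inf_le_left hML hMF
  -- no nontrivial normal subgroup of G lies in M
  have KF : ∀ K : Subgroup G, K.Normal → K ≤ M → K = ⊥ := by
    intro K hK hKM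
    by_contra hK0
    have h1 : M ≤ Subgroup.normalizer (K : Set G) := by
      rw [Subgroup.normalizer_eq_top_iff.mpr hK]; exact le_top
    have h2 := hprim K hKM h1 hK0
    rw [Subgroup.normalizer_eq_top_iff.mpr hK] at h2
    exact hM h2.symm
  have hcentL : Subgroup.centralizer (L : Set G) ≤ M := by
    rw [← hNL]; exact Subgroup.centralizer_le_normalizer _
  -- layer centralizes Fitting subgroup
  have hEA : Cfsg.layer G ≤ Subgroup.centralizer (A : Set G) := by
    apply sSup_le
    intro K hK
    have h1 : ⁅K, A⁆ = ⊥ := by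
      apply Cfsg.Agent.S1262.result K A hK inferInstance
      rw [Subgroup.normalizer_eq_top_iff.mpr hAn]; exact le_top
    exact Subgroup.commutator_eq_bot_iff_le_centralizer.mp h1
  -- (1) F(G) = 1
  have hF : A = ⊥ := by
    by_contra hA0
    have hnt : Nontrivial A := (Subgroup.nontrivial_iff_ne_bot A).mpr hA0
    have hZ0 : Subgroup.center ↥A ≠ ⊥ := Group.IsNilpotent.center_ne_bot ↥A
    obtain ⟨z, hz1⟩ := (Subgroup.ne_bot_iff_exists_ne_one).mp hZ0
    have hZn : (A ⊓ Subgroup.centralizer (A : Set G) : Subgroup G).Normal := by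
      have : (Subgroup.centralizer (A : Set G)).Normal := Subgroup.normal_centralizer
      infer_instance
    have hzZ : ((z : A) : G) ∈ A ⊓ Subgroup.centralizer (A : Set G) := by
      refine ⟨(z : A).2, ?_⟩
      change ((z : A) : G) ∈ Subgroup.centralizer (A : Set G)
      rw [Subgroup.mem_centralizer_iff]
      intro a ha
      have := Subgroup.mem_center_iff.mp z.2 ⟨a, ha⟩
      exact congrArg Subtype.val this
    have hZM : A ⊓ Subgroup.centralizer (A : Set G) ≤ M := by
      intro y hy
      apply hcentL
      rw [Subgroup.mem_centralizer_iff]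
      intro x hx
      -- x ∈ L ≤ Fs = layer ⊔ A, and y centralizes both
      have hxFs : x ∈ Fs := hx.2.1
      have hle : Fs ≤ Subgroup.centralizer ({y} : Set G) := by
        rw [hFs]
        unfold Cfsg.generalizedFittingSubgroup
        apply sup_le
        · intro e he
          rw [Subgroup.mem_centralizer_iff]
          intro w hw
          rw [Set.mem_singleton_iff] at hw
          rw [hw]
          exact ((Subgroup.mem_centralizer_iff.mp (hEA he)) y hy.1)
        · intro a ha
          rw [Subgroup.mem_centralizer_iff]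
          intro w hw
          rw [Set.mem_singleton_iff] at hw
          rw [hw]
          exact ((Subgroup.mem_centralizer_iff.mp hy.2) a ha).symm
      exact ((Subgroup.mem_centralizer_iff.mp (hle hxFs)) y rfl).symm
    have hZbot := KF _ hZn hZM
    rw [hZbot, Subgroup.mem_bot] at hzZ
    apply hz1
    apply Subtype.ext
    apply Subtype.ext
    exact hzZ
  -- (2) C_G(N) = 1
  have hCN : Subgroup.centralizer (N : Set G) = ⊥ := by
    apply KF _ Subgroup.normal_centralizer
    refine le_trans ?_ hcentL
    apply Subgroup.centralizer_le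
    intro x hx
    exact hx.2.2
  -- (3) layer ≤ N
  have hEN : Cfsg.layer G ≤ N := by
    apply sSup_le
    intro K hK
    rcases Cfsg.Agent.S1261.result K N hK (Subgroup.Normal.isSubnormal inferInstance) with h | h
    · exact h
    · have h1 : K ≤ Subgroup.centralizer (N : Set G) :=
        Subgroup.commutator_eq_bot_iff_le_centralizer.mp h
      rw [hCN] at h1
      exact h1.trans bot_le
  have hFsE : Fs = Cfsg.layer G := by
    rw [hFs]
    unfold Cfsg.generalizedFittingSubgroup
    rw [← hA, hF, sup_bot_eq]
  refine ⟨hF, ?_, hFsE, ?_⟩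
  · rw [hFsE]
    exact inf_eq_left.mpr hEN
  · intro K hK hK0 hKmin
    have hKN : (K ⊓ N : Subgroup G).Normal := inferInstance
    rcases hKmin (K ⊓ N) hKN inf_le_left with h | h
    · exfalso
      apply hK0
      have h1 : ⁅K, N⁆ ≤ K ⊓ N := Subgroup.commutator_le_inf K N
      rw [h, le_bot_iff] at h1
      have h2 : K ≤ Subgroup.centralizer (N : Set G) :=
        Subgroup.commutator_eq_bot_iff_le_centralizer.mp h1
      rw [hCN] at h2
      exact le_bot_iff.mp h2
    · rw [← h]; exact inf_le_right

end Cfsg.Agent.S3750
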