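import Cfsg.Statements.S3751
import Cfsg.Agent.Lib.helper17.Op
import Cfsg.Agent.Lib.Lead.Coprime

set_option autoImplicit false
open Cfsg

namespace Cfsg.Agent.S3751

open Cfsg.Agent.Lib.helper17
open scoped Pointwise

section
variable {G : Type*} [Group G]

/-- p-local subgroups -/
def IsL (p : ℕ) (L : Subgroup G) : Prop :=
  ∃ T : Subgroup G, IsPGroup p T ∧ T ≠ ⊥ ∧ L = Subgroup.normalizer (T : Set G)

/-- maximal p-local subgroups -/
def IsM (p : ℕ) (M : Subgroup G) : Prop :=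
  IsL p M ∧ ∀ L : Subgroup G, IsL p L → M ≤ L → L = M

/-- `T` is a maximal `p`-subgroup of `M` -/
def SylIn (p : ℕ) (T M : Subgroup G) : Prop :=
  ∀ T' : Subgroup G, IsPGroup p T' → T ≤ T' → T' ≤ M → T' = T

/-- `C_L(O_p(L)) ≤ O_p(L)` -/
def CharP (p : ℕ) (L : Subgroup G) : Prop :=
  Subgroup.centralizer (Cfsg.pCore p ↥L : Set ↥L) ≤ Cfsg.pCore p ↥L

theorem charP_ambient {p : ℕ} {L : Subgroup G} (h : CharP p L) {x : G} (hx : x ∈ L)
    (hc : ∀ y ∈ Cfsg.pCoreOf p L, x * y = y * x) : x ∈ Cfsg.pCoreOf p L := by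
  have h1 : (⟨x, hx⟩ : L) ∈ Subgroup.centralizer (Cfsg.pCore p ↥L : Set ↥L) := by
    rw [Subgroup.mem_centralizer_iff]
    intro y hy
    apply Subtype.ext
    have : ((y : L) : G) ∈ Cfsg.pCoreOf p L := ⟨y, hy, rfl⟩
    exact (hc _ this).symm
  exact ⟨⟨x, hx⟩, h h1, rfl⟩

theorem isL_cj {p : ℕ} {L : Subgroup G} (hL : IsL p L) (g : G) : IsL p (cj g L) := by
  obtain ⟨T, hT, hT0, rfl⟩ := hL
  exact ⟨cj g T, isPGroup_cj hT, fun h => hT0 (cj_eq_bot_iff.mp h), (normalizer_cj g T).symm⟩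

theorem isM_cj {p : ℕ} {M : Subgroup G} (hM : IsM p M) (g : G) : IsM p (cj g M) := by
  refine ⟨isL_cj hM.1 g, ?_⟩
  intro L hL hle
  have h1 : M ≤ cj g⁻¹ L := cj_le_iff.mp hle
  have h2 := hM.2 _ (isL_cj hL g⁻¹) h1
  rw [← h2, cj_cj_inv]

variable [Finite G]

theorem exists_isM_ge {p : ℕ} {L : Subgroup G} (hL : IsL p L) : ∃ M, IsM p M ∧ L ≤ M := by
  have hfin : {L' : Subgroup G | IsL p L' ∧ L ≤ L'}.Finite := Set.toFinite _
  obtain ⟨M, hM⟩ := hfin.exists_maximal ⟨L, hL, le_rfl⟩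
  refine ⟨M, ⟨hM.1.1, ?_⟩, hM.1.2⟩
  intro L' hL' hle
  exact le_antisymm (hM.2 ⟨hL', hM.1.2.trans hle⟩ hle) hle

variable {p : ℕ} [Fact p.Prime]

theorem isPGroup_ne_bot_dvd {T : Subgroup G} (hT : IsPGroup p T) (hT0 : T ≠ ⊥) :
    p ∣ Nat.card T := by
  obtain ⟨k, hk⟩ := IsPGroup.iff_card.mp hT
  have hk0 : k ≠ 0 := by
    rintro rfl
    rw [pow_zero] at hk
    exact hT0 (Subgroup.card_eq_one.mp hk)
  rw [hk]; exact dvd_pow_self p hk0

/-- in a maximal p-local of characteristic p, a nontrivial normal subgroup has normalizer inside -/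
theorem normalizer_le_of_isM {M : Subgroup G} (hM : IsM p M) (hc : CharP p M)
    (A : Subgroup G) (hA0 : A ≠ ⊥) (hAM : A ≤ M) (hMA : M ≤ Subgroup.normalizer (A : Set G)) :
    Subgroup.normalizer (A : Set G) ≤ M := by
  set Q := Cfsg.pCoreOf p M with hQ
  have hQM : Q ≤ M := pCoreOf_le p M
  have hMQ : M ≤ Subgroup.normalizer (Q : Set G) := le_normalizer_pCoreOf p M
  have hQp : IsPGroup p Q := pCoreOf_isPGroup p M
  have hAQ : A ⊓ Q ≠ ⊥ := by
    intro hbot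
    apply hA0
    have hle : A ≤ Q := by
      intro a ha
      apply charP_ambient hc (hAM ha)
      intro q hq
      have h1 : a * q * a⁻¹ * q⁻¹ ∈ A ⊓ Q := by
        constructor
        · have : q * a⁻¹ * q⁻¹ ∈ A :=
            (Subgroup.le_normalizer_iff.mp hMA) q (hQM hq) a⁻¹ (A.inv_mem ha)
          have e : a * q * a⁻¹ * q⁻¹ = a * (q * a⁻¹ * q⁻¹) := by group
          rw [e]; exact A.mul_mem ha this
        · have : a * q * a⁻¹ ∈ Q := (Subgroup.le_normalizer_iff.mp hMQ) a (hAM ha) q hq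
          exact Q.mul_mem this (Q.inv_mem hq)
      rw [hbot, Subgroup.mem_bot] at h1
      have e : a * q = (a * q * a⁻¹ * q⁻¹) * (q * a) := by group
      rw [e, h1, one_mul]
    rw [eq_bot_iff, ← hbot]
    exact le_inf le_rfl hle
  set R := Cfsg.pCoreOf p A with hR
  have hAQR : A ⊓ Q ≤ R := by
    apply le_pCoreOf inf_le_left (hQp.to_le inf_le_right)
    rw [Subgroup.le_normalizer_iff]
    intro a ha x hx
    exact ⟨A.mul_mem (A.mul_mem ha hx.1) (A.inv_mem ha),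
      (Subgroup.le_normalizer_iff.mp hMQ) a (hAM ha) x hx.2⟩
  have hR0 : R ≠ ⊥ := fun h => hAQ (le_bot_iff.mp (h ▸ hAQR))
  have hNR : IsL p (Subgroup.normalizer (R : Set G)) := ⟨R, pCoreOf_isPGroup p A, hR0, rfl⟩
  have hAR : Subgroup.normalizer (A : Set G) ≤ Subgroup.normalizer (R : Set G) :=
    normalizer_le_normalizer_pCoreOf p A
  have := hM.2 _ hNR (hMA.trans hAR)
  rw [← this]; exact hAR

theorem normalizer_eq_self_of_isM {M : Subgroup G} (hM : IsM p M) (hc : CharP p M) :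
    Subgroup.normalizer (M : Set G) = M := by
  apply le_antisymm _ Subgroup.le_normalizer
  apply normalizer_le_of_isM hM hc M _ le_rfl Subgroup.le_normalizer
  obtain ⟨T, hT, hT0, rfl⟩ := hM.1
  intro h
  apply hT0
  rw [eq_bot_iff, ← h]
  exact Subgroup.le_normalizer

theorem pCoreOf_le_of_sylIn {T M : Subgroup G} (hT : IsPGroup p T) (hTM : T ≤ M)
    (hS : SylIn p T M) : Cfsg.pCoreOf p M ≤ T := by
  have hTQ : T ≤ Subgroup.normalizer ((Cfsg.pCoreOf p M : Subgroup G) : Set G) :=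
    hTM.trans (le_normalizer_pCoreOf p M)
  have h1 : IsPGroup p (T ⊔ Cfsg.pCoreOf p M : Subgroup G) :=
    hT.to_sup_of_normal_right' (pCoreOf_isPGroup p M) hTQ
  have h2 := hS _ h1 le_sup_left (sup_le hTM (pCoreOf_le p M))
  rw [← h2]; exact le_sup_right

/-- a non-maximal p-subgroup of `M` is normalized by a p-element of `M` outside it -/
theorem exists_grow {T M : Subgroup G} (hT : IsPGroup p T) (hTM : T ≤ M)
    (hnS : ¬ SylIn p T M) :
    ∃ t ∈ M, t ∈ Subgroup.normalizer (T : Set G) ∧ t ∉ T ∧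
      IsPGroup p (T ⊔ Subgroup.zpowers t : Subgroup G) := by
  unfold SylIn at hnS
  push Not at hnS
  obtain ⟨T', hT', hle, hT'M, hne⟩ := hnS
  have hlt : T < T' := lt_of_le_of_ne hle (Ne.symm hne)
  have hnil : Group.IsNilpotent T' := hT'.isNilpotent
  obtain ⟨t, htT', htN, htT⟩ := Cfsg.Agent.Lib.Lead.exists_mem_normalizer_not_mem T T' hlt hnil
  refine ⟨t, hT'M htT', htN, htT, hT'.to_le (sup_le hle ?_)⟩
  rw [Subgroup.zpowers_le]; exact htT'

/-- the pair lemma -/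
theorem pair_of_sylIn (hloc : ∀ T : Subgroup G, IsPGroup p T → T ≠ ⊥ →
      CharP p (Subgroup.normalizer (T : Set G)))
    (M₁ M₂ : Subgroup G) (hM₁ : IsM p M₁) (hM₂ : IsM p M₂) (hne : M₁ ≠ M₂)
    (T : Subgroup G) (hT : IsPGroup p T) (hT₁ : T ≤ M₁) (hT₂ : T ≤ M₂)
    (hS₁ : SylIn p T M₁) (hS₂ : SylIn p T M₂) :
    ∃ M₁ M₂ : Subgroup G, M₁ ≠ M₂ ∧ (∀ A : Subgroup G, A ≠ ⊥ → A ≤ M₁ ⊓ M₂ → (M₁ ≤ Subgroup.normalizer (A : Set G) → M₂ ⊓ Subgroup.normalizer (A : Set G) = M₁ ⊓ M₂) ∧ (M₂ ≤ Subgroup.normalizer (A : Set G) → M₁ ⊓ Subgroup.normalizer (A : Set G) = M₁ ⊓ M₂)) ∧ Subgroup.centralizer (Cfsg.pCore p ↥M₁ : Set ↥M₁) ≤ Cfsg.pCore p ↥M₁ ∧ Subgroup.centralizer (Cfsg.pCore p ↥M₂ : Set ↥M₂) ≤ Cfsg.pCore p ↥M₂ ∧ (Cfsg.pCore p ↥M₁).map M₁.subtype ⊔ (Cfsg.pCore p ↥M₂).map M₂.subtype ≤ M₁ ⊓ M₂ := by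
  have hc₁ : CharP p M₁ := by
    obtain ⟨T₁, hT₁p, hT₁0, rfl⟩ := hM₁.1
    exact hloc T₁ hT₁p hT₁0
  have hc₂ : CharP p M₂ := by
    obtain ⟨T₂, hT₂p, hT₂0, rfl⟩ := hM₂.1
    exact hloc T₂ hT₂p hT₂0
  refine ⟨M₁, M₂, hne, ?_, hc₁, hc₂, ?_⟩
  · intro A hA0 hA
    constructor
    · intro h
      have h1 := normalizer_le_of_isM hM₁ hc₁ A hA0 (hA.trans inf_le_left) h
      have h2 : Subgroup.normalizer (A : Set G) = M₁ := le_antisymm h1 h
      rw [h2, inf_comm]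
    · intro h
      have h1 := normalizer_le_of_isM hM₂ hc₂ A hA0 (hA.trans inf_le_right) h
      have h2 : Subgroup.normalizer (A : Set G) = M₂ := le_antisymm h1 h
      rw [h2]
  · have h1 : Cfsg.pCoreOf p M₁ ≤ T := pCoreOf_le_of_sylIn hT hT₁ hS₁
    have h2 : Cfsg.pCoreOf p M₂ ≤ T := pCoreOf_le_of_sylIn hT hT₂ hS₂
    exact sup_le (h1.trans (le_inf hT₁ hT₂)) (h2.trans (le_inf hT₁ hT₂))

end


/-- Two distinct subgroups M₁, M₂ of G form a primitive pair when, for {i, j} = {1, 2}, every non-trivial normal subgroup A of M_i contained in M₁ ∩ M₂ satisfies N_{M_j}(A) = M₁ ∩ M₂; the pair has characteristic p when moreover C_{M_i}(O_p(M_i)) ≤ O_p(M_i) for both i and O_p(M₁)O_p(M₂) ≤ M₁ ∩ M₂. Let G be a finite group, p a prime dividing its order, with O_p(G) = 1 and every p-local subgroup of characteristic p. Then either G has a primitive pair of characteristic p, or every maximal p-local subgroup M of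 G is strongly p-embedded in G: M is a proper subgroup, p divides its order, and for every g ∉ M the order of M ∩ gMg⁻¹ is prime to p. -/
theorem result {G : Type*} [Group G] [Finite G] {p : ℕ} [Fact p.Prime] (hloc : Cfsg.IsOfLocalCharacteristic p G) (hOp : Cfsg.pCore p G = ⊥) : (∃ M₁ M₂ : Subgroup G, M₁ ≠ M₂ ∧ (∀ A : Subgroup G, A ≠ ⊥ → A ≤ M₁ ⊓ M₂ → (M₁ ≤ Subgroup.normalizer (A : Set G) → M₂ ⊓ Subgroup.normalizer (A : Set G) = M₁ ⊓ M₂) ∧ (M₂ ≤ Subgroup.normalizer (A : Set G) → M₁ ⊓ Subgroup.normalizer (A : Set G) = M₁ ⊓ M₂)) ∧ Subgroup.centralizer (Cfsg.pCore p ↥M₁ : Set ↥M₁) ≤ Cfsg.pCore p ↥M₁ ∧ Subgroup.centralizer (Cfsg.pCore p ↥M₂ : Set ↥M₂) ≤ Cfsg.pCore p ↥M₂ ∧ (Cfsg.pCore p ↥M₁).map M₁.subtype ⊔ (Cfsg.pCore p ↥M₂).map M₂.subtype ≤ M₁ ⊓ M₂) ∨ (∀ M : Subgroup G, (∃ T : Subgroup G, IsPGroup p T ∧ T ≠ ⊥ ∧ M = Subgroup.normalizer (T : Set G)) → (∀ L : Subgroup G, (∃ T : Subgroup G, IsPGroup p T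 ∧ T ≠ ⊥ ∧ L = Subgroup.normalizer (T : Set G)) → M ≤ L → L = M) → M ≠ ⊤ ∧ p ∣ Nat.card M ∧ ∀ g : G, g ∉ M → ¬ p ∣ Nat.card ↥(M ⊓ M.map (MulAut.conj g).toMonoidHom)) := by
  classical
  have hp : p.Prime := Fact.out
  have hlocC : ∀ T : Subgroup G, IsPGroup p T → T ≠ ⊥ →
      CharP p (Subgroup.normalizer (T : Set G)) := hloc.2
  have hcharM : ∀ M : Subgroup G, IsM p M → CharP p M := by
    intro M hM
    obtain ⟨T, hT, hT0, rfl⟩ := hM.1
    exact hlocC T hT hT0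
  by_cases hse : ∀ M : Subgroup G, IsM p M → ∀ g : G, g ∉ M →
      ¬ p ∣ Nat.card ↥(M ⊓ M.map (MulAut.conj g).toMonoidHom)
  · right
    intro M hM1 hM2
    refine ⟨?_, ?_, hse M ⟨hM1, hM2⟩⟩
    · obtain ⟨T, hT, hT0, rfl⟩ := hM1
      intro htop
      have hTn : T.Normal := Subgroup.normalizer_eq_top_iff.mp htop
      have : T ≤ Cfsg.pCore p G := le_pCore hTn hT
      rw [hOp] at this
      exact hT0 (le_bot_iff.mp this)
    · obtain ⟨T, hT, hT0, rfl⟩ := hM1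
      exact dvd_trans (isPGroup_ne_bot_dvd hT hT0) (Subgroup.card_dvd_of_le Subgroup.le_normalizer)
  · left
    push Not at hse
    obtain ⟨M, hM, g, hgM, hdvd⟩ := hse
    -- a subgroup of order p in M ⊓ cj g M
    obtain ⟨x, hx⟩ := exists_prime_orderOf_dvd_card' (G := ↥(M ⊓ cj g M)) p hdvd
    have hxG : orderOf (x : G) = p := by rw [Subgroup.orderOf_coe]; exact hx
    set T₀ : Subgroup G := Subgroup.zpowers (x : G) with hT₀
    have hT₀card : Nat.card T₀ = p := by rw [hT₀, Nat.card_zpowers, hxG]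
    have hT₀p : IsPGroup p T₀ := IsPGroup.of_card (n := 1) (by rw [hT₀card, pow_one])
    have hT₀0 : T₀ ≠ ⊥ := by
      intro h
      rw [h, Subgroup.card_bot] at hT₀card
      exact hp.one_lt.ne hT₀card
    have hT₀le : T₀ ≤ M ⊓ cj g M := by
      rw [hT₀, Subgroup.zpowers_le]; exact x.2
    have hMg : IsM p (cj g M) := isM_cj hM g
    have hMne : M ≠ cj g M := by
      intro h
      apply hgM
      have : g ∈ Subgroup.normalizer (M : Set G) := cj_eq_self_iff.mp h.symm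
      rwa [normalizer_eq_self_of_isM hM (hcharM M hM)] at this
    -- the family
    set 𝒯 : Set (Subgroup G) := {T | IsPGroup p T ∧ T ≠ ⊥ ∧
      ∃ M₁ M₂ : Subgroup G, IsM p M₁ ∧ IsM p M₂ ∧ M₁ ≠ M₂ ∧ T ≤ M₁ ∧ T ≤ M₂} with h𝒯
    have hne𝒯 : 𝒯.Nonempty :=
      ⟨T₀, hT₀p, hT₀0, M, cj g M, hM, hMg, hMne, hT₀le.trans inf_le_left, hT₀le.trans inf_le_right⟩
    obtain ⟨T, hT𝒯, hTmax⟩ := Set.exists_max_image 𝒯 (fun T => Nat.card T) (Set.toFinite _) hne𝒯
    obtain ⟨hTp, hT0, M₁, M₂, hM₁, hM₂, hne, hT₁, hT₂⟩ := hT𝒯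
    -- helper for the non-Sylow case
    have key : ∀ M₁ M₂ : Subgroup G, IsM p M₁ → IsM p M₂ → M₁ ≠ M₂ → T ≤ M₁ → T ≤ M₂ →
        ¬ SylIn p T M₂ → ∃ M₁ M₂ : Subgroup G, M₁ ≠ M₂ ∧ (∀ A : Subgroup G, A ≠ ⊥ → A ≤ M₁ ⊓ M₂ → (M₁ ≤ Subgroup.normalizer (A : Set G) → M₂ ⊓ Subgroup.normalizer (A : Set G) = M₁ ⊓ M₂) ∧ (M₂ ≤ Subgroup.normalizer (A : Set G) → M₁ ⊓ Subgroup.normalizer (A : Set G) = M₁ ⊓ M₂)) ∧ Subgroup.centralizer (Cfsg.pCore p ↥M₁ : Set ↥M₁) ≤ Cfsg.pCore p ↥M₁ ∧ Subgroup.centralizer (Cfsg.pCore p ↥M₂ : Set ↥M₂) ≤ Cfsg.pCore p ↥M₂ ∧ (Cfsg.pCore p ↥M₁).map M₁.subtype ⊔ (Cfsg.pCore p ↥M₂).map M₂.subtype ≤ M₁ ⊓ M₂ := by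
      intro M₁ M₂ hM₁ hM₂ hne hT₁ hT₂ hnS
      obtain ⟨t, htM₂, htN, htT, hTsp⟩ := exists_grow hTp hT₂ hnS
      have hlt : T < T ⊔ Subgroup.zpowers t := by
        refine lt_of_le_of_ne le_sup_left ?_
        intro h
        apply htT
        rw [h]
        exact Subgroup.mem_sup_right (Subgroup.mem_zpowers t)
      have hcardlt := Cfsg.Agent.Lib.Lead.card_lt_card_of_lt hlt
      have hTs0 : (T ⊔ Subgroup.zpowers t : Subgroup G) ≠ ⊥ := by
        intro h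
        apply hT0
        rw [eq_bot_iff, ← h]; exact le_sup_left
      have hTsM₂ : T ⊔ Subgroup.zpowers t ≤ M₂ :=
        sup_le hT₂ (by rw [Subgroup.zpowers_le]; exact htM₂)
      have uniq : ∀ M' : Subgroup G, IsM p M' → T ⊔ Subgroup.zpowers t ≤ M' → M' = M₂ := by
        intro M' hM' hle
        by_contra hne'
        have : (T ⊔ Subgroup.zpowers t : Subgroup G) ∈ 𝒯 :=
          ⟨hTsp, hTs0, M', M₂, hM', hM₂, hne', hle, hTsM₂⟩
        have := hTmax _ this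
        omega
      have htM₁ : t ∉ M₁ := by
        intro h
        apply hne
        exact uniq M₁ hM₁ (sup_le hT₁ (by rw [Subgroup.zpowers_le]; exact h))
      have hS₁ : SylIn p T M₁ := by
        by_contra hnS₁
        obtain ⟨s, hsM₁, hsN, hsT, hTsp'⟩ := exists_grow hTp hT₁ hnS₁
        have hlt' : T < T ⊔ Subgroup.zpowers s := by
          refine lt_of_le_of_ne le_sup_left ?_
          intro h
          apply hsT
          rw [h]
          exact Subgroup.mem_sup_right (Subgroup.mem_zpowers s)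
        have hcardlt' := Cfsg.Agent.Lib.Lead.card_lt_card_of_lt hlt'
        have hTs0' : (T ⊔ Subgroup.zpowers s : Subgroup G) ≠ ⊥ := by
          intro h
          apply hT0
          rw [eq_bot_iff, ← h]; exact le_sup_left
        have hTsM₁ : T ⊔ Subgroup.zpowers s ≤ M₁ :=
          sup_le hT₁ (by rw [Subgroup.zpowers_le]; exact hsM₁)
        have uniq' : ∀ M' : Subgroup G, IsM p M' → T ⊔ Subgroup.zpowers s ≤ M' → M' = M₁ := by
          intro M' hM' hle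
          by_contra hne'
          have : (T ⊔ Subgroup.zpowers s : Subgroup G) ∈ 𝒯 :=
            ⟨hTsp', hTs0', M', M₁, hM', hM₁, hne', hle, hTsM₁⟩
          have := hTmax _ this
          omega
        obtain ⟨M', hM', hNM'⟩ := exists_isM_ge (p := p)
          (⟨T, hTp, hT0, rfl⟩ : IsL p (Subgroup.normalizer (T : Set G)))
        have e1 : M' = M₂ := uniq M' hM'
          ((sup_le Subgroup.le_normalizer (by rw [Subgroup.zpowers_le]; exact htN)).trans hNM')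
        have e2 : M' = M₁ := uniq' M' hM'
          ((sup_le Subgroup.le_normalizer (by rw [Subgroup.zpowers_le]; exact hsN)).trans hNM')
        exact hne (e2.symm.trans e1)
      -- the pair (M₁, cj t M₁)
      have hcjT : cj t T = T := cj_eq_self_iff.mpr htN
      have hTcj : T ≤ cj t M₁ := by
        rw [← hcjT]; exact cj_mono hT₁
      have hne' : M₁ ≠ cj t M₁ := by
        intro h
        apply htM₁
        have : t ∈ Subgroup.normalizer (M₁ : Set G) := cj_eq_self_iff.mp h.symm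
        rwa [normalizer_eq_self_of_isM hM₁ (hcharM M₁ hM₁)] at this
      have hScj : SylIn p T (cj t M₁) := by
        intro T' hT' hle hT'M
        have h1 : cj t⁻¹ T' ≤ M₁ := by
          have := cj_mono (g := t⁻¹) hT'M
          rwa [cj_inv_cj] at this
        have h2 : T ≤ cj t⁻¹ T' := by
          have := cj_mono (g := t⁻¹) hle
          rw [← hcjT, cj_inv_cj] at this
          exact this
        have h3 := hS₁ _ (isPGroup_cj hT') h2 h1
        have h4 : cj t (cj t⁻¹ T') = cj t T := by rw [h3]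
        rw [cj_cj_inv, hcjT] at h4
        exact h4
      exact pair_of_sylIn hlocC M₁ (cj t M₁) hM₁ (isM_cj hM₁ t) hne' T hTp hT₁ hTcj hS₁ hScj
    by_cases hS₂ : SylIn p T M₂
    · by_cases hS₁ : SylIn p T M₁
      · exact pair_of_sylIn hlocC M₁ M₂ hM₁ hM₂ hne T hTp hT₁ hT₂ hS₁ hS₂
      · exact key M₂ M₁ hM₂ hM₁ (Ne.symm hne) hT₂ hT₁ hS₁
    · exact key M₁ M₂ hM₁ hM₂ hne hT₁ hT₂ hS₂

end Cfsg.Agent.S3751
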