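import Cfsg.Statements.S3754
import Cfsg.Agent.Lib.Helper20.PSolvLiftE
import Cfsg.Agent.Lib.Helper5.PConstrDual
import Cfsg.Agent.Lib.Helper1.Frat
import Cfsg.Agent.Lib.Helper1.Fitting
import Cfsg.Agent.Lib.Helper1.Cores
import Cfsg.Agent.Lib.helper17.PClosed

set_option autoImplicit false
open Cfsg

namespace Cfsg.Agent.S3754

open scoped commutatorElement


/-- Let M be a finite p-soluble group and A a p-subgroup of M with Φ(A) ≤ O_p(M) but A ≰ O_p(M). Then there is x ∈ O_{p,p'}(M) such that L = ⟨A, xAx⁻¹⟩ satisfies: x ∈ O^p(L) and O^p(L) ≤ O_{p,p'}(M); [O^p(L), A] = O^p(L); A ∩ O_p(L) has index p in A; and [A ∩ O_p(L), L] ≤ O_p(M). Here O^p(L) is the subgroup generated by the p'-elements of L and O_{p,p'}(M) the preimage of O_{p'}(M/O_p(M)). -/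
theorem result {M : Type*} [Group M] [Finite M] {p : ℕ} [Fact p.Prime] (hM : Cfsg.IsPSolvable p M) (A : Subgroup M) (hA : IsPGroup p A) (hΦ : (frattini ↥A).map A.subtype ≤ Cfsg.pCore p M) (hnot : ¬ A ≤ Cfsg.pCore p M) : ∃ x ∈ (Cfsg.pPrimeCore p (M ⧸ Cfsg.pCore p M)).comap (QuotientGroup.mk' (Cfsg.pCore p M)), x ∈ (Cfsg.pResidual p ↥(A ⊔ A.map (MulAut.conj x).toMonoidHom)).map (A ⊔ A.map (MulAut.conj x).toMonoidHom).subtype ∧ (Cfsg.pResidual p ↥(A ⊔ A.map (MulAut.conj x).toMonoidHom)).map (A ⊔ A.map (MulAut.conj x).toMonoidHom).subtype ≤ (Cfsg.pPrimeCore p (M ⧸ Cfsg.pCore p M)).comap (QuotientGroup.mk' (Cfsg.pCore p M)) ∧ ⁅(Cfsg.pResidual p ↥(A ⊔ A.map (MulAut.conj x).toMonoidHom)).map (A ⊔ A.map (MulAut.conj x).toMonoidHom).subtype, A⁆ = (Cfsg.pResidual p ↥(A ⊔ A.map (MulAut.conj x).toMonoidHom)).map (A ⊔ A.map (MulAut.conj x).toMonoidHom).subtype ∧ (A ⊓ (Cfsg.pCore p ↥(A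 ⊔ A.map (MulAut.conj x).toMonoidHom)).map (A ⊔ A.map (MulAut.conj x).toMonoidHom).subtype).relIndex A = p ∧ ⁅A ⊓ (Cfsg.pCore p ↥(A ⊔ A.map (MulAut.conj x).toMonoidHom)).map (A ⊔ A.map (MulAut.conj x).toMonoidHom).subtype, A ⊔ A.map (MulAut.conj x).toMonoidHom⁆ ≤ Cfsg.pCore p M := by
  have hR : IsPGroup p (Cfsg.pCore p M) := Cfsg.Agent.Lib.Helper1.pCore_isPGroup p
  have hO : Cfsg.pCore p (M ⧸ Cfsg.pCore p M) = ⊥ := by
    rw [Cfsg.Agent.Lib.helper17.pCore_quotient (Cfsg.pCore p M) hR]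
    exact QuotientGroup.map_mk'_self _
  have hsol : Cfsg.IsPSolvable p (M ⧸ Cfsg.pCore p M) :=
    Cfsg.Agent.Lib.Helper5.h5_isPSolvable_of_surjective (QuotientGroup.mk' _)
      (QuotientGroup.mk'_surjective _) hM
  have hC := Cfsg.Agent.Lib.Helper5.h5_centralizer_pPrimeCore_le hsol hO
  have hKb : (Nat.card (Cfsg.pPrimeCore p (M ⧸ Cfsg.pCore p M))).Coprime p :=
    Cfsg.Agent.Lib.Helper1.pPrimeCore_card_coprime p
  have hcomm : ∀ a ∈ A, ∀ b ∈ A, ⁅a, b⁆ ∈ Cfsg.pCore p M := by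
    intro a ha b hb
    apply hΦ
    have h1 : ⁅(⟨a, ha⟩ : A), ⟨b, hb⟩⁆ ∈ frattini ↥A :=
      Cfsg.Agent.Lib.Helper1.pgroup_commutator_le_frattini hA
        (Subgroup.commutator_mem_commutator (Subgroup.mem_top _) (Subgroup.mem_top _))
    exact ⟨_, h1, rfl⟩
  have hpow : ∀ a ∈ A, a ^ p ∈ Cfsg.pCore p M := by
    intro a ha
    apply hΦ
    have h1 : (⟨a, ha⟩ : A) ^ p ∈ frattini ↥A :=
      Cfsg.Agent.Lib.Helper1.pgroup_pow_mem_frattini hA _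
    exact ⟨_, h1, rfl⟩
  have hAb : Cfsg.IsElementaryAbelian p (A.map (QuotientGroup.mk' (Cfsg.pCore p M))) := by
    refine ⟨⟨⟨?_⟩⟩, ?_⟩
    · rintro ⟨_, a, ha, rfl⟩ ⟨_, b, hb, rfl⟩
      apply Subtype.ext
      show QuotientGroup.mk' (Cfsg.pCore p M) a * QuotientGroup.mk' (Cfsg.pCore p M) b =
        QuotientGroup.mk' (Cfsg.pCore p M) b * QuotientGroup.mk' (Cfsg.pCore p M) a
      have h := (QuotientGroup.eq_one_iff (N := Cfsg.pCore p M) ⁅a, b⁆).mpr (hcomm a ha b hb)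
      have h' : QuotientGroup.mk' (Cfsg.pCore p M) ⁅a, b⁆ = 1 := h
      rw [map_commutatorElement, commutatorElement_eq_one_iff_mul_comm] at h'
      exact h'
    · rintro _ ⟨a, ha, rfl⟩
      rw [← map_pow]
      exact (QuotientGroup.eq_one_iff (N := Cfsg.pCore p M) (a ^ p)).mpr (hpow a ha)
  have key := Cfsg.Agent.Lib.Helper20.PSolvLift.main_aux (Cfsg.pCore p M) hR
    (Cfsg.pPrimeCore p (M ⧸ Cfsg.pCore p M)) hKb hC A hA hAb hnot
  simpa only [Cfsg.Agent.Lib.Helper20.PSolvLift.resOf, Cfsg.Agent.Lib.Helper20.PSolvLift.coreOf] using key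

end Cfsg.Agent.S3754
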