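import Cfsg.Statements.S3760

set_option autoImplicit false
open Cfsg

namespace Cfsg.Agent.S3760

lemma mem_conj_iff {G : Type*} [Group G] (K : Subgroup G) (g y : G) :
    y ∈ K.map (MulAut.conj g).toMonoidHom ↔ g⁻¹ * y * g ∈ K := by
  rw [Subgroup.mem_map_equiv, MulAut.conj_symm_apply]

lemma conj_mul_eq {G : Type*} [Group G] (K : Subgroup G) (g h : G) :
    K.map (MulAut.conj (g * h)).toMonoidHom =
      (K.map (MulAut.conj h).toMonoidHom).map (MulAut.conj g).toMonoidHom := by
  ext y
  rw [mem_conj_iff, mem_conj_iff, mem_conj_iff]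
  have : (g * h)⁻¹ * y * (g * h) = h⁻¹ * (g⁻¹ * y * g) * h := by group
  rw [this]

lemma mem_normalizer_of_conj_eq {G : Type*} [Group G] (K : Subgroup G) (g : G)
    (h : K.map (MulAut.conj g).toMonoidHom = K) : g ∈ Subgroup.normalizer (K : Set G) :=
  Subgroup.mem_normalizer_iff_map_conj_eq.mpr h

lemma conj_eq_of_mem_normalizer {G : Type*} [Group G] (K : Subgroup G) (g : G)
    (h : g ∈ Subgroup.normalizer (K : Set G)) : K.map (MulAut.conj g).toMonoidHom = K :=
  Subgroup.mem_normalizer_iff_map_conj_eq.mp h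


/-- Let the group G act transitively on a set X, let x ∈ X with stabilizer H = G_x, and let K ≤ H. Then N_G(K) acts transitively on the set of fixed points of K if and only if every G-conjugate of K contained in H is already an H-conjugate of K. -/
theorem result {G : Type*} [Group G] {X : Type*} [MulAction G X] (htrans : ∀ a b : X, ∃ g : G, g • a = b) (x : X) (K : Subgroup G) (hK : K ≤ MulAction.stabilizer G x) : (∀ a b : X, (∀ k ∈ K, k • a = a) → (∀ k ∈ K, k • b = b) → ∃ g ∈ Subgroup.normalizer (K : Set G), g • a = b) ↔ ∀ g : G, K.map (MulAut.conj g).toMonoidHom ≤ MulAction.stabilizer G x → ∃ h ∈ MulAction.stabilizer G x, K.map (MulAut.conj g).toMonoidHom = K.map (MulAut.conj h).toMonoidHom := by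
  constructor
  · intro hN g hg
    have hKx : ∀ k ∈ K, k • x = x := fun k hk => hK hk
    have hKg : ∀ k ∈ K, k • (g⁻¹ • x) = g⁻¹ • x := by
      intro k hk
      have h1 : g * k * g⁻¹ ∈ K.map (MulAut.conj g).toMonoidHom := by
        rw [mem_conj_iff]
        have : g⁻¹ * (g * k * g⁻¹) * g = k := by group
        rw [this]; exact hk
      have h2 := hg h1
      rw [MulAction.mem_stabilizer_iff, mul_smul, mul_smul] at h2
      have := congrArg (fun z => g⁻¹ • z) h2
      simpa using this
    obtain ⟨n, hn, hnx⟩ := hN x (g⁻¹ • x) hKx hKg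
    refine ⟨g * n, ?_, ?_⟩
    · rw [MulAction.mem_stabilizer_iff, mul_smul, hnx, smul_inv_smul]
    · rw [conj_mul_eq, conj_eq_of_mem_normalizer K n hn]
  · intro hH a b ha hb
    have key : ∀ c : X, (∀ k ∈ K, k • c = c) → ∃ n ∈ Subgroup.normalizer (K : Set G), n • x = c := by
      intro c hc
      obtain ⟨u, hu⟩ := htrans x c
      have hle : K.map (MulAut.conj u⁻¹).toMonoidHom ≤ MulAction.stabilizer G x := by
        intro y hy
        rw [mem_conj_iff, inv_inv] at hy
        have := hc _ hy
        rw [← hu, mul_smul, mul_smul, inv_smul_smul] at this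
        rw [MulAction.mem_stabilizer_iff]
        have h3 := congrArg (fun z => u⁻¹ • z) this
        simpa using h3
      obtain ⟨h1, hh1, heq⟩ := hH u⁻¹ hle
      refine ⟨u * h1, ?_, ?_⟩
      · apply mem_normalizer_of_conj_eq
        rw [conj_mul_eq, ← heq, ← conj_mul_eq, mul_inv_cancel]
        ext y
        rw [mem_conj_iff]
        simp
      · rw [mul_smul]
        rw [MulAction.mem_stabilizer_iff] at hh1
        rw [hh1, hu]
    obtain ⟨n1, hn1, h1⟩ := key a ha
    obtain ⟨n2, hn2, h2⟩ := key b hb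
    refine ⟨n2 * n1⁻¹, Subgroup.mul_mem _ hn2 (Subgroup.inv_mem _ hn1), ?_⟩
    rw [mul_smul, ← h1, inv_smul_smul, h2]

end Cfsg.Agent.S3760
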