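import Mathlib
import Cfsg.Statements.S3761
import Cfsg.Agent.Lib.Helper21.CycCaseA
import Cfsg.Agent.Lib.Helper21.CycCase2

set_option autoImplicit false
open Cfsg

namespace Cfsg.Agent.S3761

open Cfsg.Agent.Lib.Helper21.CycAct

/-- Let G be a finite non-abelian p-group with a cyclic normal subgroup U of order p^n such that C_G(U) = U. Then either p = 2 and G is dihedral, generalized quaternion or semidihedral of order 2^(n+1); or, writing U₁ for the subgroup generated by the p-th powers of elements of U and M = C_G(U₁), the subgroup U has index p in M and the subgroup Ω₁(M) generated by the elements of M of order dividing p is elementary abelian of order p² and characteristic in G. -/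
theorem result {G : Type*} [Group G] [Finite G] {p : ℕ} [Fact p.Prime] (hG : IsPGroup p G) (hna : ¬ IsMulCommutative G) (U : Subgroup G) [U.Normal] (hU : IsCyclic U) (n : ℕ) (hUn : Nat.card U = p ^ n) (hC : Subgroup.centralizer (U : Set G) = U) : (p = 2 ∧ Nat.card G = 2 ^ (n + 1) ∧ ((∃ m : ℕ, Nonempty (G ≃* DihedralGroup m)) ∨ (∃ m : ℕ, Nonempty (G ≃* QuaternionGroup m)) ∨ Cfsg.IsQuasiDihedral G)) ∨ (U.relIndex (Subgroup.centralizer (Cfsg.powerClosure p 1 U : Set G)) = p ∧ Cfsg.IsElementaryAbelian p (Cfsg.omegaOne p (Subgroup.centralizer (Cfsg.powerClosure p 1 U : Set G))) ∧ Nat.card ↥(Cfsg.omegaOne p (Subgroup.centralizer (Cfsg.powerClosure p 1 U : Set G))) = p ^ 2 ∧ (Cfsg.omegaOne p (Subgroup.centralizer (Cfsg.powerClosure p 1 U : Set G))).Characteristic) := by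
  classical
  have hpp : p.Prime := Fact.out
  obtain ⟨u0, hu0⟩ := hU.exists_generator
  obtain ⟨u, huU⟩ := u0
  have hUz : U = Subgroup.zpowers u := by
    ext x
    constructor
    · intro hx
      obtain ⟨i, hi⟩ := Subgroup.mem_zpowers_iff.mp (hu0 ⟨x, hx⟩)
      rw [Subgroup.mem_zpowers_iff]
      refine ⟨i, ?_⟩
      have := congrArg Subtype.val hi
      simpa using this
    · intro hx
      obtain ⟨i, rfl⟩ := Subgroup.mem_zpowers_iff.mp hx
      exact U.zpow_mem huU i
  have hord : orderOf u = p ^ n := by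
    rw [← hUn, hUz, Nat.card_zpowers]
  have S : Setup p n u := by
    refine ⟨hord, ?_, ?_, hG⟩
    · intro g
      have h1 : g * u * g⁻¹ ∈ U := ‹U.Normal›.conj_mem u huU g
      rw [hUz] at h1
      obtain ⟨k, hk⟩ := Subgroup.mem_zpowers_iff.mp h1
      exact ⟨k, hk.symm⟩
    · intro g hg
      rw [← hUz, ← hC, Subgroup.mem_centralizer_iff]
      intro h hh
      rw [SetLike.mem_coe, hUz] at hh
      obtain ⟨i, rfl⟩ := Subgroup.mem_zpowers_iff.mp hh
      have : Commute g u := hg
      exact (this.zpow_right i).eq.symm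
  have hna' : ∃ g, g ∉ Subgroup.zpowers u := by
    by_contra hall0
    have hall : ∀ g, g ∈ Subgroup.zpowers u := fun g => by_contra (fun h => hall0 ⟨g, h⟩)
    apply hna
    refine ⟨⟨fun a b => ?_⟩⟩
    obtain ⟨i, rfl⟩ := Subgroup.mem_zpowers_iff.mp (hall a)
    obtain ⟨j, rfl⟩ := Subgroup.mem_zpowers_iff.mp (hall b)
    exact (((Commute.refl u).zpow_left i).zpow_right j).eq
  have hn := S.two_le hna'
  have hM : ∀ x, x ∈ Subgroup.centralizer (Cfsg.powerClosure p 1 U : Set G) ↔
      x * u ^ p = u ^ p * x := by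
    intro x
    rw [Subgroup.mem_centralizer_iff]
    constructor
    · intro h
      have : u ^ p ∈ Cfsg.powerClosure p 1 U :=
        Subgroup.subset_closure ⟨u, huU, by rw [pow_one]⟩
      exact (h _ this).symm
    · intro h y hy
      have hle : Cfsg.powerClosure p 1 U ≤ Subgroup.zpowers (u ^ p) := by
        unfold Cfsg.powerClosure
        rw [Subgroup.closure_le]
        rintro y ⟨x', hx', rfl⟩
        rw [hUz] at hx'
        obtain ⟨i, rfl⟩ := Subgroup.mem_zpowers_iff.mp hx'
        rw [pow_one, SetLike.mem_coe, Subgroup.mem_zpowers_iff]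
        refine ⟨i, ?_⟩
        rw [← zpow_natCast, ← zpow_natCast, ← zpow_mul, ← zpow_mul, mul_comm]
      obtain ⟨j, rfl⟩ := Subgroup.mem_zpowers_iff.mp (hle hy)
      have : Commute x (u ^ p) := h
      exact (this.zpow_right j).eq.symm
  by_cases hcase : ∃ t, t ∈ Subgroup.centralizer (Cfsg.powerClosure p 1 U : Set G) ∧
      t ∉ Subgroup.zpowers u ∧ (p ≠ 2 ∨ 3 ≤ n)
  · right
    obtain ⟨t, htM, htU, hc⟩ := hcase
    obtain ⟨hrel, E, hEiff, hEcomm, hEcard, hEchar⟩ := S.caseA hn hc _ hM htM htU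
    have hΩ : Cfsg.omegaOne p (Subgroup.centralizer (Cfsg.powerClosure p 1 U : Set G)) = E := by
      unfold Cfsg.omegaOne
      apply le_antisymm
      · rw [Subgroup.closure_le]; intro x hx; exact (hEiff x).mpr hx
      · intro x hx; exact Subgroup.subset_closure ((hEiff x).mp hx)
    rw [hΩ]
    refine ⟨?_, ⟨?_, fun a ha => ((hEiff a).mp ha).2⟩, hEcard, hEchar⟩
    · rw [← hUz] at hrel; exact hrel
    · exact ⟨⟨fun a b => Subtype.ext (hEcomm a a.2 b b.2)⟩⟩
  · left
    have hp2 : p = 2 := by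
      by_contra hp2
      obtain ⟨t, htU, htM⟩ := S.exists_M_not_U hp2 (by omega) hna'
      exact hcase ⟨t, (hM t).mpr htM, htU, Or.inl hp2⟩
    subst hp2
    have h2 : n = 2 ∨ ∀ t, t * u ^ 2 = u ^ 2 * t → t ∈ Subgroup.zpowers u := by
      by_cases hn2 : n = 2
      · left; exact hn2
      · right
        intro t ht
        by_contra htU
        exact hcase ⟨t, (hM t).mpr ht, htU, Or.inr (by omega)⟩
    obtain ⟨hA, hB⟩ := S.two_case hn h2
    obtain ⟨g, hg⟩ := hna'
    obtain ⟨k, hk⟩ := S.hact g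
    obtain ⟨h1, h4⟩ := hA g hg k hk
    have hidx := S.index_two hg hB
    obtain ⟨hcard, hfin⟩ := S.two_final hn hidx hg hk h1 h4
    exact ⟨rfl, hcard, hfin⟩

end Cfsg.Agent.S3761
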