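import Mathlib
import Cfsg.Statements.S3762
import Cfsg.Agent.Lib.Helper21.SympG
import Cfsg.Agent.Lib.Helper21.CycDich

set_option autoImplicit false
open Cfsg

namespace Cfsg.Agent.S3762

open Cfsg.Agent.Lib.Helper21.CycAct Cfsg.Agent.Lib.Helper21.Symp

/-- Let G be a finite p-group of symplectic type: every characteristic abelian subgroup of G is cyclic. Then G = E ∗ R is a central product of subgroups E and R (they commute elementwise and generate G) where E is extraspecial or trivial, and R is cyclic, or p = 2 and R is dihedral, semidihedral or generalized quaternion of order at least 16. -/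
theorem result {G : Type*} [Group G] [Finite G] {p : ℕ} [Fact p.Prime] (hG : IsPGroup p G) (hsymp : ∀ A : Subgroup G, A.Characteristic → IsMulCommutative A → IsCyclic A) : ∃ E R : Subgroup G, (∀ e ∈ E, ∀ r ∈ R, e * r = r * e) ∧ E ⊔ R = ⊤ ∧ (E = ⊥ ∨ Cfsg.IsExtraspecial p ↥E) ∧ (IsCyclic R ∨ (p = 2 ∧ 16 ≤ Nat.card R ∧ ((∃ m : ℕ, Nonempty (↥R ≃* DihedralGroup m)) ∨ (∃ m : ℕ, Nonempty (↥R ≃* QuaternionGroup m)) ∨ Cfsg.IsQuasiDihedral ↥R))) := by
  classical
  have hpp : p.Prime := Fact.out
  by_cases hsub : Subsingleton G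
  · refine ⟨⊥, ⊤, ?_, bot_sup_eq _, Or.inl rfl, Or.inl ?_⟩
    · intro e he r _
      rw [Subgroup.mem_bot] at he
      rw [he]; simp
    · exact isCyclic_of_subsingleton
  haveI : Nontrivial G := not_subsingleton_iff_nontrivial.mp hsub
  -- choose U
  have hfin : {A : Subgroup G | A.Characteristic ∧ IsMulCommutative A}.Finite := Set.toFinite _
  have hnon : {A : Subgroup G | A.Characteristic ∧ IsMulCommutative A}.Nonempty :=
    ⟨⊥, Subgroup.botCharacteristic, ⟨⟨fun a b => Subsingleton.elim _ _⟩⟩⟩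
  obtain ⟨U, ⟨hUchar, hUcomm⟩, hUmax⟩ := hfin.exists_maximalFor (fun A : Subgroup G => Nat.card A) _ hnon
  have hUmax' : ∀ A : Subgroup G, A.Characteristic → IsMulCommutative A →
      Nat.card A ≤ Nat.card U := by
    intro A hA1 hA2
    by_cases h : Nat.card A ≤ Nat.card U
    · exact h
    · exact hUmax ⟨hA1, hA2⟩ (le_of_lt (not_le.mp h))
  have hUcyc := hsymp U hUchar hUcomm
  obtain ⟨⟨u, huU⟩, hu0⟩ := hUcyc.exists_generator
  have hUz : U = Subgroup.zpowers u := by
    ext x
    constructor
    · intro hx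
      exact (mem_zpowers_coe (⟨u, huU⟩ : ↥U) ⟨x, hx⟩).mp (hu0 ⟨x, hx⟩)
    · intro hx
      obtain ⟨i, rfl⟩ := Subgroup.mem_zpowers_iff.mp hx
      exact U.zpow_mem huU i
  obtain ⟨n, hn⟩ := (IsPGroup.iff_orderOf.mp hG) u
  have hcardU : Nat.card U = p ^ n := by rw [hUz, Nat.card_zpowers, hn]
  have hn1 : 1 ≤ n := by
    by_contra h0
    have hn0 : n = 0 := by omega
    have hcen := hUmax' (Subgroup.center G) inferInstance inferInstance
    rw [hcardU, hn0, pow_zero] at hcen
    haveI := hG.center_nontrivial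
    have : 1 < Nat.card (Subgroup.center G) := Finite.one_lt_card
    omega
  have c : Ctx p n u := by
    refine ⟨hG, hn, hn1, hUz ▸ hUchar, ?_⟩
    intro A hA hAc
    have := hUmax' A hA ⟨⟨fun a b => Subtype.ext (hAc a a.2 b b.2)⟩⟩
    rwa [hcardU] at this
  obtain ⟨E, hP1, hEW, hWE, hP3, hP3', hP4⟩ := c.exists_E
  have hcomm : ∀ e ∈ E, ∀ r ∈ Subgroup.centralizer (E : Set G), e * r = r * e :=
    fun e he r hr => (Subgroup.mem_centralizer_iff.mp hr) e he
  have hsup : E ⊔ Subgroup.centralizer (E : Set G) = ⊤ := by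
    rw [eq_top_iff]
    intro g _
    obtain ⟨e, he, r, hr, rfl⟩ := hP1 g
    exact mul_mem ((le_sup_left : E ≤ _) he)
      ((le_sup_right : Subgroup.centralizer (E : Set G) ≤ _) hr)
  have huR : u ∈ Subgroup.centralizer (E : Set G) := by
    rw [Subgroup.mem_centralizer_iff]
    intro e he
    exact (c.comm_U_W (Subgroup.mem_zpowers u) (hEW he)).symm
  have hcentR : ∀ r ∈ Subgroup.centralizer (E : Set G), r * u = u * r →
      r ∈ Subgroup.zpowers u := by
    intro r hr hru
    rw [← c.centralizer_W, Subgroup.mem_centralizer_iff]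
    intro w hw
    have hle : E ⊔ Subgroup.zpowers u ≤ Subgroup.centralizer {r} := by
      apply sup_le
      · intro e he
        rw [Subgroup.mem_centralizer_iff]
        intro b hb
        rw [Set.mem_singleton_iff] at hb
        rw [hb]; exact (hcomm e he r hr).symm
      · intro a ha
        rw [Subgroup.mem_centralizer_iff]
        intro b hb
        rw [Set.mem_singleton_iff] at hb
        rw [hb]
        obtain ⟨i, rfl⟩ := Subgroup.mem_zpowers_iff.mp ha
        have : Commute r u := hru
        exact (this.zpow_right i).eq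
    have := Subgroup.mem_centralizer_iff.mp (hle (hWE hw)) r (Set.mem_singleton r)
    exact this.symm
  -- the group R as a type
  have S : Setup p n (⟨u, huR⟩ : ↥(Subgroup.centralizer (E : Set G))) := by
    refine ⟨?_, ?_, ?_, hG.to_subgroup _⟩
    · rw [← hn]; exact Subgroup.orderOf_mk u huR
    · intro g
      have hN := c.normal
      have h1 := hN.conj_mem u (Subgroup.mem_zpowers u) (g : G)
      obtain ⟨k, hk⟩ := Subgroup.mem_zpowers_iff.mp h1
      refine ⟨k, Subtype.ext ?_⟩
      simp only [Subgroup.coe_mul, Subgroup.coe_inv, Subgroup.coe_zpow]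
      exact hk.symm
    · intro g hg
      have h1 : (g : G) * u = u * g := congrArg Subtype.val hg
      exact (mem_zpowers_coe _ g).mpr (hcentR g g.2 h1)
  by_cases hRU : ∀ r : ↥(Subgroup.centralizer (E : Set G)),
      r ∈ Subgroup.zpowers (⟨u, huR⟩ : ↥(Subgroup.centralizer (E : Set G)))
  · exact ⟨E, _, hcomm, hsup, hP4, Or.inl ⟨⟨u, huR⟩, hRU⟩⟩
  have hna : ∃ g : ↥(Subgroup.centralizer (E : Set G)),
      g ∉ Subgroup.zpowers (⟨u, huR⟩ : ↥(Subgroup.centralizer (E : Set G))) := by
    by_contra h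
    apply hRU
    intro r
    by_contra hr
    exact h ⟨r, hr⟩
  have hn2 := S.two_le hna
  rcases S.dichotomy hna with ⟨hp2, hcard, htypes⟩ | ⟨hc, t', ht'U, ht'M, ht'p, hT2, hT3⟩
  · by_cases hn3 : 3 ≤ n
    · refine ⟨E, _, hcomm, hsup, hP4, Or.inr ⟨hp2, ?_, htypes⟩⟩
      rw [hcard]
      calc 16 = 2 ^ 4 := by norm_num
        _ ≤ 2 ^ (n + 1) := Nat.pow_le_pow_right (by norm_num) (by omega)
    · have hn2' : n = 2 := by omega
      subst hp2
      subst hn2'
      obtain ⟨hC1, hC2⟩ := S.order8_facts hna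
      have hXS : Cfsg.IsExtraspecial 2 ↥(⊤ : Subgroup G) := by
        apply c.caseC E hP1 hP3
        · intro r hr
          have := (mem_zpowers_coe _ _).mp (hC1 ⟨r, hr⟩)
          simpa using this
        · intro r hr hrc
          have := (mem_zpowers_coe _ _).mp (hC2 ⟨r, hr⟩ (fun y => Subtype.ext (hrc y y.2)))
          simpa using this
        · obtain ⟨g, hg⟩ := hna
          refine ⟨(g : G), u, fun h => hg ?_⟩
          exact (mem_zpowers_coe _ g).mpr (hcentR g g.2 h)
      refine ⟨⊤, ⊥, ?_, by simp, Or.inr hXS, Or.inl isCyclic_of_subsingleton⟩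
      intro e _ r hr
      rw [Subgroup.mem_bot] at hr
      rw [hr]; simp
  · exfalso
    apply c.caseD_false hsymp hn2 hc E hP1 hEW hP3 hP3' (t' : G) t'.2
    · intro h
      exact ht'U ((mem_zpowers_coe _ t').mpr h)
    · have := congrArg Subtype.val ht'M
      simpa using this
    · have := congrArg Subtype.val ht'p
      simpa using this
    · intro r hr hru
      obtain ⟨i, j, hij⟩ := hT2 ⟨r, hr⟩ (Subtype.ext (by simpa using hru))
      refine ⟨i, j, ?_⟩
      have := congrArg Subtype.val hij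
      simpa using this
    · intro i j
      obtain ⟨s, hs1, hs⟩ := hT3 i j
      refine ⟨s, hs1, ?_⟩
      have := congrArg Subtype.val hs
      simpa using this

end Cfsg.Agent.S3762
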