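import Mathlib
import Cfsg.Statements.S3763
import Cfsg.Agent.Lib.Helper21.XS2D

set_option autoImplicit false
open Cfsg

namespace Cfsg.Agent.S3763

open Cfsg.Agent.Lib.Helper21

universe u

theorem rank_facts {E : Type u} [Group E] [Finite E] {z : E} (h : XS2 E z) (n : ℕ)
    (hcard : Nat.card E = 2 ^ (2 * n + 1)) :
    (xsS E < 0 → Cfsg.PRankLE 2 n E ∧ ¬ Cfsg.PRankLE 2 (n - 1) E) ∧
    (0 < xsS E → Cfsg.PRankLE 2 (n + 1) E ∧ ¬ Cfsg.PRankLE 2 n E) := by
  have h8 := h.eight_le_card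
  have hn1 : 1 ≤ n := by
    by_contra hlt
    push_neg at hlt
    have : n = 0 := by omega
    subst this
    rw [hcard] at h8
    norm_num at h8
  obtain ⟨A, hAsq, hApos, hAneg⟩ := h.exists_elemAb_card n hcard
  haveI hAc : IsMulCommutative ↥A :=
    ⟨⟨fun a b => Subtype.ext (XS2.comm_of_sq_one A hAsq a a.2 b b.2)⟩⟩
  constructor
  · intro hneg
    refine ⟨fun B _ hB => (h.rank_bound n hcard B hB).2 hneg, ?_⟩
    intro hr
    have h1 := hr A hAc hAsq
    rw [hAneg hneg] at h1
    have h2 : n ≤ n - 1 := (Nat.pow_le_pow_iff_right (by norm_num)).mp h1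
    omega
  · intro hpos
    refine ⟨fun B _ hB => (h.rank_bound n hcard B hB).1, ?_⟩
    intro hr
    have h1 := hr A hAc hAsq
    rw [hApos hpos] at h1
    have h2 : n + 1 ≤ n := (Nat.pow_le_pow_iff_right (by norm_num)).mp h1
    omega

theorem neg_iff {E : Type u} [Group E] [Finite E] {z : E} (h : XS2 E z) (n : ℕ)
    (hcard : Nat.card E = 2 ^ (2 * n + 1)) : xsS E < 0 ↔ Cfsg.PRankLE 2 n E := by
  obtain ⟨h1, h2⟩ := rank_facts h n hcard
  constructor
  · intro hneg; exact (h1 hneg).1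
  · intro hr
    by_contra hnn
    have hpos : 0 < xsS E := lt_of_le_of_ne (not_lt.mp hnn) (Ne.symm h.xsS_ne_zero)
    exact (h2 hpos).2 hr

/-- Let E be an extraspecial 2-group of order 2^(2n+1). Then the largest elementary abelian subgroups of E have order 2^n or 2^(n+1); and two extraspecial 2-groups of the same order whose largest elementary abelian subgroups have the same order are isomorphic. -/
theorem result {E : Type*} [Group E] [Finite E] (hE : Cfsg.IsExtraspecial 2 E) (n : ℕ) (hn : Nat.card E = 2 ^ (2 * n + 1)) : ((Cfsg.PRankLE 2 n E ∧ ¬ Cfsg.PRankLE 2 (n - 1) E) ∨ (Cfsg.PRankLE 2 (n + 1) E ∧ ¬ Cfsg.PRankLE 2 n E)) ∧ ∀ (E' : Type*) [Group E'] [Finite E'], Cfsg.IsExtraspecial 2 E' → Nat.card E' = Nat.card E → (∀ k : ℕ, Cfsg.PRankLE 2 k E ↔ Cfsg.PRankLE 2 k E') → Nonempty (E ≃* E') := by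
  obtain ⟨z, h⟩ := XS2.exists_of_isExtraspecial hE
  obtain ⟨h1, h2⟩ := rank_facts h n hn
  constructor
  · by_cases hneg : xsS E < 0
    · left; exact h1 hneg
    · right
      exact h2 (lt_of_le_of_ne (not_lt.mp hneg) (Ne.symm h.xsS_ne_zero))
  · intro E' _ _ hE' hcard hk
    obtain ⟨z', h'⟩ := XS2.exists_of_isExtraspecial hE'
    have hn' : Nat.card E' = 2 ^ (2 * n + 1) := hcard.trans hn
    have i1 := neg_iff h n hn
    have i2 := neg_iff h' n hn'
    have hsame : xsS E < 0 ↔ xsS E' < 0 := by rw [i1, i2]; exact hk n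
    apply xs2_unique h h' hcard.symm
    have s1 := h.xsS_sq
    have s2 := h'.xsS_sq
    have e12 : xsS E * xsS E = xsS E' * xsS E' := by rw [s1, s2, hcard]
    rcases mul_self_eq_mul_self_iff.mp e12 with a | a
    · exact a
    · exfalso
      have hz := h.xsS_ne_zero
      by_cases hneg : xsS E < 0
      · have := hsame.mp hneg
        linarith
      · have hpos : 0 < xsS E := lt_of_le_of_ne (not_lt.mp hneg) (Ne.symm hz)
        have : ¬ xsS E' < 0 := fun hh => hneg (hsame.mpr hh)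
        linarith

end Cfsg.Agent.S3763
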