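import Cfsg.Statements.S3764
import Cfsg.Agent.Lib.Helper20.HHExtG

set_option autoImplicit false
open Cfsg

namespace Cfsg.Agent.S3764

open Cfsg.Agent.Lib.Helper20.HHExt
open scoped commutatorElement


/-- Let p, q, r be distinct primes and let X, Q, V be subgroups of a finite group with X of order r, Q an extraspecial q-group normalized by X with C_Q(X) = Z(Q), and V an elementary abelian p-group normalized by X and Q on which XQ acts faithfully ((X ⊔ Q) ∩ C(V) = 1). If C_V(X) = 1, then q = 2, r = 2^n + 1 for some n, and Q has order 2^(2n+1). -/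
theorem result {G : Type*} [Group G] [Finite G] {p q r : ℕ} (hp : p.Prime) (hq : q.Prime) (hr : r.Prime) (hpq : p ≠ q) (hpr : p ≠ r) (hqr : q ≠ r) (X Q V : Subgroup G) (hX : Nat.card X = r) (hQ : Cfsg.IsExtraspecial q ↥Q) (hXQ : X ≤ Subgroup.normalizer (Q : Set G)) (hCQ : Q ⊓ Subgroup.centralizer (X : Set G) = (Subgroup.center ↥Q).map Q.subtype) (hV : Cfsg.IsElementaryAbelian p V) (hXV : X ≤ Subgroup.normalizer (V : Set G)) (hQV : Q ≤ Subgroup.normalizer (V : Set G)) (hfaith : (X ⊔ Q) ⊓ Subgroup.centralizer (V : Set G) = ⊥) (hCV : V ⊓ Subgroup.centralizer (X : Set G) = ⊥) : q = 2 ∧ ∃ n : ℕ, r = 2 ^ n + 1 ∧ Nat.card Q = 2 ^ (2 * n + 1) := by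
  classical
  obtain ⟨⟨hQp, hfrat, hcommQ⟩, hcenQ⟩ := hQ
  obtain ⟨hVc, hVp⟩ := hV
  obtain ⟨x, hxX, hx1, hxr, hgen⟩ := exists_generator X hr hX
  obtain ⟨Z, hZdef⟩ : ∃ Z : Subgroup G, Z = Q ⊓ Subgroup.centralizer (X : Set G) := ⟨_, rfl⟩
  rw [← hZdef] at hCQ
  have hZQ : Z ≤ Q := hZdef ▸ inf_le_left
  have hZmem : ∀ z : G, z ∈ Z ↔ ∃ hz : z ∈ Q, (⟨z, hz⟩ : ↥Q) ∈ Subgroup.center ↥Q := by
    intro z
    rw [hCQ]
    constructor
    · rintro ⟨c, hc, rfl⟩
      exact ⟨c.2, hc⟩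
    · rintro ⟨hz, hc⟩
      exact ⟨⟨z, hz⟩, hc, rfl⟩
  have hZcard : Nat.card Z = q := by
    rw [hCQ, ← hcenQ]
    exact Nat.card_congr ((Subgroup.center ↥Q).equivMapOfInjective Q.subtype
      Q.subtype_injective).symm.toEquiv
  have hZq : ∀ z ∈ Z, z ^ q = 1 := by
    intro z hz
    have h1 : (⟨z, hz⟩ : Z) ^ q = 1 := by
      rw [← hZcard]
      exact pow_card_eq_one'
    exact congrArg Subtype.val h1
  have hcomm : ∀ h ∈ Q, ∀ g ∈ Q, h * g * h⁻¹ * g⁻¹ ∈ Z := by
    intro h hh g hg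
    rw [hZmem]
    refine ⟨Q.mul_mem (Q.mul_mem (Q.mul_mem hh hg) (Q.inv_mem hh)) (Q.inv_mem hg), ?_⟩
    rw [← hcommQ]
    have : (⟨h * g * h⁻¹ * g⁻¹, Q.mul_mem (Q.mul_mem (Q.mul_mem hh hg) (Q.inv_mem hh))
        (Q.inv_mem hg)⟩ : ↥Q) = ⁅(⟨h, hh⟩ : ↥Q), ⟨g, hg⟩⁆ := by
      apply Subtype.ext
      rw [commutatorElement_def]
      rfl
    rw [this]
    exact Subgroup.commutator_mem_commutator (Subgroup.mem_top _) (Subgroup.mem_top _)
  have hZcenP : ∀ z ∈ Z, ∀ g ∈ Q, g * z = z * g := by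
    intro z hz g hg
    obtain ⟨hzQ, hc⟩ := (hZmem z).mp hz
    have := Subgroup.mem_center_iff.mp hc ⟨g, hg⟩
    exact congrArg Subtype.val this
  have hZcenx : ∀ z ∈ Z, x * z = z * x := by
    intro z hz
    have h1 : z ∈ Subgroup.centralizer (X : Set G) := (Subgroup.mem_inf.mp (hZdef ▸ hz)).2
    exact ((Subgroup.mem_centralizer_iff.mp h1) x hxX)
  have hpq' : ¬ p ∣ Nat.card Z := by
    rw [hZcard]
    intro h
    exact hpq ((Nat.prime_dvd_prime_iff_eq hp hq).mp h)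
  -- a nontrivial commutator
  have hex : ∃ h ∈ Q, ∃ g ∈ Q, h * g * h⁻¹ * g⁻¹ ≠ 1 := by
    by_contra hcon
    push Not at hcon
    have hab : commutator ↥Q = ⊥ := by
      rw [commutator_def, eq_bot_iff, Subgroup.commutator_le]
      intro a _ b _
      rw [Subgroup.mem_bot]
      apply Subtype.ext
      rw [commutatorElement_def]
      exact hcon a.1 a.2 b.1 b.2
    rw [hab] at hcommQ
    rw [← hcommQ] at hcenQ
    rw [Subgroup.card_bot] at hcenQ
    exact hq.one_lt.ne hcenQ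
  have hmain := main_subgroups hp hr (Ne.symm hpr) x Q Z V hxr (hVc := hVc) hVp (hXV hxX) hQV
    (hXQ hxX) hZQ hZcenP hZcenx hpq' hcomm
    (by
      intro D hDZ hexD g hg hall
      -- `D` is a proper subgroup of `Z`, which has prime order, hence trivial
      have hDbot : D = ⊥ := by
        have hfq : Fact (Nat.card Z).Prime := ⟨hZcard ▸ hq⟩
        have h1 := (D.subgroupOf Z).eq_bot_or_eq_top_of_prime_card
        rcases h1 with h1 | h1
        · rw [Subgroup.subgroupOf_eq_bot] at h1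
          rw [← inf_eq_left.mpr hDZ]
          exact disjoint_iff.mp h1
        · exfalso
          rw [Subgroup.subgroupOf_eq_top] at h1
          obtain ⟨h, hh, g', hg', hne⟩ := hexD
          exact hne (h1 (hcomm h hh g' hg'))
      rw [hZmem]
      refine ⟨hg, ?_⟩
      rw [Subgroup.mem_center_iff]
      intro b
      apply Subtype.ext
      have h1 := hall b.1 b.2
      rw [hDbot, Subgroup.mem_bot] at h1
      have h2 : (b : G) * g = ((b : G) * g * (b : G)⁻¹ * g⁻¹) * (g * b) := by group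
      show (b : G) * g = g * (b : G)
      rw [h2, h1, one_mul])
    (by
      intro g hg hgz
      have hz1 := conj_coset_fixed x g (x * g * x⁻¹ * g⁻¹) ((Nat.coprime_primes hq hr).mpr hqr) hxr
        (hZq _ hgz) (hZcenx _ hgz) (by group)
      have hxg : x * g = g * x := by
        have h2 : x * g = (x * g * x⁻¹ * g⁻¹) * (g * x) := by group
        rw [h2, hz1, one_mul]
      rw [hZdef]
      exact Subgroup.mem_inf.mpr ⟨hg, mem_centralizer_of_generator X x hgen g hxg⟩)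
    (by
      obtain ⟨h, hh, g, hg, hne⟩ := hex
      have hcQ : h * g * h⁻¹ * g⁻¹ ∈ Q :=
        Q.mul_mem (Q.mul_mem (Q.mul_mem hh hg) (Q.inv_mem hh)) (Q.inv_mem hg)
      have hnc : h * g * h⁻¹ * g⁻¹ ∉ Subgroup.centralizer (V : Set G) := by
        intro hc
        apply hne
        have : h * g * h⁻¹ * g⁻¹ ∈ (X ⊔ Q) ⊓ Subgroup.centralizer (V : Set G) :=
          Subgroup.mem_inf.mpr ⟨(le_sup_right : Q ≤ X ⊔ Q) hcQ, hc⟩
        rw [hfaith, Subgroup.mem_bot] at this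
        exact this
      rw [Subgroup.mem_centralizer_iff] at hnc
      push Not at hnc
      obtain ⟨v, hv, hvne⟩ := hnc
      refine ⟨h, hh, g, hg, v, hv, ?_⟩
      intro heq
      apply hvne
      have : (h * g * h⁻¹ * g⁻¹) * v = (h * g * h⁻¹ * g⁻¹) * v * (h * g * h⁻¹ * g⁻¹)⁻¹ *
          (h * g * h⁻¹ * g⁻¹) := by group
      rw [this, heq])
    (by
      intro v hv hxv
      have h1 : v ∈ V ⊓ Subgroup.centralizer (X : Set G) :=
        Subgroup.mem_inf.mpr ⟨hv, mem_centralizer_of_generator X x hgen v hxv⟩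
      rw [hCV, Subgroup.mem_bot] at h1
      exact h1)
  rw [hZcard] at hmain
  have hfq : Fact q.Prime := ⟨hq⟩
  obtain ⟨m, hm⟩ := hQp.exists_card_eq
  rw [hm] at hmain
  have hne1 : r - 1 ≠ 1 := by
    intro h1
    rw [h1, one_pow, one_mul] at hmain
    -- then `Q = Z` is abelian
    obtain ⟨h, hh, g, hg, hne⟩ := hex
    apply hne
    have hQZ : Z = Q := by
      apply Subgroup.eq_of_le_of_card_ge hZQ
      rw [hZcard, hm, hmain]
    have hgZ : g ∈ Z := hQZ ▸ hg
    have := hZcenP g hgZ h hh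
    rw [this]
    group
  obtain ⟨hq2, n, hrn, hcard⟩ := fermat_arith q r m hq hr hmain hne1
  refine ⟨hq2, n, hrn, ?_⟩
  rw [hm, hcard]

end Cfsg.Agent.S3764
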