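import Cfsg.Statements.S3765
import Cfsg.Agent.Lib.Helper20.HHExtJ

set_option autoImplicit false
open Cfsg

namespace Cfsg.Agent.S3765

open Cfsg.Agent.Lib.Helper20.HHExt


/-- Let p, q, r be distinct primes and let X, Q, V be subgroups of a finite group with X of order r normalizing the q-group Q and acting faithfully on it (X ∩ C(Q) = 1), and V a nontrivial elementary abelian p-group normalized by X and Q on which XQ acts faithfully. If q = 2 and r has the form 2^n + 1, assume in addition that Q is abelian. Then C_V(X) ≠ 1. -/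
theorem result {G : Type*} [Group G] [Finite G] {p q r : ℕ} (hp : p.Prime) (hq : q.Prime) (hr : r.Prime) (hpq : p ≠ q) (hpr : p ≠ r) (hqr : q ≠ r) (X Q V : Subgroup G) (hX : Nat.card X = r) (hQ : IsPGroup q Q) (hXQ : X ≤ Subgroup.normalizer (Q : Set G)) (hXfaith : X ⊓ Subgroup.centralizer (Q : Set G) = ⊥) (hV : Cfsg.IsElementaryAbelian p V) (hV1 : V ≠ ⊥) (hXV : X ≤ Subgroup.normalizer (V : Set G)) (hQV : Q ≤ Subgroup.normalizer (V : Set G)) (hfaith : (X ⊔ Q) ⊓ Subgroup.centralizer (V : Set G) = ⊥) (hexc : q = 2 → (∃ n : ℕ, r = 2 ^ n + 1) → IsMulCommutative Q) : V ⊓ Subgroup.centralizer (X : Set G) ≠ ⊥ := by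
  classical
  obtain ⟨hVc, hVp⟩ := hV
  obtain ⟨x, hxX, hx1, hxr, hgen⟩ := exists_generator X hr hX
  have hxnc : ∃ g ∈ Q, x * g ≠ g * x := by
    by_contra hcon
    push Not at hcon
    apply hx1
    have hc : x ∈ Subgroup.centralizer (Q : Set G) := by
      rw [Subgroup.mem_centralizer_iff]
      intro g hg
      exact (hcon g hg).symm
    have : x ∈ X ⊓ Subgroup.centralizer (Q : Set G) := Subgroup.mem_inf.mpr ⟨hxX, hc⟩
    rw [hXfaith, Subgroup.mem_bot] at this
    exact this
  have hfaith' : Q ⊓ Subgroup.centralizer (V : Set G) = ⊥ := by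
    rw [eq_bot_iff, ← hfaith]
    exact inf_le_inf_right _ le_sup_right
  obtain ⟨v, hv, hv1, hxv⟩ := exists_fixed hp hq hr hpq hpr hqr x Q V hxr hQ (hXQ hxX) hxnc
    (hVc := hVc) hVp (hXV hxX) hQV hfaith'
    (by
      intro hq2 hrn a ha b hb
      have hc := hexc hq2 hrn
      have := hc.is_comm.comm (⟨a, ha⟩ : ↥Q) ⟨b, hb⟩
      exact congrArg Subtype.val this)
  intro hbot
  apply hv1
  have : v ∈ V ⊓ Subgroup.centralizer (X : Set G) :=
    Subgroup.mem_inf.mpr ⟨hv, mem_centralizer_of_generator X x hgen v hxv⟩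
  rw [hbot, Subgroup.mem_bot] at this
  exact this

end Cfsg.Agent.S3765
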