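import Mathlib
import Cfsg.Statements.S3767
import Cfsg.Agent.Lib.helper17.SympMain

set_option autoImplicit false
open Cfsg

namespace Cfsg.Agent.S3767

open Cfsg.Agent.Lib.helper17.ExtraGroup Cfsg.Agent.Lib.helper17.SympMain

/-- Let P be an extraspecial p-group of order p^(2n+1) and H a cyclic group of order h prime to p acting on P (inside a common finite group: H normalizes P) so that C_P(x) = Z(P) for every non-identity x ∈ H. Then h divides p^n + 1 or h divides p^n − 1. -/
theorem result {G : Type*} [Group G] [Finite G] {p : ℕ} [Fact p.Prime] (P H : Subgroup G) (hP : Cfsg.IsExtraspecial p ↥P) (n : ℕ) (hn : Nat.card P = p ^ (2 * n + 1)) (hH : IsCyclic H) (hcop : (Nat.card H).Coprime p) (hHP : H ≤ Subgroup.normalizer (P : Set G)) (hfix : ∀ x ∈ H, x ≠ 1 → P ⊓ Subgroup.centralizer {x} = (Subgroup.center ↥P).map P.subtype) : Nat.card H ∣ p ^ n + 1 ∨ Nat.card H ∣ p ^ n - 1 := by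
  have hp : Fact p.Prime := inferInstance
  -- the action
  let ρ : ↥H →* MulAut ↥P := (P.normalizerMonoidHom).comp (Subgroup.inclusion hHP)
  have hρ : ∀ (e : ↥H) (a : ↥P), ((ρ e a : ↥P) : G) = e.1 * a.1 * e.1⁻¹ := fun e a => rfl
  -- a generator of the centre
  obtain ⟨⟨_, _, hcomm⟩, hcen⟩ := hP
  have hcyc : IsCyclic ↥(Subgroup.center ↥P) := isCyclic_of_prime_card hcen
  obtain ⟨z₀, hz₀⟩ := hcyc.exists_generator
  obtain ⟨z, hzc⟩ := z₀
  have hzp : z ^ p = 1 := by
    have h1 : (⟨z, hzc⟩ : ↥(Subgroup.center ↥P)) ^ p = 1 := by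
      rw [← hcen]; exact pow_card_eq_one'
    have := congrArg Subtype.val h1
    simpa using this
  have hcz : ∀ c ∈ Subgroup.center ↥P, c ∈ Subgroup.zpowers z := by
    intro c hc
    obtain ⟨k, hk⟩ := Subgroup.mem_zpowers_iff.mp (hz₀ ⟨c, hc⟩)
    refine Subgroup.mem_zpowers_iff.mpr ⟨k, ?_⟩
    have := congrArg Subtype.val hk
    simpa using this
  have hzcomm : ∀ g : ↥P, g * z = z * g := fun g => Subgroup.mem_center_iff.mp hzc g
  have hX : XCond p (⊤ : Subgroup ↥P) z := by
    refine ⟨Subgroup.mem_top _, fun g _ => hzcomm g, hzp, fun g _ hg => ?_, fun g _ h _ => ?_⟩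
    · apply hcz
      rw [Subgroup.mem_center_iff]
      intro h
      exact (hg h (Subgroup.mem_top _)).symm
    · apply hcz
      rw [← hcomm, commutator_def]
      have := Subgroup.commutator_mem_commutator (Subgroup.mem_top g) (Subgroup.mem_top h)
      rwa [commutatorElement_def] at this
  have hz1 : z ≠ 1 := by
    intro hz
    have h1 : ∀ c : ↥(Subgroup.center ↥P), c = 1 := by
      intro c
      have := hcz c.1 c.2
      rw [hz, Subgroup.zpowers_one_eq_bot, Subgroup.mem_bot] at this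
      exact Subtype.ext this
    have h2 : Nat.card ↥(Subgroup.center ↥P) = 1 := by
      rw [Nat.card_eq_one_iff_unique]
      exact ⟨⟨fun a b => (h1 a).trans (h1 b).symm⟩, ⟨1⟩⟩
    rw [hcen] at h2
    exact hp.out.one_lt.ne' h2
  -- generator of H
  obtain ⟨a₀, ha₀⟩ := hH.exists_generator
  -- fixed points
  have hfixmem : ∀ (a : ↥H), a ≠ 1 → ∀ x : ↥P,
      (x.1 ∈ Subgroup.centralizer {a.1} ↔ x ∈ Subgroup.center ↥P) := by
    intro a ha x
    have ha1 : a.1 ≠ 1 := fun h => ha (Subtype.ext h)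
    have hset := hfix a.1 a.2 ha1
    constructor
    · intro hx
      have : x.1 ∈ P ⊓ Subgroup.centralizer {a.1} := Subgroup.mem_inf.mpr ⟨x.2, hx⟩
      rw [hset] at this
      obtain ⟨c, hc, hcx⟩ := this
      have : c = x := Subtype.ext hcx
      rw [← this]; exact hc
    · intro hx
      have : x.1 ∈ (Subgroup.center ↥P).map P.subtype := ⟨x, hx, rfl⟩
      rw [← hset] at this
      exact (Subgroup.mem_inf.mp this).2
  have hfz : ∀ a : ↥H, ρ a z = z := by
    intro a
    by_cases ha : a = 1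
    · rw [ha, map_one]; rfl
    · have h1 := (hfixmem a ha z).mpr hzc
      rw [Subgroup.mem_centralizer_singleton_iff] at h1
      apply Subtype.ext
      rw [hρ, ← h1, mul_inv_cancel_right]
  have hfree : ∀ a : ↥H, a ≠ 1 → ∀ x : ↥P, ρ a x = x → x ∈ Subgroup.zpowers z := by
    intro a ha x hx
    apply hcz
    apply (hfixmem a ha x).mp
    rw [Subgroup.mem_centralizer_singleton_iff]
    have h1 := congrArg Subtype.val hx
    rw [hρ] at h1
    have : a.1 * x.1 * a.1⁻¹ * a.1 = x.1 * a.1 := by rw [h1]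
    rw [← this]; group
  letI : MulDistribMulAction ↥H ↥P := MulDistribMulAction.compHom ↥P ρ
  exact main hX hz1 a₀ ha₀ hfz hfree hcop n hn

end Cfsg.Agent.S3767
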