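import Cfsg.Statements.S3768
import Cfsg.Agent.Lib.Helper19.Frobenius

set_option autoImplicit false
open Cfsg

namespace Cfsg.Agent.S3768

open Cfsg.Agent.Lib.Helper19 Cfsg.Agent.Lib.Helper20 MulAction
open scoped Pointwise

section
variable {G : Type*} [Group G]

theorem mem_of_conj_mem (R : Subgroup G) (hR : Cfsg.IsFrobeniusComplement R) {r x : G}
    (hr : r ∈ R) (hr1 : r ≠ 1) (hx : x⁻¹ * r * x ∈ R) : x ∈ R := by
  by_contra hxR
  have h1 := hR.2.2 x hxR
  have h2 : r ∈ R ⊓ MulAut.conj x • R :=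
    Subgroup.mem_inf.mpr ⟨hr, (mem_conj_smul_iff' x R r).mpr hx⟩
  rw [h1, Subgroup.mem_bot] at h2
  exact hr1 h2

theorem mem_of_commute (R : Subgroup G) (hR : Cfsg.IsFrobeniusComplement R) {r x : G}
    (hr : r ∈ R) (hr1 : r ≠ 1) (hx : x * r = r * x) : x ∈ R := by
  apply mem_of_conj_mem R hR hr hr1
  have : x⁻¹ * r * x = r := by
    rw [mul_assoc, ← hx]; group
  rw [this]; exact hr

/-- a normal subgroup meeting the complement nontrivially contains the Frobenius kernel -/
theorem inf_trivial_of_not_subset [Finite G] (R : Subgroup G) (hR : Cfsg.IsFrobeniusComplement R)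
    (N : Subgroup G) [hN : N.Normal] (hKN : ¬ Cfsg.frobeniusKernel R ⊆ N) :
    ∀ r ∈ R, r ∈ N → r = 1 := by
  classical
  intro h hhR hhN
  by_contra hh1
  apply hKN
  have : Fintype G := Fintype.ofFinite G
  -- |G/R| ≤ |N|
  let f : G ⧸ R → N := fun ω => ⟨ω.out * h * ω.out⁻¹, hN.conj_mem h hhN ω.out⟩
  have hf : Function.Injective f := by
    intro a b hab
    have h1 : a.out * h * a.out⁻¹ = b.out * h * b.out⁻¹ := congrArg Subtype.val hab
    have h2 : (a.out⁻¹ * b.out) * h = h * (a.out⁻¹ * b.out) := by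
      have e1 : (a.out⁻¹ * b.out) * h = a.out⁻¹ * (b.out * h * b.out⁻¹) * b.out := by group
      have e2 : h * (a.out⁻¹ * b.out) = a.out⁻¹ * (a.out * h * a.out⁻¹) * b.out := by group
      rw [e1, e2, h1]
    have h3 : a.out⁻¹ * b.out ∈ R := mem_of_commute R hR hhR hh1 h2
    rw [← QuotientGroup.out_eq' a, ← QuotientGroup.out_eq' b]
    exact QuotientGroup.eq.mpr h3
  have hle : R.index ≤ Nat.card N := Nat.card_le_card_of_injective f hf
  -- Burnside for N on G/R
  have hB := burnside_sub (G := G) (Ω := G ⧸ R) N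
  simp_rw [card_fixedBy_frobenius R hR] at hB
  have h1N : (1 : G) ∈ Finset.univ.filter (· ∈ N) := by simp [N.one_mem]
  rw [Finset.sum_add_distrib, Finset.sum_ite_eq' _ (1 : G), if_pos h1N] at hB
  have hsplit : ∑ g ∈ Finset.univ.filter (· ∈ N), (if g ∈ Cfsg.frobeniusKernel R then 1 else 0) +
      ∑ g ∈ Finset.univ.filter (· ∈ N), (if g ∈ Cfsg.frobeniusKernel R then 0 else 1)
        = Nat.card N := by
    rw [← Finset.sum_add_distrib]
    have : ∀ g ∈ Finset.univ.filter (· ∈ N),
        ((if g ∈ Cfsg.frobeniusKernel R then 1 else 0) +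
          (if g ∈ Cfsg.frobeniusKernel R then 0 else 1) : ℕ) = 1 := by
      intro g _; split_ifs <;> rfl
    rw [Finset.sum_congr rfl this, Finset.sum_const, smul_eq_mul, mul_one,
      Nat.card_eq_fintype_card, Fintype.card_subtype]
  have hpos : 1 ≤ ∑ g ∈ Finset.univ.filter (· ∈ N),
      (if g ∈ Cfsg.frobeniusKernel R then 1 else 0) := by
    have := Finset.single_le_sum (f := fun g => if g ∈ Cfsg.frobeniusKernel R then 1 else 0)
      (fun g _ => Nat.zero_le _) h1N
    simpa [one_mem_frobeniusKernel R] using this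
  set a := ∑ g ∈ Finset.univ.filter (· ∈ N), (if g ∈ Cfsg.frobeniusKernel R then 1 else 0)
    with ha
  set b := ∑ g ∈ Finset.univ.filter (· ∈ N), (if g ∈ Cfsg.frobeniusKernel R then 0 else 1)
    with hb
  have hna : R.index ≤ a := by
    have key : ∀ t : ℕ, R.index + b = t * Nat.card N → R.index ≤ a := by
      intro t hB
      have ht1 : t ≤ 1 := by
        by_contra hcon
        have h2 : 2 ≤ t := by omega
        have : 2 * Nat.card N ≤ t * Nat.card N := Nat.mul_le_mul_right _ h2
        omega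
      have : t * Nat.card N ≤ 1 * Nat.card N := Nat.mul_le_mul_right _ ht1
      omega
    exact key _ hB
  -- total count of the kernel
  have hK : ∑ g : G, (if g ∈ Cfsg.frobeniusKernel R then 1 else 0) = R.index := by
    rw [← card_frobeniusKernel R hR, Finset.sum_boole, Nat.card_eq_fintype_card,
      Fintype.card_subtype]
    simp
  intro k hk
  by_contra hkN
  have hknot : k ∉ Finset.univ.filter (· ∈ N) := by
    simp only [Finset.mem_filter, Finset.mem_univ, true_and]
    exact hkN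
  have h5 : ∑ g ∈ insert k (Finset.univ.filter (· ∈ N)),
      (if g ∈ Cfsg.frobeniusKernel R then 1 else 0) ≤
      ∑ g : G, (if g ∈ Cfsg.frobeniusKernel R then 1 else 0) :=
    Finset.sum_le_sum_of_subset (Finset.subset_univ _)
  rw [Finset.sum_insert hknot, if_pos hk, hK] at h5
  omega

/-- in `R N` every element of `r N` (`r ≠ 1`) is an `N`-conjugate of `r` -/
theorem exists_conj_eq [Finite G] (R : Subgroup G) (hR : Cfsg.IsFrobeniusComplement R)
    (N : Subgroup G) [hN : N.Normal] (hRN : ∀ r ∈ R, r ∈ N → r = 1) {r : G} (hr : r ∈ R)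
    (hr1 : r ≠ 1) {n : G} (hn : n ∈ N) : ∃ x ∈ N, r * n = x * r * x⁻¹ := by
  let φ : N → N := fun x => ⟨r⁻¹ * x * r * (x : G)⁻¹, by
    have h1 : r⁻¹ * x * r ∈ N := by
      have := hN.conj_mem x x.2 r⁻¹
      simpa using this
    exact N.mul_mem h1 (N.inv_mem x.2)⟩
  have hφ : Function.Injective φ := by
    intro x y hxy
    have h1 : r⁻¹ * x * r * (x : G)⁻¹ = r⁻¹ * y * r * (y : G)⁻¹ := congrArg Subtype.val hxy
    have h2 : ((y : G)⁻¹ * x) * r = r * ((y : G)⁻¹ * x) := by
      have e1 : ((y : G)⁻¹ * x) * r = (y : G)⁻¹ * r * (r⁻¹ * x * r * (x : G)⁻¹) * x := by group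
      have e2 : r * ((y : G)⁻¹ * x) = (y : G)⁻¹ * r * (r⁻¹ * y * r * (y : G)⁻¹) * x := by group
      rw [e1, e2, h1]
    have h3 : (y : G)⁻¹ * x ∈ R := mem_of_commute R hR hr hr1 h2
    have h4 : (y : G)⁻¹ * x = 1 := hRN _ h3 (N.mul_mem (N.inv_mem y.2) x.2)
    apply Subtype.ext
    have : (x : G) = y * ((y : G)⁻¹ * x) := by group
    rw [this, h4, mul_one]
  obtain ⟨x, hx⟩ := (Finite.injective_iff_surjective.mp hφ) ⟨n, hn⟩
  refine ⟨x, x.2, ?_⟩
  have h1 : r⁻¹ * x * r * (x : G)⁻¹ = n := congrArg Subtype.val hx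
  rw [← h1]; group

end


/-- Let G be a finite Frobenius group with Frobenius complement R and Frobenius kernel K (the identity together with the elements in no conjugate of R), and let N be a normal subgroup of G not containing K. Then G/N is a Frobenius group with Frobenius complement RN/N whose Frobenius kernel is the image of K. -/
theorem result {G : Type*} [Group G] [Finite G] (R : Subgroup G) (hR : Cfsg.IsFrobeniusComplement R) (N : Subgroup G) [N.Normal] (hKN : ¬ Cfsg.frobeniusKernel R ⊆ N) : Cfsg.IsFrobeniusComplement (R.map (QuotientGroup.mk' N)) ∧ Cfsg.frobeniusKernel (R.map (QuotientGroup.mk' N)) = QuotientGroup.mk' N '' Cfsg.frobeniusKernel R := by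
  have hRN := inf_trivial_of_not_subset R hR N hKN
  have hmk : ∀ a b : G, QuotientGroup.mk' N a = QuotientGroup.mk' N b → ∃ m ∈ N, b = a * m := by
    intro a b hab
    refine ⟨a⁻¹ * b, QuotientGroup.eq.mp hab, by group⟩
  refine ⟨⟨?_, ?_, ?_⟩, ?_⟩
  · intro hbot
    rw [Subgroup.map_eq_bot_iff, QuotientGroup.ker_mk'] at hbot
    apply hR.1
    rw [eq_bot_iff]
    intro r hr
    rw [Subgroup.mem_bot]
    exact hRN r hr (hbot hr)
  · intro htop
    obtain ⟨k, hk, hkN⟩ := Set.not_subset.mp hKN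
    have hk1 : k ≠ 1 := fun h => hkN (h ▸ N.one_mem)
    have hmem : QuotientGroup.mk' N k ∈ R.map (QuotientGroup.mk' N) := by rw [htop]; trivial
    obtain ⟨r, hr, hrk⟩ := hmem
    obtain ⟨m, hm, hkm⟩ := hmk r k hrk
    have hr1 : r ≠ 1 := by
      intro h
      apply hkN
      rw [hkm, h, one_mul]; exact hm
    obtain ⟨x, -, hx⟩ := exists_conj_eq R hR N hRN hr hr1 hm
    rcases hk with h | h
    · exact hk1 h
    · apply h x
      rw [mem_conj_smul_iff', hkm, hx]
      have : x⁻¹ * (x * r * x⁻¹) * x = r := by group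
      rw [this]; exact hr
  · intro gbar hg
    obtain ⟨g, rfl⟩ := QuotientGroup.mk'_surjective N gbar
    rw [eq_bot_iff]
    rintro z ⟨hz1, hz2⟩
    rw [Subgroup.mem_bot]
    by_contra hz
    obtain ⟨r₁, hr₁, rfl⟩ := hz1
    have hz2' : (QuotientGroup.mk' N g)⁻¹ * QuotientGroup.mk' N r₁ * QuotientGroup.mk' N g ∈
        R.map (QuotientGroup.mk' N) := (mem_conj_smul_iff' _ _ _).mp hz2
    obtain ⟨r₂, hr₂, h2⟩ := hz2'
    have hr₁N : r₁ ∉ N := fun h => hz ((QuotientGroup.eq_one_iff r₁).mpr h)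
    have hr₁1 : r₁ ≠ 1 := fun h => hr₁N (h ▸ N.one_mem)
    have h2' : QuotientGroup.mk' N r₂ = QuotientGroup.mk' N (g⁻¹ * r₁ * g) := by
      rw [h2, map_mul, map_mul, map_inv]
    obtain ⟨m, hm, hgm⟩ := hmk _ _ h2'
    have hr₂1 : r₂ ≠ 1 := by
      intro h
      apply hr₁N
      have h3 : g⁻¹ * r₁ * g ∈ N := by rw [hgm, h, one_mul]; exact hm
      have := ‹N.Normal›.conj_mem _ h3 g
      have e : g * (g⁻¹ * r₁ * g) * g⁻¹ = r₁ := by group
      rwa [e] at this
    obtain ⟨x, hxN, hx⟩ := exists_conj_eq R hR N hRN hr₂ hr₂1 hm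
    have h4 : (g * x)⁻¹ * r₁ * (g * x) ∈ R := by
      have e : (g * x)⁻¹ * r₁ * (g * x) = x⁻¹ * (g⁻¹ * r₁ * g) * x := by group
      rw [e, hgm, hx]
      have : x⁻¹ * (x * r₂ * x⁻¹) * x = r₂ := by group
      rw [this]; exact hr₂
    have h5 : g * x ∈ R := mem_of_conj_mem R hR hr₁ hr₁1 h4
    apply hg
    refine ⟨g * x, h5, ?_⟩
    have hx1 : QuotientGroup.mk' N x = 1 := (QuotientGroup.eq_one_iff x).mpr hxN
    rw [map_mul, hx1, mul_one]
  · ext zbar
    obtain ⟨z, rfl⟩ := QuotientGroup.mk'_surjective N zbar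
    constructor
    · intro hz
      by_cases hzK : z ∈ Cfsg.frobeniusKernel R
      · exact ⟨z, hzK, rfl⟩
      · have hex : ∃ g : G, z ∈ MulAut.conj g • R := by
          by_contra hne
          exact hzK (Or.inr (fun g hg => hne ⟨g, hg⟩))
        obtain ⟨g, hg⟩ := hex
        rw [mem_conj_smul_iff'] at hg
        rcases hz with h | h
        · exact ⟨1, Or.inl rfl, by rw [map_one]; exact h.symm⟩
        · exfalso
          apply h (QuotientGroup.mk' N g)
          rw [mem_conj_smul_iff']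
          refine ⟨g⁻¹ * z * g, hg, ?_⟩
          rw [map_mul, map_mul, map_inv]
    · rintro ⟨k, hk, hkz⟩
      rw [← hkz]
      by_cases hkN : k ∈ N
      · exact Or.inl ((QuotientGroup.eq_one_iff k).mpr hkN)
      · right
        intro gbar hmem
        obtain ⟨g, rfl⟩ := QuotientGroup.mk'_surjective N gbar
        rw [mem_conj_smul_iff'] at hmem
        obtain ⟨r, hr, h2⟩ := hmem
        have h2' : QuotientGroup.mk' N r = QuotientGroup.mk' N (g⁻¹ * k * g) := by
          rw [h2, map_mul, map_mul, map_inv]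
        obtain ⟨m, hm, hgm⟩ := hmk _ _ h2'
        have hr1 : r ≠ 1 := by
          intro h
          apply hkN
          have h3 : g⁻¹ * k * g ∈ N := by rw [hgm, h, one_mul]; exact hm
          have := ‹N.Normal›.conj_mem _ h3 g
          have e : g * (g⁻¹ * k * g) * g⁻¹ = k := by group
          rwa [e] at this
        obtain ⟨x, hxN, hx⟩ := exists_conj_eq R hR N hRN hr hr1 hm
        rcases hk with h | h
        · exact hkN (h ▸ N.one_mem)
        · apply h (g * x)
          rw [mem_conj_smul_iff']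
          have e : (g * x)⁻¹ * k * (g * x) = x⁻¹ * (g⁻¹ * k * g) * x := by group
          rw [e, hgm, hx]
          have : x⁻¹ * (x * r * x⁻¹) * x = r := by group
          rw [this]; exact hr

end Cfsg.Agent.S3768
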