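import Cfsg.Statements.S3770
import Cfsg.Agent.Lib.Helper11.FrobOneDim
import Cfsg.Agent.Lib.Helper11.FrobKernelNil
import Cfsg.Agent.Lib.Helper1.FrobeniusThm
import Cfsg.Agent.S0039

set_option autoImplicit false
open Cfsg

namespace Cfsg.Agent.S3770

open Cfsg.Agent.Lib.Helper11.FrobOneDim Cfsg.Agent.Lib.Helper11.FrobKernelNil


/-- Let G and V be subgroups of a finite group with G a Frobenius group with complement R of prime order and kernel K, G normalizing V, and V an elementary abelian ℓ-group for a prime ℓ not dividing the order of G. If C_V(R) has order ℓ, then the derived subgroup of K centralizes V. -/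
theorem result {X : Type*} [Group X] [Finite X] (G : Subgroup X) (V : Subgroup X) {ℓ : ℕ} (hℓ : ℓ.Prime) (hV : Cfsg.IsElementaryAbelian ℓ V) (hℓG : ¬ ℓ ∣ Nat.card G) (hGV : G ≤ Subgroup.normalizer (V : Set X)) (R : Subgroup ↥G) (hR : Cfsg.IsFrobeniusComplement R) (hRp : (Nat.card R).Prime) (hCV : Nat.card ↥(V ⊓ Subgroup.centralizer ((R.map G.subtype : Subgroup X) : Set X)) = ℓ) : ⁅Subgroup.closure (Subtype.val '' Cfsg.frobeniusKernel R), Subgroup.closure (Subtype.val '' Cfsg.frobeniusKernel R)⁆ ≤ Subgroup.centralizer (V : Set X) := by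
  have : Fact ℓ.Prime := ⟨hℓ⟩
  obtain ⟨N, hNk, hNn, hNc⟩ := Cfsg.Agent.Lib.Helper1.frobenius_theorem R hR
  have hcl : Subgroup.closure (Subtype.val '' Cfsg.frobeniusKernel R) = N.map G.subtype := by
    rw [← hNk]
    have h1 : (Subtype.val '' (N : Set ↥G)) = ((N.map G.subtype : Subgroup X) : Set X) := by
      rw [Subgroup.coe_map]
      rfl
    rw [h1, Subgroup.closure_eq]
  rw [hcl]
  have hN1 : N ≠ ⊥ := by
    intro h
    rw [h, Subgroup.isComplement'_bot_left] at hNc
    exact hR.2.1 hNc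
  have hfpfG := (Cfsg.Agent.S0039.result N R hNc hN1 hR.1).mp hR
  have hfpf1 : ∀ e ∈ R.map G.subtype, e ≠ 1 → ∀ u ∈ N.map G.subtype, e * u = u * e → u = 1 := by
    rintro _ ⟨r, hr, rfl⟩ hr1 _ ⟨n, hn, rfl⟩ hcomm
    have hr1' : r ≠ 1 := by
      intro h
      apply hr1
      rw [h, map_one]
    have h1 : n ∈ N ⊓ Subgroup.centralizer ({r} : Set ↥G) := by
      refine Subgroup.mem_inf.mpr ⟨hn, ?_⟩
      rw [Subgroup.mem_centralizer_iff]
      intro y hy
      rw [Set.mem_singleton_iff] at hy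
      rw [hy]
      apply Subtype.ext
      exact hcomm
    rw [hfpfG r hr hr1', Subgroup.mem_bot] at h1
    rw [h1, map_one]
  have hfpf : ∀ r ∈ R.map G.subtype, r ≠ 1 →
      N.map G.subtype ⊓ Subgroup.centralizer ({r} : Set X) = ⊥ := by
    intro r hr hr1
    rw [eq_bot_iff]
    intro u hu
    obtain ⟨hu1, hu2⟩ := Subgroup.mem_inf.mp hu
    rw [Subgroup.mem_bot]
    exact hfpf1 r hr hr1 u hu1 ((Subgroup.mem_centralizer_iff.mp hu2) r (Set.mem_singleton _))
  have hRK : R.map G.subtype ≤ Subgroup.normalizer ((N.map G.subtype : Subgroup X) : Set X) := by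
    rw [Subgroup.le_normalizer_iff]
    rintro _ ⟨r, hr, rfl⟩ _ ⟨n, hn, rfl⟩
    exact ⟨r * n * r⁻¹, hNn.conj_mem n hn r, by simp⟩
  have hR1 : R.map G.subtype ≠ ⊥ := by
    intro h
    apply hR.1
    rw [eq_bot_iff]
    intro r hr
    have h1 : G.subtype r ∈ R.map G.subtype := Subgroup.mem_map_of_mem _ hr
    rw [h, Subgroup.mem_bot] at h1
    rw [Subgroup.mem_bot]
    exact Subtype.ext h1
  have hKnil : Group.IsNilpotent (N.map G.subtype) :=
    kernel_nilpotent (N.map G.subtype) (R.map G.subtype) hR1 hRK hfpf1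
  have hKℓ : ¬ ℓ ∣ Nat.card (N.map G.subtype) := by
    rw [Subgroup.card_map_of_injective G.subtype_injective]
    exact fun h => hℓG (h.trans (Subgroup.card_subgroup_dvd_card N))
  have hRℓ : ¬ ℓ ∣ Nat.card (R.map G.subtype) := by
    rw [Subgroup.card_map_of_injective G.subtype_injective]
    exact fun h => hℓG (h.trans (Subgroup.card_subgroup_dvd_card R))
  have hVc : ∀ x ∈ V, ∀ y ∈ V, x * y = y * x := by
    intro x hx y hy
    exact congrArg Subtype.val ((isMulCommutative_iff.mp hV.1) ⟨x, hx⟩ ⟨y, hy⟩)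
  exact derived_of_fixed_prime ℓ (N.map G.subtype) (R.map G.subtype) V hRK hKnil hfpf hKℓ hRℓ
    hVc hV.2 ((Subgroup.map_subtype_le N).trans hGV) ((Subgroup.map_subtype_le R).trans hGV) hCV

end Cfsg.Agent.S3770
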