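import Cfsg.Statements.S3771
import Cfsg.Agent.S3741
import Cfsg.Agent.S0015
import Cfsg.Agent.Lib.helper17.PAct

set_option autoImplicit false
open Cfsg

namespace Cfsg.Agent.S3771

theorem comm_ne_of_nilpotent {G : Type*} [Group G] [Group.IsNilpotent G] (N : Subgroup G)
    (hN : N ≠ ⊥) : ⁅N, (⊤ : Subgroup G)⁆ ≠ N := by
  intro h
  obtain ⟨n, hn⟩ := Subgroup.nilpotent_iff_lowerCentralSeries.mp (inferInstance : Group.IsNilpotent G)
  have hle : ∀ k, N ≤ (⊤ : Subgroup G).lowerCentralSeries k := by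
    intro k
    induction k with
    | zero => exact le_top
    | succ k ih =>
      rw [Subgroup.lowerCentralSeries_succ, ← h]
      exact Subgroup.commutator_mono ih le_rfl
  apply hN
  rw [eq_bot_iff, ← hn]
  exact hle n


/-- Let p be a prime and R a finite p-group of p-rank at most 2 (no elementary abelian subgroup of order p³) in which every element has order dividing p. Then R has order at most p³. -/
theorem result {R : Type*} [Group R] [Finite R] {p : ℕ} [Fact p.Prime] (hR : IsPGroup p R) (hrank : Cfsg.PRankLE p 2 R) (hexp : ∀ x : R, x ^ p = 1) : Nat.card R ≤ p ^ 3 := by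
  classical
  have hp : p.Prime := Fact.out
  have hnil : Group.IsNilpotent R := hR.isNilpotent
  -- a maximal normal abelian subgroup
  have hfin : {N : Subgroup R | N.Normal ∧ IsMulCommutative N}.Finite := Set.toFinite _
  obtain ⟨N, hNmax⟩ := hfin.exists_maximal ⟨⊥, inferInstance, inferInstance⟩
  obtain ⟨⟨hNn, hNc⟩, hmax⟩ := hNmax
  have hCN : Subgroup.centralizer (N : Set R) = N := by
    apply Cfsg.Agent.S0015.result N
    intro M hMn hMc hle
    exact le_antisymm (hmax ⟨hMn, hMc⟩ hle) hle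
  have hNcard : Nat.card N ≤ p ^ 2 := hrank N hNc (fun a _ => hexp a)
  by_cases hbot : N = ⊥
  · -- then R is trivial
    have htop : (⊤ : Subgroup R) = ⊥ := by
      rw [hbot] at hCN
      rw [← hCN, eq_comm, Subgroup.centralizer_eq_top_iff_subset]
      intro x hx
      rw [SetLike.mem_coe, Subgroup.mem_bot] at hx
      rw [hx]; exact Subgroup.one_mem _
    have : Nat.card R = 1 := by
      rw [← Subgroup.card_top (G := R), htop, Subgroup.card_bot]
    rw [this]
    exact Nat.one_le_pow _ _ hp.pos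
  -- [R, N] has order at most p
  have hcomm_le : ⁅(⊤ : Subgroup R), N⁆ ≤ N := by
    rw [Subgroup.commutator_comm]
    exact Subgroup.commutator_le_left N ⊤
  have hcomm_ne : ⁅(⊤ : Subgroup R), N⁆ ≠ N := by
    rw [Subgroup.commutator_comm]
    exact comm_ne_of_nilpotent N hbot
  obtain ⟨a, ha⟩ := IsPGroup.iff_card.mp (hR.to_subgroup N)
  obtain ⟨b, hb⟩ := IsPGroup.iff_card.mp (hR.to_subgroup ⁅(⊤ : Subgroup R), N⁆)
  have ha2 : a ≤ 2 := by
    rw [ha] at hNcard
    exact (Nat.pow_le_pow_iff_right hp.one_lt).mp hNcard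
  have hba : b < a := by
    have hlt : Nat.card ↥⁅(⊤ : Subgroup R), N⁆ < Nat.card N := by
      apply lt_of_le_of_ne (Subgroup.card_le_of_le hcomm_le)
      intro heq
      exact hcomm_ne (Subgroup.eq_of_le_of_card_ge hcomm_le heq.ge)
    rw [ha, hb] at hlt
    exact (Nat.pow_lt_pow_iff_right hp.one_lt).mp hlt
  have hcard1 : Nat.card ↥⁅(⊤ : Subgroup R), N⁆ ≤ p := by
    rw [hb]
    calc p ^ b ≤ p ^ 1 := Nat.pow_le_pow_right hp.pos (by omega)
      _ = p := pow_one p
  have hkey := Cfsg.Agent.S3741.result hR ⊤ N (le_inf le_top hcomm_le) hcard1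
  rw [top_inf_eq, hCN, Subgroup.relIndex_top_right] at hkey
  -- N ∩ Z(R) is nontrivial
  have hZ := Cfsg.Agent.Lib.helper17.nilpotent_normal_inf_center_ne_bot N hbot
  have hcen : Subgroup.centralizer ((⊤ : Subgroup R) : Set R) = Subgroup.center R := by
    rw [Subgroup.coe_top, Subgroup.centralizer_univ]
  rw [hcen] at hkey
  obtain ⟨c, hc⟩ := IsPGroup.iff_card.mp (hR.to_subgroup (N ⊓ Subgroup.center R))
  have hc0 : c ≠ 0 := by
    rintro rfl
    rw [pow_zero] at hc
    exact hZ (Subgroup.card_eq_one.mp hc)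
  have hrel : (N ⊓ Subgroup.center R).relIndex N * Nat.card ↥(N ⊓ Subgroup.center R) =
      Nat.card N := by
    have := Subgroup.card_mul_index ((N ⊓ Subgroup.center R).subgroupOf N)
    rw [Nat.card_congr (Subgroup.subgroupOfEquivOfLe
      (inf_le_left : N ⊓ Subgroup.center R ≤ N)).toEquiv] at this
    rw [mul_comm]; exact this
  have hidx : N.index ≤ p := by
    rw [hkey]
    -- relIndex * p^c = p^a with c ≥ 1, a ≤ 2
    rw [hc, ha] at hrel
    have h1 : (N ⊓ Subgroup.center R).relIndex N * p ≤ p ^ 2 := by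
      calc (N ⊓ Subgroup.center R).relIndex N * p
          = (N ⊓ Subgroup.center R).relIndex N * p ^ 1 := by rw [pow_one]
        _ ≤ (N ⊓ Subgroup.center R).relIndex N * p ^ c :=
            Nat.mul_le_mul_left _ (Nat.pow_le_pow_right hp.pos (by omega))
        _ = p ^ a := hrel
        _ ≤ p ^ 2 := Nat.pow_le_pow_right hp.pos ha2
    rw [pow_two] at h1
    exact Nat.le_of_mul_le_mul_right h1 hp.pos
  calc Nat.card R = Nat.card N * N.index := (Subgroup.card_mul_index N).symm
    _ ≤ p ^ 2 * p := Nat.mul_le_mul hNcard hidx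
    _ = p ^ 3 := by ring

end Cfsg.Agent.S3771
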