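import Cfsg.Statements.S3772
import Cfsg.Agent.Lib.Helper20.QuadCount

set_option autoImplicit false
open Cfsg

namespace Cfsg.Agent.S3772

open scoped commutatorElement


/-- Let G be a finite 2-group whose Frattini subgroup Φ(G) has order 2, with |G : Φ(G)| = 2^d, and let j be the number of elements x of G with x² = 1. Then j = 2^d, or j = 2^d + 2^(d−r) or j = 2^d − 2^(d−r) for some positive integer r with 2r ≤ d. Moreover if d = 2r and j is 2^d + 2^r or 2^d − 2^r, then G is extraspecial. -/
theorem result {G : Type*} [Group G] [Finite G] (hG : IsPGroup 2 G) (hΦ : Nat.card (frattini G) = 2) (d : ℕ) (hd : (frattini G).index = 2 ^ d) : (Nat.card {x : G // x ^ 2 = 1} = 2 ^ d ∨ ∃ r : ℕ, 1 ≤ r ∧ 2 * r ≤ d ∧ (Nat.card {x : G // x ^ 2 = 1} = 2 ^ d + 2 ^ (d - r) ∨ Nat.card {x : G // x ^ 2 = 1} + 2 ^ (d - r) = 2 ^ d)) ∧ (∀ r : ℕ, d = 2 * r → (Nat.card {x : G // x ^ 2 = 1} = 2 ^ d + 2 ^ r ∨ Nat.card {x : G // x ^ 2 = 1} + 2 ^ r = 2 ^ d) → Cfsg.IsExtraspecial 2 G) := by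
  have hmain := Cfsg.Agent.Lib.Helper20.frat_two_count hG hΦ d hd
  have hcardG : Nat.card G = 2 ^ (d + 1) := by
    rw [← Subgroup.card_mul_index (frattini G), hΦ, hd]; ring
  constructor
  · rcases hmain with h | ⟨c, m, _, hcd, hm, _, hj⟩
    · left; exact h
    · right
      refine ⟨d - m, by omega, by omega, ?_⟩
      have : d - (d - m) = m := by omega
      rw [this]
      exact hj
  · intro r hdr hj
    have hpos : 0 < 2 ^ r := by positivity
    rcases hmain with h | ⟨c, m, hZ, hcd, hm, hΦZ, hj'⟩
    · exfalso; rcases hj with h' | h' <;> omega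
    · have hmr : m = r := by
        have h2 : (2 : ℕ) ^ m = 2 ^ r := by
          have hpm : 0 < 2 ^ m := by positivity
          rcases hj with h' | h' <;> rcases hj' with h'' | h'' <;> omega
        exact Nat.pow_right_injective (le_refl 2) h2
      have hc0 : c = 0 := by omega
      subst hc0
      have hZ2 : Nat.card (Subgroup.center G) = 2 := by simpa using hZ
      have hΦeq : frattini G = Subgroup.center G := by
        apply Subgroup.eq_of_le_of_card_ge hΦZ
        rw [hZ2, hΦ]
      have hcomm_le : commutator G ≤ Subgroup.center G := by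
        rw [← hΦeq]; exact Cfsg.Agent.Lib.Helper1.pgroup_commutator_le_frattini hG
      have hcomm_ne : commutator G ≠ ⊥ := by
        intro hbot
        have htop : Subgroup.center G = ⊤ := by
          rw [eq_top_iff]
          intro x _
          rw [Subgroup.mem_center_iff]
          intro g
          have hmem : ⁅g, x⁆ ∈ commutator G := by
            rw [commutator_def]
            exact Subgroup.commutator_mem_commutator (Subgroup.mem_top g) (Subgroup.mem_top x)
          rw [hbot, Subgroup.mem_bot, commutatorElement_eq_one_iff_commute] at hmem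
          exact hmem.eq
        rw [htop, Subgroup.card_top, hcardG] at hZ2
        have : (2 : ℕ) ^ (d + 1) = 2 ^ 1 := by simpa using hZ2
        have := Nat.pow_right_injective (le_refl 2) this
        omega
      have hcomm_eq : commutator G = Subgroup.center G := by
        apply Subgroup.eq_of_le_of_card_ge hcomm_le
        rw [hZ2]
        have h1 : Nat.card (commutator G) ≠ 1 := fun h => hcomm_ne (Subgroup.card_eq_one.mp h)
        have h0 : 0 < Nat.card (commutator G) := Nat.card_pos
        omega
      exact ⟨⟨hG, hΦeq, hcomm_eq⟩, hZ2⟩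

end Cfsg.Agent.S3772
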