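import Cfsg.Statements.S3773
import Cfsg.Agent.Lib.Helper20.QuadCW

set_option autoImplicit false
open Cfsg

namespace Cfsg.Agent.S3773



/-- Let G be a finite 2-group of nilpotency class at most 2 and exponent dividing 4 in which the elements x with x² = 1 form a subgroup N. Then |G| ≤ |N|³, and |G| < |N|³ unless G is special. -/
theorem result {G : Type*} [Group G] [Finite G] (hG : IsPGroup 2 G) (hcl : (⊤ : Subgroup G).lowerCentralSeries 2 = ⊥) (hexp : ∀ x : G, x ^ 4 = 1) (hN : ∀ x y : G, x ^ 2 = 1 → y ^ 2 = 1 → (x * y) ^ 2 = 1) : Nat.card G ≤ Nat.card {x : G // x ^ 2 = 1} ^ 3 ∧ (¬ Cfsg.IsSpecial 2 G → Nat.card G < Nat.card {x : G // x ^ 2 = 1} ^ 3) := by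
  have h := Cfsg.Agent.Lib.Helper20.exp_four_le hG hcl hexp hN
  have hW : Nat.card ↥(Cfsg.Agent.Lib.Helper20.invSubgroup hN ⊓ Subgroup.center G) ≤
      Nat.card {x : G // x ^ 2 = 1} :=
    Subgroup.card_le_of_le (inf_le_left : _ ≤ Cfsg.Agent.Lib.Helper20.invSubgroup hN)
  have hle : Nat.card G ≤ Nat.card {x : G // x ^ 2 = 1} ^ 3 := by
    calc Nat.card G ≤ _ := h.1
      _ ≤ Nat.card {x : G // x ^ 2 = 1} * Nat.card {x : G // x ^ 2 = 1} ^ 2 :=
          Nat.mul_le_mul_right _ hW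
      _ = Nat.card {x : G // x ^ 2 = 1} ^ 3 := by ring
  refine ⟨hle, fun hns => ?_⟩
  by_contra hcon
  push Not at hcon
  exact hns (Cfsg.Agent.Lib.Helper20.exp_four_special hG hcl hexp hN hcon)

end Cfsg.Agent.S3773
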