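import Cfsg.Statements.S3774

set_option autoImplicit false
open Cfsg

namespace Cfsg.Agent.S3774

section
variable {G : Type*} [Group G]

/-- the involution in `⟨x⟩` -/
noncomputable def involPow (x : G) : G := x ^ (orderOf x / 2)

theorem involPow_map (a : MulAut G) (x : G) : involPow (a x) = a (involPow x) := by
  unfold involPow
  rw [MulEquiv.orderOf_eq, map_pow]

theorem involPow_spec (hG : IsPGroup 2 G) {x : G} (hx : x ≠ 1) : involPow x ≠ 1 ∧ involPow x ^ 2 = 1 := by
  obtain ⟨j, hj⟩ := (IsPGroup.iff_orderOf.mp hG) x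
  have hj0 : j ≠ 0 := by
    rintro rfl
    rw [pow_zero, orderOf_eq_one_iff] at hj
    exact hx hj
  obtain ⟨i, rfl⟩ := Nat.exists_eq_succ_of_ne_zero hj0
  have h2 : orderOf x / 2 = 2 ^ i := by
    rw [hj, pow_succ]; exact Nat.mul_div_cancel _ (by norm_num)
  unfold involPow
  rw [h2]
  constructor
  · intro h
    have h3 : orderOf x ∣ 2 ^ i := orderOf_dvd_of_pow_eq_one h
    rw [hj] at h3
    have h4 := Nat.le_of_dvd (by positivity) h3
    have h5 : 2 ^ i < 2 ^ (i + 1) := Nat.pow_lt_pow_right (by norm_num) (Nat.lt_succ_self i)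
    omega
  · rw [← pow_mul, ← pow_succ, ← hj, pow_orderOf_eq_one]

end


/-- Let G be a nontrivial finite 2-group whose automorphism group permutes the involutions of G transitively. Then every involution of G is central, so that the involutions together with 1 form the subgroup Ω₁(Z(G)), and if this subgroup has order q then |G| is a power of q. -/
theorem result {G : Type*} [Group G] [Finite G] [Nontrivial G] (hG : IsPGroup 2 G) (htrans : ∀ x y : G, x ≠ 1 → x ^ 2 = 1 → y ≠ 1 → y ^ 2 = 1 → ∃ a : MulAut G, a x = y) : (∀ x : G, x ^ 2 = 1 → x ∈ Subgroup.center G) ∧ ∃ m : ℕ, Nat.card G = Nat.card {z : G // z ^ 2 = 1} ^ m := by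
  classical
  have : Fintype G := Fintype.ofFinite G
  -- a central involution
  have hZ : ∃ z₀ ∈ Subgroup.center G, z₀ ≠ 1 ∧ z₀ ^ 2 = 1 := by
    have hc : Nontrivial (Subgroup.center G) := hG.center_nontrivial
    have h2 : 2 ∣ Nat.card (Subgroup.center G) := by
      obtain ⟨k, hk⟩ := IsPGroup.iff_card.mp (hG.to_subgroup (Subgroup.center G))
      have hk0 : k ≠ 0 := by
        rintro rfl
        rw [pow_zero] at hk
        have := Finite.one_lt_card (α := Subgroup.center G)
        omega
      rw [hk]; exact dvd_pow_self 2 hk0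
    obtain ⟨z, hz⟩ := exists_prime_orderOf_dvd_card' (G := Subgroup.center G) 2 h2
    refine ⟨z, z.2, ?_, ?_⟩
    · intro h
      have : z = 1 := Subtype.ext h
      rw [this, orderOf_one] at hz
      omega
    · have := pow_orderOf_eq_one z
      rw [hz] at this
      exact_mod_cast congrArg Subtype.val this
  obtain ⟨z₀, hz₀c, hz₀1, hz₀2⟩ := hZ
  have part1 : ∀ x : G, x ^ 2 = 1 → x ∈ Subgroup.center G := by
    intro x hx
    by_cases hx1 : x = 1
    · rw [hx1]; exact Subgroup.one_mem _
    · obtain ⟨a, ha⟩ := htrans z₀ x hz₀1 hz₀2 hx1 hx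
      rw [← ha, Subgroup.mem_center_iff]
      intro g
      obtain ⟨g', rfl⟩ := a.surjective g
      rw [← map_mul, ← map_mul, Subgroup.mem_center_iff.mp hz₀c g']
  refine ⟨part1, ?_⟩
  -- counting
  set S : Finset G := Finset.univ.filter (fun x : G => x ≠ 1) with hS
  set T : Finset G := Finset.univ.filter (fun z : G => z ≠ 1 ∧ z ^ 2 = 1) with hT
  have h1 : S.card = ∑ z ∈ T, (S.filter (fun x => involPow x = z)).card := by
    apply Finset.card_eq_sum_card_fiberwise
    intro x hx
    have hx1 : x ≠ 1 := (Finset.mem_filter.mp hx).2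
    have := involPow_spec hG hx1
    simp only [hT, Finset.coe_filter, Finset.mem_univ, true_and, Set.mem_setOf_eq]
    exact this
  have h2 : ∀ z ∈ T, (S.filter (fun x => involPow x = z)).card =
      (S.filter (fun x => involPow x = z₀)).card := by
    intro z hz
    obtain ⟨hz1, hz2⟩ := (Finset.mem_filter.mp hz).2
    obtain ⟨a, ha⟩ := htrans z₀ z hz₀1 hz₀2 hz1 hz2
    symm
    apply Finset.card_bij (fun x _ => a x)
    · intro x hx
      rw [Finset.mem_filter] at hx ⊢
      obtain ⟨hxS, hxz⟩ := hx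
      have hx1 : x ≠ 1 := (Finset.mem_filter.mp hxS).2
      refine ⟨Finset.mem_filter.mpr ⟨Finset.mem_univ _, ?_⟩, ?_⟩
      · intro h
        apply hx1
        apply a.injective
        rw [h, map_one]
      · rw [involPow_map, hxz, ha]
    · intro x _ y _ hxy
      exact a.injective hxy
    · intro y hy
      rw [Finset.mem_filter] at hy
      obtain ⟨hyS, hyz⟩ := hy
      have hy1 : y ≠ 1 := (Finset.mem_filter.mp hyS).2
      refine ⟨a.symm y, ?_, a.apply_symm_apply y⟩
      rw [Finset.mem_filter]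
      refine ⟨Finset.mem_filter.mpr ⟨Finset.mem_univ _, ?_⟩, ?_⟩
      · intro h
        apply hy1
        apply a.symm.injective
        rw [h, map_one]
      · have := involPow_map a.symm y
        rw [this, hyz, ← ha, a.symm_apply_apply]
  rw [Finset.sum_congr rfl h2, Finset.sum_const, smul_eq_mul] at h1
  set c := (S.filter (fun x => involPow x = z₀)).card with hc
  have hScard : S.card = Nat.card G - 1 := by
    rw [hS, Finset.filter_ne' Finset.univ (1 : G), Finset.card_erase_of_mem (Finset.mem_univ _),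
      Finset.card_univ, Nat.card_eq_fintype_card]
  -- the subgroup of involutions
  let V : Subgroup G :=
    { carrier := {z | z ∈ Subgroup.center G ∧ z ^ 2 = 1}
      one_mem' := ⟨Subgroup.one_mem _, one_pow 2⟩
      mul_mem' := by
        rintro a b ⟨ha, ha'⟩ ⟨hb, hb'⟩
        refine ⟨Subgroup.mul_mem _ ha hb, ?_⟩
        have : Commute a b := (Subgroup.mem_center_iff.mp ha b).symm
        rw [this.mul_pow, ha', hb', one_mul]
      inv_mem' := by
        rintro a ⟨ha, ha'⟩
        exact ⟨Subgroup.inv_mem _ ha, by rw [inv_pow, ha', inv_one]⟩ }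
  have hVq : Nat.card V = Nat.card {z : G // z ^ 2 = 1} := by
    apply Nat.card_congr
    exact Equiv.subtypeEquivRight (fun z => ⟨fun h => h.2, fun h => ⟨part1 z h, h⟩⟩)
  obtain ⟨k, hk⟩ := IsPGroup.iff_card.mp (hG.to_subgroup V)
  obtain ⟨n, hn⟩ := IsPGroup.iff_card.mp hG
  set q := Nat.card {z : G // z ^ 2 = 1} with hq
  have hTcard : T.card = q - 1 := by
    have e : T = (Finset.univ.filter (fun z : G => z ^ 2 = 1)).erase 1 := by
      ext z
      simp only [hT, Finset.mem_filter, Finset.mem_univ, true_and, Finset.mem_erase]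
    rw [e, Finset.card_erase_of_mem (by simp), hq, Nat.card_eq_fintype_card, Fintype.card_subtype]
  have hqk : q = 2 ^ k := by rw [← hk, hVq]
  have hdvd : 2 ^ k - 1 ∣ 2 ^ n - 1 := by
    rw [← hqk, ← hn, ← hTcard, ← hScard, h1]
    exact dvd_mul_right _ _
  have hkn : k ∣ n := by
    have hg := Nat.pow_sub_one_gcd_pow_sub_one 2 k n
    rw [Nat.gcd_eq_left hdvd] at hg
    have h3 : 2 ^ k = 2 ^ Nat.gcd k n := by
      have a1 : 1 ≤ 2 ^ k := Nat.one_le_two_pow
      have a2 : 1 ≤ 2 ^ Nat.gcd k n := Nat.one_le_two_pow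
      omega
    have h4 : k = Nat.gcd k n := Nat.pow_right_injective (le_refl 2) h3
    rw [h4]; exact Nat.gcd_dvd_right k n
  obtain ⟨m, hm⟩ := hkn
  exact ⟨m, by rw [hn, hqk, hm, pow_mul]⟩

end Cfsg.Agent.S3774
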