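import Cfsg.Statements.S3775
import Cfsg.Agent.Lib.Helper20.AbelianCoprime

set_option autoImplicit false
open Cfsg

namespace Cfsg.Agent.S3775

open Cfsg.Agent.Lib.Helper20 in
theorem iii_imp_ii {A : Type*} [CommGroup A] [Finite A] {p : ℕ} [Fact p.Prime] (hA : IsPGroup p A)
    (X : Subgroup (MulAut A))
    (hirr : ∀ B : Subgroup A, (∀ x ∈ X, B.map x.toMonoidHom = B) → (∀ b ∈ B, b ^ p = 1) →
      B = ⊥ ∨ ∀ a : A, a ∈ B ↔ a ^ p = 1) :
    ∀ B : Subgroup A, (∀ x ∈ X, B.map x.toMonoidHom = B) → ∃ i : ℕ, ∀ a : A, a ∈ B ↔ a ^ p ^ i = 1 := by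
  classical
  intro B hBinv
  have hex : ∃ i, ∀ b ∈ B, b ^ p ^ i = 1 := by
    obtain ⟨e, he⟩ := exists_exp hA
    exact ⟨e, fun b _ => he b⟩
  refine ⟨Nat.find hex, fun a => ⟨Nat.find_spec hex a, fun ha => ?_⟩⟩
  rcases Nat.eq_zero_or_pos (Nat.find hex) with h0 | hpos
  · rw [h0, pow_zero, pow_one] at ha
    rw [ha]; exact B.one_mem
  · obtain ⟨j, hj⟩ : ∃ j, Nat.find hex = j + 1 := ⟨Nat.find hex - 1, by omega⟩
    have hmin := Nat.find_min hex (m := j) (by omega)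
    push Not at hmin
    rw [hj] at ha
    exact omega_le_of_irred hA X hirr j B hBinv hmin a ha



/-- Let A be a finite abelian p-group and X a group of automorphisms of A of order prime to p. Call a subgroup of A invariant when every element of X maps it onto itself. Then the following are equivalent: (i) A is not the direct product of two nontrivial invariant subgroups; (ii) every invariant subgroup of A is one of the subgroups Ω_i(A) = {a : a^(p^i) = 1}; (iii) the subgroup Ω₁(A) of elements of order dividing p has no invariant subgroups other than 1 and itself. -/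
theorem result {A : Type*} [CommGroup A] [Finite A] {p : ℕ} [Fact p.Prime] (hA : IsPGroup p A) (X : Subgroup (MulAut A)) (hX : (Nat.card X).Coprime p) : ((¬ ∃ B C : Subgroup A, B ≠ ⊥ ∧ C ≠ ⊥ ∧ (∀ x ∈ X, B.map x.toMonoidHom = B) ∧ (∀ x ∈ X, C.map x.toMonoidHom = C) ∧ B ⊓ C = ⊥ ∧ B ⊔ C = ⊤) ↔ (∀ B : Subgroup A, (∀ x ∈ X, B.map x.toMonoidHom = B) → ∃ i : ℕ, ∀ a : A, a ∈ B ↔ a ^ p ^ i = 1)) ∧ ((∀ B : Subgroup A, (∀ x ∈ X, B.map x.toMonoidHom = B) → ∃ i : ℕ, ∀ a : A, a ∈ B ↔ a ^ p ^ i = 1) ↔ (∀ B : Subgroup A, (∀ x ∈ X, B.map x.toMonoidHom = B) → (∀ b ∈ B, b ^ p = 1) → B = ⊥ ∨ ∀ a : A, a ∈ B ↔ a ^ p = 1)) := by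
  have h23 : (∀ B : Subgroup A, (∀ x ∈ X, B.map x.toMonoidHom = B) → ∃ i : ℕ, ∀ a : A, a ∈ B ↔ a ^ p ^ i = 1) →
      (∀ B : Subgroup A, (∀ x ∈ X, B.map x.toMonoidHom = B) → (∀ b ∈ B, b ^ p = 1) →
        B = ⊥ ∨ ∀ a : A, a ∈ B ↔ a ^ p = 1) := by
    intro hii B hBinv hBp
    obtain ⟨i, hi⟩ := hii B hBinv
    rcases Nat.eq_zero_or_pos i with h0 | hpos
    · left
      rw [eq_bot_iff]
      intro b hb
      have := (hi b).mp hb
      rw [h0, pow_zero, pow_one] at this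
      rw [Subgroup.mem_bot]; exact this
    · right
      intro a
      refine ⟨hBp a, fun ha => (hi a).mpr ?_⟩
      obtain ⟨j, rfl⟩ : ∃ j, i = j + 1 := ⟨i - 1, by omega⟩
      rw [pow_succ', pow_mul, ha, one_pow]
  refine ⟨⟨?_, ?_⟩, ⟨h23, iii_imp_ii hA X⟩⟩
  · intro hi
    apply iii_imp_ii hA X
    intro B hBinv hBp
    by_contra hcon
    rw [not_or] at hcon
    exact hi (Cfsg.Agent.Lib.Helper20.decomp_of_reducible hA X hX B hBinv hBp hcon.1 hcon.2)
  · rintro hii ⟨B, C, hB, hC, hBinv, hCinv, hinf, hsup⟩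
    obtain ⟨i, hi⟩ := hii B hBinv
    obtain ⟨j, hj⟩ := hii C hCinv
    rcases le_total i j with hij | hji
    · apply hB
      rw [eq_bot_iff, ← hinf]
      intro b hb
      refine ⟨hb, (hj b).mpr ?_⟩
      obtain ⟨d, rfl⟩ := Nat.exists_eq_add_of_le hij
      rw [pow_add, pow_mul, (hi b).mp hb, one_pow]
    · apply hC
      rw [eq_bot_iff, ← hinf]
      intro c hc
      refine ⟨(hi c).mpr ?_, hc⟩
      obtain ⟨d, rfl⟩ := Nat.exists_eq_add_of_le hji
      rw [pow_add, pow_mul, (hj c).mp hc, one_pow]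

end Cfsg.Agent.S3775
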