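import Cfsg.Statements.S3778
import Cfsg.Agent.Lib.Helper20.Breadth

set_option autoImplicit false
open Cfsg

namespace Cfsg.Agent.S3778

open Cfsg.Agent.Lib.Helper20


/-- If G is a finite p-group in which every conjugacy class has at most p^b elements (every element has centralizer of index at most p^b), then G is abelian when b = 0, and when b ≥ 1 its nilpotency class c satisfies (c − 1)(p − 1) < bp, that is c < bp/(p − 1) + 1, and hence c ≤ 2b. -/
theorem result {G : Type*} [Group G] [Finite G] {p : ℕ} [Fact p.Prime] (hG : IsPGroup p G) (b : ℕ) (hb : ∀ x : G, (Subgroup.centralizer ({x} : Set G)).index ≤ p ^ b) : ∃ c : ℕ, (⊤ : Subgroup G).lowerCentralSeries c = ⊥ ∧ (b ≠ 0 → (c - 1) * (p - 1) < b * p ∧ c ≤ 2 * b) ∧ (b = 0 → c ≤ 1) := by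
  classical
  have hpp : p.Prime := Fact.out
  have hnil : Group.IsNilpotent G := hG.isNilpotent
  have hex := Subgroup.nilpotent_iff_lowerCentralSeries.mp hnil
  refine ⟨Nat.find hex, Nat.find_spec hex, ?_, ?_⟩
  · intro hb0
    have hc : ∀ j < Nat.find hex, (⊤ : Subgroup G).lowerCentralSeries j ≠ ⊥ :=
      fun j hj => Nat.find_min hex hj
    have h1 := lgnw_bound hG b hb0 hb (Nat.find hex) hc
    refine ⟨h1, ?_⟩
    by_contra hcon
    push Not at hcon
    have h2 : 2 * b ≤ Nat.find hex - 1 := by omega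
    have hp2 : 2 ≤ p := hpp.two_le
    obtain ⟨p', rfl⟩ : ∃ p', p = p' + 2 := ⟨p - 2, by omega⟩
    have h3 : 2 * b * (p' + 2 - 1) ≤ (Nat.find hex - 1) * (p' + 2 - 1) := Nat.mul_le_mul_right _ h2
    have h4 : p' + 2 - 1 = p' + 1 := by omega
    rw [h4] at h3 h1
    nlinarith
  · intro hb0
    apply Nat.find_min' hex
    rw [Subgroup.top_lowerCentralSeries_one, commutator_def, Subgroup.commutator_eq_bot_iff_le_centralizer]
    intro x _
    rw [Subgroup.mem_centralizer_iff]
    intro y _
    have h1 := hb y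
    rw [hb0, pow_zero] at h1
    have h2 : (Subgroup.centralizer ({y} : Set G)).index = 1 :=
      le_antisymm h1 (Nat.one_le_iff_ne_zero.mpr Subgroup.index_ne_zero_of_finite)
    rw [Subgroup.index_eq_one] at h2
    have h3 : x ∈ Subgroup.centralizer ({y} : Set G) := by rw [h2]; trivial
    exact (Subgroup.mem_centralizer_iff.mp h3) y rfl

end Cfsg.Agent.S3778
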