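import Cfsg.Statements.S3780
import Cfsg.Agent.Lib.Helper20.JordanBound

set_option autoImplicit false
open Cfsg

namespace Cfsg.Agent.S3780


open Cfsg.Agent.Lib.Helper20

/-- a finite abelian group of exponent `p` and order `p^d` is generated by `d` elements -/
theorem gen_of_elementary.{u} {p : ℕ} [hp : Fact p.Prime] (d : ℕ) :
    ∀ (E : Type u) [CommGroup E] [Finite E], (∀ x : E, x ^ p = 1) → Nat.card E = p ^ d →
      ∃ S : Finset E, S.card ≤ d ∧ Subgroup.closure (S : Set E) = ⊤ := by
  classical
  induction d with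
  | zero =>
    intro E _ _ _ hcard
    rw [pow_zero] at hcard
    have hsub : Subsingleton E := (Nat.card_eq_one_iff_unique.mp hcard).1
    refine ⟨∅, by simp, ?_⟩
    exact Subsingleton.elim _ _
  | succ d ih =>
    intro E _ _ hexp hcard
    -- pick x ≠ 1
    have hnt : Nontrivial E := by
      rw [← Finite.one_lt_card_iff_nontrivial, hcard]
      exact Nat.one_lt_pow (Nat.succ_ne_zero d) hp.out.one_lt
    obtain ⟨x, hx⟩ := exists_ne (1 : E)
    have hord : orderOf x = p := orderOf_eq_prime (hexp x) hx
    set N := Subgroup.zpowers x with hN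
    have hNcard : Nat.card N = p := by rw [hN, Nat.card_zpowers, hord]
    have hQcard : Nat.card (E ⧸ N) = p ^ d := by
      have h1 := Subgroup.card_eq_card_quotient_mul_card_subgroup N
      rw [hcard, hNcard, pow_succ] at h1
      exact (Nat.eq_of_mul_eq_mul_right hp.out.pos h1).symm
    have hQexp : ∀ y : E ⧸ N, y ^ p = 1 := by
      intro y
      obtain ⟨e, rfl⟩ := QuotientGroup.mk_surjective y
      rw [← QuotientGroup.mk_pow, hexp]; rfl
    obtain ⟨S', hS'card, hS'gen⟩ := ih (E ⧸ N) hQexp hQcard
    refine ⟨insert x (S'.image Quotient.out), ?_, ?_⟩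
    · calc (insert x (S'.image Quotient.out)).card ≤ (S'.image Quotient.out).card + 1 :=
            Finset.card_insert_le _ _
        _ ≤ S'.card + 1 := Nat.add_le_add_right Finset.card_image_le 1
        _ ≤ d + 1 := Nat.add_le_add_right hS'card 1
    · set U := Subgroup.closure ((insert x (S'.image Quotient.out) : Finset E) : Set E) with hU
      have hxU : x ∈ U := Subgroup.subset_closure (by simp)
      have hNU : N ≤ U := by rw [hN, Subgroup.zpowers_le]; exact hxU
      have hmap : U.map (QuotientGroup.mk' N) = ⊤ := by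
        rw [eq_top_iff, ← hS'gen, Subgroup.closure_le]
        intro y hy
        refine ⟨Quotient.out y, Subgroup.subset_closure ?_, ?_⟩
        · simp only [Finset.coe_insert, Finset.coe_image]
          exact Set.mem_insert_of_mem _ ⟨y, hy, rfl⟩
        · exact Quotient.out_eq' y
      have := Subgroup.comap_map_eq (QuotientGroup.mk' N) U
      rw [hmap, Subgroup.comap_top, QuotientGroup.ker_mk', sup_eq_left.mpr hNU] at this
      exact this.symm

/-- if `U` together with the `p`-th powers generates a finite abelian `p`-group, then `U` is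
everything -/
theorem eq_top_of_sup_pow_range {V : Type*} [CommGroup V] [Finite V] {p : ℕ} [hp : Fact p.Prime]
    (hV : IsPGroup p V) (U : Subgroup V) (h : U ⊔ (powMonoidHom p : V →* V).range = ⊤) :
    U = ⊤ := by
  have key : ∀ k : ℕ, U ⊔ (powMonoidHom (p ^ k) : V →* V).range = ⊤ := by
    intro k
    induction k with
    | zero =>
      rw [eq_top_iff]
      intro v _
      exact (le_sup_right : (powMonoidHom (p ^ 0) : V →* V).range ≤ _) ⟨v, by simp⟩
    | succ k ih =>
      rw [eq_top_iff]
      intro v _
      have hv : v ∈ U ⊔ (powMonoidHom p : V →* V).range := by rw [h]; exact Subgroup.mem_top v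
      rw [Subgroup.mem_sup] at hv
      obtain ⟨u, hu, _, ⟨w, rfl⟩, rfl⟩ := hv
      have hw : w ∈ U ⊔ (powMonoidHom (p ^ k) : V →* V).range := by
        rw [ih]; exact Subgroup.mem_top w
      rw [Subgroup.mem_sup] at hw
      obtain ⟨u', hu', _, ⟨z, rfl⟩, rfl⟩ := hw
      rw [Subgroup.mem_sup]
      refine ⟨u * u' ^ p, mul_mem hu (pow_mem hu' p), z ^ (p ^ (k+1)), ⟨z, rfl⟩, ?_⟩
      simp only [powMonoidHom_apply]
      rw [mul_pow, ← pow_mul, ← pow_succ, mul_assoc]
  obtain ⟨m, hm⟩ := IsPGroup.iff_card.mp hV
  have hbot : (powMonoidHom (p ^ m) : V →* V).range = ⊥ := by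
    rw [eq_bot_iff]
    rintro _ ⟨v, rfl⟩
    rw [Subgroup.mem_bot, powMonoidHom_apply, ← hm]
    exact pow_card_eq_one'
  have := key m
  rwa [hbot, sup_bot_eq] at this

theorem card_ker_pow_eq_index_range {V : Type*} [CommGroup V] [Finite V] (p : ℕ) :
    Nat.card (powMonoidHom p : V →* V).ker = (powMonoidHom p : V →* V).range.index := by
  have h1 := (powMonoidHom p : V →* V).ker.card_mul_index
  have h2 := (powMonoidHom p : V →* V).range.card_mul_index
  rw [Subgroup.index_ker] at h1
  have hpos : 0 < Nat.card (powMonoidHom p : V →* V).range := Nat.card_pos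
  apply Nat.eq_of_mul_eq_mul_left hpos
  rw [h2, mul_comm, h1]


/-- Let V be a finite abelian p-group and α an automorphism of V of order p whose fixed-point subgroup has order p^n. Then V can be generated by pn elements: some subset of V with at most pn elements generates V. -/
theorem result {V : Type*} [CommGroup V] [Finite V] {p : ℕ} [Fact p.Prime] (hV : IsPGroup p V) (α : MulAut V) (hα : orderOf α = p) (n : ℕ) (hfix : Nat.card {v : V // α v = v} = p ^ n) : ∃ S : Finset V, S.card ≤ p * n ∧ Subgroup.closure (S : Set V) = ⊤ := by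
  classical
  have hp : p.Prime := Fact.out
  set f : V →* V := powMonoidHom p with hf
  set Ω := f.ker with hΩ
  set W := f.range with hW
  have hmemΩ : ∀ v : V, v ∈ Ω ↔ v ^ p = 1 := by
    intro v
    rw [hΩ, MonoidHom.mem_ker, hf, powMonoidHom_apply]
  have hαΩ : ∀ v ∈ Ω, α v ∈ Ω := by
    intro v hv
    rw [hmemΩ] at hv ⊢
    rw [← map_pow, hv, map_one]
  let β : Ω →* Ω :=
    { toFun := fun w => ⟨α w, hαΩ w w.2⟩
      map_one' := by ext; simp
      map_mul' := by intros; ext; simp }
  have hβapp : ∀ w : Ω, ((β w : Ω) : V) = α w := fun w => rfl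
  have hexpΩ : ∀ w : Ω, w ^ p = 1 := by
    intro w
    ext
    have := (hmemΩ w).mp w.2
    simpa using this
  have hβ : ∀ w : Ω, β^[p] w = w := by
    have hit : ∀ k (w : Ω), ((β^[k] w : Ω) : V) = (α ^ k) w := by
      intro k
      induction k with
      | zero => intro w; simp
      | succ k ih =>
        intro w
        rw [Function.iterate_succ_apply', hβapp, ih, pow_succ']
        rfl
    intro w
    ext
    rw [hit, ← hα, pow_orderOf_eq_one]
    rfl
  have hJ := card_le_card_fixed_pow hexpΩ β hβ
  have hfixle : Nat.card {w : Ω // β w = w} ≤ p ^ n := by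
    rw [← hfix]
    haveI : Finite {v : V // α v = v} := Subtype.finite
    apply Nat.card_le_card_of_injective
      (fun w : {w : Ω // β w = w} => (⟨(w.1 : V), by
        have := w.2
        exact congrArg Subtype.val this⟩ : {v : V // α v = v}))
    intro a b hab
    have : ((a.1 : Ω) : V) = ((b.1 : Ω) : V) := by
      have h3 := congrArg (fun z : {v : V // α v = v} => (z : V)) hab
      exact h3
    exact Subtype.ext (Subtype.ext this)
  obtain ⟨d, hd⟩ := IsPGroup.iff_card.mp (hV.to_subgroup Ω)
  have hdle : d ≤ p * n := by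
    have h1 : p ^ d ≤ (p ^ n) ^ p := hd ▸ hJ.trans (Nat.pow_le_pow_left hfixle p)
    rw [← pow_mul] at h1
    have h2 := (Nat.pow_le_pow_iff_right hp.one_lt).mp h1
    rwa [mul_comm] at h2
  have hEcard : Nat.card (V ⧸ W) = p ^ d := by
    have h1 : Nat.card (V ⧸ W) = W.index := rfl
    rw [h1, hW, hf, ← card_ker_pow_eq_index_range]
    exact hd
  have hEexp : ∀ y : V ⧸ W, y ^ p = 1 := by
    intro y
    obtain ⟨e, rfl⟩ := QuotientGroup.mk_surjective y
    rw [← QuotientGroup.mk_pow, QuotientGroup.eq_one_iff]
    exact ⟨e, rfl⟩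
  obtain ⟨S', hS'c, hS'g⟩ := gen_of_elementary d (V ⧸ W) hEexp hEcard
  refine ⟨S'.image Quotient.out, (Finset.card_image_le).trans (hS'c.trans hdle), ?_⟩
  apply eq_top_of_sup_pow_range hV
  set U := Subgroup.closure ((S'.image Quotient.out : Finset V) : Set V) with hU
  have hmap : U.map (QuotientGroup.mk' W) = ⊤ := by
    rw [eq_top_iff, ← hS'g, Subgroup.closure_le]
    intro y hy
    refine ⟨Quotient.out y, Subgroup.subset_closure ?_, ?_⟩
    · simp only [Finset.coe_image]
      exact ⟨y, hy, rfl⟩
    · exact Quotient.out_eq' y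
  have := Subgroup.comap_map_eq (QuotientGroup.mk' W) U
  rw [hmap, Subgroup.comap_top, QuotientGroup.ker_mk'] at this
  exact this.symm

end Cfsg.Agent.S3780
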