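import Mathlib
import Cfsg.Statements.S3784

set_option autoImplicit false
open Cfsg

namespace Cfsg.Agent.S3784

lemma odd_geom (x y : ℤ) (n a : ℕ) (hxy : (2 : ℤ) ∣ x - y) (hx : ¬ (2 : ℤ) ∣ x) (hn : Odd n)
    (h : x ^ n - y ^ n = 2 ^ a) : x - y = 2 ^ a ∨ x - y = -2 ^ a := by
  have hn2 : ¬ (2 : ℤ) ∣ (n : ℤ) := by
    intro hdiv
    have : (2 : ℕ) ∣ n := by exact_mod_cast hdiv
    exact (Nat.not_even_iff_odd.mpr hn) (even_iff_two_dvd.mpr this)
  have hT := not_dvd_geom_sum₂ (R := ℤ) Int.prime_two hxy hx hn2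
  have hmul := Commute.geom_sum₂_mul (Commute.all x y) n
  rw [h] at hmul
  set T := ∑ i ∈ Finset.range n, x ^ i * y ^ (n - 1 - i) with hTdef
  have hTdvd : T ∣ (2 : ℤ) ^ a := ⟨x - y, hmul.symm⟩
  obtain ⟨i, _, hi⟩ := (dvd_prime_pow Int.prime_two a).mp hTdvd
  have hi0 : i = 0 := by
    by_contra hne
    apply hT
    have : (2 : ℤ) ∣ 2 ^ i := dvd_pow_self 2 hne
    exact this.trans hi.symm.dvd
  subst hi0
  rw [pow_zero] at hi
  have hunit : IsUnit T := (associated_one_iff_isUnit).mp hi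
  rcases Int.isUnit_iff.mp hunit with h1 | h1
  · left; rw [h1, one_mul] at hmul; exact hmul
  · right; rw [h1] at hmul; linarith


lemma odd_prime_of_ne_two {p : ℕ} (hp : p.Prime) (h2 : p ≠ 2) : Odd p := hp.odd_of_ne_two h2

lemma caseA_even (p c b : ℕ) (hp : p.Prime) (hodd : Odd p) (hc : 1 ≤ c)
    (h : p ^ (2 * c) = 2 ^ b + 1) : p ^ (2 * c) = 9 ∧ 2 ^ b = 8 := by
  have hpc_odd : Odd (p ^ c) := hodd.pow
  obtain ⟨k, hk⟩ := hpc_odd
  have h4 : 4 * (k * (k + 1)) = 2 ^ b := by
    have : p ^ (2 * c) = (p ^ c) ^ 2 := by rw [mul_comm, pow_mul]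
    rw [this, hk] at h
    nlinarith
  have hkdvd : k ∣ 2 ^ b := ⟨4 * (k + 1), by rw [← h4]; ring⟩
  have hk1dvd : (k + 1) ∣ 2 ^ b := ⟨4 * k, by rw [← h4]; ring⟩
  obtain ⟨i, _, hi⟩ := (Nat.dvd_prime_pow Nat.prime_two).mp hkdvd
  obtain ⟨j, _, hj⟩ := (Nat.dvd_prime_pow Nat.prime_two).mp hk1dvd
  have hi0 : i = 0 := by
    by_contra hne
    have hjne : j ≠ 0 := by
      rintro rfl
      rw [pow_zero] at hj
      have : k = 0 := by omega
      rw [this] at hi
      exact (pow_ne_zero i two_ne_zero) hi.symm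
    have e1 : Even (2 ^ i) := (Nat.even_pow' hne).mpr even_two
    have e2 : Even (2 ^ j) := (Nat.even_pow' hjne).mpr even_two
    rw [← hi] at e1
    rw [← hj] at e2
    exact (Nat.even_add_one.mp e2) e1
  subst hi0
  rw [pow_zero] at hi
  subst hi
  have hpc : p ^ c = 3 := by omega
  have hb : 2 ^ b = 8 := by omega
  refine ⟨?_, hb⟩
  rw [mul_comm, pow_mul, hpc]
  norm_num

lemma caseB_even (q c a : ℕ) (hq : 2 ≤ q) (hodd : Odd q) (hc : 1 ≤ c) (ha : 1 ≤ a)
    (h : 2 ^ a = q ^ (2 * c) + 1) : False := by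
  have hqc_odd : Odd (q ^ c) := hodd.pow
  obtain ⟨k, hk⟩ := hqc_odd
  have hqc : 2 ≤ q ^ c := by
    calc 2 ≤ q := hq
      _ = q ^ 1 := (pow_one q).symm
      _ ≤ q ^ c := Nat.pow_le_pow_right (by omega) hc
  have h2 : 2 ^ a = 2 * (2 * k ^ 2 + 2 * k + 1) := by
    have : q ^ (2 * c) = (q ^ c) ^ 2 := by rw [mul_comm, pow_mul]
    rw [this, hk] at h
    rw [h]; ring
  obtain ⟨a', rfl⟩ : ∃ a', a = a' + 1 := ⟨a - 1, by omega⟩
  rw [pow_succ, mul_comm] at h2
  have h3 : 2 ^ a' = 2 * k ^ 2 + 2 * k + 1 := by omega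
  have ha'0 : a' = 0 := by
    by_contra hne
    have e1 : Even (2 ^ a') := (Nat.even_pow' hne).mpr even_two
    rw [h3] at e1
    have : Odd (2 * k ^ 2 + 2 * k + 1) := ⟨k ^ 2 + k, by ring⟩
    exact (Nat.not_even_iff_odd.mpr this) e1
  subst ha'0
  rw [pow_zero] at h3
  have : k = 0 := by
    by_contra hk0
    have : 1 ≤ k := Nat.one_le_iff_ne_zero.mpr hk0
    nlinarith
  subst this
  omega

theorem result (p q a b : ℕ) (hp : p.Prime) (hq : q.Prime) (ha : 1 ≤ a) (hb : 1 ≤ b) (h : p ^ a = q ^ b + 1) : (p = 2 ∧ b = 1 ∧ a.Prime ∧ q + 1 = 2 ^ a) ∨ (q = 2 ∧ a = 1 ∧ (∃ m : ℕ, b = 2 ^ m) ∧ p = 2 ^ b + 1) ∨ (p ^ a = 9 ∧ q ^ b = 8) := by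
  by_cases hp2 : p = 2
  · subst hp2
    have hq2 : q ≠ 2 := by
      rintro rfl
      have e1 : Even (2 ^ a) := (Nat.even_pow' (by omega)).mpr even_two
      have e2 : Even (2 ^ b) := (Nat.even_pow' (by omega)).mpr even_two
      rw [h] at e1
      exact (Nat.even_add_one.mp e1) e2
    have hqodd : Odd q := hq.odd_of_ne_two hq2
    left
    by_cases hb1 : b = 1
    · subst hb1
      rw [pow_one] at h
      have hqeq : q = 2 ^ a - 1 := by omega
      have ha1 : a ≠ 1 := by
        rintro rfl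
        rw [pow_one] at h
        have : q = 1 := by omega
        exact hq.one_lt.ne' this
      have := Nat.prime_of_pow_sub_one_prime ha1 (hqeq ▸ hq)
      exact ⟨rfl, rfl, this.2, h.symm⟩
    · exfalso
      rcases Nat.even_or_odd b with hbe | hbo
      · obtain ⟨c, hc⟩ := hbe
        have hc' : b = 2 * c := by omega
        subst hc'
        exact caseB_even q c a hq.two_le hqodd (by omega) ha h
      · have hq2' : ¬ (2 : ℤ) ∣ (q : ℤ) := by
          intro hdiv
          have : (2 : ℕ) ∣ q := by exact_mod_cast hdiv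
          exact (Nat.not_even_iff_odd.mpr hqodd) (even_iff_two_dvd.mpr this)
        have hxy : (2 : ℤ) ∣ (q : ℤ) - (-1) := by
          obtain ⟨k, hk⟩ := hqodd
          refine ⟨k + 1, ?_⟩
          rw [hk]; push_cast; ring
        have hpow : (q : ℤ) ^ b - (-1) ^ b = 2 ^ a := by
          rw [Odd.neg_one_pow hbo]
          have : ((2 ^ a : ℕ) : ℤ) = ((q ^ b + 1 : ℕ) : ℤ) := by rw [h]
          push_cast at this
          linarith
        have hqb : q < q ^ b := by
          calc q = q ^ 1 := (pow_one q).symm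
            _ < q ^ b := Nat.pow_lt_pow_right hq.one_lt (by omega)
        have hqbZ : (q : ℤ) < (q : ℤ) ^ b := by exact_mod_cast hqb
        have hpos : (0 : ℤ) < q := by exact_mod_cast hq.pos
        rcases odd_geom (q : ℤ) (-1) b a hxy hq2' hbo hpow with h1 | h1
        · rw [← hpow, Odd.neg_one_pow hbo] at h1; linarith
        · rw [← hpow, Odd.neg_one_pow hbo] at h1; linarith
  · have hpodd : Odd p := hp.odd_of_ne_two hp2
    have hq2 : q = 2 := by
      by_contra hq2
      have hqodd : Odd q := hq.odd_of_ne_two hq2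
      have e1 : Odd (p ^ a) := hpodd.pow
      have e2 : Odd (q ^ b) := hqodd.pow
      rw [h] at e1
      exact (Nat.not_even_iff_odd.mpr e1) (Odd.add_one e2)
    subst hq2
    right
    by_cases ha1 : a = 1
    · subst ha1
      left
      rw [pow_one] at h
      refine ⟨rfl, rfl, ?_, h⟩
      exact Nat.pow_of_pow_add_prime (by norm_num) (by omega) (h ▸ hp)
    · right
      rcases Nat.even_or_odd a with hae | hao
      · obtain ⟨c, hc⟩ := hae
        have hc' : a = 2 * c := by omega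
        subst hc'
        exact caseA_even p c b hp hpodd (by omega) h
      · exfalso
        have hp2' : ¬ (2 : ℤ) ∣ (p : ℤ) := by
          intro hdiv
          have : (2 : ℕ) ∣ p := by exact_mod_cast hdiv
          exact (Nat.not_even_iff_odd.mpr hpodd) (even_iff_two_dvd.mpr this)
        have hxy : (2 : ℤ) ∣ (p : ℤ) - 1 := by
          obtain ⟨k, hk⟩ := hpodd
          refine ⟨k, ?_⟩
          rw [hk]; push_cast; ring
        have hpow : (p : ℤ) ^ a - 1 ^ a = 2 ^ b := by
          rw [one_pow]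
          have : ((p ^ a : ℕ) : ℤ) = ((2 ^ b + 1 : ℕ) : ℤ) := by rw [h]
          push_cast at this
          linarith
        have hpa : p < p ^ a := by
          calc p = p ^ 1 := (pow_one p).symm
            _ < p ^ a := Nat.pow_lt_pow_right hp.one_lt (by omega)
        have hpaZ : (p : ℤ) < (p : ℤ) ^ a := by exact_mod_cast hpa
        have hpos : (1 : ℤ) < p := by exact_mod_cast hp.one_lt
        rcases odd_geom (p : ℤ) 1 a b hxy hp2' hao hpow with h1 | h1
        · rw [← hpow, one_pow] at h1; linarith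
        · rw [← hpow, one_pow] at h1; linarith

end Cfsg.Agent.S3784
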