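import Mathlib
import Cfsg.Statements.S3785
import Cfsg.Prelude.Def_Solvable
import Cfsg.Agent.Lib.Helper21.OmegaLemma
import Cfsg.Agent.Lib.Helper1.Cores
import Cfsg.Agent.Lib.Helper1.Fitting
import Cfsg.Agent.Lib.Helper1.CFitting
import Cfsg.Agent.Lib.Helper22.Basic

set_option autoImplicit false
open Cfsg

namespace Cfsg.Agent.S3785

open Cfsg.Agent.Lib.Helper21 Cfsg.Agent.Lib.Helper1

variable {G : Type*} [Group G]

/-- a `p`-element of the Fitting subgroup lies in `O_p(G)` -/
theorem mem_pCore_of_mem_fitting [Finite G] {p : ℕ} [Fact p.Prime] (x : G)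
    (hx : x ∈ Cfsg.fittingSubgroup G) (k : ℕ) (hk : orderOf x = p ^ k) : x ∈ Cfsg.pCore p G := by
  haveI hFn : (Cfsg.fittingSubgroup G).Normal := fittingSubgroup_normal
  haveI : Group.IsNilpotent ↥(Cfsg.fittingSubgroup G) := fittingSubgroup_nilpotent
  let S : Sylow p ↥(Cfsg.fittingSubgroup G) := default
  have hSn : (S : Subgroup ↥(Cfsg.fittingSubgroup G)).Normal := inferInstance
  haveI : (S : Subgroup ↥(Cfsg.fittingSubgroup G)).Characteristic := Sylow.characteristic_of_normal S hSn
  have hn2 : ((S : Subgroup ↥(Cfsg.fittingSubgroup G)).map (Cfsg.fittingSubgroup G).subtype).Normal :=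
    ConjAct.normal_of_characteristic_of_normal
  have hle := le_pCore hn2 (S.2.map _)
  apply hle
  refine ⟨⟨x, hx⟩, ?_, rfl⟩
  apply Cfsg.Agent.Lib.Helper22.mem_sylow_of_normal p S hSn _ k
  rw [Subgroup.orderOf_mk]; exact hk

/-- an element commuting with every `O_q(G)` lies in `C_G(F(G))` -/
theorem mem_centralizer_fitting_of_forall [Finite G] (c : G)
    (h : ∀ q : Nat.Primes, c ∈ Subgroup.centralizer (Cfsg.pCore (q : ℕ) G : Set G)) :
    c ∈ Subgroup.centralizer (Cfsg.fittingSubgroup G : Set G) := by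
  have hle : Cfsg.fittingSubgroup G ≤ Subgroup.centralizer ({c} : Set G) := by
    rw [fittingSubgroup_eq_iSup_pCore]
    apply iSup_le
    intro q x hx
    rw [Subgroup.mem_centralizer_singleton_iff]
    exact (Subgroup.mem_centralizer_iff.mp (h q)) x hx
  rw [Subgroup.mem_centralizer_iff]
  intro x hx
  exact Subgroup.mem_centralizer_singleton_iff.mp (hle hx)

theorem result {G : Type*} [Group G] [Finite G] (hG : Group.IsSolvable G) (hodd : Odd (Nat.card (Cfsg.fittingSubgroup G))) (g : G) (hg : ∀ x ∈ Cfsg.fittingSubgroup G, (orderOf x).Prime → g * x = x * g) : g ∈ Cfsg.fittingSubgroup G := by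
  classical
  haveI := hG
  haveI hFn : (Cfsg.fittingSubgroup G).Normal := fittingSubgroup_normal
  -- the centralizer of the prime-order elements of F
  let C : Subgroup G := Subgroup.centralizer {x | x ∈ Cfsg.fittingSubgroup G ∧ (orderOf x).Prime}
  have hCmem : ∀ c : G, c ∈ C ↔ ∀ x ∈ Cfsg.fittingSubgroup G, (orderOf x).Prime → x * c = c * x := by
    intro c
    show c ∈ Subgroup.centralizer {x | x ∈ Cfsg.fittingSubgroup G ∧ (orderOf x).Prime} ↔ _
    rw [Subgroup.mem_centralizer_iff]
    constructor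
    · intro h x hx hp; exact h x ⟨hx, hp⟩
    · rintro h x ⟨hx, hp⟩; exact h x hx hp
  have hgC : g ∈ C := by
    rw [hCmem]; intro x hx hp; exact (hg x hx hp).symm
  have hCn : C.Normal := by
    refine ⟨fun c hc y => ?_⟩
    rw [hCmem] at hc ⊢
    intro x hx hp
    have hx' : y⁻¹ * x * y ∈ Cfsg.fittingSubgroup G := by
      have := hFn.conj_mem x hx y⁻¹
      simpa using this
    have hp' : (orderOf (y⁻¹ * x * y)).Prime := by
      have : orderOf (y⁻¹ * x * y) = orderOf x := by
        have := orderOf_injective (MulAut.conj y⁻¹).toMonoidHom (MulAut.conj y⁻¹).injective x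
        simpa using this
      rw [this]; exact hp
    have := hc _ hx' hp'
    calc x * (y * c * y⁻¹) = y * ((y⁻¹ * x * y) * c) * y⁻¹ := by group
      _ = y * (c * (y⁻¹ * x * y)) * y⁻¹ := by rw [this]
      _ = y * c * y⁻¹ * x := by group
  -- (F1)
  have hF1 : ∀ c ∈ C, ∀ q : ℕ, q.Prime → (orderOf c).Coprime q →
      c ∈ Subgroup.centralizer (Cfsg.pCore q G : Set G) := by
    intro c hc q hq hcop
    haveI : Fact q.Prime := ⟨hq⟩
    have hqn : (Cfsg.pCore q G).Normal := Cfsg.Agent.Lib.Helper1.pCore_normal q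
    have hcN : c ∈ Subgroup.normalizer ((Cfsg.pCore q G : Subgroup G) : Set G) := by
      rw [Subgroup.normalizer_eq_top_iff.mpr hqn]; trivial
    apply comm_of_comm_small c hcop (Cfsg.pCore q G) (pCore_isPGroup q) hcN
    intro a ha hsm
    have haF : a ∈ Cfsg.fittingSubgroup G := pCore_le_fittingSubgroup q ha
    by_cases ha1 : a = 1
    · rw [ha1]; simp
    have hq2 : q ≠ 2 := by
      rintro rfl
      -- 2 ∣ |F| contradiction
      have h2 : (2 : ℕ) ∣ Nat.card (Cfsg.fittingSubgroup G) := by
        obtain ⟨k, hk⟩ := (pCore_isPGroup (G := G) 2) ⟨a, ha⟩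
        have hk' : a ^ 2 ^ k = 1 := by simpa using congrArg Subtype.val hk
        obtain ⟨j, _, hj⟩ := (Nat.dvd_prime_pow Nat.prime_two).mp (orderOf_dvd_of_pow_eq_one hk')
        have hj0 : j ≠ 0 := by
          rintro rfl
          rw [pow_zero, orderOf_eq_one_iff] at hj
          exact ha1 hj
        have h3 : 2 ∣ orderOf a := by rw [hj]; exact dvd_pow_self 2 hj0
        exact h3.trans (Subgroup.orderOf_dvd_natCard _ haF)
      exact (Nat.not_even_iff_odd.mpr hodd) (even_iff_two_dvd.mpr h2)
    rcases hsm with h1 | ⟨h2, _⟩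
    · have hord : orderOf a = q := orderOf_eq_prime h1 ha1
      have := (hCmem c).mp hc a haF (hord ▸ hq)
      exact this.symm
    · exact absurd h2 hq2
  -- prime power order elements of C lie in F
  have hkey : ∀ c ∈ C, ∀ r : ℕ, r.Prime → ∀ k : ℕ, orderOf c = r ^ k → c ∈ Cfsg.fittingSubgroup G := by
    intro c hc r hr k hk
    -- N_r
    let N : Subgroup G := C ⊓ ⨅ q : {q : Nat.Primes // (q : ℕ) ≠ r},
      Subgroup.centralizer (Cfsg.pCore ((q : Nat.Primes) : ℕ) G : Set G)
    have hNmem : ∀ y : G, y ∈ N ↔ y ∈ C ∧ ∀ q : ℕ, q.Prime → q ≠ r →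
        y ∈ Subgroup.centralizer (Cfsg.pCore q G : Set G) := by
      intro y
      show y ∈ C ⊓ ⨅ q : {q : Nat.Primes // (q : ℕ) ≠ r},
        Subgroup.centralizer (Cfsg.pCore ((q : Nat.Primes) : ℕ) G : Set G) ↔ _
      rw [Subgroup.mem_inf, Subgroup.mem_iInf]
      constructor
      · rintro ⟨h1, h2⟩
        exact ⟨h1, fun q hq hqr => h2 ⟨⟨q, hq⟩, hqr⟩⟩
      · rintro ⟨h1, h2⟩
        exact ⟨h1, fun q => h2 _ q.1.2 q.2⟩
    have hNn : N.Normal := by
      haveI := hCn
      haveI : ∀ q : {q : Nat.Primes // (q : ℕ) ≠ r},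
          (Subgroup.centralizer (Cfsg.pCore ((q : Nat.Primes) : ℕ) G : Set G)).Normal := by
        intro q
        haveI := Cfsg.Agent.Lib.Helper1.pCore_normal (G := G) ((q : Nat.Primes) : ℕ)
        exact Subgroup.normal_centralizer
      haveI : (⨅ q : {q : Nat.Primes // (q : ℕ) ≠ r},
          Subgroup.centralizer (Cfsg.pCore ((q : Nat.Primes) : ℕ) G : Set G)).Normal :=
        Subgroup.normal_iInf_normal (fun q => inferInstance)
      exact Subgroup.normal_inf_normal _ _   -- hmm
    have hcN : c ∈ N := by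
      rw [hNmem]
      refine ⟨hc, fun q hq hqr => hF1 c hc q hq ?_⟩
      rw [hk]
      exact Nat.Coprime.pow_left k ((Nat.coprime_primes hr hq).mpr (Ne.symm hqr))
    -- N is nilpotent
    have hNnil : Group.IsNilpotent ↥N := by
      have hidx : ∀ p : ℕ, p.Prime → p ∣ (Subgroup.center ↥N).index → p = r := by
        intro p hp hdvd
        by_contra hpr
        haveI : Fact p.Prime := ⟨hp⟩
        let P' : Sylow p ↥N := default
        have hP'c : (P' : Subgroup ↥N) ≤ Subgroup.center ↥N := by
          intro x hx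
          rw [Subgroup.mem_center_iff]
          intro y
          -- x is a p-element of N
          obtain ⟨j, hj⟩ := P'.2 ⟨x, hx⟩
          have hxj : ((x : ↥N) : G) ^ p ^ j = 1 := by
            have := congrArg (fun t : (P' : Subgroup ↥N) => (((t : ↥N) : G))) hj
            simpa using this
          obtain ⟨j', _, hj'⟩ := (Nat.dvd_prime_pow hp).mp (orderOf_dvd_of_pow_eq_one hxj)
          have hxN := (hNmem _).mp x.2
          have hxall : ∀ q : Nat.Primes, ((x : ↥N) : G) ∈
              Subgroup.centralizer (Cfsg.pCore (q : ℕ) G : Set G) := by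
            intro q
            by_cases hqp : (q : ℕ) = p
            · rw [hqp]; exact hxN.2 p hp hpr
            · apply hF1 _ hxN.1 q q.2
              rw [hj']
              exact Nat.Coprime.pow_left j' ((Nat.coprime_primes hp q.2).mpr (Ne.symm hqp))
          have hxF : ((x : ↥N) : G) ∈ Cfsg.fittingSubgroup G :=
            centralizer_fittingSubgroup_le (mem_centralizer_fitting_of_forall _ hxall)
          have hxp : ((x : ↥N) : G) ∈ Cfsg.pCore p G := mem_pCore_of_mem_fitting _ hxF j' hj'
          have hyN := (hNmem _).mp y.2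
          have := (Subgroup.mem_centralizer_iff.mp (hyN.2 p hp hpr)) _ hxp
          exact Subtype.ext (by simpa using this.symm)
        have h1 : (Subgroup.center ↥N).index ∣ (P' : Subgroup ↥N).index := Subgroup.index_dvd_of_le hP'c
        exact P'.not_dvd_index (hdvd.trans h1)
      have hpow : (Subgroup.center ↥N).index = r ^ (Subgroup.center ↥N).index.primeFactorsList.length :=
        Nat.eq_prime_pow_of_unique_prime_dvd Subgroup.index_ne_zero_of_finite
          (fun {d} hd hdv => hidx d hd hdv)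
      haveI : Fact r.Prime := ⟨hr⟩
      haveI : Group.IsNilpotent (↥N ⧸ Subgroup.center ↥N) := by
        apply IsPGroup.isNilpotent (p := r)
        apply IsPGroup.of_card (n := (Subgroup.center ↥N).index.primeFactorsList.length)
        rw [← Subgroup.index_eq_card]; exact hpow
      exact Subgroup.isNilpotent_of_ker_le_center (QuotientGroup.mk' (Subgroup.center ↥N))
        (by rw [QuotientGroup.ker_mk'])
    exact le_fittingSubgroup hNn hNnil hcN
  -- conclude C ≤ F
  have hCF : (Cfsg.fittingSubgroup G).subgroupOf C = ⊤ := by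
    apply Cfsg.Agent.Lib.Helper22.eq_top_of_sylow_le
    intro r hr
    let R : Sylow r ↥C := default
    refine ⟨R, fun x hx => ?_⟩
    rw [Subgroup.mem_subgroupOf]
    obtain ⟨j, hj⟩ := R.2 ⟨x, hx⟩
    have hxj : ((x : ↥C) : G) ^ r ^ j = 1 := by
      have := congrArg (fun t : (R : Subgroup ↥C) => (((t : ↥C) : G))) hj
      simpa using this
    obtain ⟨j', _, hj'⟩ := (Nat.dvd_prime_pow hr.out).mp (orderOf_dvd_of_pow_eq_one hxj)
    exact hkey _ x.2 r hr.out j' hj'
  rw [Subgroup.subgroupOf_eq_top] at hCF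
  exact hCF hgC

end Cfsg.Agent.S3785
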