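import Mathlib
import Cfsg.Statements.S3790
import Cfsg.Agent.Lib.Helper21.PSeries

set_option autoImplicit false
open Cfsg

namespace Cfsg.Agent.S3790

open Cfsg.Agent.Lib.Helper21

universe u

theorem main (p : ℕ) [hp : Fact p.Prime] : ∀ (μ : ℕ) (G : Type u) [Group G] [Finite G]
    (S : Finset ℕ) (L : ℕ → ℕ), Nat.card G + S.sum L = μ → (∀ s ∈ S, s.Prime ∧ s ≠ p) →
    (∀ s : ℕ, s.Prime → s ∣ Nat.card G → s ≠ p → s ∈ S) → (∀ s ∈ S, PLengthLE s (L s) G) →
    PLengthLE p (S.prod fun s => 1 + L s) G := by
  intro μ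
  induction μ using Nat.strong_induction_on with
  | _ μ ih =>
  intro G _ _ S L hμ hS hcov hL
  have hprodpos : ∀ T : Finset ℕ, 1 ≤ T.prod fun s => 1 + L s := by
    intro T
    exact Nat.one_le_iff_ne_zero.mpr (Finset.prod_ne_zero_iff.mpr (fun s _ => by omega))
  by_cases hex : ∃ q ∈ S, q ∣ Nat.card G
  swap
  · -- G is a p-group
    have hpg : IsPGroup p G := by
      have hcard : Nat.card G = p ^ (Nat.card G).primeFactorsList.length := by
        apply Nat.eq_prime_pow_of_unique_prime_dvd Nat.card_pos.ne'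
        intro d hd hdG
        by_contra hne
        exact hex ⟨d, hcov d hd hdG hne, hdG⟩
      exact IsPGroup.of_card hcard
    exact plength_mono (hprodpos S) (plength_one_of_isPGroup hpg)
  obtain ⟨q, hqS, hqG⟩ := hex
  haveI : Fact q.Prime := ⟨(hS q hqS).1⟩
  have hqp : q ≠ p := (hS q hqS).2
  have hLq : 1 ≤ L q := by
    by_contra h0
    have h0' : L q = 0 := by omega
    have h1 := hL q hqS
    rw [h0', plength_iff] at h1
    have h2 : (Nat.card (ups q G 1)).Coprime q := card_ups_one_coprime
    have h2' : ups q G (2 * 0 + 1) = ups q G 1 := rfl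
    rw [h2'] at h1
    rw [h1, Subgroup.card_top] at h2
    exact (Nat.Prime.coprime_iff_not_dvd (Fact.out : q.Prime)).mp h2.symm hqG
  set Q : Subgroup G := ups q G 2 with hQ
  set N : Subgroup G := ups q G 1 with hN
  have hNQ : N ≤ Q := ups_le_succ q 1
  set NQ : Subgroup ↥Q := N.subgroupOf Q with hNQdef
  haveI hNQn : NQ.Normal := by
    rw [hNQdef]; infer_instance
  have hcardNQ : Nat.card NQ = Nat.card N :=
    Nat.card_congr (Subgroup.subgroupOfEquivOfLe hNQ).toEquiv
  have hNcop : (Nat.card N).Coprime q := card_ups_one_coprime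
  have hsumL : S.sum L = L q + (S.erase q).sum L := (Finset.add_sum_erase S L hqS).symm
  -- Step A
  have hA : PLengthLE p ((S.erase q).prod fun s => 1 + L s) ↥NQ := by
    apply ih (Nat.card NQ + (S.erase q).sum L) _ ↥NQ (S.erase q) L rfl
    · intro s hs
      exact hS s (Finset.mem_of_mem_erase hs)
    · intro s hs hsN hsp
      rw [hcardNQ] at hsN
      have hsG : s ∣ Nat.card G := hsN.trans (Subgroup.card_subgroup_dvd_card N)
      have hsS := hcov s hs hsG hsp
      refine Finset.mem_erase.mpr ⟨?_, hsS⟩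
      rintro rfl
      exact (Nat.Prime.coprime_iff_not_dvd hs).mp hNcop.symm hsN
    · intro s hs
      have hsS := Finset.mem_of_mem_erase hs
      haveI : Fact s.Prime := ⟨(hS s hsS).1⟩
      exact plength_subgroup_of_normal NQ (plength_subgroup_of_normal Q (hL s hsS))
    · rw [hcardNQ, ← hμ, hsumL]
      have : Nat.card N ≤ Nat.card G := Subgroup.card_le_card_group N
      omega
  -- Step B
  have hB : PLengthLE p 0 (↥Q ⧸ NQ) := by
    apply plength_zero_of_coprime
    rw [← Subgroup.index_eq_card, hNQdef]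
    have h1 : (N.subgroupOf Q).index = N.relIndex Q := rfl
    rw [h1]
    have h2 : N.relIndex Q = Nat.card (Q.map (QuotientGroup.mk' N)) := by
      rw [← Subgroup.relIndex_ker, QuotientGroup.ker_mk']
    rw [h2]
    have h3 := goodCard_factor (G := G) (p := q) 1
    unfold GoodCard at h3
    rw [if_neg (by decide : ¬ Even 1)] at h3
    obtain ⟨k, hk⟩ := h3
    have h4 : Nat.card (Q.map (QuotientGroup.mk' N)) = q ^ k := hk
    rw [h4]
    apply Nat.Coprime.pow_left
    exact (Nat.coprime_primes (Fact.out : q.Prime) hp.out).mpr hqp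
  -- Step C
  have hC : PLengthLE p ((S.erase q).prod fun s => 1 + L s) ↥Q := by
    have := plength_add NQ hA hB
    rwa [add_zero] at this
  -- Step D
  set L' : ℕ → ℕ := Function.update L q (L q - 1) with hL'
  have hL'q : L' q = L q - 1 := Function.update_self ..
  have hL'ne : ∀ s, s ≠ q → L' s = L s := fun s hs => Function.update_of_ne hs ..
  have hsumL' : S.sum L' = (L q - 1) + (S.erase q).sum L := by
    rw [← Finset.add_sum_erase S L' hqS, hL'q]
    congr 1
    apply Finset.sum_congr rfl
    intro s hs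
    exact hL'ne s (Finset.ne_of_mem_erase hs)
  have hD : PLengthLE p (S.prod fun s => 1 + L' s) (G ⧸ Q) := by
    apply ih (Nat.card (G ⧸ Q) + S.sum L') _ (G ⧸ Q) S L' rfl hS
    · intro s hs hsG hsp
      exact hcov s hs (hsG.trans (Subgroup.card_quotient_dvd_card Q)) hsp
    · intro s hsS
      haveI : Fact s.Prime := ⟨(hS s hsS).1⟩
      by_cases hsq : s = q
      · subst hsq
        rw [hL'q]
        apply plength_shift
        have : L s - 1 + 1 = L s := by omega
        rw [this]
        exact hL s hsS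
      · rw [hL'ne s hsq]
        exact plength_of_surjective (QuotientGroup.mk' Q) (QuotientGroup.mk'_surjective _) (hL s hsS)
    · rw [← hμ, hsumL, hsumL']
      have : Nat.card (G ⧸ Q) ≤ Nat.card G :=
        Nat.le_of_dvd Nat.card_pos (Subgroup.card_quotient_dvd_card Q)
      omega
  have hprodL' : (S.prod fun s => 1 + L' s) = L q * (S.erase q).prod fun s => 1 + L s := by
    rw [← Finset.mul_prod_erase S _ hqS, hL'q]
    congr 1
    · omega
    · apply Finset.prod_congr rfl
      intro s hs
      rw [hL'ne s (Finset.ne_of_mem_erase hs)]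
  rw [hprodL'] at hD
  have hE := plength_add Q hC hD
  have hfinal : ((S.erase q).prod fun s => 1 + L s) + L q * ((S.erase q).prod fun s => 1 + L s) =
      S.prod fun s => 1 + L s := by
    rw [← Finset.mul_prod_erase S _ hqS]
    ring
  rw [hfinal] at hE
  exact hE

theorem result {G : Type*} [Group G] [Finite G] (hG : Group.IsSolvable G) (p : ℕ) [Fact p.Prime] (r : ℕ) (q : Fin r → ℕ) (hq : ∀ i, (q i).Prime ∧ q i ≠ p) (hinj : Function.Injective q) (hcover : ∀ s : ℕ, s.Prime → s ∣ Nat.card G → s ≠ p → ∃ i, q i = s) (l : Fin r → ℕ) (hl : ∀ i, Cfsg.PLengthLE (q i) (l i) G) : Cfsg.PLengthLE p (Finset.univ.prod fun i => 1 + l i) G := by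
  classical
  set S : Finset ℕ := Finset.univ.image q with hS
  set L : ℕ → ℕ := fun s => if h : ∃ i, q i = s then l (Classical.choose h) else 0 with hL
  have hLq : ∀ i, L (q i) = l i := by
    intro i
    have h : ∃ j, q j = q i := ⟨i, rfl⟩
    show (if h : ∃ j, q j = q i then l (Classical.choose h) else 0) = l i
    rw [dif_pos h]
    congr 1
    exact hinj (Classical.choose_spec h)
  have hmain := main p _ G S L rfl
    (by
      intro s hs
      obtain ⟨i, -, rfl⟩ := Finset.mem_image.mp hs
      exact hq i)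
    (by
      intro s hs hsG hsp
      obtain ⟨i, rfl⟩ := hcover s hs hsG hsp
      exact Finset.mem_image.mpr ⟨i, Finset.mem_univ _, rfl⟩)
    (by
      intro s hs
      obtain ⟨i, -, rfl⟩ := Finset.mem_image.mp hs
      rw [hLq i]
      exact hl i)
  have hprod : (S.prod fun s => 1 + L s) = Finset.univ.prod fun i => 1 + l i := by
    rw [hS, Finset.prod_image (fun i _ j _ h => hinj h)]
    apply Finset.prod_congr rfl
    intro i _
    rw [hLq i]
  rw [hprod] at hmain
  exact hmain

end Cfsg.Agent.S3790
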