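import Mathlib
import Cfsg.Statements.S3791
import Cfsg.Agent.Lib.Helper21.PSeries

set_option autoImplicit false
open Cfsg

namespace Cfsg.Agent.S3791

open Cfsg.Agent.Lib.Helper21

universe u

section derived

variable {X : Type*} [Group X]

/-- (D1) -/
theorem derivedSeries_eq_bot_of_le (K P : Subgroup X) (h : K ≤ P) (n : ℕ)
    (hP : derivedSeries ↥P n = ⊥) : derivedSeries ↥K n = ⊥ := by
  have h1 := map_derivedSeries_le_derivedSeries (Subgroup.inclusion h) n
  rw [hP, le_bot_iff] at h1
  exact (Subgroup.map_eq_bot_iff_of_injective _ (Subgroup.inclusion_injective h)).mp h1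

/-- (D2) -/
theorem derivedSeries_eq_bot_of_surjective {Y : Type*} [Group Y] (f : X →* Y)
    (hf : Function.Surjective f) (n : ℕ) (hX : derivedSeries X n = ⊥) : derivedSeries Y n = ⊥ := by
  have := derivedSeries_le_map_derivedSeries hf n
  rw [hX, Subgroup.map_bot] at this
  exact le_bot_iff.mp this

/-- (D3a) -/
theorem derivedSeries_le_of_quotient (N : Subgroup X) [N.Normal] (a : ℕ)
    (h : derivedSeries (X ⧸ N) a = ⊥) : derivedSeries X a ≤ N := by
  have h1 := map_derivedSeries_le_derivedSeries (QuotientGroup.mk' N) a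
  rw [h, le_bot_iff] at h1
  intro x hx
  have : QuotientGroup.mk' N x ∈ (derivedSeries X a).map (QuotientGroup.mk' N) := ⟨x, hx, rfl⟩
  rw [h1, Subgroup.mem_bot] at this
  exact (QuotientGroup.eq_one_iff x).mp this

/-- (D3b) -/
theorem derivedSeries_add_le (H : Subgroup X) (a : ℕ) (h : derivedSeries X a ≤ H) (b : ℕ) :
    derivedSeries X (a + b) ≤ (derivedSeries ↥H b).map H.subtype := by
  induction b with
  | zero =>
    rw [add_zero, derivedSeries_zero, ← MonoidHom.range_eq_map, Subgroup.range_subtype]
    exact h
  | succ b ih =>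
    rw [← add_assoc, derivedSeries_succ, derivedSeries_succ, Subgroup.map_commutator]
    exact Subgroup.commutator_mono ih ih

end derived

section sylowq

variable {G : Type u} [Group G] [Finite G]

/-- derived length bound of `s`-subgroups passes to quotients -/
theorem dl_quotient (N : Subgroup G) [N.Normal] (s : ℕ) [Fact s.Prime] (D : ℕ)
    (h : ∀ P : Subgroup G, IsPGroup s P → derivedSeries ↥P D = ⊥)
    (Pb : Subgroup (G ⧸ N)) (hPb : IsPGroup s Pb) : derivedSeries ↥Pb D = ⊥ := by
  have hπs : Function.Surjective (QuotientGroup.mk' N) := QuotientGroup.mk'_surjective _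
  obtain ⟨Rb, hRb⟩ := hPb.exists_le_sylow
  obtain ⟨R, rfl⟩ := Sylow.mapSurjective_surjective hπs s Rb
  rw [Sylow.coe_mapSurjective] at hRb
  have h1 := h (R : Subgroup G) R.isPGroup'
  have h2 : derivedSeries ↥((R : Subgroup G).map (QuotientGroup.mk' N)) D = ⊥ :=
    derivedSeries_eq_bot_of_surjective ((QuotientGroup.mk' N).subgroupMap (R : Subgroup G))
      ((QuotientGroup.mk' N).subgroupMap_surjective _) D h1
  exact derivedSeries_eq_bot_of_le Pb _ hRb D h2

end sylowq

theorem main : ∀ (μ : ℕ) (G : Type u) [Group G] [Finite G]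
    (S : Finset ℕ) (D L : ℕ → ℕ), Nat.card G + S.sum L = μ → (∀ s ∈ S, s.Prime) →
    (∀ s : ℕ, s.Prime → s ∣ Nat.card G → s ∈ S) →
    (∀ s ∈ S, ∀ P : Subgroup G, IsPGroup s P → derivedSeries ↥P (D s) = ⊥) →
    (∀ s ∈ S, PLengthLE s (L s) G) →
    derivedSeries G (S.sum fun s => D s * L s) = ⊥ := by
  intro μ
  induction μ using Nat.strong_induction_on with
  | _ μ ih =>
  intro G _ _ S D L hμ hS hcov hD hL
  set T := S.sum fun s => D s * L s with hT
  -- it suffices to show the derived term lies in every `U_1`
  suffices hkey : ∀ s ∈ S, derivedSeries G T ≤ ups s G 1 by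
    by_contra hne
    have hcard : Nat.card (derivedSeries G T) ≠ 1 := by
      intro h1
      exact hne (Subgroup.card_eq_one.mp h1)
    obtain ⟨t, ht, htdvd⟩ := Nat.exists_prime_and_dvd hcard
    have htG : t ∣ Nat.card G := htdvd.trans (Subgroup.card_subgroup_dvd_card _)
    have htS := hcov t ht htG
    haveI : Fact t.Prime := ⟨ht⟩
    have h2 : (Nat.card (ups t G 1)).Coprime t := card_ups_one_coprime
    have h3 : t ∣ Nat.card (ups t G 1) := htdvd.trans (Subgroup.card_dvd_of_le (hkey t htS))
    exact (Nat.Prime.coprime_iff_not_dvd ht).mp h2.symm h3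
  intro s hsS
  haveI : Fact s.Prime := ⟨hS s hsS⟩
  set N : Subgroup G := ups s G 1 with hN
  by_cases hNbot : N = ⊥
  swap
  · -- the quotient by N is smaller
    apply derivedSeries_le_of_quotient N T
    apply ih (Nat.card (G ⧸ N) + S.sum L) _ (G ⧸ N) S D L rfl hS
    · intro t ht htG
      exact hcov t ht (htG.trans (Subgroup.card_quotient_dvd_card N))
    · intro t htS Pb hPb
      haveI : Fact t.Prime := ⟨hS t htS⟩
      exact dl_quotient N t (D t) (hD t htS) Pb hPb
    · intro t htS
      haveI : Fact t.Prime := ⟨hS t htS⟩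
      exact plength_of_surjective (QuotientGroup.mk' N) (QuotientGroup.mk'_surjective _) (hL t htS)
    · rw [← hμ]
      have h1 : Nat.card (G ⧸ N) * Nat.card N = Nat.card G := by
        rw [← Subgroup.index_eq_card]; exact N.index_mul_card
      have h2 : 1 < Nat.card N := by
        rw [Subgroup.one_lt_card_iff_ne_bot]; exact hNbot
      have h3 : 0 < Nat.card (G ⧸ N) := Nat.card_pos
      have : Nat.card (G ⧸ N) < Nat.card G := by
        rw [← h1]
        nlinarith
      omega
  · -- `U_1 = ⊥`
    by_cases hL0 : L s = 0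
    · have h1 := hL s hsS
      rw [hL0, plength_iff] at h1
      have h1' : ups s G (2 * 0 + 1) = N := rfl
      rw [h1'] at h1
      rw [h1]; exact le_top
    have hLs : 1 ≤ L s := by omega
    set Q : Subgroup G := ups s G 2 with hQ
    -- Q is an s-group
    have hQs : IsPGroup s Q := by
      have h3 := goodCard_factor (G := G) (p := s) 1
      unfold GoodCard at h3
      rw [if_neg (by decide : ¬ Even 1)] at h3
      obtain ⟨k, hk⟩ := h3
      have hdvd := card_map_dvd_of_ker_le (QuotientGroup.mk' (ups s G 1)) (MonoidHom.id G)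
        (ups s G (1 + 1))
        (by rw [QuotientGroup.ker_mk']; show N ≤ _; rw [hNbot]; exact bot_le)
      rw [Subgroup.map_id, hk] at hdvd
      obtain ⟨j, -, hj⟩ := (Nat.dvd_prime_pow (Fact.out : s.Prime)).mp hdvd
      exact IsPGroup.of_card hj
    have hQD : derivedSeries ↥Q (D s) = ⊥ := hD s hsS Q hQs
    -- the quotient by Q
    set L' : ℕ → ℕ := Function.update L s (L s - 1) with hL'
    have hL's : L' s = L s - 1 := Function.update_self ..
    have hL'ne : ∀ t, t ≠ s → L' t = L t := fun t ht => Function.update_of_ne ht ..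
    have hsumL : S.sum L = L s + (S.erase s).sum L := (Finset.add_sum_erase S L hsS).symm
    have hsumL' : S.sum L' = (L s - 1) + (S.erase s).sum L := by
      rw [← Finset.add_sum_erase S L' hsS, hL's]
      congr 1
      apply Finset.sum_congr rfl
      intro t ht
      exact hL'ne t (Finset.ne_of_mem_erase ht)
    have hquot : derivedSeries (G ⧸ Q) (S.sum fun t => D t * L' t) = ⊥ := by
      apply ih (Nat.card (G ⧸ Q) + S.sum L') _ (G ⧸ Q) S D L' rfl hS
      · intro t ht htG
        exact hcov t ht (htG.trans (Subgroup.card_quotient_dvd_card Q))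
      · intro t htS Pb hPb
        haveI : Fact t.Prime := ⟨hS t htS⟩
        exact dl_quotient Q t (D t) (hD t htS) Pb hPb
      · intro t htS
        haveI : Fact t.Prime := ⟨hS t htS⟩
        by_cases hts : t = s
        · subst hts
          rw [hL's]
          apply plength_shift
          have : L t - 1 + 1 = L t := by omega
          rw [this]
          exact hL t htS
        · rw [hL'ne t hts]
          exact plength_of_surjective (QuotientGroup.mk' Q) (QuotientGroup.mk'_surjective _)
            (hL t htS)
      · rw [← hμ, hsumL, hsumL']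
        have : Nat.card (G ⧸ Q) ≤ Nat.card G :=
          Nat.le_of_dvd Nat.card_pos (Subgroup.card_quotient_dvd_card Q)
        omega
    have hTsplit : T = (S.sum fun t => D t * L' t) + D s := by
      rw [hT, ← Finset.add_sum_erase S (fun t => D t * L t) hsS,
        ← Finset.add_sum_erase S (fun t => D t * L' t) hsS]
      have h1 : ((S.erase s).sum fun t => D t * L' t) = (S.erase s).sum fun t => D t * L t := by
        apply Finset.sum_congr rfl
        intro t ht
        rw [hL'ne t (Finset.ne_of_mem_erase ht)]
      rw [h1]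
      show D s * L s + _ = D s * L' s + _ + D s
      rw [hL's]
      have : D s * L s = D s * (L s - 1) + D s := by
        have : L s = (L s - 1) + 1 := by omega
        conv_lhs => rw [this, mul_add, mul_one]
      rw [this]; ring
    have h1 := derivedSeries_le_of_quotient Q _ hquot
    have h2 := derivedSeries_add_le Q _ h1 (D s)
    rw [hQD, Subgroup.map_bot, ← hTsplit] at h2
    exact h2.trans bot_le

theorem result {G : Type*} [Group G] [Finite G] (hG : Group.IsSolvable G) (r : ℕ) (q : Fin r → ℕ) (hq : ∀ i, (q i).Prime) (hinj : Function.Injective q) (hcover : ∀ s : ℕ, s.Prime → s ∣ Nat.card G → ∃ i, q i = s) (d l : Fin r → ℕ) (hd : ∀ i, ∀ P : Subgroup G, (haveI := Fact.mk (hq i); ∃ S : Sylow (q i) G, (S : Subgroup G) = P) → derivedSeries ↥P (d i) = ⊥) (hl : ∀ i, Cfsg.PLengthLE (q i) (l i) G) : derivedSeries G (Finset.univ.sum fun i => d i * l i) = ⊥ := by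
  classical
  set S : Finset ℕ := Finset.univ.image q with hS
  have hchoose : ∀ (f : Fin r → ℕ) (i : Fin r),
      (if h : ∃ j, q j = q i then f (Classical.choose h) else 0) = f i := by
    intro f i
    have h : ∃ j, q j = q i := ⟨i, rfl⟩
    rw [dif_pos h]
    congr 1
    exact hinj (Classical.choose_spec h)
  set L : ℕ → ℕ := fun s => if h : ∃ i, q i = s then l (Classical.choose h) else 0 with hL
  set D : ℕ → ℕ := fun s => if h : ∃ i, q i = s then d (Classical.choose h) else 0 with hD
  have hLq : ∀ i, L (q i) = l i := hchoose l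
  have hDq : ∀ i, D (q i) = d i := hchoose d
  have hmain := main _ G S D L rfl
    (by
      intro s hs
      obtain ⟨i, -, rfl⟩ := Finset.mem_image.mp hs
      exact hq i)
    (by
      intro s hs hsG
      obtain ⟨i, rfl⟩ := hcover s hs hsG
      exact Finset.mem_image.mpr ⟨i, Finset.mem_univ _, rfl⟩)
    (by
      intro s hs P hP
      obtain ⟨i, -, rfl⟩ := Finset.mem_image.mp hs
      rw [hDq i]
      haveI : Fact (q i).Prime := ⟨hq i⟩
      obtain ⟨R, hR⟩ := hP.exists_le_sylow
      have h1 := hd i (R : Subgroup G) ⟨R, rfl⟩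
      exact derivedSeries_eq_bot_of_le P _ hR (d i) h1)
    (by
      intro s hs
      obtain ⟨i, -, rfl⟩ := Finset.mem_image.mp hs
      rw [hLq i]
      exact hl i)
  have hsum : (S.sum fun s => D s * L s) = Finset.univ.sum fun i => d i * l i := by
    rw [hS, Finset.sum_image (fun i _ j _ h => hinj h)]
    apply Finset.sum_congr rfl
    intro i _
    rw [hLq i, hDq i]
  rw [hsum] at hmain
  exact hmain

end Cfsg.Agent.S3791
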