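import Cfsg.Statements.S3799

import Cfsg.Agent.Lib.Helper1.Frat
set_option autoImplicit false
open Cfsg

namespace Cfsg.Agent.S3799


open Matrix

@[ext] structure Heis (n p : ℕ) where
  a : Fin n → ZMod p
  b : Fin n → ZMod p
  c : ZMod p

namespace Heis

variable {n p : ℕ}

instance : Mul (Heis n p) := ⟨fun x y => ⟨x.a + y.a, x.b + y.b, x.c + y.c + x.a ⬝ᵥ y.b⟩⟩
instance : One (Heis n p) := ⟨⟨0, 0, 0⟩⟩
instance : Inv (Heis n p) := ⟨fun x => ⟨-x.a, -x.b, -x.c + x.a ⬝ᵥ x.b⟩⟩

@[simp] lemma mul_a (x y : Heis n p) : (x * y).a = x.a + y.a := rfl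
@[simp] lemma mul_b (x y : Heis n p) : (x * y).b = x.b + y.b := rfl
@[simp] lemma mul_c (x y : Heis n p) : (x * y).c = x.c + y.c + x.a ⬝ᵥ y.b := rfl
@[simp] lemma one_a : (1 : Heis n p).a = 0 := rfl
@[simp] lemma one_b : (1 : Heis n p).b = 0 := rfl
@[simp] lemma one_c : (1 : Heis n p).c = 0 := rfl
@[simp] lemma inv_a (x : Heis n p) : (x⁻¹).a = -x.a := rfl
@[simp] lemma inv_b (x : Heis n p) : (x⁻¹).b = -x.b := rfl
@[simp] lemma inv_c (x : Heis n p) : (x⁻¹).c = -x.c + x.a ⬝ᵥ x.b := rfl

instance : Group (Heis n p) where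
  mul_assoc x y z := by
    ext <;> simp [add_assoc, add_dotProduct, dotProduct_add]
    ring
  one_mul x := by ext <;> simp
  mul_one x := by ext <;> simp
  inv_mul_cancel x := by
    ext <;> simp

lemma pow_eq (x : Heis n p) (k : ℕ) :
    x ^ k = ⟨k • x.a, k • x.b, k • x.c + (k.choose 2) • (x.a ⬝ᵥ x.b)⟩ := by
  induction k with
  | zero => ext <;> simp
  | succ k ih =>
    rw [pow_succ, ih]
    have hch : (k + 1).choose 2 = k.choose 2 + k := by
      rw [Nat.choose_succ_succ' k 1, Nat.choose_one_right]; ring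
    ext i
    · simp
      ring
    · simp
      ring
    · simp only [mul_c, smul_dotProduct, hch, add_nsmul, succ_nsmul]
      ring

lemma pow_p [Fact p.Prime] (hp : p ≠ 2) (x : Heis n p) : x ^ p = 1 := by
  have hpp : p.Prime := Fact.out
  have h3 : 2 < p := lt_of_le_of_ne hpp.two_le (Ne.symm hp)
  have hd : p ∣ p.choose 2 := hpp.dvd_choose_self (by norm_num) h3
  obtain ⟨m, hm⟩ := hd
  rw [pow_eq]
  ext i
  · simp
  · simp
  · simp only [one_c, hm, nsmul_eq_mul, CharP.cast_eq_zero, zero_mul]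
    simp

lemma comm_iff (x y : Heis n p) : x * y = y * x ↔ x.a ⬝ᵥ y.b = y.a ⬝ᵥ x.b := by
  constructor
  · intro h
    have := congrArg Heis.c h
    simp only [mul_c] at this
    linear_combination this
  · intro h
    ext i
    · simp [add_comm]
    · simp [add_comm]
    · simp only [mul_c]
      linear_combination h

def Z (n p : ℕ) : Subgroup (Heis n p) where
  carrier := {x | x.a = 0 ∧ x.b = 0}
  mul_mem' := by
    rintro x y ⟨h1, h2⟩ ⟨h3, h4⟩
    exact ⟨by simp [h1, h3], by simp [h2, h4]⟩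
  one_mem' := ⟨rfl, rfl⟩
  inv_mem' := by
    rintro x ⟨h1, h2⟩
    exact ⟨by simp [h1], by simp [h2]⟩

lemma mem_Z (x : Heis n p) : x ∈ Z n p ↔ x.a = 0 ∧ x.b = 0 := Iff.rfl

lemma mem_Z_iff_central (x : Heis n p) : x ∈ Z n p ↔ ∀ y : Heis n p, y * x = x * y := by
  constructor
  · rintro ⟨h1, h2⟩ y
    rw [comm_iff, h1, h2]
    simp
  · intro h
    constructor
    · ext i
      have := (comm_iff _ _).1 (h ⟨0, Pi.single i 1, 0⟩)
      simp at this
      exact this.symm
    · ext i
      have := (comm_iff _ _).1 (h ⟨Pi.single i 1, 0, 0⟩)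
      simp at this
      exact this

lemma comm_mem_Z (x y : Heis n p) : x * y * x⁻¹ * y⁻¹ ∈ Z n p := by
  constructor
  · ext i; simp
  · ext i; simp

lemma exists_comm_ne_one [Fact p.Prime] (hn : 1 ≤ n) :
    ∃ x y : Heis n p, x * y * x⁻¹ * y⁻¹ ≠ 1 := by
  refine ⟨⟨Pi.single ⟨0, hn⟩ 1, 0, 0⟩, ⟨0, Pi.single ⟨0, hn⟩ 1, 0⟩, ?_⟩
  intro h
  have := congrArg Heis.c h
  simp at this

def equivProd (n p : ℕ) : Heis n p ≃ (Fin n → ZMod p) × (Fin n → ZMod p) × ZMod p where
  toFun x := (x.a, x.b, x.c)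
  invFun t := ⟨t.1, t.2.1, t.2.2⟩
  left_inv _ := rfl
  right_inv _ := rfl

lemma card_heis [Fact p.Prime] : Nat.card (Heis n p) = p ^ (1 + 2 * n) := by
  rw [Nat.card_congr (equivProd n p), Nat.card_prod, Nat.card_prod, Nat.card_eq_fintype_card,
    Nat.card_eq_fintype_card, Fintype.card_fun, Fintype.card_fin, ZMod.card]
  ring

def equivZ (n p : ℕ) : Z n p ≃ ZMod p where
  toFun x := x.1.c
  invFun t := ⟨⟨0, 0, t⟩, rfl, rfl⟩
  left_inv x := by
    apply Subtype.ext
    ext i
    · exact (congrFun x.2.1 i).symm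
    · exact (congrFun x.2.2 i).symm
    · rfl
  right_inv t := rfl

lemma card_Z [Fact p.Prime] : Nat.card (Z n p) = p := by
  rw [Nat.card_congr (equivZ n p), Nat.card_eq_fintype_card, ZMod.card]

end Heis

theorem criterion {P : Type*} [Group P] [Finite P] {p : ℕ} [Fact p.Prime]
    (hP : IsPGroup p P) (Z : Subgroup P) (hZc : Nat.card Z = p)
    (hZcen : ∀ z, z ∈ Z ↔ ∀ y : P, y * z = z * y)
    (hcomm : ∀ a b : P, a * b * a⁻¹ * b⁻¹ ∈ Z) (hne : ∃ a b : P, a * b * a⁻¹ * b⁻¹ ≠ 1)
    (hpow : ∀ x : P, x ^ p ∈ Z) : Cfsg.IsExtraspecial p P := by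
  have hpp : p.Prime := Fact.out
  have hZ : Z = Subgroup.center P := by
    ext z
    rw [hZcen, Subgroup.mem_center_iff]
  have hcomm_le : commutator P ≤ Z := by
    rw [commutator_eq_closure, Subgroup.closure_le]
    rintro _ ⟨a, b, rfl⟩
    exact hcomm a b
  have hcomm_eq : commutator P = Z := by
    apply Subgroup.eq_of_le_of_card_ge hcomm_le
    have h1 : Nat.card (commutator P) ∣ Nat.card Z := Subgroup.card_dvd_of_le hcomm_le
    rw [hZc] at h1 ⊢
    rcases (Nat.dvd_prime hpp).1 h1 with h | h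
    · exfalso
      obtain ⟨a, b, hab⟩ := hne
      have : commutator P = ⊥ := Subgroup.card_eq_one.1 h
      have hmem : a * b * a⁻¹ * b⁻¹ ∈ commutator P := by
        rw [commutator_eq_closure]
        exact Subgroup.subset_closure ⟨a, b, rfl⟩
      rw [this, Subgroup.mem_bot] at hmem
      exact hab hmem
    · exact h.ge
  refine ⟨⟨hP, ?_, ?_⟩, ?_⟩
  · apply le_antisymm
    · apply Cfsg.Agent.Lib.Helper1.frattini_le_of_elementary_quotient (p := p) (Subgroup.center P)
      · rw [← hZ]; exact hcomm_le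
      · intro x; rw [← hZ]; exact hpow x
    · rw [← hZ, ← hcomm_eq]
      exact Cfsg.Agent.Lib.Helper1.pgroup_commutator_le_frattini hP
  · rw [hcomm_eq, hZ]
  · rw [← hZ, hZc]

section rep

variable {n p : ℕ} [Fact p.Prime]

abbrev VV (n p : ℕ) := ZMod p × (Fin n → ZMod p) × ZMod p

instance : SMul (Heis n p) (VV n p) :=
  ⟨fun x w => (w.1 + x.a ⬝ᵥ w.2.1 + x.c * w.2.2, w.2.1 + w.2.2 • x.b, w.2.2)⟩

lemma smul_def (x : Heis n p) (w : VV n p) :
    x • w = (w.1 + x.a ⬝ᵥ w.2.1 + x.c * w.2.2, w.2.1 + w.2.2 • x.b, w.2.2) := rfl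

instance : DistribMulAction (Heis n p) (VV n p) where
  one_smul w := by
    rw [smul_def]
    simp
  mul_smul x y w := by
    rw [smul_def, smul_def, smul_def]
    refine Prod.ext ?_ (Prod.ext ?_ rfl)
    · simp [add_dotProduct, dotProduct_add, dotProduct_smul]
      ring
    · simp [smul_add]
      abel
  smul_zero x := by
    rw [smul_def]
    simp
  smul_add x w w' := by
    rw [smul_def, smul_def, smul_def]
    refine Prod.ext ?_ (Prod.ext ?_ rfl)
    · simp [dotProduct_add]
      ring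
    · simp [add_smul]
      abel

instance : SMulCommClass (Heis n p) (ZMod p) (VV n p) where
  smul_comm x r w := by
    rw [smul_def, smul_def]
    refine Prod.ext ?_ (Prod.ext ?_ rfl)
    · simp [dotProduct_smul]
      ring
    · simp [smul_add, mul_smul]

def rho : Heis n p →* (VV n p ≃ₗ[ZMod p] VV n p) := DistribMulAction.toModuleAut (ZMod p) (VV n p)

lemma rho_apply (x : Heis n p) (w : VV n p) : rho x w = x • w := rfl

lemma rho_injective : Function.Injective (rho (n := n) (p := p)) := by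
  rw [injective_iff_map_eq_one]
  intro x hx
  have h1 : ∀ w : VV n p, x • w = w := fun w => by
    rw [← rho_apply, hx]; rfl
  ext i
  · have := h1 (0, Pi.single i 1, 0)
    rw [smul_def] at this
    have := congrArg Prod.fst this
    simpa using this
  · have := h1 (0, 0, 1)
    rw [smul_def] at this
    have := congrFun (congrArg (fun t => t.2.1) this) i
    simpa using this
  · have := h1 (0, 0, 1)
    rw [smul_def] at this
    have := congrArg Prod.fst this
    simpa using this

lemma finrank_VV : Module.finrank (ZMod p) (VV n p) = Module.finrank (ZMod p) (Fin (n + 2) → ZMod p) := by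
  rw [Module.finrank_prod, Module.finrank_prod, Module.finrank_self, Module.finrank_fin_fun,
    Module.finrank_fin_fun]
  ring

noncomputable def eV : VV n p ≃ₗ[ZMod p] (Fin (n + 2) → ZMod p) :=
  LinearEquiv.ofFinrankEq _ _ finrank_VV

noncomputable def psi : Heis n p →* GL (Fin (n + 2)) (ZMod p) :=
  (Matrix.GeneralLinearGroup.toLin (n := Fin (n + 2)) (R := ZMod p)).symm.toMonoidHom.comp
    ((Units.mapEquiv (eV (n := n) (p := p)).conjRingEquiv.toMulEquiv).toMonoidHom.comp
      ((LinearMap.GeneralLinearGroup.generalLinearEquiv (ZMod p) (VV n p)).symm.toMonoidHom.comp rho))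

lemma psi_injective : Function.Injective (psi (n := n) (p := p)) := by
  unfold psi
  intro x y h
  apply rho_injective
  simpa using h

end rep

/-- For every odd prime p and every n ≥ 1 there is an extraspecial p-group of order p^(1+2n) and exponent p; concretely, the general linear group of degree n + 2 over the field with p elements contains such a subgroup. -/
theorem result (p : ℕ) [Fact p.Prime] (hp : p ≠ 2) (n : ℕ) (hn : 1 ≤ n) : ∃ E : Subgroup (Matrix.GeneralLinearGroup (Fin (n + 2)) (ZMod p)), Cfsg.IsExtraspecial p ↥E ∧ Nat.card E = p ^ (1 + 2 * n) ∧ ∀ x ∈ E, x ^ p = 1 := by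
  classical
  let ψ := psi (n := n) (p := p)
  have hinj : Function.Injective ψ := psi_injective
  let e : Heis n p ≃* ψ.range := MonoidHom.ofInjective hinj
  have hcard : Nat.card ψ.range = p ^ (1 + 2 * n) := by
    rw [← Nat.card_congr e.toEquiv, Heis.card_heis]
  have hfin : Finite ψ.range := Nat.finite_of_card_ne_zero (by
    rw [hcard]; exact pow_ne_zero _ (Fact.out : p.Prime).ne_zero)
  refine ⟨ψ.range, ?_, hcard, ?_⟩
  · refine criterion (IsPGroup.of_card hcard) ((Heis.Z n p).map e.toMonoidHom) ?_ ?_ ?_ ?_ ?_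
    · rw [← Nat.card_congr ((Heis.Z n p).equivMapOfInjective e.toMonoidHom e.injective).toEquiv,
        Heis.card_Z]
    · intro z
      obtain ⟨z0, rfl⟩ := e.surjective z
      constructor
      · rintro ⟨z1, hz1, hz1e⟩ y
        obtain ⟨y0, rfl⟩ := e.surjective y
        have : z1 = z0 := e.injective hz1e
        subst this
        rw [← map_mul, ← map_mul, (Heis.mem_Z_iff_central z1).1 hz1 y0]
      · intro h
        refine ⟨z0, ?_, rfl⟩
        show z0 ∈ Heis.Z n p
        rw [Heis.mem_Z_iff_central]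
        intro y0
        apply e.injective
        rw [map_mul, map_mul]
        exact h (e y0)
    · intro a b
      obtain ⟨a0, rfl⟩ := e.surjective a
      obtain ⟨b0, rfl⟩ := e.surjective b
      refine ⟨a0 * b0 * a0⁻¹ * b0⁻¹, Heis.comm_mem_Z a0 b0, ?_⟩
      simp
    · obtain ⟨a0, b0, hab⟩ := Heis.exists_comm_ne_one (p := p) hn
      refine ⟨e a0, e b0, ?_⟩
      intro h
      apply hab
      apply e.injective
      rw [map_one, ← h]
      simp
    · intro x
      obtain ⟨x0, rfl⟩ := e.surjective x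
      rw [← map_pow, Heis.pow_p hp, map_one]
      exact one_mem _
  · rintro _ ⟨x0, rfl⟩
    rw [← map_pow, Heis.pow_p hp, map_one]

end Cfsg.Agent.S3799
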