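import Mathlib
import Cfsg.Statements.S3800
import Cfsg.Agent.Lib.Helper18.SylowIn

set_option autoImplicit false
open Cfsg

namespace Cfsg.Agent.S3800

open Cfsg.Agent.Lib.Helper18
open scoped Pointwise

lemma inf_eq_bot {G : Type*} [Group G] [Finite G] {p : ℕ} [Fact p.Prime] (N : Subgroup G)
    (hN : (Nat.card N).Coprime p) (P : Subgroup G) (hP : IsPGroup p P) : P ⊓ N = ⊥ := by
  rw [eq_bot_iff]
  rintro y ⟨hyP, hyN⟩
  rw [Subgroup.mem_bot]
  obtain ⟨k, hk⟩ := hP ⟨y, hyP⟩
  have hk' : y ^ p ^ k = 1 := by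
    have := congrArg Subtype.val hk
    simpa using this
  have h1 : orderOf y ∣ p ^ k := orderOf_dvd_of_pow_eq_one hk'
  have h2 : orderOf y ∣ Nat.card N := N.orderOf_dvd_natCard hyN
  have hcop : Nat.Coprime (p ^ k) (Nat.card N) := (Nat.Coprime.pow_right k hN).symm
  have := Nat.eq_one_of_dvd_coprimes hcop h1 h2
  exact orderOf_eq_one_iff.mp this

theorem result {G : Type*} [Group G] [Finite G] {p : ℕ} [Fact p.Prime] (N : Subgroup G) [N.Normal] (hN : (Nat.card N).Coprime p) (P : Subgroup G) (hP : IsPGroup p P) : Subgroup.normalizer ((P.map (QuotientGroup.mk' N)) : Set (G ⧸ N)) = (Subgroup.normalizer (P : Set G)).map (QuotientGroup.mk' N) ∧ Subgroup.centralizer ((P.map (QuotientGroup.mk' N)) : Set (G ⧸ N)) = (Subgroup.centralizer (P : Set G)).map (QuotientGroup.mk' N) := by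
  set π := QuotientGroup.mk' N with hπ
  set L : Subgroup G := P ⊔ N with hL
  have hLcomap : (P.map π).comap π = L := by
    rw [Subgroup.comap_map_eq, QuotientGroup.ker_mk']
  have hsyl : IsSylowIn p P L := by
    refine ⟨le_sup_left, hP, ?_⟩
    rw [relIndex_sup_of_normal]
    intro hdiv
    have h1 : p ∣ Nat.card N := hdiv.trans (Subgroup.relIndex_dvd_card P N)
    have := Nat.Coprime.eq_one_of_dvd hN.symm h1
    exact (Nat.Prime.one_lt Fact.out).ne' this
  have hnorm : Subgroup.normalizer ((P.map π) : Set (G ⧸ N)) ≤ (Subgroup.normalizer (P : Set G)).map π := by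
    intro q hq
    obtain ⟨g, rfl⟩ := QuotientGroup.mk'_surjective N q
    have hgL : g ∈ Subgroup.normalizer (L : Set G) := by
      rw [Subgroup.mem_normalizer_iff] at hq ⊢
      intro y
      rw [← hLcomap, Subgroup.mem_comap, Subgroup.mem_comap, hq (π y)]
      simp only [map_mul, map_inv]
      rfl
    obtain ⟨l, hl, hlg⟩ := hsyl.frattini hgL
    have hl' : l ∈ ((P : Subgroup G) : Set G) * (N : Set G) := by
      rw [← Subgroup.mul_normal]; exact hl
    obtain ⟨u, hu, n, hn, rfl⟩ := Set.mem_mul.mp hl'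
    refine ⟨n * g, ?_, ?_⟩
    · have huN : u ∈ Subgroup.normalizer (P : Set G) := Subgroup.le_normalizer hu
      have := (Subgroup.normalizer (P : Set G)).mul_mem ((Subgroup.normalizer (P : Set G)).inv_mem huN) hlg
      have e : u⁻¹ * (u * n * g) = n * g := by group
      rw [e] at this
      exact this
    · rw [map_mul, hπ, QuotientGroup.mk'_apply, (QuotientGroup.eq_one_iff n).mpr hn, one_mul]
  constructor
  · exact le_antisymm hnorm (Subgroup.le_normalizer_map π)
  · apply le_antisymm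
    · intro q hq
      have hqn : q ∈ Subgroup.normalizer ((P.map π) : Set (G ⧸ N)) :=
        Subgroup.centralizer_le_normalizer _ hq
      obtain ⟨h, hh, rfl⟩ := hnorm hqn
      have hh : h ∈ Subgroup.normalizer (P : Set G) := hh
      refine ⟨h, ?_, rfl⟩
      show h ∈ Subgroup.centralizer (P : Set G)
      rw [Subgroup.mem_centralizer_iff]
      intro u hu
      have hcomm : π h * π u = π u * π h := by
        rw [Subgroup.mem_centralizer_iff] at hq
        exact (hq (π u) ⟨u, hu, rfl⟩).symm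
      have h1 : h * u * h⁻¹ * u⁻¹ ∈ N := by
        rw [← QuotientGroup.ker_mk' N, MonoidHom.mem_ker]
        show π (h * u * h⁻¹ * u⁻¹) = 1
        rw [map_mul, map_mul, map_mul, map_inv, map_inv, hcomm, mul_inv_cancel_right, mul_inv_cancel]
      have h2 : h * u * h⁻¹ * u⁻¹ ∈ P := by
        rw [Subgroup.mem_normalizer_iff] at hh
        exact P.mul_mem ((hh u).mp hu) (P.inv_mem hu)
      have h3 : h * u * h⁻¹ * u⁻¹ ∈ P ⊓ N := ⟨h2, h1⟩
      rw [inf_eq_bot N hN P hP, Subgroup.mem_bot] at h3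
      have h4 : h * u * h⁻¹ = u := mul_inv_eq_one.mp h3
      exact (mul_inv_eq_iff_eq_mul.mp h4).symm
    · rintro _ ⟨c, hc, rfl⟩
      have hc : c ∈ Subgroup.centralizer (P : Set G) := hc
      rw [Subgroup.mem_centralizer_iff] at hc ⊢
      rintro _ ⟨u, hu, rfl⟩
      rw [← map_mul, ← map_mul, hc u hu]

end Cfsg.Agent.S3800
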