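import Mathlib
import Cfsg.Statements.S3802

set_option autoImplicit false
open Cfsg

namespace Cfsg.Agent.S3802

open scoped Pointwise

universe u

lemma card_lt_of_lt_top {G : Type*} [Group G] [Finite G] (K : Subgroup G) (hK : K < ⊤) :
    Nat.card K < Nat.card G := by
  by_contra hcon
  push Not at hcon
  exact hK.ne (Subgroup.eq_top_of_le_card K hcon)

lemma card_quotient_lt {G : Type*} [Group G] [Finite G] (C : Subgroup G) [C.Normal] (hC : C ≠ ⊥) :
    Nat.card (G ⧸ C) < Nat.card G := by
  have h1 := Subgroup.card_eq_card_quotient_mul_card_subgroup C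
  have h2 : 1 < Nat.card C := by
    rw [Finite.one_lt_card_iff_nontrivial]
    exact (Subgroup.nontrivial_iff_ne_bot C).mpr hC
  have h3 : 0 < Nat.card (G ⧸ C) := Nat.card_pos
  rw [h1]
  nlinarith

lemma isCoatom_map_mk {G : Type*} [Group G] (C M : Subgroup G) [C.Normal] (hCM : C ≤ M) (hM : IsCoatom M) :
    IsCoatom (M.map (QuotientGroup.mk' C)) := by
  have hcm : (M.map (QuotientGroup.mk' C)).comap (QuotientGroup.mk' C) = M := by
    rw [Subgroup.comap_map_eq, QuotientGroup.ker_mk', sup_eq_left.mpr hCM]
  constructor
  · intro h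
    rw [h, Subgroup.comap_top] at hcm
    exact hM.1 hcm.symm
  · intro X hX
    have h1 : M ≤ X.comap (QuotientGroup.mk' C) := by
      rw [← hcm]; exact Subgroup.comap_mono hX.le
    have h2 : M ≠ X.comap (QuotientGroup.mk' C) := by
      intro h
      have := congrArg (Subgroup.map (QuotientGroup.mk' C)) h
      rw [Subgroup.map_comap_eq_self_of_surjective (QuotientGroup.mk'_surjective C)] at this
      exact hX.ne this
    have h3 := hM.2 _ (lt_of_le_of_ne h1 h2)
    have := congrArg (Subgroup.map (QuotientGroup.mk' C)) h3
    rw [Subgroup.map_comap_eq_self_of_surjective (QuotientGroup.mk'_surjective C),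
      Subgroup.map_top_of_surjective _ (QuotientGroup.mk'_surjective C)] at this
    exact this

theorem main : ∀ n : ℕ, ∀ (G : Type u) [Group G] [Finite G], Nat.card G = n →
    ∀ (M N : Subgroup G), IsCoatom M → N.IsSubnormal → N ≤ M → N ≤ M.normalCore := by
  intro n
  induction n using Nat.strong_induction_on with
  | _ n ih =>
    intro G _ _ hcard M N hM hN hNM
    by_cases hC : M.normalCore = ⊥
    · -- core is trivial
      rw [hC]
      by_contra hNbot
      have hNbot : N ≠ ⊥ := fun h => hNbot (h ▸ le_rfl)
      have hNtop : N ≠ ⊤ := by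
        rintro rfl
        exact hM.1 (top_le_iff.mp hNM)
      obtain ⟨K, hKn, hNK, hKtop⟩ := hN.lt_normal.resolve_left hNtop
      have hle_core : ∀ L : Subgroup G, L.Normal → L ≤ M → L = ⊥ := by
        intro L hL hLM
        have : L ≤ M.normalCore := Subgroup.normal_le_normalCore.mpr hLM
        rw [hC] at this
        exact le_bot_iff.mp this
      have hKM : ¬ K ≤ M := by
        intro h
        have := hle_core K hKn h
        rw [this] at hNK
        exact hNbot (le_bot_iff.mp hNK)
      have hKMtop : K ⊔ M = ⊤ := by
        apply hM.2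
        refine lt_of_le_of_ne le_sup_right ?_
        intro h
        apply hKM
        rw [h]; exact le_sup_left
      set M0 : Subgroup G := M ⊓ K with hM0
      have hM0top : M0.subgroupOf K ≠ ⊤ := by
        intro h
        rw [Subgroup.subgroupOf_eq_top] at h
        exact hKM (h.trans inf_le_left)
      obtain ⟨M1', hM1', hM0M1⟩ := (eq_top_or_exists_le_coatom _).resolve_left hM0top
      set M1 : Subgroup G := M1'.map K.subtype with hM1
      have hM1K : M1 ≤ K := by
        rintro _ ⟨y, _, rfl⟩; exact y.2
      have hM0le : M0 ≤ M1 := by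
        intro y hy
        exact ⟨⟨y, hy.2⟩, hM0M1 (by rw [Subgroup.mem_subgroupOf]; exact hy), rfl⟩
      have hKcard : Nat.card K < n := by rw [← hcard]; exact card_lt_of_lt_top K hKtop
      have ihK := ih (Nat.card K) hKcard (↥K) rfl
      have hconj : ∀ g : G, ∀ x ∈ N, g * x * g⁻¹ ∈ M1 := by
        intro g x hx
        have hg : g ∈ (K : Set G) * (M : Set G) := by
          rw [← Subgroup.normal_mul, hKMtop]; trivial
        obtain ⟨k, hk, m, hm, rfl⟩ := Set.mem_mul.mp hg
        set Nm : Subgroup G := N.map (MulAut.conj m).toMonoidHom with hNm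
        have hNmsn : Nm.IsSubnormal := hN.map (MulAut.conj m).surjective
        have hNmM0 : Nm ≤ M0 := by
          rintro _ ⟨y, hy, rfl⟩
          constructor
          · exact M.mul_mem (M.mul_mem hm (hNM hy)) (M.inv_mem hm)
          · exact hKn.conj_mem y (hNK hy) m
        have h1 : Nm.subgroupOf K ≤ M1' := (Subgroup.comap_mono hNmM0).trans hM0M1
        have h2 := ihK M1' (Nm.subgroupOf K) hM1' hNmsn.subgroupOf h1
        have hy : m * x * m⁻¹ ∈ Nm := ⟨x, hx, rfl⟩
        have hyK : m * x * m⁻¹ ∈ K := (hNmM0 hy).2
        have h3 : (⟨m * x * m⁻¹, hyK⟩ : K) ∈ M1'.normalCore := h2 (by rw [Subgroup.mem_subgroupOf]; exact hy)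
        have h4 := (Subgroup.normalCore_normal M1').conj_mem _ h3 ⟨k, hk⟩
        have h5 := Subgroup.normalCore_le M1' h4
        refine ⟨_, h5, ?_⟩
        simp only [Subgroup.coe_subtype, Subgroup.coe_mul, Subgroup.coe_inv]
        group
      set R : Subgroup G := Subgroup.normalClosure (N : Set G) with hR
      have hRM1 : R ≤ M1 := by
        rw [hR, Subgroup.normalClosure]
        rw [Subgroup.closure_le]
        intro y hy
        rw [Group.mem_conjugatesOfSet_iff] at hy
        obtain ⟨x, hx, hxy⟩ := hy
        obtain ⟨g, hg⟩ := isConj_iff.mp hxy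
        rw [← hg]
        exact hconj g x hx
      have hRne : R ≠ ⊥ := by
        intro h
        apply hNbot
        have : N ≤ R := Subgroup.le_normalClosure
        rw [h] at this
        exact le_bot_iff.mp this
      have hRM : ¬ R ≤ M := fun h => hRne (hle_core R inferInstance h)
      have hRMtop : R ⊔ M = ⊤ := by
        apply hM.2
        refine lt_of_le_of_ne le_sup_right ?_
        intro h
        apply hRM
        rw [h]; exact le_sup_left
      apply hM1'.1
      rw [eq_top_iff]
      intro k _
      have hk : (k : G) ∈ (R : Set G) * (M : Set G) := by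
        rw [← Subgroup.normal_mul, hRMtop]; trivial
      obtain ⟨r, hr, m', hm', hrm⟩ := Set.mem_mul.mp hk
      have hrM1 : r ∈ M1 := hRM1 hr
      have hm'K : m' ∈ K := by
        have : m' = r⁻¹ * (k : G) := by rw [← hrm]; group
        rw [this]
        exact K.mul_mem (K.inv_mem (hM1K hrM1)) k.2
      have hm'M1 : m' ∈ M1 := hM0le ⟨hm', hm'K⟩
      have hkM1 : (k : G) ∈ M1 := by
        rw [← hrm]; exact M1.mul_mem hrM1 hm'M1
      obtain ⟨k', hk', hkk'⟩ := hkM1
      have : k' = k := Subtype.ext hkk'
      rw [← this]; exact hk'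
    · -- pass to the quotient by the core
      set C := M.normalCore with hCdef
      have hCM : C ≤ M := Subgroup.normalCore_le M
      have hQcard : Nat.card (G ⧸ C) < n := by rw [← hcard]; exact card_quotient_lt C hC
      have ihQ := ih (Nat.card (G ⧸ C)) hQcard (G ⧸ C) rfl
      have hMbar := isCoatom_map_mk C M hCM hM
      have hNbar : (N.map (QuotientGroup.mk' C)).IsSubnormal := hN.map (QuotientGroup.mk'_surjective C)
      have h1 := ihQ _ _ hMbar hNbar (Subgroup.map_mono hNM)
      have h2 : ((M.map (QuotientGroup.mk' C)).normalCore).comap (QuotientGroup.mk' C) ≤ C := by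
        have hnorm : (((M.map (QuotientGroup.mk' C)).normalCore).comap (QuotientGroup.mk' C)).Normal :=
          (Subgroup.normalCore_normal _).comap _
        apply Subgroup.normal_le_normalCore.mpr
        have h3 : (M.map (QuotientGroup.mk' C)).comap (QuotientGroup.mk' C) = M := by
          rw [Subgroup.comap_map_eq, QuotientGroup.ker_mk', sup_eq_left.mpr hCM]
        calc ((M.map (QuotientGroup.mk' C)).normalCore).comap (QuotientGroup.mk' C)
            ≤ (M.map (QuotientGroup.mk' C)).comap (QuotientGroup.mk' C) :=
              Subgroup.comap_mono (Subgroup.normalCore_le _)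
          _ = M := h3
      exact ((Subgroup.le_comap_map _ N).trans (Subgroup.comap_mono h1)).trans h2

theorem result {G : Type*} [Group G] [Finite G] (M N : Subgroup G) (hM : IsCoatom M) (hN : N.IsSubnormal) (hNM : N ≤ M) :
    N ≤ Subgroup.normalCore M :=
  main (Nat.card G) G rfl M N hM hN hNM

end Cfsg.Agent.S3802
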