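import Mathlib
import Cfsg.Statements.S3804
import Cfsg.Agent.Lib.Helper18.ChermakDelgado

set_option autoImplicit false
open Cfsg

namespace Cfsg.Agent.S3804
open scoped Pointwise
open Cfsg.Agent.Lib.Helper18

lemma arith {pS pI pA pB pJ t cJ cA cB cI m : ℝ} (hpS : 0 < pS) (hpI : 0 < pI) (hpJ : 0 < pJ)
    (ht : 0 < t) (hcJ : 0 < cJ) (hcI : 0 < cI) (hm : 0 < m)
    (h1 : pS * pI = pA * pB) (h2 : t * cJ = cA * cB) (h3 : pS ≤ pJ) (h4 : t ≤ cI)
    (h5 : pA * cA = m) (h6 : pB * cB = m) (h7 : pJ * cJ ≤ m) (h8 : pI * cI ≤ m) :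
    pS = pJ ∧ t = cI ∧ pJ * cJ = m ∧ pI * cI = m := by
  have e : m * m = (pS * pI) * (t * cJ) := by
    rw [h1, h2]
    calc m * m = (pA * cA) * (pB * cB) := by rw [h5, h6]
      _ = _ := by ring
  have le1 : (pS * pI) * (t * cJ) ≤ (pJ * pI) * (t * cJ) := by gcongr
  have le2 : (pJ * pI) * (t * cJ) ≤ (pJ * pI) * (cI * cJ) := by gcongr
  have eq2 : (pJ * pI) * (cI * cJ) = (pJ * cJ) * (pI * cI) := by ring
  have le3 : (pJ * cJ) * (pI * cI) ≤ m * (pI * cI) := by gcongr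
  have le4 : m * (pI * cI) ≤ m * m := by gcongr
  have hpos1 : 0 < pI * (t * cJ) := by positivity
  have hpos2 : 0 < (pJ * pI) * cJ := by positivity
  have hpos3 : 0 < pI * cI := by positivity
  refine ⟨?_, ?_, ?_, ?_⟩
  · by_contra hne
    have hlt : pS < pJ := lt_of_le_of_ne h3 hne
    have : (pS * pI) * (t * cJ) < (pJ * pI) * (t * cJ) := by
      have : pS * (pI * (t * cJ)) < pJ * (pI * (t * cJ)) := mul_lt_mul_of_pos_right hlt hpos1
      linarith
    linarith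
  · by_contra hne
    have hlt : t < cI := lt_of_le_of_ne h4 hne
    have : (pJ * pI) * (t * cJ) < (pJ * pI) * (cI * cJ) := by
      have : t * ((pJ * pI) * cJ) < cI * ((pJ * pI) * cJ) := mul_lt_mul_of_pos_right hlt hpos2
      linarith
    linarith
  · by_contra hne
    have hlt : pJ * cJ < m := lt_of_le_of_ne h7 hne
    have : (pJ * cJ) * (pI * cI) < m * (pI * cI) := mul_lt_mul_of_pos_right hlt hpos3
    linarith
  · by_contra hne
    have hlt : pI * cI < m := lt_of_le_of_ne h8 hne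
    have : m * (pI * cI) < m * m := mul_lt_mul_of_pos_left hlt hm
    linarith

theorem result {X : Type*} [Group X] [Finite X] (G H : Subgroup X) (hGH : G ≤ Subgroup.normalizer (H : Set X)) (α : ℝ) (hα : 0 < α)
    (A B : Subgroup X) (hA : A ≤ G) (hB : B ≤ G) (hA1 : A ≠ ⊥) (hB1 : B ≠ ⊥)
    (hAmax : ∀ A' : Subgroup X, A' ≤ G → A' ≠ ⊥ → (fun A : Subgroup X => ((Nat.card A : ℝ) ^ α) * (Nat.card ↥(H ⊓ Subgroup.centralizer (A : Set X)) : ℝ)) A' ≤ (fun A : Subgroup X => ((Nat.card A : ℝ) ^ α) * (Nat.card ↥(H ⊓ Subgroup.centralizer (A : Set X)) : ℝ)) A)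
    (hBmax : ∀ A' : Subgroup X, A' ≤ G → A' ≠ ⊥ → (fun A : Subgroup X => ((Nat.card A : ℝ) ^ α) * (Nat.card ↥(H ⊓ Subgroup.centralizer (A : Set X)) : ℝ)) A' ≤ (fun A : Subgroup X => ((Nat.card A : ℝ) ^ α) * (Nat.card ↥(H ⊓ Subgroup.centralizer (A : Set X)) : ℝ)) B)
    (hcase : A ⊓ B ≠ ⊥ ∨ (Nat.card H : ℝ) ≤ (fun A : Subgroup X => ((Nat.card A : ℝ) ^ α) * (Nat.card ↥(H ⊓ Subgroup.centralizer (A : Set X)) : ℝ)) A) :
    (∀ a ∈ A, ∀ b ∈ B, ∃ b' ∈ B, ∃ a' ∈ A, a * b = b' * a') ∧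
    (∀ A' : Subgroup X, A' ≤ G → A' ≠ ⊥ → (fun A : Subgroup X => ((Nat.card A : ℝ) ^ α) * (Nat.card ↥(H ⊓ Subgroup.centralizer (A : Set X)) : ℝ)) A' ≤ (fun A : Subgroup X => ((Nat.card A : ℝ) ^ α) * (Nat.card ↥(H ⊓ Subgroup.centralizer (A : Set X)) : ℝ)) (A ⊔ B)) ∧
    (∀ h ∈ H ⊓ Subgroup.centralizer ((A ⊓ B : Subgroup X) : Set X), ∃ u ∈ H ⊓ Subgroup.centralizer (A : Set X), ∃ v ∈ H ⊓ Subgroup.centralizer (B : Set X), h = u * v) ∧
    (A ⊓ B ≠ ⊥ → ∀ A' : Subgroup X, A' ≤ G → A' ≠ ⊥ → (fun A : Subgroup X => ((Nat.card A : ℝ) ^ α) * (Nat.card ↥(H ⊓ Subgroup.centralizer (A : Set X)) : ℝ)) A' ≤ (fun A : Subgroup X => ((Nat.card A : ℝ) ^ α) * (Nat.card ↥(H ⊓ Subgroup.centralizer (A : Set X)) : ℝ)) (A ⊓ B)) := by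
  beta_reduce at hAmax hBmax hcase ⊢
  set CA := H ⊓ Subgroup.centralizer (A : Set X) with hCA
  set CB := H ⊓ Subgroup.centralizer (B : Set X) with hCB
  set CJ := H ⊓ Subgroup.centralizer ((A ⊔ B : Subgroup X) : Set X) with hCJ
  set CI := H ⊓ Subgroup.centralizer ((A ⊓ B : Subgroup X) : Set X) with hCI
  set m : ℝ := ((Nat.card A : ℝ) ^ α) * (Nat.card CA : ℝ) with hm
  have hmB : ((Nat.card B : ℝ) ^ α) * (Nat.card CB : ℝ) = m :=
    le_antisymm (hAmax B hB hB1) (hBmax A hA hA1)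
  have hJ1 : A ⊔ B ≠ ⊥ := fun h => hA1 (le_bot_iff.mp (h ▸ le_sup_left))
  have hJm : ((Nat.card ↥(A ⊔ B) : ℝ) ^ α) * (Nat.card CJ : ℝ) ≤ m := hAmax (A ⊔ B) (sup_le hA hB) hJ1
  have hIm : ((Nat.card ↥(A ⊓ B) : ℝ) ^ α) * (Nat.card CI : ℝ) ≤ m := by
    by_cases hI : A ⊓ B = ⊥
    · have h2 := hcase.resolve_left (not_not.mpr hI)
      have hc1 : Nat.card ↥(A ⊓ B) = 1 := by rw [hI]; exact Subgroup.card_bot
      have hc2 : CI = H := by
        rw [hCI, hI]
        apply inf_eq_left.mpr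
        intro x _
        rw [Subgroup.mem_centralizer_iff]
        intro y hy
        have : y = 1 := by simpa using hy
        rw [this, one_mul, mul_one]
      rw [hc1, hc2]
      simpa using h2
    · exact hAmax (A ⊓ B) (le_trans inf_le_left hA) hI
  -- set products
  have hS1 := card_mul_set_mul_card_inf A B
  have hS2 := card_mul_set_le_card_sup A B
  have hT1 := card_mul_set_mul_card_inf CA CB
  have hCAB : CA ⊓ CB = CJ := by
    rw [hCA, hCB, hCJ, centralizer_sup_h18]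
    ext x
    simp only [Subgroup.mem_inf]
    tauto
  rw [hCAB] at hT1
  have hTsub : (CA : Set X) * (CB : Set X) ⊆ (CI : Set X) := by
    rintro _ ⟨u, hu, v, hv, rfl⟩
    apply CI.mul_mem
    · refine ⟨hu.1, ?_⟩
      exact Subgroup.centralizer_le (by exact_mod_cast (inf_le_left : A ⊓ B ≤ A)) hu.2
    · refine ⟨hv.1, ?_⟩
      exact Subgroup.centralizer_le (by exact_mod_cast (inf_le_right : A ⊓ B ≤ B)) hv.2
  have hT2 : Nat.card ((CA : Set X) * (CB : Set X) : Set X) ≤ Nat.card CI :=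
    Nat.card_mono (Set.toFinite _) hTsub
  set nS := Nat.card ((A : Set X) * (B : Set X) : Set X) with hnS
  set nT := Nat.card ((CA : Set X) * (CB : Set X) : Set X) with hnT
  have posA : 0 < Nat.card A := Nat.card_pos
  have posB : 0 < Nat.card B := Nat.card_pos
  have posI : 0 < Nat.card ↥(A ⊓ B) := Nat.card_pos
  have posJ : 0 < Nat.card ↥(A ⊔ B) := Nat.card_pos
  have posCA : 0 < Nat.card CA := Nat.card_pos
  have posCB : 0 < Nat.card CB := Nat.card_pos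
  have posCI : 0 < Nat.card CI := Nat.card_pos
  have posCJ : 0 < Nat.card CJ := Nat.card_pos
  have posS : 0 < nS := by
    rcases Nat.eq_zero_or_pos nS with h | h
    · rw [h, zero_mul] at hS1
      have := Nat.mul_pos posA posB
      omega
    · exact h
  have posT : 0 < nT := by
    rcases Nat.eq_zero_or_pos nT with h | h
    · rw [h, zero_mul] at hT1
      have := Nat.mul_pos posCA posCB
      omega
    · exact h
  have key := arith (pS := (nS : ℝ) ^ α) (pI := (Nat.card ↥(A ⊓ B) : ℝ) ^ α) (pA := (Nat.card A : ℝ) ^ α)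
    (pB := (Nat.card B : ℝ) ^ α) (pJ := (Nat.card ↥(A ⊔ B) : ℝ) ^ α) (t := (nT : ℝ)) (cJ := (Nat.card CJ : ℝ))
    (cA := (Nat.card CA : ℝ)) (cB := (Nat.card CB : ℝ)) (cI := (Nat.card CI : ℝ)) (m := m)
    (Real.rpow_pos_of_pos (by exact_mod_cast posS) α) (Real.rpow_pos_of_pos (by exact_mod_cast posI) α)
    (Real.rpow_pos_of_pos (by exact_mod_cast posJ) α) (by exact_mod_cast posT) (by exact_mod_cast posCJ)
    (by exact_mod_cast posCI)
    (by rw [hm]; exact mul_pos (Real.rpow_pos_of_pos (by exact_mod_cast posA) α) (by exact_mod_cast posCA))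
    (by rw [← Real.mul_rpow (by positivity) (by positivity), ← Real.mul_rpow (by positivity) (by positivity)]
        congr 1
        exact_mod_cast hS1)
    (by exact_mod_cast hT1)
    (Real.rpow_le_rpow (by positivity) (by exact_mod_cast hS2) hα.le)
    (by exact_mod_cast hT2) rfl hmB hJm hIm
  obtain ⟨k1, k2, k3, k4⟩ := key
  have hSJ : Nat.card ↥(A ⊔ B) ≤ nS := by
    by_contra hlt
    push_neg at hlt
    have : (nS : ℝ) ^ α < (Nat.card ↥(A ⊔ B) : ℝ) ^ α :=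
      Real.rpow_lt_rpow (by positivity) (by exact_mod_cast hlt) hα
    linarith
  have hTI : Nat.card CI ≤ nT := by
    have : (Nat.card CI : ℝ) = (nT : ℝ) := k2.symm
    have : Nat.card CI = nT := by exact_mod_cast this
    omega
  have hsetJ := coe_sup_eq_mul_of_card_le A B hSJ
  have hsetI : (CI : Set X) = (CA : Set X) * (CB : Set X) := by
    symm
    apply Set.eq_of_subset_of_ncard_le hTsub _ (Set.toFinite _)
    rw [← Nat.card_coe_set_eq, ← Nat.card_coe_set_eq]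
    exact hTI
  refine ⟨?_, ?_, ?_, ?_⟩
  · intro a ha b hb
    have h1 : (a * b)⁻¹ ∈ ((A ⊔ B : Subgroup X) : Set X) :=
      (A ⊔ B).inv_mem (Subgroup.mul_mem_sup ha hb)
    rw [hsetJ] at h1
    obtain ⟨a', ha', b', hb', hab⟩ := h1
    refine ⟨b'⁻¹, B.inv_mem hb', a'⁻¹, A.inv_mem ha', ?_⟩
    have hab' : a' * b' = (a * b)⁻¹ := hab
    have : a * b = (a' * b')⁻¹ := by rw [hab', inv_inv]
    rw [this, mul_inv_rev]
  · intro A' hA' hA'1
    rw [k3]
    exact hAmax A' hA' hA'1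
  · intro h hh
    have : h ∈ (CI : Set X) := hh
    rw [hsetI] at this
    obtain ⟨u, hu, v, hv, rfl⟩ := this
    exact ⟨u, hu, v, hv, rfl⟩
  · intro _ A' hA' hA'1
    rw [k4]
    exact hAmax A' hA' hA'1

end Cfsg.Agent.S3804
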