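import Cfsg.Statements.S3805
import Cfsg.Agent.Lib.Helper29.S3805Struct
import Cfsg.Agent.Lib.Helper29.S3805Char

set_option autoImplicit false
open Cfsg

namespace Cfsg.Agent.S3805

/-- Let G be a finite group whose Sylow 3-subgroup T is elementary abelian of order 9 and self-centralizing, with N_G(T)/T a Klein four-group, and suppose that the centralizer of every nonidentity element of T lies in N_G(T). Then T is normal in G. -/
theorem result {G : Type*} [Group G] [Finite G]
    (T : Sylow 3 G) (hT : Cfsg.IsElementaryAbelian 3 (T : Subgroup G)) (hcard : Nat.card T = 9)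
    (hC : Subgroup.centralizer ((T : Subgroup G) : Set G) = T)
    [hn : ((T : Subgroup G).subgroupOf (Subgroup.normalizer ((T : Subgroup G) : Set G))).Normal]
    (hK : IsKleinFour (↥(Subgroup.normalizer ((T : Subgroup G) : Set G)) ⧸
      (T : Subgroup G).subgroupOf (Subgroup.normalizer ((T : Subgroup G) : Set G))))
    (hloc : ∀ t ∈ (T : Subgroup G), t ≠ 1 →
      Subgroup.centralizer ({t} : Set G) ≤ Subgroup.normalizer ((T : Subgroup G) : Set G)) :
    Subgroup.normalizer ((T : Subgroup G) : Set G) = ⊤ := by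
  obtain ⟨hmc, hexp⟩ := hT
  have hcomm : ∀ u ∈ (T : Subgroup G), ∀ v ∈ (T : Subgroup G), u * v = v * u := by
    intro u hu v hv
    have := hmc.is_comm.comm ⟨u, hu⟩ ⟨v, hv⟩
    exact congrArg Subtype.val this
  obtain ⟨x₁, x₂, r₁, r₂, hcfg⟩ :=
    Cfsg.Agent.Lib.Helper29.S3805Struct.exists_cfg_of_hyp (T : Subgroup G) hcomm hexp hcard hC hK
      hloc
  have hbound := Cfsg.Agent.Lib.Helper29.S3805Char.char_bound hcfg
  have hmod := Cfsg.Agent.Lib.Helper29.S3805Syl.card_sylow_mod9 hcfg
  rw [Sylow.card_eq_index_normalizer T] at hmod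
  have hidx := Subgroup.card_mul_index (Subgroup.normalizer ((T : Subgroup G) : Set G))
  rw [hcfg.cardN] at hidx
  rw [← Subgroup.index_eq_one]
  rw [← hidx] at hbound
  have hmod' : (Subgroup.normalizer ((T : Subgroup G) : Set G)).index % 9 = 1 % 9 := hmod
  omega

end Cfsg.Agent.S3805
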