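import Cfsg.Statements.S3806
import Cfsg.Agent.Lib.Helper18.GBT.Main

set_option autoImplicit false
open Cfsg

namespace Cfsg.Agent.S3806

theorem result {S : Type*} [Group S] [Finite S] (p : ℕ) [Fact p.Prime] (hS : IsPGroup p S) [Group.IsNilpotent S]
    (n : ℕ) (hn : 2 ≤ n) (hcard : Nat.card S = p ^ n) (hmax : Group.nilpotencyClass S = n - 1)
    (k : ℕ) (hk : 1 ≤ k) (hsr : Cfsg.SectionalPRankLE p k S ∧ ¬ Cfsg.SectionalPRankLE p (k - 1) S)
    (hpk : k + 2 ≤ p) : Nat.card S ≤ p ^ (2 * k) := by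
  exact Cfsg.Agent.Lib.Helper18.GBT.s3806_main p n hcard hmax k hk hsr.1 hpk

end Cfsg.Agent.S3806
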