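import Cfsg.Statements.S3807
import Mathlib
import Cfsg.Agent.Lib.Helper18.AbelianIndexP

set_option autoImplicit false
open Cfsg

namespace Cfsg.Agent.S3807

open Subgroup Cfsg.Agent.Lib.Helper18 Cfsg.Agent.Lib.Helper18.AIP

theorem result {S : Type*} [Group S] [Finite S] (p : ℕ) [Fact p.Prime] (hS : IsPGroup p S) (hna : ¬ IsMulCommutative S)
    (A : Subgroup S) (hA : IsMulCommutative ↥A) (hAi : A.index = p) :
    (Subgroup.center S).index = p * Nat.card (commutator S) ∧
      ((Nat.card (commutator S) = p ∧ Cfsg.IsElementaryAbelian p (⊤ : Subgroup (S ⧸ Subgroup.center S)) ∧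
          Nat.card (S ⧸ Subgroup.center S) = p ^ 2 ∧
          Nat.card {B : Subgroup S // IsMulCommutative ↥B ∧ B.index = p} = p + 1) ∨
        (p ^ 2 ≤ Nat.card (commutator S) ∧ ∀ B : Subgroup S, IsMulCommutative ↥B → B.index = p → B = A)) := by
  have hp := (Fact.out : p.Prime)
  have hA' : ∀ a ∈ A, ∀ b ∈ A, a * b = b * a := by
    intro a ha b hb
    exact congrArg Subtype.val (hA.is_comm.comm ⟨a, ha⟩ ⟨b, hb⟩)
  have hcard := card_eq hS hna A hA' hAi
  have hZpos : 0 < Nat.card (center S) := Nat.card_pos
  have hidx : (Subgroup.center S).index = p * Nat.card (commutator S) := by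
    have h1 := (center S).card_mul_index
    have h2 := A.card_mul_index
    rw [hAi, hcard] at h2
    rw [← h2] at h1
    have h3 : Nat.card (center S) * (center S).index =
        Nat.card (center S) * (p * Nat.card (commutator S)) := by rw [h1]; ring
    exact Nat.eq_of_mul_eq_mul_left hZpos h3
  refine ⟨hidx, ?_⟩
  obtain ⟨k, hk⟩ := (hS.to_subgroup (commutator S)).exists_card_eq
  have hk0 : k ≠ 0 := by
    rintro rfl
    rw [pow_zero] at hk
    apply hna
    rw [← commutator_eq_bot_iff]
    exact Subgroup.card_eq_one.mp hk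
  have hcen : ∀ B : Subgroup S, IsMulCommutative ↥B → B.index = p → center S ≤ B := by
    intro B hB hBi
    apply center_le hna B _ hBi
    intro a ha b hb
    exact congrArg Subtype.val (hB.is_comm.comm ⟨a, ha⟩ ⟨b, hb⟩)
  by_cases hk1 : k = 1
  · left
    rw [hk1, pow_one] at hk
    rw [hk] at hidx
    have hZi : (center S).index = p ^ 2 := by rw [hidx, pow_two]
    have hqc : Nat.card (S ⧸ center S) = p ^ 2 := by rw [← Subgroup.index_eq_card]; exact hZi
    have hqcomm : IsMulCommutative (S ⧸ center S) :=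
      IsPGroup.isMulCommutative_of_card_eq_prime_sq hqc
    refine ⟨hk, ⟨?_, ?_⟩, hqc, count_abelian hZi hcen⟩
    · exact ⟨⟨fun a b => Subtype.ext (hqcomm.is_comm.comm a.1 b.1)⟩⟩
    · intro q _
      by_contra hq
      have ho : orderOf q ∣ p ^ 2 := by rw [← hqc]; exact orderOf_dvd_natCard q
      obtain ⟨j, hj2, hj⟩ := (Nat.dvd_prime_pow hp).mp ho
      have hj_cases : j = 0 ∨ j = 1 ∨ j = 2 := by omega
      rcases hj_cases with rfl | rfl | rfl
      · rw [pow_zero, orderOf_eq_one_iff] at hj
        rw [hj, one_pow] at hq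
        exact hq rfl
      · rw [pow_one] at hj
        apply hq
        rw [← hj]
        exact pow_orderOf_eq_one q
      · have hcyc : IsCyclic (S ⧸ center S) := isCyclic_of_orderOf_eq_card q (by rw [hj, hqc])
        exact hna (isMulCommutative_of_isCyclic_quotient_center_self S)
  · right
    have hk2 : 2 ≤ k := by omega
    refine ⟨?_, ?_⟩
    · rw [hk]
      exact Nat.pow_le_pow_right hp.pos hk2
    · intro B hB hBi
      by_contra hne
      have hB' : ∀ a ∈ B, ∀ b ∈ B, a * b = b * a := by
        intro a ha b hb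
        exact congrArg Subtype.val (hB.is_comm.comm ⟨a, ha⟩ ⟨b, hb⟩)
      have hle := card_commutator_le hS hna A hA' hAi B hB' hBi hne
      rw [hk] at hle
      have h2 : p ^ 2 ≤ p ^ k := Nat.pow_le_pow_right hp.pos hk2
      have h3 : p < p ^ 2 := by
        have := Nat.pow_lt_pow_right hp.one_lt (show 1 < 2 by norm_num)
        rwa [pow_one] at this
      omega

end Cfsg.Agent.S3807
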