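import Cfsg.Statements.S3809
import Mathlib
import Cfsg.Agent.S3808
import Cfsg.Agent.S0095
import Cfsg.Agent.Lib.Helper1.Frat

set_option autoImplicit false
open Cfsg

namespace Cfsg.Agent.S3809

open Subgroup

theorem commutator_le_of_index_p {S : Type*} [Group S] [Finite S] (p : ℕ) [Fact p.Prime]
    (hS : IsPGroup p S) (Q : Subgroup S) (hQi : Q.index = p) : commutator S ≤ Q := by
  have hQn : Q.Normal := Cfsg.Agent.S3808.normal_of_index_p p hS Q hQi
  have hc : Nat.card (S ⧸ Q) = p := by rw [← Subgroup.index_eq_card]; exact hQi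
  have hcyc : IsCyclic (S ⧸ Q) := isCyclic_of_prime_card (p := p) hc
  have hcomm : IsMulCommutative (S ⧸ Q) := IsCyclic.isMulCommutative
  exact (Subgroup.Normal.quotient_commutative_iff_commutator_le).mp hcomm

theorem pow_p_mem {S : Type*} [Group S] [Finite S] (p : ℕ) [Fact p.Prime]
    (hS : IsPGroup p S) (Q : Subgroup S) (hQi : Q.index = p) (x : S) : x ^ p ∈ Q := by
  have hQn : Q.Normal := Cfsg.Agent.S3808.normal_of_index_p p hS Q hQi
  have hc : Nat.card (S ⧸ Q) = p := by rw [← Subgroup.index_eq_card]; exact hQi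
  rw [← QuotientGroup.eq_one_iff, QuotientGroup.mk_pow]
  rw [← hc]
  exact pow_card_eq_one'

theorem result {S : Type*} [Group S] [Finite S] (p : ℕ) [Fact p.Prime] (hS : IsPGroup p S) (Q : Subgroup S) (hQ : Cfsg.IsExtraspecial p ↥Q) (hQi : Q.index = p) :
    (∃ n : ℕ, 1 ≤ n ∧ Nat.card S = p ^ (2 + 2 * n)) ∧ derivedSeries S 3 = ⊥ ∧ ∀ x : S, x ^ (p ^ 3) = 1 := by
  obtain ⟨⟨hQp, hfr, hcomm⟩, hZ⟩ := hQ
  have hp : p.Prime := Fact.out
  refine ⟨?_, ?_, ?_⟩
  · obtain ⟨n, hn1, hn⟩ := Cfsg.Agent.S0095.result (p := p) ⟨⟨hQp, hfr, hcomm⟩, hZ⟩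
    refine ⟨n, hn1, ?_⟩
    rw [← Q.card_mul_index, hn, hQi]
    ring
  · have h1 : derivedSeries S 1 ≤ Q := by
      rw [derivedSeries_succ, derivedSeries_zero, ← commutator_def]
      exact commutator_le_of_index_p p hS Q hQi
    have h2 : derivedSeries S 2 ≤ (Subgroup.center ↥Q).map Q.subtype := by
      rw [derivedSeries_succ, ← hcomm, Subgroup.map_subtype_commutator]
      exact Subgroup.commutator_mono h1 h1
    have h3 : derivedSeries S 3 ≤ ⊥ := by
      rw [derivedSeries_succ]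
      refine le_trans (Subgroup.commutator_mono h2 h2) ?_
      rw [le_bot_iff, Subgroup.commutator_eq_bot_iff_le_centralizer]
      rintro _ ⟨a, ha, rfl⟩
      rw [Subgroup.mem_centralizer_iff]
      rintro _ ⟨b, hb, rfl⟩
      have := (Subgroup.mem_center_iff.mp ha) b
      exact congrArg Subtype.val this
    exact le_bot_iff.mp h3
  · intro x
    have hxp : x ^ p ∈ Q := pow_p_mem p hS Q hQi x
    have hy : (⟨x ^ p, hxp⟩ : Q) ^ p ∈ frattini ↥Q :=
      Cfsg.Agent.Lib.Helper1.pgroup_pow_mem_frattini hQp _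
    rw [hfr] at hy
    have hz : (⟨(⟨x ^ p, hxp⟩ : Q) ^ p, hy⟩ : Subgroup.center ↥Q) ^ p = 1 := by
      have := pow_card_eq_one' (G := Subgroup.center ↥Q)
        (x := (⟨(⟨x ^ p, hxp⟩ : Q) ^ p, hy⟩ : Subgroup.center ↥Q))
      rwa [hZ] at this
    have hz' : ((x ^ p) ^ p) ^ p = 1 := by
      have := congrArg (fun z : Subgroup.center ↥Q => ((z : Q) : S)) hz
      simpa using this
    rw [← hz', ← pow_mul, ← pow_mul]
    congr 1
    ring

end Cfsg.Agent.S3809
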