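import Cfsg.Statements.S3810
import Mathlib
import Cfsg.Agent.S3808
import Cfsg.Agent.S0095
import Cfsg.Agent.Lib.Helper1.Nilp
import Cfsg.Agent.Lib.Helper18.CommHom
import Cfsg.Agent.Lib.helper8.SubgroupCard
import Cfsg.Agent.Lib.Helper20.RankThree

set_option autoImplicit false
open Cfsg

namespace Cfsg.Agent.S3810

open Subgroup Cfsg.Agent.Lib.Helper18 Cfsg.Agent.Lib.helper8

theorem card_of_abelian_index {E : Type*} [Group E] [Finite E] (p : ℕ) [Fact p.Prime]
    (hE : Cfsg.IsExtraspecial p E) (B : Subgroup E) (hB : ∀ a ∈ B, ∀ b ∈ B, a * b = b * a)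
    (hBi : B.index ∣ p) : Nat.card E = p ^ 3 := by
  have hp := (Fact.out : p.Prime)
  obtain ⟨n, hn1, hn⟩ := Cfsg.Agent.S0095.result hE
  obtain ⟨⟨hEp, hfr, hcomm⟩, hZ⟩ := hE
  by_contra hne
  have hn2 : 2 ≤ n := by
    by_contra h
    have h1 : n = 1 := by omega
    rw [h1] at hn
    exact hne (by simpa using hn)
  have hBtop : B ≠ ⊤ := by
    intro h
    have hc : Subgroup.center E = ⊤ := by
      rw [eq_top_iff]
      intro x _
      rw [Subgroup.mem_center_iff]
      intro y
      exact hB y (h ▸ mem_top y) x (h ▸ mem_top x)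
    rw [hc, Subgroup.card_top, hn] at hZ
    have h1 : p ^ (2 * n + 1) = p ^ 1 := by rw [hZ, pow_one]
    have := Nat.pow_right_injective hp.two_le h1
    omega
  have hBi' : B.index = p := by
    rcases (Nat.dvd_prime hp).mp hBi with h | h
    · exact absurd (index_eq_one.mp h) hBtop
    · exact h
  have hBc : Nat.card B = p ^ (2 * n) := by
    have := B.card_mul_index
    rw [hBi', hn, pow_succ] at this
    exact Nat.eq_of_mul_eq_mul_right hp.pos this
  obtain ⟨b', hb'⟩ : ∃ b' : E, b' ∉ B := by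
    by_contra h
    push Not at h
    exact hBtop (eq_top_iff.mpr (fun x _ => h x))
  have hcommZ : ∀ y g : E, g * y * g⁻¹ * y⁻¹ ∈ Subgroup.center E := by
    intro y g
    rw [← hcomm, commutator_def, ← commutatorElement_def]
    exact Subgroup.commutator_mem_commutator (mem_top g) (mem_top y)
  set C := centralizer ({b'} : Set E) with hC
  have hCi : C.index ∣ p := by
    have := index_centralizer_dvd b' (Subgroup.center E) le_rfl (hcommZ b')
    rwa [hZ] at this
  have hCle : C.relIndex B ≤ p := by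
    have h1 : C.relIndex B ≤ C.relIndex ⊤ :=
      relIndex_le_of_le_right le_top (by rw [relIndex_top_right]; exact index_ne_zero_of_finite)
    rw [relIndex_top_right] at h1
    exact h1.trans (Nat.le_of_dvd hp.pos hCi)
  have hmul := h8_card_inf_mul_relIndex C B
  have hbig : p < Nat.card (C ⊓ B : Subgroup E) := by
    by_contra hle
    push Not at hle
    have h1 : Nat.card B ≤ p * p := by
      rw [← hmul]
      exact Nat.mul_le_mul hle hCle
    rw [hBc] at h1
    have h2 : p ^ 4 ≤ p ^ (2 * n) := Nat.pow_le_pow_right hp.pos (by omega)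
    have h3 : p * p < p ^ 4 := by
      have : p * p = p ^ 2 := (pow_two p).symm
      rw [this]
      exact Nat.pow_lt_pow_right hp.one_lt (by norm_num)
    omega
  have hnot : ¬ ((C ⊓ B : Subgroup E) ≤ Subgroup.center E) := by
    intro hle
    have := Nat.le_of_dvd Nat.card_pos (Subgroup.card_dvd_of_le hle)
    rw [hZ] at this
    omega
  obtain ⟨b, hbCB, hbZ⟩ := SetLike.not_le_iff_exists.mp hnot
  have hbC : b ∈ C := hbCB.1
  have hbB : b ∈ B := hbCB.2
  have hle : B ≤ centralizer ({b} : Set E) := by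
    intro a ha
    rw [mem_centralizer_singleton_iff]
    exact hB a ha b hbB
  have hb'mem : b' ∈ centralizer ({b} : Set E) := by
    rw [mem_centralizer_singleton_iff]
    rw [hC, mem_centralizer_singleton_iff] at hbC
    exact hbC.symm
  have htop := eq_top_of_index_prime B _ hp hBi' hle b' hb'mem hb'
  apply hbZ
  rw [Subgroup.mem_center_iff]
  intro g
  have hg : g ∈ centralizer ({b} : Set E) := htop ▸ mem_top g
  rw [mem_centralizer_singleton_iff] at hg
  exact hg

theorem forward {S : Type*} [Group S] [Finite S] (p : ℕ) [Fact p.Prime] (hS : IsPGroup p S)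
    (Q : Subgroup S) (hQ : Cfsg.IsExtraspecial p ↥Q) (hQi : Q.index = p)
    (A : Subgroup S) (hA : IsMulCommutative ↥A) (hAi : A.index = p) : Nat.card S = p ^ 4 := by
  have hAn : A.Normal := Cfsg.Agent.S3808.normal_of_index_p p hS A hAi
  have h3 : Nat.card Q = p ^ 3 := by
    apply card_of_abelian_index p hQ (A.subgroupOf Q)
    · intro a ha b hb
      have := hA.is_comm.comm ⟨(a : S), mem_subgroupOf.mp ha⟩ ⟨(b : S), mem_subgroupOf.mp hb⟩
      have h2 : (a : S) * (b : S) = (b : S) * (a : S) := congrArg Subtype.val this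
      exact Subtype.ext h2
    · have : A.relIndex Q ∣ A.index := relIndex_dvd_index_of_normal A Q
      rwa [hAi] at this
  rw [← Q.card_mul_index, h3, hQi]
  ring

theorem backward {S : Type*} [Group S] [Finite S] (p : ℕ) [Fact p.Prime] (hS : IsPGroup p S)
    (Q : Subgroup S) (hQ : Cfsg.IsExtraspecial p ↥Q) (hQi : Q.index = p)
    (h4 : Nat.card S = p ^ 4) : ∃ A : Subgroup S, IsMulCommutative ↥A ∧ A.index = p := by
  have hp := (Fact.out : p.Prime)
  have hQn : Q.Normal := Cfsg.Agent.S3808.normal_of_index_p p hS Q hQi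
  have hQc : Nat.card Q = p ^ 3 := by
    have := Q.card_mul_index
    rw [hQi, h4, pow_succ] at this
    exact Nat.eq_of_mul_eq_mul_right hp.pos this
  obtain ⟨⟨hQp, hfr, hcomm⟩, hZ⟩ := hQ
  set Z' : Subgroup S := (Subgroup.center ↥Q).map Q.subtype with hZ'
  have hZ'c : Nat.card Z' = p := by
    rw [← hZ]
    exact Nat.card_congr ((Subgroup.center ↥Q).equivMapOfInjective _ Q.subtype_injective).toEquiv.symm
  have hZ'Q : Z' ≤ Q := by
    rintro _ ⟨w, _, rfl⟩
    exact w.2
  -- Z' is normal in S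
  have hZ'n : Z'.Normal := by
    constructor
    rintro _ ⟨w, hw, rfl⟩ g
    have hgw : g * (w : S) * g⁻¹ ∈ Q := hQn.conj_mem _ w.2 g
    refine ⟨⟨g * (w : S) * g⁻¹, hgw⟩, ?_, rfl⟩
    rw [SetLike.mem_coe, Subgroup.mem_center_iff] at hw ⊢
    intro y
    have hy' : g⁻¹ * (y : S) * g ∈ Q := by
      have := hQn.conj_mem _ y.2 g⁻¹
      simpa using this
    have := hw ⟨g⁻¹ * (y : S) * g, hy'⟩
    have h1 : (g⁻¹ * (y : S) * g) * (w : S) = (w : S) * (g⁻¹ * (y : S) * g) :=
      congrArg Subtype.val this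
    apply Subtype.ext
    show (y : S) * (g * (w : S) * g⁻¹) = (g * (w : S) * g⁻¹) * (y : S)
    calc (y : S) * (g * (w : S) * g⁻¹) = g * ((g⁻¹ * (y : S) * g) * (w : S)) * g⁻¹ := by group
      _ = g * ((w : S) * (g⁻¹ * (y : S) * g)) * g⁻¹ := by rw [h1]
      _ = (g * (w : S) * g⁻¹) * (y : S) := by group
  -- Z' is central in S
  have hZ'cen : Z' ≤ center S := by
    have hmod := Cfsg.Agent.Lib.Helper20.card_modEq_card_inf_centralizer p (⊤ : Subgroup S) Z'
      (hS.to_subgroup _) (by rw [normalizer_eq_top])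
    have hd : p ∣ Nat.card ↥(Z' ⊓ centralizer ((⊤ : Subgroup S) : Set S)) := by
      have h0 : Nat.card Z' ≡ 0 [MOD p] := by rw [hZ'c]; exact Nat.modEq_zero_iff_dvd.mpr dvd_rfl
      exact Nat.modEq_zero_iff_dvd.mp (hmod.symm.trans h0)
    have hle : Nat.card ↥(Z' ⊓ centralizer ((⊤ : Subgroup S) : Set S)) ≤ Nat.card Z' :=
      Nat.le_of_dvd Nat.card_pos (Subgroup.card_dvd_of_le inf_le_left)
    have heq : Z' ⊓ centralizer ((⊤ : Subgroup S) : Set S) = Z' := by
      apply eq_of_le_of_card_ge inf_le_left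
      rw [hZ'c]
      exact Nat.le_of_dvd Nat.card_pos hd
    intro z hz
    rw [← heq] at hz
    rw [mem_center_iff]
    intro g
    exact (mem_centralizer_iff.mp hz.2 g (mem_top g))
  -- the quotient
  have hnil : Group.IsNilpotent (S ⧸ Z') := (hS.to_quotient Z').isNilpotent
  set Qbar : Subgroup (S ⧸ Z') := Q.map (QuotientGroup.mk' Z') with hQbar
  have hQbarn : Qbar.Normal := Subgroup.Normal.map hQn _ (QuotientGroup.mk'_surjective Z')
  have hQbar_ne : Qbar ≠ ⊥ := by
    intro h0
    have hle : Q ≤ Z' := by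
      intro x hx
      have : (QuotientGroup.mk' Z') x ∈ Qbar := ⟨x, hx, rfl⟩
      rw [h0, mem_bot] at this
      exact (QuotientGroup.eq_one_iff x).mp this
    have := Nat.le_of_dvd Nat.card_pos (Subgroup.card_dvd_of_le hle)
    rw [hQc, hZ'c] at this
    have h3 : p ^ 1 < p ^ 3 := Nat.pow_lt_pow_right hp.one_lt (by norm_num)
    rw [pow_one] at h3
    omega
  obtain ⟨ybar, hybar1⟩ := (Subgroup.ne_bot_iff_exists_ne_one).mp
    (Cfsg.Agent.Lib.Helper1.normal_inf_center_ne_bot Qbar hQbar_ne)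
  obtain ⟨⟨b0, hb0Q, hb0⟩, hyc⟩ := ybar.2
  have hb0Z : b0 ∉ Z' := by
    intro h
    apply hybar1
    apply Subtype.ext
    rw [← hb0]
    exact (QuotientGroup.eq_one_iff b0).mpr h
  have hcommZ : ∀ g : S, g * b0 * g⁻¹ * b0⁻¹ ∈ Z' := by
    intro g
    rw [← QuotientGroup.eq_one_iff]
    have h1 := (Subgroup.mem_center_iff.mp hyc) ((QuotientGroup.mk' Z') g)
    rw [← hb0] at h1
    have h2 : ((g * b0 * g⁻¹ * b0⁻¹ : S) : S ⧸ Z') =
        (QuotientGroup.mk' Z') g * (QuotientGroup.mk' Z') b0 * ((QuotientGroup.mk' Z') g)⁻¹ *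
          ((QuotientGroup.mk' Z') b0)⁻¹ := by
      simp
    rw [h2, h1]
    group
  set A0 := centralizer ({b0} : Set S) with hA0
  have hA0i : A0.index ∣ p := by
    have := index_centralizer_dvd b0 Z' hZ'cen hcommZ
    rwa [hZ'c] at this
  have hb0cen : b0 ∉ center S := by
    intro h
    apply hb0Z
    refine ⟨⟨b0, hb0Q⟩, ?_, rfl⟩
    rw [SetLike.mem_coe, Subgroup.mem_center_iff]
    intro y
    apply Subtype.ext
    exact (mem_center_iff.mp h) (y : S)
  have hA0top : A0 ≠ ⊤ := by
    intro h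
    apply hb0cen
    rw [mem_center_iff]
    intro g
    have hg : g ∈ A0 := h ▸ mem_top g
    rw [hA0, mem_centralizer_singleton_iff] at hg
    exact hg
  have hA0i' : A0.index = p := by
    rcases (Nat.dvd_prime hp).mp hA0i with h | h
    · exact absurd (index_eq_one.mp h) hA0top
    · exact h
  refine ⟨A0, ?_, hA0i'⟩
  -- A0 is abelian since its centre is large
  have hA0c : Nat.card A0 = p ^ 3 := by
    have := A0.card_mul_index
    rw [hA0i', h4, pow_succ] at this
    exact Nat.eq_of_mul_eq_mul_right hp.pos this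
  have hb0A : b0 ∈ A0 := by rw [hA0, mem_centralizer_singleton_iff]
  have hZ'A : Z' ≤ A0 := by
    intro z hz
    rw [hA0, mem_centralizer_singleton_iff]
    exact ((mem_center_iff.mp (hZ'cen hz)) b0).symm
  -- the subgroup of A0 of elements central in A0 containing Z' and b0
  set Zc := center ↥A0 with hZc
  have hZ'Zc : Z'.subgroupOf A0 ≤ Zc := by
    intro z hz
    rw [hZc, Subgroup.mem_center_iff]
    intro g
    apply Subtype.ext
    exact (mem_center_iff.mp (hZ'cen (mem_subgroupOf.mp hz))) (g : S)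
  have hb0Zc : (⟨b0, hb0A⟩ : A0) ∈ Zc := by
    rw [hZc, Subgroup.mem_center_iff]
    intro g
    apply Subtype.ext
    have hg2 : (g : S) ∈ centralizer ({b0} : Set S) := g.2
    rw [mem_centralizer_singleton_iff] at hg2
    exact hg2
  have hZcbig : p < Nat.card Zc := by
    have h1 : Nat.card (Z'.subgroupOf A0) = p := by rw [h8_card_subgroupOf hZ'A, hZ'c]
    rcases Nat.lt_or_ge p (Nat.card Zc) with h | h
    · exact h
    · exfalso
      have : Z'.subgroupOf A0 = Zc := eq_of_le_of_card_ge hZ'Zc (by rw [h1]; exact h)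
      rw [← this, mem_subgroupOf] at hb0Zc
      exact hb0Z hb0Zc
  have hZcidx : Zc.index ∣ p := by
    obtain ⟨k, hk⟩ := ((hS.to_subgroup A0).to_subgroup Zc).exists_card_eq
    have hmul := Zc.card_mul_index
    rw [hA0c, hk] at hmul
    have hk2 : 2 ≤ k := by
      by_contra hk2
      have hk1 : k ≤ 1 := by omega
      rw [hk] at hZcbig
      have h5 : p ^ k ≤ p ^ 1 := Nat.pow_le_pow_right hp.pos hk1
      rw [pow_one] at h5
      omega
    have hk3 : k ≤ 3 := by
      have : p ^ k ∣ p ^ 3 := ⟨_, hmul.symm⟩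
      exact (Nat.pow_dvd_pow_iff_le_right hp.one_lt).mp this
    have hk_cases : k = 2 ∨ k = 3 := by omega
    rcases hk_cases with rfl | rfl
    · have : p ^ 2 * Zc.index = p ^ 2 * p := by rw [hmul]; ring
      rw [Nat.eq_of_mul_eq_mul_left (pow_pos hp.pos 2) this]
    · have : p ^ 3 * Zc.index = p ^ 3 * 1 := by rw [hmul]; ring
      rw [Nat.eq_of_mul_eq_mul_left (pow_pos hp.pos 3) this]
      exact one_dvd p
  have hcyc : IsCyclic (↥A0 ⧸ Zc) := by
    have hcard : Nat.card (↥A0 ⧸ Zc) = Zc.index := (Subgroup.index_eq_card Zc).symm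
    rcases (Nat.dvd_prime hp).mp hZcidx with h | h
    · have : Subsingleton (↥A0 ⧸ Zc) := by
        rw [← Finite.card_le_one_iff_subsingleton, hcard, h]
      exact isCyclic_of_subsingleton
    · exact isCyclic_of_prime_card (p := p) (by rw [hcard, h])
  have hcyc' : IsCyclic (↥A0 ⧸ center ↥A0) := hcyc
  exact isMulCommutative_of_isCyclic_quotient_center_self ↥A0

theorem result {S : Type*} [Group S] [Finite S] (p : ℕ) [Fact p.Prime] (hS : IsPGroup p S) (Q : Subgroup S) (hQ : Cfsg.IsExtraspecial p ↥Q) (hQi : Q.index = p) :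
    (∃ A : Subgroup S, IsMulCommutative ↥A ∧ A.index = p) ↔ Nat.card S = p ^ 4 := by
  constructor
  · rintro ⟨A, hA, hAi⟩
    exact forward p hS Q hQ hQi A hA hAi
  · intro h4
    exact backward p hS Q hQ hQi h4

end Cfsg.Agent.S3810
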