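import Cfsg.Statements.S3815

set_option autoImplicit false
open Cfsg

namespace Cfsg.Agent.S3815

theorem result {G : Type*} [Group G] [Finite G] {p : ℕ} [Fact p.Prime]
    (d : G) (hd : (orderOf d).Coprime p)
    (h : ∀ g : G, (orderOf g).Coprime p → (orderOf (d * g)).Coprime p) :
    d ∈ Cfsg.pPrimeCore p G := by
  let M : Submonoid G :=
    { carrier := {d | (orderOf d).Coprime p ∧ ∀ g : G, (orderOf g).Coprime p → (orderOf (d * g)).Coprime p}
      mul_mem' := by
        rintro a b ⟨ha1, ha2⟩ ⟨hb1, hb2⟩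
        refine ⟨ha2 b hb1, ?_⟩
        intro g hg
        rw [mul_assoc]
        exact ha2 _ (hb2 g hg)
      one_mem' := by
        refine ⟨by simp, ?_⟩
        intro g hg
        simpa using hg }
  let N : Subgroup G :=
    { M with
      inv_mem' := by
        intro a ha
        have : a⁻¹ = a ^ (orderOf a - 1) := by
          rw [eq_comm, ← mul_eq_one_iff_eq_inv, ← pow_succ]
          have hpos := orderOf_pos a
          rw [Nat.sub_add_cancel hpos, pow_orderOf_eq_one]
        rw [this]
        exact pow_mem (M := G) (S := M) ha _ }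
  have hmemN : ∀ x : G, x ∈ N ↔ ((orderOf x).Coprime p ∧ ∀ g : G, (orderOf g).Coprime p → (orderOf (x * g)).Coprime p) := by
    intro x
    rfl
  have hNnormal : N.Normal := by
    constructor
    intro n hn x
    rw [hmemN] at hn ⊢
    obtain ⟨hn1, hn2⟩ := hn
    constructor
    · rw [show x * n * x⁻¹ = MulAut.conj x n from rfl, MulEquiv.orderOf_eq]
      exact hn1
    · intro g hg
      have e : x * n * x⁻¹ * g = MulAut.conj x (n * (MulAut.conj x⁻¹ g)) := by
        simp [MulAut.conj_apply, mul_assoc]
      rw [e, MulEquiv.orderOf_eq]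
      apply hn2
      rw [MulEquiv.orderOf_eq]
      exact hg
  have hNcard : (Nat.card N).Coprime p := by
    rw [Nat.coprime_comm, Nat.Prime.coprime_iff_not_dvd Fact.out]
    intro hdiv
    obtain ⟨x, hx⟩ := exists_prime_orderOf_dvd_card' p hdiv
    have hxN : (x : G) ∈ N := x.2
    rw [hmemN] at hxN
    have h1 := hxN.1
    rw [Subgroup.orderOf_coe, hx] at h1
    exact (Nat.Prime.one_lt Fact.out).ne' ((Nat.coprime_self p).mp h1)
  have hdN : d ∈ N := (hmemN d).mpr ⟨hd, h⟩
  exact (le_sSup (show N ∈ {N : Subgroup G | N.Normal ∧ (Nat.card N).Coprime p} from ⟨hNnormal, hNcard⟩)) hdN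

end Cfsg.Agent.S3815
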