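import Mathlib
import Cfsg.Statements.S3820
import Cfsg.Prelude.Def_HallClasses
import Cfsg.Agent.Lib.Helper18.SylowIn

set_option autoImplicit false
open Cfsg

namespace Cfsg.Agent.S3820

open Cfsg.Agent.Lib.Helper18

theorem result {G : Type*} [Group G] [Finite G] (S H : Subgroup G) (hSH : S ≤ H)
    (hS : Cfsg.IsPronormal S) :
    Cfsg.IsPronormal H ↔
      ∀ g ∈ Subgroup.normalizer (S : Set G), ∃ w ∈ H ⊔ H.map (MulAut.conj g).toMonoidHom,
        H.map (MulAut.conj g).toMonoidHom = H.map (MulAut.conj w).toMonoidHom := by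
  constructor
  · intro h g _
    exact h g
  · intro h g
    obtain ⟨x, hx, hSx⟩ := hS g
    set J : Subgroup G := H ⊔ conjSub g H with hJ
    have hxJ : x ∈ J := by
      have : S ⊔ conjSub g S ≤ J := sup_le (hSH.trans le_sup_left) ((conjSub_mono hSH).trans le_sup_right)
      exact this hx
    have hn : x⁻¹ * g ∈ Subgroup.normalizer (S : Set G) := by
      apply mem_normalizer_of_conjSub_le
      rw [← conjSub_mul]
      have : conjSub g S = conjSub x S := hSx
      rw [this, conjSub_mul, inv_mul_cancel, conjSub_one]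
    obtain ⟨w, hw, hHw⟩ := h (x⁻¹ * g) hn
    refine ⟨x * w, ?_, ?_⟩
    · apply J.mul_mem hxJ
      have hle : H ⊔ conjSub (x⁻¹ * g) H ≤ J := by
        apply sup_le le_sup_left
        rw [← conjSub_mul]
        exact conjSub_le_of_mem le_sup_right (J.inv_mem hxJ)
      exact hle hw
    · show conjSub g H = conjSub (x * w) H
      have e : conjSub (x⁻¹ * g) H = conjSub w H := hHw
      rw [← conjSub_mul x w, ← e, conjSub_mul, mul_inv_cancel_left]

end Cfsg.Agent.S3820
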