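import Mathlib
import Cfsg.Statements.S3821
import Cfsg.Prelude.Def_HallClasses
import Cfsg.Agent.Lib.Helper18.SylowIn

set_option autoImplicit false
open Cfsg

namespace Cfsg.Agent.S3821

open Cfsg.Agent.Lib.Helper18
open scoped Pointwise

lemma map_conjSub {G : Type*} [Group G] (A : Subgroup G) (a : A) (K : Subgroup A) :
    (conjSub a K).map A.subtype = conjSub (a : G) (K.map A.subtype) := by
  unfold conjSub
  rw [Subgroup.map_map, Subgroup.map_map]
  congr 1

lemma transport {G : Type*} [Group G] (A H : Subgroup G) (hHA : H ≤ A) :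
    Cfsg.IsPronormal (H.subgroupOf A) ↔
      ∀ a ∈ A, ∃ x ∈ H ⊔ conjSub a H, conjSub a H = conjSub x H := by
  have hH : (H.subgroupOf A).map A.subtype = H := by
    rw [Subgroup.subgroupOf_map_subtype, inf_eq_left.mpr hHA]
  constructor
  · intro h a ha
    obtain ⟨x', hx', he⟩ := h ⟨a, ha⟩
    refine ⟨(x' : G), ?_, ?_⟩
    · have := Subgroup.mem_map_of_mem A.subtype hx'
      rw [Subgroup.map_sup, hH] at this
      have e2 := map_conjSub A ⟨a, ha⟩ (H.subgroupOf A)
      rw [hH] at e2
      rw [← e2]
      exact this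
    · have e1 := congrArg (Subgroup.map A.subtype) he
      have e2 := map_conjSub A ⟨a, ha⟩ (H.subgroupOf A)
      have e3 := map_conjSub A x' (H.subgroupOf A)
      rw [hH] at e2 e3
      rw [← e2, ← e3]
      exact e1
  · intro h a
    obtain ⟨x, hx, he⟩ := h a a.2
    have hxA : x ∈ A := by
      have : H ⊔ conjSub (a : G) H ≤ A := sup_le hHA (conjSub_le_of_mem hHA a.2)
      exact this hx
    refine ⟨⟨x, hxA⟩, ?_, ?_⟩
    · rw [← Subgroup.mem_map_iff_mem A.subtype_injective, Subgroup.map_sup, hH]
      have e2 := map_conjSub A a (H.subgroupOf A)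
      rw [hH] at e2
      have : Subgroup.map A.subtype (Subgroup.map (MulAut.conj a).toMonoidHom (H.subgroupOf A)) = conjSub (a : G) H := e2
      rw [this]
      exact hx
    · apply Subgroup.map_injective A.subtype_injective
      have e2 := map_conjSub A a (H.subgroupOf A)
      have e3 := map_conjSub A ⟨x, hxA⟩ (H.subgroupOf A)
      rw [hH] at e2 e3
      show Subgroup.map A.subtype (conjSub a (H.subgroupOf A)) = Subgroup.map A.subtype (conjSub ⟨x, hxA⟩ (H.subgroupOf A))
      rw [e2, e3]
      exact he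

theorem result {G : Type*} [Group G] [Finite G] (A H : Subgroup G) [A.Normal] (hHA : H ≤ A) :
    Cfsg.IsPronormal H ↔ (Cfsg.IsPronormal (H.subgroupOf A) ∧ A ⊔ Subgroup.normalizer (H : Set G) = ⊤) := by
  rw [transport A H hHA]
  constructor
  · intro h
    refine ⟨fun a _ => h a, ?_⟩
    rw [eq_top_iff]
    intro g _
    obtain ⟨x, hx, he⟩ := h g
    have hxA : x ∈ A := by
      have hconj : conjSub g H ≤ A := by
        rintro _ ⟨y, hy, rfl⟩
        exact ‹A.Normal›.conj_mem y (hHA hy) g
      exact (sup_le hHA hconj) hx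
    have hn : x⁻¹ * g ∈ Subgroup.normalizer (H : Set G) := by
      apply mem_normalizer_of_conjSub_le
      rw [← conjSub_mul]
      have : conjSub g H = conjSub x H := he
      rw [this, conjSub_mul, inv_mul_cancel, conjSub_one]
    have : g = x * (x⁻¹ * g) := by group
    rw [this]
    exact Subgroup.mul_mem_sup hxA hn
  · rintro ⟨h1, h2⟩ g
    have hg : g ∈ A ⊔ Subgroup.normalizer (H : Set G) := by rw [h2]; trivial
    have hg' : g ∈ (A : Set G) * (Subgroup.normalizer (H : Set G) : Set G) := by
      rw [← Subgroup.normal_mul]; exact hg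
    obtain ⟨a, ha, n, hn, rfl⟩ := Set.mem_mul.mp hg'
    have e : conjSub (a * n) H = conjSub a H := by
      rw [← conjSub_mul, conjSub_eq_of_mem_normalizer hn]
    obtain ⟨x, hx, he⟩ := h1 a ha
    refine ⟨x, ?_, ?_⟩
    · show x ∈ H ⊔ conjSub (a * n) H
      rw [e]; exact hx
    · show conjSub (a * n) H = conjSub x H
      rw [e]; exact he

end Cfsg.Agent.S3821
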