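import Mathlib
import Cfsg.Statements.S3824
import Cfsg.Agent.S0143

set_option autoImplicit false
open Cfsg

namespace Cfsg.Agent.S3824

lemma card_mul_relIndex_of_le' {G : Type*} [Group G] {H K : Subgroup G} (h : H ≤ K) :
    Nat.card H * H.relIndex K = Nat.card K := by
  rw [← Subgroup.relIndex_bot_left, ← Subgroup.relIndex_bot_left (H := K)]
  exact Subgroup.relIndex_mul_relIndex ⊥ H K bot_le h

/-- `|N : A ∩ N|` divides `|G : A|` for `N` normal -/
lemma relIndex_dvd_index_of_normal_right {G : Type*} [Group G] [Finite G] (A N : Subgroup G)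
    [N.Normal] : A.relIndex N ∣ A.index := by
  have h1 : Nat.card (A ⊓ N : Subgroup G) * A.relIndex N = Nat.card N := by
    rw [← Subgroup.inf_relIndex_right A N]
    exact card_mul_relIndex_of_le' inf_le_right
  have h2 : Nat.card (A ⊓ N : Subgroup G) * N.relIndex A = Nat.card A := by
    rw [← Subgroup.inf_relIndex_right N A, inf_comm]
    exact card_mul_relIndex_of_le' inf_le_right
  have h3 : Nat.card A * A.relIndex (A ⊔ N) = Nat.card (A ⊔ N : Subgroup G) :=
    card_mul_relIndex_of_le' le_sup_left
  have h4 : Nat.card N * N.relIndex A = Nat.card (A ⊔ N : Subgroup G) := by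
    rw [← Subgroup.relIndex_sup_right A N]
    exact card_mul_relIndex_of_le' le_sup_right
  have hA : 0 < Nat.card A := Nat.card_pos
  have hI : 0 < Nat.card (A ⊓ N : Subgroup G) := Nat.card_pos
  have h5 : A.relIndex N = A.relIndex (A ⊔ N) := by
    have e1 : Nat.card (A ⊓ N : Subgroup G) * Nat.card A * A.relIndex (A ⊔ N) =
        Nat.card (A ⊓ N : Subgroup G) * Nat.card A * A.relIndex N := by
      calc Nat.card (A ⊓ N : Subgroup G) * Nat.card A * A.relIndex (A ⊔ N)
          = Nat.card (A ⊓ N : Subgroup G) * (Nat.card A * A.relIndex (A ⊔ N)) := by ring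
        _ = Nat.card (A ⊓ N : Subgroup G) * (Nat.card N * N.relIndex A) := by rw [h3, h4]
        _ = Nat.card N * (Nat.card (A ⊓ N : Subgroup G) * N.relIndex A) := by ring
        _ = Nat.card N * Nat.card A := by rw [h2]
        _ = (Nat.card (A ⊓ N : Subgroup G) * A.relIndex N) * Nat.card A := by rw [h1]
        _ = Nat.card (A ⊓ N : Subgroup G) * Nat.card A * A.relIndex N := by ring
    exact (Nat.eq_of_mul_eq_mul_left (Nat.mul_pos hI hA) e1).symm
  rw [h5]
  exact Subgroup.relIndex_dvd_index_of_le le_sup_left

universe u

theorem main : ∀ (n : ℕ) (G : Type u) [Group G] [Finite G], Nat.card G = n →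
    ∀ (A : Subgroup G), IsMulCommutative A → (∃ k : ℕ, A.index = 2 ^ k) → Group.IsSolvable G := by
  intro n
  induction n using Nat.strong_induction_on with
  | _ n ih =>
    intro G _ _ hn A hA ⟨k, hk⟩
    haveI : Fact (Nat.Prime 2) := ⟨Nat.prime_two⟩
    by_cases htriv : Subsingleton G
    · infer_instance
    haveI : Nontrivial G := not_subsingleton_iff_nontrivial.mp htriv
    by_cases hs : IsSimpleGroup G
    · by_cases hAbot : A = ⊥
      · -- G is a 2-group
        have hG : IsPGroup 2 G := by
          apply IsPGroup.of_card (n := k)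
          rw [← hk, hAbot, Subgroup.index_bot]
        haveI := hG.isNilpotent
        infer_instance
      · obtain ⟨a, haA, ha1⟩ := (Subgroup.bot_or_exists_ne_one A).resolve_left hAbot
        have hle : A ≤ Subgroup.centralizer ({a} : Set G) := by
          intro b hb
          rw [Subgroup.mem_centralizer_singleton_iff]
          have := hA.is_comm.comm ⟨a, haA⟩ ⟨b, hb⟩
          exact (congrArg Subtype.val this).symm
        have hdvd : (Subgroup.centralizer ({a} : Set G)).index ∣ 2 ^ k := by
          rw [← hk]; exact Subgroup.index_dvd_of_le hle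
        obtain ⟨j, _, hj⟩ := (Nat.dvd_prime_pow Nat.prime_two).mp hdvd
        have hprime := Cfsg.Agent.S0143.result 2 j Nat.prime_two a ha1 hj
        haveI : Fact (Nat.card G).Prime := ⟨hprime⟩
        haveI : IsCyclic G := isCyclic_of_prime_card rfl
        letI : CommGroup G := IsCyclic.commGroup
        infer_instance
    · -- not simple: a proper nontrivial normal subgroup
      have hex : ∃ N : Subgroup G, N.Normal ∧ N ≠ ⊥ ∧ N ≠ ⊤ := by
        by_contra hno
        push Not at hno
        apply hs
        exact ⟨fun N hN => by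
          by_cases hb : N = ⊥
          · exact Or.inl hb
          · exact Or.inr (hno N hN hb)⟩
      obtain ⟨N, hNn, hNb, hNt⟩ := hex
      haveI := hNn
      have hNlt : Nat.card N < n := by
        by_contra hge
        push Not at hge
        rw [← hn] at hge
        exact hNt (Subgroup.eq_top_of_le_card N hge)
      have hQlt : Nat.card (G ⧸ N) < n := by
        have h1 := Subgroup.card_eq_card_quotient_mul_card_subgroup N
        have h2 : 1 < Nat.card N := by
          rw [Subgroup.one_lt_card_iff_ne_bot]; exact hNb
        have h3 : 0 < Nat.card (G ⧸ N) := Nat.card_pos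
        rw [← hn, h1]
        nlinarith
      haveI : Group.IsSolvable N := by
        apply ih _ hNlt N rfl (A.subgroupOf N) inferInstance
        have hd : A.relIndex N ∣ 2 ^ k := by
          rw [← hk]; exact relIndex_dvd_index_of_normal_right A N
        obtain ⟨j, _, hj⟩ := (Nat.dvd_prime_pow Nat.prime_two).mp hd
        exact ⟨j, hj⟩
      haveI : Group.IsSolvable (G ⧸ N) := by
        apply ih _ hQlt (G ⧸ N) rfl (A.map (QuotientGroup.mk' N)) inferInstance
        have hd : (A.map (QuotientGroup.mk' N)).index ∣ 2 ^ k := by
          rw [← hk]; exact Subgroup.index_map_dvd A (QuotientGroup.mk'_surjective N)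
        obtain ⟨j, _, hj⟩ := (Nat.dvd_prime_pow Nat.prime_two).mp hd
        exact ⟨j, hj⟩
      exact Group.isSolvable_of_ker_le_range N.subtype (QuotientGroup.mk' N)
        (by rw [QuotientGroup.ker_mk', Subgroup.range_subtype])

theorem result {G : Type*} [Group G] [Finite G]
    (A : Subgroup G) (hA : IsMulCommutative A) (hidx : ∃ k : ℕ, A.index = 2 ^ k) : Group.IsSolvable G :=
  main _ G rfl A hA hidx

end Cfsg.Agent.S3824
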