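import Mathlib
import Cfsg.Statements.S3825
import Cfsg.Prelude.Def_Transfer

set_option autoImplicit false
open Cfsg

namespace Cfsg.Agent.S3825
open scoped commutatorElement

theorem result {H : Type*} [Group H] [Finite H] (U : Subgroup H) (w : H) (hw : orderOf w = 2)
    (hwU : w ∈ Subgroup.normalizer (U : Set H)) (y : H) (hy : y ≠ 1) (hyU : y ∈ U)
    (hfix : ∀ u ∈ U, w * u * w⁻¹ = u ↔ (u = 1 ∨ u = y))
    (V : Subgroup H) (hVU : V ≤ U) (hVn : (V.subgroupOf U).Normal) (hVw : ∀ v ∈ V, w * v * w⁻¹ ∈ V)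
    (hVe : Cfsg.IsElementaryAbelian 2 V) (hVc : ¬ IsCyclic ↥V) (hyV : y ∈ V) :
    ¬ 2 ∣ V.relIndex U ∧ Nat.card ↥V = 4 ∧ ⁅U, U⁆ ≤ V := by
  obtain ⟨hVcomm, hVexp⟩ := hVe
  have hw2 : w * w = 1 := by
    have := pow_orderOf_eq_one w
    rwa [hw, pow_two] at this
  have hwinv : w⁻¹ = w := inv_eq_of_mul_eq_one_left hw2
  have hcc : ∀ x : H, w * (w * x * w⁻¹) * w⁻¹ = x := by
    intro x
    rw [hwinv]
    calc w * (w * x * w) * w = (w * w) * x * (w * w) := by group
      _ = x := by rw [hw2]; simp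
  have hcmul : ∀ a b : H, w * (a * b) * w⁻¹ = (w * a * w⁻¹) * (w * b * w⁻¹) := by
    intro a b; group
  have hVsq : ∀ v ∈ V, v * v = 1 := by
    intro v hv
    have := hVexp v hv
    rwa [pow_two] at this
  have hVinv : ∀ v ∈ V, v⁻¹ = v := fun v hv => inv_eq_of_mul_eq_one_left (hVsq v hv)
  have hVcm : ∀ a ∈ V, ∀ b ∈ V, a * b = b * a := by
    intro a ha b hb
    have := hVcomm.is_comm.comm ⟨a, ha⟩ ⟨b, hb⟩
    exact congrArg (fun z : V => (z : H)) this
  -- fixed points in V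
  have hfixV : ∀ v ∈ V, w * v * w⁻¹ = v → v = 1 ∨ v = y := fun v hv h => (hfix v (hVU hv)).mp h
  have hy_fix : w * y * w⁻¹ = y := (hfix y hyU).mpr (Or.inr rfl)
  -- the hom f
  let f : V →* V := MonoidHom.mk' (fun v => ⟨v.1 * (w * v.1 * w⁻¹), V.mul_mem v.2 (hVw v.1 v.2)⟩) (by
    intro a b
    apply Subtype.ext
    show (a.1 * b.1) * (w * (a.1 * b.1) * w⁻¹) = (a.1 * (w * a.1 * w⁻¹)) * (b.1 * (w * b.1 * w⁻¹))
    rw [hcmul]
    have h1 := hVcm b.1 b.2 (w * a.1 * w⁻¹) (hVw a.1 a.2)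
    calc a.1 * b.1 * (w * a.1 * w⁻¹ * (w * b.1 * w⁻¹))
        = a.1 * (b.1 * (w * a.1 * w⁻¹)) * (w * b.1 * w⁻¹) := by group
      _ = a.1 * ((w * a.1 * w⁻¹) * b.1) * (w * b.1 * w⁻¹) := by rw [h1]
      _ = _ := by group)
  have hf : ∀ v : V, (f v : H) = v.1 * (w * v.1 * w⁻¹) := fun v => rfl
  let Y : Subgroup V := Subgroup.zpowers ⟨y, hyV⟩
  have hYmem : ∀ v : V, (v.1 = 1 ∨ v.1 = y) → v ∈ Y := by
    rintro ⟨v, hv⟩ (h | h)
    · have : (⟨v, hv⟩ : V) = 1 := Subtype.ext h
      rw [this]; exact one_mem _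
    · have : (⟨v, hv⟩ : V) = ⟨y, hyV⟩ := Subtype.ext h
      rw [this]; exact Subgroup.mem_zpowers _
  have hYcard : Nat.card Y = 2 := by
    rw [Nat.card_zpowers]
    apply orderOf_eq_prime
    · apply Subtype.ext
      simp only [Subgroup.coe_pow, Subgroup.coe_one]
      exact hVexp y hyV
    · intro h
      exact hy (congrArg Subtype.val h)
  have hker : f.ker ≤ Y := by
    intro v hv
    apply hYmem
    apply hfixV v.1 v.2
    rw [MonoidHom.mem_ker] at hv
    have : v.1 * (w * v.1 * w⁻¹) = 1 := by rw [← hf, hv]; rfl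
    have h2 : w * v.1 * w⁻¹ = v.1⁻¹ := (inv_eq_of_mul_eq_one_right this).symm
    rw [h2, hVinv v.1 v.2]
  have hrange : f.range ≤ Y := by
    rintro _ ⟨v, rfl⟩
    apply hYmem
    apply hfixV _ (f v).2
    rw [hf, hcmul, hcc]
    exact (hVcm _ v.2 _ (hVw v.1 v.2)).symm
  have hcard : Nat.card V = Nat.card f.ker * Nat.card f.range := by
    rw [← Subgroup.index_ker, Subgroup.card_mul_index]
  have hk2 : Nat.card f.ker ∣ 2 := hYcard ▸ Subgroup.card_dvd_of_le hker
  have hr2 : Nat.card f.range ∣ 2 := hYcard ▸ Subgroup.card_dvd_of_le hrange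
  have hV4 : Nat.card V = 4 ∧ f.range = Y := by
    rcases (Nat.dvd_prime Nat.prime_two).mp hk2 with hk | hk <;>
    rcases (Nat.dvd_prime Nat.prime_two).mp hr2 with hr | hr
    · exfalso
      apply hVc
      have : Nat.card V = 1 := by rw [hcard, hk, hr]
      have := (Nat.card_eq_one_iff_unique.mp this).1
      exact isCyclic_of_subsingleton
    · exfalso
      apply hVc
      have hc2 : Nat.card V = 2 := by rw [hcard, hk, hr]
      haveI : Fact (Nat.Prime 2) := ⟨Nat.prime_two⟩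
      exact isCyclic_of_prime_card hc2
    · exfalso
      apply hVc
      have hc2 : Nat.card V = 2 := by rw [hcard, hk, hr]
      haveI : Fact (Nat.Prime 2) := ⟨Nat.prime_two⟩
      exact isCyclic_of_prime_card hc2
    · refine ⟨by rw [hcard, hk, hr], ?_⟩
      exact Subgroup.eq_of_le_of_card_ge hrange (by rw [hr, hYcard])
  obtain ⟨hV4, hrangeY⟩ := hV4
  -- surjectivity onto {1,y}
  have hsurj : ∀ v ∈ V, w * v * w⁻¹ = v → ∃ v' ∈ V, v' * (w * v' * w⁻¹) = v := by
    intro v hv hvfix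
    have : (⟨v, hv⟩ : V) ∈ f.range := by
      rw [hrangeY]
      exact hYmem _ (hfixV v hv hvfix)
    obtain ⟨v', hv'⟩ := this
    exact ⟨v'.1, v'.2, by rw [← hf, hv']⟩
  -- the quotient
  let N := V.subgroupOf U
  have hUc : ∀ u : U, w * u.1 * w⁻¹ ∈ U := fun u => (Subgroup.mem_normalizer_iff.mp hwU u.1).mp u.2
  let φ : U →* U := MonoidHom.mk' (fun u => ⟨w * u.1 * w⁻¹, hUc u⟩) (by
    intro a b
    apply Subtype.ext
    exact hcmul a.1 b.1)
  have hφ : ∀ u : U, (φ u : H) = w * u.1 * w⁻¹ := fun u => rfl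
  have hNle : N ≤ N.comap φ := by
    intro u hu
    rw [Subgroup.mem_comap, Subgroup.mem_subgroupOf, hφ]
    exact hVw u.1 (Subgroup.mem_subgroupOf.mp hu)
  let σ : (U ⧸ N) →* (U ⧸ N) := QuotientGroup.map N N φ hNle
  have hσ : ∀ u : U, σ (QuotientGroup.mk u) = QuotientGroup.mk (φ u) := fun u => rfl
  have hinv : Function.Involutive σ := by
    intro x
    induction x using QuotientGroup.induction_on with
    | H u =>
      rw [hσ, hσ]
      congr 1
      apply Subtype.ext
      rw [hφ, hφ]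
      exact hcc u.1
  have hfpf : MonoidHom.FixedPointFree σ := by
    intro x
    induction x using QuotientGroup.induction_on with
    | H u =>
      intro hx
      rw [hσ, QuotientGroup.eq] at hx
      rw [QuotientGroup.eq_one_iff]
      have hv : (φ u).1⁻¹ * u.1 ∈ V := Subgroup.mem_subgroupOf.mp hx
      rw [hφ] at hv
      set v := (w * u.1 * w⁻¹)⁻¹ * u.1 with hvdef
      have hcu : u.1 = (w * u.1 * w⁻¹) * v := by rw [hvdef]; group
      have hcv : w * v * w⁻¹ = v := by
        have h1 : w * u.1 * w⁻¹ = u.1 * (w * v * w⁻¹) := by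
          conv_lhs => rw [hcu]
          rw [hcmul, hcc]
        have h4 : (w * v * w⁻¹) * v = 1 := by
          have h5 := hcu
          rw [h1] at h5
          have h6 : u.1 * ((w * v * w⁻¹) * v) = u.1 * 1 := by
            rw [mul_one, ← mul_assoc]; exact h5.symm
          exact mul_left_cancel h6
        have h2 : v * (w * v * w⁻¹) = 1 := by
          rw [hVcm v hv _ (hVw v hv)]; exact h4
        have h3 : w * v * w⁻¹ = v⁻¹ := (inv_eq_of_mul_eq_one_right h2).symm
        rw [h3, hVinv v hv]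
      obtain ⟨v', hv', hv'eq⟩ := hsurj v hv hcv
      have hcu2 : w * u.1 * w⁻¹ = u.1 * v := by
        have : u.1 * v = (w * u.1 * w⁻¹) * (v * v) := by
          conv_lhs => rw [hcu]
          group
        rw [this, hVsq v hv, mul_one]
      have hxU : u.1 * v' ∈ U := U.mul_mem u.2 (hVU hv')
      have hxfix : w * (u.1 * v') * w⁻¹ = u.1 * v' := by
        rw [hcmul, hcu2, ← hv'eq]
        have := hVsq _ (hVw v' hv')
        calc u.1 * (v' * (w * v' * w⁻¹)) * (w * v' * w⁻¹)
            = u.1 * v' * ((w * v' * w⁻¹) * (w * v' * w⁻¹)) := by group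
          _ = u.1 * v' := by rw [this, mul_one]
      have hxV : u.1 * v' ∈ V := by
        rcases (hfix _ hxU).mp hxfix with h | h
        · rw [h]; exact one_mem _
        · rw [h]; exact hyV
      have : u.1 = (u.1 * v') * v'⁻¹ := by group
      rw [Subgroup.mem_subgroupOf, this]
      exact V.mul_mem hxV (V.inv_mem hv')
  refine ⟨?_, hV4, ?_⟩
  · have hodd := hfpf.odd_card_of_involutive hinv
    intro h2
    have : Nat.card (U ⧸ N) = V.relIndex U := rfl
    rw [this] at hodd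
    exact (Nat.not_even_iff_odd.mpr hodd) (even_iff_two_dvd.mpr h2)
  · rw [Subgroup.commutator_le]
    intro a ha b hb
    have hc := hfpf.commute_all_of_involutive hinv (QuotientGroup.mk ⟨a, ha⟩) (QuotientGroup.mk ⟨b, hb⟩)
    have : (QuotientGroup.mk ⁅(⟨a, ha⟩ : U), ⟨b, hb⟩⁆ : U ⧸ N) = 1 := by
      rw [commutatorElement_def]
      simp only [QuotientGroup.mk_mul, QuotientGroup.mk_inv]
      rw [hc.eq]
      group
    rw [QuotientGroup.eq_one_iff] at this
    exact Subgroup.mem_subgroupOf.mp this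

end Cfsg.Agent.S3825
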