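import Mathlib
import Cfsg.Statements.S3836
import Cfsg.Prelude.Def_LocalEven
import Cfsg.Agent.Lib.helper23.PCore

set_option autoImplicit false
open Cfsg

namespace Cfsg.Agent.S3836

theorem result {G : Type*} [Group G] [Finite G] {p : ℕ} [Fact p.Prime] (hst : Cfsg.IsNormalizerPStable p G) (H : Subgroup G) : Cfsg.IsNormalizerPStable p ↥H := by
  intro P hP g hg hquad
  set P' : Subgroup G := P.map H.subtype with hP'
  have hP'p : IsPGroup p P' := hP.map H.subtype
  have hmemP' : ∀ x : H, (x : G) ∈ P' ↔ x ∈ P := by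
    intro x
    rw [hP']
    constructor
    · rintro ⟨y, hy, hxy⟩
      have : y = x := Subtype.ext hxy
      rwa [← this]
    · intro hx
      exact ⟨x, hx, rfl⟩
  have hnorm : ∀ x : H, x ∈ Subgroup.normalizer (P : Set H) → (x : G) ∈ Subgroup.normalizer (P' : Set G) := by
    intro x hx
    rw [Subgroup.mem_normalizer_iff] at hx ⊢
    intro y
    constructor
    · rintro ⟨z, hz, rfl⟩
      have := (hx z).mp hz
      exact ⟨x * z * x⁻¹, this, by simp⟩
    · rintro ⟨z, hz, hzy⟩
      have hy : y = (x⁻¹ * z * x : H) := by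
        have : (H.subtype z) = (x : G) * y * (x : G)⁻¹ := hzy
        simp only [Subgroup.subtype_apply] at this
        simp only [Subgroup.coe_mul, Subgroup.coe_inv, this]
        group
      rw [hy]
      refine ⟨x⁻¹ * z * x, ?_, rfl⟩
      show x⁻¹ * z * x ∈ P
      rw [hx]
      have hz' : z ∈ P := hz
      simpa [mul_assoc] using hz'
  have hcent : ∀ x : H, x ∈ Subgroup.centralizer (P : Set H) ↔ (x : G) ∈ Subgroup.centralizer (P' : Set G) := by
    intro x
    rw [Subgroup.mem_centralizer_iff, Subgroup.mem_centralizer_iff]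
    constructor
    · rintro h _ ⟨z, hz, rfl⟩
      have := h z hz
      have := congrArg (fun t : H => (t : G)) this
      simpa using this
    · intro h z hz
      have := h (z : G) ⟨z, hz, rfl⟩
      exact Subtype.ext (by simpa using this)
  have hg' : (g : G) ∈ Subgroup.normalizer (P' : Set G) := hnorm g hg
  have hquad' : ⁅⁅P', Subgroup.zpowers (g : G)⁆, Subgroup.zpowers (g : G)⁆ = ⊥ := by
    have hz : Subgroup.zpowers (g : G) = (Subgroup.zpowers g).map H.subtype := by
      rw [MonoidHom.map_zpowers]; rfl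
    rw [hz, hP', ← Subgroup.map_commutator, ← Subgroup.map_commutator, hquad, Subgroup.map_bot]
  have key := hst P' hP'p (g : G) hg' hquad'
  let NG := Subgroup.normalizer (P' : Set G)
  let CG := (Subgroup.centralizer (P' : Set G)).subgroupOf NG
  let NH := Subgroup.normalizer (P : Set H)
  let CH := (Subgroup.centralizer (P : Set H)).subgroupOf NH
  let φ0 : NH →* NG :=
    { toFun := fun x => ⟨(x.1 : G), hnorm x.1 x.2⟩
      map_one' := rfl
      map_mul' := fun _ _ => rfl }
  have hle : CH ≤ CG.comap φ0 := by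
    intro x hx
    rw [Subgroup.mem_comap, Subgroup.mem_subgroupOf]
    have : x.1 ∈ Subgroup.centralizer (P : Set H) := Subgroup.mem_subgroupOf.mp hx
    exact (hcent x.1).mp this
  let ψ : NH ⧸ CH →* NG ⧸ CG := QuotientGroup.map CH CG φ0 hle
  have hψinj : Function.Injective ψ := by
    rw [injective_iff_map_eq_one]
    intro x
    induction x using QuotientGroup.induction_on with
    | H x =>
      intro hx
      have : ψ (QuotientGroup.mk x) = QuotientGroup.mk (φ0 x) := rfl
      rw [this, QuotientGroup.eq_one_iff] at hx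
      rw [QuotientGroup.eq_one_iff]
      rw [Subgroup.mem_subgroupOf] at hx ⊢
      exact (hcent x.1).mpr hx
  have hpn := Cfsg.Agent.Lib.helper23.pCore_normal p (NG ⧸ CG)
  have hpp := Cfsg.Agent.Lib.helper23.pCore_isPGroup p (NG ⧸ CG)
  set K := (pCore p (NG ⧸ CG)).comap ψ with hK
  have hKn : K.Normal := Subgroup.Normal.comap hpn ψ
  have hKp : IsPGroup p K := hpp.comap_of_injective ψ hψinj
  have hKle := Cfsg.Agent.Lib.helper23.le_pCore K hKp
  apply hKle
  rw [hK, Subgroup.mem_comap]
  exact key

end Cfsg.Agent.S3836
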