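import Cfsg.Statements.S3838
import Cfsg.Agent.Lib.Helper1.Fusion
import Cfsg.Agent.Lib.Helper1.InternalSZ
import Cfsg.Agent.Lib.Lead.Coprime
import Cfsg.Agent.Lib.Helper10.SylowSubnormal

set_option autoImplicit false
open Cfsg

namespace Cfsg.Agent.S3838

section RelBurnside

open scoped Pointwise

variable {X : Type*} [Group X] [Finite X] {p : ℕ} [Fact p.Prime]

/-- fusion control modulo `Q` when `P/Q` is abelian and `N_X(P)` acts trivially on `P/Q` -/
theorem fusion_mod (P : Sylow p X) (Q : Subgroup X) [hQn : Q.Normal]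
    (hab : ∀ a ∈ (P : Subgroup X), ∀ b ∈ (P : Subgroup X), a * b * a⁻¹ * b⁻¹ ∈ Q)
    (hN : ∀ n ∈ Subgroup.normalizer ((P : Subgroup X) : Set X), ∀ y ∈ (P : Subgroup X),
      n * y * n⁻¹ * y⁻¹ ∈ Q)
    (y u : X) (hy : y ∈ (P : Subgroup X)) (hy' : u * y * u⁻¹ ∈ (P : Subgroup X)) :
    u * y * u⁻¹ * y⁻¹ ∈ Q := by
  obtain ⟨y', hy'def⟩ : ∃ y' : X, y' = u * y * u⁻¹ := ⟨_, rfl⟩
  rw [← hy'def] at hy' ⊢
  -- the centralizer of `y'` modulo `Q`
  let C : Subgroup X :=
    (Subgroup.centralizer ({(QuotientGroup.mk y' : X ⧸ Q)} : Set (X ⧸ Q))).comap (QuotientGroup.mk' Q)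
  have hC : ∀ c : X, c ∈ C ↔ c * y' * c⁻¹ * y'⁻¹ ∈ Q := by
    intro c
    change (QuotientGroup.mk' Q c) ∈ Subgroup.centralizer _ ↔ _
    rw [Subgroup.mem_centralizer_iff]
    constructor
    · intro h
      have h1 := h _ (Set.mem_singleton _)
      rw [← QuotientGroup.eq_one_iff]
      simp only [QuotientGroup.mk'_apply] at h1
      simp only [QuotientGroup.mk_mul, QuotientGroup.mk_inv]
      rw [← h1]
      group
    · intro h z hz
      rw [Set.mem_singleton_iff] at hz
      rw [hz]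
      rw [← QuotientGroup.eq_one_iff] at h
      simp only [QuotientGroup.mk_mul, QuotientGroup.mk_inv] at h
      simp only [QuotientGroup.mk'_apply]
      have h2 : (QuotientGroup.mk c : X ⧸ Q) * QuotientGroup.mk y' =
          (QuotientGroup.mk c * QuotientGroup.mk y' * (QuotientGroup.mk c)⁻¹ * (QuotientGroup.mk y')⁻¹) *
            QuotientGroup.mk y' * QuotientGroup.mk c := by group
      rw [h2, h, one_mul]
  have hPC : (P : Subgroup X) ≤ C := fun c hc => (hC c).mpr (hab c hc y' hy')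
  have hPC' : ((u • P : Sylow p X) : Subgroup X) ≤ C := by
    intro c hc
    rw [hC]
    rw [Sylow.coe_subgroup_smul, Subgroup.mem_smul_pointwise_iff_exists] at hc
    obtain ⟨z, hz, rfl⟩ := hc
    have h1 := hab z hz y hy
    have h2 := hQn.conj_mem _ h1 u
    rw [MulAut.smul_def, MulAut.conj_apply, hy'def]
    have e : u * z * u⁻¹ * (u * y * u⁻¹) * (u * z * u⁻¹)⁻¹ * (u * y * u⁻¹)⁻¹ =
        u * (z * y * z⁻¹ * y⁻¹) * u⁻¹ := by group
    rw [e]
    exact h2
  obtain ⟨c, hcC, hc⟩ := Cfsg.Agent.Lib.Helper1.exists_mem_smul_eq_of_le P (u • P) C hPC hPC'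
  have hn : c * u ∈ Subgroup.normalizer ((P : Subgroup X) : Set X) :=
    Sylow.smul_eq_iff_mem_normalizer.mp (by rw [mul_smul]; exact hc)
  have h3 := hN (c * u) hn y hy
  have h4 := (hC c).mp hcC
  have e2 : y' * y⁻¹ = (c * y' * c⁻¹ * y'⁻¹)⁻¹ * ((c * u) * y * (c * u)⁻¹ * y⁻¹) := by
    rw [hy'def]
    group
  rw [e2]
  exact Q.mul_mem (Q.inv_mem h4) h3

/-- relative Burnside: a normal subgroup `K` with `K ∩ P = Q` and `K P = X` -/
theorem exists_normal_inf_eq (P : Sylow p X) (Q : Subgroup X) [hQn : Q.Normal]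
    (hQP : Q ≤ (P : Subgroup X))
    (hab : ∀ a ∈ (P : Subgroup X), ∀ b ∈ (P : Subgroup X), a * b * a⁻¹ * b⁻¹ ∈ Q)
    (hN : ∀ n ∈ Subgroup.normalizer ((P : Subgroup X) : Set X), ∀ y ∈ (P : Subgroup X),
      n * y * n⁻¹ * y⁻¹ ∈ Q) :
    ∃ K : Subgroup X, K.Normal ∧ K ⊓ (P : Subgroup X) = Q ∧
      ∀ g : X, ∃ k ∈ K, ∃ y ∈ (P : Subgroup X), g = k * y := by
  have hfoc : (P : Subgroup X).focalSubgroup ≤ Q := by
    rw [Subgroup.focalSubgroup_def, Subgroup.closure_le]
    rintro g ⟨hgP, x, hx, u, rfl⟩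
    rw [commutatorElement_def] at hgP ⊢
    have hx' : x⁻¹ ∈ (P : Subgroup X) := Subgroup.inv_mem _ hx
    have h1 : u * x⁻¹ * u⁻¹ ∈ (P : Subgroup X) := by
      have : u * x⁻¹ * u⁻¹ = x⁻¹ * (x * u * x⁻¹ * u⁻¹) := by group
      rw [this]
      exact Subgroup.mul_mem _ hx' hgP
    have h2 := fusion_mod P Q hab hN x⁻¹ u hx' h1
    have h3 := hQn.conj_mem _ h2 x
    have e : x * (u * x⁻¹ * u⁻¹ * x⁻¹⁻¹) * x⁻¹ = x * u * x⁻¹ * u⁻¹ := by group
    rw [e] at h3
    exact h3
  have hker : (P : Subgroup X).transferFocal.ker ⊓ (P : Subgroup X) = (P : Subgroup X).focalSubgroup :=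
    Subgroup.ker_transferFocal_inf_eq_focalSubgroup P
  have hKn : ((P : Subgroup X).transferFocal.ker ⊔ Q).Normal := inferInstance
  refine ⟨(P : Subgroup X).transferFocal.ker ⊔ Q, hKn, ?_, ?_⟩
  · apply le_antisymm
    · rintro g ⟨hgK, hgP⟩
      have hgK : g ∈ (P : Subgroup X).transferFocal.ker ⊔ Q := hgK
      have hgP : g ∈ (P : Subgroup X) := hgP
      rw [Subgroup.mem_sup_of_normal_right] at hgK
      obtain ⟨k, hk, q, hq, rfl⟩ := hgK
      have hkP : k ∈ (P : Subgroup X) := by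
        have : k = k * q * q⁻¹ := by group
        rw [this]
        exact Subgroup.mul_mem _ hgP (Subgroup.inv_mem _ (hQP hq))
      have : k ∈ (P : Subgroup X).focalSubgroup := by
        rw [← hker]; exact ⟨hk, hkP⟩
      exact Q.mul_mem (hfoc this) hq
    · exact le_inf le_sup_right hQP
  · intro g
    obtain ⟨z, hz⟩ := Subgroup.focalSubgroupOf.pow_index_surjective P ((P : Subgroup X).transferFocal g)
    obtain ⟨y, rfl⟩ := QuotientGroup.mk'_surjective _ z
    have h1 : (P : Subgroup X).transferFocal (y : X) = (P : Subgroup X).transferFocal g := by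
      rw [Subgroup.transferFocal_eq_pow]
      exact hz
    refine ⟨g * (y : X)⁻¹, ?_, (y : X), y.2, by group⟩
    apply Subgroup.mem_sup_left
    rw [MonoidHom.mem_ker, map_mul, map_inv, h1, mul_inv_cancel]

/-- the normal `p`-complement from the data in `X = N_G(Q)` -/
theorem npc_of_data (P : Sylow p X) (Q : Subgroup X) [hQn : Q.Normal]
    (hQP : Q ≤ (P : Subgroup X))
    (hab : ∀ a ∈ (P : Subgroup X), ∀ b ∈ (P : Subgroup X), a * b * a⁻¹ * b⁻¹ ∈ Q)
    (hN : ∀ n ∈ Subgroup.normalizer ((P : Subgroup X) : Set X), ∀ y ∈ (P : Subgroup X),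
      n * y * n⁻¹ * y⁻¹ ∈ Q)
    (hΦ : ∀ U : Subgroup X, U ≤ (P : Subgroup X) → (P : Subgroup X) ≤ U ⊔ Q →
      (P : Subgroup X) ≤ U) :
    Cfsg.HasNormalPComplement p X := by
  obtain ⟨K, hKn, hKP, hKPtop⟩ := exists_normal_inf_eq P Q hQP hab hN
  have hQK : Q ≤ K := by rw [← hKP]; exact inf_le_left
  have hidx : ¬ p ∣ Q.relIndex K := by
    have := Cfsg.Agent.Lib.Helper10.not_dvd_relIndex_inf_of_isSubnormal p (P : Subgroup X)
      P.not_dvd_index K hKn.isSubnormal
    rwa [inf_comm, hKP] at this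
  have hp : p.Prime := Fact.out
  have hQp : IsPGroup p Q := P.isPGroup'.to_le hQP
  obtain ⟨a, ha⟩ := IsPGroup.iff_card.mp hQp
  obtain ⟨b, hb⟩ := IsPGroup.iff_card.mp P.isPGroup'
  have hcop : (Nat.card Q).Coprime (Q.relIndex K) := by
    rw [ha]
    exact Nat.Coprime.pow_left _ ((Nat.Prime.coprime_iff_not_dvd hp).mpr hidx)
  have hQtop : Subgroup.normalizer (Q : Set X) = ⊤ := Subgroup.normalizer_eq_top_iff.mpr hQn
  obtain ⟨R, hRK, hQR, hQRK, hRcard⟩ :=
    Cfsg.Agent.Lib.Helper1.exists_complement_of_coprime_relIndex Q K hQK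
      (by rw [hQtop]; exact le_top) hcop
  have hcopRQ : (Nat.card R).Coprime (Nat.card Q) := by
    rw [hRcard]; exact hcop.symm
  have hcopPR : (Nat.card (P : Subgroup X)).Coprime (Nat.card R) := by
    rw [hb, hRcard]
    exact Nat.Coprime.pow_left _ ((Nat.Prime.coprime_iff_not_dvd hp).mpr hidx)
  have hsolv : Group.IsSolvable ↥Q := by
    have : Group.IsNilpotent ↥Q := hQp.isNilpotent
    infer_instance
  -- Frattini argument
  have hfrat : ∀ g : X, ∃ q ∈ Q, q⁻¹ * g ∈ Subgroup.normalizer (R : Set X) := by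
    intro g
    have hB : MulAut.conj g • R ≤ R ⊔ Q := by
      rw [sup_comm, hQRK]
      calc MulAut.conj g • R ≤ MulAut.conj g • K := Subgroup.pointwise_smul_le_pointwise_smul_iff.mpr hRK
        _ = K := Subgroup.Normal.conj_smul_eq_self g K
    have hcard : Nat.card ↥(MulAut.conj g • R) = Nat.card R :=
      Nat.card_congr (Subgroup.equivSMul (MulAut.conj g) R).symm.toEquiv
    obtain ⟨q, hq, hqB⟩ := Cfsg.Agent.Lib.Lead.hall_conj R Q (by rw [hQtop]; exact le_top) hcopRQ
      (Or.inr hsolv) _ hB hcard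
    refine ⟨q, hq, ?_⟩
    rw [← Cfsg.Agent.Lib.Lead.conj_smul_eq_iff, map_mul, mul_smul, ← hqB, ← mul_smul, ← map_mul,
      inv_mul_cancel, map_one, one_smul]
  -- `P` normalizes `R`
  have hPR : (P : Subgroup X) ≤ Subgroup.normalizer (R : Set X) := by
    have h1 := hΦ ((P : Subgroup X) ⊓ Subgroup.normalizer (R : Set X)) inf_le_left (by
      intro x hx
      obtain ⟨q, hq, hqx⟩ := hfrat x
      have : x = (q⁻¹ * x) * ((q⁻¹ * x)⁻¹ * q * (q⁻¹ * x)) := by group
      rw [this]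
      apply Subgroup.mul_mem_sup
      · exact ⟨Subgroup.mul_mem _ (Subgroup.inv_mem _ (hQP hq)) hx, hqx⟩
      · have := hQn.conj_mem q hq (q⁻¹ * x)⁻¹
        simpa using this)
    exact h1.trans inf_le_right
  have hRtop : Subgroup.normalizer (R : Set X) = ⊤ := by
    rw [eq_top_iff]
    intro g _
    obtain ⟨q, hq, hqg⟩ := hfrat g
    have : g = q * (q⁻¹ * g) := by group
    rw [this]
    exact Subgroup.mul_mem _ (hPR (hQP hq)) hqg
  have hRn : R.Normal := Subgroup.normalizer_eq_top_iff.mp hRtop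
  refine ⟨P, R, hRn, ?_⟩
  apply Cfsg.Agent.Lib.Lead.isComplement'_of_sup_eq_top R (P : Subgroup X) _ hcopPR
  rw [eq_top_iff]
  intro g _
  obtain ⟨k, hk, y, hy, rfl⟩ := hKPtop g
  rw [← hQRK] at hk
  have h1 : Q ⊔ R ≤ (P : Subgroup X) ⊔ R := sup_le (hQP.trans le_sup_left) le_sup_right
  exact Subgroup.mul_mem _ (h1 hk) (Subgroup.mem_sup_left hy)

end RelBurnside


section Extract

open scoped commutatorElement

variable {G : Type*} [Group G] [Finite G] {p : ℕ} [Fact p.Prime]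

/-- if `N_G(P)` has a normal `p`-complement then it acts on `P` by inner automorphisms of `P` -/
theorem normalizer_acts_inner (P : Sylow p G)
    (hN : Cfsg.HasNormalPComplement p ↥(Subgroup.normalizer ((P : Subgroup G) : Set G)))
    (n : G) (hn : n ∈ Subgroup.normalizer ((P : Subgroup G) : Set G)) :
    ∃ y₀ ∈ (P : Subgroup G), ∀ y ∈ (P : Subgroup G), n * y * n⁻¹ = y₀ * y * y₀⁻¹ := by
  obtain ⟨P₀, R₀, hR₀n, hcompl⟩ := hN
  obtain ⟨NP, hNP⟩ : ∃ NP : Subgroup G, NP = Subgroup.normalizer ((P : Subgroup G) : Set G) := ⟨_, rfl⟩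
  subst hNP
  have hPn : ((P : Subgroup G).subgroupOf (Subgroup.normalizer ((P : Subgroup G) : Set G))).Normal :=
    Subgroup.normal_in_normalizer
  have hPp : IsPGroup p ↥((P : Subgroup G).subgroupOf (Subgroup.normalizer ((P : Subgroup G) : Set G))) :=
    P.isPGroup'.comap_subtype
  have hle := hPp.le_sylow_of_normal P₀
  -- `P₀ ≤ P` as well, by maximality
  have hP₀ : (P₀ : Subgroup _) = (P : Subgroup G).subgroupOf (Subgroup.normalizer ((P : Subgroup G) : Set G)) := by
    have h1 : IsPGroup p ↥((P₀ : Subgroup _).map (Subgroup.normalizer ((P : Subgroup G) : Set G)).subtype) :=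
      P₀.isPGroup'.map _
    have h2 : (P : Subgroup G) ≤ (P₀ : Subgroup _).map (Subgroup.normalizer ((P : Subgroup G) : Set G)).subtype := by
      intro x hx
      exact ⟨⟨x, Subgroup.le_normalizer hx⟩, hle (Subgroup.mem_subgroupOf.mpr hx), rfl⟩
    have h3 := P.3 h1 h2
    apply le_antisymm _ hle
    intro x hx
    rw [Subgroup.mem_subgroupOf]
    have : (x : G) ∈ (P₀ : Subgroup _).map (Subgroup.normalizer ((P : Subgroup G) : Set G)).subtype :=
      ⟨x, hx, rfl⟩
    rw [h3] at this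
    exact this
  have hP₀n : (P₀ : Subgroup ↥(Subgroup.normalizer ((P : Subgroup G) : Set G))).Normal := by
    rw [hP₀]; exact hPn
  have hdis : Disjoint R₀ (P₀ : Subgroup ↥(Subgroup.normalizer ((P : Subgroup G) : Set G))) :=
    hcompl.disjoint
  have htop := hcompl.sup_eq_top
  have hmem : (⟨n, hn⟩ : ↥(Subgroup.normalizer ((P : Subgroup G) : Set G))) ∈
      R₀ ⊔ (P₀ : Subgroup ↥(Subgroup.normalizer ((P : Subgroup G) : Set G))) := by
    rw [htop]; exact Subgroup.mem_top _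
  rw [Subgroup.mem_sup_of_normal_left] at hmem
  obtain ⟨r, hr, y₀, hy₀, hry⟩ := hmem
  have hy₀P : (y₀ : G) ∈ (P : Subgroup G) := by
    rw [hP₀] at hy₀; exact Subgroup.mem_subgroupOf.mp hy₀
  refine ⟨(y₀ : G), hy₀P, ?_⟩
  intro y hy
  have hyN : y ∈ Subgroup.normalizer ((P : Subgroup G) : Set G) := Subgroup.le_normalizer hy
  have hy' : (⟨y, hyN⟩ : ↥(Subgroup.normalizer ((P : Subgroup G) : Set G))) ∈
      (P₀ : Subgroup ↥(Subgroup.normalizer ((P : Subgroup G) : Set G))) := by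
    rw [hP₀]; exact Subgroup.mem_subgroupOf.mpr hy
  have hconj : y₀ * ⟨y, hyN⟩ * y₀⁻¹ ∈
      (P₀ : Subgroup ↥(Subgroup.normalizer ((P : Subgroup G) : Set G))) :=
    Subgroup.mul_mem _ (Subgroup.mul_mem _ hy₀ hy') (Subgroup.inv_mem _ hy₀)
  have hc := Subgroup.commute_of_normal_of_disjoint R₀
    (P₀ : Subgroup ↥(Subgroup.normalizer ((P : Subgroup G) : Set G))) hR₀n hP₀n hdis r _ hr hconj
  have hnval : n = (r : G) * (y₀ : G) := by
    have := congrArg Subtype.val hry
    simpa using this.symm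
  have hc' : (r : G) * ((y₀ : G) * y * (y₀ : G)⁻¹) = ((y₀ : G) * y * (y₀ : G)⁻¹) * (r : G) := by
    have := congrArg Subtype.val hc.eq
    simpa using this
  rw [hnval]
  calc (r : G) * (y₀ : G) * y * ((r : G) * (y₀ : G))⁻¹
      = ((r : G) * ((y₀ : G) * y * (y₀ : G)⁻¹)) * (r : G)⁻¹ := by group
    _ = (y₀ : G) * y * (y₀ : G)⁻¹ := by rw [hc']; group

end Extract


open scoped commutatorElement


/-- Let G be a finite group with Sylow p-subgroup P such that N_G(P) has a normal p-complement. Then N_G(Q) has a normal p-complement for every subgroup Q with [P, P] ≤ Q ≤ Φ(P). -/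
theorem result {G : Type*} [Group G] [Finite G] {p : ℕ} [Fact p.Prime] (P : Sylow p G) (hN : Cfsg.HasNormalPComplement p ↥(Subgroup.normalizer ((P : Subgroup G) : Set G))) (Q : Subgroup G) (h1 : (commutator ↥(P : Subgroup G)).map (P : Subgroup G).subtype ≤ Q) (h2 : Q ≤ (frattini ↥(P : Subgroup G)).map (P : Subgroup G).subtype) : Cfsg.HasNormalPComplement p ↥(Subgroup.normalizer (Q : Set G)) := by
  have hQP : Q ≤ (P : Subgroup G) := h2.trans (Subgroup.map_subtype_le _)
  have hcomm : ∀ a ∈ (P : Subgroup G), ∀ b ∈ (P : Subgroup G), a * b * a⁻¹ * b⁻¹ ∈ Q := by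
    intro a ha b hb
    apply h1
    refine ⟨⁅(⟨a, ha⟩ : ↥(P : Subgroup G)), ⟨b, hb⟩⁆, ?_, ?_⟩
    · rw [commutator_def]
      exact Subgroup.commutator_mem_commutator (Subgroup.mem_top _) (Subgroup.mem_top _)
    · simp [commutatorElement_def]
  have hPN : (P : Subgroup G) ≤ Subgroup.normalizer (Q : Set G) := by
    intro x hx
    rw [Subgroup.mem_normalizer_iff]
    intro q
    constructor
    · intro hq
      have := hcomm x hx q (hQP hq)
      have e : x * q * x⁻¹ = (x * q * x⁻¹ * q⁻¹) * q := by group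
      rw [e]; exact Q.mul_mem this hq
    · intro hq
      have hq' := hQP hq
      have := hcomm x⁻¹ (Subgroup.inv_mem _ hx) (x * q * x⁻¹) hq'
      have e : q = (x⁻¹ * (x * q * x⁻¹) * x⁻¹⁻¹ * (x * q * x⁻¹)⁻¹) * (x * q * x⁻¹) := by
        group
      rw [e]; exact Q.mul_mem this hq
  have hNP : ∀ n ∈ Subgroup.normalizer ((P : Subgroup G) : Set G), ∀ y ∈ (P : Subgroup G),
      n * y * n⁻¹ * y⁻¹ ∈ Q := by
    intro n hn y hy
    obtain ⟨y₀, hy₀, h⟩ := normalizer_acts_inner P hN n hn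
    rw [h y hy]
    exact hcomm y₀ hy₀ y hy
  -- the data inside `X = N_G(Q)`
  obtain ⟨N, hNdef⟩ : ∃ N : Subgroup G, N = Subgroup.normalizer (Q : Set G) := ⟨_, rfl⟩
  rw [← hNdef] at hPN ⊢
  have hQN : Q ≤ N := hQP.trans hPN
  have hQn : (Q.subgroupOf N).Normal := by
    rw [hNdef]; exact Subgroup.normal_in_normalizer
  have hcoe : ((P.subtype hPN : Sylow p ↥N) : Subgroup ↥N) = (P : Subgroup G).subgroupOf N :=
    Sylow.coe_subtype P hPN
  apply npc_of_data (P.subtype hPN) (Q.subgroupOf N)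
  · rw [hcoe]
    intro x hx
    exact Subgroup.mem_subgroupOf.mpr (hQP (Subgroup.mem_subgroupOf.mp hx))
  · intro a ha b hb
    rw [hcoe, Subgroup.mem_subgroupOf] at ha hb
    rw [Subgroup.mem_subgroupOf]
    have := hcomm a ha b hb
    simpa using this
  · intro n hn y hy
    rw [hcoe, Subgroup.mem_subgroupOf] at hy
    rw [Subgroup.mem_subgroupOf]
    have hn' : (n : G) ∈ Subgroup.normalizer ((P : Subgroup G) : Set G) := by
      rw [Subgroup.mem_normalizer_iff] at hn ⊢
      intro h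
      constructor
      · intro hh
        have := (hn ⟨h, hPN hh⟩).mp (by rw [hcoe]; exact Subgroup.mem_subgroupOf.mpr hh)
        rw [hcoe, Subgroup.mem_subgroupOf] at this
        simpa using this
      · intro hh
        have hhN : h ∈ N := by
          have h3 : (n : G)⁻¹ * ((n : G) * h * (n : G)⁻¹) * (n : G) ∈ N :=
            N.mul_mem (N.mul_mem (N.inv_mem n.2) (hPN hh)) n.2
          have e : (n : G)⁻¹ * ((n : G) * h * (n : G)⁻¹) * (n : G) = h := by group
          rwa [e] at h3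
        have := (hn ⟨h, hhN⟩).mpr (by
          rw [hcoe, Subgroup.mem_subgroupOf]
          simpa using hh)
        rw [hcoe, Subgroup.mem_subgroupOf] at this
        exact this
    have := hNP (n : G) hn' (y : G) hy
    simpa using this
  · intro U hU hPU
    rw [hcoe] at hU hPU ⊢
    -- transport to `↥P`
    let U' : Subgroup ↥(P : Subgroup G) := (U.map N.subtype).subgroupOf (P : Subgroup G)
    have hU' : U' ⊔ frattini ↥(P : Subgroup G) = ⊤ := by
      rw [eq_top_iff]
      rintro ⟨x, hx⟩ -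
      have hxN : x ∈ N := hPN hx
      have h3 : (⟨x, hxN⟩ : ↥N) ∈ U ⊔ Q.subgroupOf N := hPU (Subgroup.mem_subgroupOf.mpr hx)
      rw [Subgroup.mem_sup_of_normal_right] at h3
      obtain ⟨u, hu, q, hq, huq⟩ := h3
      have huP : (u : G) ∈ (P : Subgroup G) := Subgroup.mem_subgroupOf.mp (hU hu)
      have hqQ : (q : G) ∈ Q := Subgroup.mem_subgroupOf.mp hq
      obtain ⟨f, hf, hfq⟩ := h2 hqQ
      have e : (⟨x, hx⟩ : ↥(P : Subgroup G)) = ⟨(u : G), huP⟩ * f := by
        apply Subtype.ext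
        have := congrArg (fun z : ↥N => (z : G)) huq
        simp only [Subgroup.coe_mul] at this
        change x = (u : G) * (f : G)
        rw [← this]
        congr 1
        exact hfq.symm
      rw [e]
      apply Subgroup.mul_mem_sup _ hf
      rw [Subgroup.mem_subgroupOf]
      exact ⟨u, hu, rfl⟩
    have hU'top := frattini_nongenerating hU'
    intro x hx
    have hxP : (x : G) ∈ (P : Subgroup G) := Subgroup.mem_subgroupOf.mp hx
    have : (⟨(x : G), hxP⟩ : ↥(P : Subgroup G)) ∈ U' := by rw [hU'top]; exact Subgroup.mem_top _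
    rw [Subgroup.mem_subgroupOf] at this
    obtain ⟨u, hu, hux⟩ := this
    have : u = x := Subtype.ext hux
    rwa [this] at hu

end Cfsg.Agent.S3838
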