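import Cfsg.Statements.S3839
import Cfsg.Agent.S0072
import Cfsg.Agent.S2957
import Cfsg.Agent.Lib.Helper13.ConjFamily
import Cfsg.Agent.Lib.Helper11.PConstrInv

set_option autoImplicit false
open Cfsg

namespace Cfsg.Agent.S3839

open Cfsg.Agent.Lib.Helper18 Cfsg.Agent.Lib.Helper21

section
variable {G : Type*} [Group G]

/-- The stability group of the chain `Q ≥ U ≥ 1` inside `MulAut Q`. -/
def stab (Q U : Subgroup G) : Subgroup (MulAut ↥Q) where
  carrier := {α | (∀ x : ↥Q, (x : G) ∈ U → α x = x) ∧ ∀ x : ↥Q, ((x⁻¹ * α x : ↥Q) : G) ∈ U}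
  one_mem' := by
    refine ⟨fun x _ => rfl, fun x => ?_⟩
    simp
  mul_mem' := by
    rintro α β ⟨ha1, ha2⟩ ⟨hb1, hb2⟩
    refine ⟨fun x hx => ?_, fun x => ?_⟩
    · rw [MulAut.mul_apply, hb1 x hx, ha1 x hx]
    · rw [MulAut.mul_apply]
      have h1 : β x = x * (x⁻¹ * β x) := by group
      have h2 : α (x⁻¹ * β x) = x⁻¹ * β x := ha1 _ (hb2 x)
      rw [h1, map_mul, h2]
      have h3 : x⁻¹ * (α x * (x⁻¹ * β x)) = (x⁻¹ * α x) * (x⁻¹ * β x) := by group
      rw [h3]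
      exact U.mul_mem (ha2 x) (hb2 x)
  inv_mem' := by
    rintro α ⟨ha1, ha2⟩
    refine ⟨fun x hx => ?_, fun x => ?_⟩
    · have := ha1 x hx
      calc α⁻¹ x = α⁻¹ (α x) := by rw [this]
        _ = x := by simp
    · set y := α⁻¹ x with hy
      have hxy : α y = x := by simp [hy]
      have h1 := ha2 y
      rw [hxy] at h1
      have h2 : (x⁻¹ * y : ↥Q) = (y⁻¹ * x)⁻¹ := by group
      rw [h2]
      exact U.inv_mem h1

theorem mem_stab {Q U : Subgroup G} {α : MulAut ↥Q} :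
    α ∈ stab Q U ↔ (∀ x : ↥Q, (x : G) ∈ U → α x = x) ∧ ∀ x : ↥Q, ((x⁻¹ * α x : ↥Q) : G) ∈ U := Iff.rfl

theorem stab_pow_apply {Q U : Subgroup G} {α : MulAut ↥Q} (hα : α ∈ stab Q U) (x : ↥Q) (k : ℕ) :
    (α ^ k) x = x * (x⁻¹ * α x) ^ k := by
  induction k with
  | zero => simp
  | succ k ih =>
    rw [pow_succ', MulAut.mul_apply, ih, map_mul, map_pow, hα.1 _ (hα.2 x)]
    rw [pow_succ', ← mul_assoc x, mul_inv_cancel_left]

theorem stab_isPGroup [Finite G] {p : ℕ} [Fact p.Prime] {Q U : Subgroup G} (hU : IsPGroup p U) :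
    IsPGroup p (stab Q U) := by
  obtain ⟨a, ha⟩ := IsPGroup.iff_card.mp hU
  intro ⟨α, hα⟩
  refine ⟨a, ?_⟩
  apply Subtype.ext
  simp only [Subgroup.coe_pow, Subgroup.coe_one]
  ext x
  rw [stab_pow_apply hα, MulAut.one_apply]
  have h1 : ((x⁻¹ * α x : ↥Q) : G) ^ (p ^ a) = 1 := by
    have := pow_card_eq_one' (G := ↥U) (x := ⟨_, hα.2 x⟩)
    rw [ha] at this
    exact congrArg Subtype.val this
  have h2 : (x⁻¹ * α x : ↥Q) ^ (p ^ a) = 1 := by
    apply Subtype.ext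
    simpa using h1
  rw [h2, mul_one]

/-- The image of the normalizer of `Q` in `MulAut Q` normalizes the stability group, provided the
normalizer of `Q` normalizes `U`. -/
theorem conj_mem_stab {Q U : Subgroup G} (n : ↥(Subgroup.normalizer (Q : Set G)))
    (hn : (n : G) ∈ Subgroup.normalizer (U : Set G)) {α : MulAut ↥Q} (hα : α ∈ stab Q U) :
    Q.normalizerMonoidHom n * α * (Q.normalizerMonoidHom n)⁻¹ ∈ stab Q U := by
  have hinv : (Q.normalizerMonoidHom n)⁻¹ = Q.normalizerMonoidHom n⁻¹ := (map_inv _ _).symm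
  have hnU : ∀ u : G, u ∈ U → (n : G) * u * (n : G)⁻¹ ∈ U := fun u hu =>
    (Subgroup.mem_normalizer_iff.mp hn u).mp hu
  have hnU' : ∀ u : G, u ∈ U → (n : G)⁻¹ * u * (n : G) ∈ U := fun u hu => by
    have := (Subgroup.mem_normalizer_iff.mp (Subgroup.inv_mem _ hn) u).mp hu
    simpa using this
  refine ⟨fun x hx => ?_, fun x => ?_⟩
  · rw [MulAut.mul_apply, MulAut.mul_apply, hinv]
    set y := (Q.normalizerMonoidHom n⁻¹) x with hy
    have hyU : (y : G) ∈ U := by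
      have : (y : G) = (n : G)⁻¹ * x * n := by simp [hy]
      rw [this]; exact hnU' _ hx
    rw [hα.1 y hyU]
    apply Subtype.ext
    simp [hy, mul_assoc]
  · rw [MulAut.mul_apply, MulAut.mul_apply, hinv]
    set y := (Q.normalizerMonoidHom n⁻¹) x with hy
    have hyx : (y : G) = (n : G)⁻¹ * x * n := by simp [hy]
    have hu := hα.2 y
    have h1 : ((x⁻¹ * (Q.normalizerMonoidHom n) (α y) : ↥Q) : G)
        = (n : G) * ((y⁻¹ * α y : ↥Q) : G) * (n : G)⁻¹ := by
      simp only [Subgroup.coe_mul, Subgroup.coe_inv, Subgroup.normalizerMonoidHom_apply_apply_coe, hyx]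
      group
    rw [h1]
    exact hnU _ hu

/-- a Sylow `p`-subgroup of `K` through a given `p`-element of `K` -/
theorem exists_isSylowIn_mem [Finite G] {p : ℕ} [Fact p.Prime] {K : Subgroup G} {d : G} (hdK : d ∈ K)
    (hdp : IsPGroup p (Subgroup.zpowers d)) : ∃ P₀ : Subgroup G, IsSylowIn p P₀ K ∧ d ∈ P₀ := by
  have h1 : IsPGroup p ((Subgroup.zpowers d).subgroupOf K) := hdp.comap_subtype
  obtain ⟨T, hT⟩ := h1.exists_le_sylow
  refine ⟨(T : Subgroup ↥K).map K.subtype, isSylowIn_of_sylow T, ?_⟩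
  refine ⟨⟨d, hdK⟩, hT ?_, rfl⟩
  rw [Subgroup.mem_subgroupOf]
  exact Subgroup.mem_zpowers d

theorem key [Finite G] {p : ℕ} [hp : Fact p.Prime] {Q U : Subgroup G} (hQ : IsPGroup p Q) (hUQ : U ≤ Q)
    (hUN : Subgroup.normalizer (Q : Set G) ≤ Subgroup.normalizer (U : Set G))
    (hmax : ∀ R : Subgroup G, IsPGroup p R → Nat.card Q < Nat.card R →
      ∀ t ∈ Subgroup.normalizer (R : Set G), (orderOf t).Coprime p → t ∈ Subgroup.centralizer (R : Set G))
    {d : G} (hdN : d ∈ Subgroup.normalizer (Q : Set G)) (hdQ : d ∉ Q)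
    (hdp : IsPGroup p (Subgroup.zpowers d))
    (hdU : d ∈ Subgroup.centralizer (U : Set G))
    (hdQU : ∀ x ∈ Q, x⁻¹ * (d * x * d⁻¹) ∈ U)
    {g : G} (hg : g ∈ Subgroup.normalizer (Q : Set G)) (hgp : (orderOf g).Coprime p) :
    g ∈ Subgroup.centralizer (Q : Set G) := by
  classical
  set N : Subgroup G := Subgroup.normalizer (Q : Set G) with hN
  set C : Subgroup G := ((stab Q U).comap Q.normalizerMonoidHom).map N.subtype with hC
  have memC : ∀ c : G, c ∈ C ↔ ∃ hc : c ∈ N, Q.normalizerMonoidHom ⟨c, hc⟩ ∈ stab Q U := by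
    intro c
    rw [hC, Subgroup.mem_map]
    constructor
    · rintro ⟨x, hx, rfl⟩
      exact ⟨x.2, hx⟩
    · rintro ⟨hc, h⟩
      exact ⟨⟨c, hc⟩, h, rfl⟩
  have hCN : C ≤ N := fun c hc => ((memC c).mp hc).1
  have hUp : IsPGroup p U := hQ.to_le hUQ
  -- d ∈ C
  have hdC : d ∈ C := by
    rw [memC]
    refine ⟨hdN, fun x hx => ?_, fun x => ?_⟩
    · apply Subtype.ext
      rw [Subgroup.normalizerMonoidHom_apply_apply_coe]
      have := Subgroup.mem_centralizer_iff.mp hdU (x : G) hx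
      change d * (x : G) * d⁻¹ = x
      rw [← this, mul_inv_cancel_right]
    · have := hdQU x x.2
      rw [Subgroup.coe_mul, Subgroup.coe_inv, Subgroup.normalizerMonoidHom_apply_apply_coe]
      exact this
  -- g normalizes C
  have conjC : ∀ (n : G) (hn : n ∈ N) (x : G), x ∈ C → n * x * n⁻¹ ∈ C := by
    intro n hn x hx
    obtain ⟨hxN, hxs⟩ := (memC x).mp hx
    rw [memC]
    refine ⟨N.mul_mem (N.mul_mem hn hxN) (N.inv_mem hn), ?_⟩
    have h1 : (⟨n * x * n⁻¹, N.mul_mem (N.mul_mem hn hxN) (N.inv_mem hn)⟩ : ↥N)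
        = ⟨n, hn⟩ * ⟨x, hxN⟩ * ⟨n, hn⟩⁻¹ := rfl
    rw [h1, map_mul, map_mul, map_inv]
    exact conj_mem_stab ⟨n, hn⟩ (hUN hn) hxs
  have hgC : g ∈ Subgroup.normalizer (C : Set G) := by
    rw [Subgroup.mem_normalizer_iff]
    intro x
    constructor
    · exact conjC g hg x
    · intro h
      have := conjC g⁻¹ (N.inv_mem hg) _ h
      simpa [mul_assoc] using this
  -- Sylow subgroup of C through d
  obtain ⟨P₀, hP₀, hdP₀⟩ := exists_isSylowIn_mem hdC hdp
  obtain ⟨c, hcC, hcg⟩ := hP₀.frattini hgC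
  have hcN : c ∈ N := hCN hcC
  have hnN : c * g ∈ N := N.mul_mem hcN hg
  -- the p-group R = P₀ ⊔ Q
  have hP₀N : P₀ ≤ Subgroup.normalizer (Q : Set G) := hP₀.le.trans hCN
  have hR : IsPGroup p (P₀ ⊔ Q : Subgroup G) := IsPGroup.to_sup_of_normal_right' hP₀.isPGroup hQ hP₀N
  have hlt : Nat.card Q < Nat.card (P₀ ⊔ Q : Subgroup G) := by
    by_contra hcon
    rw [not_lt] at hcon
    have := Subgroup.eq_of_le_of_card_ge (le_sup_right : Q ≤ P₀ ⊔ Q) hcon
    apply hdQ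
    rw [this]
    exact (le_sup_left : P₀ ≤ P₀ ⊔ Q) hdP₀
  have hnR : c * g ∈ Subgroup.normalizer ((P₀ ⊔ Q : Subgroup G) : Set G) := by
    have h1 : Subgroup.zpowers (c * g) ≤ Subgroup.normalizer (P₀ : Set G) := Subgroup.zpowers_le.2 hcg
    have h2 : Subgroup.zpowers (c * g) ≤ Subgroup.normalizer (Q : Set G) := Subgroup.zpowers_le.2 hnN
    exact Cfsg.Agent.Lib.Helper11.le_normalizer_sup' h1 h2 (Subgroup.mem_zpowers _)
  -- the p'-part of n = c * g centralizes Q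
  set n := c * g with hn
  have hn0 : orderOf n ≠ 0 := (orderOf_pos n).ne'
  set k := (orderOf n).factorization p with hk
  have hdvd : p ^ k ∣ orderOf n := Nat.ordProj_dvd _ _
  have hto : orderOf (n ^ (p ^ k)) = orderOf n / p ^ k :=
    orderOf_pow_of_dvd (pow_pos hp.out.pos k).ne' hdvd
  have htc : (orderOf (n ^ (p ^ k))).Coprime p := by
    rw [hto]
    exact (Nat.coprime_ordCompl hp.out hn0).symm
  have htR : n ^ (p ^ k) ∈ Subgroup.centralizer ((P₀ ⊔ Q : Subgroup G) : Set G) :=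
    hmax _ hR hlt _ (Subgroup.pow_mem _ hnR _) htc
  have htQ : n ^ (p ^ k) ∈ Subgroup.centralizer (Q : Set G) :=
    Subgroup.centralizer_le (by exact_mod_cast (le_sup_right : Q ≤ P₀ ⊔ Q)) htR
  -- in MulAut Q
  set a := Q.normalizerMonoidHom ⟨g, hg⟩ with ha
  set b := Q.normalizerMonoidHom ⟨c, hcN⟩ with hb
  set e := Q.normalizerMonoidHom ⟨n, hnN⟩ with he
  have heba : e = b * a := by
    rw [he, hb, ha, ← map_mul]
    rfl
  have hbS : b ∈ stab Q U := ((memC c).mp hcC).2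
  have hepow : e ^ (p ^ k) = 1 := by
    rw [he, ← map_pow]
    have : (⟨n, hnN⟩ : ↥N) ^ (p ^ k) ∈ Q.normalizerMonoidHom.ker := by
      rw [Subgroup.normalizerMonoidHom_ker, Subgroup.mem_subgroupOf]
      simpa using htQ
    exact this
  have hez : IsPGroup p (Subgroup.zpowers e) := by
    rintro ⟨y, hy⟩
    obtain ⟨j, rfl⟩ := Subgroup.mem_zpowers_iff.mp hy
    refine ⟨k, ?_⟩
    apply Subtype.ext
    simp only [Subgroup.coe_pow, Subgroup.coe_one]
    rw [← zpow_natCast, ← zpow_mul, mul_comm, zpow_mul, zpow_natCast, hepow, one_zpow]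
  have heN : Subgroup.zpowers e ≤ Subgroup.normalizer ((stab Q U : Subgroup (MulAut ↥Q)) : Set (MulAut ↥Q)) := by
    rw [Subgroup.zpowers_le, Subgroup.mem_normalizer_iff]
    intro α
    constructor
    · intro hα
      exact conj_mem_stab ⟨n, hnN⟩ (hUN hnN) hα
    · intro hα
      have h1 := conj_mem_stab (⟨n, hnN⟩⁻¹ : ↥N) (hUN (N.inv_mem hnN)) hα
      rw [map_inv] at h1
      have h2 : (Q.normalizerMonoidHom ⟨n, hnN⟩)⁻¹ * (e * α * e⁻¹) * (Q.normalizerMonoidHom ⟨n, hnN⟩)⁻¹⁻¹ = α := by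
        rw [he]; group
      rwa [h2] at h1
  have hT : IsPGroup p (stab Q U ⊔ Subgroup.zpowers e : Subgroup (MulAut ↥Q)) :=
    IsPGroup.to_sup_of_normal_left' (stab_isPGroup hUp) hez heN
  have haT : a ∈ (stab Q U ⊔ Subgroup.zpowers e : Subgroup (MulAut ↥Q)) := by
    have : a = b⁻¹ * e := by rw [heba]; group
    rw [this]
    exact Subgroup.mul_mem _ (Subgroup.mem_sup_left (Subgroup.inv_mem _ hbS))
      (Subgroup.mem_sup_right (Subgroup.mem_zpowers e))
  obtain ⟨j, hj⟩ := hT ⟨a, haT⟩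
  have haj : a ^ (p ^ j) = 1 := by
    have := congrArg Subtype.val hj
    simpa using this
  have hao : orderOf a ∣ orderOf g := by
    have h1 : orderOf a ∣ orderOf (⟨g, hg⟩ : ↥N) := orderOf_map_dvd Q.normalizerMonoidHom _
    rwa [Subgroup.orderOf_mk] at h1
  have hao2 : orderOf a ∣ p ^ j := orderOf_dvd_of_pow_eq_one haj
  have ha1 : orderOf a = 1 :=
    Nat.eq_one_of_dvd_coprimes (Nat.Coprime.pow_right j hgp) hao hao2
  rw [orderOf_eq_one_iff] at ha1
  have : (⟨g, hg⟩ : ↥N) ∈ Q.normalizerMonoidHom.ker := ha1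
  rw [Subgroup.normalizerMonoidHom_ker, Subgroup.mem_subgroupOf] at this
  exact this

theorem normalizer_le_normalizer_centralizer (U : Subgroup G) :
    Subgroup.normalizer (U : Set G) ≤ Subgroup.normalizer ((Subgroup.centralizer (U : Set G) : Subgroup G) : Set G) := by
  have key : ∀ n : G, n ∈ Subgroup.normalizer (U : Set G) → ∀ x : G,
      x ∈ Subgroup.centralizer (U : Set G) → n * x * n⁻¹ ∈ Subgroup.centralizer (U : Set G) := by
    intro n hn x hx
    rw [Subgroup.mem_centralizer_iff]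
    intro u hu
    have hu' : n⁻¹ * u * n ∈ U := by
      have := (Subgroup.mem_normalizer_iff.mp (Subgroup.inv_mem _ hn) u).mp hu
      simpa using this
    have h1 := Subgroup.mem_centralizer_iff.mp hx _ hu'
    calc u * (n * x * n⁻¹) = n * ((n⁻¹ * u * n) * x) * n⁻¹ := by group
      _ = n * (x * (n⁻¹ * u * n)) * n⁻¹ := by rw [h1]
      _ = n * x * n⁻¹ * u := by group
  intro n hn
  rw [Subgroup.mem_normalizer_iff]
  intro x
  constructor
  · exact key n hn x
  · intro h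
    have := key n⁻¹ (Subgroup.inv_mem _ hn) _ h
    simpa [mul_assoc] using this

/-- In a group with a normal `p`-complement, `p'`-elements normalizing a `p`-subgroup centralize it. -/
theorem central_of_npc [Finite G] {p : ℕ} [hp : Fact p.Prime] (H : Subgroup G)
    (hH : Cfsg.HasNormalPComplement p ↥H) {Q : Subgroup G} (hQ : IsPGroup p Q) (hQH : Q ≤ H)
    {g : G} (hgH : g ∈ H) (hg : g ∈ Subgroup.normalizer (Q : Set G)) (hgp : (orderOf g).Coprime p) :
    g ∈ Subgroup.centralizer (Q : Set G) := by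
  obtain ⟨P, M, hMn, hMc⟩ := hH
  haveI := hMn
  have hMcop : (Nat.card M).Coprime p := Cfsg.Agent.Lib.Helper1.card_coprime_of_isComplement'_sylow P hMc
  have hMidx : M.index = Nat.card (P : Subgroup ↥H) := Cfsg.Agent.Lib.Helper1.index_eq_card_of_isComplement' hMc
  obtain ⟨m, hm⟩ := IsPGroup.iff_card.mp P.2
  rw [hm] at hMidx
  have hgM : (⟨g, hgH⟩ : ↥H) ∈ M := by
    rw [mem_iff_coprime_orderOf_of_normal_pcomp M hMcop hMidx, Subgroup.orderOf_mk]
    exact hgp
  rw [Subgroup.mem_centralizer_iff]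
  intro x hx
  have hxH : x ∈ H := hQH hx
  -- the commutator w = x g x⁻¹ g⁻¹
  have hwM : (⟨x, hxH⟩ : ↥H) * ⟨g, hgH⟩ * ⟨x, hxH⟩⁻¹ * ⟨g, hgH⟩⁻¹ ∈ M :=
    M.mul_mem (hMn.conj_mem _ hgM _) (M.inv_mem hgM)
  have hwQ : x * g * x⁻¹ * g⁻¹ ∈ Q := by
    have h1 : g * x⁻¹ * g⁻¹ ∈ Q := (Subgroup.mem_normalizer_iff.mp hg _).mp (Q.inv_mem hx)
    have : x * g * x⁻¹ * g⁻¹ = x * (g * x⁻¹ * g⁻¹) := by group
    rw [this]
    exact Q.mul_mem hx h1
  have ho1 : (orderOf (x * g * x⁻¹ * g⁻¹)).Coprime p := by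
    have h1 : orderOf ((⟨x, hxH⟩ : ↥H) * ⟨g, hgH⟩ * ⟨x, hxH⟩⁻¹ * ⟨g, hgH⟩⁻¹) ∣ Nat.card M :=
      Subgroup.orderOf_dvd_natCard M hwM
    have h2 : orderOf ((⟨x, hxH⟩ : ↥H) * ⟨g, hgH⟩ * ⟨x, hxH⟩⁻¹ * ⟨g, hgH⟩⁻¹)
        = orderOf (x * g * x⁻¹ * g⁻¹) := by
      rw [← Subgroup.orderOf_coe]
      rfl
    rw [h2] at h1
    exact Nat.Coprime.coprime_dvd_left h1 hMcop
  obtain ⟨j, hj⟩ := (IsPGroup.iff_orderOf.mp hQ) ⟨_, hwQ⟩
  rw [Subgroup.orderOf_mk] at hj
  have ho2 : orderOf (x * g * x⁻¹ * g⁻¹) = 1 := by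
    rw [hj] at ho1 ⊢
    rcases Nat.eq_zero_or_pos j with h0 | hpos
    · rw [h0, pow_zero]
    · exfalso
      have : p ∣ Nat.gcd (p ^ j) p := Nat.dvd_gcd (dvd_pow_self p hpos.ne') dvd_rfl
      rw [ho1] at this
      exact hp.out.one_lt.ne' (Nat.dvd_one.mp this)
  rw [orderOf_eq_one_iff] at ho2
  have : x * g = (x * g * x⁻¹ * g⁻¹) * (g * x) := by group
  rw [this, ho2, one_mul]

/-- `Q` is a `p`-subgroup with a `p'`-element of its normalizer outside its centralizer. -/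
def Bad (p : ℕ) (Q : Subgroup G) : Prop :=
  IsPGroup p Q ∧ ∃ g ∈ Subgroup.normalizer (Q : Set G), (orderOf g).Coprime p ∧
    g ∉ Subgroup.centralizer (Q : Set G)

theorem Bad.conj {p : ℕ} {Q : Subgroup G} (hb : Bad p Q) (h : G) : Bad p (conjSub h Q) := by
  obtain ⟨hQ, g, hg, hgp, hgc⟩ := hb
  refine ⟨conjSub_isPGroup hQ, h * g * h⁻¹, Cfsg.Agent.S2957.conj_mem_normalizer_conjSub hg, ?_, ?_⟩
  · have : orderOf (h * g * h⁻¹) = orderOf g := by
      have := MulEquiv.orderOf_eq (MulAut.conj h) g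
      rwa [MulAut.conj_apply] at this
    rw [this]; exact hgp
  · intro hc
    apply hgc
    rw [Subgroup.mem_centralizer_iff] at hc ⊢
    intro x hx
    have h1 := hc (h * x * h⁻¹) (conj_mem_conjSub hx)
    have h2 : h * (x * g) * h⁻¹ = h * (g * x) * h⁻¹ := by
      calc h * (x * g) * h⁻¹ = (h * x * h⁻¹) * (h * g * h⁻¹) := by group
        _ = (h * g * h⁻¹) * (h * x * h⁻¹) := h1
        _ = h * (g * x) * h⁻¹ := by group
    exact mul_left_cancel (mul_right_cancel h2)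

theorem no_bad [Finite G] {p : ℕ} [hp : Fact p.Prime] (S : Sylow p G) (D : Subgroup G)
    (hD : Cfsg.IsStronglyClosed D (S : Subgroup G))
    (h : ∀ U : Subgroup G, U ≤ D → D ⊓ Subgroup.centralizer (U : Set G) ≤ U →
      Cfsg.HasNormalPComplement p ↥(Subgroup.normalizer (U : Set G)))
    {Q : Subgroup G} (hQS : Q ≤ (S : Subgroup G)) (hbad : Bad p Q)
    (hmax : ∀ R : Subgroup G, Bad p R → Nat.card R ≤ Nat.card Q) : False := by
  obtain ⟨hQ, g, hg, hgp, hgc⟩ := hbad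
  have hmax' : ∀ R : Subgroup G, IsPGroup p R → Nat.card Q < Nat.card R →
      ∀ t ∈ Subgroup.normalizer (R : Set G), (orderOf t).Coprime p →
        t ∈ Subgroup.centralizer (R : Set G) := by
    intro R hR hlt t ht htp
    by_contra hc
    exact absurd (hmax R ⟨hR, t, ht, htp, hc⟩) (not_le.2 hlt)
  have hDS : D ≤ (S : Subgroup G) := hD.1
  have hDn : ∀ s ∈ (S : Subgroup G), ∀ x ∈ D, s * x * s⁻¹ ∈ D := fun s hs x hx =>
    hD.2 x hx s (Subgroup.mul_mem _ (Subgroup.mul_mem _ hs (hDS hx)) (Subgroup.inv_mem _ hs))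
  set U : Subgroup G := Q ⊓ D with hU
  have hUQ : U ≤ Q := inf_le_left
  have hUD : U ≤ D := inf_le_right
  -- N(Q) ≤ N(U)
  have hUN : Subgroup.normalizer (Q : Set G) ≤ Subgroup.normalizer (U : Set G) := by
    have key : ∀ n ∈ Subgroup.normalizer (Q : Set G), ∀ x ∈ U, n * x * n⁻¹ ∈ U := by
      intro n hn x hx
      have h1 : n * x * n⁻¹ ∈ Q := (Subgroup.mem_normalizer_iff.mp hn x).mp (hUQ hx)
      exact ⟨h1, hD.2 x (hUD hx) n (hQS h1)⟩
    intro n hn
    rw [Subgroup.mem_normalizer_iff]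
    intro x
    constructor
    · exact key n hn x
    · intro hx
      have := key n⁻¹ (Subgroup.inv_mem _ hn) _ hx
      simpa [mul_assoc] using this
  have hQNU : Q ≤ Subgroup.normalizer (U : Set G) := Subgroup.le_normalizer.trans hUN
  by_cases hc : D ⊓ Subgroup.centralizer (U : Set G) ≤ U
  · -- case 1: N(U) has a normal p-complement
    exact hgc (central_of_npc _ (h U hUD hc) hQ hQNU (hUN hg) hg hgp)
  · -- case 2: find d
    set Z : Subgroup G := D ⊓ Subgroup.centralizer (U : Set G) with hZ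
    obtain ⟨z, hzZ, hzU⟩ := SetLike.not_le_iff_exists.mp hc
    have hQND : Q ≤ Subgroup.normalizer (D : Set G) := by
      intro q hq
      rw [Subgroup.mem_normalizer_iff]
      intro x
      constructor
      · exact hDn q (hQS hq) x
      · intro hx
        have := hDn q⁻¹ (Subgroup.inv_mem _ (hQS hq)) _ hx
        simpa [mul_assoc] using this
    have hQNZ : Q ≤ Subgroup.normalizer (Z : Set G) :=
      Cfsg.Agent.Lib.Helper11.le_normalizer_inf' hQND (hQNU.trans (normalizer_le_normalizer_centralizer U))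
    have hZS : Z ≤ (S : Subgroup G) := inf_le_left.trans hDS
    have hYp : IsPGroup p (Q ⊔ Z : Subgroup G) := S.isPGroup'.to_le (sup_le hQS hZS)
    have hne : Q ≠ Q ⊔ Z := by
      intro heq
      apply hzU
      have hzQ : z ∈ Q := by rw [heq]; exact Subgroup.mem_sup_right hzZ
      exact ⟨hzQ, hzZ.1⟩
    have hlt := Cfsg.Agent.Lib.Helper13.card_lt_card_inf_normalizer hYp (le_sup_left : Q ≤ Q ⊔ Z) hne
    -- an element of N_Y(Q) outside Q
    have hex : ∃ y ∈ (Q ⊔ Z : Subgroup G), y ∈ Subgroup.normalizer (Q : Set G) ∧ y ∉ Q := by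
      by_contra hcon
      push Not at hcon
      have hle : (Q ⊔ Z) ⊓ Subgroup.normalizer (Q : Set G) ≤ Q := fun y hy => hcon y hy.1 hy.2
      exact absurd (Subgroup.card_le_of_le hle) (not_le.2 hlt)
    obtain ⟨y, hyY, hyN, hyQ⟩ := hex
    have hyY' : y ∈ ((Q ⊔ Z : Subgroup G) : Set G) := hyY
    rw [Subgroup.coe_mul_of_left_le_normalizer_right Q Z hQNZ] at hyY'
    obtain ⟨q, hq, d, hdZ, rfl⟩ := hyY'
    have hq' : q ∈ Q := hq
    have hdZ' : d ∈ Z := hdZ
    have hdN : d ∈ Subgroup.normalizer (Q : Set G) := by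
      have : d = q⁻¹ * (q * d) := by group
      rw [this]
      exact Subgroup.mul_mem _ (Subgroup.inv_mem _ (Subgroup.le_normalizer hq')) hyN
    have hdQ : d ∉ Q := fun hd => hyQ (Q.mul_mem hq' hd)
    have hdS : d ∈ (S : Subgroup G) := hZS hdZ'
    have hdp : IsPGroup p (Subgroup.zpowers d) := S.isPGroup'.to_le (Subgroup.zpowers_le.2 hdS)
    have hdQU : ∀ x ∈ Q, x⁻¹ * (d * x * d⁻¹) ∈ U := by
      intro x hx
      refine ⟨Q.mul_mem (Q.inv_mem hx) ((Subgroup.mem_normalizer_iff.mp hdN x).mp hx), ?_⟩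
      have h1 : x⁻¹ * d * x⁻¹⁻¹ ∈ D := hDn x⁻¹ (Subgroup.inv_mem _ (hQS hx)) d hdZ'.1
      have : x⁻¹ * (d * x * d⁻¹) = (x⁻¹ * d * x⁻¹⁻¹) * d⁻¹ := by group
      rw [this]
      exact D.mul_mem h1 (D.inv_mem hdZ'.1)
    exact hgc (key hQ hUQ hUN hmax' hdN hdQ hdp hdZ'.2 hdQU hg hgp)

theorem frobHyp_of_local [Finite G] {p : ℕ} [hp : Fact p.Prime] (S : Sylow p G) (D : Subgroup G)
    (hD : Cfsg.IsStronglyClosed D (S : Subgroup G))
    (h : ∀ U : Subgroup G, U ≤ D → D ⊓ Subgroup.centralizer (U : Set G) ≤ U →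
      Cfsg.HasNormalPComplement p ↥(Subgroup.normalizer (U : Set G))) : FrobHyp p G := by
  by_contra hF
  have hex : ∃ Q : Subgroup G, Bad p Q := by
    unfold FrobHyp at hF
    push Not at hF
    obtain ⟨Q, hQ, g, hg, hgp, hgc⟩ := hF
    exact ⟨Q, hQ, g, hg, hgp, hgc⟩
  obtain ⟨Q₀, hQ₀⟩ := hex
  haveI : Nonempty {Q : Subgroup G // Bad p Q} := ⟨⟨Q₀, hQ₀⟩⟩
  obtain ⟨⟨Q₁, hQ₁⟩, hmax⟩ := Finite.exists_max (fun Q : {Q : Subgroup G // Bad p Q} => Nat.card (Q : Subgroup G))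
  -- conjugate into S
  obtain ⟨S', hS'⟩ := hQ₁.1.exists_le_sylow
  obtain ⟨x, hx⟩ := MulAction.exists_smul_eq G S' S
  have hQS : conjSub x Q₁ ≤ (S : Subgroup G) := by
    intro y hy
    rw [mem_conjSub] at hy
    rw [← hx]
    show y ∈ x • S'
    rw [mem_smul_sylow_iff]
    exact hS' hy
  refine no_bad S D hD h hQS (hQ₁.conj x) (fun R hR => ?_)
  rw [card_conjSub]
  exact hmax ⟨R, hR⟩

end


/-- A Frobenius normal p-complement criterion relative to a strongly closed subgroup. Let G be a finite group, S a Sylow p-subgroup and D a subgroup of S strongly closed in S with respect to G. Then G has a normal p-complement if and only if N_G(U) has a normal p-complement for every subgroup U of D with C_D(U) ≤ U. -/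
theorem result {G : Type*} [Group G] [Finite G] {p : ℕ} [Fact p.Prime] (S : Sylow p G) (D : Subgroup G) (hD : Cfsg.IsStronglyClosed D (S : Subgroup G)) : Cfsg.HasNormalPComplement p G ↔ ∀ U : Subgroup G, U ≤ D → D ⊓ Subgroup.centralizer (U : Set G) ≤ U → Cfsg.HasNormalPComplement p ↥(Subgroup.normalizer (U : Set G)) := by
  constructor
  · intro h U _ _
    exact Cfsg.Agent.S0072.hasNormalPComplement_subgroup h _
  · intro h
    obtain ⟨N, hN, hc⟩ := (frobHyp_of_local S D hD h).exists_normal_complement S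
    exact ⟨S, N, hN, hc⟩

end Cfsg.Agent.S3839
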