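import Mathlib
import Cfsg.Statements.S3858
import Cfsg.Agent.Lib.Helper18.SylowIn

set_option autoImplicit false
open Cfsg

namespace Cfsg.Agent.S3858

open Cfsg.Agent.Lib.Helper18
open scoped Pointwise

lemma isCoatom_conjSub {G : Type*} [Group G] (g : G) (M : Subgroup G) (hM : IsCoatom M) :
    IsCoatom (conjSub g M) := by
  have := (OrderIso.isCoatom_iff (MulEquiv.mapSubgroup (MulAut.conj g)) M).mpr hM
  exact this

lemma exists_le_conj {G : Type*} [Group G] [Finite G] {r : ℕ} [Fact r.Prime] (R : Sylow r G)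
    (M : Subgroup G) (h : ¬ r ∣ M.index) : ∃ g : G, (R : Subgroup G) ≤ conjSub g M := by
  have hR : IsPGroup r (R : Subgroup G) := R.2
  have hfix := hR.nonempty_fixed_point_of_prime_not_dvd_card (G ⧸ M) (by rwa [← Subgroup.index_eq_card])
  obtain ⟨q, hq⟩ := hfix
  obtain ⟨g, rfl⟩ := QuotientGroup.mk_surjective q
  refine ⟨g, ?_⟩
  intro x hx
  rw [mem_conjSub]
  have := hq ⟨x, hx⟩
  have h2 : ((x * g : G) : G ⧸ M) = (g : G ⧸ M) := this
  rw [QuotientGroup.eq] at h2
  have h3 := M.inv_mem h2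
  have e : ((x * g)⁻¹ * g)⁻¹ = g⁻¹ * x * g := by group
  rw [e] at h3
  exact h3

lemma not_normal_inf {G : Type*} [Group G] [Finite G] (T : Subgroup G) [T.Normal] (hT : IsSimpleGroup T) (hna : ¬ IsMulCommutative T)
    {r : ℕ} [Fact r.Prime] (R : Sylow r G) (hR0 : (R : Subgroup G) ⊓ T ≠ ⊥) : ¬ ((R : Subgroup G) ⊓ T).Normal := by
  intro hDn
  set D : Subgroup G := (R : Subgroup G) ⊓ T with hD
  have hDTn : (D.subgroupOf T).Normal := inferInstance
  rcases hDTn.eq_bot_or_eq_top with h1 | h1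
  · rw [Subgroup.subgroupOf_eq_bot] at h1
    apply hR0
    have : D ⊓ T = ⊥ := disjoint_iff.mp h1
    rw [← this, hD, inf_assoc, inf_idem]
  · rw [Subgroup.subgroupOf_eq_top] at h1
    have hTp : IsPGroup r T := R.2.to_le (h1.trans inf_le_left)
    have : Nontrivial T := hT.toNontrivial
    have hcn := hTp.center_nontrivial
    have hcne : Subgroup.center T ≠ ⊥ := by
      intro h0
      rw [h0] at hcn
      exact not_nontrivial _ hcn
    have hct : Subgroup.center T = ⊤ :=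
      ((inferInstance : (Subgroup.center T).Normal).eq_bot_or_eq_top).resolve_left hcne
    exact hna (Subgroup.center_eq_top_iff.mp hct)

lemma conjSub_conjSub_inv {G : Type*} [Group G] (g : G) (M : Subgroup G) : conjSub g⁻¹ (conjSub g M) = M := by
  rw [conjSub_mul, inv_mul_cancel, conjSub_one]

lemma conjSub_inv_conjSub {G : Type*} [Group G] (g : G) (M : Subgroup G) : conjSub g (conjSub g⁻¹ M) = M := by
  rw [conjSub_mul, mul_inv_cancel, conjSub_one]

lemma conjSub_of_mem {G : Type*} [Group G] [Finite G] {g : G} {M : Subgroup G} (hg : g ∈ M) : conjSub g M = M :=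
  conjSub_eq_of_le (conjSub_le_of_mem le_rfl hg)

theorem result {G : Type*} [Group G] [Finite G] (T : Subgroup G) [T.Normal] (hT : IsSimpleGroup T) (hna : ¬ IsMulCommutative T)
    (hC : Subgroup.centralizer (T : Set G) = ⊥) {r : ℕ} [Fact r.Prime] (R : Sylow r G) (hR0 : (R : Subgroup G) ⊓ T ≠ ⊥) :
    (∃! M : Subgroup G, IsCoatom M ∧ (R : Subgroup G) ≤ M) ↔
      ((∃ M : Subgroup G, IsCoatom M ∧ ¬ r ∣ M.index) ∧
        ∀ M₁ M₂ : Subgroup G, IsCoatom M₁ → ¬ r ∣ M₁.index → IsCoatom M₂ → ¬ r ∣ M₂.index → ∃ g : G, M₂ = M₁.map (MulAut.conj g).toMonoidHom) := by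
  have hidx : ∀ M : Subgroup G, (R : Subgroup G) ≤ M → ¬ r ∣ M.index := by
    intro M hRM hdiv
    exact R.not_dvd_index (hdiv.trans (Subgroup.index_dvd_of_le hRM))
  constructor
  · rintro ⟨M, ⟨hMco, hRM⟩, hMuniq⟩
    refine ⟨⟨M, hMco, hidx M hRM⟩, ?_⟩
    intro M₁ M₂ h1 h1' h2 h2'
    obtain ⟨g₁, hg₁⟩ := exists_le_conj R M₁ h1'
    obtain ⟨g₂, hg₂⟩ := exists_le_conj R M₂ h2'
    have e1 : conjSub g₁ M₁ = M := hMuniq _ ⟨isCoatom_conjSub g₁ M₁ h1, hg₁⟩
    have e2 : conjSub g₂ M₂ = M := hMuniq _ ⟨isCoatom_conjSub g₂ M₂ h2, hg₂⟩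
    refine ⟨g₂⁻¹ * g₁, ?_⟩
    show M₂ = conjSub (g₂⁻¹ * g₁) M₁
    rw [← conjSub_mul, e1, ← e2, conjSub_conjSub_inv]
  · rintro ⟨⟨M0, hM0, hM0'⟩, hconj⟩
    obtain ⟨g0, hg0⟩ := exists_le_conj R M0 hM0'
    set M := conjSub g0 M0 with hMdef
    have hMco : IsCoatom M := isCoatom_conjSub g0 M0 hM0
    have hMidx : ¬ r ∣ M.index := hidx M hg0
    have hRsyl : IsSylowIn r (R : Subgroup G) M := isSylowIn_of_sylow_le R hg0
    have claim : ∀ M' : Subgroup G, IsCoatom M' → (R : Subgroup G) ≤ M' →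
        ∃ x : G, M' = conjSub x M ∧ ∃ m ∈ M, m * x⁻¹ ∈ Subgroup.normalizer ((R : Subgroup G) : Set G) := by
      intro M' hM' hRM'
      obtain ⟨x, hx⟩ := hconj M M' hMco hMidx hM' (hidx M' hRM')
      refine ⟨x, hx, ?_⟩
      have h1 : conjSub x⁻¹ (R : Subgroup G) ≤ M := by
        have := conjSub_mono (g := x⁻¹) hRM'
        rw [hx] at this
        have e : conjSub x⁻¹ (M.map (MulAut.conj x).toMonoidHom) = M := conjSub_conjSub_inv x M
        rw [e] at this
        exact this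
      obtain ⟨m, hm, hle⟩ := hRsyl.exists_conj_le h1 (conjSub_isPGroup R.2)
      rw [conjSub_mul] at hle
      exact ⟨m, hm, mem_normalizer_of_conjSub_le hle⟩
    have hNtop : Subgroup.normalizer ((R : Subgroup G) : Set G) ≠ ⊤ := by
      intro h
      have hRn : (R : Subgroup G).Normal := Subgroup.normalizer_eq_top_iff.mp h
      exact not_normal_inf T hT hna R hR0 inferInstance
    have hNM : Subgroup.normalizer ((R : Subgroup G) : Set G) ≤ M := by
      obtain ⟨M'', hM'', hNM''⟩ := (eq_top_or_exists_le_coatom _).resolve_left hNtop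
      have hRM'' : (R : Subgroup G) ≤ M'' := Subgroup.le_normalizer.trans hNM''
      obtain ⟨y, hy, m', hm', hn'⟩ := claim M'' hM'' hRM''
      have h1 : conjSub (m' * y⁻¹) (Subgroup.normalizer ((R : Subgroup G) : Set G)) =
          Subgroup.normalizer ((R : Subgroup G) : Set G) := conjSub_of_mem hn'
      rw [← h1]
      have h2 := conjSub_mono (g := m' * y⁻¹) hNM''
      refine h2.trans ?_
      rw [hy, ← conjSub_mul, conjSub_conjSub_inv, conjSub_of_mem hm']
    refine ⟨M, ⟨hMco, hg0⟩, ?_⟩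
    rintro M' ⟨hM', hRM'⟩
    obtain ⟨x, hx, m, hm, hn⟩ := claim M' hM' hRM'
    have hxM : x ∈ M := by
      have h1 := hNM hn
      have h2 := M.mul_mem (M.inv_mem h1) hm
      have e : (m * x⁻¹)⁻¹ * m = x := by group
      rw [e] at h2
      exact h2
    rw [hx, conjSub_of_mem hxM]

end Cfsg.Agent.S3858
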