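import Mathlib
import Cfsg.Statements.S3859
import Cfsg.Agent.Lib.Helper18.SylowIn

set_option autoImplicit false
open Cfsg

namespace Cfsg.Agent.S3859

open Cfsg.Agent.Lib.Helper18
open scoped Pointwise

lemma sup_eq_top {G : Type*} [Group G] [Finite G] (T : Subgroup G) [T.Normal] (hT : IsSimpleGroup T) (hna : ¬ IsMulCommutative T)
    {r : ℕ} [Fact r.Prime] (R : Sylow r G) (hR0 : (R : Subgroup G) ⊓ T ≠ ⊥)
    (huniq : ∃! M : Subgroup G, IsCoatom M ∧ (R : Subgroup G) ≤ M) : (R : Subgroup G) ⊔ T = ⊤ := by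
  obtain ⟨M, ⟨hMco, hRM⟩, hMuniq⟩ := huniq
  have hle : ∀ H : Subgroup G, H ≠ ⊤ → (R : Subgroup G) ≤ H → H ≤ M := by
    intro H hH hRH
    obtain ⟨M', hM', hHM'⟩ := (eq_top_or_exists_le_coatom H).resolve_left hH
    have := hMuniq M' ⟨hM', hRH.trans hHM'⟩
    rw [← this]; exact hHM'
  set D : Subgroup G := (R : Subgroup G) ⊓ T with hD
  have hTn : (⊤ : Subgroup G) ≤ Subgroup.normalizer (T : Set G) := by
    rw [Subgroup.normalizer_eq_top_iff.mpr inferInstance]
  have hDsyl : IsSylowIn r D T := (isSylowIn_top_of_sylow R).inf_of_normal le_top hTn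
  have hRN : (R : Subgroup G) ≤ Subgroup.normalizer (D : Set G) := by
    intro x hx
    rw [Subgroup.mem_normalizer_iff]
    intro g
    constructor
    · rintro ⟨hgR, hgT⟩
      exact ⟨(R : Subgroup G).mul_mem ((R : Subgroup G).mul_mem hx hgR) ((R : Subgroup G).inv_mem hx),
        ‹T.Normal›.conj_mem g hgT x⟩
    · rintro ⟨hgR, hgT⟩
      constructor
      · have := (R : Subgroup G).mul_mem ((R : Subgroup G).mul_mem ((R : Subgroup G).inv_mem hx) hgR) hx
        have e : x⁻¹ * (x * g * x⁻¹) * x = g := by group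
        rw [e] at this
        exact this
      · have := ‹T.Normal›.conj_mem _ hgT x⁻¹
        simpa [mul_assoc] using this
  have hNtop : Subgroup.normalizer (D : Set G) ≠ ⊤ := by
    intro h
    have hDn : D.Normal := Subgroup.normalizer_eq_top_iff.mp h
    have hDTn : (D.subgroupOf T).Normal := inferInstance
    rcases hDTn.eq_bot_or_eq_top with h1 | h1
    · rw [Subgroup.subgroupOf_eq_bot] at h1
      apply hR0
      have : D ⊓ T = ⊥ := disjoint_iff.mp h1
      rw [← this, hD, inf_assoc, inf_idem]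
    · rw [Subgroup.subgroupOf_eq_top] at h1
      have hTp : IsPGroup r T := R.2.to_le (h1.trans inf_le_left)
      have : Nontrivial T := hT.toNontrivial
      have hcn := hTp.center_nontrivial
      have hcne : Subgroup.center T ≠ ⊥ := by
        intro h0
        rw [h0] at hcn
        exact not_nontrivial _ hcn
      have hct : Subgroup.center T = ⊤ :=
        ((inferInstance : (Subgroup.center T).Normal).eq_bot_or_eq_top).resolve_left hcne
      exact hna (Subgroup.center_eq_top_iff.mp hct)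
  by_contra hsup
  have hTM : T ≤ M := le_sup_right.trans (hle _ hsup le_sup_left)
  have hNM : Subgroup.normalizer (D : Set G) ≤ M := hle _ hNtop hRN
  apply hMco.1
  rw [eq_top_iff]
  intro g _
  obtain ⟨n, hn, hng⟩ := hDsyl.frattini (g := g) (hTn (Subgroup.mem_top g))
  have : g = n⁻¹ * (n * g) := by simp
  rw [this]
  exact M.mul_mem (M.inv_mem (hTM hn)) (hNM hng)

theorem result {G : Type*} [Group G] [Finite G] (T : Subgroup G) [T.Normal] (hT : IsSimpleGroup T) (hna : ¬ IsMulCommutative T)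
    (hC : Subgroup.centralizer (T : Set G) = ⊥) {r : ℕ} [Fact r.Prime] (R : Sylow r G) (hR0 : (R : Subgroup G) ⊓ T ≠ ⊥)
    (huniq : ∃! M : Subgroup G, IsCoatom M ∧ (R : Subgroup G) ≤ M) : IsPGroup r (G ⧸ T) := by
  have hsup := sup_eq_top T hT hna R hR0 huniq
  intro q
  obtain ⟨g, rfl⟩ := QuotientGroup.mk_surjective q
  have hg : g ∈ (R : Subgroup G) ⊔ T := by rw [hsup]; trivial
  have hg' : g ∈ ((R : Subgroup G) : Set G) * (T : Set G) := by
    rw [← Subgroup.mul_normal]; exact hg
  obtain ⟨x, hx, t, ht, rfl⟩ := Set.mem_mul.mp hg'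
  obtain ⟨k, hk⟩ := R.2 ⟨x, hx⟩
  refine ⟨k, ?_⟩
  have hxt : ((x * t : G) : G ⧸ T) = (x : G ⧸ T) := by
    rw [QuotientGroup.mk_mul, (QuotientGroup.eq_one_iff t).mpr ht, mul_one]
  rw [hxt, ← QuotientGroup.mk_pow]
  have : x ^ r ^ k = 1 := by
    have := congrArg Subtype.val hk
    simpa using this
  rw [this]
  rfl

end Cfsg.Agent.S3859
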