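import Mathlib
import Cfsg.Statements.S3861
import Cfsg.Agent.Lib.Helper22.NoInvert
import Cfsg.Agent.Lib.Helper22.Basic

set_option autoImplicit false
open Cfsg

namespace Cfsg.Agent.S3861

lemma conj_pow_odd {G : Type*} [Group G] (g x : G) (h : g * x * g⁻¹ = x⁻¹) (m : ℕ) (hm : Odd m) :
    g ^ m * x * (g ^ m)⁻¹ = x⁻¹ := by
  have h2 : Commute (g ^ 2) x := by
    show g ^ 2 * x = x * g ^ 2
    have h1 : g * x⁻¹ * g⁻¹ = x := by
      calc g * x⁻¹ * g⁻¹ = (g * x * g⁻¹)⁻¹ := by group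
        _ = x := by rw [h, inv_inv]
    have : g ^ 2 * x * (g ^ 2)⁻¹ = x := by
      calc g ^ 2 * x * (g ^ 2)⁻¹ = g * (g * x * g⁻¹) * g⁻¹ := by rw [pow_two]; group
        _ = x := by rw [h, h1]
    calc g ^ 2 * x = g ^ 2 * x * (g ^ 2)⁻¹ * g ^ 2 := by group
      _ = x * g ^ 2 := by rw [this]
  obtain ⟨j, rfl⟩ := hm
  have h3 : Commute ((g ^ 2) ^ j) x := h2.pow_left j
  have h3' : Commute ((g ^ 2) ^ j) x⁻¹ := h3.inv_right
  calc g ^ (2 * j + 1) * x * (g ^ (2 * j + 1))⁻¹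
      = (g ^ 2) ^ j * (g * x * g⁻¹) * ((g ^ 2) ^ j)⁻¹ := by
        rw [pow_succ, pow_mul]; group
    _ = x⁻¹ := by
        rw [h, h3'.eq]; group

theorem result {G : Type*} [Group G] [Finite G] (P : Sylow 2 G) : (∀ x : G, x ≠ 1 → Odd (orderOf x) → ¬ IsConj x x⁻¹) ↔ (P : Subgroup G).Normal := by
  haveI : Fact (Nat.Prime 2) := ⟨Nat.prime_two⟩
  constructor
  · intro h
    apply Cfsg.Agent.Lib.Helper22.sylow2_normal_of_noInvert _ G rfl _ P
    intro t x hodd htx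
    by_contra hx1
    exact h x hx1 hodd (isConj_iff.mpr ⟨t, htx⟩)
  · intro hP x hx1 hodd hconj
    obtain ⟨g, hg⟩ := isConj_iff.mp hconj
    have hog : orderOf g ≠ 0 := (orderOf_pos g).ne'
    obtain ⟨a, m, hm, hgm⟩ := Nat.exists_eq_two_pow_mul_odd hog
    set t := g ^ m with ht
    have htx : t * x * t⁻¹ = x⁻¹ := conj_pow_odd g x hg m hm
    have hto : orderOf t ∣ 2 ^ a := by
      apply orderOf_dvd_of_pow_eq_one
      rw [ht, ← pow_mul, mul_comm, ← hgm, pow_orderOf_eq_one]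
    obtain ⟨b, _, hb⟩ := (Nat.dvd_prime_pow Nat.prime_two).mp hto
    have htP : t ∈ (P : Subgroup G) :=
      Cfsg.Agent.Lib.Helper22.mem_sylow_of_normal 2 P hP t b hb
    have hx2 : x ^ 2 ∈ (P : Subgroup G) := by
      have h1 : x * t * x⁻¹ ∈ (P : Subgroup G) := hP.conj_mem t htP x
      have h2 : x * t * x⁻¹ * t⁻¹ ∈ (P : Subgroup G) := (P : Subgroup G).mul_mem h1 ((P : Subgroup G).inv_mem htP)
      have h3 : x * t * x⁻¹ * t⁻¹ = x ^ 2 := by
        have h4 : t * x⁻¹ * t⁻¹ = x := by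
          calc t * x⁻¹ * t⁻¹ = (t * x * t⁻¹)⁻¹ := by group
            _ = x := by rw [htx, inv_inv]
        calc x * t * x⁻¹ * t⁻¹ = x * (t * x⁻¹ * t⁻¹) := by group
          _ = x ^ 2 := by rw [h4, pow_two]
      rwa [h3] at h2
    -- order of x^2 is a power of two and odd
    obtain ⟨c, hc⟩ := (P.isPGroup' ⟨x ^ 2, hx2⟩)
    have hc' : (x ^ 2) ^ (2 ^ c) = 1 := by
      have := congrArg Subtype.val hc
      simpa using this
    have hdvd : orderOf x ∣ 2 ^ (c + 1) := by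
      apply orderOf_dvd_of_pow_eq_one
      rw [pow_succ', pow_mul]; exact hc'
    have hcop : Nat.Coprime (orderOf x) (2 ^ (c + 1)) :=
      Nat.Coprime.pow_right _ (Nat.coprime_two_right.mpr hodd)
    have h1 : orderOf x = 1 := Nat.Coprime.eq_one_of_dvd hcop hdvd
    exact hx1 (orderOf_eq_one_iff.mp h1)

end Cfsg.Agent.S3861
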