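import Mathlib
import Cfsg.Statements.S3862
import Cfsg.Prelude.Def_Transfer
import Cfsg.Agent.Lib.Helper21.FrobeniusNPC

set_option autoImplicit false
open Cfsg

namespace Cfsg.Agent.S3862

open Cfsg.Agent.Lib.Helper21

theorem result {G : Type*} [Group G] [Finite G] (h : ∀ x : G, (∃ j : ℕ, orderOf x = 2 ^ j) → IsConj x x⁻¹ → x ∈ Subgroup.center G) : Cfsg.HasNormalPComplement 2 G := by
  haveI : Fact (Nat.Prime 2) := ⟨Nat.prime_two⟩
  have hF : FrobHyp 2 G := by
    intro D hD g hg hcop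
    -- by induction on the order of x ∈ D
    have key : ∀ (n : ℕ) (x : G), x ∈ D → orderOf x = n → g * x * g⁻¹ = x := by
      intro n
      induction n using Nat.strong_induction_on with
      | _ n ih =>
      intro x hx hn
      by_cases hx1 : x = 1
      · rw [hx1]; group
      -- order of x is 2^k, k ≥ 1
      obtain ⟨k, hk⟩ := hD ⟨x, hx⟩
      have hk' : x ^ 2 ^ k = 1 := by simpa using congrArg Subtype.val hk
      obtain ⟨j, hjk, hj⟩ := (Nat.dvd_prime_pow Nat.prime_two).mp (orderOf_dvd_of_pow_eq_one hk')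
      have hj0 : j ≠ 0 := by
        rintro rfl
        rw [pow_zero, orderOf_eq_one_iff] at hj
        exact hx1 hj
      obtain ⟨j', rfl⟩ := Nat.exists_eq_succ_of_ne_zero hj0
      have hsq : orderOf (x ^ 2) = 2 ^ j' := by
        rw [orderOf_pow, hj, pow_succ, Nat.gcd_eq_right (Dvd.intro_left _ rfl),
          Nat.mul_div_cancel _ (by norm_num : 0 < 2)]
      have hlt : orderOf (x ^ 2) < n := by
        rw [hsq, ← hn, hj]; exact Nat.pow_lt_pow_right (by norm_num) (Nat.lt_succ_self j')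
      have h2 : g * x ^ 2 * g⁻¹ = x ^ 2 := ih _ hlt (x ^ 2) (D.pow_mem hx 2) rfl
      -- y := g x g⁻¹, u := x⁻¹ y
      have hy2 : (g * x * g⁻¹) ^ 2 = x ^ 2 := by rw [conj_pow, h2]
      have hyD : g * x * g⁻¹ ∈ D := (Subgroup.mem_normalizer_iff.mp hg x).mp hx
      have huD : x⁻¹ * (g * x * g⁻¹) ∈ D := D.mul_mem (D.inv_mem hx) hyD
      have hreal : IsConj (x⁻¹ * (g * x * g⁻¹)) (x⁻¹ * (g * x * g⁻¹))⁻¹ := by
        rw [isConj_iff]
        refine ⟨x, ?_⟩
        -- x u x⁻¹ = y x⁻¹ = y⁻¹ x = u⁻¹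
        have e1 : x * (x⁻¹ * (g * x * g⁻¹)) * x⁻¹ = (g * x * g⁻¹) * x⁻¹ := by group
        have e2 : (x⁻¹ * (g * x * g⁻¹))⁻¹ = (g * x * g⁻¹)⁻¹ * x := by group
        rw [e1, e2]
        -- y x⁻¹ = y⁻¹ x  ⟸ y² = x²
        have : (g * x * g⁻¹) * ((g * x * g⁻¹) * x⁻¹) = (g * x * g⁻¹) * ((g * x * g⁻¹)⁻¹ * x) := by
          rw [← mul_assoc, ← pow_two, hy2, mul_inv_cancel_left, pow_two, mul_assoc, mul_inv_cancel, mul_one]
        exact mul_left_cancel this
      have hu2 : ∃ i : ℕ, orderOf (x⁻¹ * (g * x * g⁻¹)) = 2 ^ i := by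
        obtain ⟨i, hi⟩ := hD ⟨_, huD⟩
        have hi' : (x⁻¹ * (g * x * g⁻¹)) ^ 2 ^ i = 1 := by simpa using congrArg Subtype.val hi
        obtain ⟨i', _, hi''⟩ := (Nat.dvd_prime_pow Nat.prime_two).mp (orderOf_dvd_of_pow_eq_one hi')
        exact ⟨i', hi''⟩
      have hcen := h _ hu2 hreal
      rw [Subgroup.mem_center_iff] at hcen
      -- g^i x g^-i = x u^i
      have hxu : x * (x⁻¹ * (g * x * g⁻¹)) = g * x * g⁻¹ := mul_inv_cancel_left _ _
      generalize x⁻¹ * (g * x * g⁻¹) = u at hcen hxu hu2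
      have hiter : ∀ i : ℕ, g ^ i * x * (g ^ i)⁻¹ = x * u ^ i := by
        intro i
        induction i with
        | zero => simp
        | succ i ihi =>
          have hcomm : g * u ^ i = u ^ i * g := by
            have : Commute g u := (hcen g)
            exact (this.pow_right i)
          calc g ^ (i + 1) * x * (g ^ (i + 1))⁻¹ = g * (g ^ i * x * (g ^ i)⁻¹) * g⁻¹ := by
                rw [pow_succ']; group
            _ = g * (x * u ^ i) * g⁻¹ := by rw [ihi]
            _ = (g * x * g⁻¹) * (g * u ^ i) * g⁻¹ := by group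
            _ = (g * x * g⁻¹) * (u ^ i * g) * g⁻¹ := by rw [hcomm]
            _ = (x * u) * u ^ i := by rw [hxu]; group
            _ = x * u ^ (i + 1) := by rw [pow_succ', mul_assoc]
      have h3 := hiter (orderOf g)
      rw [pow_orderOf_eq_one, one_mul, inv_one, mul_one] at h3
      have h4 : u ^ orderOf g = 1 := by
        have := congrArg (fun t => x⁻¹ * t) h3
        simpa using this.symm
      obtain ⟨i, hi⟩ := hu2
      have h5 : orderOf u = 1 := by
        have hd1 : orderOf u ∣ orderOf g := orderOf_dvd_of_pow_eq_one h4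
        have hd2 : orderOf u ∣ 2 ^ i := by rw [hi]
        exact Nat.eq_one_of_dvd_coprimes (Nat.Coprime.pow_right i hcop) hd1 hd2
      rw [orderOf_eq_one_iff] at h5
      rw [← hxu, h5, mul_one]
    rw [Subgroup.mem_centralizer_iff]
    intro x hx
    have := key _ x hx rfl
    calc x * g = (g * x * g⁻¹) * g := by rw [this]
      _ = g * x := by group
  let P : Sylow 2 G := default
  obtain ⟨N, hNn, hN⟩ := hF.exists_normal_complement P
  exact ⟨P, N, hNn, hN⟩

end Cfsg.Agent.S3862
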