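import Mathlib
import Cfsg.Statements.S3863

set_option autoImplicit false
open Cfsg

namespace Cfsg.Agent.S3863

lemma mem_of_pow_mem_of_coprime {G : Type*} [Group G] (N : Subgroup G) (y : G) (a b : ℕ)
    (hab : Nat.Coprime a b) (ha : y ^ a ∈ N) (hb : y ^ b ∈ N) : y ∈ N := by
  have h1 : y ^ (Nat.gcd a b : ℤ) ∈ N := by
    rw [Nat.gcd_eq_gcd_ab, zpow_add, zpow_mul, zpow_mul, zpow_natCast, zpow_natCast]
    exact N.mul_mem (N.zpow_mem ha _) (N.zpow_mem hb _)
  rw [hab] at h1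
  simpa using h1

lemma exists_two_elt {G : Type*} [Group G] [Finite G] (x g : G) (hg : g * x * g⁻¹ = x⁻¹) :
    ∃ t : G, (∃ j : ℕ, orderOf t = 2 ^ j) ∧ t * x * t⁻¹ = x⁻¹ := by
  have hpos : orderOf g ≠ 0 := (orderOf_pos g).ne'
  obtain ⟨a, m, hm, hgam⟩ := Nat.exists_eq_two_pow_mul_odd hpos
  refine ⟨g ^ m, ⟨a, ?_⟩, ?_⟩
  · have hm0 : m ≠ 0 := by
      rintro rfl
      simp at hm
    rw [orderOf_pow' g hm0, hgam]
    have : Nat.gcd (2 ^ a * m) m = m := Nat.gcd_eq_right (Dvd.intro_left _ rfl)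
    rw [this]
    exact Nat.mul_div_cancel _ (Nat.pos_of_ne_zero hm0)
  · have hs : SemiconjBy g x x⁻¹ := by
      show g * x = x⁻¹ * g
      rw [← hg]; group
    have hs' : SemiconjBy g x⁻¹ x := by
      have := hs.inv_right
      rwa [inv_inv] at this
    have hc : Commute (g * g) x := hs'.mul_left hs
    obtain ⟨k, rfl⟩ := hm
    have hck : Commute ((g * g) ^ k) x := hc.pow_left k
    have e : g ^ (2 * k + 1) = (g * g) ^ k * g := by
      rw [pow_succ, pow_mul, pow_two]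
    rw [e]
    have hfin : SemiconjBy ((g * g) ^ k * g) x x⁻¹ := by
      have h1 : SemiconjBy ((g * g) ^ k) x⁻¹ x⁻¹ := hck.inv_right
      exact h1.mul_left hs
    have : (g * g) ^ k * g * x = x⁻¹ * ((g * g) ^ k * g) := hfin
    rw [this]; group

noncomputable def sigma {G : Type*} [Group G] (x u : G) (hu : u * x * u⁻¹ = x⁻¹) :
    Equiv.Perm (G ⧸ Subgroup.centralizer ({x} : Set G)) where
  toFun := Quotient.map' (fun g => g * u) (by
    intro a b hab
    rw [QuotientGroup.leftRel_apply] at hab ⊢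
    rw [Subgroup.mem_centralizer_singleton_iff] at hab ⊢
    have hx : x * u = u * x⁻¹ := by
      have : u * x = x⁻¹ * u := by rw [← hu]; group
      have h2 : u * x⁻¹ = x * u := by
        calc u * x⁻¹ = (x * x⁻¹) * u * x⁻¹ := by group
          _ = x * (x⁻¹ * u) * x⁻¹ := by group
          _ = x * (u * x) * x⁻¹ := by rw [this]
          _ = x * u := by group
      exact h2.symm
    have hx' : u⁻¹ * x = x⁻¹ * u⁻¹ := by
      calc u⁻¹ * x = u⁻¹ * (x * u) * u⁻¹ := by group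
        _ = u⁻¹ * (u * x⁻¹) * u⁻¹ := by rw [hx]
        _ = x⁻¹ * u⁻¹ := by group
    have hab' : (a⁻¹ * b) * x⁻¹ = x⁻¹ * (a⁻¹ * b) := by
      calc (a⁻¹ * b) * x⁻¹ = x⁻¹ * (x * (a⁻¹ * b)) * x⁻¹ := by group
        _ = x⁻¹ * ((a⁻¹ * b) * x) * x⁻¹ := by rw [hab]
        _ = x⁻¹ * (a⁻¹ * b) := by group
    calc (a * u)⁻¹ * (b * u) * x = u⁻¹ * (a⁻¹ * b) * (u * x) := by group
      _ = u⁻¹ * (a⁻¹ * b) * (x⁻¹ * u) := by rw [show u * x = x⁻¹ * u by rw [← hu]; group]
      _ = u⁻¹ * ((a⁻¹ * b) * x⁻¹) * u := by group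
      _ = u⁻¹ * (x⁻¹ * (a⁻¹ * b)) * u := by rw [hab']
      _ = (u⁻¹ * x⁻¹) * (a⁻¹ * b) * u := by group
      _ = (x * u⁻¹) * (a⁻¹ * b) * u := by
          have : u⁻¹ * x⁻¹ = x * u⁻¹ := by
            calc u⁻¹ * x⁻¹ = x * (x⁻¹ * u⁻¹) * x⁻¹ := by group
              _ = x * (u⁻¹ * x) * x⁻¹ := by rw [hx']
              _ = x * u⁻¹ := by group
          rw [this]
      _ = x * ((a * u)⁻¹ * (b * u)) := by group)
  invFun := Quotient.map' (fun g => g * u⁻¹) (by
    intro a b hab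
    rw [QuotientGroup.leftRel_apply] at hab ⊢
    rw [Subgroup.mem_centralizer_singleton_iff] at hab ⊢
    have h1 : u * x = x⁻¹ * u := by rw [← hu]; group
    have h2 : u⁻¹ * x = x⁻¹ * u⁻¹ := by
      have hx : x * u = u * x⁻¹ := by
        calc x * u = x * (u * x) * x⁻¹ := by group
          _ = x * (x⁻¹ * u) * x⁻¹ := by rw [h1]
          _ = u * x⁻¹ := by group
      calc u⁻¹ * x = u⁻¹ * (x * u) * u⁻¹ := by group
        _ = u⁻¹ * (u * x⁻¹) * u⁻¹ := by rw [hx]
        _ = x⁻¹ * u⁻¹ := by group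
    have hab' : (a⁻¹ * b) * x⁻¹ = x⁻¹ * (a⁻¹ * b) := by
      calc (a⁻¹ * b) * x⁻¹ = x⁻¹ * (x * (a⁻¹ * b)) * x⁻¹ := by group
        _ = x⁻¹ * ((a⁻¹ * b) * x) * x⁻¹ := by rw [hab]
        _ = x⁻¹ * (a⁻¹ * b) := by group
    have h3 : u * x⁻¹ = x * u := by
      calc u * x⁻¹ = x * (x⁻¹ * u) * x⁻¹ := by group
        _ = x * (u * x) * x⁻¹ := by rw [h1]
        _ = x * u := by group
    calc (a * u⁻¹)⁻¹ * (b * u⁻¹) * x = u * (a⁻¹ * b) * (u⁻¹ * x) := by group
      _ = u * (a⁻¹ * b) * (x⁻¹ * u⁻¹) := by rw [h2]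
      _ = u * ((a⁻¹ * b) * x⁻¹) * u⁻¹ := by group
      _ = u * (x⁻¹ * (a⁻¹ * b)) * u⁻¹ := by rw [hab']
      _ = (u * x⁻¹) * (a⁻¹ * b) * u⁻¹ := by group
      _ = (x * u) * (a⁻¹ * b) * u⁻¹ := by rw [h3]
      _ = x * ((a * u⁻¹)⁻¹ * (b * u⁻¹)) := by group)
  left_inv := by
    intro q
    induction q using Quotient.inductionOn' with
    | h a =>
      simp only [Quotient.map'_mk'']
      congr 1
      group
  right_inv := by
    intro q
    induction q using Quotient.inductionOn' with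
    | h a =>
      simp only [Quotient.map'_mk'']
      congr 1
      group

lemma sigma_mk {G : Type*} [Group G] (x u : G) (hu : u * x * u⁻¹ = x⁻¹) (a : G) :
    sigma x u hu (Quotient.mk'' a) = Quotient.mk'' (a * u) := rfl

theorem result {G : Type*} [Group G] [Finite G] (x : G) (hx : IsConj x x⁻¹) : (∃ t : G, (∃ j : ℕ, orderOf t = 2 ^ j) ∧ t * x * t⁻¹ = x⁻¹) ∧ (Odd (Subgroup.centralizer ({x} : Set G)).index → x ^ 2 = 1) ∧ ∀ (N : Subgroup G) [N.Normal], Odd N.index → ∃ hxN : x ∈ N, IsConj (⟨x, hxN⟩ : N) (⟨x, hxN⟩ : N)⁻¹ := by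
  obtain ⟨g, hg⟩ := isConj_iff.mp hx
  obtain ⟨t, ⟨j, hj⟩, ht⟩ := exists_two_elt x g hg
  refine ⟨⟨t, ⟨j, hj⟩, ht⟩, ?_, ?_⟩
  · intro hodd
    letI : Fintype (G ⧸ Subgroup.centralizer ({x} : Set G)) := Fintype.ofFinite _
    have hcard : ¬ 2 ∣ Fintype.card (G ⧸ Subgroup.centralizer ({x} : Set G)) := by
      rw [← Nat.card_eq_fintype_card, ← Subgroup.index_eq_card]
      exact fun h => (Nat.not_even_iff_odd.mpr hodd) (even_iff_two_dvd.mpr h)
    have hsq : (sigma x g hg) ^ 2 ^ 1 = 1 := by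
      ext q
      induction q using Quotient.inductionOn' with
      | h a =>
        simp only [pow_one, pow_two, Equiv.Perm.mul_apply, Equiv.Perm.one_apply]
        rw [sigma_mk, sigma_mk]
        apply Quotient.sound'
        rw [QuotientGroup.leftRel_apply, Subgroup.mem_centralizer_singleton_iff]
        have h1 : g * x = x⁻¹ * g := by rw [← hg]; group
        have h2 : g * x⁻¹ = x * g := by
          calc g * x⁻¹ = x * (x⁻¹ * g) * x⁻¹ := by group
            _ = x * (g * x) * x⁻¹ := by rw [h1]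
            _ = x * g := by group
        calc (a * g * g)⁻¹ * a * x = g⁻¹ * g⁻¹ * x := by group
          _ = g⁻¹ * g⁻¹ * x * (g * g) * (g * g)⁻¹ := by group
          _ = g⁻¹ * g⁻¹ * (x * g) * g * (g * g)⁻¹ := by group
          _ = g⁻¹ * g⁻¹ * (g * x⁻¹) * g * (g * g)⁻¹ := by rw [h2]
          _ = g⁻¹ * (x⁻¹ * g) * (g * g)⁻¹ := by group
          _ = g⁻¹ * (g * x) * (g * g)⁻¹ := by rw [h1]
          _ = x * ((a * g * g)⁻¹ * a) := by group
    obtain ⟨q, hq⟩ := Equiv.Perm.exists_fixed_point_of_prime (p := 2) (n := 1) hcard hsq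
    induction q using Quotient.inductionOn' with
    | h a =>
      have hq' := hq
      rw [sigma_mk] at hq'
      have := Quotient.exact' hq'
      rw [QuotientGroup.leftRel_apply, Subgroup.mem_centralizer_singleton_iff] at this
      have hgc : g⁻¹ * x = x * g⁻¹ := by
        have e : (a * g)⁻¹ * a = g⁻¹ := by group
        rw [e] at this
        exact this
      have : g * x * g⁻¹ = x := by
        calc g * x * g⁻¹ = g * (x * g⁻¹) := by group
          _ = g * (g⁻¹ * x) := by rw [hgc]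
          _ = x := by group
      rw [this] at hg
      calc x ^ 2 = x * x := pow_two x
        _ = x * x⁻¹ := by rw [← hg]
        _ = 1 := by group
  · intro N _ hodd
    have hcop : Nat.Coprime (2 ^ j) N.index := by
      apply Nat.Coprime.pow_left
      exact (Nat.coprime_two_left).mpr hodd
    have htN : t ∈ N := by
      apply mem_of_pow_mem_of_coprime N t (2 ^ j) N.index hcop
      · rw [← hj, pow_orderOf_eq_one]; exact N.one_mem
      · exact Subgroup.pow_index_mem N t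
    have hx2 : x ^ 2 ∈ N := by
      have h1 : t * (x * t⁻¹ * x⁻¹) ∈ N := N.mul_mem htN (‹N.Normal›.conj_mem _ (N.inv_mem htN) x)
      have e : t * (x * t⁻¹ * x⁻¹) = (x ^ 2)⁻¹ := by
        calc t * (x * t⁻¹ * x⁻¹) = (t * x * t⁻¹) * x⁻¹ := by group
          _ = x⁻¹ * x⁻¹ := by rw [ht]
          _ = (x ^ 2)⁻¹ := by group
      rw [e] at h1
      exact (Subgroup.inv_mem_iff N).mp h1
    have hxN : x ∈ N := by
      apply mem_of_pow_mem_of_coprime N x 2 N.index ((Nat.coprime_two_left).mpr hodd) hx2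
      exact Subgroup.pow_index_mem N x
    refine ⟨hxN, ?_⟩
    rw [isConj_iff]
    refine ⟨⟨t, htN⟩, ?_⟩
    apply Subtype.ext
    simp only [Subgroup.coe_mul, Subgroup.coe_inv]
    exact ht

end Cfsg.Agent.S3863
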