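import Mathlib
import Cfsg.Statements.S3866

set_option autoImplicit false
open Cfsg
namespace Cfsg.Agent.S3866

theorem result {G : Type*} [Group G] [Finite G] (A : Subgroup G) [A.Normal] (hA : IsMulCommutative A) (x : G) (hgen : A ⊔ Subgroup.zpowers x = ⊤) : (∀ a ∈ A, x * a * x⁻¹ * a⁻¹ ∈ commutator G) ∧ (∀ c ∈ commutator G, ∃ a ∈ A, x * a * x⁻¹ * a⁻¹ = c) ∧ (∀ a ∈ A, ∀ b ∈ A, x * (a * b) * x⁻¹ * (a * b)⁻¹ = (x * a * x⁻¹ * a⁻¹) * (x * b * x⁻¹ * b⁻¹)) ∧ Nat.card (commutator G) * Nat.card ↥(A ⊓ Subgroup.centralizer ({x} : Set G)) = Nat.card A := by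
  have hAcomm : ∀ a ∈ A, ∀ b ∈ A, a * b = b * a := by
    intro a ha b hb
    have := mul_comm' (⟨a, ha⟩ : A) ⟨b, hb⟩
    exact congrArg Subtype.val this
  have hconj : ∀ a ∈ A, x * a * x⁻¹ ∈ A := fun a ha => ‹A.Normal›.conj_mem a ha x
  have hcA : ∀ a ∈ A, x * a * x⁻¹ * a⁻¹ ∈ A := fun a ha => A.mul_mem (hconj a ha) (A.inv_mem ha)
  have h1 : ∀ a ∈ A, x * a * x⁻¹ * a⁻¹ ∈ commutator G := by
    intro a _
    rw [commutator_def]
    exact Subgroup.commutator_mem_commutator (Subgroup.mem_top x) (Subgroup.mem_top a)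
  have h3 : ∀ a ∈ A, ∀ b ∈ A, x * (a * b) * x⁻¹ * (a * b)⁻¹ = (x * a * x⁻¹ * a⁻¹) * (x * b * x⁻¹ * b⁻¹) := by
    intro a ha b hb
    have hc := hAcomm _ (hcA b hb) _ (A.inv_mem ha)
    calc x * (a * b) * x⁻¹ * (a * b)⁻¹ = x * a * x⁻¹ * ((x * b * x⁻¹ * b⁻¹) * a⁻¹) := by
          simp only [mul_inv_rev, mul_assoc, inv_mul_cancel_left]
      _ = x * a * x⁻¹ * (a⁻¹ * (x * b * x⁻¹ * b⁻¹)) := by rw [hc]
      _ = _ := by simp only [mul_assoc]
  let φ : A →* A :=
    { toFun := fun a => ⟨x * a * x⁻¹ * a⁻¹, hcA a a.2⟩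
      map_one' := by apply Subtype.ext; simp
      map_mul' := by
        intro a b
        apply Subtype.ext
        exact h3 a a.2 b b.2 }
  let I : Subgroup G := φ.range.map A.subtype
  have hI_mem : ∀ g : G, g ∈ I ↔ ∃ a ∈ A, x * a * x⁻¹ * a⁻¹ = g := by
    intro g
    constructor
    · rintro ⟨_, ⟨a, rfl⟩, rfl⟩
      exact ⟨a, a.2, rfl⟩
    · rintro ⟨a, ha, rfl⟩
      exact ⟨φ ⟨a, ha⟩, ⟨⟨a, ha⟩, rfl⟩, rfl⟩
  have hIA : I ≤ A := by
    intro g hg
    obtain ⟨a, ha, rfl⟩ := (hI_mem g).mp hg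
    exact hcA a ha
  have hInormal : I.Normal := by
    have hle : (⊤ : Subgroup G) ≤ Subgroup.normalizer (I : Set G) := by
      rw [← hgen, sup_le_iff]
      constructor
      · intro a ha
        rw [Subgroup.mem_normalizer_iff]
        intro g
        constructor
        · intro hg
          have : a * g * a⁻¹ = g := by
            rw [hAcomm a ha g (hIA hg)]; simp
          rw [this]; exact hg
        · intro hg
          have hgA : g ∈ A := by
            have := ‹A.Normal›.conj_mem _ (hIA hg) a⁻¹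
            simpa [mul_assoc] using this
          have : a * g * a⁻¹ = g := by
            rw [hAcomm a ha g hgA]; simp
          rw [this] at hg; exact hg
      · rw [Subgroup.zpowers_le]
        rw [Subgroup.mem_normalizer_iff]
        intro g
        constructor
        · intro hg
          obtain ⟨a, ha, rfl⟩ := (hI_mem g).mp hg
          rw [hI_mem]
          refine ⟨x * a * x⁻¹, hconj a ha, ?_⟩
          group
        · intro hg
          obtain ⟨a, ha, hag⟩ := (hI_mem _).mp hg
          rw [hI_mem]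
          refine ⟨x⁻¹ * a * x, ?_, ?_⟩
          · have := ‹A.Normal›.conj_mem a ha x⁻¹
            simpa using this
          · have : g = x⁻¹ * (x * a * x⁻¹ * a⁻¹) * x := by
              rw [hag]; group
            rw [this]
            group
    exact Subgroup.normalizer_eq_top_iff.mp (top_le_iff.mp hle)
  have h2' : commutator G ≤ I := by
    rw [← Subgroup.Normal.quotient_commutative_iff_commutator_le]
    let π := QuotientGroup.mk' I
    have hxa : ∀ a ∈ A, π x * π a = π a * π x := by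
      intro a ha
      have hm : x * a * x⁻¹ * a⁻¹ ∈ I := (hI_mem _).mpr ⟨a, ha, rfl⟩
      have h1' : π (x * a * x⁻¹ * a⁻¹) = 1 := (QuotientGroup.eq_one_iff _).mpr hm
      simp only [map_mul, map_inv] at h1'
      have h2 := mul_inv_eq_one.mp h1'
      exact mul_inv_eq_iff_eq_mul.mp h2
    let S : Set (G ⧸ I) := π '' ((A : Set G) ∪ {x})
    have hS : ∀ u ∈ S, ∀ v ∈ S, u * v = v * u := by
      rintro _ ⟨g, hg, rfl⟩ _ ⟨h, hh, rfl⟩
      rcases hg with hg | hg <;> rcases hh with hh | hh
      · rw [← map_mul, ← map_mul, hAcomm g hg h hh]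
      · rw [Set.mem_singleton_iff] at hh
        subst hh
        exact (hxa g hg).symm
      · rw [Set.mem_singleton_iff] at hg
        subst hg
        exact hxa h hh
      · rw [Set.mem_singleton_iff] at hg hh
        subst hg; subst hh; rfl
    have hcl : Subgroup.closure S = ⊤ := by
      have : Subgroup.closure ((A : Set G) ∪ {x}) = ⊤ := by
        rw [Subgroup.closure_union, Subgroup.closure_eq, ← Subgroup.zpowers_eq_closure, hgen]
      rw [← MonoidHom.map_closure, this, ← MonoidHom.range_eq_map]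
      exact MonoidHom.range_eq_top.mpr (QuotientGroup.mk'_surjective I)
    have hcomm := Subgroup.isMulCommutative_closure hS
    rw [hcl] at hcomm
    constructor
    constructor
    intro u v
    have := mul_comm' (⟨u, Subgroup.mem_top u⟩ : (⊤ : Subgroup (G ⧸ I))) ⟨v, Subgroup.mem_top v⟩
    exact congrArg Subtype.val this
  have h2 : ∀ c ∈ commutator G, ∃ a ∈ A, x * a * x⁻¹ * a⁻¹ = c := fun c hc => (hI_mem c).mp (h2' hc)
  refine ⟨h1, h2, h3, ?_⟩
  have hIeq : commutator G = I := by
    apply le_antisymm h2'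
    intro g hg
    obtain ⟨a, ha, rfl⟩ := (hI_mem g).mp hg
    exact h1 a ha
  have hkereq : (φ.ker).map A.subtype = A ⊓ Subgroup.centralizer ({x} : Set G) := by
    ext g
    rw [Subgroup.mem_map, Subgroup.mem_inf, Subgroup.mem_centralizer_singleton_iff]
    constructor
    · rintro ⟨a, ha, rfl⟩
      refine ⟨a.2, ?_⟩
      have := congrArg Subtype.val (MonoidHom.mem_ker.mp ha)
      simp only [φ, MonoidHom.coe_mk, OneHom.coe_mk, Subgroup.coe_one] at this
      have h2 := mul_inv_eq_one.mp this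
      exact (mul_inv_eq_iff_eq_mul.mp h2).symm
    · rintro ⟨hgA, hgc⟩
      refine ⟨⟨g, hgA⟩, ?_, rfl⟩
      rw [MonoidHom.mem_ker]
      apply Subtype.ext
      simp only [φ, MonoidHom.coe_mk, OneHom.coe_mk, Subgroup.coe_one]
      rw [← hgc]; simp
  rw [hIeq, ← hkereq]
  rw [Subgroup.card_map_of_injective A.subtype_injective, Subgroup.card_map_of_injective A.subtype_injective]
  rw [mul_comm, ← Subgroup.index_ker, Subgroup.card_mul_index]

end Cfsg.Agent.S3866
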