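import Mathlib
import Cfsg.Statements.S3867
import Cfsg.Agent.Lib.Helper18.SylowIn
import Cfsg.Agent.Lib.Helper18.ChermakDelgado

set_option autoImplicit false
open Cfsg

namespace Cfsg.Agent.S3867
open scoped Pointwise
open Cfsg.Agent.Lib.Helper18

variable {G : Type*} [Group G] [Finite G] {p : ℕ} [Fact p.Prime]

lemma normalizer_sup (P : Sylow p G) (M : Subgroup G) [M.Normal] :
    Subgroup.normalizer (((P : Subgroup G) ⊔ M : Subgroup G) : Set G) =
      Subgroup.normalizer ((P : Subgroup G) : Set G) ⊔ M := by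
  apply le_antisymm
  · intro g hg
    have hS : IsSylowIn p (P : Subgroup G) ((P : Subgroup G) ⊔ M) := isSylowIn_of_sylow_le P le_sup_left
    obtain ⟨n, hn, hng⟩ := hS.frattini hg
    have : g = n⁻¹ * (n * g) := by group
    rw [this]
    apply Subgroup.mul_mem
    · apply Subgroup.inv_mem
      exact (sup_le (le_trans Subgroup.le_normalizer le_sup_left) le_sup_right :
        (P : Subgroup G) ⊔ M ≤ Subgroup.normalizer ((P : Subgroup G) : Set G) ⊔ M) hn
    · exact Subgroup.mem_sup_left hng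
  · apply sup_le
    · intro g hg
      rw [Subgroup.mem_normalizer_iff] at hg ⊢
      have key : ∀ g : G, (∀ h, h ∈ (P : Subgroup G) ↔ g * h * g⁻¹ ∈ (P : Subgroup G)) →
          ∀ x ∈ (P : Subgroup G) ⊔ M, g * x * g⁻¹ ∈ (P : Subgroup G) ⊔ M := by
        intro g hg x hx
        have hx' : x ∈ (((P : Subgroup G) ⊔ M : Subgroup G) : Set G) := hx
        rw [Subgroup.mul_normal] at hx'
        obtain ⟨a, ha, m, hm, rfl⟩ := hx'
        have : g * (a * m) * g⁻¹ = (g * a * g⁻¹) * (g * m * g⁻¹) := by group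
        rw [this]
        exact Subgroup.mul_mem_sup ((hg a).mp ha) (‹M.Normal›.conj_mem m hm g)
      intro x
      constructor
      · exact key g hg x
      · intro hx
        have hg' : ∀ h, h ∈ (P : Subgroup G) ↔ g⁻¹ * h * g⁻¹⁻¹ ∈ (P : Subgroup G) := by
          intro h
          rw [hg (g⁻¹ * h * g⁻¹⁻¹)]
          have : g * (g⁻¹ * h * g⁻¹⁻¹) * g⁻¹ = h := by group
          rw [this]
        have := key g⁻¹ hg' _ hx
        have h2 : g⁻¹ * (g * x * g⁻¹) * g⁻¹⁻¹ = x := by group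
        rwa [h2] at this
    · exact le_trans le_sup_right Subgroup.le_normalizer

lemma card_sylow_quot (P : Sylow p G) (M : Subgroup G) [M.Normal] :
    Nat.card (Sylow p (G ⧸ M)) = (Subgroup.normalizer ((P : Subgroup G) : Set G) ⊔ M).index := by
  have hf : Function.Surjective (QuotientGroup.mk' M) := QuotientGroup.mk'_surjective M
  have h0 : Subgroup.normalizer ((P.mapSurjective hf : Sylow p (G ⧸ M)) : Set (G ⧸ M)) =
      Subgroup.normalizer (((P : Subgroup G).map (QuotientGroup.mk' M) : Subgroup (G ⧸ M)) : Set (G ⧸ M)) := rfl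
  rw [Sylow.card_eq_index_normalizer (P.mapSurjective hf), ← Subgroup.index_comap_of_surjective _ hf, h0,
    Subgroup.comap_normalizer_eq_of_surjective _ hf, Subgroup.comap_map_eq,
    QuotientGroup.ker_mk', normalizer_sup]

lemma Q_le (P : Sylow p G) (M N : Subgroup G) [M.Normal] [N.Normal] (hMN : M ⊓ N = ⊥) :
    ((P : Subgroup G) ⊔ N) ⊓ M ≤ (P : Subgroup G) := by
  set Q := ((P : Subgroup G) ⊔ N) ⊓ M with hQ
  have hQp : IsPGroup p Q := by
    rintro ⟨x, hx⟩
    have hx1 : x ∈ (((P : Subgroup G) ⊔ N : Subgroup G) : Set G) := hx.1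
    rw [Subgroup.mul_normal] at hx1
    obtain ⟨a, ha, n, hn, rfl⟩ := hx1
    obtain ⟨k, hk⟩ := P.isPGroup' ⟨a, ha⟩
    have hk' : a ^ (p ^ k) = 1 := by
      have := congrArg Subtype.val hk
      simpa using this
    refine ⟨k, ?_⟩
    apply Subtype.ext
    simp only [Subgroup.coe_pow, Subgroup.coe_one]
    have h1 : (a * n) ^ (p ^ k) ∈ N := by
      rw [← QuotientGroup.eq_one_iff, QuotientGroup.mk_pow, QuotientGroup.mk_mul,
        (QuotientGroup.eq_one_iff n).mpr hn, mul_one, ← QuotientGroup.mk_pow, hk']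
      rfl
    have h2 : (a * n) ^ (p ^ k) ∈ M := M.pow_mem hx.2 _
    have : (a * n) ^ (p ^ k) ∈ M ⊓ N := ⟨h2, h1⟩
    rw [hMN] at this
    exact Subgroup.mem_bot.mp this
  have hnorm : (P : Subgroup G) ≤ Subgroup.normalizer (Q : Set G) := by
    intro a ha
    apply mem_normalizer_of_conjSub_le
    intro y hy
    rw [mem_conjSub] at hy
    have : y = a * (a⁻¹ * y * a) * a⁻¹ := by group
    rw [this]
    refine ⟨?_, ‹M.Normal›.conj_mem _ hy.2 a⟩
    have haPN : a ∈ (P : Subgroup G) ⊔ N := Subgroup.mem_sup_left ha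
    exact Subgroup.mul_mem _ (Subgroup.mul_mem _ haPN hy.1) (Subgroup.inv_mem _ haPN)
  have hpg : IsPGroup p ((P : Subgroup G) ⊔ Q : Subgroup G) :=
    IsPGroup.to_sup_of_normal_right' P.isPGroup' hQp hnorm
  have := P.is_maximal' hpg le_sup_left
  rw [← this]
  exact le_sup_right

lemma PM_inf_PN (P : Sylow p G) (M N : Subgroup G) [M.Normal] [N.Normal] (hMN : M ⊓ N = ⊥) :
    ((P : Subgroup G) ⊔ M) ⊓ ((P : Subgroup G) ⊔ N) ≤ (P : Subgroup G) := by
  rintro x ⟨hx1, hx2⟩
  have hx1' : x ∈ (((P : Subgroup G) ⊔ M : Subgroup G) : Set G) := hx1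
  rw [Subgroup.mul_normal] at hx1'
  obtain ⟨a, ha, m, hm, rfl⟩ := hx1'
  have hmQ : m ∈ ((P : Subgroup G) ⊔ N) ⊓ M := by
    refine ⟨?_, hm⟩
    have : m = a⁻¹ * (a * m) := by group
    rw [this]
    exact Subgroup.mul_mem _ (Subgroup.inv_mem _ (Subgroup.mem_sup_left ha)) hx2
  exact Subgroup.mul_mem _ ha (Q_le P M N hMN hmQ)

lemma N_inf_LM (P : Sylow p G) (M N : Subgroup G) [M.Normal] [N.Normal] (hMN : M ⊓ N = ⊥) :
    N ⊓ (Subgroup.normalizer ((P : Subgroup G) : Set G) ⊔ M) ≤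
      Subgroup.normalizer ((P : Subgroup G) : Set G) := by
  rintro n ⟨hnN, hnLM⟩
  have h' : n ∈ ((Subgroup.normalizer ((P : Subgroup G) : Set G) ⊔ M : Subgroup G) : Set G) := hnLM
  rw [Subgroup.mul_normal] at h'
  obtain ⟨l, hl, m, hm, rfl⟩ := h'
  apply mem_normalizer_of_conjSub_le
  intro y hy
  rw [mem_conjSub] at hy
  set a := (l * m)⁻¹ * y * (l * m) with ha
  have hy' : y = (l * m) * a * (l * m)⁻¹ := by rw [ha]; group
  apply PM_inf_PN P M N hMN
  constructor
  · have : y = (l * (m * a * m⁻¹ * a⁻¹) * l⁻¹) * (l * a * l⁻¹) := by rw [hy']; group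
    rw [this]
    have hl' : l * a * l⁻¹ ∈ (P : Subgroup G) := (Subgroup.mem_normalizer_iff.mp hl a).mp hy
    have hm' : m * a * m⁻¹ * a⁻¹ ∈ M := by
      have h1 : a * m⁻¹ * a⁻¹ ∈ M := ‹M.Normal›.conj_mem _ (M.inv_mem hm) a
      have : m * a * m⁻¹ * a⁻¹ = m * (a * m⁻¹ * a⁻¹) := by group
      rw [this]
      exact M.mul_mem hm h1
    exact Subgroup.mul_mem _ (Subgroup.mem_sup_right (‹M.Normal›.conj_mem _ hm' l)) (Subgroup.mem_sup_left hl')
  · have : y = ((l * m) * (a * (l * m)⁻¹ * a⁻¹)) * a := by rw [hy']; group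
    rw [this]
    have h1 : a * (l * m)⁻¹ * a⁻¹ ∈ N := ‹N.Normal›.conj_mem _ (N.inv_mem hnN) a
    exact Subgroup.mul_mem _ (Subgroup.mem_sup_right (N.mul_mem hnN h1)) (Subgroup.mem_sup_left hy)

lemma LM_inf_LN (P : Sylow p G) (M N : Subgroup G) [M.Normal] [N.Normal] (hMN : M ⊓ N = ⊥) :
    (Subgroup.normalizer ((P : Subgroup G) : Set G) ⊔ M) ⊓ (Subgroup.normalizer ((P : Subgroup G) : Set G) ⊔ N) =
      Subgroup.normalizer ((P : Subgroup G) : Set G) := by
  apply le_antisymm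
  · rintro x ⟨hx1, hx2⟩
    have h' : x ∈ ((Subgroup.normalizer ((P : Subgroup G) : Set G) ⊔ N : Subgroup G) : Set G) := hx2
    rw [Subgroup.mul_normal] at h'
    obtain ⟨l, hl, n, hn, rfl⟩ := h'
    have hn' : n ∈ Subgroup.normalizer ((P : Subgroup G) : Set G) ⊔ M := by
      have : n = l⁻¹ * (l * n) := by group
      rw [this]
      exact Subgroup.mul_mem _ (Subgroup.inv_mem _ (Subgroup.mem_sup_left hl)) hx1
    exact Subgroup.mul_mem _ hl (N_inf_LM P M N hMN ⟨hn, hn'⟩)
  · exact le_inf le_sup_left le_sup_left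

theorem result {G : Type*} [Group G] [Finite G] (p : ℕ) [Fact p.Prime] (M N : Subgroup G) [M.Normal] [N.Normal] (hM : M ≠ ⊥) (hN : N ≠ ⊥) (hMN : M ⊓ N = ⊥) : Nat.card (Sylow p G) * Nat.card (Sylow p (G ⧸ (M ⊔ N))) = Nat.card (Sylow p (G ⧸ M)) * Nat.card (Sylow p (G ⧸ N)) := by
  obtain ⟨P⟩ : Nonempty (Sylow p G) := inferInstance
  rw [card_sylow_quot P M, card_sylow_quot P N, card_sylow_quot P (M ⊔ N), Sylow.card_eq_index_normalizer P]
  set L := Subgroup.normalizer ((P : Subgroup G) : Set G) with hL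
  set A := L ⊔ M with hA
  set B := L ⊔ N with hB
  set J := L ⊔ (M ⊔ N) with hJ
  have hAB : A ⊓ B = L := LM_inf_LN P M N hMN
  have hsupAB : A ⊔ B = J := by
    rw [hA, hB, hJ, ← sup_sup_distrib_left]
  have hset : (A : Set G) * (B : Set G) = (J : Set G) := by
    apply Set.Subset.antisymm
    · rw [← hsupAB]; exact mul_subset_sup A B
    · intro x hx
      have hJ' : J = A ⊔ N := by rw [hJ, hA, sup_assoc]
      rw [hJ', Subgroup.mul_normal] at hx
      obtain ⟨a, ha, n, hn, rfl⟩ := hx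
      exact ⟨a, ha, n, (le_sup_right : N ≤ B) hn, rfl⟩
  have h1 := card_mul_set_mul_card_inf A B
  rw [hset, hAB] at h1
  have h1' : Nat.card J * Nat.card L = Nat.card A * Nat.card B := by
    have : Nat.card (J : Set G) = Nat.card J := rfl
    rw [← this]; exact h1
  have iL := Subgroup.card_mul_index L
  have iA := Subgroup.card_mul_index A
  have iB := Subgroup.card_mul_index B
  have iJ := Subgroup.card_mul_index J
  have hpos : 0 < Nat.card A * Nat.card B := Nat.mul_pos Nat.card_pos Nat.card_pos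
  apply Nat.eq_of_mul_eq_mul_left hpos
  calc Nat.card A * Nat.card B * (L.index * J.index)
      = (Nat.card J * Nat.card L) * (L.index * J.index) := by rw [h1']
    _ = (Nat.card L * L.index) * (Nat.card J * J.index) := by ring
    _ = (Nat.card A * A.index) * (Nat.card B * B.index) := by rw [iL, iJ, iA, iB]
    _ = Nat.card A * Nat.card B * (A.index * B.index) := by ring

end Cfsg.Agent.S3867
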