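import Mathlib
import Cfsg.Statements.S3870
import Cfsg.Prelude.Def_LocalStructure

set_option autoImplicit false
open Cfsg

namespace Cfsg.Agent.S3870

lemma normalizer_grows {G : Type*} [Group G] [Finite G] {p : ℕ} [Fact p.Prime]
    (P : Subgroup G) (hP : IsPGroup p P) (D : Subgroup G) (hD : D < P) :
    ∃ x ∈ P, x ∈ Subgroup.normalizer (D : Set G) ∧ x ∉ D := by
  have : Group.IsNilpotent P := hP.isNilpotent
  have hnc : NormalizerCondition P := Group.normalizerCondition_of_isNilpotent
  have hlt : D.subgroupOf P < ⊤ := by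
    rw [lt_top_iff_ne_top]
    intro h
    rw [Subgroup.subgroupOf_eq_top] at h
    exact (not_le_of_gt hD) h
  have h2 := hnc _ hlt
  obtain ⟨x, hxN, hxD⟩ := SetLike.exists_of_lt h2
  refine ⟨x, x.2, ?_, ?_⟩
  · rw [Subgroup.mem_normalizer_iff] at hxN ⊢
    intro g
    constructor
    · intro hg
      have hgP : g ∈ P := hD.le hg
      have := (hxN ⟨g, hgP⟩).mp (by simpa [Subgroup.mem_subgroupOf] using hg)
      simpa [Subgroup.mem_subgroupOf] using this
    · intro hg
      have hgP : g ∈ P := by
        have h1 : (x : G) * g * (x : G)⁻¹ ∈ P := hD.le hg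
        have h2 := P.mul_mem (P.mul_mem (P.inv_mem x.2) h1) x.2
        simpa [mul_assoc] using h2
      have := (hxN ⟨g, hgP⟩).mpr (by simpa [Subgroup.mem_subgroupOf] using hg)
      simpa [Subgroup.mem_subgroupOf] using this
  · intro h
    apply hxD
    simpa [Subgroup.mem_subgroupOf] using h

theorem result {G : Type*} [Group G] [Finite G] [IsSimpleGroup G] {p : ℕ} [Fact p.Prime]
    (hnc : ¬ Cfsg.IsPClosed p G) (hsub : ∀ H : Subgroup G, H ≠ ⊤ → Cfsg.IsPClosed p ↥H) :
    (∀ P Q : Sylow p G, P ≠ Q → (P : Subgroup G) ⊓ (Q : Subgroup G) = ⊥) ∧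
      ∀ (P : Sylow p G) (R : Subgroup G), R ≤ P → R ≠ ⊥ →
        Subgroup.normalizer (R : Set G) ≤ Subgroup.normalizer ((P : Subgroup G) : Set G) := by
  have hnotTop : ∀ P : Sylow p G, (P : Subgroup G) ≠ ⊤ := by
    intro P hP
    apply hnc
    intro Q
    obtain ⟨g, rfl⟩ := MulAction.exists_smul_eq G P Q
    have : ((g • P : Sylow p G) : Subgroup G) = ⊤ := by
      rw [Sylow.coe_subgroup_smul, hP]
      ext x
      simp only [Subgroup.mem_top, iff_true]
      rw [Subgroup.mem_pointwise_smul_iff_inv_smul_mem]
      trivial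
    rw [this]
    infer_instance
  have key : ∀ n : ℕ, ∀ P Q : Sylow p G, P ≠ Q → (P : Subgroup G) ⊓ (Q : Subgroup G) ≠ ⊥ →
      Nat.card G - Nat.card ((P : Subgroup G) ⊓ (Q : Subgroup G) : Subgroup G) = n → False := by
    intro n
    induction n using Nat.strong_induction_on with
    | _ n ih =>
      intro P Q hPQ hD hn
      set D : Subgroup G := (P : Subgroup G) ⊓ (Q : Subgroup G) with hDdef
      have hDP : D < (P : Subgroup G) := by
        refine lt_of_le_of_ne inf_le_left ?_
        intro h
        apply hPQ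
        have hle : (P : Subgroup G) ≤ Q := by rw [← h]; exact inf_le_right
        exact Sylow.ext (P.3 Q.2 hle).symm
      have hDQ : D < (Q : Subgroup G) := by
        refine lt_of_le_of_ne inf_le_right ?_
        intro h
        apply hPQ
        have hle : (Q : Subgroup G) ≤ P := by rw [← h]; exact inf_le_left
        exact (Sylow.ext (Q.3 P.2 hle).symm).symm
      have hNtop : Subgroup.normalizer (D : Set G) ≠ ⊤ := by
        intro h
        have hDn : D.Normal := Subgroup.normalizer_eq_top_iff.mp h
        rcases hDn.eq_bot_or_eq_top with h1 | h1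
        · exact hD h1
        · apply hnotTop P
          rw [eq_top_iff, ← h1]
          exact hDP.le
      set N := Subgroup.normalizer (D : Set G) with hN
      have hNcl := hsub N hNtop
      obtain ⟨S⟩ : Nonempty (Sylow p N) := inferInstance
      have hSn : (S : Subgroup N).Normal := hNcl S
      have hSall : ∀ K : Subgroup N, IsPGroup p K → K ≤ S := by
        intro K hK
        obtain ⟨S', hS'⟩ := hK.exists_le_sylow
        have := Sylow.unique_of_normal S hSn
        rw [Subsingleton.elim S S'] 
        exact hS'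
      have hSp : IsPGroup p ((S : Subgroup N).map N.subtype) := S.2.map _
      obtain ⟨R, hR⟩ := hSp.exists_le_sylow
      have hle : ∀ P' : Sylow p G, (P' : Subgroup G) ⊓ N ≤ R := by
        intro P' x hx
        have hK : IsPGroup p (((P' : Subgroup G) ⊓ N).subgroupOf N) := by
          apply IsPGroup.comap_subtype
          exact P'.2.to_le inf_le_left
        have := hSall _ hK
        apply hR
        refine ⟨⟨x, hx.2⟩, this ?_, rfl⟩
        rw [Subgroup.mem_subgroupOf]
        exact hx
      have hDN : D ≤ N := Subgroup.le_normalizer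
      have hbig : ∀ P' : Sylow p G, D < (P' : Subgroup G) → R = P' := by
        intro P' hDP'
        by_contra hne
        obtain ⟨x, hxP, hxN, hxD⟩ := normalizer_grows (P' : Subgroup G) P'.2 D hDP'
        have hlt : D < (R : Subgroup G) ⊓ (P' : Subgroup G) := by
          refine lt_of_le_of_ne ?_ ?_
          · exact le_inf ((le_inf hDP'.le hDN).trans (hle P')) hDP'.le
          · intro h
            apply hxD
            rw [h]
            exact ⟨hle P' ⟨hxP, hxN⟩, hxP⟩
        have hne_bot : (R : Subgroup G) ⊓ (P' : Subgroup G) ≠ ⊥ := by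
          intro h
          rw [h] at hlt
          exact not_lt_bot hlt
        have hcard : Nat.card D < Nat.card ((R : Subgroup G) ⊓ (P' : Subgroup G) : Subgroup G) := by
          by_contra hcon
          push Not at hcon
          exact hlt.ne (Subgroup.eq_of_le_of_card_ge hlt.le hcon)
        have hcardG : Nat.card ((R : Subgroup G) ⊓ (P' : Subgroup G) : Subgroup G) ≤ Nat.card G :=
          Subgroup.card_le_card_group _
        refine ih (Nat.card G - Nat.card ((R : Subgroup G) ⊓ (P' : Subgroup G) : Subgroup G)) ?_ R P' hne hne_bot rfl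
        rw [← hn]
        omega
      exact hPQ ((hbig P hDP).symm.trans (hbig Q hDQ))
  have hTI : ∀ P Q : Sylow p G, P ≠ Q → (P : Subgroup G) ⊓ (Q : Subgroup G) = ⊥ := by
    intro P Q hPQ
    by_contra h
    exact key _ P Q hPQ h rfl
  refine ⟨hTI, ?_⟩
  intro P R hRP hR g hg
  refine Sylow.smul_eq_iff_mem_normalizer.mp ?_
  by_contra hne
  have := hTI (g • P) P hne
  apply hR
  rw [eq_bot_iff, ← this]
  refine le_inf ?_ hRP
  intro x hx
  rw [Sylow.coe_subgroup_smul, Subgroup.mem_pointwise_smul_iff_inv_smul_mem]
  apply hRP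
  have hg' : g⁻¹ ∈ Subgroup.normalizer (R : Set G) := Subgroup.inv_mem _ hg
  rw [Subgroup.mem_normalizer_iff] at hg'
  have := (hg' x).mp hx
  simpa [MulAut.smul_def] using this

end Cfsg.Agent.S3870
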