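import Mathlib
import Cfsg.Statements.S3873
import Cfsg.Prelude.Def_LocalStructure
import Cfsg.Prelude.Def_Transfer
import Cfsg.Agent.S3868
import Cfsg.Agent.Lib.Helper1.MinNormal
import Cfsg.Agent.Lib.Helper22.Basic

set_option autoImplicit false
open Cfsg

namespace Cfsg.Agent.S3873

open scoped Pointwise

/-- if the elements with `g ^ p = 1` form a subgroup and every `p`-element has `g ^ p = 1`, then `K` is `p`-closed. -/
lemma isPClosed_of_exp {p : ℕ} [Fact p.Prime] (K : Type*) [Group K]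
    (hK : ∃ H : Subgroup K, (H : Set K) = {g : K | g ^ p = 1})
    (hexp : ∀ s : K, (∃ k : ℕ, s ^ p ^ k = 1) → s ^ p = 1) : Cfsg.IsPClosed p K := by
  obtain ⟨H, hH⟩ := hK
  intro S
  have hmem : ∀ g : K, g ∈ H ↔ g ^ p = 1 := fun g => by
    have : g ∈ (H : Set K) ↔ g ∈ {g : K | g ^ p = 1} := by rw [hH]
    exact this
  have hHp : IsPGroup p H := fun g => ⟨1, by
    have := (hmem g).mp g.2
    ext; simpa using this⟩
  have hSH : (S : Subgroup K) ≤ H := fun s hs => by
    rw [hmem]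
    obtain ⟨k, hk⟩ := S.2 ⟨s, hs⟩
    exact hexp s ⟨k, by simpa using congrArg Subtype.val hk⟩
  have : H = S := S.is_maximal' hHp hSH
  rw [← this]
  refine ⟨fun n hn g => ?_⟩
  rw [hmem] at hn ⊢
  rw [conj_pow, hn, mul_one, mul_inv_cancel]

theorem result {G : Type*} [Group G] [Finite G] {p : ℕ} [Fact p.Prime]
    (hnc : ¬ (∃ H : Subgroup G, (H : Set G) = {g : G | g ^ p = 1})) (hsub : ∀ K : Subgroup G, K ≠ ⊤ → (∃ H : Subgroup ↥K, (H : Set ↥K) = {g : ↥K | g ^ p = 1}))
    (hquo : ∀ (N : Subgroup G) [N.Normal], N ≠ ⊥ → (∃ H : Subgroup (G ⧸ N), (H : Set (G ⧸ N)) = {g : (G ⧸ N) | g ^ p = 1}))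
    (hns : ¬ IsSimpleGroup G) (hnp : ¬ IsPGroup p G) :
    ∃ q : ℕ, q.Prime ∧ q ≠ p ∧ Nat.card G = p * q ^ orderOf (q : ZMod p) ∧
      ∃ A : Subgroup G, A.Normal ∧ Nat.card ↥A = q ^ orderOf (q : ZMod p) ∧ Cfsg.IsElementaryAbelian q A ∧
        ∀ B : Subgroup G, B.Normal → B ≤ A → B = ⊥ ∨ B = A := by
  classical
  have hp : p.Prime := Fact.out
  -- Step A: a, b
  obtain ⟨a, b, ha, hb, hab⟩ : ∃ a b : G, a ^ p = 1 ∧ b ^ p = 1 ∧ (a * b) ^ p ≠ 1 := by
    by_contra hcon
    push Not at hcon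
    apply hnc
    refine ⟨{ carrier := {g : G | g ^ p = 1}
              mul_mem' := fun {x y} hx hy => hcon x y hx hy
              one_mem' := one_pow p
              inv_mem' := fun {x} hx => by
                show (x⁻¹) ^ p = 1
                rw [inv_pow, show x ^ p = 1 from hx, inv_one] }, rfl⟩
  -- Step B: generation
  have hgen : Subgroup.closure ({a, b} : Set G) = ⊤ := by
    by_contra hne
    obtain ⟨H, hH⟩ := hsub _ hne
    have haK : a ∈ Subgroup.closure ({a, b} : Set G) := Subgroup.subset_closure (by simp)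
    have hbK : b ∈ Subgroup.closure ({a, b} : Set G) := Subgroup.subset_closure (by simp)
    have hmem : ∀ g : ↥(Subgroup.closure ({a, b} : Set G)), g ∈ H ↔ g ^ p = 1 := fun g => by
      have : g ∈ (H : Set _) ↔ g ∈ {g : ↥(Subgroup.closure ({a, b} : Set G)) | g ^ p = 1} := by rw [hH]
      exact this
    have h1 : (⟨a, haK⟩ : ↥(Subgroup.closure ({a, b} : Set G))) ∈ H := by
      rw [hmem]; ext; simpa using ha
    have h2 : (⟨b, hbK⟩ : ↥(Subgroup.closure ({a, b} : Set G))) ∈ H := by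
      rw [hmem]; ext; simpa using hb
    have h3 := H.mul_mem h1 h2
    rw [hmem] at h3
    apply hab
    simpa using congrArg Subtype.val h3
  -- Step C: proper quotients have exponent p
  have hpow : ∀ (M : Subgroup G) [M.Normal], M ≠ ⊥ → ∀ g : G, g ^ p ∈ M := by
    intro M hMn hM g
    obtain ⟨H, hH⟩ := hquo M hM
    have hmem : ∀ g : G ⧸ M, g ∈ H ↔ g ^ p = 1 := fun g => by
      have : g ∈ (H : Set _) ↔ g ∈ {g : G ⧸ M | g ^ p = 1} := by rw [hH]
      exact this
    have hcomap : H.comap (QuotientGroup.mk' M) = ⊤ := by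
      rw [eq_top_iff, ← hgen, Subgroup.closure_le]
      rintro x (rfl | rfl)
      · show QuotientGroup.mk' M x ∈ H
        rw [hmem, ← map_pow, ha, map_one]
      · show QuotientGroup.mk' M x ∈ H
        rw [hmem, ← map_pow, hb, map_one]
    have hg : QuotientGroup.mk' M g ∈ H := by
      have : g ∈ H.comap (QuotientGroup.mk' M) := by rw [hcomap]; trivial
      exact this
    rw [hmem, ← map_pow] at hg
    exact (QuotientGroup.eq_one_iff _).mp hg
  haveI : Nontrivial G := by
    by_contra h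
    rw [not_nontrivial_iff_subsingleton] at h
    exact hab (Subsingleton.elim _ _)
  obtain ⟨N, hNn, hNbot, hNmin⟩ := Cfsg.Agent.Lib.Helper1.exists_minimal_normal (G := G)
  haveI := hNn
  have hNtop : N ≠ ⊤ := by
    intro h
    apply hns
    refine ⟨fun H hH => ?_⟩
    rcases hNmin H hH (h ▸ le_top) with h1 | h1
    · exact Or.inl h1
    · exact Or.inr (h1.trans h)
  -- Step E: p ∤ |N|
  have hpN : ¬ p ∣ Nat.card N := by
    intro hdvd
    obtain ⟨H, hH⟩ := hsub N hNtop
    have hmem : ∀ g : N, g ∈ H ↔ g ^ p = 1 := fun g => by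
      have : g ∈ (H : Set _) ↔ g ∈ {g : N | g ^ p = 1} := by rw [hH]
      exact this
    have hWn : (H.map N.subtype).Normal := by
      refine ⟨fun n hn g => ?_⟩
      obtain ⟨w, hw, rfl⟩ := hn
      refine ⟨⟨g * w * g⁻¹, hNn.conj_mem _ w.2 g⟩, ?_, rfl⟩
      have hw : w ∈ H := hw
      show (⟨g * w * g⁻¹, hNn.conj_mem _ w.2 g⟩ : N) ∈ H
      rw [hmem] at hw ⊢
      ext
      have hw' : (w : G) ^ p = 1 := by simpa using congrArg Subtype.val hw
      simp only [SubgroupClass.coe_pow, OneMemClass.coe_one]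
      rw [conj_pow, hw', mul_one, mul_inv_cancel]
    have hWN : H.map N.subtype ≤ N := by rintro _ ⟨x, _, rfl⟩; exact x.2
    obtain ⟨x, hx⟩ := exists_prime_orderOf_dvd_card' p hdvd
    rcases hNmin _ hWn hWN with h1 | h1
    · rw [Subgroup.map_eq_bot_iff_of_injective _ N.subtype_injective] at h1
      have hxH : x ∈ H := by rw [hmem, ← hx]; exact pow_orderOf_eq_one x
      rw [h1, Subgroup.mem_bot] at hxH
      rw [hxH, orderOf_one] at hx
      exact hp.one_lt.ne hx
    · apply hnp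
      intro g
      refine ⟨2, ?_⟩
      have hgN : g ^ p ∈ H.map N.subtype := by rw [h1]; exact hpow N hNbot g
      obtain ⟨w, hw, hwg⟩ := hgN
      have hw : w ∈ H := hw
      rw [hmem] at hw
      have hw' : (w : G) ^ p = 1 := by simpa using congrArg Subtype.val hw
      rw [pow_two, pow_mul]
      rw [← hwg]; exact hw'
  -- Step 4: p-elements have exponent p
  have hexp : ∀ s : G, (∃ k : ℕ, s ^ p ^ k = 1) → s ^ p = 1 := by
    rintro s ⟨k, hk⟩
    have h1 : s ^ p ∈ N := hpow N hNbot s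
    have hd1 : orderOf (s ^ p) ∣ p ^ k := by
      apply orderOf_dvd_of_pow_eq_one
      rw [← pow_mul, mul_comm, pow_mul, hk, one_pow]
    have hd2 : orderOf (s ^ p) ∣ Nat.card N := by
      have := orderOf_dvd_natCard (⟨_, h1⟩ : N)
      rwa [Subgroup.orderOf_mk] at this
    have hcop : (p ^ k).Coprime (Nat.card N) :=
      Nat.Coprime.pow_left _ ((Nat.Prime.coprime_iff_not_dvd hp).mpr hpN)
    exact orderOf_eq_one_iff.mp (Nat.eq_one_of_dvd_coprimes hcop hd1 hd2)
  -- hypotheses of S3868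
  have hsub' : ∀ K : Subgroup G, K ≠ ⊤ → Cfsg.IsPClosed p ↥K := by
    intro K hK
    apply isPClosed_of_exp (p := p) ↥K (hsub K hK)
    rintro s ⟨k, hk⟩
    have := hexp (s : G) ⟨k, by simpa using congrArg Subtype.val hk⟩
    ext; simpa using this
  have hquo' : ∀ (M : Subgroup G) [M.Normal], M ≠ ⊥ → Cfsg.IsPClosed p (G ⧸ M) := by
    intro M hMn hM S
    have hpg : IsPGroup p (G ⧸ M) := by
      intro g
      obtain ⟨x, rfl⟩ := QuotientGroup.mk'_surjective M g
      refine ⟨1, ?_⟩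
      rw [pow_one, ← map_pow]
      exact (QuotientGroup.eq_one_iff _).mpr (hpow M hM x)
    have : (⊤ : Subgroup (G ⧸ M)) = S := S.is_maximal' (hpg.to_subgroup ⊤) le_top
    rw [← this]; infer_instance
  have hnc' : ¬ Cfsg.IsPClosed p G := by
    intro hcl
    apply hnc
    let P : Sylow p G := default
    have hPn : (P : Subgroup G).Normal := hcl P
    refine ⟨(P : Subgroup G), ?_⟩
    ext g
    constructor
    · intro hg
      obtain ⟨k, hk⟩ := P.2 ⟨g, hg⟩
      exact hexp g ⟨k, by simpa using congrArg Subtype.val hk⟩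
    · intro hg
      have hg' : g ^ p = 1 := hg
      have hord : orderOf g ∣ p ^ 1 := by rw [pow_one]; exact orderOf_dvd_of_pow_eq_one hg'
      obtain ⟨j, _, hj⟩ := (Nat.dvd_prime_pow hp).mp hord
      exact Cfsg.Agent.Lib.Helper22.mem_sylow_of_normal p P hPn g j hj
  exact Cfsg.Agent.S3868.result hnc' hsub' hquo' hns

end Cfsg.Agent.S3873
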