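import Mathlib
import Cfsg.Statements.S3878
import Cfsg.Agent.Lib.Helper21.HallPSL

set_option autoImplicit false
open Cfsg

namespace Cfsg.Agent.S3878

open Cfsg.Agent.Lib.Helper21.HallPSL

theorem isPiSubgroup_bot {G : Type*} [Group G] (π : Set ℕ) : IsPiSubgroup π (⊥ : Subgroup G) := by
  intro p hp hd
  rw [Subgroup.card_bot] at hd
  exact absurd (Nat.dvd_one.mp hd) hp.one_lt.ne'

theorem isPiSubgroup_sylow {G : Type*} [Group G] [Finite G] (π : Set ℕ) {p : ℕ} [hp : Fact p.Prime]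
    (hpπ : p ∈ π) (P : Sylow p G) : IsPiSubgroup π (P : Subgroup G) := by
  intro q hq hd
  obtain ⟨k, hk⟩ := IsPGroup.iff_card.mp P.2
  rw [hk] at hd
  have h1 := hq.dvd_of_dvd_pow hd
  rw [(Nat.prime_dvd_prime_iff_eq hq hp.out).mp h1]
  exact hpπ

theorem dpi_imp_epi {G : Type*} [Group G] [Finite G] (π : Set ℕ) (h : IsDPiGroup π G) :
    IsEPiGroup π G := by
  obtain ⟨M₀, -, hM₀⟩ := Finite.exists_le_maximal (isPiSubgroup_bot (G := G) π)
  refine ⟨M₀, hM₀.prop, ?_⟩
  intro p hp hpπ hdvd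
  haveI : Fact p.Prime := ⟨hp⟩
  obtain ⟨P⟩ : Nonempty (Sylow p G) := inferInstance
  obtain ⟨M, hPM, hM⟩ := Finite.exists_le_maximal (isPiSubgroup_sylow π hpπ P)
  obtain ⟨g, hg⟩ := h M₀ M hM₀ hM
  have hcard : Nat.card M = Nat.card M₀ := by
    rw [hg, Subgroup.card_map_of_injective (MulAut.conj g).injective]
  have h1 : Nat.card (P : Subgroup G) ∣ Nat.card M₀ := hcard ▸ Subgroup.card_dvd_of_le hPM
  rw [Sylow.card_eq_multiplicity] at h1
  have h2 : p ^ ((Nat.card G).factorization p + 1) ∣ Nat.card G := by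
    have h3 := Nat.mul_dvd_mul h1 hdvd
    rw [Subgroup.card_mul_index] at h3
    rw [pow_succ]
    exact h3
  exact Nat.pow_succ_factorization_not_dvd Nat.card_pos.ne' hp h2

theorem dpi_of_trivial (π : Set ℕ)
    (hπ : (∀ p q : ℕ, p.Prime → q.Prime → p ∈ π → q ∈ π → p = q) ∨ ∀ p : ℕ, p.Prime → p ∈ π)
    (G : Type) [Group G] [Finite G] : IsDPiGroup π G := by
  intro H K hH hK
  rcases hπ with hπ | hπ
  · by_cases hex : ∃ p, p.Prime ∧ p ∈ π
    · obtain ⟨p, hp, hpπ⟩ := hex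
      haveI : Fact p.Prime := ⟨hp⟩
      have hpg : ∀ L : Subgroup G, IsPiSubgroup π L → IsPGroup p L := by
        intro L hL
        have h1 := Nat.eq_prime_pow_of_unique_prime_dvd (n := Nat.card L) (p := p)
          Nat.card_pos.ne' (fun {d} hd hdd => hπ d p hd hp (hL d hd hdd) hpπ)
        exact IsPGroup.of_card h1
      have hsyl : ∀ L : Subgroup G, Maximal (IsPiSubgroup π) L → ∃ P : Sylow p G, L = P := by
        intro L hL
        obtain ⟨P, hP⟩ := (hpg L hL.prop).exists_le_sylow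
        exact ⟨P, le_antisymm hP (hL.2 (isPiSubgroup_sylow π hpπ P) hP)⟩
      obtain ⟨P, rfl⟩ := hsyl H hH
      obtain ⟨Q, rfl⟩ := hsyl K hK
      obtain ⟨g, hg⟩ := MulAction.exists_smul_eq G P Q
      refine ⟨g, ?_⟩
      rw [← hg, Sylow.coe_subgroup_smul]
      rfl
    · have hbot : ∀ L : Subgroup G, IsPiSubgroup π L → L = ⊥ := by
        intro L hL
        rw [← Subgroup.card_eq_one]
        by_contra h1
        obtain ⟨p, hp, hd⟩ := Nat.exists_prime_and_dvd h1
        exact hex ⟨p, hp, hL p hp hd⟩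
      refine ⟨1, ?_⟩
      rw [hbot H hH.prop, hbot K hK.prop, Subgroup.map_bot]
  · have htop : ∀ L : Subgroup G, Maximal (IsPiSubgroup π) L → L = ⊤ := by
      intro L hL
      exact top_le_iff.mp (hL.2 (fun p hp _ => hπ p hp) le_top)
    refine ⟨1, ?_⟩
    rw [htop H hH, htop K hK]
    exact (Subgroup.map_top_of_surjective _ (MulAut.conj (1 : G)).surjective).symm

theorem exists_counterexample (π : Set ℕ)
    (hn : ¬ ((∀ p q : ℕ, p.Prime → q.Prime → p ∈ π → q ∈ π → p = q) ∨ ∀ p : ℕ, p.Prime → p ∈ π)) :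
    ∃ (G : Type) (_ : Group G) (_ : Finite G), ¬ IsEPiGroup π G := by
  push Not at hn
  obtain ⟨⟨p, q, hp, hq, hpπ, hqπ, hpq⟩, ⟨r, hr, hrπ⟩⟩ := hn
  by_cases h2 : 2 ∈ π
  · by_cases hp2 : p = 2
    · exact no_hall_even π q r hq hr (fun h => hpq (hp2.trans h.symm)) h2 hqπ hrπ
    · exact no_hall_even π p r hp hr hp2 h2 hpπ hrπ
  · exact no_hall_odd π p q hp hq hpq (fun h => h2 (h ▸ hpπ)) (fun h => h2 (h ▸ hqπ)) hpπ hqπ h2

/-- For a set of primes π the following are equivalent: every finite group has a Hall π-subgroup; in every finite group the maximal π-subgroups are pairwise conjugate; π contains at most one prime or contains every prime. -/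
theorem result (π : Set ℕ) :
    ((∀ (G : Type) [Group G] [Finite G], Cfsg.IsEPiGroup π G) ↔
      ((∀ p q : ℕ, p.Prime → q.Prime → p ∈ π → q ∈ π → p = q) ∨ ∀ p : ℕ, p.Prime → p ∈ π)) ∧
    ((∀ (G : Type) [Group G] [Finite G], Cfsg.IsDPiGroup π G) ↔
      ((∀ p q : ℕ, p.Prime → q.Prime → p ∈ π → q ∈ π → p = q) ∨ ∀ p : ℕ, p.Prime → p ∈ π)) := by
  constructor
  · constructor
    · intro h; by_contra hn
      obtain ⟨G, i1, i2, hG⟩ := exists_counterexample π hn
      exact hG (@h G i1 i2)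
    · intro hπ G _ _; exact dpi_imp_epi π (dpi_of_trivial π hπ G)
  · constructor
    · intro h; by_contra hn
      obtain ⟨G, i1, i2, hG⟩ := exists_counterexample π hn
      exact hG (dpi_imp_epi π (@h G i1 i2))
    · intro hπ G _ _; exact dpi_of_trivial π hπ G

end Cfsg.Agent.S3878
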