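import Cfsg.Statements.S3885
import Cfsg.Agent.Lib.Helper20.Metacyclic2
import Cfsg.Agent.Lib.Helper20.Metacyclic4

set_option autoImplicit false
open Cfsg

namespace Cfsg.Agent.S3885



/-- Let p be an odd prime and G a finite metacyclic p-group (G has a cyclic normal subgroup with cyclic quotient). Then every abelian subgroup K of G containing the center of G is the center of its own centralizer: K = Z(C_G(K)). -/
theorem result {G : Type*} [Group G] [Finite G] {p : ℕ} [Fact p.Prime] (hp : p ≠ 2) (hG : IsPGroup p G) (hmc : Cfsg.IsMetacyclic G) (K : Subgroup G) (hK : IsMulCommutative ↥K) (hZ : Subgroup.center G ≤ K) :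
    K = Subgroup.centralizer (K : Set G) ⊓ Subgroup.centralizer (Subgroup.centralizer (K : Set G) : Set G) := by
  obtain ⟨D⟩ := Cfsg.Agent.Lib.Helper20.exists_MC hG hmc
  set C := Subgroup.centralizer (K : Set G) with hC
  set A := C ⊓ Subgroup.centralizer (C : Set G) with hA
  have hKC : K ≤ C := by
    intro x hx
    rw [hC, Subgroup.mem_centralizer_iff]
    intro y hy
    have := hK.is_comm.comm (⟨y, hy⟩ : ↥K) ⟨x, hx⟩
    exact congrArg Subtype.val this
  have hKCC : K ≤ Subgroup.centralizer (C : Set G) := by
    rw [Subgroup.le_centralizer_iff]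
  have hKA : K ≤ A := le_inf hKC hKCC
  have hCA : Subgroup.centralizer (A : Set G) = C := by
    apply le_antisymm
    · exact Subgroup.centralizer_le hKA
    · rw [Subgroup.le_centralizer_iff]
      exact inf_le_right
  have h1 := D.card_mul_card_centralizer hp hG K hZ
  have h2 := D.card_mul_card_centralizer hp hG A (hZ.trans hKA)
  rw [hCA] at h2
  rw [← hC, ← h2] at h1
  have hpos : 0 < Nat.card ↥C := Nat.card_pos
  have h3 : Nat.card ↥K = Nat.card ↥A := Nat.eq_of_mul_eq_mul_right hpos h1
  exact Subgroup.eq_of_le_of_card_ge hKA h3.ge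

end Cfsg.Agent.S3885
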