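import Cfsg.Statements.S3886
import Cfsg.Agent.Lib.Helper20.Metacyclic2

set_option autoImplicit false
open Cfsg

namespace Cfsg.Agent.S3886



/-- Let p be an odd prime and G a finite metacyclic p-group (G has a cyclic normal subgroup with cyclic quotient). Then the largest value of |R| · |Z(R)| over subgroups R of G is |G : G'|², and the subgroups attaining it (the centrally large subgroups) are exactly the non-abelian subgroups together with the maximal abelian subgroups of G. -/
theorem result {G : Type*} [Group G] [Finite G] {p : ℕ} [Fact p.Prime] (hp : p ≠ 2) (hG : IsPGroup p G) (hmc : Cfsg.IsMetacyclic G) : Cfsg.maxCentralProduct G = (commutator G).index ^ 2 ∧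
    ∀ R : Subgroup G, Cfsg.IsCentrallyLarge R ↔ (¬ IsMulCommutative ↥R ∨ Maximal (fun K : Subgroup G => IsMulCommutative ↥K) R) := by
  classical
  obtain ⟨D⟩ := Cfsg.Agent.Lib.Helper20.exists_MC hG hmc
  set idx := (commutator G).index with hidx
  have hf : ∀ R : Subgroup G, Nat.card ↥R * Nat.card ↥(Subgroup.center ↥R) ≤ idx ^ 2 ∧
      (Nat.card ↥R * Nat.card ↥(Subgroup.center ↥R) = idx ^ 2 ↔
        (¬ IsMulCommutative ↥R ∨ Maximal (fun K : Subgroup G => IsMulCommutative ↥K) R)) := by
    intro R
    by_cases hR : IsMulCommutative ↥R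
    · rw [Cfsg.Agent.Lib.Helper20.MC.central_product_of_comm R hR]
      have hle := (D.sub_comm_iff hp hG R).mp hR
      refine ⟨Nat.pow_le_pow_left hle 2, ?_⟩
      rw [D.sub_maximal_iff hp hG R]
      constructor
      · intro h
        right
        exact Nat.pow_left_injective (n := 2) (by norm_num) h
      · rintro (h | h)
        · exact absurd hR h
        · rw [h]
    · have := D.central_product_of_not_comm hp hG R hR
      rw [this]
      exact ⟨le_refl _, ⟨fun _ => Or.inl hR, fun _ => rfl⟩⟩
  have hmax : Cfsg.maxCentralProduct G = idx ^ 2 := by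
    unfold Cfsg.maxCentralProduct
    apply IsGreatest.csSup_eq
    constructor
    · -- attained by `⊤`
      refine ⟨⊤, ?_⟩
      by_cases hT : IsMulCommutative ↥(⊤ : Subgroup G)
      · rw [Cfsg.Agent.Lib.Helper20.MC.central_product_of_comm _ hT]
        have hle := (D.sub_comm_iff hp hG ⊤).mp hT
        rw [Subgroup.card_top] at hle ⊢
        have hge : idx ≤ Nat.card G := Nat.le_of_dvd Nat.card_pos (Subgroup.index_dvd_card _)
        rw [le_antisymm hle hge]
      · exact D.central_product_of_not_comm hp hG ⊤ hT
    · rintro k ⟨R, rfl⟩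
      exact (hf R).1
  refine ⟨hmax, fun R => ?_⟩
  unfold Cfsg.IsCentrallyLarge
  rw [hmax]
  exact (hf R).2

end Cfsg.Agent.S3886
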