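import Cfsg.Statements.S3889

set_option autoImplicit false
open Cfsg

namespace Cfsg.Agent.S3889

theorem result {G : Type*} [CommGroup G] [Finite G] (𝓑 : Set (Subgroup G)) (hprop : ∀ B ∈ 𝓑, B ≠ ⊤)
    (hcov : ∀ g : G, ∃ B ∈ 𝓑, g ∈ B) (hdisj : ∀ B ∈ 𝓑, ∀ C ∈ 𝓑, B ≠ C → B ⊓ C = ⊥) :
    (Monoid.exponent G).Prime := by
  have key : ∀ A ∈ 𝓑, ∀ B ∈ 𝓑, A ≠ B → ∀ a ∈ A, ∀ b ∈ B, a ≠ 1 → b ^ orderOf a = 1 := by
    intro A hA B hB hAB a ha b hb ha1
    by_contra hbm
    obtain ⟨C, hC, habC⟩ := hcov (a * b)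
    have h1 : (a * b) ^ orderOf a = b ^ orderOf a := by
      rw [mul_pow, pow_orderOf_eq_one, one_mul]
    have h2 : b ^ orderOf a ∈ C := by
      rw [← h1]; exact C.pow_mem habC _
    have h3 : b ^ orderOf a ∈ B := B.pow_mem hb _
    have hBC : B = C := by
      by_contra hne
      have := hdisj B hB C hC hne
      have hmem : b ^ orderOf a ∈ B ⊓ C := ⟨h3, h2⟩
      rw [this, Subgroup.mem_bot] at hmem
      exact hbm hmem
    subst hBC
    have haB : a ∈ B := by
      have : a = (a * b) * b⁻¹ := by simp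
      rw [this]
      exact B.mul_mem habC (B.inv_mem hb)
    have hmem : a ∈ A ⊓ B := ⟨ha, haB⟩
    rw [hdisj A hA B hB hAB, Subgroup.mem_bot] at hmem
    exact ha1 hmem
  have keyeq : ∀ A ∈ 𝓑, ∀ B ∈ 𝓑, A ≠ B → ∀ a ∈ A, ∀ b ∈ B, a ≠ 1 → b ≠ 1 → orderOf a = orderOf b := by
    intro A hA B hB hAB a ha b hb ha1 hb1
    apply Nat.dvd_antisymm
    · exact orderOf_dvd_of_pow_eq_one (key B hB A hA (Ne.symm hAB) b hb a ha hb1)
    · exact orderOf_dvd_of_pow_eq_one (key A hA B hB hAB a ha b hb ha1)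
  have exOut : ∀ A ∈ 𝓑, ∃ y : G, y ∉ A := by
    intro A hA
    by_contra hcon
    push Not at hcon
    exact hprop A hA (eq_top_iff.mpr (fun x _ => hcon x))
  obtain ⟨B0, hB0, _⟩ := hcov 1
  obtain ⟨g0, hg0⟩ := exOut B0 hB0
  have hg01 : g0 ≠ 1 := by
    rintro rfl
    exact hg0 B0.one_mem
  obtain ⟨A0, hA0, hg0A0⟩ := hcov g0
  have hall : ∀ x : G, x ≠ 1 → orderOf x = orderOf g0 := by
    intro x hx
    obtain ⟨B, hB, hxB⟩ := hcov x
    by_cases hBA : B = A0
    · subst hBA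
      obtain ⟨y, hy⟩ := exOut B hB
      have hy1 : y ≠ 1 := by
        rintro rfl
        exact hy B.one_mem
      obtain ⟨C, hC, hyC⟩ := hcov y
      have hCB : C ≠ B := by
        rintro rfl
        exact hy hyC
      rw [keyeq B hB C hC (Ne.symm hCB) x hxB y hyC hx hy1,
        keyeq B hB C hC (Ne.symm hCB) g0 hg0A0 y hyC hg01 hy1]
    · exact keyeq B hB A0 hA0 hBA x hxB g0 hg0A0 hx hg01
  have hn1 : orderOf g0 ≠ 1 := by
    intro h
    exact hg01 (orderOf_eq_one_iff.mp h)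
  have hprime : (orderOf g0).Prime := by
    set n := orderOf g0 with hn
    obtain ⟨q, hq, k, hk⟩ : ∃ q : ℕ, q.Prime ∧ ∃ k : ℕ, n = q * k :=
      ⟨n.minFac, Nat.minFac_prime hn1, Nat.minFac_dvd n⟩
    have hnpos : 0 < n := orderOf_pos g0
    have hkpos : 0 < k := by
      rcases Nat.eq_zero_or_pos k with h0 | h0
      · rw [h0, mul_zero] at hk; omega
      · exact h0
    have hord : orderOf (g0 ^ k) = q := by
      rw [orderOf_pow' g0 hkpos.ne', ← hn]
      have : Nat.gcd n k = k := Nat.gcd_eq_right ⟨q, by rw [hk, mul_comm]⟩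
      rw [this, hk]
      exact Nat.mul_div_cancel _ hkpos
    have hne1 : g0 ^ k ≠ 1 := by
      intro h1
      rw [h1, orderOf_one] at hord
      exact hq.one_lt.ne hord
    have := hall (g0 ^ k) hne1
    rw [hord] at this
    rw [← this]
    exact hq
  have hexp : Monoid.exponent G = orderOf g0 := by
    apply Nat.dvd_antisymm
    · apply Monoid.exponent_dvd_of_forall_pow_eq_one
      intro x
      by_cases hx : x = 1
      · rw [hx, one_pow]
      · rw [← hall x hx, pow_orderOf_eq_one]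
    · exact Monoid.order_dvd_exponent g0
  rw [hexp]
  exact hprime

end Cfsg.Agent.S3889
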