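import Mathlib
import Cfsg.Statements.S3890
import Cfsg.Agent.Lib.helper17.NilCover

set_option autoImplicit false
open Cfsg

namespace Cfsg.Agent.S3890

open Cfsg.Agent.Lib.helper17.NilCover

/-- A cover of a group is a finite set of proper subgroups whose union is the whole group; it is minimal when no cover has fewer members, and nilpotent when all its members are nilpotent. Let G be a finite group with trivial center admitting a nilpotent minimal cover 𝓐, and let P be an abelian Sylow p-subgroup of G that is not normal. Then either P is elementary abelian of order greater than p, or P is a Sylow p-subgroup of some member A of 𝓐, the normalizer N of P is a maximal subgroup of G, N meets each of its conjugates by elements outside N in a subgroup of order prime to p, and the centralizer of P equals A. -/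
theorem result {G : Type*} [Group G] [Finite G] (hZ : Subgroup.center G = ⊥) (𝓐 : Finset (Subgroup G))
    (h𝓐 : ((∀ A ∈ 𝓐, A ≠ ⊤) ∧ (∀ g : G, ∃ A ∈ 𝓐, g ∈ A)) ∧ (∀ 𝓑 : Finset (Subgroup G), (∀ A ∈ 𝓑, A ≠ ⊤) ∧ (∀ g : G, ∃ A ∈ 𝓑, g ∈ A) → 𝓐.card ≤ 𝓑.card) ∧ (∀ A ∈ 𝓐, Group.IsNilpotent ↥A)) {p : ℕ} [Fact p.Prime] (P : Sylow p G) (hab : IsMulCommutative ↥(P : Subgroup G))
    (hnn : ¬ (P : Subgroup G).Normal) :
    (Cfsg.IsElementaryAbelian p (P : Subgroup G) ∧ p < Nat.card ↥(P : Subgroup G)) ∨
    (∃ A ∈ 𝓐, (P : Subgroup G) ≤ A ∧ ¬ p ∣ ((P : Subgroup G).subgroupOf A).index ∧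
      IsCoatom (Subgroup.normalizer ((P : Subgroup G) : Set G)) ∧
      (∀ g : G, g ∉ Subgroup.normalizer ((P : Subgroup G) : Set G) →
        ¬ p ∣ Nat.card ↥(Subgroup.normalizer ((P : Subgroup G) : Set G) ⊓
          (Subgroup.normalizer ((P : Subgroup G) : Set G)).map (MulAut.conj g).toMonoidHom)) ∧
      Subgroup.centralizer ((P : Subgroup G) : Set G) = A) := by
  by_cases hfirst : Cfsg.IsElementaryAbelian p (P : Subgroup G) ∧ p < Nat.card ↥(P : Subgroup G)
  · exact Or.inl hfirst
  right
  have hp : p.Prime := Fact.out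
  have hcomm := comm_of_isMulCommutative (P : Subgroup G) hab
  have hPbot : (P : Subgroup G) ≠ ⊥ := by
    intro hb
    apply hnn
    rw [hb]
    infer_instance
  have hshape : (∃ x ∈ (P : Subgroup G), ∀ y ∈ (P : Subgroup G), y ∈ Subgroup.zpowers x) ∨
      (∃ x ∈ (P : Subgroup G), x ^ p ≠ 1) := by
    by_cases hel : Cfsg.IsElementaryAbelian p (P : Subgroup G)
    · left
      have hle : Nat.card ↥(P : Subgroup G) ≤ p := by
        by_contra hlt
        exact hfirst ⟨hel, not_le.mp hlt⟩
      obtain ⟨n, hn⟩ := IsPGroup.iff_card.mp P.isPGroup'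
      have hn0 : n ≠ 0 := by
        intro h0
        rw [h0, pow_zero] at hn
        exact hPbot ((Subgroup.card_eq_one).mp hn)
      have hcard : Nat.card ↥(P : Subgroup G) = p := by
        apply le_antisymm hle
        rw [hn]
        calc p = p ^ 1 := (pow_one p).symm
          _ ≤ p ^ n := Nat.pow_le_pow_right hp.pos (Nat.one_le_iff_ne_zero.mpr hn0)
      have hcyc : IsCyclic ↥(P : Subgroup G) := isCyclic_of_prime_card hcard
      exact (shape_of_isCyclic (P : Subgroup G) hcyc).2
    · right
      by_contra hno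
      apply hel
      refine ⟨hab, ?_⟩
      intro a ha
      by_contra hap
      exact hno ⟨a, ha, hap⟩
  have hS : Setting G 𝓐 p := Setting.of_sylow hZ 𝓐 h𝓐 P hcomm hnn hshape
  obtain ⟨A, hA, hCA⟩ := hS.centralizer_mem P
  have hPA : (P : Subgroup G) ≤ A := by
    rw [← hCA]
    intro y hy
    rw [Subgroup.mem_centralizer_iff]
    intro z hz
    exact hcomm z hz y hy
  refine ⟨A, hA, hPA, ?_, hS.normalizer_isCoatom P hnn, fun g hg => hS.ti P g hg, hCA⟩
  intro hdvd
  have h1 : ((P : Subgroup G).subgroupOf A).index = (P : Subgroup G).relIndex A := rfl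
  rw [h1] at hdvd
  have h2 := Subgroup.relIndex_mul_index hPA
  exact P.not_dvd_index (h2 ▸ Dvd.dvd.mul_right hdvd _)

end Cfsg.Agent.S3890
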