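import Mathlib
import Cfsg.Statements.S3891
import Cfsg.Agent.Lib.helper17.NilCover

set_option autoImplicit false
open Cfsg

namespace Cfsg.Agent.S3891

open Cfsg.Agent.Lib.helper17.NilCover

/-- A cover of a group is a finite set of proper subgroups whose union is the whole group; it is minimal when no cover has fewer members, and nilpotent when all its members are nilpotent. Let G be a finite group with trivial center admitting a nilpotent minimal cover, and let P be a non-normal Sylow p-subgroup of G that is cyclic, or abelian but not elementary abelian. Then the centralizer of P is nilpotent and the normalizer of P is the unique maximal subgroup of G containing the centralizer of P. -/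
theorem result {G : Type*} [Group G] [Finite G] (hZ : Subgroup.center G = ⊥) (𝓐 : Finset (Subgroup G))
    (h𝓐 : ((∀ A ∈ 𝓐, A ≠ ⊤) ∧ (∀ g : G, ∃ A ∈ 𝓐, g ∈ A)) ∧ (∀ 𝓑 : Finset (Subgroup G), (∀ A ∈ 𝓑, A ≠ ⊤) ∧ (∀ g : G, ∃ A ∈ 𝓑, g ∈ A) → 𝓐.card ≤ 𝓑.card) ∧ (∀ A ∈ 𝓐, Group.IsNilpotent ↥A)) {p : ℕ} [Fact p.Prime] (P : Sylow p G)
    (hP : IsCyclic ↥(P : Subgroup G) ∨ (IsMulCommutative ↥(P : Subgroup G) ∧ ¬ Cfsg.IsElementaryAbelian p (P : Subgroup G)))
    (hnn : ¬ (P : Subgroup G).Normal) :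
    Group.IsNilpotent ↥(Subgroup.centralizer ((P : Subgroup G) : Set G)) ∧
      IsCoatom (Subgroup.normalizer ((P : Subgroup G) : Set G)) ∧
      ∀ M : Subgroup G, IsCoatom M → Subgroup.centralizer ((P : Subgroup G) : Set G) ≤ M →
        M = Subgroup.normalizer ((P : Subgroup G) : Set G) := by
  have hdata : (∀ a ∈ (P : Subgroup G), ∀ b ∈ (P : Subgroup G), a * b = b * a) ∧
      ((∃ x ∈ (P : Subgroup G), ∀ y ∈ (P : Subgroup G), y ∈ Subgroup.zpowers x) ∨
      (∃ x ∈ (P : Subgroup G), x ^ p ≠ 1)) := by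
    rcases hP with hc | ⟨hab, hel⟩
    · exact ⟨(shape_of_isCyclic (P : Subgroup G) hc).1,
        Or.inl (shape_of_isCyclic (P : Subgroup G) hc).2⟩
    · refine ⟨comm_of_isMulCommutative (P : Subgroup G) hab, Or.inr ?_⟩
      by_contra hno
      apply hel
      refine ⟨hab, ?_⟩
      intro a ha
      by_contra hap
      exact hno ⟨a, ha, hap⟩
  have hS : Setting G 𝓐 p := Setting.of_sylow hZ 𝓐 h𝓐 P hdata.1 hnn hdata.2
  obtain ⟨A, hA, hCA⟩ := hS.centralizer_mem P
  refine ⟨?_, hS.normalizer_isCoatom P hnn, fun M hM hCM => hS.coatom_unique P hnn hM hCM⟩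
  rw [hCA]
  exact hS.nil A hA

end Cfsg.Agent.S3891
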