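import Mathlib
import Cfsg.Statements.S3908
import Cfsg.Agent.Lib.Helper1.TwoGroupUnique
import Cfsg.Agent.Lib.Helper29.OddCyclic

set_option autoImplicit false
open Cfsg

namespace Cfsg.Agent.S3908

open scoped Pointwise

section lemmaU
variable {Q : Type*} [Group Q] [Finite Q] {p : ℕ} [hp : Fact p.Prime]

/-- a `p`-group all of whose subgroups of order `p²` are cyclic has a unique subgroup of order `p` -/
theorem unique_of_sq_cyclic (hQ : IsPGroup p Q)
    (hcyc : ∀ B : Subgroup Q, Nat.card B = p ^ 2 → IsCyclic B) :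
    ∀ H K : Subgroup Q, Nat.card H = p → Nat.card K = p → H = K := by
  -- key: every subgroup of order p equals a fixed central one
  by_cases htriv : Nat.card Q = 1
  · intro H K hH _
    have h1 : Nat.card H ∣ Nat.card Q := Subgroup.card_subgroup_dvd_card H
    rw [hH, htriv] at h1
    exact absurd (Nat.le_of_dvd one_pos h1) (not_le.mpr hp.out.one_lt)
  haveI : Nontrivial Q := by
    rw [← Finite.one_lt_card_iff_nontrivial]
    have := Nat.card_pos (α := Q)
    omega
  have hcen : Nontrivial (Subgroup.center Q) := hQ.center_nontrivial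
  have hpc : p ∣ Nat.card (Subgroup.center Q) := by
    have hZp : IsPGroup p (Subgroup.center Q) := hQ.to_subgroup _
    rcases hZp.card_eq_or_dvd with h | h
    · exfalso
      have := Finite.one_lt_card_iff_nontrivial.mpr hcen
      omega
    · exact h
  obtain ⟨z, hz⟩ := exists_prime_orderOf_dvd_card' p hpc
  have hzo : orderOf (z : Q) = p := by rw [Subgroup.orderOf_coe]; exact hz
  set Z : Subgroup Q := Subgroup.zpowers (z : Q) with hZ
  have hZcard : Nat.card Z = p := by rw [Nat.card_zpowers, hzo]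
  have hZcen : ∀ u ∈ Z, ∀ x : Q, x * u = u * x := by
    intro u hu x
    have : u ∈ Subgroup.center Q := by
      have hle : Z ≤ Subgroup.center Q := by
        rw [hZ, Subgroup.zpowers_le]; exact z.2
      exact hle hu
    exact (Subgroup.mem_center_iff.mp this x)
  haveI hZn : Z.Normal := by
    constructor
    intro u hu x
    rw [hZcen u hu x, mul_inv_cancel_right]
    exact hu
  suffices key : ∀ H : Subgroup Q, Nat.card H = p → H = Z by
    intro H K hH hK
    rw [key H hH, key K hK]
  intro H hH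
  by_contra hne
  -- H ⊔ Z has order > p
  have hlt : H < H ⊔ Z := by
    refine lt_of_le_of_ne le_sup_left ?_
    intro heq
    have hZH : Z ≤ H := by rw [heq]; exact le_sup_right
    exact hne (Subgroup.eq_of_le_of_card_ge hZH (by rw [hH, hZcard])).symm
  have hcardlt : p < Nat.card (H ⊔ Z : Subgroup Q) := by
    by_contra hle
    push Not at hle
    have hle' : Nat.card (H ⊔ Z : Subgroup Q) ≤ Nat.card H := by rw [hH]; exact hle
    exact hlt.ne (Subgroup.eq_of_le_of_card_ge le_sup_left hle')
  have hJ : IsPGroup p (H ⊔ Z : Subgroup Q) := hQ.to_subgroup _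
  obtain ⟨j, hj⟩ := hJ.exists_card_eq
  have hj2 : 2 ≤ j := by
    by_contra hlt2
    push Not at hlt2
    have : p ^ j ≤ p ^ 1 := Nat.pow_le_pow_right hp.out.pos (by omega)
    rw [pow_one] at this
    omega
  have hdvd : p ^ 2 ∣ Nat.card (H ⊔ Z : Subgroup Q) := by
    rw [hj]; exact pow_dvd_pow p hj2
  obtain ⟨B', hB'⟩ := Sylow.exists_subgroup_card_pow_prime p hdvd
  -- B' as a subgroup of Q
  set B : Subgroup Q := B'.map (H ⊔ Z : Subgroup Q).subtype with hBdef
  have hBcard : Nat.card B = p ^ 2 := by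
    rw [hBdef, Subgroup.card_map_of_injective (Subgroup.subtype_injective _), hB']
  have hBle : B ≤ H ⊔ Z := by
    rintro _ ⟨b, -, rfl⟩
    exact b.2
  haveI := hcyc B hBcard
  obtain ⟨w, hw⟩ := IsCyclic.exists_generator (α := B)
  have hwo : orderOf w = p ^ 2 := by
    rw [orderOf_eq_card_of_forall_mem_zpowers hw, hBcard]
  have hwo' : orderOf (w : Q) = p ^ 2 := by rw [Subgroup.orderOf_coe]; exact hwo
  -- but every element of H ⊔ Z has p-th power 1
  have hwmem : (w : Q) ∈ H ⊔ Z := hBle w.2
  have hset : ((H ⊔ Z : Subgroup Q) : Set Q) = (H : Set Q) * (Z : Set Q) := Subgroup.mul_normal H Z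
  have hwmem' : (w : Q) ∈ (H : Set Q) * (Z : Set Q) := by rw [← hset]; exact hwmem
  obtain ⟨h, hhH, u, huZ, hhu⟩ := Set.mem_mul.mp hwmem'
  have hhp : h ^ p = 1 := by
    have : (⟨h, hhH⟩ : H) ^ p = 1 := by
      rw [← hH]; exact pow_card_eq_one'
    exact congrArg Subtype.val this
  have hup : u ^ p = 1 := by
    have : (⟨u, huZ⟩ : Z) ^ p = 1 := by
      rw [← hZcard]; exact pow_card_eq_one'
    exact congrArg Subtype.val this
  have hcomm : Commute h u := hZcen u huZ h
  have hwp : (w : Q) ^ p = 1 := by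
    rw [← hhu, hcomm.mul_pow, hhp, hup, one_mul]
  have := orderOf_dvd_of_pow_eq_one hwp
  rw [hwo'] at this
  have h2 : p ^ 2 ≤ p := Nat.le_of_dvd hp.out.pos this
  have h3 : p < p ^ 2 := by
    rw [pow_two]
    exact lt_mul_self hp.out.one_lt
  omega

end lemmaU

section main
variable {G : Type*} [Group G] [Finite G]

/-- dichotomy: exponent `p` or unique subgroup of order `p` -/
theorem dichotomy (hB : ∀ A B : Subgroup G, IsMulCommutative ↥A → IsMulCommutative ↥B →
      Nat.card ↥A = Nat.card ↥B → ∃ g : G, B = A.map (MulAut.conj g).toMonoidHom)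
    (p : ℕ) [hp : Fact p.Prime] (P : Sylow p G) :
    (∀ x ∈ (P : Subgroup G), x ^ p = 1) ∨
    (∀ H K : Subgroup ↥(P : Subgroup G), Nat.card H = p → Nat.card K = p → H = K) := by
  by_cases hexp : ∀ x ∈ (P : Subgroup G), x ^ p = 1
  · exact Or.inl hexp
  right
  push Not at hexp
  obtain ⟨x, hxP, hxp⟩ := hexp
  -- an element of order p²
  have hPp : IsPGroup p (P : Subgroup G) := P.isPGroup'
  obtain ⟨k, hk⟩ := (IsPGroup.iff_orderOf.mp hPp) ⟨x, hxP⟩
  have hk' : orderOf x = p ^ k := by rw [← hk, Subgroup.orderOf_mk]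
  have hk2 : 2 ≤ k := by
    by_contra hlt
    push Not at hlt
    apply hxp
    have : orderOf x ∣ p := by
      rw [hk']
      calc p ^ k ∣ p ^ 1 := pow_dvd_pow p (by omega)
        _ = p := pow_one p
    exact orderOf_dvd_iff_pow_eq_one.mp this
  obtain ⟨y, hy⟩ : ∃ y : G, y = x ^ (p ^ (k - 2)) := ⟨_, rfl⟩
  have hyo : orderOf y = p ^ 2 := by
    rw [hy, orderOf_pow_of_dvd (pow_ne_zero _ hp.out.ne_zero) (by rw [hk']; exact pow_dvd_pow p (by omega)), hk']
    rw [Nat.pow_div (by omega) hp.out.pos]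
    congr 1
    omega
  set C : Subgroup G := Subgroup.zpowers y with hC
  have hCcard : Nat.card C = p ^ 2 := by rw [Nat.card_zpowers, hyo]
  haveI hCcomm : IsMulCommutative ↥C := by rw [hC]; infer_instance
  -- every subgroup of order p² is cyclic
  have hcycG : ∀ B : Subgroup G, Nat.card B = p ^ 2 → IsCyclic B := by
    intro B hBc
    haveI : IsMulCommutative ↥B := IsPGroup.isMulCommutative_of_card_eq_prime_sq hBc
    obtain ⟨g, hg⟩ := hB C B hCcomm inferInstance (by rw [hCcard, hBc])
    have e : ↥C ≃* ↥B := by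
      rw [hg]
      exact C.equivMapOfInjective _ (MulAut.conj g).injective
    haveI : IsCyclic ↥C := by rw [hC]; infer_instance
    exact isCyclic_of_surjective e e.surjective
  apply unique_of_sq_cyclic hPp
  intro B hBc
  have h1 : Nat.card (B.map (P : Subgroup G).subtype) = p ^ 2 := by
    rw [Subgroup.card_map_of_injective (Subgroup.subtype_injective _), hBc]
  haveI := hcycG _ h1
  have e : ↥B ≃* ↥(B.map (P : Subgroup G).subtype) :=
    B.equivMapOfInjective _ (Subgroup.subtype_injective _)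
  exact isCyclic_of_surjective e.symm e.symm.surjective

theorem comm_of_sq {Q : Type*} [Group Q] (h : ∀ x : Q, x ^ 2 = 1) (a b : Q) : a * b = b * a := by
  have ha : a⁻¹ = a := by
    rw [inv_eq_iff_mul_eq_one, ← pow_two]; exact h a
  have hb : b⁻¹ = b := by
    rw [inv_eq_iff_mul_eq_one, ← pow_two]; exact h b
  have hab : (a * b)⁻¹ = a * b := by
    rw [inv_eq_iff_mul_eq_one, ← pow_two]; exact h (a * b)
  rw [← hab, mul_inv_rev, ha, hb]

theorem result {G : Type*} [Group G] [Finite G] (hB : ∀ A B : Subgroup G, IsMulCommutative ↥A → IsMulCommutative ↥B → Nat.card ↥A = Nat.card ↥B → ∃ g : G, B = A.map (MulAut.conj g).toMonoidHom) :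
    (∀ P : Sylow 2 G, IsCyclic ↥(P : Subgroup G) ∨ Cfsg.IsElementaryAbelian 2 (P : Subgroup G) ∨ ∃ k : ℕ, Nonempty (↥(P : Subgroup G) ≃* QuaternionGroup (2 ^ k))) ∧
    ∀ (p : ℕ) [Fact p.Prime], p ≠ 2 → ∀ P : Sylow p G, IsCyclic ↥(P : Subgroup G) ∨ ∀ x ∈ (P : Subgroup G), x ^ p = 1 := by
  constructor
  · intro P
    haveI : Fact (Nat.Prime 2) := ⟨Nat.prime_two⟩
    rcases dichotomy hB 2 P with h | h
    · right; left
      refine ⟨⟨⟨?_⟩⟩, h⟩
      intro a b
      apply comm_of_sq
      intro x
      apply Subtype.ext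
      simpa using h x x.2
    · rcases Cfsg.Agent.Lib.Helper1.cyclic_or_quaternion_of_unique P.isPGroup' h with hc | hq
      · left; exact hc
      · right; right; exact hq
  · intro p _ hp2 P
    rcases dichotomy hB p P with h | h
    · right; exact h
    · left
      exact Cfsg.Agent.Lib.Helper29.isCyclic_of_unique_subgroup_odd p hp2 P.isPGroup' h

end main

end Cfsg.Agent.S3908
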