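import Mathlib
import Cfsg.Statements.S3917

set_option autoImplicit false
open Cfsg

namespace Cfsg.Agent.S3917

variable {G : Type*} [CommGroup G] [Finite G]

def K (G : Type*) [CommGroup G] (n : ℕ) : Subgroup G := (powMonoidHom n : G →* G).ker

lemma mem_K {n : ℕ} {y : G} : y ∈ K G n ↔ y ^ n = 1 := by
  simp [K, MonoidHom.mem_ker]

lemma card_K_le (h : ∀ p : ℕ, p.Prime → Nat.card (K G p) ≤ p) :
    ∀ n : ℕ, 0 < n → Nat.card (K G n) ≤ n := by
  intro n
  induction n using Nat.strong_induction_on with
  | _ n ih =>
    intro hn
    rcases Nat.lt_or_ge 1 n with h1 | h1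
    · obtain ⟨p, hp, m, rfl⟩ : ∃ p, p.Prime ∧ ∃ m, n = p * m :=
        ⟨n.minFac, Nat.minFac_prime (by omega), Nat.minFac_dvd n⟩
      have hm : 0 < m := Nat.pos_of_mul_pos_left hn
      have hlt : m < p * m := by
        have := hp.two_le
        nlinarith
      have ihm := ih m hlt hm
      let f : K G (p * m) →* G := (powMonoidHom p).comp (K G (p * m)).subtype
      have hrange : f.range ≤ K G m := by
        rintro _ ⟨⟨y, hy⟩, rfl⟩
        rw [mem_K] at hy ⊢
        simp only [f, MonoidHom.comp_apply, Subgroup.subtype_apply, powMonoidHom_apply]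
        rw [← pow_mul]; exact hy
      have hker : Nat.card f.ker ≤ Nat.card (K G p) := by
        refine Nat.card_le_card_of_injective (fun x => ⟨x.1.1, ?_⟩) ?_
        · rw [mem_K]
          have := x.2
          rw [MonoidHom.mem_ker] at this
          simpa [f] using this
        · intro x y hxy
          simp only [Subtype.mk.injEq] at hxy
          exact Subtype.ext (Subtype.ext hxy)
      have hcard : Nat.card (K G (p * m)) = Nat.card f.ker * Nat.card f.range := by
        rw [← Subgroup.index_ker, Subgroup.card_mul_index]
      rw [hcard]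
      have h2 : Nat.card f.range ≤ Nat.card (K G m) := Subgroup.card_le_of_le hrange
      calc Nat.card f.ker * Nat.card f.range ≤ Nat.card (K G p) * Nat.card (K G m) :=
            Nat.mul_le_mul hker h2
        _ ≤ p * m := Nat.mul_le_mul (h p hp) ihm
    · have : n = 1 := by omega
      subst this
      have : K G 1 = ⊥ := by
        ext y; rw [mem_K]; simp
      rw [this]; simp

lemma cyclic_card_le {H : Subgroup G} (hc : IsCyclic H) {p : ℕ} (hp : 0 < p) (hH : ∀ y ∈ H, y ^ p = 1) :
    Nat.card H ≤ p := by
  classical
  haveI : Fintype H := Fintype.ofFinite H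
  have := IsCyclic.card_pow_eq_one_le (α := H) hp
  rw [Nat.card_eq_fintype_card]
  refine le_trans ?_ this
  rw [← Finset.card_univ]
  apply Finset.card_le_card
  intro y _
  simp only [Finset.mem_filter, Finset.mem_univ, true_and]
  exact Subtype.ext (by simpa using hH y.1 y.2)

theorem result {G : Type*} [CommGroup G] [Finite G] (hX : (∀ H : Subgroup G, ¬ IsCyclic ↥H → Subgroup.centralizer (H : Set G) ≤ H)) :
    IsCyclic G ∨ ∃ p : ℕ, p.Prime ∧ Nat.card G = p ^ 2 ∧ Monoid.exponent G = p := by
  classical
  have hX' : ∀ H : Subgroup G, ¬ IsCyclic ↥H → H = ⊤ := by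
    intro H hH
    have := hX H hH
    rw [Subgroup.centralizer_eq_top_iff_subset.mpr] at this
    · exact top_le_iff.mp this
    · intro x _
      exact Subgroup.mem_center_iff.mpr (fun g => mul_comm g x)
  by_cases hall : ∀ p : ℕ, p.Prime → IsCyclic (K G p)
  · left
    haveI : Fintype G := Fintype.ofFinite G
    apply isCyclic_of_card_pow_eq_one_le
    intro n hn
    have h1 := card_K_le (G := G) (fun p hp => cyclic_card_le (hall p hp) hp.pos (fun y hy => mem_K.mp hy)) n hn
    refine le_trans (le_of_eq ?_) h1
    rw [Nat.card_eq_fintype_card, Fintype.card_subtype]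
    congr 1
  · right
    push_neg at hall
    obtain ⟨p, hp, hnc⟩ := hall
    have htop := hX' _ hnc
    have hpow : ∀ y : G, y ^ p = 1 := fun y => mem_K.mp (htop ▸ Subgroup.mem_top y)
    have hGnc : ¬ IsCyclic G := by
      intro hG
      apply hnc
      rw [htop]
      exact (Subgroup.topEquiv (G := G)).isCyclic.mpr hG
    haveI : Fact p.Prime := ⟨hp⟩
    refine ⟨p, hp, ?_, ?_⟩
    · skip
      have hntr : Nontrivial G := by
        by_contra hn
        rw [not_nontrivial_iff_subsingleton] at hn
        exact hGnc inferInstance
      obtain ⟨a, ha⟩ := exists_ne (1 : G)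
      have hoa : orderOf a = p := orderOf_eq_prime (hpow a) ha
      have hza : Nat.card (Subgroup.zpowers a) = p := by rw [Nat.card_zpowers, hoa]
      have hzat : Subgroup.zpowers a ≠ ⊤ := by
        intro h
        apply hGnc
        exact ⟨a, fun x => by have := Subgroup.mem_top x; rwa [← h] at this⟩
      obtain ⟨b, hb⟩ : ∃ b, b ∉ Subgroup.zpowers a := by
        by_contra hcon
        push_neg at hcon
        exact hzat (top_le_iff.mp (fun x _ => hcon x))
      have hH : Subgroup.zpowers b ⊔ Subgroup.zpowers a = ⊤ := by
        apply hX'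
        intro hc
        have hle := cyclic_card_le hc hp.pos (fun y _ => hpow y)
        have h := Subgroup.eq_of_le_of_card_ge (le_sup_right : Subgroup.zpowers a ≤ Subgroup.zpowers b ⊔ Subgroup.zpowers a) (by rw [hza]; exact hle)
        apply hb
        rw [h]
        exact le_sup_left (a := Subgroup.zpowers b) (Subgroup.mem_zpowers b)
      have hidx : (Subgroup.zpowers a).index ∣ p := by
        have h1 := Subgroup.relIndex_sup_left (Subgroup.zpowers b) (Subgroup.zpowers a)
        rw [sup_comm, hH, Subgroup.relIndex_top_right] at h1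
        rw [h1]
        have h2 := Subgroup.relIndex_dvd_card (Subgroup.zpowers a) (Subgroup.zpowers b)
        have hob : orderOf b = p := orderOf_eq_prime (hpow b) (by rintro rfl; exact hb (one_mem _))
        rwa [Nat.card_zpowers, hob] at h2
      have hci := Subgroup.card_mul_index (Subgroup.zpowers a)
      rw [hza] at hci
      rcases (Nat.dvd_prime hp).mp hidx with h1 | h1
      · exfalso
        apply hzat
        exact Subgroup.index_eq_one.mp h1
      · rw [← hci, h1]; ring
    · apply Nat.dvd_antisymm
      · exact Monoid.exponent_dvd_of_forall_pow_eq_one hpow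
      · obtain ⟨a, ha⟩ : ∃ a : G, a ≠ 1 := by
          by_contra hcon
          push_neg at hcon
          apply hGnc
          exact ⟨1, fun x => by rw [hcon x]; exact Subgroup.mem_zpowers 1⟩
        have hoa : orderOf a = p := orderOf_eq_prime (hpow a) ha
        rw [← hoa]
        exact Monoid.order_dvd_exponent a

end Cfsg.Agent.S3917
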