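import Cfsg.Statements.S4370
import Cfsg.Agent.Lib.Helper19.UniqueInvolution
import Cfsg.Agent.Lib.helper14.Quat
import Cfsg.Agent.Lib.Helper29.OddCyclic

set_option autoImplicit false
open Cfsg

namespace Cfsg.Agent.S4370

open QuaternionGroup

theorem mem_cn {P : Type*} [Group P] {u g : P} :
    g ∈ Subgroup.centralizer ({u} : Set P) ↔ g * u = u * g :=
  Subgroup.mem_centralizer_singleton_iff

/-- in `ZMod (2n)`, `j + j = 0` forces `j = 0` or `j = n` -/
theorem zmod_double_eq_zero {n : ℕ} [NeZero n] (j : ZMod (2 * n)) (h : j + j = 0) :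
    j = 0 ∨ j = (n : ZMod (2 * n)) := by
  have hn : 0 < n := Nat.pos_of_ne_zero (NeZero.ne n)
  have : NeZero (2 * n) := ⟨by omega⟩
  have h1 : ((j.val + j.val : ℕ) : ZMod (2 * n)) = 0 := by
    push_cast
    rw [ZMod.natCast_zmod_val]
    exact h
  have h2 : 2 * n ∣ j.val + j.val := (ZMod.natCast_eq_zero_iff _ _).mp h1
  have h3 : j.val < 2 * n := ZMod.val_lt j
  obtain ⟨c, hc⟩ := h2
  have hc2 : c = 0 ∨ c = 1 := by
    rcases c with _ | _ | c
    · left; rfl
    · right; rfl
    · exfalso; nlinarith
  rcases hc2 with rfl | rfl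
  · left
    have : j.val = 0 := by omega
    exact (ZMod.val_eq_zero j).mp this
  · right
    have : j.val = n := by omega
    calc j = ((j.val : ℕ) : ZMod (2 * n)) := (ZMod.natCast_zmod_val j).symm
      _ = (n : ZMod (2 * n)) := congrArg Nat.cast this

theorem zmod_n_add_n {n : ℕ} : ((n : ZMod (2 * n)) + n) = 0 := by
  have : ((n : ZMod (2 * n)) + n) = ((2 * n : ℕ) : ZMod (2 * n)) := by push_cast; ring
  rw [this, ZMod.natCast_self]

/-- centralizers of noncentral elements of the quaternion group are cyclic -/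
theorem quat_centralizer_cyclic {n : ℕ} [NeZero n] (q : QuaternionGroup n)
    (hq : ∃ r : QuaternionGroup n, r * q ≠ q * r) :
    IsCyclic (Subgroup.centralizer ({q} : Set (QuaternionGroup n))) := by
  have : NeZero (2 * n) := ⟨by have := NeZero.ne n; omega⟩
  obtain ⟨r, hr⟩ := hq
  cases q with
  | a i =>
    -- 2 i ≠ 0
    have hi : i + i ≠ 0 := by
      intro hi
      apply hr
      cases r with
      | a j => simp [add_comm]
      | xa j =>
        simp only [xa_mul_a, a_mul_xa]
        congr 1
        have : j + i = j - i + (i + i) := by ring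
        rw [this, hi, add_zero]
    have ha1 : (a 1 : QuaternionGroup n) ∈ Subgroup.centralizer ({a i} : Set (QuaternionGroup n)) := by
      rw [mem_cn]; simp [add_comm]
    refine ⟨⟨⟨a 1, ha1⟩, ?_⟩⟩
    rintro ⟨g, hg⟩
    rw [mem_cn] at hg
    cases g with
    | a j =>
      refine ⟨(j.val : ℤ), ?_⟩
      apply Subtype.ext
      simp only [zpow_natCast, Subgroup.coe_pow]
      rw [a_one_pow, ZMod.natCast_zmod_val]
    | xa j =>
      exfalso
      apply hi
      simp only [xa_mul_a, a_mul_xa] at hg
      have h1 : j + i = j - i := by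
        injection hg
      have : i + i = (j + i) - (j - i) := by ring
      rw [this, h1, sub_self]
  | xa i =>
    have hx : (xa i : QuaternionGroup n) ∈ Subgroup.centralizer ({xa i} : Set (QuaternionGroup n)) := by
      rw [mem_cn]
    refine ⟨⟨⟨xa i, hx⟩, ?_⟩⟩
    rintro ⟨g, hg⟩
    rw [mem_cn] at hg
    have hsq : (xa i : QuaternionGroup n) ^ 2 = a n := xa_sq i
    cases g with
    | a j =>
      simp only [xa_mul_a, a_mul_xa] at hg
      have h1 : i - j = i + j := by injection hg
      have h2 : j + j = 0 := by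
        have : j + j = (i + j) - (i - j) := by ring
        rw [this, h1, sub_self]
      rcases zmod_double_eq_zero j h2 with rfl | rfl
      · refine ⟨0, ?_⟩
        apply Subtype.ext
        simp
      · refine ⟨2, ?_⟩
        apply Subtype.ext
        have : ((⟨xa i, hx⟩ : Subgroup.centralizer ({xa i} : Set (QuaternionGroup n))) ^ (2 : ℤ)).1
            = (xa i) ^ 2 := by
          rw [show (2 : ℤ) = ((2 : ℕ) : ℤ) from rfl, zpow_natCast]; rfl
        rw [this, hsq]
    | xa j =>
      simp only [xa_mul_xa] at hg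
      have h1 : (n : ZMod (2 * n)) + i - j = (n : ZMod (2 * n)) + j - i := by injection hg
      have h2 : (j - i) + (j - i) = 0 := by
        have : (j - i) + (j - i) = ((n : ZMod (2 * n)) + j - i) - ((n : ZMod (2 * n)) + i - j) := by ring
        rw [this, h1, sub_self]
      rcases zmod_double_eq_zero (j - i) h2 with h3 | h3
      · have : j = i := sub_eq_zero.mp h3
        subst this
        refine ⟨1, ?_⟩
        apply Subtype.ext
        simp
      · refine ⟨3, ?_⟩
        apply Subtype.ext
        have : ((⟨xa i, hx⟩ : Subgroup.centralizer ({xa i} : Set (QuaternionGroup n))) ^ (3 : ℤ)).1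
            = (xa i) ^ 3 := by
          rw [show (3 : ℤ) = ((3 : ℕ) : ℤ) from rfl, zpow_natCast]; rfl
        rw [this, pow_succ, hsq, a_mul_xa]
        congr 1
        have hj : j = i + n := by
          have : j = (j - i) + i := by ring
          rw [this, h3]; ring
        rw [hj]
        have := zmod_n_add_n (n := n)
        have h4 : (n : ZMod (2 * n)) = - n := eq_neg_of_add_eq_zero_left this
        calc i - (n : ZMod (2 * n)) = i + - (n : ZMod (2 * n)) := by ring
          _ = i + n := by rw [← h4]


/-- In a nilpotent group, elements of coprime (finite) orders commute. -/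
theorem commute_of_coprime_of_nilpotent (T : Type*) [Group T] [Group.IsNilpotent T] :
    ∀ (x g : T) (m n : ℕ), x ^ m = 1 → g ^ n = 1 → m.Coprime n → x * g = g * x := by
  refine Group.nilpotent_center_quotient_ind
    (P := fun T _ _ => ∀ (x g : T) (m n : ℕ), x ^ m = 1 → g ^ n = 1 → m.Coprime n → x * g = g * x)
    T ?_ ?_
  · intro T _ _ x g m n _ _ _
    exact Subsingleton.elim _ _
  · intro T _ _ ih x g m n hx hg hmn
    have h1 := ih (QuotientGroup.mk x) (QuotientGroup.mk g) m n
      (by rw [← QuotientGroup.mk_pow, hx]; rfl) (by rw [← QuotientGroup.mk_pow, hg]; rfl) hmn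
    -- c = x⁻¹ g⁻¹ x g is central
    have hc : (x * g)⁻¹ * (g * x) ∈ Subgroup.center T := by
      rw [← QuotientGroup.mk_mul, ← QuotientGroup.mk_mul] at h1
      exact QuotientGroup.eq.mp h1
    obtain ⟨c, hcdef⟩ : ∃ c : T, c = (x * g)⁻¹ * (g * x) := ⟨_, rfl⟩
    rw [← hcdef] at hc
    have hcc := Subgroup.mem_center_iff.mp hc
    have hgx : g * x = x * g * c := by rw [hcdef]; group
    -- g x^k = x^k g c^k
    have hpow1 : ∀ k : ℕ, g * x ^ k = x ^ k * g * c ^ k := by
      intro k
      induction k with
      | zero => simp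
      | succ k ih =>
        calc g * x ^ (k + 1) = (g * x ^ k) * x := by rw [pow_succ]; group
          _ = x ^ k * g * c ^ k * x := by rw [ih]
          _ = x ^ k * (g * x) * c ^ k := by
              have := Subgroup.mem_center_iff.mp (pow_mem hc k) x
              calc x ^ k * g * c ^ k * x = x ^ k * g * (c ^ k * x) := by group
                _ = x ^ k * g * (x * c ^ k) := by rw [← this]
                _ = x ^ k * (g * x) * c ^ k := by group
          _ = x ^ k * (x * g * c) * c ^ k := by rw [hgx]
          _ = x ^ (k + 1) * g * c ^ (k + 1) := by rw [pow_succ, pow_succ]; group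
    have hpow2 : ∀ k : ℕ, g ^ k * x = x * g ^ k * c ^ k := by
      intro k
      induction k with
      | zero => simp
      | succ k ih =>
        calc g ^ (k + 1) * x = g ^ k * (g * x) := by rw [pow_succ]; group
          _ = g ^ k * (x * g * c) := by rw [hgx]
          _ = (g ^ k * x) * g * c := by group
          _ = x * g ^ k * c ^ k * g * c := by rw [ih]
          _ = x * g ^ k * (c ^ k * g) * c := by group
          _ = x * g ^ k * (g * c ^ k) * c := by
              rw [← Subgroup.mem_center_iff.mp (pow_mem hc k) g]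
          _ = x * g ^ (k + 1) * c ^ (k + 1) := by rw [pow_succ, pow_succ]; group
    have hcm : c ^ m = 1 := by
      have := hpow1 m
      rw [hx] at this
      simpa using this.symm
    have hcn : c ^ n = 1 := by
      have := hpow2 n
      rw [hg] at this
      simpa using this.symm
    have hc1 : c = 1 := by
      have h1 : orderOf c ∣ m := orderOf_dvd_of_pow_eq_one hcm
      have h2 : orderOf c ∣ n := orderOf_dvd_of_pow_eq_one hcn
      have : orderOf c ∣ Nat.gcd m n := Nat.dvd_gcd h1 h2
      rw [hmn] at this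
      exact orderOf_eq_one_iff.mp (Nat.dvd_one.mp this)
    rw [hgx, hc1, mul_one]

theorem comm_of_sylow_comm {G : Type*} [Group G] [Finite G] (hG : Group.IsNilpotent G)
    (h : ∀ (p : ℕ), p.Prime → ∀ (P : Sylow p G), ∀ a ∈ (P : Subgroup G), ∀ b ∈ (P : Subgroup G), a * b = b * a) :
    ∀ a b : G, a * b = b * a := by
  obtain ⟨e⟩ := (Group.isNilpotent_of_finite_tfae (G := G)).out 0 4 rfl rfl |>.mp hG
  intro a b
  have key : e.symm a * e.symm b = e.symm b * e.symm a := by
    funext p P
    apply Subtype.ext
    exact h p (Nat.prime_of_mem_primeFactors p.2) P _ (e.symm a p P).2 _ (e.symm b p P).2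
  have := congrArg e key
  simpa using this

theorem exists_commuting_complement {G : Type*} [Group G] [Finite G] [hG : Group.IsNilpotent G]
    {p : ℕ} [Fact p.Prime] (P : Sylow p G) :
    ∃ K : Subgroup G, Subgroup.IsComplement' (P : Subgroup G) K ∧
      ∀ a ∈ (P : Subgroup G), ∀ b ∈ K, a * b = b * a := by
  obtain ⟨K, hK⟩ := Subgroup.exists_right_complement'_of_coprime P.card_coprime_index
  refine ⟨K, hK, fun a ha b hb => ?_⟩
  apply commute_of_coprime_of_nilpotent G a b (Nat.card (P : Subgroup G)) (Nat.card K)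
  · have : (⟨a, ha⟩ : (P : Subgroup G)) ^ Nat.card (P : Subgroup G) = 1 := pow_card_eq_one'
    exact congrArg Subtype.val this
  · have : (⟨b, hb⟩ : K) ^ Nat.card K = 1 := pow_card_eq_one'
    exact congrArg Subtype.val this
  · have := hK.symm.index_eq_card
    rw [← this]; exact P.card_coprime_index

theorem mem_center_of_sylow_center {G : Type*} [Group G] [Finite G] [hG : Group.IsNilpotent G]
    {p : ℕ} [Fact p.Prime] (P : Sylow p G) (z : G) (hz : z ∈ (P : Subgroup G))
    (hzc : ∀ a ∈ (P : Subgroup G), a * z = z * a) : z ∈ Subgroup.center G := by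
  obtain ⟨K, hK, hcomm⟩ := exists_commuting_complement P
  rw [Subgroup.mem_center_iff]
  intro g
  obtain ⟨⟨a, b⟩, hab⟩ := (Subgroup.isComplement_iff_existsUnique.mp hK g).exists
  have hab' : a.1 * b.1 = g := hab
  rw [← hab']
  have h1 := hzc a.1 a.2
  have h2 := hcomm z hz b.1 b.2
  calc a.1 * b.1 * z = a.1 * (b.1 * z) := by group
    _ = a.1 * (z * b.1) := by rw [h2]
    _ = (a.1 * z) * b.1 := by group
    _ = z * a.1 * b.1 := by rw [h1]
    _ = z * (a.1 * b.1) := by group

theorem mem_zpowers_of_cyclic {C : Type*} [Group C] [Finite C] [IsCyclic C] {p : ℕ} (hp : p.Prime)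
    {u z : C} (hu : u ^ p = 1) (hz : orderOf z = p) : u ∈ Subgroup.zpowers z := by
  classical
  have := Fintype.ofFinite C
  have h1 : (Finset.univ.filter (fun a : C => a ^ p = 1)).card ≤ p :=
    IsCyclic.card_pow_eq_one_le (α := C) hp.pos
  have hsub : (Subgroup.zpowers z : Set C) ⊆ {a : C | a ^ p = 1} := by
    rintro _ ⟨k, rfl⟩
    show (z ^ k) ^ p = 1
    rw [← zpow_natCast, ← zpow_mul, mul_comm, zpow_mul, zpow_natCast, ← hz, pow_orderOf_eq_one,
      one_zpow]
  have hcard : Nat.card ({a : C | a ^ p = 1} : Set C) ≤ Nat.card (Subgroup.zpowers z : Set C) := by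
    have e1 : Nat.card (Subgroup.zpowers z : Set C) = p := by
      rw [← hz]; exact Nat.card_zpowers z
    rw [e1, Nat.card_eq_fintype_card]
    have : Fintype.card ({a : C | a ^ p = 1} : Set C) = (Finset.univ.filter (fun a : C => a ^ p = 1)).card := by
      rw [← Fintype.card_subtype]; rfl
    rw [this]; exact h1
  have heq : (Subgroup.zpowers z : Set C) = {a : C | a ^ p = 1} := by
    apply Set.eq_of_subset_of_ncard_le hsub _ (Set.toFinite _)
    rw [← Nat.card_coe_set_eq, ← Nat.card_coe_set_eq]
    exact hcard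
  have : u ∈ ({a : C | a ^ p = 1} : Set C) := hu
  rw [← heq] at this
  exact this


theorem center_le_cn {P : Type*} [Group P] (u : P) :
    Subgroup.center P ≤ Subgroup.centralizer ({u} : Set P) := by
  intro g hg
  rw [mem_cn]
  exact ((Subgroup.mem_center_iff.mp hg) u).symm

theorem subgroup_unique_of_elements {Q : Type*} [Group Q] [Finite Q] {p : ℕ} [Fact p.Prime]
    (huniq : ∀ u v : Q, orderOf u = p → orderOf v = p → v ∈ Subgroup.zpowers u)
    (H K : Subgroup Q) (hH : Nat.card H = p) (hK : Nat.card K = p) : H = K := by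
  obtain ⟨h, hh⟩ := exists_prime_orderOf_dvd_card' (G := H) p (by rw [hH])
  obtain ⟨k, hk⟩ := exists_prime_orderOf_dvd_card' (G := K) p (by rw [hK])
  have hh' : orderOf (h : Q) = p := by rw [Subgroup.orderOf_coe]; exact hh
  have hk' : orderOf (k : Q) = p := by rw [Subgroup.orderOf_coe]; exact hk
  have e1 : Subgroup.zpowers (h : Q) = H := by
    apply Subgroup.eq_of_le_of_card_ge (Subgroup.zpowers_le.mpr h.2)
    rw [Nat.card_zpowers, hh', hH]
  have e2 : Subgroup.zpowers (k : Q) = K := by
    apply Subgroup.eq_of_le_of_card_ge (Subgroup.zpowers_le.mpr k.2)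
    rw [Nat.card_zpowers, hk', hK]
  rw [← e1, ← e2]
  apply Subgroup.eq_of_le_of_card_ge
  · exact Subgroup.zpowers_le.mpr (huniq k h hk' hh')
  · rw [Nat.card_zpowers, Nat.card_zpowers, hh', hk']

open Cfsg.Agent.Lib.Helper19 Cfsg.Agent.Lib.helper14 Cfsg.Agent.Lib.Helper29 in
theorem forward {G : Type*} [Group G] [Finite G] (hG : Group.IsNilpotent G)
    (hna : ¬ IsMulCommutative G)
    (hcyc : ∀ x : G, x ∉ Subgroup.center G → IsCyclic (Subgroup.centralizer ({x} : Set G))) :
    ∃ (k m : ℕ), 1 ≤ k ∧ Odd m ∧
      Nonempty (G ≃* QuaternionGroup (2 ^ k) × Multiplicative (ZMod m)) := by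
  have := hG
  -- Step 0
  obtain ⟨x₀, hx₀⟩ : ∃ x₀ : G, x₀ ∉ Subgroup.center G := by
    by_contra h
    push Not at h
    apply hna
    exact ⟨⟨fun a b => (Subgroup.mem_center_iff.mp (h b) a)⟩⟩
  have hZc : IsCyclic (Subgroup.center G) := by
    have := hcyc x₀ hx₀
    exact Subgroup.isCyclic_of_le (center_le_cn x₀)
  -- Step 1: elements of prime order are central
  have stepA : ∀ (p : ℕ) [Fact p.Prime] (u : G), orderOf u = p → u ∈ Subgroup.center G := by
    intro p _ u hu
    by_contra huc
    have hp : p.Prime := Fact.out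
    have hup : IsPGroup p (Subgroup.zpowers u) := by
      apply IsPGroup.of_card (n := 1)
      rw [Nat.card_zpowers, hu, pow_one]
    obtain ⟨P, hP⟩ := hup.exists_le_sylow
    have huP : u ∈ (P : Subgroup G) := hP (Subgroup.mem_zpowers u)
    have hu1 : u ≠ 1 := by
      intro h
      rw [h, orderOf_one] at hu
      exact hp.one_lt.ne hu
    have : Nontrivial (P : Subgroup G) :=
      ⟨⟨⟨u, huP⟩, 1, fun h => hu1 (congrArg Subtype.val h)⟩⟩
    have hcn : Nontrivial (Subgroup.center (P : Subgroup G)) := P.2.center_nontrivial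
    have hdvd : p ∣ Nat.card (Subgroup.center (P : Subgroup G)) := by
      rcases (P.2.to_subgroup (Subgroup.center (P : Subgroup G))).card_eq_or_dvd with h | h
      · exfalso
        have := Finite.one_lt_card (α := Subgroup.center (P : Subgroup G))
        omega
      · exact h
    obtain ⟨z', hz'⟩ := exists_prime_orderOf_dvd_card' p hdvd
    obtain ⟨z, hzdef⟩ : ∃ z : G, z = ((z' : (P : Subgroup G)) : G) := ⟨_, rfl⟩
    have hzord : orderOf z = p := by
      rw [hzdef, Subgroup.orderOf_coe, Subgroup.orderOf_coe]; exact hz'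
    have hzZ : z ∈ Subgroup.center G := by
      apply mem_center_of_sylow_center P z (hzdef ▸ z'.1.2)
      intro a ha
      have := Subgroup.mem_center_iff.mp z'.2 ⟨a, ha⟩
      rw [hzdef]
      exact congrArg Subtype.val this
    have := hcyc u huc
    have hmem : (⟨u, mem_cn.mpr rfl⟩ : Subgroup.centralizer ({u} : Set G)) ∈
        Subgroup.zpowers (⟨z, center_le_cn u hzZ⟩ : Subgroup.centralizer ({u} : Set G)) := by
      apply mem_zpowers_of_cyclic hp
      · apply Subtype.ext
        show u ^ p = 1
        rw [← hu]; exact pow_orderOf_eq_one u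
      · rw [← Subgroup.orderOf_coe]; exact hzord
    obtain ⟨k, hk⟩ := hmem
    have hk' : z ^ k = u := congrArg Subtype.val hk
    apply huc
    rw [← hk']
    exact zpow_mem hzZ k
  -- Step 2: uniqueness
  have stepB : ∀ (p : ℕ) [Fact p.Prime] (u v : G), orderOf u = p → orderOf v = p →
      v ∈ Subgroup.zpowers u := by
    intro p _ u v hu hv
    have hp : p.Prime := Fact.out
    have huZ := stepA p u hu
    have hvZ := stepA p v hv
    have hmem : (⟨v, hvZ⟩ : Subgroup.center G) ∈ Subgroup.zpowers (⟨u, huZ⟩ : Subgroup.center G) := by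
      apply mem_zpowers_of_cyclic hp
      · apply Subtype.ext
        show v ^ p = 1
        rw [← hv]; exact pow_orderOf_eq_one v
      · rw [← Subgroup.orderOf_coe]; exact hu
    obtain ⟨k, hk⟩ := hmem
    exact ⟨k, congrArg Subtype.val hk⟩
  -- Step 3: a noncommutative Sylow subgroup
  obtain ⟨p, hp, P, a, ha, b, hb, hab⟩ : ∃ (p : ℕ) (_ : p.Prime) (P : Sylow p G),
      ∃ a ∈ (P : Subgroup G), ∃ b ∈ (P : Subgroup G), a * b ≠ b * a := by
    by_contra h
    push Not at h
    apply hna
    have := comm_of_sylow_comm hG (fun p hp P a ha b hb => h p hp P a ha b hb)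
    exact ⟨⟨this⟩⟩
  have : Fact p.Prime := ⟨hp⟩
  -- uniqueness inside P
  have huniqP : ∀ u v : (P : Subgroup G), orderOf u = p → orderOf v = p →
      v ∈ Subgroup.zpowers u := by
    intro u v hu hv
    have h1 : orderOf (u : G) = p := by rw [Subgroup.orderOf_coe]; exact hu
    have h2 : orderOf (v : G) = p := by rw [Subgroup.orderOf_coe]; exact hv
    obtain ⟨k, hk⟩ := stepB p u v h1 h2
    refine ⟨k, ?_⟩
    apply Subtype.ext
    simpa using hk
  have hnabP : ¬ ∀ g h : (P : Subgroup G), g * h = h * g := by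
    intro h
    apply hab
    exact congrArg Subtype.val (h ⟨a, ha⟩ ⟨b, hb⟩)
  -- Step 4: p = 2
  have hp2 : p = 2 := by
    by_contra hp2
    have hcycP : IsCyclic (P : Subgroup G) :=
      isCyclic_of_unique_subgroup_odd p hp2 P.2
        (fun H K hH hK => subgroup_unique_of_elements huniqP H K hH hK)
    apply hnabP
    intro g h
    obtain ⟨c, hc⟩ := hcycP.exists_generator
    obtain ⟨i, rfl⟩ := hc g
    obtain ⟨j, rfl⟩ := hc h
    rw [← zpow_add, ← zpow_add, add_comm]
  subst hp2
  -- Step 5: unique involution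
  have hntP : Nontrivial (P : Subgroup G) := by
    refine ⟨⟨⟨a, ha⟩, ⟨b, hb⟩, fun h => ?_⟩⟩
    apply hab
    have : a = b := congrArg Subtype.val h
    rw [this]
  have hdvd2 : 2 ∣ Nat.card (P : Subgroup G) := by
    rcases P.2.card_eq_or_dvd with h | h
    · exfalso
      have := Finite.one_lt_card (α := (P : Subgroup G))
      omega
    · exact h
  obtain ⟨z, hz⟩ := exists_prime_orderOf_dvd_card' 2 hdvd2
  have hz1 : z ≠ 1 := by
    intro h
    rw [h, orderOf_one] at hz
    omega
  have hz2 : z * z = 1 := by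
    have := pow_orderOf_eq_one z
    rw [hz, pow_two] at this
    exact this
  have huniq_inv : ∀ u : (P : Subgroup G), u * u = 1 → u = 1 ∨ u = z := by
    intro u hu
    by_cases hu1 : u = 1
    · left; exact hu1
    · right
      have hou : orderOf u = 2 := orderOf_eq_prime (by rw [pow_two]; exact hu) hu1
      obtain ⟨k, hk⟩ := huniqP z u hz hou
      have hk2 : z ^ (k % 2) = u := by
        have := zpow_mod_orderOf z k
        rw [hz] at this
        rw [← hk]; exact this
      rcases Int.emod_two_eq_zero_or_one k with h | h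
      · exfalso
        rw [h, zpow_zero] at hk2
        exact hu1 hk2.symm
      · rw [h, zpow_one] at hk2
        exact hk2.symm
  obtain ⟨n, hn2, a', y, hoa, _, hinv, hyy, haz, _, hcardP⟩ :=
    quaternion_structure P.2 z hz1 hz2 huniq_inv hnabP
  have hord : orderOf a' = 2 * 2 ^ (n - 1) := by
    rw [hoa, ← pow_succ']
    congr 1
    omega
  obtain ⟨hclcard, ⟨eQ⟩⟩ := quaternion_closure (2 ^ (n - 1)) Nat.one_le_two_pow a' y hord
    (by rw [hyy, haz]) hinv
  have htop : Subgroup.closure ({a', y} : Set (P : Subgroup G)) = ⊤ := by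
    apply Subgroup.eq_top_of_card_eq
    rw [hclcard, hcardP]
    have : n + 1 = (n - 1) + 2 := by omega
    rw [this, pow_add]
    ring
  have eT : (P : Subgroup G) ≃* QuaternionGroup (2 ^ (n - 1)) :=
    (Subgroup.topEquiv.symm.trans (MulEquiv.subgroupCongr htop.symm)).trans eQ
  -- Step 6: the complement
  obtain ⟨K, hK, hcomm⟩ := exists_commuting_complement P
  have hanc : a ∉ Subgroup.center G := by
    intro h
    apply hab
    exact (Subgroup.mem_center_iff.mp h b).symm
  have hKle : K ≤ Subgroup.centralizer ({a} : Set G) := by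
    intro k hk
    rw [mem_cn]
    exact (hcomm a ha k hk).symm
  have := hcyc a hanc
  have hKc : IsCyclic K := Subgroup.isCyclic_of_le hKle
  have hKodd : Odd (Nat.card K) := by
    have h1 := P.card_coprime_index
    rw [hK.symm.index_eq_card] at h1
    have h2 : Nat.Coprime 2 (Nat.card K) := Nat.Coprime.coprime_dvd_left hdvd2 h1
    exact Nat.coprime_two_left.mp h2
  have eK : K ≃* Multiplicative (ZMod (Nat.card K)) := (zmodCyclicMulEquiv hKc).symm
  -- Step 7: the product decomposition
  let φ₀ : ↥(P : Subgroup G) × ↥K →* G :=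
    MonoidHom.noncommCoprod (P : Subgroup G).subtype K.subtype
      (fun t k => hcomm t.1 t.2 k.1 k.2)
  have hφ : ∀ tk : ↥(P : Subgroup G) × ↥K, φ₀ tk = tk.1.1 * tk.2.1 := fun tk => rfl
  have hbij : Function.Bijective φ₀ := by
    constructor
    · intro tk tk' h
      rw [hφ, hφ] at h
      have hu := Subgroup.isComplement_iff_existsUnique.mp hK (tk.1.1 * tk.2.1)
      exact hu.unique (y₁ := tk) (y₂ := tk') rfl h.symm
    · intro g
      obtain ⟨tk, htk⟩ := (Subgroup.isComplement_iff_existsUnique.mp hK g).exists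
      exact ⟨tk, htk⟩
  have eG : G ≃* ↥(P : Subgroup G) × ↥K := (MulEquiv.ofBijective φ₀ hbij).symm
  exact ⟨n - 1, Nat.card K, by omega, hKodd, ⟨eG.trans (MulEquiv.prodCongr eT eK)⟩⟩

theorem back_prod (k m : ℕ) (hm : Odd m)
    (y : QuaternionGroup (2 ^ k) × Multiplicative (ZMod m))
    (hy : y ∉ Subgroup.center (QuaternionGroup (2 ^ k) × Multiplicative (ZMod m))) :
    IsCyclic (Subgroup.centralizer
      ({y} : Set (QuaternionGroup (2 ^ k) × Multiplicative (ZMod m)))) := by
  have : NeZero (2 ^ k) := ⟨by positivity⟩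
  have : NeZero m := ⟨by rcases hm with ⟨t, rfl⟩; omega⟩
  have hq : ∃ r : QuaternionGroup (2 ^ k), r * y.1 ≠ y.1 * r := by
    by_contra h
    push Not at h
    apply hy
    rw [Subgroup.mem_center_iff]
    intro g
    refine Prod.ext ?_ ?_
    · exact h g.1
    · exact mul_comm g.2 y.2
  have hc1 := quat_centralizer_cyclic y.1 hq
  have hcop : (Nat.card (Subgroup.centralizer ({y.1} : Set (QuaternionGroup (2 ^ k))))).Coprime
      (Nat.card (Multiplicative (ZMod m))) := by
    have h1 : Nat.card (Subgroup.centralizer ({y.1} : Set (QuaternionGroup (2 ^ k)))) ∣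
        2 ^ (k + 2) := by
      have := Subgroup.card_subgroup_dvd_card
        (Subgroup.centralizer ({y.1} : Set (QuaternionGroup (2 ^ k))))
      rw [Nat.card_eq_fintype_card (α := QuaternionGroup (2 ^ k)), QuaternionGroup.card] at this
      have e : 2 ^ (k + 2) = 4 * 2 ^ k := by rw [pow_add]; ring
      rw [e]; exact this
    have h2 : Nat.card (Multiplicative (ZMod m)) = m := by
      rw [Nat.card_congr Multiplicative.toAdd, Nat.card_zmod]
    rw [h2]
    exact Nat.Coprime.coprime_dvd_left h1 (Nat.Coprime.pow_left _ (Nat.coprime_two_left.mpr hm))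
  have hprod : IsCyclic (↥(Subgroup.centralizer ({y.1} : Set (QuaternionGroup (2 ^ k)))) ×
      Multiplicative (ZMod m)) :=
    Group.isCyclic_prod_iff.mpr ⟨hc1, inferInstance, hcop⟩
  let f : ↥(Subgroup.centralizer ({y.1} : Set (QuaternionGroup (2 ^ k)))) ×
      Multiplicative (ZMod m) →*
      ↥(Subgroup.centralizer ({y} : Set (QuaternionGroup (2 ^ k) × Multiplicative (ZMod m)))) :=
    MonoidHom.codRestrict (MonoidHom.prodMap (Subgroup.subtype _) (MonoidHom.id _)) _
      (fun ud => by
        rw [mem_cn]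
        refine Prod.ext ?_ ?_
        · exact mem_cn.mp ud.1.2
        · exact mul_comm ud.2 y.2)
  apply isCyclic_of_surjective f
  rintro ⟨⟨u, d⟩, hud⟩
  rw [mem_cn] at hud
  have hu : u ∈ Subgroup.centralizer ({y.1} : Set (QuaternionGroup (2 ^ k))) := by
    rw [mem_cn]; exact congrArg Prod.fst hud
  exact ⟨(⟨u, hu⟩, d), Subtype.ext rfl⟩

theorem backward {G H : Type*} [Group G] [Group H] (e : G ≃* H)
    (hH : ∀ y : H, y ∉ Subgroup.center H → IsCyclic (Subgroup.centralizer ({y} : Set H)))
    (x : G) (hx : x ∉ Subgroup.center G) : IsCyclic (Subgroup.centralizer ({x} : Set G)) := by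
  have hex : e x ∉ Subgroup.center H := by
    intro h
    apply hx
    rw [Subgroup.mem_center_iff] at h ⊢
    intro g
    apply e.injective
    rw [map_mul, map_mul]
    exact h (e g)
  have hc := hH (e x) hex
  let f : ↥(Subgroup.centralizer ({e x} : Set H)) →* ↥(Subgroup.centralizer ({x} : Set G)) :=
    MonoidHom.codRestrict (e.symm.toMonoidHom.comp (Subgroup.subtype _)) _
      (fun u => by
        rw [mem_cn]
        apply e.injective
        have := mem_cn.mp u.2
        simpa using this)
  apply isCyclic_of_surjective f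
  rintro ⟨g, hg⟩
  rw [mem_cn] at hg
  have hmem : e g ∈ Subgroup.centralizer ({e x} : Set H) := by
    rw [mem_cn, ← map_mul, ← map_mul, hg]
  refine ⟨⟨e g, hmem⟩, ?_⟩
  apply Subtype.ext
  show e.symm (e g) = g
  simp


/-- Let G be a finite non-abelian nilpotent group. Then the centralizer of every non-central element of G is cyclic if and only if G is isomorphic to the direct product of a generalized quaternion group and a cyclic group of odd order. -/
theorem result {G : Type*} [Group G] [Finite G] (hG : Group.IsNilpotent G)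
    (hna : ¬ IsMulCommutative G) :
    (∀ x : G, x ∉ Subgroup.center G → IsCyclic (Subgroup.centralizer ({x} : Set G))) ↔
      ∃ (k m : ℕ), 1 ≤ k ∧ Odd m ∧ Nonempty (G ≃* QuaternionGroup (2 ^ k) × Multiplicative (ZMod m)) := by
  constructor
  · intro h
    exact forward hG hna h
  · rintro ⟨k, m, _, hm, ⟨e⟩⟩ x hx
    exact backward e (fun y hy => back_prod k m hm y hy) x hx

end Cfsg.Agent.S4370
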