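import Cfsg.Statements.S3918
import Mathlib
import Cfsg.Agent.S1160
import Cfsg.Agent.S4370

set_option autoImplicit false
open Cfsg

namespace Cfsg.Agent.S3918

open Subgroup

/-- a subgroup strictly between `H` (order `p^2`) and `G` (order `p^3`) is everything -/
theorem eq_top_of_lt {G : Type*} [Group G] [Finite G] {p : ℕ} [Fact p.Prime]
    (hG : Nat.card G = p ^ 3) (H K : Subgroup G) (hH : Nat.card H = p ^ 2) (hHK : H ≤ K)
    (x : G) (hxK : x ∈ K) (hxH : x ∉ H) : K = ⊤ := by
  have hp := (Fact.out : p.Prime)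
  have hd : Nat.card K ∣ p ^ 3 := hG ▸ K.card_subgroup_dvd_card
  obtain ⟨k, hk3, hk⟩ := (Nat.dvd_prime_pow hp).mp hd
  have hd2 : p ^ 2 ∣ Nat.card K := hH ▸ Subgroup.card_dvd_of_le hHK
  rw [hk] at hd2
  have hk2 : 2 ≤ k := (Nat.pow_dvd_pow_iff_le_right hp.one_lt).mp hd2
  have hkne : k ≠ 2 := by
    intro h2
    have : H = K := eq_of_le_of_card_ge hHK (by rw [hk, h2, hH])
    exact hxH (this ▸ hxK)
  have hk3' : k = 3 := by omega
  apply (Subgroup.card_eq_iff_eq_top K).mp
  rw [hk, hk3', hG]

theorem backward {G : Type*} [Group G] [Finite G] {p : ℕ} [Fact p.Prime]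
    (hna : ¬ IsMulCommutative G) (hG : Nat.card G = p ^ 3) (H : Subgroup G)
    (hH : ¬ IsCyclic ↥H) : Subgroup.centralizer (H : Set G) ≤ H := by
  have hp := (Fact.out : p.Prime)
  have hd : Nat.card H ∣ p ^ 3 := hG ▸ H.card_subgroup_dvd_card
  obtain ⟨k, hk3, hk⟩ := (Nat.dvd_prime_pow hp).mp hd
  have hk_cases : k = 0 ∨ k = 1 ∨ k = 2 ∨ k = 3 := by omega
  rcases hk_cases with rfl | rfl | rfl | rfl
  · exfalso
    apply hH
    have : Subsingleton H := by
      rw [← Finite.card_le_one_iff_subsingleton, hk]; simp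
    exact isCyclic_of_subsingleton
  · exfalso
    apply hH
    exact isCyclic_of_prime_card (p := p) (by rw [hk, pow_one])
  · -- order p^2
    by_contra hcon
    obtain ⟨g, hgC, hgH⟩ := SetLike.not_le_iff_exists.mp hcon
    have hHcomm : ∀ a b : H, a * b = b * a :=
      (IsPGroup.isMulCommutative_of_card_eq_prime_sq hk).is_comm.comm
    have hHC : H ≤ centralizer (H : Set G) := by
      intro a ha
      rw [mem_centralizer_iff]
      intro b hb
      have := hHcomm ⟨b, hb⟩ ⟨a, ha⟩
      exact congrArg Subtype.val this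
    have hCtop : centralizer (H : Set G) = ⊤ := eq_top_of_lt hG H _ hk hHC g hgC hgH
    have hHZ : ∀ a ∈ H, ∀ b : G, b * a = a * b := by
      intro a ha b
      have hb : b ∈ centralizer (H : Set G) := hCtop ▸ mem_top b
      rw [mem_centralizer_iff] at hb
      exact (hb a ha).symm
    apply hna
    refine ⟨⟨fun a b => ?_⟩⟩
    by_cases ha : a ∈ H
    · exact (hHZ a ha b).symm
    · have hle : H ≤ centralizer ({a} : Set G) := by
        intro c hc
        rw [mem_centralizer_singleton_iff]
        exact (hHZ c hc a).symm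
      have : centralizer ({a} : Set G) = ⊤ :=
        eq_top_of_lt hG H _ hk hle a (by rw [mem_centralizer_singleton_iff]) ha
      have hb : b ∈ centralizer ({a} : Set G) := this ▸ mem_top b
      rw [mem_centralizer_singleton_iff] at hb
      exact hb.symm
  · have : H = ⊤ := by
      apply (Subgroup.card_eq_iff_eq_top H).mp
      rw [hk, hG]
    rw [this]
    exact le_top

theorem forward {G : Type*} [Group G] [Finite G] {p : ℕ} [Fact p.Prime] (hp2 : p ≠ 2)
    (hG : IsPGroup p G) (hna : ¬ IsMulCommutative G)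
    (hall : ∀ H : Subgroup G, ¬ IsCyclic ↥H → Subgroup.centralizer (H : Set G) ≤ H) :
    Nat.card G = p ^ 3 := by
  have hp := (Fact.out : p.Prime)
  have hnc : ¬ IsCyclic G := by
    intro hc
    apply hna
    exact ⟨⟨fun a b => (IsCyclic.commGroup (α := G)).mul_comm a b⟩⟩
  have hnt : Nontrivial G := by
    by_contra hnt
    rw [not_nontrivial_iff_subsingleton] at hnt
    exact hnc isCyclic_of_subsingleton
  -- central element of order p
  have hcn : Nontrivial (center G) := hG.center_nontrivial
  have hcd : p ∣ Nat.card (center G) := by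
    obtain ⟨k, hk⟩ := (hG.to_subgroup (center G)).exists_card_eq
    have hk0 : k ≠ 0 := by
      intro h0
      rw [h0, pow_zero] at hk
      have := Finite.one_lt_card (α := center G)
      omega
    rw [hk]
    exact dvd_pow_self p hk0
  obtain ⟨z', hz'⟩ := exists_prime_orderOf_dvd_card' p hcd
  set z : G := (z' : G) with hz
  have hzc : z ∈ center G := z'.2
  have hzo : orderOf z = p := by rw [hz, Subgroup.orderOf_coe]; exact hz'
  obtain ⟨y, hyp, hyz, hycomm⟩ :=
    Cfsg.Agent.S1160.exists_good p hp hp2 (Nat.card G) G rfl hG hnc z hzc hzo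
  have hzcomm : ∀ g : G, g * z = z * g := fun g => (mem_center_iff.mp hzc g)
  -- the subgroup E generated by y and z, as the range of a hom
  let φ : (zpowers y × zpowers z) →* G :=
    { toFun := fun ab => (ab.1 : G) * (ab.2 : G)
      map_one' := by simp
      map_mul' := by
        rintro ⟨a, b⟩ ⟨c, d⟩
        have hb : ∀ g : G, g * (b : G) = (b : G) * g := by
          obtain ⟨k, hk⟩ := b.2
          intro g
          rw [← hk]
          exact ((Commute.zpow_right (hzcomm g) k)).eq
        simp only [Prod.mk_mul_mk, Subgroup.coe_mul]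
        have h1 := hb (c : G)
        calc (a : G) * (c : G) * ((b : G) * (d : G)) = a * (c * b) * d := by group
          _ = a * (b * c) * d := by rw [h1]
          _ = a * b * (c * d) := by group }
  set E : Subgroup G := φ.range with hE
  have hyE : y ∈ E := ⟨(⟨y, mem_zpowers y⟩, 1), by simp [φ]⟩
  have hzE : z ∈ E := ⟨(1, ⟨z, mem_zpowers z⟩), by simp [φ]⟩
  have hoy : orderOf y ∣ p := orderOf_dvd_of_pow_eq_one hyp
  have hEcard : Nat.card E ≤ p ^ 2 := by
    have h1 : Nat.card E ∣ Nat.card (zpowers y × zpowers z) := Subgroup.card_range_dvd φ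
    rw [Nat.card_prod, Nat.card_zpowers, Nat.card_zpowers, hzo] at h1
    have h2 : orderOf y * p ∣ p * p := Nat.mul_dvd_mul_right hoy p
    have := Nat.le_of_dvd (Nat.mul_pos hp.pos hp.pos) (h1.trans h2)
    rw [pow_two]; exact this
  have hEnc : ¬ IsCyclic E := by
    intro hc
    apply hyz
    have hu : (⟨y, hyE⟩ : E) ^ p = 1 := by
      apply Subtype.ext
      simp [hyp]
    have hzE' : orderOf (⟨z, hzE⟩ : E) = p := by
      rw [← hzo, ← Subgroup.orderOf_coe]
    have := Cfsg.Agent.S4370.mem_zpowers_of_cyclic hp hu hzE'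
    obtain ⟨k, hk⟩ := this
    refine ⟨k, ?_⟩
    have := congrArg Subtype.val hk
    simpa using this
  have hCE : centralizer ({y} : Set G) ≤ E := by
    refine le_trans ?_ (hall E hEnc)
    intro g hg
    rw [mem_centralizer_singleton_iff] at hg
    rw [mem_centralizer_iff]
    rintro _ ⟨⟨a, b⟩, rfl⟩
    obtain ⟨i, hi⟩ := a.2
    obtain ⟨k, hk⟩ := b.2
    show (a : G) * (b : G) * g = g * ((a : G) * (b : G))
    have h1 : g * (a : G) = (a : G) * g := by
      rw [← hi]
      exact ((Commute.zpow_right (show Commute g y from hg) i)).eq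
    have h2 : g * (b : G) = (b : G) * g := by
      rw [← hk]
      exact ((Commute.zpow_right (hzcomm g) k)).eq
    calc (a : G) * (b : G) * g = a * (b * g) := by group
      _ = a * (g * b) := by rw [h2]
      _ = (a * g) * b := by group
      _ = (g * a) * b := by rw [h1]
      _ = g * (a * b) := by group
  -- the commutator hom
  have hcen : ∀ g : G, g * y * g⁻¹ * y⁻¹ ∈ center G := by
    intro g
    obtain ⟨k, hk⟩ := hycomm g
    rw [← hk]
    exact zpow_mem hzc k
  let ψ : G →* G :=
    { toFun := fun g => g * y * g⁻¹ * y⁻¹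
      map_one' := by simp
      map_mul' := by
        intro g h
        have hc := mem_center_iff.mp (hcen h) g
        calc g * h * y * (g * h)⁻¹ * y⁻¹
            = g * (h * y * h⁻¹ * y⁻¹) * y * g⁻¹ * y⁻¹ := by group
          _ = (h * y * h⁻¹ * y⁻¹) * g * y * g⁻¹ * y⁻¹ := by rw [hc]
          _ = (h * y * h⁻¹ * y⁻¹) * (g * y * g⁻¹ * y⁻¹) := by group
          _ = (g * y * g⁻¹ * y⁻¹) * (h * y * h⁻¹ * y⁻¹) :=
            (mem_center_iff.mp (hcen h) _).symm }
  have hker : ψ.ker ≤ centralizer ({y} : Set G) := by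
    intro g hg
    rw [MonoidHom.mem_ker] at hg
    rw [mem_centralizer_singleton_iff]
    have : g * y * g⁻¹ * y⁻¹ = 1 := hg
    calc g * y = (g * y * g⁻¹ * y⁻¹) * (y * g) := by group
      _ = y * g := by rw [this]; simp
  have hrange : ψ.range ≤ zpowers z := by
    rintro _ ⟨g, rfl⟩
    exact hycomm g
  have hkc : Nat.card ψ.ker ≤ p ^ 2 :=
    (Nat.le_of_dvd Nat.card_pos (Subgroup.card_dvd_of_le (hker.trans hCE))).trans hEcard
  have hrc : Nat.card ψ.range ≤ p := by
    have := Nat.le_of_dvd Nat.card_pos (Subgroup.card_dvd_of_le hrange)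
    rwa [Nat.card_zpowers, hzo] at this
  have hmul : Nat.card ψ.ker * Nat.card ψ.range = Nat.card G := by
    rw [← Subgroup.index_ker]
    exact ψ.ker.card_mul_index
  have hle : Nat.card G ≤ p ^ 3 := by
    rw [← hmul, pow_succ]
    exact Nat.mul_le_mul hkc hrc
  obtain ⟨k, hk⟩ := hG.exists_card_eq
  rw [hk] at hle ⊢
  have hk3 : k ≤ 3 := (Nat.pow_le_pow_iff_right hp.one_lt).mp hle
  have hk_cases : k = 0 ∨ k = 1 ∨ k = 2 ∨ k = 3 := by omega
  rcases hk_cases with rfl | rfl | rfl | rfl
  · exfalso
    apply hnc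
    have : Subsingleton G := by
      rw [← Finite.card_le_one_iff_subsingleton, hk]; simp
    exact isCyclic_of_subsingleton
  · exfalso
    apply hnc
    exact isCyclic_of_prime_card (p := p) (by rw [hk, pow_one])
  · exfalso
    apply hna
    exact IsPGroup.isMulCommutative_of_card_eq_prime_sq hk
  · rfl

theorem result {G : Type*} [Group G] [Finite G] {p : ℕ} [Fact p.Prime] (hp : p ≠ 2) (hG : IsPGroup p G) (hna : ¬ IsMulCommutative G) :
    (∀ H : Subgroup G, ¬ IsCyclic ↥H → Subgroup.centralizer (H : Set G) ≤ H) ↔ Nat.card G = p ^ 3 := by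
  exact ⟨forward hp hG hna, fun h H hH => backward hna h H hH⟩

end Cfsg.Agent.S3918
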