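import Mathlib
import Cfsg.Statements.S3919
import Cfsg.Agent.Lib.Helper21.MaxClassTwo
import Cfsg.Agent.Lib.Helper19.UniqueInvolution
import Cfsg.Agent.Lib.Helper19.Dihedral
import Cfsg.Agent.S0112
import Cfsg.Agent.S1255

set_option autoImplicit false
open Cfsg

namespace Cfsg.Agent.S3919

open Cfsg.Agent.Lib.Helper21

section
variable {G : Type*} [Group G] [Finite G]

/-- a subgroup of order four is commutative, hence contained in its centralizer -/
theorem le_centralizer_of_card_four (A : Subgroup G) (hA : Nat.card A = 4) :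
    A ≤ Subgroup.centralizer (A : Set G) := by
  haveI : Fact (Nat.Prime 2) := ⟨Nat.prime_two⟩
  have hcomm : IsMulCommutative A :=
    IsPGroup.isMulCommutative_of_card_eq_prime_sq (p := 2) (by rw [hA]; norm_num)
  intro a ha
  rw [Subgroup.mem_centralizer_iff]
  intro b hb
  have := hcomm.is_comm.comm (⟨b, hb⟩ : A) ⟨a, ha⟩
  exact congrArg Subtype.val this

/-- forward direction: self-centralizing noncyclic subgroups force maximal class -/
theorem class_of_selfcent (hna : ¬ IsMulCommutative G) (n : ℕ) (hG : Nat.card G = 2 ^ n)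
    (hall : ∀ H : Subgroup G, ¬ IsCyclic ↥H → Subgroup.centralizer (H : Set G) ≤ H) :
    Group.nilpotencyClass G = n - 1 := by
  classical
  haveI : Fact (Nat.Prime 2) := ⟨Nat.prime_two⟩
  have hpg : IsPGroup 2 G := IsPGroup.of_card hG
  by_cases hA : ∃ A : Subgroup G, Nat.card A = 4 ∧ ¬ IsCyclic A
  · obtain ⟨A, hA4, hAnc⟩ := hA
    have hC : Subgroup.centralizer (A : Set G) = A :=
      le_antisymm (hall A hAnc) (le_centralizer_of_card_four A hA4)
    exact Cfsg.Agent.S0112.result (p := 2) n hG A (by rw [hA4]; norm_num) hC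
  · push Not at hA
    -- a central involution
    haveI : Nontrivial G := by
      by_contra h
      rw [not_nontrivial_iff_subsingleton] at h
      exact hna ⟨⟨fun a b => Subsingleton.elim _ _⟩⟩
    haveI := hpg.center_nontrivial
    have h2dvd : 2 ∣ Nat.card (Subgroup.center G) := by
      obtain ⟨k, hk⟩ := (hpg.to_subgroup (Subgroup.center G)).exists_card_eq
      have := Finite.one_lt_card_iff_nontrivial.mpr ‹Nontrivial (Subgroup.center G)›
      rcases Nat.eq_zero_or_pos k with h0 | h0
      · subst h0; rw [pow_zero] at hk; omega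
      · rw [hk]; exact dvd_pow_self 2 (by omega)
    obtain ⟨z0, hz0⟩ := exists_prime_orderOf_dvd_card' 2 h2dvd
    set z : G := (z0 : G) with hzdef
    have hzo : orderOf z = 2 := by rw [hzdef, Subgroup.orderOf_coe]; exact hz0
    have hzc : z ∈ Subgroup.center G := z0.2
    have hz1 : z ≠ 1 := by
      intro h; rw [h, orderOf_one] at hzo; omega
    have hz2 : z * z = 1 := by
      rw [← pow_two, ← hzo]; exact pow_orderOf_eq_one z
    have huniq : ∀ u : G, u * u = 1 → u = 1 ∨ u = z := by
      intro u hu
      by_contra hne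
      push Not at hne
      have hzu : z * u = u * z := (Subgroup.mem_center_iff.mp hzc u).symm
      have hK := Cfsg.Agent.S1255.isKleinFour_fourSub z u hz2 hu hzu hz1 hne.1 (Ne.symm hne.2)
      exact hK.not_isCyclic (hA _ hK.card_four)
    have hnab : ¬ ∀ g h : G, g * h = h * g := fun h => hna ⟨⟨h⟩⟩
    obtain ⟨m, hm, a, y, hao, hya, hyay, hyy, haz, hcov, hcard⟩ :=
      Cfsg.Agent.Lib.Helper19.quaternion_structure hpg z hz1 hz2 huniq hnab
    -- A = ⟨y⟩ of order 4, self-centralizing
    have hy4 : orderOf y = 2 ^ (1 + 1) := by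
      apply orderOf_eq_prime_pow
      · rw [pow_one, pow_two, hyy]; exact hz1
      · have : y ^ 2 ^ (1 + 1) = (y * y) * (y * y) := by
          rw [show (2 : ℕ) ^ (1 + 1) = 4 by norm_num, pow_succ, pow_succ, pow_succ, pow_one]
          group
        rw [this, hyy, hz2]
    have hAcard : Nat.card (Subgroup.zpowers y) = 2 ^ 2 := by
      rw [Nat.card_zpowers, hy4]
    have hzmem : z ∈ Subgroup.zpowers y := by
      rw [← hyy, ← pow_two]; exact Subgroup.npow_mem_zpowers y 2
    have hinv := Cfsg.Agent.Lib.Helper19.conj_inv_of_mem_zpowers a y hyay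
    -- elements of ⟨a⟩ commuting with y lie in {1, z}
    have hkey : ∀ t ∈ Subgroup.zpowers a, t * y = y * t → t ∈ Subgroup.zpowers y := by
      intro t ht hty
      have h1 := hinv t ht
      have h2 : y * t * y⁻¹ = t := by rw [← hty]; group
      have h3 : t * t = 1 := by
        have : t⁻¹ = t := by rw [← h1, h2]
        calc t * t = t⁻¹ * t := by rw [this]
          _ = 1 := by group
      rcases huniq t h3 with h | h
      · rw [h]; exact Subgroup.one_mem _
      · rw [h]; exact hzmem
    have hC : Subgroup.centralizer ((Subgroup.zpowers y : Subgroup G) : Set G) = Subgroup.zpowers y := by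
      apply le_antisymm
      · intro g hg
        rw [Subgroup.mem_centralizer_iff] at hg
        have hgy : y * g = g * y := hg y (Subgroup.mem_zpowers y)
        rcases hcov g with h | h
        · exact hkey g h hgy.symm
        · have h5 : g * y⁻¹ * y = y * (g * y⁻¹) := by
            calc g * y⁻¹ * y = g := by group
              _ = (y * g) * y⁻¹ := by rw [hgy]; group
              _ = y * (g * y⁻¹) := by group
          have := hkey _ h h5
          have h6 := (Subgroup.zpowers y).mul_mem this (Subgroup.mem_zpowers y)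
          simpa using h6
      · intro g hg
        rw [Subgroup.mem_centralizer_iff]
        intro b hb
        obtain ⟨i, rfl⟩ := Subgroup.mem_zpowers_iff.mp hg
        obtain ⟨j, rfl⟩ := Subgroup.mem_zpowers_iff.mp hb
        exact ((Commute.refl y).zpow_zpow j i).eq
    exact Cfsg.Agent.S0112.result (p := 2) n hG (Subgroup.zpowers y) hAcard hC


/-- a nonabelian group of order `2 ^ n` has `n ≥ 3` -/
theorem three_le (hna : ¬ IsMulCommutative G) (n : ℕ) (hG : Nat.card G = 2 ^ n) : 3 ≤ n := by
  haveI : Fact (Nat.Prime 2) := ⟨Nat.prime_two⟩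
  by_contra hlt
  push Not at hlt
  apply hna
  interval_cases n
  · rw [pow_zero] at hG
    haveI : Subsingleton G := (Nat.card_eq_one_iff_unique.mp hG).1
    exact ⟨⟨fun a b => Subsingleton.elim _ _⟩⟩
  · rw [pow_one] at hG
    haveI : IsCyclic G := isCyclic_of_prime_card hG
    exact IsCyclic.isMulCommutative
  · exact IsPGroup.isMulCommutative_of_card_eq_prime_sq (p := 2) hG

/-- backward direction: in a 2-group of maximal class noncyclic subgroups are self-centralizing -/
theorem selfcent_of_class (hna : ¬ IsMulCommutative G) (n : ℕ) (hG : Nat.card G = 2 ^ n)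
    (hc : Group.nilpotencyClass G = n - 1) (H : Subgroup G) (hH : ¬ IsCyclic ↥H) :
    Subgroup.centralizer (H : Set G) ≤ H := by
  classical
  haveI : Fact (Nat.Prime 2) := ⟨Nat.prime_two⟩
  have hpg : IsPGroup 2 G := IsPGroup.of_card hG
  have hn := three_le hna n hG
  obtain ⟨hi, -⟩ := mc_two_index n G hn hG hc
  obtain ⟨hZ, hZle, C, hC, hCi, hZC, hcen⟩ := mc_structure n hn hG hi
  -- generator of C
  obtain ⟨c0, hc0⟩ := hC.exists_generator
  set c : G := (c0 : G) with hcdef
  have hCeq : C = Subgroup.zpowers c := by
    apply le_antisymm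
    · intro x hx
      obtain ⟨i, hi⟩ := Subgroup.mem_zpowers_iff.mp (hc0 ⟨x, hx⟩)
      have hi' : c ^ i = x := by
        have := congrArg Subtype.val hi; simpa using this
      rw [← hi']
      exact Subgroup.zpow_mem_zpowers c i
    · rw [Subgroup.zpowers_le]; exact c0.2
  have hCcard : Nat.card C * 2 = Nat.card G := by rw [← hCi]; exact Subgroup.card_mul_index _
  have hco : orderOf c = 2 ^ (n - 1) := by
    rw [← Nat.card_zpowers, ← hCeq]
    rw [hG] at hCcard
    have h2 : 2 ^ (n - 1) * 2 = 2 ^ n := by rw [← pow_succ]; congr 1; omega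
    omega
  -- the central involution
  haveI : Nontrivial (Subgroup.center G) := by
    rw [← Finite.one_lt_card_iff_nontrivial, hZ]; norm_num
  obtain ⟨z0, hz0⟩ := exists_ne (1 : Subgroup.center G)
  set z : G := (z0 : G) with hzdef
  have hzc : z ∈ Subgroup.center G := z0.2
  have hz1 : z ≠ 1 := by
    intro h; apply hz0; exact Subtype.ext h
  have hz2 : z * z = 1 := by
    have : z0 ^ Nat.card (Subgroup.center G) = 1 := pow_card_eq_one'
    rw [hZ, pow_two] at this
    exact congrArg Subtype.val this
  have hzo : orderOf z = 2 := by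
    apply orderOf_eq_prime
    · rw [pow_two]; exact hz2
    · exact hz1
  have hZeq : Subgroup.zpowers z = Subgroup.center G := by
    apply Subgroup.eq_of_le_of_card_ge
    · rw [Subgroup.zpowers_le]; exact hzc
    · rw [Nat.card_zpowers, hzo, hZ]
  have hzC : z ∈ Subgroup.zpowers c := by rw [← hCeq]; exact hZC hzc
  have hzeq := Cfsg.Agent.Lib.Helper19.unique_involution_zpowers c (n - 1) (by omega) hco z hzC hz2 hz1
  -- H is not inside C
  have hHC : ¬ H ≤ C := fun h => hH (Subgroup.isCyclic_of_le h)
  obtain ⟨h, hhH, hhC⟩ := SetLike.not_le_iff_exists.mp hHC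
  -- H ∩ C is nontrivial
  have hex : ∃ u ∈ H, u ∈ C ∧ u ≠ 1 := by
    by_contra hno
    push Not at hno
    apply hH
    have hle : H ≤ Subgroup.zpowers h := by
      intro u hu
      by_cases huC : u ∈ C
      · rw [hno u hu huC]; exact Subgroup.one_mem _
      · have h1 : u * h⁻¹ ∈ C := by
          rw [Subgroup.mul_mem_iff_of_index_two hCi]
          constructor
          · intro h'; exact absurd h' huC
          · intro h'; exact absurd (by simpa using C.inv_mem h') hhC
        have h2 := hno (u * h⁻¹) (H.mul_mem hu (H.inv_mem hhH)) h1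
        have : u = h := by
          calc u = u * h⁻¹ * h := by group
            _ = h := by rw [h2, one_mul]
        rw [this]; exact Subgroup.mem_zpowers h
    exact Subgroup.isCyclic_of_le hle
  obtain ⟨u, huH, huC, hu1⟩ := hex
  have hzH : z ∈ H := by
    obtain ⟨j, hj⟩ := (IsPGroup.iff_orderOf.mp hpg) u
    have hj1 : 1 ≤ j := by
      rcases Nat.eq_zero_or_pos j with h0 | h0
      · subst h0; rw [pow_zero, orderOf_eq_one_iff] at hj; exact absurd hj hu1
      · exact h0
    set w : G := u ^ (2 ^ (j - 1)) with hw
    have hw2 : w * w = 1 := by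
      rw [hw, ← pow_add, ← two_mul, ← pow_succ', show j - 1 + 1 = j by omega, ← hj]
      exact pow_orderOf_eq_one u
    have hw1 : w ≠ 1 := by
      intro h1
      rw [hw, ← orderOf_dvd_iff_pow_eq_one, hj, Nat.pow_dvd_pow_iff_le_right (by norm_num)] at h1
      omega
    have hwC : w ∈ Subgroup.zpowers c := by
      rw [← hCeq]; exact C.pow_mem huC _
    have hweq := Cfsg.Agent.Lib.Helper19.unique_involution_zpowers c (n - 1) (by omega) hco w hwC hw2 hw1
    rw [hzeq, ← hweq]
    exact H.pow_mem huH _
  have hZH : Subgroup.center G ≤ H := by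
    rw [← hZeq, Subgroup.zpowers_le]; exact hzH
  -- main argument
  intro x hx
  rw [Subgroup.mem_centralizer_iff] at hx
  have hxh : h * x = x * h := hx h hhH
  by_cases hxC : x ∈ C
  · exact hZH (hcen h hhC x hxC hxh.symm)
  · have h1 : x * h⁻¹ ∈ C := by
      rw [Subgroup.mul_mem_iff_of_index_two hCi]
      constructor
      · intro h'; exact absurd h' hxC
      · intro h'; exact absurd (by simpa using C.inv_mem h') hhC
    have h2 : x * h⁻¹ * h = h * (x * h⁻¹) := by
      calc x * h⁻¹ * h = x := by group
        _ = (h * x) * h⁻¹ := by rw [hxh]; group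
        _ = h * (x * h⁻¹) := by group
    have h3 := hZH (hcen h hhC _ h1 h2)
    have := H.mul_mem h3 hhH
    simpa using this

end

/-- Say that a group has self-centralizing non-cyclic subgroups when every non-cyclic subgroup H satisfies C_G(H) ≤ H. A finite non-abelian 2-group G of order 2^n has self-centralizing non-cyclic subgroups if and only if G has nilpotency class n − 1 (that is, G is dihedral, semidihedral or generalized quaternion). -/
theorem result {G : Type*} [Group G] [Finite G] (hna : ¬ IsMulCommutative G) (n : ℕ) (hG : Nat.card G = 2 ^ n) :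
    (∀ H : Subgroup G, ¬ IsCyclic ↥H → Subgroup.centralizer (H : Set G) ≤ H) ↔ (⊤ : Subgroup G).lowerCentralSeries (n - 2) ≠ ⊥ := by
  haveI : Fact (Nat.Prime 2) := ⟨Nat.prime_two⟩
  have hpg : IsPGroup 2 G := IsPGroup.of_card hG
  haveI : Group.IsNilpotent G := hpg.isNilpotent
  have hn := three_le hna n hG
  have hle := mc_class_le 2 n G hG (by omega)
  rw [Ne, Subgroup.lowerCentralSeries_eq_bot_iff_nilpotencyClass_le]
  constructor
  · intro hall
    have := class_of_selfcent hna n hG hall
    omega
  · intro hc H hH
    exact selfcent_of_class hna n hG (by omega) H hH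

end Cfsg.Agent.S3919
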