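import Mathlib
import Cfsg.Statements.S3920

set_option autoImplicit false
open Cfsg

namespace Cfsg.Agent.S3920
open DihedralGroup

variable {n : ℕ}

lemma two_tors_val [NeZero n] (z : ZMod n) (hz : 2 * z = 0) (hz0 : z ≠ 0) : 2 * z.val = n := by
  have h1 : ((2 * z.val : ℕ) : ZMod n) = 0 := by
    push_cast
    rw [ZMod.natCast_zmod_val]
    exact hz
  rw [ZMod.natCast_eq_zero_iff] at h1
  have h2 : z.val < n := ZMod.val_lt z
  have h3 : 0 < z.val := by
    rcases Nat.eq_zero_or_pos z.val with h | h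
    · exact absurd ((ZMod.val_eq_zero z).mp h) hz0
    · exact h
  obtain ⟨c, hc⟩ := h1
  have hc1 : c = 1 := by
    rcases Nat.lt_or_ge c 1 with h | h
    · have : c = 0 := by omega
      subst this
      omega
    · rcases Nat.lt_or_ge 1 c with h' | h'
      · have : n * 2 ≤ n * c := Nat.mul_le_mul_left n h'
        omega
      · omega
  rw [hc, hc1, mul_one]

lemma two_tors_unique [NeZero n] {x y : ZMod n} (hx : 2 * x = 0) (hy : 2 * y = 0) (hx0 : x ≠ 0)
    (hy0 : y ≠ 0) : x = y := by
  apply ZMod.val_injective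
  have := two_tors_val x hx hx0
  have := two_tors_val y hy hy0
  omega

lemma P_odd (hn : Odd n) (j : ZMod n) (h : 2 * j = 0) : j = 0 := by
  have hcop : Nat.Coprime 2 n := hn.coprime_two_left
  have hu : IsUnit ((2 : ℕ) : ZMod n) := (ZMod.isUnit_iff_coprime 2 n).mpr hcop
  have : ((2 : ℕ) : ZMod n) * j = 0 := by push_cast; exact h
  exact (hu.mul_right_eq_zero).mp this

lemma P_pow (k : ℕ) (hn : n = 2 ^ k) [NeZero n] (d j : ZMod n) (hd : d ≠ 0) (hj : 2 * j = 0) :
    ∃ t : ℕ, j = t • d := by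
  by_cases hj0 : j = 0
  · exact ⟨0, by simp [hj0]⟩
  · have ho : addOrderOf d ∣ 2 ^ k := by
      have := addOrderOf_dvd_card (x := d)
      rw [ZMod.card] at this
      rw [← hn]; exact this
    obtain ⟨e, he, hoe⟩ := (Nat.dvd_prime_pow Nat.prime_two).mp ho
    have he1 : e ≠ 0 := by
      rintro rfl
      rw [pow_zero] at hoe
      exact hd (AddMonoid.addOrderOf_eq_one_iff.mp hoe)
    have hx2 : 2 * ((2 ^ (e - 1)) • d) = 0 := by
      have h1 : 2 * ((2 ^ (e - 1)) • d) = (2 ^ e) • d := by
        have : (2 : ℕ) ^ e = 2 * 2 ^ (e - 1) := by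
          rw [← pow_succ']; congr 1; omega
        rw [this, mul_comm 2 (2 ^ (e - 1)), mul_nsmul, two_nsmul, two_mul]
      rw [h1, ← hoe]
      exact addOrderOf_nsmul_eq_zero d
    have hx0 : (2 ^ (e - 1)) • d ≠ 0 := by
      apply nsmul_ne_zero_of_lt_addOrderOf (by positivity)
      rw [hoe]
      exact Nat.pow_lt_pow_right (by norm_num) (by omega)
    exact ⟨2 ^ (e - 1), two_tors_unique hj hx2 hj0 hx0⟩

lemma backward (hP : ∀ d j : ZMod n, d ≠ 0 → 2 * j = 0 → ∃ t : ℕ, j = t • d)
    (H : Subgroup (DihedralGroup n)) (hH : ¬ IsCyclic H) :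
    Subgroup.centralizer (H : Set (DihedralGroup n)) ≤ H := by
  have h1 : ∃ i, sr i ∈ H := by
    by_contra hno
    push_neg at hno
    apply hH
    have : H ≤ Subgroup.zpowers (r 1) := by
      intro x hx
      cases x with
      | r j =>
        rw [Subgroup.mem_zpowers_iff]
        exact ⟨(j.cast : ℤ), by rw [r_one_zpow]; simp⟩
      | sr j => exact absurd hx (hno j)
    exact Subgroup.isCyclic_of_le this
  obtain ⟨i, hi⟩ := h1
  have h2 : ∃ d, d ≠ 0 ∧ r d ∈ H := by
    by_contra hno
    push_neg at hno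
    apply hH
    have : H ≤ Subgroup.zpowers (sr i) := by
      intro x hx
      cases x with
      | r j =>
        by_cases hj : j = 0
        · rw [hj, r_zero]; exact one_mem _
        · exact absurd hx (hno j hj)
      | sr j =>
        have : r (j - i) ∈ H := by rw [← sr_mul_sr]; exact H.mul_mem hi hx
        have hji : j - i = 0 := by
          by_contra h
          exact hno _ h this
        have : j = i := sub_eq_zero.mp hji
        rw [this]; exact Subgroup.mem_zpowers _
    exact Subgroup.isCyclic_of_le this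
  obtain ⟨d, hd0, hd⟩ := h2
  intro g hg
  rw [Subgroup.mem_centralizer_iff] at hg
  have hrpow : ∀ t : ℕ, r (t • d) ∈ H := by
    intro t
    have := H.pow_mem hd t
    rw [r_pow] at this
    simpa [mul_comm, nsmul_eq_mul] using this
  cases g with
  | r j =>
    have := hg (sr i) hi
    rw [sr_mul_r, r_mul_sr] at this
    have h2j : 2 * j = 0 := by
      have h := sr.inj this
      linear_combination h
    obtain ⟨t, ht⟩ := hP d j hd0 h2j
    rw [ht]; exact hrpow t
  | sr j =>
    have := hg (sr i) hi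
    rw [sr_mul_sr, sr_mul_sr] at this
    have h2 : 2 * (i - j) = 0 := by
      have h := r.inj this
      linear_combination (-1) * h
    obtain ⟨t, ht⟩ := hP d (i - j) hd0 h2
    have : sr j = r (t • d) * sr i := by
      rw [r_mul_sr, ← ht]; congr 1; ring
    rw [this]; exact H.mul_mem (hrpow t) hi

def idx : DihedralGroup n → ZMod n
  | r i => i
  | sr i => i

def dihSub (K : AddSubgroup (ZMod n)) : Subgroup (DihedralGroup n) where
  carrier := {x | idx x ∈ K}
  mul_mem' := by
    intro a b ha hb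
    cases a <;> cases b <;> simp only [Set.mem_setOf_eq, idx, r_mul_r, r_mul_sr, sr_mul_r, sr_mul_sr] at ha hb ⊢
    · exact K.add_mem ha hb
    · exact K.sub_mem hb ha
    · exact K.add_mem ha hb
    · exact K.sub_mem hb ha
  one_mem' := by
    show idx (1 : DihedralGroup n) ∈ K
    rw [one_def]; exact K.zero_mem
  inv_mem' := by
    intro a ha
    cases a <;> simp only [Set.mem_setOf_eq, idx, inv_r, inv_sr] at ha ⊢
    · exact K.neg_mem ha
    · exact ha

def oddPart (n : ℕ) : AddSubgroup (ZMod n) where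
  carrier := {i | ∃ t : ℕ, Odd t ∧ t • i = 0}
  add_mem' := by
    rintro a b ⟨t, ht, hta⟩ ⟨u, hu, hub⟩
    refine ⟨t * u, ht.mul hu, ?_⟩
    have h1 : (t * u) • a = 0 := by rw [mul_nsmul, hta, smul_zero]
    have h2 : (t * u) • b = 0 := by rw [mul_comm, mul_nsmul, hub, smul_zero]
    rw [smul_add, h1, h2, add_zero]
  zero_mem' := ⟨1, odd_one, by simp⟩
  neg_mem' := by
    rintro a ⟨t, ht, hta⟩
    exact ⟨t, ht, by rw [smul_neg, hta, neg_zero]⟩

lemma forward (hn : 3 ≤ n) (hne : ¬ (Odd n ∨ ∃ k : ℕ, n = 2 ^ k)) :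
    ∃ H : Subgroup (DihedralGroup n), ¬ IsCyclic H ∧
      ¬ Subgroup.centralizer (H : Set (DihedralGroup n)) ≤ H := by
  push_neg at hne
  obtain ⟨hodd, hpow⟩ := hne
  have heven : Even n := Nat.not_odd_iff_even.mp hodd
  obtain ⟨h, hh⟩ := heven
  obtain ⟨p, hp, hpn, hpodd⟩ : ∃ p, Nat.Prime p ∧ p ∣ n ∧ Odd p := by
    rcases Nat.eq_two_pow_or_exists_odd_prime_and_dvd n with ⟨k, hk⟩ | h
    · exact absurd hk (hpow k)
    · exact h
  refine ⟨dihSub (oddPart n), ?_, ?_⟩
  · intro hc
    obtain ⟨m, hm⟩ := hpn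
    have hx : ((m : ℕ) : ZMod n) ∈ oddPart n := by
      refine ⟨p, hpodd, ?_⟩
      rw [nsmul_eq_mul, ← Nat.cast_mul, ← hm]
      exact ZMod.natCast_self n
    have h1 : (r ((m : ℕ) : ZMod n) : DihedralGroup n) ∈ dihSub (oddPart n) := hx
    have h2 : (sr 0 : DihedralGroup n) ∈ dihSub (oddPart n) := (oddPart n).zero_mem
    have hcomm := hc.isMulCommutative.is_comm.comm ⟨_, h1⟩ ⟨_, h2⟩
    have hcomm' : (r ((m : ℕ) : ZMod n) : DihedralGroup n) * sr 0 = sr 0 * r ((m : ℕ) : ZMod n) :=
      congrArg Subtype.val hcomm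
    rw [r_mul_sr, sr_mul_r] at hcomm'
    have h3 := sr.inj hcomm'
    have h4 : ((2 * m : ℕ) : ZMod n) = 0 := by
      push_cast
      linear_combination (-1) * h3
    rw [ZMod.natCast_eq_zero_iff, hm] at h4
    have hm0 : 0 < m := by
      rcases Nat.eq_zero_or_pos m with h | h
      · subst h; omega
      · exact h
    have : p ∣ 2 := by
      rw [mul_comm 2 m, mul_comm p m] at h4
      exact Nat.dvd_of_mul_dvd_mul_left hm0 h4
    have hp2 := Nat.le_of_dvd (by norm_num) this
    have := hp.two_le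
    have : p = 2 := by omega
    subst this
    exact absurd hpodd (by decide)
  · intro hle
    have hc : (r ((h : ℕ) : ZMod n) : DihedralGroup n) ∈ Subgroup.centralizer ((dihSub (oddPart n)) : Set (DihedralGroup n)) := by
      rw [Subgroup.mem_centralizer_iff]
      intro x _
      have hcc : ((h : ℕ) : ZMod n) + ((h : ℕ) : ZMod n) = 0 := by
        rw [← Nat.cast_add, ← hh]; exact ZMod.natCast_self n
      cases x with
      | r j => rw [r_mul_r, r_mul_r, add_comm]
      | sr j =>
        rw [sr_mul_r, r_mul_sr]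
        congr 1
        linear_combination hcc
    have := hle hc
    obtain ⟨t, ht, hth⟩ : ((h : ℕ) : ZMod n) ∈ oddPart n := this
    rw [nsmul_eq_mul, ← Nat.cast_mul, ZMod.natCast_eq_zero_iff, hh] at hth
    have hh0 : 0 < h := by omega
    have : 2 ∣ t := by
      have h5 : h * 2 ∣ h * t := by
        have : h + h = h * 2 := by ring
        rw [this, mul_comm t h] at hth
        exact hth
      exact Nat.dvd_of_mul_dvd_mul_left hh0 h5
    exact (Nat.not_even_iff_odd.mpr ht) (even_iff_two_dvd.mpr this)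

theorem result (n : ℕ) (hn : 3 ≤ n) : (∀ H : Subgroup (DihedralGroup n), ¬ IsCyclic ↥H → Subgroup.centralizer (H : Set (DihedralGroup n)) ≤ H) ↔ (Odd n ∨ ∃ k : ℕ, n = 2 ^ k) := by
  haveI : NeZero n := ⟨by omega⟩
  constructor
  · intro hall
    by_contra hne
    obtain ⟨H, hH1, hH2⟩ := forward hn hne
    exact hH2 (hall H hH1)
  · rintro (hodd | ⟨k, hk⟩)
    · intro H hH
      apply backward _ H hH
      intro d j _ hj
      exact ⟨0, by rw [P_odd hodd j hj]; simp⟩
    · intro H hH
      apply backward _ H hH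
      intro d j hd hj
      exact P_pow k hk d j hd hj

end Cfsg.Agent.S3920
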