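import Cfsg.Statements.S3928
-- import your own Cfsg.Agent.* helpers here
import Mathlib
import Cfsg.Agent.Lib.Helper22.InvI

set_option autoImplicit false
open Cfsg

namespace Cfsg.Agent.S3928

open Cfsg.Agent.Lib.Helper25 Cfsg.Agent.Lib.Helper22.InvA Cfsg.Agent.Lib.Helper22.InvI
open SemidirectProduct

/-- the inverted odd-order elements of `G ⋊ ⟨α⟩` come from `G`. -/
theorem ncard_invOdd_icA_le {G : Type} [Group G] [Finite G] (α : MulAut G) (hα : orderOf α = 2) :
    (invOdd (icA α)).ncard ≤ Nat.card {g : G // Odd (orderOf g) ∧ α g = g⁻¹} := by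
  classical
  have hkey : ∀ y ∈ invOdd (icA α), y = inl y.left ∧ Odd (orderOf y.left) ∧ α y.left = y.left⁻¹ := by
    intro y hy
    -- the right component is trivial
    have hr1 : y.right ^ orderOf y = 1 := by
      have : (rightHom (y ^ orderOf y) : Subgroup.zpowers α) = 1 := by
        rw [pow_orderOf_eq_one, map_one]
      rwa [map_pow] at this
    have hr2 : y.right ^ 2 = 1 := by
      have h1 : Nat.card (Subgroup.zpowers α) = 2 := by rw [Nat.card_zpowers, hα]
      rw [← h1]
      exact pow_card_eq_one'
    have hr : y.right = 1 := by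
      have h3 : orderOf y.right ∣ Nat.gcd (orderOf y) 2 :=
        Nat.dvd_gcd (orderOf_dvd_of_pow_eq_one hr1) (orderOf_dvd_of_pow_eq_one hr2)
      have h4 : Nat.gcd (orderOf y) 2 = 1 := Nat.coprime_two_right.mpr hy.2
      rw [h4, Nat.dvd_one] at h3
      exact orderOf_eq_one_iff.mp h3
    have hy_eq : y = inl y.left := by
      have := inl_left_mul_inr_right y
      rw [hr, map_one, mul_one] at this
      exact this.symm
    refine ⟨hy_eq, ?_, ?_⟩
    · have : orderOf (inl y.left : IcGam α) = orderOf y.left :=
        orderOf_injective inl inl_injective y.left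
      rw [← this, ← hy_eq]
      exact hy.2
    · have h1 : icA α * inl y.left * (icA α)⁻¹ = (inl y.left : IcGam α)⁻¹ := by
        rw [← hy_eq]; exact hy.1
      have h2 : (inl (α y.left) : IcGam α) = icA α * inl y.left * (icA α)⁻¹ := by
        have := inl_aut (φ := (Subgroup.zpowers α).subtype) (⟨α, Subgroup.mem_zpowers α⟩ : Subgroup.zpowers α) y.left
        simpa [icA] using this
      rw [h1, ← map_inv] at h2
      exact inl_injective h2
  let f : invOdd (icA α) → {g : G // Odd (orderOf g) ∧ α g = g⁻¹} :=
    fun y => ⟨(y : IcGam α).left, (hkey y y.2).2.1, (hkey y y.2).2.2⟩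
  have hf : Function.Injective f := by
    intro y y' h
    have h1 : (y : IcGam α).left = (y' : IcGam α).left := congrArg Subtype.val h
    apply Subtype.ext
    rw [(hkey y y.2).1, (hkey y' y'.2).1, h1]
  have := Nat.card_le_card_of_injective f hf
  rwa [Nat.card_coe_set_eq] at this

/-- There is a function f such that for every non-trivial finite group G and every automorphism α of G of order 2 with [G, α] = G (the elements g·α(g)⁻¹ generate G), the order of G is at most f(m), where m is the number of elements of odd order inverted by α. -/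
theorem result : ∃ f : ℕ → ℕ, ∀ (G : Type) [Group G] [Finite G] [Nontrivial G] (α : MulAut G), orderOf α = 2 →
    Subgroup.closure (Set.range (fun c : G => c * (α c)⁻¹)) = ⊤ →
      Nat.card G ≤ f (Nat.card {g : G // Odd (orderOf g) ∧ α g = g⁻¹}) := by
  refine ⟨fun m => Classical.choose (main_bound.{0} m), ?_⟩
  intro G _ _ _ α hα hG
  obtain ⟨-, hB⟩ := Classical.choose_spec
    (main_bound.{0} (Nat.card {g : G // Odd (orderOf g) ∧ α g = g⁻¹}))
  have ha : icA α * icA α = 1 := by
    have h1 : α ^ 2 = 1 := by rw [← hα]; exact pow_orderOf_eq_one α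
    have h2 : (⟨α, Subgroup.mem_zpowers α⟩ : Subgroup.zpowers α) *
        ⟨α, Subgroup.mem_zpowers α⟩ = 1 := by
      ext
      simp only [Subgroup.coe_mul, Subgroup.coe_one]
      rw [← sq, h1]
    show inr (⟨α, Subgroup.mem_zpowers α⟩ : Subgroup.zpowers α) *
      inr (⟨α, Subgroup.mem_zpowers α⟩ : Subgroup.zpowers α) = (1 : IcGam α)
    rw [← map_mul, h2, map_one]
  have hgen := ic_normalClosure α hG
  have hm := ncard_invOdd_icA_le α hα
  have h1 := hB (IcGam α) (icA α) ha hgen hm
  exact (Nat.card_le_card_of_injective (inl : G → IcGam α) inl_injective).trans h1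

end Cfsg.Agent.S3928
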