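import Mathlib
import Cfsg.Statements.S3937
import Cfsg.Prelude.Def_Solvable
import Cfsg.Agent.Lib.Helper21.Zipper
import Cfsg.Agent.Lib.Helper9.GenFitting
import Cfsg.Agent.Lib.Helper1.Cores
import Cfsg.Agent.Lib.Helper1.Fitting

set_option autoImplicit false
open Cfsg

namespace Cfsg.Agent.S3937

open scoped Pointwise
open Cfsg.Agent.Lib.Helper21

/-- iterated commutator `[x, g, ..., g]` -/
def eng {G : Type*} [Group G] (g x : G) (n : ℕ) : G :=
  (List.replicate n g).foldl (fun a b => a * b * a⁻¹ * b⁻¹) x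

lemma eng_zero {G : Type*} [Group G] (g x : G) : eng g x 0 = x := rfl

lemma eng_succ {G : Type*} [Group G] (g x : G) (n : ℕ) :
    eng g x (n + 1) = eng g x n * g * (eng g x n)⁻¹ * g⁻¹ := by
  unfold eng
  rw [List.replicate_succ', List.foldl_append]
  rfl

lemma coe_eng {G : Type*} [Group G] (H : Subgroup G) (g x : H) (n : ℕ) :
    ((eng g x n : H) : G) = eng (g : G) (x : G) n := by
  induction n with
  | zero => rfl
  | succ n ih => rw [eng_succ, eng_succ]; simp [ih]

lemma zpowers_subgroupOf {G : Type*} [Group G] (H : Subgroup G) (g : G) (hg : g ∈ H) :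
    Subgroup.zpowers (⟨g, hg⟩ : H) = (Subgroup.zpowers g).subgroupOf H := by
  ext ⟨y, hy⟩
  rw [Subgroup.mem_subgroupOf, Subgroup.mem_zpowers_iff, Subgroup.mem_zpowers_iff]
  constructor
  · rintro ⟨k, hk⟩
    exact ⟨k, by simpa using congrArg Subtype.val hk⟩
  · rintro ⟨k, hk⟩
    exact ⟨k, Subtype.ext (by simpa using hk)⟩

lemma isCoatom_conj_smul {G : Type*} [Group G] (M : Subgroup G) (hM : IsCoatom M) (y : G) :
    IsCoatom (MulAut.conj y • M) := by
  refine ⟨conj_smul_ne_top M y hM.1, ?_⟩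
  intro L hL
  by_contra hLtop
  have h1 : M ≤ MulAut.conj y⁻¹ • L := by
    rw [map_inv]
    exact Subgroup.pointwise_smul_subset_iff.mp hL.le
  have h2 : MulAut.conj y⁻¹ • L ≠ ⊤ := conj_smul_ne_top L y⁻¹ hLtop
  have h3 : M = MulAut.conj y⁻¹ • L := by
    by_contra hne
    exact h2 (hM.2 _ (lt_of_le_of_ne h1 hne))
  have h4 : MulAut.conj y • M = L := by
    rw [h3]
    have := conj_smul_conj_inv_smul L y
    exact this
  exact hL.ne h4

universe u

theorem engel_subnormal : ∀ (n : ℕ) (G : Type u) [Group G] [Finite G], Nat.card G = n →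
    ∀ g : G, (∀ x : G, ∃ k : ℕ, eng g x k = 1) → (Subgroup.zpowers g).IsSubnormal := by
  intro n
  induction n using Nat.strong_induction_on with
  | _ n ih =>
    intro G _ _ hn g hE
    by_contra h2
    have h1 : ∀ H : Subgroup G, Subgroup.zpowers g ≤ H → H ≠ ⊤ →
        ((Subgroup.zpowers g).subgroupOf H).IsSubnormal := by
      intro H hgH hH
      have hg : g ∈ H := hgH (Subgroup.mem_zpowers g)
      have hlt : Nat.card H < n := by
        by_contra hge
        push Not at hge
        rw [← hn] at hge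
        exact hH (Subgroup.eq_top_of_le_card H hge)
      have := ih (Nat.card H) hlt H rfl ⟨g, hg⟩ (by
        intro y
        obtain ⟨k, hk⟩ := hE (y : G)
        refine ⟨k, Subtype.ext ?_⟩
        rw [coe_eng]; exact hk)
      rwa [zpowers_subgroupOf] at this
    obtain ⟨M, hM, hSM, huniq⟩ := zipper (Subgroup.zpowers g) h1 h2
    have hgM : g ∈ M := hSM (Subgroup.mem_zpowers g)
    have hMnn : ¬ M.Normal := by
      intro hMn
      exact h2 (Subgroup.IsSubnormal.trans hSM (h1 M hSM hM.1) hMn.isSubnormal)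
    have hNM : Subgroup.normalizer (M : Set G) = M := by
      have hne : Subgroup.normalizer (M : Set G) ≠ ⊤ := by
        intro h
        exact hMnn (Subgroup.normalizer_eq_top_iff.mp h)
      exact (hM.le_iff_eq hne).mp Subgroup.le_normalizer
    obtain ⟨x, hxM⟩ : ∃ x : G, x ∉ M := by
      by_contra hall
      push Not at hall
      exact hM.1 (eq_top_iff.mpr (fun y _ => hall y))
    have hex : ∃ i : ℕ, eng g x i ∈ M := by
      obtain ⟨k, hk⟩ := hE x
      exact ⟨k, by rw [hk]; exact M.one_mem⟩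
    classical
    set i := Nat.find hex with hi
    have hiM : eng g x i ∈ M := Nat.find_spec hex
    have hi0 : i ≠ 0 := by
      intro h0
      rw [h0, eng_zero] at hiM
      exact hxM hiM
    obtain ⟨j, hj⟩ := Nat.exists_eq_succ_of_ne_zero hi0
    have hjM : eng g x j ∉ M := Nat.find_min hex (by rw [← hi, hj]; exact Nat.lt_succ_self j)
    rw [hj, Nat.succ_eq_add_one, eng_succ] at hiM
    set y := eng g x j with hy
    have h3 : y * g * y⁻¹ ∈ M := by
      have := M.mul_mem hiM hgM
      simpa using this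
    have h4 : g ∈ MulAut.conj y⁻¹ • M := by
      refine ⟨y * g * y⁻¹, h3, ?_⟩
      show y⁻¹ * (y * g * y⁻¹) * y⁻¹⁻¹ = g
      group
    have h5 : MulAut.conj y⁻¹ • M = M :=
      huniq _ (isCoatom_conj_smul M hM y⁻¹) ((Subgroup.zpowers_le).mpr h4)
    have h6 : y⁻¹ ∈ Subgroup.normalizer (M : Set G) :=
      (conj_smul_eq_iff_mem_normalizer M y⁻¹).mp h5
    rw [hNM] at h6
    exact hjM (by simpa using M.inv_mem h6)


theorem mem_fitting_of_engel {G : Type*} [Group G] [Finite G] (g : G)
    (hE : ∀ x : G, ∃ k : ℕ, eng g x k = 1) : g ∈ Cfsg.fittingSubgroup G := by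
  have hsn := engel_subnormal _ G rfl g hE
  have h1 := Cfsg.Agent.Lib.Helper9.fitting_map_le_of_subnormal (Subgroup.zpowers g) hsn
  haveI : Group.IsNilpotent (Subgroup.zpowers g) := by
    letI : CommGroup (Subgroup.zpowers g) :=
      { (inferInstance : Group (Subgroup.zpowers g)) with
        mul_comm := (Subgroup.zpowers_isMulCommutative g).is_comm.comm }
    infer_instance
  have h2 : (⊤ : Subgroup (Subgroup.zpowers g)) ≤ Cfsg.fittingSubgroup (Subgroup.zpowers g) :=
    Cfsg.Agent.Lib.Helper1.le_fittingSubgroup inferInstance inferInstance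
  apply h1
  exact ⟨⟨g, Subgroup.mem_zpowers g⟩, h2 (Subgroup.mem_top _), rfl⟩

theorem engel_of_mem_fitting {G : Type*} [Group G] [Finite G] (g : G)
    (hg : g ∈ Cfsg.fittingSubgroup G) (x : G) : ∃ k : ℕ, eng g x k = 1 := by
  set F := Cfsg.fittingSubgroup G with hF
  have hFn : F.Normal := Cfsg.Agent.Lib.Helper1.fittingSubgroup_normal
  have hFnil : Group.IsNilpotent F := Cfsg.Agent.Lib.Helper1.fittingSubgroup_nilpotent
  have key : ∀ k : ℕ, eng g x (k + 1) ∈ F.lowerCentralSeries k := by
    intro k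
    induction k with
    | zero =>
      rw [eng_succ, eng_zero, Subgroup.lowerCentralSeries_zero]
      exact F.mul_mem (hFn.conj_mem g hg x) (F.inv_mem hg)
    | succ k ih =>
      rw [eng_succ, Subgroup.lowerCentralSeries_succ]
      exact Subgroup.commutator_mem_commutator ih hg
  obtain ⟨n, hn⟩ := (Subgroup.isNilpotent_iff_lowerCentralSeries F).mp hFnil
  have := key n
  rw [hn, Subgroup.mem_bot] at this
  exact ⟨n + 1, this⟩

theorem result {G : Type*} [Group G] [Finite G] (g : G) :
    g ∈ Cfsg.fittingSubgroup G ↔ ∀ x : G, ∃ n : ℕ, (List.replicate n g).foldl (fun a b => a * b * a⁻¹ * b⁻¹) x = 1 :=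
  ⟨fun hg x => engel_of_mem_fitting g hg x, fun h => mem_fitting_of_engel g h⟩

end Cfsg.Agent.S3937
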