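import Mathlib
import Cfsg.Statements.S3939
import Cfsg.Prelude.Def_Transfer
import Cfsg.Agent.Lib.Helper13.PResidual
import Cfsg.Agent.Lib.Helper1.Nilp
import Cfsg.Agent.S3910

set_option autoImplicit false
open Cfsg

namespace Cfsg.Agent.S3939

universe u

/-- part A: elements of the hypercentre generate a nilpotent group with anything -/
theorem nilpotent_of_mem_upper : ∀ (n : ℕ) (G : Type u) [Group G] (g x : G),
    g ∈ Subgroup.upperCentralSeries G n →
    Group.IsNilpotent ↥(Subgroup.closure ({x, g} : Set G)) := by
  intro n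
  induction n with
  | zero =>
    intro G _ g x hg
    rw [Subgroup.upperCentralSeries_zero, Subgroup.mem_bot] at hg
    subst hg
    have hc : IsMulCommutative (Subgroup.closure ({x, 1} : Set G)) := by
      apply Subgroup.isMulCommutative_closure
      intro a ha b hb
      rcases ha with rfl | rfl <;> rcases hb with rfl | rfl <;> simp
    letI : CommGroup (Subgroup.closure ({x, 1} : Set G)) :=
      { (inferInstance : Group (Subgroup.closure ({x, 1} : Set G))) with
        mul_comm := hc.is_comm.comm }
    infer_instance
  | succ n ih =>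
    intro G _ g x hg
    rw [← Subgroup.comap_upperCentralSeries_quotient_center, Subgroup.mem_comap] at hg
    have h1 := ih (G ⧸ Subgroup.center G) (QuotientGroup.mk' (Subgroup.center G) g)
      (QuotientGroup.mk' (Subgroup.center G) x) hg
    set H := Subgroup.closure ({x, g} : Set G) with hH
    have hmap : H.map (QuotientGroup.mk' (Subgroup.center G)) =
        Subgroup.closure ({QuotientGroup.mk' (Subgroup.center G) x,
          QuotientGroup.mk' (Subgroup.center G) g} : Set (G ⧸ Subgroup.center G)) := by
      rw [hH, MonoidHom.map_closure, Set.image_pair]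
    haveI : Group.IsNilpotent ↥(H.map (QuotientGroup.mk' (Subgroup.center G))) := by
      rw [hmap]; exact h1
    apply Subgroup.isNilpotent_of_ker_le_center ((QuotientGroup.mk' (Subgroup.center G)).subgroupMap H)
    intro y hy
    rw [MonoidHom.mem_ker] at hy
    have hy' : QuotientGroup.mk' (Subgroup.center G) (y : G) = 1 := by
      have := congrArg Subtype.val hy
      simpa using this
    rw [QuotientGroup.mk'_apply, QuotientGroup.eq_one_iff] at hy'
    rw [Subgroup.mem_center_iff]
    intro z
    apply Subtype.ext
    have := (Subgroup.mem_center_iff.mp hy') (z : G)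
    simpa using this


/-- case `Z(G) = 1` -/
theorem eq_one_of_center_eq_bot {G : Type u} [Group G] [Finite G]
    (hZ : Subgroup.center G = ⊥) (g : G)
    (h : ∀ x : G, Group.IsNilpotent ↥(Subgroup.closure ({x, g} : Set G))) : g = 1 := by
  by_contra hg
  have ho : orderOf g ≠ 1 := by rwa [Ne, orderOf_eq_one_iff]
  obtain ⟨p, hp, hpd⟩ := Nat.exists_prime_and_dvd ho
  haveI : Fact p.Prime := ⟨hp⟩
  obtain ⟨g', hg'⟩ : ∃ g' : G, g' = g ^ (orderOf g / p) := ⟨_, rfl⟩
  have hg'o : orderOf g' = p := by
    rw [hg']; exact orderOf_pow_orderOf_div (orderOf_pos g).ne' hpd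
  have hg'1 : g' ≠ 1 := by
    intro h1
    rw [h1, orderOf_one] at hg'o
    exact hp.one_lt.ne hg'o
  have hcomm : ∀ x : G, (orderOf x).Coprime p → g' * x = x * g' := by
    intro x hx
    haveI := h x
    have hxN : x ∈ Subgroup.closure ({x, g} : Set G) := Subgroup.subset_closure (by simp)
    have hgN : g ∈ Subgroup.closure ({x, g} : Set G) := Subgroup.subset_closure (by simp)
    have hg'N : g' ∈ Subgroup.closure ({x, g} : Set G) := by
      rw [hg']; exact Subgroup.pow_mem _ hgN _
    have := Cfsg.Agent.S3910.coprime_commute (Subgroup.closure ({x, g} : Set G))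
      ⟨g', hg'N⟩ ⟨x, hxN⟩ p (orderOf x)
      (by apply Subtype.ext; simp [← hg'o, pow_orderOf_eq_one])
      (by apply Subtype.ext; simp [pow_orderOf_eq_one]) hx.symm
    exact congrArg Subtype.val this
  have hcent : Cfsg.pResidual p G ≤ Subgroup.centralizer {g'} := by
    show Subgroup.closure {g : G | Nat.Coprime (orderOf g) p} ≤ _
    rw [Subgroup.closure_le]
    intro x hx
    rw [SetLike.mem_coe, Subgroup.mem_centralizer_singleton_iff]
    exact (hcomm x hx).symm
  have hpg : IsPGroup p (Subgroup.zpowers g') := by
    apply IsPGroup.of_card (n := 1)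
    rw [Nat.card_zpowers, hg'o, pow_one]
  obtain ⟨P, hP⟩ := hpg.exists_le_sylow
  have hg'P : g' ∈ (P : Subgroup G) := hP (Subgroup.mem_zpowers g')
  haveI hRn : (Cfsg.pResidual p G).Normal := Cfsg.Agent.Lib.Helper13.pResidual_normal' p
  haveI : (Subgroup.centralizer (Cfsg.pResidual p G : Set G)).Normal := Subgroup.normal_centralizer
  haveI hEn : ((Subgroup.centralizer (Cfsg.pResidual p G : Set G)).subgroupOf (P : Subgroup G)).Normal :=
    Subgroup.Normal.subgroupOf inferInstance _
  haveI : Group.IsNilpotent (P : Subgroup G) := P.isPGroup'.isNilpotent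
  have hg'C : g' ∈ Subgroup.centralizer (Cfsg.pResidual p G : Set G) := by
    rw [Subgroup.mem_centralizer_iff]
    intro y hy
    have := hcent hy
    rw [Subgroup.mem_centralizer_singleton_iff] at this
    exact this
  have hEne : (Subgroup.centralizer (Cfsg.pResidual p G : Set G)).subgroupOf (P : Subgroup G) ≠ ⊥ := by
    intro hbot
    have h1 : (⟨g', hg'P⟩ : (P : Subgroup G)) ∈
        (Subgroup.centralizer (Cfsg.pResidual p G : Set G)).subgroupOf (P : Subgroup G) := hg'C
    rw [hbot, Subgroup.mem_bot] at h1
    exact hg'1 (congrArg Subtype.val h1)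
  have h2 := Cfsg.Agent.Lib.Helper1.normal_inf_center_ne_bot _ hEne
  obtain ⟨z, hz, hz1⟩ := (Subgroup.bot_or_exists_ne_one _).resolve_left h2
  obtain ⟨hzE, hzZ⟩ := hz
  have hzC : (z : G) ∈ Subgroup.centralizer (Cfsg.pResidual p G : Set G) := hzE
  -- z is central in G
  have hle : (P : Subgroup G) ⊔ Cfsg.pResidual p G ≤ Subgroup.centralizer {(z : G)} := by
    apply sup_le
    · intro y hy
      rw [Subgroup.mem_centralizer_singleton_iff]
      have := (Subgroup.mem_center_iff.mp hzZ) ⟨y, hy⟩
      exact congrArg Subtype.val this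
    · intro y hy
      rw [Subgroup.mem_centralizer_singleton_iff]
      exact (Subgroup.mem_centralizer_iff.mp hzC) y hy
  rw [Cfsg.Agent.Lib.Helper13.sylow_sup_pResidual_eq_top (P : Subgroup G) P.not_dvd_index] at hle
  have hzc : (z : G) ∈ Subgroup.center G := by
    rw [Subgroup.mem_center_iff]
    intro y
    have := hle (Subgroup.mem_top y)
    rw [Subgroup.mem_centralizer_singleton_iff] at this
    exact this
  rw [hZ, Subgroup.mem_bot] at hzc
  exact hz1 (Subtype.ext hzc)

theorem mem_upper_of_nilpotent : ∀ (n : ℕ) (G : Type u) [Group G] [Finite G], Nat.card G = n →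
    ∀ g : G, (∀ x : G, Group.IsNilpotent ↥(Subgroup.closure ({x, g} : Set G))) →
      ∃ k : ℕ, g ∈ Subgroup.upperCentralSeries G k := by
  intro n
  induction n using Nat.strong_induction_on with
  | _ n ih =>
    intro G _ _ hn g h
    by_cases hZ : Subgroup.center G = ⊥
    · refine ⟨0, ?_⟩
      rw [eq_one_of_center_eq_bot hZ g h]
      exact Subgroup.one_mem _
    · have hlt : Nat.card (G ⧸ Subgroup.center G) < n := by
        have h1 := Subgroup.card_eq_card_quotient_mul_card_subgroup (Subgroup.center G)
        have h2 : 1 < Nat.card (Subgroup.center G) := by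
          rw [Subgroup.one_lt_card_iff_ne_bot]; exact hZ
        have h3 : 0 < Nat.card (G ⧸ Subgroup.center G) := Nat.card_pos
        rw [← hn, h1]
        nlinarith
      obtain ⟨k, hk⟩ := ih _ hlt (G ⧸ Subgroup.center G) rfl
        (QuotientGroup.mk' (Subgroup.center G) g) (by
          intro xb
          obtain ⟨x, rfl⟩ := QuotientGroup.mk'_surjective (Subgroup.center G) xb
          haveI := h x
          have hmap : (Subgroup.closure ({x, g} : Set G)).map (QuotientGroup.mk' (Subgroup.center G)) =
              Subgroup.closure ({QuotientGroup.mk' (Subgroup.center G) x,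
                QuotientGroup.mk' (Subgroup.center G) g} : Set (G ⧸ Subgroup.center G)) := by
            rw [MonoidHom.map_closure, Set.image_pair]
          rw [← hmap]
          exact Group.nilpotent_of_surjective
            ((QuotientGroup.mk' (Subgroup.center G)).subgroupMap _)
            (MonoidHom.subgroupMap_surjective _ _))
      refine ⟨k + 1, ?_⟩
      rw [← Subgroup.comap_upperCentralSeries_quotient_center, Subgroup.mem_comap]
      exact hk

theorem result {G : Type*} [Group G] [Finite G] (g : G) :
    (∀ x : G, Group.IsNilpotent ↥(Subgroup.closure ({x, g} : Set G))) ↔ g ∈ ⨆ n : ℕ, Subgroup.upperCentralSeries G n := by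
  constructor
  · intro h
    obtain ⟨k, hk⟩ := mem_upper_of_nilpotent _ G rfl g h
    exact Subgroup.mem_iSup_of_mem k hk
  · intro hg x
    obtain ⟨n, hn⟩ := (Subgroup.mem_iSup_of_directed
      (Monotone.directed_le (Subgroup.upperCentralSeries_mono G))).mp hg
    exact nilpotent_of_mem_upper n G g x hn

end Cfsg.Agent.S3939

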