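import Mathlib
import Cfsg.Statements.S3941
import Cfsg.Prelude.Def_LocalStructure

set_option autoImplicit false
open Cfsg

namespace Cfsg.Agent.S3941

lemma mem_of_pclosed {K : Type*} [Group K] [Finite K] {p : ℕ} [Fact p.Prime] (hK : IsPClosed p K)
    (P : Sylow p K) (x : K) (k : ℕ) (hx : x ^ (p ^ k) = 1) : x ∈ P := by
  have hxp : IsPGroup p (Subgroup.zpowers x) := by
    obtain ⟨j, _, hj⟩ := (Nat.dvd_prime_pow (Fact.out : p.Prime)).mp (orderOf_dvd_of_pow_eq_one hx)
    exact IsPGroup.of_card (n := j) (by rw [Nat.card_zpowers, hj])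
  obtain ⟨Q, hQ⟩ := hxp.exists_le_sylow
  obtain ⟨g, hg⟩ := MulAction.exists_smul_eq K P Q
  haveI := hK P
  rw [Sylow.smul_eq_of_normal] at hg
  rw [hg]
  exact hQ (Subgroup.mem_zpowers x)

lemma not_pclosed_of_simple {K : Type*} [Group K] [Finite K] [IsSimpleGroup K] (p : ℕ) [Fact p.Prime]
    (hp : p ∣ Nat.card K) (q : ℕ) [Fact q.Prime] (hq : q ∣ Nat.card K) (hpq : p ≠ q) :
    ¬ IsPClosed p K := by
  intro hK
  obtain ⟨P⟩ : Nonempty (Sylow p K) := inferInstance
  haveI := hK P
  rcases Subgroup.Normal.eq_bot_or_eq_top (H := (P : Subgroup K)) inferInstance with hb | ht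
  · obtain ⟨x, hx⟩ := exists_prime_orderOf_dvd_card' p hp
    have hxP : x ∈ (P : Subgroup K) := mem_of_pclosed hK P x 1 (by rw [pow_one, ← hx]; exact pow_orderOf_eq_one x)
    rw [hb, Subgroup.mem_bot] at hxP
    rw [hxP, orderOf_one] at hx
    exact (Fact.out : p.Prime).one_lt.ne hx
  · obtain ⟨y, hy⟩ := exists_prime_orderOf_dvd_card' q hq
    have hyP : y ∈ (P : Subgroup K) := ht ▸ Subgroup.mem_top y
    obtain ⟨k, hk⟩ := P.isPGroup' ⟨y, hyP⟩
    have hk' : y ^ (p ^ k) = 1 := by
      have := congrArg Subtype.val hk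
      simpa using this
    have hdvd := orderOf_dvd_of_pow_eq_one hk'
    rw [hy] at hdvd
    have := (Nat.prime_dvd_prime_iff_eq (Fact.out : q.Prime) (Fact.out : p.Prime)).mp
      ((Fact.out : q.Prime).dvd_of_dvd_pow hdvd)
    exact hpq this.symm

theorem result (n p : ℕ) (hn : 5 ≤ n) [Fact p.Prime] (hp : p ≠ 2) (hpn : p ≤ n)
    (h : ∀ H : Subgroup ↥(alternatingGroup (Fin n)), H ≠ ⊤ → p ∣ Nat.card ↥H → Cfsg.IsPClosed p ↥H) : n = p := by
  by_contra hne
  have hpp : p.Prime := Fact.out
  have hpn1 : p ≤ n - 1 := by omega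
  rcases Nat.lt_or_ge 5 n with h6 | h5
  · classical
    let a : Fin n := ⟨0, by omega⟩
    let s : Finset (Fin n) := Finset.univ.erase a
    have hscard : Nat.card s = n - 1 := by
      rw [Nat.card_eq_fintype_card, Fintype.card_coe, Finset.card_erase_of_mem (Finset.mem_univ a),
        Finset.card_univ, Fintype.card_fin]
    let ψ := alternatingGroup.ofSubtype s
    have hinj : Function.Injective ψ := alternatingGroup.ofSubtype_injective
    have hcardH : Nat.card ψ.range = Nat.card (alternatingGroup s) :=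
      (Nat.card_congr (MonoidHom.ofInjective hinj).toEquiv).symm
    haveI : Nontrivial s := by
      rw [← Finite.one_lt_card_iff_nontrivial, hscard]; omega
    have h2c : 2 * Nat.card (alternatingGroup s) = (n - 1).factorial := by
      rw [two_mul_nat_card_alternatingGroup, Nat.card_perm, hscard]
    haveI : Nontrivial (Fin n) := Fin.nontrivial_iff_two_le.mpr (by omega)
    have h2cn : 2 * Nat.card (alternatingGroup (Fin n)) = n.factorial := by
      rw [two_mul_nat_card_alternatingGroup, Nat.card_perm, Nat.card_fin]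
    have hfac : n.factorial = n * (n - 1).factorial := by
      cases n with
      | zero => omega
      | succ m => simp [Nat.factorial_succ]
    have hfpos : 0 < (n - 1).factorial := Nat.factorial_pos _
    have hHne : ψ.range ≠ ⊤ := by
      intro htop
      have h1 : Nat.card ψ.range = Nat.card (alternatingGroup (Fin n)) := by
        rw [htop, Subgroup.card_top]
      rw [hcardH] at h1
      rw [← h1, h2c, hfac] at h2cn
      have : 2 * (n - 1).factorial ≤ n * (n - 1).factorial := Nat.mul_le_mul_right _ (by omega)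
      omega
    have hpH : p ∣ Nat.card ψ.range := by
      rw [hcardH]
      have h1 : p ∣ 2 * Nat.card (alternatingGroup s) := h2c ▸ (hpp.dvd_factorial.mpr hpn1)
      have hcop : Nat.Coprime p 2 := (Nat.coprime_primes hpp Nat.prime_two).mpr hp
      exact hcop.dvd_of_dvd_mul_left h1
    have hclosed := h ψ.range hHne hpH
    haveI : IsSimpleGroup (alternatingGroup s) := alternatingGroup.isSimpleGroup (by rw [hscard]; omega)
    have h2H : 2 ∣ Nat.card ψ.range := by
      rw [hcardH]
      have h4 : (4 : ℕ).factorial ∣ (n - 1).factorial := Nat.factorial_dvd_factorial (by omega)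
      have h24 : (4 : ℕ).factorial = 24 := by decide
      rw [h24, ← h2c] at h4
      omega
    haveI : Nontrivial ψ.range := by
      rw [← Finite.one_lt_card_iff_nontrivial]
      have := Nat.le_of_dvd Nat.card_pos h2H
      omega
    haveI : IsSimpleGroup ψ.range :=
      IsSimpleGroup.isSimpleGroup_of_surjective ψ.rangeRestrict ψ.rangeRestrict_surjective
    haveI : Fact (Nat.Prime 2) := ⟨Nat.prime_two⟩
    exact not_pclosed_of_simple p hpH 2 h2H hp hclosed
  · have hn5 : n = 5 := by omega
    subst hn5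
    have hp3 : p = 3 := by
      have h1 := hpp.two_le
      have h2 : p ≤ 4 := hpn1
      interval_cases p
      · exact absurd rfl hp
      · rfl
      · exact absurd hpp (by decide)
    subst hp3
    let c1 : Equiv.Perm (Fin 5) := Equiv.swap 0 1 * Equiv.swap 1 2
    let c2 : Equiv.Perm (Fin 5) := Equiv.swap 1 2 * Equiv.swap 2 3
    let c3 : Equiv.Perm (Fin 5) := Equiv.swap 2 3 * Equiv.swap 3 4
    have hc1 : c1 ∈ alternatingGroup (Fin 5) := by rw [Equiv.Perm.mem_alternatingGroup]; decide
    have hc2 : c2 ∈ alternatingGroup (Fin 5) := by rw [Equiv.Perm.mem_alternatingGroup]; decide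
    have hc3 : c3 ∈ alternatingGroup (Fin 5) := by rw [Equiv.Perm.mem_alternatingGroup]; decide
    let H5 : Subgroup (alternatingGroup (Fin 5)) :=
      (MulAction.stabilizer (Equiv.Perm (Fin 5)) (4 : Fin 5)).subgroupOf (alternatingGroup (Fin 5))
    have hmem : ∀ x : alternatingGroup (Fin 5), x ∈ H5 ↔ (x : Equiv.Perm (Fin 5)) 4 = 4 := by
      intro x
      rw [Subgroup.mem_subgroupOf, MulAction.mem_stabilizer_iff]
      rfl
    have h1H : (⟨c1, hc1⟩ : alternatingGroup (Fin 5)) ∈ H5 := by
      rw [hmem]; show c1 4 = 4; decide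
    have h2H : (⟨c2, hc2⟩ : alternatingGroup (Fin 5)) ∈ H5 := by
      rw [hmem]; show c2 4 = 4; decide
    have h3H : (⟨c3, hc3⟩ : alternatingGroup (Fin 5)) ∉ H5 := by
      rw [hmem]; show ¬ c3 4 = 4; decide
    have hHne : H5 ≠ ⊤ := fun htop => h3H (htop ▸ Subgroup.mem_top _)
    let x1 : H5 := ⟨⟨c1, hc1⟩, h1H⟩
    let x2 : H5 := ⟨⟨c2, hc2⟩, h2H⟩
    have hx1 : x1 ^ 3 = 1 := by
      apply Subtype.ext; apply Subtype.ext
      show c1 ^ 3 = 1
      decide
    have hx2 : x2 ^ 3 = 1 := by
      apply Subtype.ext; apply Subtype.ext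
      show c2 ^ 3 = 1
      decide
    have hx12 : (x1 * x2) ^ 2 = 1 := by
      apply Subtype.ext; apply Subtype.ext
      show (c1 * c2) ^ 2 = 1
      decide
    have hx12ne : x1 * x2 ≠ 1 := by
      intro hcon
      have : c1 * c2 = 1 := congrArg (fun z : H5 => ((z : alternatingGroup (Fin 5)) : Equiv.Perm (Fin 5))) hcon
      revert this
      decide
    have hx1ne : x1 ≠ 1 := by
      intro hcon
      have : c1 = 1 := congrArg (fun z : H5 => ((z : alternatingGroup (Fin 5)) : Equiv.Perm (Fin 5))) hcon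
      revert this
      decide
    have ho1 : orderOf x1 = 3 := orderOf_eq_prime hx1 hx1ne
    have hpH : 3 ∣ Nat.card H5 := ho1 ▸ orderOf_dvd_natCard x1
    have hclosed := h H5 hHne hpH
    obtain ⟨P⟩ : Nonempty (Sylow 3 H5) := inferInstance
    have m1 := mem_of_pclosed hclosed P x1 1 (by rw [pow_one]; exact hx1)
    have m2 := mem_of_pclosed hclosed P x2 1 (by rw [pow_one]; exact hx2)
    have m12 : x1 * x2 ∈ (P : Subgroup H5) := Subgroup.mul_mem _ m1 m2
    obtain ⟨k, hk⟩ := P.isPGroup' ⟨x1 * x2, m12⟩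
    have hk' : (x1 * x2) ^ (3 ^ k) = 1 := by
      have := congrArg Subtype.val hk
      simpa using this
    have ho12 : orderOf (x1 * x2) = 2 := orderOf_eq_prime hx12 hx12ne
    have hdvd := orderOf_dvd_of_pow_eq_one hk'
    rw [ho12] at hdvd
    have := (Nat.prime_dvd_prime_iff_eq Nat.prime_two Nat.prime_three).mp
      (Nat.prime_two.dvd_of_dvd_pow hdvd)
    omega

end Cfsg.Agent.S3941
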