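import Cfsg.Statements.S3949

set_option autoImplicit false
open Cfsg

namespace Cfsg.Agent.S3949

theorem result {G : Type*} [Group G] [Finite G] (α : MulAut G) (hα : orderOf α = 2) (hG : Subgroup.closure (Set.range (fun c : G => c * (α c)⁻¹)) = ⊤)
    (j : ℕ) (hj : ∀ g : G, α g = g⁻¹ → ¬ 2 ^ j ∣ orderOf g) :
    Set.range ((fun c : G => c * (α c)⁻¹)^[j]) = {g : G | Odd (orderOf g) ∧ α g = g⁻¹} := by
  have hα2 : ∀ c : G, α (α c) = c := by
    intro c
    have h := pow_orderOf_eq_one α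
    rw [hα] at h
    have h2 := congrArg (fun β : MulAut G => β c) h
    simpa [pow_two, MulAut.mul_apply] using h2
  have hinv : ∀ c : G, α (c * (α c)⁻¹) = (c * (α c)⁻¹)⁻¹ := by
    intro c
    rw [map_mul, map_inv, hα2, mul_inv_rev, inv_inv]
  have hsq : ∀ g : G, α g = g⁻¹ → g * (α g)⁻¹ = g ^ 2 := by
    intro g hg
    rw [hg, inv_inv, pow_two]
  have hpowinv : ∀ (g : G) (k : ℕ), α g = g⁻¹ → α (g ^ k) = (g ^ k)⁻¹ := by
    intro g k hg
    rw [map_pow, hg, inv_pow]
  have hj0 : j ≠ 0 := by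
    intro h0
    apply hj 1 (by simp)
    rw [h0]
    simp
  have hiter : ∀ (k : ℕ) (c : G), (fun c : G => c * (α c)⁻¹)^[k + 1] c = (c * (α c)⁻¹) ^ (2 ^ k) := by
    intro k
    induction k with
    | zero => intro c; simp
    | succ k ih =>
      intro c
      rw [Function.iterate_succ_apply', ih c]
      show (c * (α c)⁻¹) ^ 2 ^ k * (α ((c * (α c)⁻¹) ^ 2 ^ k))⁻¹ = _
      rw [hsq _ (hpowinv _ _ (hinv c)), ← pow_mul, pow_succ]
  obtain ⟨i, rfl⟩ := Nat.exists_eq_succ_of_ne_zero hj0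
  ext g
  constructor
  · rintro ⟨c, rfl⟩
    rw [Nat.succ_eq_add_one, hiter i c]
    set h := c * (α c)⁻¹ with hh
    refine ⟨?_, hpowinv _ _ (hinv c)⟩
    have hpos : orderOf h ≠ 0 := (orderOf_pos h).ne'
    obtain ⟨a, m, hm, hham⟩ := Nat.exists_eq_two_pow_mul_odd hpos
    have ha : a < i + 1 := by
      by_contra hcon
      push_neg at hcon
      apply hj h (hinv c)
      rw [hham]
      exact Dvd.dvd.mul_right (pow_dvd_pow 2 hcon) m
    have hdiv : orderOf (h ^ 2 ^ i) ∣ m := by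
      apply orderOf_dvd_of_pow_eq_one
      rw [← pow_mul]
      have : 2 ^ i * m = orderOf h * 2 ^ (i - a) := by
        rw [hham]
        have : i = a + (i - a) := by omega
        conv_lhs => rw [this, pow_add]
        ring
      rw [this, pow_mul, pow_orderOf_eq_one, one_pow]
    exact Odd.of_dvd_nat hm hdiv
  · rintro ⟨hodd, hginv⟩
    have hcop : Nat.Coprime (2 ^ (i + 1)) (orderOf g) := by
      apply Nat.Coprime.pow_left
      exact (Nat.coprime_two_left).mpr hodd
    obtain ⟨m, hm⟩ := exists_pow_eq_self_of_coprime hcop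
    refine ⟨g ^ m, ?_⟩
    rw [Nat.succ_eq_add_one, hiter i (g ^ m)]
    rw [hsq _ (hpowinv g m hginv), ← pow_mul, ← pow_succ', ← pow_mul, mul_comm, pow_mul]
    exact hm

end Cfsg.Agent.S3949
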