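import Mathlib
import Cfsg.Statements.S3950
import Cfsg.Prelude.Def_KGroupFacts
import Cfsg.Agent.Lib.Helper21.SchurCyclic
import Cfsg.Agent.Lib.Helper21.TwistExt

set_option autoImplicit false
open Cfsg

namespace Cfsg.Agent.S3950
open Cfsg.Agent.Lib.Helper21

lemma pi_cyclic {ι : Type} [Fintype ι] (n : ι → ℕ) (hn : ∀ i, 1 < n i)
    (hcop : ∀ i j, i ≠ j → Nat.Coprime (n i) (n j)) :
    IsCyclic ((i : ι) → Multiplicative (ZMod (n i))) := by
  classical
  haveI : ∀ i, NeZero (n i) := fun i => ⟨by have := hn i; omega⟩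
  apply IsCyclic.of_exponent_eq_card
  apply Nat.dvd_antisymm Group.exponent_dvd_nat_card
  have hcard : Nat.card ((i : ι) → Multiplicative (ZMod (n i))) = ∏ i, n i := by
    rw [Nat.card_pi]
    congr 1
    funext i
    show Nat.card (ZMod (n i)) = n i
    rw [Nat.card_eq_fintype_card, ZMod.card]
  rw [hcard]
  have hdiv : ∀ i, n i ∣ Monoid.exponent ((i : ι) → Multiplicative (ZMod (n i))) := by
    intro i
    have h1 := Monoid.order_dvd_exponent
      (Pi.mulSingle (M := fun i => Multiplicative (ZMod (n i))) i (Multiplicative.ofAdd (1 : ZMod (n i))))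
    rw [orderOf_piMulSingle, orderOf_ofAdd_eq_addOrderOf, ZMod.addOrderOf_one] at h1
    exact h1
  have : (∏ i, (n i : ℤ)) ∣ (Monoid.exponent ((i : ι) → Multiplicative (ZMod (n i))) : ℤ) :=
    Fintype.prod_dvd_of_coprime
      (fun i j hij => Nat.isCoprime_iff_coprime.mpr (hcop i j hij))
      (fun i => Int.natCast_dvd_natCast.mpr (hdiv i))
  exact_mod_cast this

theorem result {G : Type*} [CommGroup G] [Finite G] : Cfsg.HasCyclicSchurMultiplier G 1 ↔ IsCyclic G := by
  constructor
  · intro hG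
    by_contra hnc
    obtain ⟨ι, _, n, hn, ⟨e⟩⟩ := CommGroup.equiv_prod_multiplicative_zmod_of_finite G
    classical
    have hex : ∃ i j, i ≠ j ∧ ¬ Nat.Coprime (n i) (n j) := by
      by_contra hno
      push_neg at hno
      apply hnc
      haveI := pi_cyclic n hn hno
      exact isCyclic_of_surjective e.symm e.symm.surjective
    obtain ⟨i, j, hij, hnc2⟩ := hex
    obtain ⟨p, hp, hpi, hpj⟩ := Nat.Prime.not_coprime_iff_dvd.mp hnc2
    haveI : Fact p.Prime := ⟨hp⟩
    haveI : NeZero p := ⟨hp.ne_zero⟩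
    let ci : Multiplicative (ZMod (n i)) →* Multiplicative (ZMod p) :=
      AddMonoidHom.toMultiplicative (ZMod.castHom hpi (ZMod p)).toAddMonoidHom
    let cj : Multiplicative (ZMod (n j)) →* Multiplicative (ZMod p) :=
      AddMonoidHom.toMultiplicative (ZMod.castHom hpj (ZMod p)).toAddMonoidHom
    let φ1 : G →* Multiplicative (ZMod p) :=
      (ci.comp (Pi.evalMonoidHom (fun i => Multiplicative (ZMod (n i))) i)).comp e.toMonoidHom
    let φ2 : G →* Multiplicative (ZMod p) :=
      (cj.comp (Pi.evalMonoidHom (fun i => Multiplicative (ZMod (n i))) j)).comp e.toMonoidHom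
    let g : G := e.symm (Pi.mulSingle i (Multiplicative.ofAdd (1 : ZMod (n i))))
    let h : G := e.symm (Pi.mulSingle j (Multiplicative.ofAdd (1 : ZMod (n j))))
    have h11 : Multiplicative.toAdd (φ1 g) = 1 := by
      simp [φ1, g, ci, ZMod.cast_one hpi]
    have h12 : Multiplicative.toAdd (φ2 g) = 0 := by
      simp [φ2, g, cj, Pi.mulSingle_eq_of_ne' hij]
    have h21 : Multiplicative.toAdd (φ1 h) = 0 := by
      simp [φ1, h, ci, Pi.mulSingle_eq_of_ne hij]
    have h22 : Multiplicative.toAdd (φ2 h) = 1 := by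
      simp [φ2, h, cj, ZMod.cast_one hpj]
    have hgh : Tw.cc φ1 φ2 g h - Tw.cc φ1 φ2 h g = 1 := by
      simp only [Tw.cc, h11, h12, h21, h22]
      ring
    have hstem := Tw.isStem (φ1 := φ1) (φ2 := φ2) g h hgh
    obtain ⟨π, hπ⟩ := hG.2 (Tw φ1 φ2) Tw.proj hstem
    have hsub : Subsingleton (Tw.proj (φ1 := φ1) (φ2 := φ2)).ker := by
      haveI : Subsingleton (Multiplicative (ZMod 1)) := by
        show Subsingleton (ZMod 1)
        infer_instance
      exact hπ.subsingleton
    have hsub2 : Subsingleton (Multiplicative (ZMod p)) :=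
      (Tw.kerEquiv (φ1 := φ1) (φ2 := φ2)).symm.toEquiv.subsingleton
    have : (Multiplicative.ofAdd (1 : ZMod p)) = Multiplicative.ofAdd (0 : ZMod p) := Subsingleton.elim _ _
    have h10 : (1 : ZMod p) = 0 := Multiplicative.ofAdd.injective this
    haveI : Nontrivial (ZMod p) := ZMod.nontrivial_iff.mpr hp.ne_one
    exact one_ne_zero h10
  · intro hG
    refine ⟨exists_trivial_stem G, ?_⟩
    intro Γ _ _ σ hσ
    obtain ⟨hsurj, hc, hd⟩ := hσ
    have hcomm : ∀ a b : Γ, a * b = b * a := commutative_of_cyclic_center_quotient σ hc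
    have hder : commutator Γ = ⊥ := by
      rw [eq_bot_iff, commutator_def, Subgroup.commutator_le]
      intro g1 _ g2 _
      rw [Subgroup.mem_bot, commutatorElement_def, hcomm g1 g2]
      group
    refine ⟨1, fun x => ⟨1, ?_⟩⟩
    have hx : (x : Γ) ∈ commutator Γ := hd x.2
    rw [hder, Subgroup.mem_bot] at hx
    exact Subtype.ext (by simpa using hx.symm)

end Cfsg.Agent.S3950
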