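import Mathlib
import Cfsg.Statements.S3951
import Cfsg.Prelude.Def_KGroupFacts
import Cfsg.Agent.Lib.Helper21.SchurCyclic
import Cfsg.Agent.Lib.Helper21.TwistExt
import Cfsg.Agent.Lib.Helper21.StemAbelian

set_option autoImplicit false
open Cfsg

namespace Cfsg.Agent.S3951
open Cfsg.Agent.Lib.Helper21

theorem result (m n : ℕ) [NeZero m] [NeZero n] (hnm : n ∣ m) : Cfsg.HasCyclicSchurMultiplier (Multiplicative (ZMod m × ZMod n)) n := by
  constructor
  · let φ1 : Multiplicative (ZMod m × ZMod n) →* Multiplicative (ZMod n) :=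
      AddMonoidHom.toMultiplicative
        ((ZMod.castHom hnm (ZMod n)).toAddMonoidHom.comp (AddMonoidHom.fst (ZMod m) (ZMod n)))
    let φ2 : Multiplicative (ZMod m × ZMod n) →* Multiplicative (ZMod n) :=
      AddMonoidHom.toMultiplicative (AddMonoidHom.snd (ZMod m) (ZMod n))
    let g : Multiplicative (ZMod m × ZMod n) := Multiplicative.ofAdd (1, 0)
    let h : Multiplicative (ZMod m × ZMod n) := Multiplicative.ofAdd (0, 1)
    have hgh : Tw.cc φ1 φ2 g h - Tw.cc φ1 φ2 h g = 1 := by
      simp [Tw.cc, φ1, φ2, g, h, ZMod.cast_one hnm]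
    exact ⟨Tw φ1 φ2, inferInstance, inferInstance, Tw.proj, Tw.isStem g h hgh, ⟨Tw.kerEquiv⟩⟩
  · intro Γ _ _ σ hσ
    obtain ⟨hsurj, hc, hd⟩ := hσ
    obtain ⟨a, ha⟩ := hsurj (Multiplicative.ofAdd (1, 0))
    obtain ⟨b, hb⟩ := hsurj (Multiplicative.ofAdd (0, 1))
    have hgenD : Subgroup.closure {σ a, σ b} = ⊤ := by
      rw [ha, hb, eq_top_iff]
      intro x _
      have hx : x = (Multiplicative.ofAdd ((1 : ZMod m), (0 : ZMod n))) ^ (Multiplicative.toAdd x).1.val *
          (Multiplicative.ofAdd ((0 : ZMod m), (1 : ZMod n))) ^ (Multiplicative.toAdd x).2.val := by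
        rw [← ofAdd_nsmul, ← ofAdd_nsmul, ← ofAdd_add]
        apply Multiplicative.toAdd.injective
        simp only [toAdd_ofAdd]
        ext
        · simp
        · simp
      rw [hx]
      apply Subgroup.mul_mem
      · exact Subgroup.pow_mem _ (Subgroup.subset_closure (by simp)) _
      · exact Subgroup.pow_mem _ (Subgroup.subset_closure (by simp)) _
    have hgen := gen_lift σ a b hgenD
    have hu : a * b * a⁻¹ * b⁻¹ ∈ σ.ker := by
      rw [MonoidHom.mem_ker]
      simp only [map_mul, map_inv]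
      rw [mul_comm (σ a) (σ b), mul_assoc (σ b), mul_inv_cancel, mul_one, mul_inv_cancel]
    have hN : a * b ^ n = b ^ n * a := by
      have : b ^ n ∈ σ.ker := by
        rw [MonoidHom.mem_ker, map_pow, hb, ← ofAdd_nsmul]
        have : n • ((0 : ZMod m), (1 : ZMod n)) = 0 := by
          ext
          · simp
          · simp
        rw [this]; rfl
      exact (Subgroup.mem_center_iff.mp (hc this) a)
    obtain ⟨huN, hK⟩ := stem_abelian_core σ.ker hc hd a b hgen hu n hN
    apply exists_surj_of_cyclic n (⟨a * b * a⁻¹ * b⁻¹, hu⟩ : σ.ker)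
    · apply Subtype.ext
      simp only [Subgroup.coe_pow, Subgroup.coe_one]
      exact huN
    · rintro ⟨k, hk⟩
      obtain ⟨j, hj⟩ := Subgroup.mem_zpowers_iff.mp (hK hk)
      rw [Subgroup.mem_zpowers_iff]
      refine ⟨j, ?_⟩
      apply Subtype.ext
      simp only [Subgroup.coe_zpow]
      exact hj

end Cfsg.Agent.S3951
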