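import Cfsg.Statements.S3962

set_option autoImplicit false
open Cfsg

namespace Cfsg.Agent.S3962

theorem result {G Q : Type*} [Group G] [Group Q] (hG : Group.IsPerfect G) (π : G →* Q) (hπ : Function.Surjective π) (hker : π.ker ≤ Subgroup.center G) : (Subgroup.center G).map π = Subgroup.center Q := by
  apply le_antisymm
  · rintro _ ⟨z, hz, rfl⟩
    rw [Subgroup.mem_center_iff]
    intro q
    obtain ⟨x, rfl⟩ := hπ q
    rw [← map_mul, ← map_mul, (Subgroup.mem_center_iff.mp hz) x]
  · intro q hq
    obtain ⟨g, rfl⟩ := hπ q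
    refine ⟨g, ?_, rfl⟩
    have hcomm : ∀ x : G, g * x * g⁻¹ * x⁻¹ ∈ Subgroup.center G := by
      intro x
      apply hker
      rw [MonoidHom.mem_ker]
      have := (Subgroup.mem_center_iff.mp hq) (π x)
      simp only [map_mul, map_inv]
      rw [← this]
      group
    let φ : G →* Subgroup.center G :=
      { toFun := fun x => ⟨g * x * g⁻¹ * x⁻¹, hcomm x⟩
        map_one' := by
          apply Subtype.ext
          simp
        map_mul' := by
          intro x y
          apply Subtype.ext
          simp only [Subgroup.coe_mul]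
          have hy := Subgroup.mem_center_iff.mp (hcomm y) x⁻¹
          calc g * (x * y) * g⁻¹ * (x * y)⁻¹
              = g * x * g⁻¹ * ((g * y * g⁻¹ * y⁻¹) * x⁻¹) := by
                simp only [mul_inv_rev, mul_assoc, inv_mul_cancel_left]
            _ = g * x * g⁻¹ * (x⁻¹ * (g * y * g⁻¹ * y⁻¹)) := by rw [hy]
            _ = g * x * g⁻¹ * x⁻¹ * (g * y * g⁻¹ * y⁻¹) := by
                simp only [mul_assoc] }
    have hφ : ∀ x, φ x = 1 := by
      intro x
      have h1 : commutator G ≤ φ.ker := by
        rw [commutator_eq_closure, Subgroup.closure_le]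
        rintro _ ⟨p, q, rfl⟩
        rw [SetLike.mem_coe, MonoidHom.mem_ker, map_commutatorElement, commutatorElement_eq_one_iff_commute]
        exact mul_comm' (φ p) (φ q)
      have hx : x ∈ commutator G := by
        rw [hG.commutator_eq_top]; trivial
      exact MonoidHom.mem_ker.mp (h1 hx)
    show g ∈ Subgroup.center G
    rw [Subgroup.mem_center_iff]
    intro x
    have h2 := congrArg Subtype.val (hφ x)
    simp only [φ, MonoidHom.coe_mk, OneHom.coe_mk, Subgroup.coe_one] at h2
    have h3 : g * x * g⁻¹ = x := mul_inv_eq_one.mp h2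
    exact (mul_inv_eq_iff_eq_mul.mp h3).symm

end Cfsg.Agent.S3962
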