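import Mathlib
import Cfsg.Statements.S3964
import Cfsg.Prelude.Def_KGroupFacts
import Cfsg.Agent.Lib.Helper21.SchurCyclic

set_option autoImplicit false
open Cfsg

namespace Cfsg.Agent.S3964
open Cfsg.Agent.Lib.Helper21

lemma dihedral_gen (n : ℕ) : Subgroup.closure {(DihedralGroup.r 1 : DihedralGroup n), DihedralGroup.sr 0} = ⊤ := by
  rw [eq_top_iff]
  intro x _
  have hr : ∀ i : ZMod n, (DihedralGroup.r i : DihedralGroup n) ∈
      Subgroup.closure {(DihedralGroup.r 1 : DihedralGroup n), DihedralGroup.sr 0} := by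
    intro i
    have h1 : (DihedralGroup.r 1 : DihedralGroup n) ∈
      Subgroup.closure {(DihedralGroup.r 1 : DihedralGroup n), DihedralGroup.sr 0} :=
      Subgroup.subset_closure (by simp)
    have := Subgroup.zpow_mem _ h1 (i.cast : ℤ)
    rw [DihedralGroup.r_one_zpow] at this
    simpa using this
  cases x with
  | r i => exact hr i
  | sr i =>
    have h0 : (DihedralGroup.sr 0 : DihedralGroup n) ∈
      Subgroup.closure {(DihedralGroup.r 1 : DihedralGroup n), DihedralGroup.sr 0} :=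
      Subgroup.subset_closure (by simp)
    have := Subgroup.mul_mem _ h0 (hr i)
    rw [DihedralGroup.sr_mul_r, zero_add] at this
    exact this

theorem result (n : ℕ) (hn : Odd n) : Cfsg.HasCyclicSchurMultiplier (DihedralGroup n) 1 := by
  haveI : NeZero n := ⟨by rintro rfl; exact (by decide : ¬ Odd 0) hn⟩
  refine ⟨exists_trivial_stem (DihedralGroup n), ?_⟩
  intro Γ _ _ σ hσ
  suffices h : ∀ k ∈ σ.ker, k = 1 by
    refine ⟨1, fun x => ⟨1, ?_⟩⟩
    exact Subtype.ext (by simpa using (h x.1 x.2).symm)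
  obtain ⟨hsurj, hc, hd⟩ := hσ
  obtain ⟨a, ha⟩ := hsurj (DihedralGroup.r 1)
  obtain ⟨b, hb⟩ := hsurj (DihedralGroup.sr 0)
  have hgenD : Subgroup.closure {σ a, σ b} = ⊤ := by rw [ha, hb]; exact dihedral_gen n
  have hgen := gen_lift σ a b hgenD
  have hz : b * a * b⁻¹ * a ∈ σ.ker := by
    rw [MonoidHom.mem_ker]
    simp only [map_mul, map_inv, ha, hb, DihedralGroup.inv_sr,
      DihedralGroup.sr_mul_r, DihedralGroup.sr_mul_sr, DihedralGroup.r_mul_r]
    rw [← DihedralGroup.r_zero]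
    congr 1
    ring
  have hN : b * a ^ n = a ^ n * b := by
    have : a ^ n ∈ σ.ker := by rw [MonoidHom.mem_ker, map_pow, ha, DihedralGroup.r_one_pow_n]
    exact (Subgroup.mem_center_iff.mp (hc this) b)
  obtain ⟨huN, hK⟩ := stem_core σ.ker hc hd a b hgen hz n hN
  intro k hk
  obtain ⟨j, hj⟩ := Subgroup.mem_zpowers_iff.mp (hK hk)
  have hσu : σ (a * b * a⁻¹ * b⁻¹) = DihedralGroup.r 2 := by
    simp only [map_mul, map_inv, ha, hb, DihedralGroup.inv_r, DihedralGroup.inv_sr,
      DihedralGroup.r_mul_sr, DihedralGroup.sr_mul_r, DihedralGroup.sr_mul_sr]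
    congr 1
    ring
  have h1 : (DihedralGroup.r (2 : ZMod n)) ^ j = 1 := by
    rw [← hσu, ← map_zpow, hj]; exact hk
  rw [DihedralGroup.r_zpow, DihedralGroup.one_def] at h1
  have h2 : ((2 * j : ℤ) : ZMod n) = 0 := by
    have := DihedralGroup.r.inj h1
    push_cast
    exact this
  rw [ZMod.intCast_zmod_eq_zero_iff_dvd] at h2
  have hcop : IsCoprime (n : ℤ) 2 := by
    have : Nat.Coprime n 2 := (Nat.coprime_two_right.mpr hn)
    exact Nat.isCoprime_iff_coprime.mpr this
  obtain ⟨t, ht⟩ := hcop.dvd_of_dvd_mul_left h2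
  rw [← hj, ht, zpow_mul, zpow_natCast, huN, one_zpow]

end Cfsg.Agent.S3964
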