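import Mathlib
import Cfsg.Statements.S3966
import Cfsg.Prelude.Def_KGroupFacts

set_option autoImplicit false
open Cfsg

namespace Cfsg.Agent.S3966

open scoped commutatorElement

def castZ (n : ℕ) : ZMod (2 * n) →+* ZMod n := ZMod.castHom (Dvd.intro_left 2 rfl) (ZMod n)

lemma castZ_n (n : ℕ) : castZ n (n : ZMod (2 * n)) = 0 := by
  simp [castZ]

def sigmaFun (n : ℕ) : QuaternionGroup n → DihedralGroup n
  | QuaternionGroup.a i => DihedralGroup.r (castZ n i)
  | QuaternionGroup.xa i => DihedralGroup.sr (castZ n i)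

def sigma (n : ℕ) : QuaternionGroup n →* DihedralGroup n where
  toFun := sigmaFun n
  map_one' := by
    show sigmaFun n (QuaternionGroup.a 0) = _
    simp [sigmaFun]
  map_mul' := by
    rintro (i | i) (j | j)
    · simp [sigmaFun]
    · simp [sigmaFun]
    · simp [sigmaFun]
    · simp [sigmaFun]

lemma sigma_surj (n : ℕ) [NeZero n] : Function.Surjective (sigma n) := by
  have hs : Function.Surjective (castZ n) := ZMod.castHom_surjective _
  rintro (i | i)
  · obtain ⟨j, rfl⟩ := hs i
    exact ⟨QuaternionGroup.a j, rfl⟩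
  · obtain ⟨j, rfl⟩ := hs i
    exact ⟨QuaternionGroup.xa j, rfl⟩

lemma ker_form (n : ℕ) [NeZero n] (g : QuaternionGroup n) (hg : g ∈ (sigma n).ker) :
    ∃ t : ℕ, g = QuaternionGroup.a ((n * t : ℕ) : ZMod (2 * n)) := by
  rw [MonoidHom.mem_ker] at hg
  rcases g with i | i
  · have h0 : castZ n i = 0 := by
      have : DihedralGroup.r (castZ n i) = DihedralGroup.r 0 := hg
      exact DihedralGroup.r.inj this
    have hdvd : n ∣ i.val := by
      have : ((i.val : ℕ) : ZMod n) = 0 := by
        rw [← h0]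
        simp [castZ, ZMod.natCast_val]
      exact (ZMod.natCast_eq_zero_iff _ _).mp this
    obtain ⟨t, ht⟩ := hdvd
    refine ⟨t, ?_⟩
    rw [← ht, ZMod.natCast_zmod_val]
  · exfalso
    have : DihedralGroup.sr (castZ n i) = DihedralGroup.r 0 := hg
    cases this

theorem result (n : ℕ) [NeZero n] (hn : Even n) : ∃ σ : QuaternionGroup n →* DihedralGroup n, Cfsg.IsStemExtension σ ∧ Nat.card σ.ker = 2 := by
  refine ⟨sigma n, ⟨sigma_surj n, ?_, ?_⟩, ?_⟩
  · intro g hg
    obtain ⟨t, rfl⟩ := ker_form n g hg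
    rw [Subgroup.mem_center_iff]
    have h2 : ((n * t : ℕ) : ZMod (2 * n)) + ((n * t : ℕ) : ZMod (2 * n)) = 0 := by
      rw [← Nat.cast_add, ZMod.natCast_eq_zero_iff]
      exact ⟨t, by ring⟩
    rintro (j | j)
    · simp [add_comm]
    · simp only [QuaternionGroup.xa_mul_a, QuaternionGroup.a_mul_xa]
      congr 1
      have : j + ((n * t : ℕ) : ZMod (2 * n)) - (j - ((n * t : ℕ) : ZMod (2 * n))) = 0 := by
        rw [← h2]; ring
      exact sub_eq_zero.mp this
  · intro g hg
    obtain ⟨t, rfl⟩ := ker_form n g hg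
    obtain ⟨m, hm⟩ := hn
    have : QuaternionGroup.a (((n * t : ℕ) : ZMod (2 * n))) =
        ⁅(QuaternionGroup.xa (0 : ZMod (2 * n)) : QuaternionGroup n), (QuaternionGroup.a (-((m * t : ℕ) : ZMod (2 * n))) : QuaternionGroup n)⁆ := by
      rw [commutatorElement_def]
      have hinv1 : (QuaternionGroup.xa (0 : ZMod (2 * n)) : QuaternionGroup n)⁻¹ = QuaternionGroup.xa ((n : ZMod (2 * n)) + 0) := rfl
      have hinv2 : (QuaternionGroup.a (-((m * t : ℕ) : ZMod (2 * n))) : QuaternionGroup n)⁻¹ = QuaternionGroup.a (- -((m * t : ℕ) : ZMod (2 * n))) := rfl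
      rw [hinv1, hinv2]
      simp only [QuaternionGroup.xa_mul_a, QuaternionGroup.xa_mul_xa, QuaternionGroup.a_mul_a]
      congr 1
      have hnn : (n : ZMod (2 * n)) + (n : ZMod (2 * n)) = 0 := by
        rw [← Nat.cast_add, ZMod.natCast_eq_zero_iff]
        exact ⟨1, by ring⟩
      have : ((n * t : ℕ) : ZMod (2 * n)) = ((m * t : ℕ) : ZMod (2 * n)) + ((m * t : ℕ) : ZMod (2 * n)) := by
        rw [← Nat.cast_add]
        congr 1
        rw [hm]; ring
      rw [this]
      linear_combination (-1 : ZMod (2 * n)) * hnn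
    rw [this, commutator_def]
    exact Subgroup.commutator_mem_commutator (Subgroup.mem_top _) (Subgroup.mem_top _)
  · have h1 := Subgroup.card_mul_index (sigma n).ker
    rw [Subgroup.index_ker, MonoidHom.range_eq_top.mpr (sigma_surj n), Subgroup.card_top,
      DihedralGroup.nat_card, Nat.card_eq_fintype_card (α := QuaternionGroup n), QuaternionGroup.card] at h1
    have hnpos : 0 < n := Nat.pos_of_ne_zero (NeZero.ne n)
    have : Nat.card (sigma n).ker * (2 * n) = 2 * (2 * n) := by rw [h1]; ring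
    exact Nat.eq_of_mul_eq_mul_right (by omega) this

end Cfsg.Agent.S3966
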