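import Mathlib
import Cfsg.Statements.S3965
import Cfsg.Prelude.Def_KGroupFacts
import Cfsg.Agent.Lib.Helper21.SchurCyclic
import Cfsg.Agent.S3964
import Cfsg.Agent.S3966

set_option autoImplicit false
open Cfsg

namespace Cfsg.Agent.S3965
open Cfsg.Agent.Lib.Helper21

theorem result (n : ℕ) [NeZero n] (hn : Even n) : Cfsg.HasCyclicSchurMultiplier (DihedralGroup n) 2 := by
  constructor
  · obtain ⟨σ, hσ, hcard⟩ := Cfsg.Agent.S3966.result n hn
    refine ⟨QuaternionGroup n, inferInstance, inferInstance, σ, hσ, ?_⟩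
    haveI : Fact (Nat.Prime 2) := ⟨Nat.prime_two⟩
    exact ⟨mulEquivOfPrimeCardEq hcard (by simp)⟩
  · intro Γ _ _ σ hσ
    obtain ⟨hsurj, hc, hd⟩ := hσ
    obtain ⟨a, ha⟩ := hsurj (DihedralGroup.r 1)
    obtain ⟨b, hb⟩ := hsurj (DihedralGroup.sr 0)
    have hgenD : Subgroup.closure {σ a, σ b} = ⊤ := by
      rw [ha, hb]; exact Cfsg.Agent.S3964.dihedral_gen n
    have hgen := gen_lift σ a b hgenD
    have hz : b * a * b⁻¹ * a ∈ σ.ker := by
      rw [MonoidHom.mem_ker]
      simp only [map_mul, map_inv, ha, hb, DihedralGroup.inv_sr,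
        DihedralGroup.sr_mul_r, DihedralGroup.sr_mul_sr, DihedralGroup.r_mul_r]
      rw [← DihedralGroup.r_zero]
      congr 1
      ring
    have hN : b * a ^ n = a ^ n * b := by
      have : a ^ n ∈ σ.ker := by rw [MonoidHom.mem_ker, map_pow, ha, DihedralGroup.r_one_pow_n]
      exact (Subgroup.mem_center_iff.mp (hc this) b)
    obtain ⟨huN, hK⟩ := stem_core σ.ker hc hd a b hgen hz n hN
    set u := a * b * a⁻¹ * b⁻¹ with hu
    have hσu : σ u = DihedralGroup.r 2 := by
      rw [hu]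
      simp only [map_mul, map_inv, ha, hb, DihedralGroup.inv_r, DihedralGroup.inv_sr,
        DihedralGroup.r_mul_sr, DihedralGroup.sr_mul_r, DihedralGroup.sr_mul_sr]
      congr 1
      ring
    obtain ⟨h, hh⟩ := hn
    have hwker : u ^ h ∈ σ.ker := by
      rw [MonoidHom.mem_ker, map_pow, hσu, DihedralGroup.r_pow, DihedralGroup.one_def]
      congr 1
      have : (2 : ZMod n) * (h : ZMod n) = ((h + h : ℕ) : ZMod n) := by push_cast; ring
      rw [this, ← hh]
      exact ZMod.natCast_self n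
    have hw2 : (⟨u ^ h, hwker⟩ : σ.ker) ^ 2 = 1 := by
      apply Subtype.ext
      simp only [Subgroup.coe_pow, Subgroup.coe_one]
      rw [← pow_mul, ← huN]
      congr 1
      omega
    apply exists_surj_of_cyclic 2 (⟨u ^ h, hwker⟩ : σ.ker) hw2
    rintro ⟨k, hk⟩
    obtain ⟨j, hj⟩ := Subgroup.mem_zpowers_iff.mp (hK hk)
    have h1 : (DihedralGroup.r (2 : ZMod n)) ^ j = 1 := by
      rw [← hσu, ← map_zpow, hj]; exact hk
    rw [DihedralGroup.r_zpow, DihedralGroup.one_def] at h1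
    have h2 : ((2 * j : ℤ) : ZMod n) = 0 := by
      have := DihedralGroup.r.inj h1
      push_cast
      exact this
    rw [ZMod.intCast_zmod_eq_zero_iff_dvd] at h2
    have h3 : (h : ℤ) ∣ j := by
      have : ((n : ℕ) : ℤ) = 2 * (h : ℤ) := by rw [hh]; push_cast; ring
      rw [this] at h2
      exact Int.dvd_of_mul_dvd_mul_left (by norm_num) h2
    obtain ⟨t, ht⟩ := h3
    rw [Subgroup.mem_zpowers_iff]
    refine ⟨t, ?_⟩
    apply Subtype.ext
    simp only [Subgroup.coe_zpow]
    rw [← hj, ht, zpow_mul, zpow_natCast]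

end Cfsg.Agent.S3965
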