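import Mathlib
import Cfsg.Statements.S3967
import Cfsg.Agent.Lib.Helper21.MetaCover

set_option autoImplicit false
open Cfsg

namespace Cfsg.Agent.S3967

theorem result (m n r l : ℕ) (hm : 0 < m) (hn : 0 < n) (hr : 0 < r) (hrn : r ^ n ≡ 1 [MOD m]) : Cfsg.HasCyclicSchurMultiplier (PresentedGroup ({FreeGroup.of true ^ m, (FreeGroup.of false) ^ n * (FreeGroup.of true ^ (m * l / Nat.gcd m (r - 1)))⁻¹, FreeGroup.of false * FreeGroup.of true * (FreeGroup.of false)⁻¹ * (FreeGroup.of true ^ r)⁻¹} : Set (FreeGroup Bool))) (Nat.gcd l (Nat.gcd m (r - 1) * Nat.gcd m (∑ i ∈ Finset.range n, r ^ i) / m)) := by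
  exact Cfsg.Agent.Lib.Helper21.meta_multiplier m n r l hm hn hr hrn

end Cfsg.Agent.S3967
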