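import Mathlib
import Cfsg.Statements.S3969
import Cfsg.Prelude.Def_Transfer
import Cfsg.Agent.Lib.Helper1.AutFix

set_option autoImplicit false
open Cfsg

namespace Cfsg.Agent.S3969

section core
variable {T : Type*} [CommGroup T]

/-- the subgroup of p-th powers -/
def powSub (T : Type*) [CommGroup T] (p : ℕ) : Subgroup T := (powMonoidHom p : T →* T).range

lemma mem_powSub {p : ℕ} {x : T} : x ∈ powSub T p ↔ ∃ y : T, y ^ p = x := by
  unfold powSub
  rw [MonoidHom.mem_range]
  simp only [powMonoidHom_apply]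

lemma map_powSub (p : ℕ) (φ : T ≃* T) : Subgroup.map (φ : T →* T) (powSub T p) = powSub T p := by
  ext x
  constructor
  · rintro ⟨y, hy, rfl⟩
    obtain ⟨z, rfl⟩ := mem_powSub.mp hy
    exact mem_powSub.mpr ⟨φ z, by simp⟩
  · intro hx
    obtain ⟨z, rfl⟩ := mem_powSub.mp hx
    exact ⟨(φ.symm z) ^ p, mem_powSub.mpr ⟨_, rfl⟩, by simp⟩

lemma pow_apply_mod (p : ℕ) (φ : MulAut T) (h : ∀ x : T, ∃ y : T, φ x = x * y ^ p) (i : ℕ) (x : T) :
    ∃ y : T, (φ ^ i) x = x * y ^ p := by
  induction i with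
  | zero => exact ⟨1, by simp⟩
  | succ i ih =>
    obtain ⟨y, hy⟩ := ih
    obtain ⟨z, hz⟩ := h x
    refine ⟨z * φ y, ?_⟩
    rw [pow_succ', MulAut.mul_apply, hy, map_mul, map_pow, hz, mul_pow, mul_assoc]

lemma norm_fixed (q : ℕ) (φ : MulAut T) (hφ : φ ^ q = 1) (x : T) :
    φ (∏ i ∈ Finset.range q, (φ ^ i) x) = ∏ i ∈ Finset.range q, (φ ^ i) x := by
  rw [map_prod]
  have h1 : ∀ i, φ ((φ ^ i) x) = (φ ^ (i + 1)) x := by
    intro i; rw [pow_succ', MulAut.mul_apply]
  simp only [h1]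
  have h2 := Finset.prod_range_succ' (fun i => (φ ^ i) x) q
  have h3 := Finset.prod_range_succ (fun i => (φ ^ i) x) q
  rw [h3] at h2
  simp only [hφ, pow_zero, MulAut.one_apply] at h2
  exact (mul_right_cancel h2).symm

lemma norm_mod (p : ℕ) (φ : MulAut T) (h : ∀ x : T, ∃ y : T, φ x = x * y ^ p) (x : T) (n : ℕ) :
    ∃ z : T, ∏ i ∈ Finset.range n, (φ ^ i) x = x ^ n * z ^ p := by
  induction n with
  | zero => exact ⟨1, by simp⟩
  | succ n ih =>
    obtain ⟨z, hz⟩ := ih
    obtain ⟨y, hy⟩ := pow_apply_mod p φ h n x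
    refine ⟨z * y, ?_⟩
    rw [Finset.prod_range_succ, hz, hy, pow_succ, mul_pow]
    exact mul_mul_mul_comm _ _ _ _

variable [Finite T]

lemma eq_one_of_trivial_mod_pow {p q : ℕ} [Fact p.Prime] (hT : IsPGroup p T) (hq : q.Coprime p)
    (φ : MulAut T) (hφ : φ ^ q = 1) (h : ∀ x : T, ∃ y : T, φ x = x * y ^ p) : φ = 1 := by
  -- step 4
  have h4 : ∀ x : T, ∃ c y : T, φ c = c ∧ x = c * y ^ p := by
    intro x
    obtain ⟨z, hz⟩ := norm_mod p φ h x q
    have hfix := norm_fixed q φ hφ x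
    set Nx := ∏ i ∈ Finset.range q, (φ ^ i) x with hNx
    have hxq : x ^ q = Nx * (z⁻¹) ^ p := by
      rw [hz, inv_pow]; simp
    have hcop : q.Coprime (orderOf x) := by
      obtain ⟨k, hk⟩ := hT x
      have : orderOf x ∣ p ^ k := orderOf_dvd_of_pow_eq_one hk
      exact Nat.Coprime.coprime_dvd_right this (Nat.Coprime.pow_right k hq)
    obtain ⟨a, ha⟩ := exists_pow_eq_self_of_coprime hcop
    refine ⟨Nx ^ a, (z⁻¹) ^ a, by rw [map_pow, hfix], ?_⟩
    rw [← ha, hxq, mul_pow, ← pow_mul, ← pow_mul, mul_comm p a]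
  have h5 : ∀ n : ℕ, ∀ x : T, ∃ c y : T, φ c = c ∧ x = c * y ^ (p ^ n) := by
    intro n
    induction n with
    | zero => intro x; exact ⟨1, x, by simp, by simp⟩
    | succ n ih =>
      intro x
      obtain ⟨c, y, hc, hx⟩ := ih x
      obtain ⟨c', z, hc', hy⟩ := h4 y
      refine ⟨c * c' ^ (p ^ n), z, by rw [map_mul, map_pow, hc, hc'], ?_⟩
      rw [hx, hy, mul_pow, ← pow_mul, pow_succ', mul_assoc]
  obtain ⟨n, hn⟩ := IsPGroup.iff_card.mp hT
  ext x
  obtain ⟨c, y, hc, hx⟩ := h5 n x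
  have hy1 : y ^ (p ^ n) = 1 := by rw [← hn]; exact pow_card_eq_one'
  rw [hy1, mul_one] at hx
  rw [hx, hc, MulAut.one_apply]

theorem exists_dvd_of_aut {p q : ℕ} [Fact p.Prime] [Fact q.Prime] (hT : IsPGroup p T) (hqp : q ≠ p)
    (φ : MulAut T) (hφ : φ ^ q = 1) (hne : φ ≠ 1) :
    ∃ i ∈ Finset.Icc 1 (Group.rank T), q ∣ p ^ i - 1 := by
  have hp : p.Prime := Fact.out
  have hqq : q.Prime := Fact.out
  by_contra hall
  push Not at hall
  apply hne
  have hcop : q.Coprime p := (Nat.coprime_primes hqq hp).mpr hqp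
  apply eq_one_of_trivial_mod_pow hT hcop φ hφ
  set N := powSub T p with hN
  set φb : MulAut (T ⧸ N) := QuotientGroup.congr N N φ (map_powSub p φ) with hφb
  have hpowb : ∀ k : ℕ, ∀ x : T, (φb ^ k) (QuotientGroup.mk x) = QuotientGroup.mk ((φ ^ k) x) := by
    intro k
    induction k with
    | zero => intro x; simp
    | succ k ih =>
      intro x
      rw [pow_succ', MulAut.mul_apply, ih, pow_succ', MulAut.mul_apply, hφb, QuotientGroup.congr_mk]
  have hφbq : φb ^ q = 1 := by
    ext y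
    induction y using QuotientGroup.induction_on with
    | H x => rw [hpowb, hφ]; simp
  have hV : IsPGroup p (T ⧸ N) := hT.to_quotient N
  obtain ⟨m, hm⟩ := IsPGroup.iff_card.mp hV
  have hexp : ∀ g : T ⧸ N, g ^ p = 1 := by
    intro g
    induction g using QuotientGroup.induction_on with
    | H x =>
      rw [← QuotientGroup.mk_pow, QuotientGroup.eq_one_iff]
      exact mem_powSub.mpr ⟨x, rfl⟩
  have hmd : m ≤ Group.rank T := by
    have h1 := card_dvd_exponent_pow_rank' (T ⧸ N) hexp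
    rw [hm] at h1
    have h2 := (Nat.pow_dvd_pow_iff_le_right hp.one_lt).mp h1
    exact h2.trans (Group.rank_le_of_surjective (QuotientGroup.mk' N) (QuotientGroup.mk'_surjective N))
  have h1 : φb = 1 := by
    apply Cfsg.Agent.Lib.Helper1.mulAut_eq_one_of_pow_prime_of_not_dvd hp hm φb hφbq
    intro j hj hdvd
    have hsplit : p ^ m - p ^ j = p ^ j * (p ^ (m - j) - 1) := by
      rw [Nat.mul_sub, mul_one, ← pow_add]
      congr 2; omega
    rw [hsplit] at hdvd
    rcases (Nat.Prime.dvd_mul hqq).mp hdvd with h | h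
    · have := (Nat.prime_dvd_prime_iff_eq hqq hp).mp (hqq.dvd_of_dvd_pow h)
      exact hqp this
    · exact hall (m - j) (Finset.mem_Icc.mpr ⟨by omega, by omega⟩) h
  intro x
  have h2 : φb (QuotientGroup.mk x) = QuotientGroup.mk x := by rw [h1]; rfl
  rw [hφb, QuotientGroup.congr_mk] at h2
  have h3 : x⁻¹ * φ x ∈ N := QuotientGroup.eq.mp h2.symm
  obtain ⟨y, hy⟩ := mem_powSub.mp h3
  exact ⟨y, by rw [hy]; group⟩

end core


theorem normalizer_le_centralizer {G : Type*} [Group G] [Finite G] (p : ℕ) [Fact p.Prime] (P : Sylow p G)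
    (hab : IsMulCommutative (P : Subgroup G))
    (hcop : Nat.Coprime (Nat.card G)
      (∏ i ∈ Finset.Icc 1 (Group.rank (P : Subgroup G)), (p ^ i - 1))) :
    Subgroup.normalizer ((P : Subgroup G) : Set G) ≤
      Subgroup.centralizer ((P : Subgroup G) : Set G) := by
  set f := (P : Subgroup G).normalizerMonoidHom with hf
  by_cases hr : Nat.card f.range = 1
  · have h1 : f.range = ⊥ := Subgroup.card_eq_one.mp hr
    have h2 : f.ker = ⊤ := by
      rw [eq_top_iff]
      intro x _
      rw [MonoidHom.mem_ker]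
      have : f x ∈ f.range := ⟨x, rfl⟩
      rw [h1, Subgroup.mem_bot] at this
      exact this
    rw [hf, Subgroup.normalizerMonoidHom_ker, Subgroup.subgroupOf_eq_top] at h2
    exact h2
  · exfalso
    obtain ⟨q, hqp, hqd⟩ := Nat.exists_prime_and_dvd hr
    haveI : Fact q.Prime := ⟨hqp⟩
    have hidx : Nat.card f.range =
        (Subgroup.centralizer ((P : Subgroup G) : Set G)).relIndex
          (Subgroup.normalizer ((P : Subgroup G) : Set G)) := by
      rw [← Subgroup.index_ker, hf, Subgroup.normalizerMonoidHom_ker]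
      rfl
    have hdG : q ∣ Nat.card G := by
      apply hqd.trans
      rw [hidx]
      exact (Subgroup.relIndex_dvd_card _ _).trans (Subgroup.card_subgroup_dvd_card _)
    have hne : q ≠ p := by
      rintro rfl
      apply P.not_dvd_index
      apply hqd.trans
      rw [hidx]
      exact (Subgroup.relIndex_dvd_of_le_left _ (Subgroup.le_centralizer (P : Subgroup G))).trans
        (Subgroup.relIndex_dvd_index_of_le Subgroup.le_normalizer)
    obtain ⟨x, hx⟩ := exists_prime_orderOf_dvd_card' q hqd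
    have hxq : (x : MulAut (P : Subgroup G)) ^ q = 1 := by
      have : x ^ q = 1 := by rw [← hx]; exact pow_orderOf_eq_one x
      have := congrArg Subtype.val this
      simpa using this
    have hx1 : (x : MulAut (P : Subgroup G)) ≠ 1 := by
      intro h
      have hx' : x = 1 := Subtype.ext h
      rw [hx', orderOf_one] at hx
      exact hqp.one_lt.ne hx
    letI : CommGroup (P : Subgroup G) :=
      { (inferInstance : Group (P : Subgroup G)) with mul_comm := hab.is_comm.comm }
    obtain ⟨i, hi, hdvd⟩ := exists_dvd_of_aut (p := p) (q := q) P.isPGroup' hne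
      (x : MulAut (P : Subgroup G)) hxq hx1
    have hprod : q ∣ ∏ i ∈ Finset.Icc 1 (Group.rank (P : Subgroup G)), (p ^ i - 1) :=
      hdvd.trans (Finset.dvd_prod_of_mem _ hi)
    have h1 : q ∣ 1 := by
      have := Nat.dvd_gcd hdG hprod
      rwa [Nat.Coprime.gcd_eq_one hcop] at this
    exact hqp.one_lt.ne' (Nat.dvd_one.mp h1)

theorem result {G : Type*} [Group G] [Finite G] (p : ℕ) [Fact p.Prime] (P : Sylow p G) (hab : IsMulCommutative (P : Subgroup G)) (hcop : Nat.Coprime (Nat.card G) (∏ i ∈ Finset.Icc 1 (Group.rank (P : Subgroup G)), (p ^ i - 1))) : Cfsg.HasNormalPComplement p G :=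
  ⟨P, _, inferInstance, MonoidHom.ker_transferSylow_isComplement' P
    (normalizer_le_centralizer p P hab hcop)⟩

end Cfsg.Agent.S3969

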