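import Mathlib
import Cfsg.Statements.S3970
import Cfsg.Prelude.Def_Transfer
import Cfsg.Agent.S3969

set_option autoImplicit false
open Cfsg

namespace Cfsg.Agent.S3970

lemma rank_le_one_of_isCyclic {T : Type*} [Group T] [Finite T] [IsCyclic T] : Group.rank T ≤ 1 := by
  classical
  obtain ⟨g, hg⟩ := IsCyclic.exists_generator (α := T)
  have h : Subgroup.closure (({g} : Finset T) : Set T) = ⊤ := by
    rw [Finset.coe_singleton, ← Subgroup.zpowers_eq_closure, eq_top_iff]
    intro x _
    exact hg x
  have := Group.rank_le h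
  simpa using this

lemma four_dvd_of_rank_two {T : Type*} [Group T] [Finite T] (hT : IsPGroup 2 T)
    (hr : 2 ≤ Group.rank T) : 4 ∣ Nat.card T := by
  haveI : Fact (Nat.Prime 2) := ⟨Nat.prime_two⟩
  obtain ⟨k, hk⟩ := IsPGroup.iff_card.mp hT
  by_contra h4
  have hk1 : k ≤ 1 := by
    by_contra hk2
    push Not at hk2
    apply h4
    rw [hk]
    exact (pow_dvd_pow 2 hk2 : 2 ^ 2 ∣ 2 ^ k)
  have hcyc : IsCyclic T := by
    interval_cases k
    · rw [pow_zero] at hk
      haveI : Subsingleton T := (Nat.card_eq_one_iff_unique.mp hk).1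
      infer_instance
    · rw [pow_one] at hk
      exact isCyclic_of_prime_card hk
  have := rank_le_one_of_isCyclic (T := T)
  omega

/-- arithmetic: the coprimality needed for S3969 -/
lemma coprime_aux (n p d : ℕ) (hp : p.Prime) (hmin : ∀ r : ℕ, r.Prime → r ∣ n → p ≤ r)
    (hd : d ≤ 2) (h23 : p = 2 → 3 ∣ n → d < 2) :
    Nat.Coprime n (∏ i ∈ Finset.Icc 1 d, (p ^ i - 1)) := by
  apply Nat.coprime_of_dvd
  intro r hr hrn hrprod
  have hpr := hmin r hr hrn
  obtain ⟨i, hi, hdvd⟩ := (Prime.dvd_finset_prod_iff (Nat.prime_iff.mp hr) _).mp hrprod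
  rw [Finset.mem_Icc] at hi
  have hp2 := hp.two_le
  have hcase1 : ¬ r ∣ p - 1 := by
    intro h
    have hpos : 0 < p - 1 := by omega
    have := Nat.le_of_dvd hpos h
    omega
  have hi12 : i = 1 ∨ i = 2 := by omega
  rcases hi12 with rfl | rfl
  · rw [pow_one] at hdvd
    exact hcase1 hdvd
  · have hsq : p ^ 2 - 1 = (p - 1) * (p + 1) := by
      have : p ^ 2 = (p - 1) * (p + 1) + 1 := by
        obtain ⟨m, rfl⟩ : ∃ m, p = m + 1 := ⟨p - 1, by omega⟩
        simp; ring
      omega
    rw [hsq] at hdvd
    rcases (Nat.Prime.dvd_mul hr).mp hdvd with h | h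
    · exact hcase1 h
    · have hle := Nat.le_of_dvd (by omega) h
      have hne : r ≠ p := by
        rintro rfl
        have : r ∣ 1 := (Nat.dvd_add_right (dvd_refl r)).mp h
        exact hr.one_lt.ne' (Nat.dvd_one.mp this)
      have hr1 : r = p + 1 := by omega
      -- p and p+1 both prime: p = 2
      have hp2' : p = 2 := by
        rcases hp.eq_two_or_odd with h2 | hodd
        · exact h2
        · exfalso
          have heven : 2 ∣ r := by omega
          have := (Nat.prime_dvd_prime_iff_eq Nat.prime_two hr).mp heven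
          omega
      have hr3 : r = 3 := by omega
      have := h23 hp2' (hr3 ▸ hrn)
      omega


lemma sylow_of_complement {G : Type*} [Group G] [Finite G] {p r : ℕ} [Fact p.Prime] [Fact r.Prime]
    (N : Subgroup G) (k : ℕ) (hcard : Nat.card G = Nat.card N * p ^ k) (hrp : r ≠ p)
    (R : Sylow r N) :
    ∃ R' : Sylow r G, (R' : Subgroup G) = (R : Subgroup N).map N.subtype := by
  have hp : p.Prime := Fact.out
  have hr : r.Prime := Fact.out
  have h1 : Nat.card ((R : Subgroup N).map N.subtype) =
      r ^ (Nat.card G).factorization r := by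
    rw [Subgroup.card_map_of_injective N.subtype_injective, Sylow.card_eq_multiplicity, hcard,
      Nat.factorization_mul Nat.card_pos.ne' (pow_ne_zero k hp.ne_zero)]
    simp [Nat.Prime.factorization_pow hp, hrp.symm]
  exact ⟨Sylow.ofCard _ h1, rfl⟩

universe u

theorem main : ∀ (n : ℕ) (G : Type u) [Group G] [Finite G], Nat.card G = n →
    (∀ p : ℕ, p.Prime → p ∣ Nat.card G → (∃ q : ℕ, q.Prime ∧ q ∣ Nat.card G ∧ p < q) →
      ∀ P : Sylow p G, IsMulCommutative (P : Subgroup G) ∧ Group.rank (P : Subgroup G) ≤ 2) →
    ¬ 12 ∣ Nat.card G → Group.IsSolvable G := by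
  intro n
  induction n using Nat.strong_induction_on with
  | _ n ih =>
    intro G _ _ hn h h12
    by_cases hn1 : n = 1
    · rw [hn1] at hn
      haveI : Subsingleton G := (Nat.card_eq_one_iff_unique.mp hn).1
      infer_instance
    set p := n.minFac with hpdef
    have hp : p.Prime := Nat.minFac_prime hn1
    haveI : Fact p.Prime := ⟨hp⟩
    have hpn : p ∣ Nat.card G := by rw [hn]; exact Nat.minFac_dvd n
    have hmin : ∀ r : ℕ, r.Prime → r ∣ Nat.card G → p ≤ r := by
      intro r hr hrn
      rw [hn] at hrn
      exact Nat.minFac_le_of_dvd hr.two_le hrn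
    by_cases hq : ∃ q : ℕ, q.Prime ∧ q ∣ Nat.card G ∧ p < q
    · -- normal p-complement
      obtain ⟨P⟩ : Nonempty (Sylow p G) := inferInstance
      obtain ⟨hab, hrank⟩ := h p hp hpn hq P
      have hcop : Nat.Coprime (Nat.card G)
          (∏ i ∈ Finset.Icc 1 (Group.rank (P : Subgroup G)), (p ^ i - 1)) := by
        apply coprime_aux _ _ _ hp hmin hrank
        intro hp2 h3
        by_contra hge
        push Not at hge
        apply h12
        have hP2 : IsPGroup 2 (P : Subgroup G) := by rw [← hp2]; exact P.isPGroup'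
        have h4 : 4 ∣ Nat.card (P : Subgroup G) := four_dvd_of_rank_two hP2 hge
        have h4' : 4 ∣ Nat.card G := h4.trans (Subgroup.card_subgroup_dvd_card _)
        exact Nat.Coprime.mul_dvd_of_dvd_of_dvd (by norm_num : Nat.Coprime 4 3) h4' h3
      obtain ⟨P', N, hNn, hcompl⟩ := Cfsg.Agent.S3969.result p P hab hcop
      have hmul : Nat.card N * Nat.card (P' : Subgroup G) = Nat.card G := hcompl.card_mul
      obtain ⟨k, hk⟩ := IsPGroup.iff_card.mp P'.isPGroup'
      have hk' : Nat.card (P' : Subgroup G) = p ^ k := hk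
      have hkpos : 0 < k := by
        rcases Nat.eq_zero_or_pos k with h0 | h0
        · exfalso
          rw [h0, pow_zero] at hk'
          have : ¬ p ∣ Nat.card (P' : Subgroup G) := by rw [hk']; exact hp.one_lt.ne' ∘ Nat.dvd_one.mp
          apply this
          rw [Sylow.card_eq_multiplicity]
          exact dvd_pow_self p ((Nat.Prime.factorization_pos_of_dvd hp Nat.card_pos.ne' hpn).ne')
        · exact h0
      have hcardG : Nat.card G = Nat.card N * p ^ k := by rw [← hmul, hk']
      have hNlt : Nat.card N < n := by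
        rw [← hn, hcardG]
        have h1 : 1 < p ^ k := Nat.one_lt_pow hkpos.ne' hp.one_lt
        have : 0 < Nat.card N := Nat.card_pos
        nlinarith
      have hNdvd : Nat.card N ∣ Nat.card G := Subgroup.card_subgroup_dvd_card N
      have hpN : ¬ p ∣ Nat.card N := by
        have h2 : (P' : Subgroup G).index = Nat.card N := hcompl.index_eq_card
        rw [← h2]
        exact P'.not_dvd_index
      haveI : Group.IsSolvable N := by
        apply ih (Nat.card N) hNlt N rfl
        · intro r hr hrN ⟨q, hqp, hqN, hrq⟩ R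
          haveI : Fact r.Prime := ⟨hr⟩
          have hrp : r ≠ p := by rintro rfl; exact hpN hrN
          obtain ⟨R', hR'⟩ := sylow_of_complement N k hcardG hrp R
          obtain ⟨hab', hrank'⟩ := h r hr (hrN.trans hNdvd) ⟨q, hqp, hqN.trans hNdvd, hrq⟩ R'
          let e : (R : Subgroup N) ≃* (R' : Subgroup G) :=
            ((R : Subgroup N).equivMapOfInjective N.subtype N.subtype_injective).trans
              (MulEquiv.subgroupCongr hR'.symm)
          constructor
          · refine ⟨⟨fun a b => ?_⟩⟩
            apply e.injective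
            rw [map_mul, map_mul]
            exact hab'.is_comm.comm _ _
          · rw [Group.rank_congr e]
            exact hrank'
        · intro h12N
          exact h12 (h12N.trans hNdvd)
      haveI : Group.IsSolvable (G ⧸ N) := by
        have hQ : IsPGroup p (G ⧸ N) := by
          apply IsPGroup.of_card (n := k)
          have : Nat.card (G ⧸ N) = N.index := rfl
          rw [this, hcompl.symm.index_eq_card, hk']
        haveI := hQ.isNilpotent
        infer_instance
      exact Group.isSolvable_of_ker_le_range N.subtype (QuotientGroup.mk' N)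
        (by rw [QuotientGroup.ker_mk', Subgroup.range_subtype])
    · -- G is a p-group
      push Not at hq
      have hpow : n = p ^ n.primeFactorsList.length := by
        apply Nat.eq_prime_pow_of_unique_prime_dvd
        · rw [← hn]; exact Nat.card_pos.ne'
        · intro d hd hdn
          rw [← hn] at hdn
          have h1 := hmin d hd hdn
          have h2 := hq d hd hdn
          omega
      have hG : IsPGroup p G := IsPGroup.of_card (hn.trans hpow)
      haveI := hG.isNilpotent
      infer_instance

theorem result {G : Type*} [Group G] [Finite G] (h : ∀ p : ℕ, p.Prime → p ∣ Nat.card G → (∃ q : ℕ, q.Prime ∧ q ∣ Nat.card G ∧ p < q) → ∀ P : Sylow p G, IsMulCommutative (P : Subgroup G) ∧ Group.rank (P : Subgroup G) ≤ 2) (h12 : ¬ 12 ∣ Nat.card G) : Group.IsSolvable G :=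
  main _ G rfl h h12

end Cfsg.Agent.S3970

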