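import Mathlib
import Cfsg.Statements.S3971
import Cfsg.Agent.S0071
import Cfsg.Agent.Lib.Helper1.Fitting

set_option autoImplicit false
open Cfsg

namespace Cfsg.Agent.S3971

variable {G : Type*} [Group G]

/-- stability lemma: an odd-order element acting trivially on `R` and on `Q/R` centralizes the `2`-group `Q` -/
theorem comm_of_stable (Q R : Subgroup G) (hQ : IsPGroup 2 Q) (hRQ : R ≤ Q) (g : G) (hodd : (orderOf g).Coprime 2)
    (hgR : ∀ r ∈ R, g * r = r * g) (hgQ : ∀ x ∈ Q, x⁻¹ * (g * x * g⁻¹) ∈ R) :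
    ∀ x ∈ Q, g * x = x * g := by
  intro x hx
  have hz := hgQ x hx
  have hgz : g * (x⁻¹ * (g * x * g⁻¹)) = (x⁻¹ * (g * x * g⁻¹)) * g := hgR _ hz
  have hxz : x * (x⁻¹ * (g * x * g⁻¹)) = g * x * g⁻¹ := mul_inv_cancel_left _ _
  have key : ∀ k : ℕ, g ^ k * x * (g ^ k)⁻¹ = x * (x⁻¹ * (g * x * g⁻¹)) ^ k := by
    intro k
    induction k with
    | zero => simp
    | succ k ih =>
      have hcomm : g * (x⁻¹ * (g * x * g⁻¹)) ^ k = (x⁻¹ * (g * x * g⁻¹)) ^ k * g :=
        (Commute.pow_right (show Commute g (x⁻¹ * (g * x * g⁻¹)) from hgz) k)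
      generalize x⁻¹ * (g * x * g⁻¹) = z at *
      calc g ^ (k + 1) * x * (g ^ (k + 1))⁻¹ = g * (g ^ k * x * (g ^ k)⁻¹) * g⁻¹ := by
            rw [pow_succ']; group
        _ = g * (x * z ^ k) * g⁻¹ := by rw [ih]
        _ = (g * x * g⁻¹) * (g * z ^ k) * g⁻¹ := by group
        _ = (g * x * g⁻¹) * (z ^ k * g) * g⁻¹ := by rw [hcomm]
        _ = (x * z) * z ^ k := by rw [hxz]; group
        _ = x * z ^ (k + 1) := by rw [pow_succ', mul_assoc]
  have h1 := key (orderOf g)
  rw [pow_orderOf_eq_one, one_mul, inv_one, mul_one] at h1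
  have h2 : (x⁻¹ * (g * x * g⁻¹)) ^ orderOf g = 1 := by
    have := congrArg (fun t => x⁻¹ * t) h1
    simpa using this.symm
  obtain ⟨j, hj⟩ := hQ ⟨_, hRQ hz⟩
  have h3 : (x⁻¹ * (g * x * g⁻¹)) ^ 2 ^ j = 1 := by simpa using congrArg Subtype.val hj
  have h4 : orderOf (x⁻¹ * (g * x * g⁻¹)) = 1 :=
    Nat.eq_one_of_dvd_coprimes (Nat.Coprime.pow_right j hodd) (orderOf_dvd_of_pow_eq_one h2)
      (orderOf_dvd_of_pow_eq_one h3)
  rw [orderOf_eq_one_iff] at h4
  have h5 : g * x * g⁻¹ = x := by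
    have := congrArg (fun t => x * t) h4
    simpa using this
  calc g * x = (g * x * g⁻¹) * g := by group
    _ = x * g := by rw [h5]

/-- an element of order prime to `6` normalizing `Q` and `R ≤ Q` with `|Q : R| ≤ 4` acts trivially on the cosets -/
theorem coset_fixed_of_index_le_four [Finite G] (Q R : Subgroup G) (hRQ : R ≤ Q) (hidx : Nat.card Q ≤ 4 * Nat.card R)
    (g : G) (hgQ : g ∈ Subgroup.normalizer (Q : Set G)) (hgR : g ∈ Subgroup.normalizer (R : Set G))
    (hcop : (orderOf g).Coprime 6) : ∀ x ∈ Q, x⁻¹ * (g * x * g⁻¹) ∈ R := by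
  classical
  intro x hx
  -- the induced map on cosets
  let φ : ↥Q → ↥Q := fun y => ⟨g * y * g⁻¹, (Subgroup.mem_normalizer_iff.mp hgQ y).mp y.2⟩
  have hφ : ∀ a b : ↥Q, QuotientGroup.leftRel (R.subgroupOf Q) a b →
      QuotientGroup.leftRel (R.subgroupOf Q) (φ a) (φ b) := by
    intro a b hab
    rw [QuotientGroup.leftRel_apply] at hab ⊢
    rw [Subgroup.mem_subgroupOf] at hab ⊢
    have := (Subgroup.mem_normalizer_iff.mp hgR _).mp hab
    have e : ((φ a)⁻¹ * φ b : ↥Q) = g * ((a⁻¹ * b : ↥Q) : G) * g⁻¹ := by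
      simp only [φ, Subgroup.coe_mul, Subgroup.coe_inv]; group
    rw [e]; exact this
  let f : ↥Q ⧸ R.subgroupOf Q → ↥Q ⧸ R.subgroupOf Q := Quotient.map' φ hφ
  have hf : ∀ (k : ℕ) (y : ↥Q), f^[k] (QuotientGroup.mk y) =
      QuotientGroup.mk (⟨g ^ k * y * (g ^ k)⁻¹,
        (Subgroup.mem_normalizer_iff.mp (Subgroup.pow_mem _ hgQ k) y).mp y.2⟩ : ↥Q) := by
    intro k
    induction k with
    | zero => intro y; simp
    | succ k ih =>
      intro y
      rw [Function.iterate_succ_apply', ih]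
      show (QuotientGroup.mk (φ _) : ↥Q ⧸ R.subgroupOf Q) = _
      congr 1
      apply Subtype.ext
      simp only [φ, pow_succ']; group
  have hper : Function.IsPeriodicPt f (orderOf g) (QuotientGroup.mk (⟨x, hx⟩ : ↥Q)) := by
    show f^[orderOf g] _ = _
    rw [hf]
    congr 1
    apply Subtype.ext
    simp [pow_orderOf_eq_one]
  have hdvd := hper.minimalPeriod_dvd
  haveI : Fintype (↥Q ⧸ R.subgroupOf Q) := Fintype.ofFinite _
  have hle : Function.minimalPeriod f (QuotientGroup.mk (⟨x, hx⟩ : ↥Q)) ≤ 4 := by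
    refine (Function.minimalPeriod_le_card).trans ?_
    rw [← Nat.card_eq_fintype_card, ← Subgroup.index_eq_card]
    have h1 : Nat.card (R.subgroupOf Q) * (R.subgroupOf Q).index = Nat.card Q := Subgroup.card_mul_index _
    have h2 : Nat.card (R.subgroupOf Q) = Nat.card R := by
      rw [← Subgroup.card_map_of_injective Q.subtype_injective, Subgroup.subgroupOf_map_subtype,
        inf_of_le_left hRQ]
    rw [h2] at h1
    have hpos : 0 < Nat.card R := Nat.card_pos
    by_contra hcon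
    push Not at hcon
    have : Nat.card R * 5 ≤ Nat.card R * (R.subgroupOf Q).index := Nat.mul_le_mul_left _ hcon
    omega
  have hpos : 0 < Function.minimalPeriod f (QuotientGroup.mk (⟨x, hx⟩ : ↥Q)) :=
    Nat.pos_of_dvd_of_pos hdvd (orderOf_pos g)
  have hone : Function.minimalPeriod f (QuotientGroup.mk (⟨x, hx⟩ : ↥Q)) = 1 := by
    have hc6 : (Function.minimalPeriod f (QuotientGroup.mk (⟨x, hx⟩ : ↥Q))).Coprime 6 :=
      Nat.Coprime.coprime_dvd_left hdvd hcop
    generalize Function.minimalPeriod f (QuotientGroup.mk (⟨x, hx⟩ : ↥Q)) = d at hle hpos hc6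
    interval_cases d
    · rfl
    · exact absurd hc6 (by decide)
    · exact absurd hc6 (by decide)
    · exact absurd hc6 (by decide)
  rw [Function.minimalPeriod_eq_one_iff_isFixedPt] at hone
  have h1 : f (QuotientGroup.mk (⟨x, hx⟩ : ↥Q)) = QuotientGroup.mk (⟨x, hx⟩ : ↥Q) := hone
  have h2 : (QuotientGroup.mk (φ ⟨x, hx⟩) : ↥Q ⧸ R.subgroupOf Q) = QuotientGroup.mk (⟨x, hx⟩ : ↥Q) := h1
  rw [eq_comm, QuotientGroup.eq, Subgroup.mem_subgroupOf] at h2
  simpa [φ] using h2

/-- the subgroup generated by the squares of `Q` -/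
def sqSubgroup (Q : Subgroup G) : Subgroup G := Subgroup.closure {y | ∃ x ∈ Q, y = x ^ 2}

theorem sqSubgroup_le (Q : Subgroup G) : sqSubgroup Q ≤ Q := by
  rw [sqSubgroup, Subgroup.closure_le]
  rintro _ ⟨x, hx, rfl⟩
  exact Q.pow_mem hx 2

theorem conj_mem_sqSubgroup (Q : Subgroup G) (a : G) (ha : a ∈ Subgroup.normalizer (Q : Set G))
    (h : G) (hh : h ∈ sqSubgroup Q) : a * h * a⁻¹ ∈ sqSubgroup Q := by
  rw [sqSubgroup] at hh ⊢
  induction hh using Subgroup.closure_induction with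
  | mem z hz =>
    obtain ⟨x, hx, rfl⟩ := hz
    apply Subgroup.subset_closure
    exact ⟨a * x * a⁻¹, (Subgroup.mem_normalizer_iff.mp ha x).mp hx, by rw [conj_pow]⟩
  | one => simp
  | mul u v _ _ hu hv =>
    have : a * (u * v) * a⁻¹ = (a * u * a⁻¹) * (a * v * a⁻¹) := by group
    rw [this]; exact Subgroup.mul_mem _ hu hv
  | inv u _ hu =>
    have : a * u⁻¹ * a⁻¹ = (a * u * a⁻¹)⁻¹ := by group
    rw [this]; exact Subgroup.inv_mem _ hu

theorem normalizer_le_normalizer_sqSubgroup (Q : Subgroup G) :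
    Subgroup.normalizer (Q : Set G) ≤ Subgroup.normalizer ((sqSubgroup Q : Subgroup G) : Set G) := by
  intro a ha
  rw [Subgroup.mem_normalizer_iff]
  intro h
  constructor
  · exact conj_mem_sqSubgroup Q a ha h
  · intro hh
    have := conj_mem_sqSubgroup Q a⁻¹ (Subgroup.inv_mem _ ha) _ hh
    have e : a⁻¹ * (a * h * a⁻¹) * a⁻¹⁻¹ = h := by group
    rwa [e] at this

/-- in a nontrivial `2`-group the squares generate a subgroup of index at least `2` -/
theorem card_sqSubgroup_le [Finite G] (Q : Subgroup G) (hQ : IsPGroup 2 Q) (hne : Q ≠ ⊥) :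
    2 * Nat.card (sqSubgroup Q) ≤ Nat.card Q := by
  haveI : Fact (Nat.Prime 2) := ⟨Nat.prime_two⟩
  obtain ⟨k, hk⟩ := IsPGroup.iff_card.mp hQ
  have hk0 : k ≠ 0 := by
    rintro rfl
    rw [pow_zero] at hk
    exact hne (Subgroup.card_eq_one.mp hk)
  obtain ⟨k', rfl⟩ := Nat.exists_eq_succ_of_ne_zero hk0
  obtain ⟨M, hM⟩ := Sylow.exists_subgroup_card_pow_prime (G := ↥Q) 2 (n := k')
    (by rw [hk]; exact pow_dvd_pow 2 (Nat.le_succ k'))
  have hMidx : M.index = 2 := by
    have h1 := M.card_mul_index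
    rw [hM, hk, pow_succ] at h1
    exact Nat.eq_of_mul_eq_mul_left (pow_pos (by norm_num) k') h1
  have hle : (sqSubgroup Q).subgroupOf Q ≤ M := by
    intro y hy
    rw [Subgroup.mem_subgroupOf, sqSubgroup] at hy
    have : ∀ z ∈ Subgroup.closure {y | ∃ x ∈ Q, y = x ^ 2}, ∀ hz : z ∈ Q, (⟨z, hz⟩ : ↥Q) ∈ M := by
      intro z hz
      induction hz using Subgroup.closure_induction with
      | mem z hz =>
        obtain ⟨x, hx, rfl⟩ := hz
        intro hz'
        have := Subgroup.sq_mem_of_index_two hMidx (⟨x, hx⟩ : ↥Q)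
        exact this
      | one => intro _; exact M.one_mem
      | mul u v hu' hv' hu hv =>
        intro huv
        have huQ : u ∈ Q := sqSubgroup_le Q hu'
        have hvQ : v ∈ Q := sqSubgroup_le Q hv'
        exact M.mul_mem (hu huQ) (hv hvQ)
      | inv u hu' hu =>
        intro hui
        have huQ : u ∈ Q := sqSubgroup_le Q hu'
        exact M.inv_mem (hu huQ)
    exact this _ hy y.2
  have h2 : Nat.card ((sqSubgroup Q).subgroupOf Q) = Nat.card (sqSubgroup Q) := by
    rw [← Subgroup.card_map_of_injective Q.subtype_injective, Subgroup.subgroupOf_map_subtype,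
      inf_of_le_left (sqSubgroup_le Q)]
  have h3 : Nat.card ((sqSubgroup Q).subgroupOf Q) ≤ Nat.card M :=
    Nat.le_of_dvd Nat.card_pos (Subgroup.card_dvd_of_le hle)
  rw [h2, hM] at h3
  rw [hk, pow_succ]
  omega

/-- **Key lemma**: an element of order prime to `6` normalizing a `2`-group with a cyclic subgroup of
index at most `2` centralizes it. -/
theorem centralizes_of_cyclic_index_two [Finite G] : ∀ (n : ℕ) (Q : Subgroup G), Nat.card Q = n →
    IsPGroup 2 Q → (∃ c ∈ Q, Nat.card Q ≤ 2 * orderOf c) →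
    ∀ g ∈ Subgroup.normalizer (Q : Set G), (orderOf g).Coprime 6 →
      g ∈ Subgroup.centralizer (Q : Set G) := by
  intro n
  induction n using Nat.strong_induction_on with
  | _ n ih =>
  intro Q hn hQ hc g hg hcop
  by_cases hne : Q = ⊥
  · rw [hne, Subgroup.coe_bot, Subgroup.mem_centralizer_iff]
    intro x hx
    rw [Set.mem_singleton_iff] at hx
    rw [hx, one_mul, mul_one]
  obtain ⟨c, hcQ, hcard⟩ := hc
  have hR1 := sqSubgroup_le Q
  have hR3 := card_sqSubgroup_le Q hQ hne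
  have hgR : g ∈ Subgroup.normalizer ((sqSubgroup Q : Subgroup G) : Set G) :=
    normalizer_le_normalizer_sqSubgroup Q hg
  have hc2 : c ^ 2 ∈ sqSubgroup Q := Subgroup.subset_closure ⟨c, hcQ, rfl⟩
  have ho : orderOf c ≤ 2 * orderOf (c ^ 2) := by
    rw [orderOf_pow]
    have hpos : 0 < orderOf c := orderOf_pos c
    have hg2 : Nat.gcd (orderOf c) 2 ∣ 2 := Nat.gcd_dvd_right _ _
    have hgo : Nat.gcd (orderOf c) 2 ∣ orderOf c := Nat.gcd_dvd_left _ _
    rcases (Nat.dvd_prime Nat.prime_two).mp hg2 with h | h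
    · rw [h, Nat.div_one]; omega
    · rw [h] at hgo ⊢
      obtain ⟨t, ht⟩ := hgo
      rw [ht, Nat.mul_div_cancel_left _ (by norm_num : 0 < 2)]
  have hoR : orderOf (c ^ 2) ≤ Nat.card (sqSubgroup Q) :=
    Nat.le_of_dvd Nat.card_pos (Subgroup.orderOf_dvd_natCard _ hc2)
  have hodd : (orderOf g).Coprime 2 :=
    Nat.Coprime.coprime_dvd_right (by norm_num : 2 ∣ 6) hcop
  -- induction: g centralizes R
  have hRpos : 0 < Nat.card (sqSubgroup Q) := Nat.card_pos
  have hlt : Nat.card (sqSubgroup Q) < n := by omega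
  have hgCR := ih _ hlt (sqSubgroup Q) rfl (hQ.to_le hR1) ⟨c ^ 2, hc2, by omega⟩ g hgR hcop
  have hcoset := coset_fixed_of_index_le_four Q (sqSubgroup Q) hR1 (by omega) g hg hgR hcop
  rw [Subgroup.mem_centralizer_iff]
  intro x hx
  refine (comm_of_stable Q (sqSubgroup Q) hQ hR1 g hodd ?_ hcoset x hx).symm
  intro r hr
  exact ((Subgroup.mem_centralizer_iff.mp hgCR) r hr).symm

theorem result {G : Type*} [Group G] [Finite G] (a n : ℕ) (hG : Nat.card G = 2 ^ a * n) (hn : Odd n) (h3 : ¬ 3 ∣ n) (hx : ∃ x : G, orderOf x = 2 ^ (a - 1)) : ∃ N : Subgroup G, N.Normal ∧ Nat.card N = n := by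
  haveI : Fact (Nat.Prime 2) := ⟨Nat.prime_two⟩
  obtain ⟨x, hx⟩ := hx
  have hxp : IsPGroup 2 (Subgroup.zpowers x) := by
    apply IsPGroup.of_card (n := a - 1); rw [Nat.card_zpowers, hx]
  obtain ⟨P, hP⟩ := hxp.exists_le_sylow
  have hPcard : Nat.card (P : Subgroup G) = 2 ^ a := by
    rw [Sylow.card_eq_multiplicity, hG, Nat.factorization_mul (by positivity) hn.pos.ne',
      Nat.factorization_pow]
    simp [Nat.factorization_eq_zero_of_not_dvd (hn.not_two_dvd_nat), Nat.prime_two.factorization_self]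
  have hXP : 2 * Nat.card (Subgroup.zpowers x) = Nat.card (P : Subgroup G) ∨
      Nat.card (Subgroup.zpowers x) = Nat.card (P : Subgroup G) := by
    rw [hPcard, Nat.card_zpowers, hx]
    rcases Nat.eq_zero_or_pos a with rfl | ha
    · right; simp
    · left
      obtain ⟨b, rfl⟩ := Nat.exists_eq_succ_of_ne_zero ha.ne'
      simp [pow_succ, mul_comm]
  have hrel : (Subgroup.zpowers x).relIndex (P : Subgroup G) ≤ 2 ∧
      (Subgroup.zpowers x).relIndex (P : Subgroup G) ≠ 0 := by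
    have h1 := Cfsg.Agent.Lib.Helper1.card_mul_relIndex_of_le hP
    have hpos : 0 < Nat.card (Subgroup.zpowers x) := Nat.card_pos
    rcases hXP with h | h
    · rw [← h, mul_comm] at h1
      have := Nat.eq_of_mul_eq_mul_right hpos h1
      rw [this]; exact ⟨le_rfl, by norm_num⟩
    · rw [← h] at h1
      have : (Subgroup.zpowers x).relIndex (P : Subgroup G) = 1 := by
        have h2 : Nat.card (Subgroup.zpowers x) * (Subgroup.zpowers x).relIndex (P : Subgroup G) =
          Nat.card (Subgroup.zpowers x) * 1 := by rw [h1, mul_one]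
        exact Nat.eq_of_mul_eq_mul_left hpos h2
      rw [this]; exact ⟨by norm_num, by norm_num⟩
  have hF : ∀ Q : Subgroup G, Q ≤ (P : Subgroup G) → ∀ g ∈ Subgroup.normalizer (Q : Set G),
      Nat.Coprime (orderOf g) 2 → g ∈ Subgroup.centralizer (Q : Set G) := by
    intro Q hQP g hg hcop
    apply centralizes_of_cyclic_index_two _ Q rfl (P.2.to_le hQP) ?_ g hg ?_
    · haveI : IsCyclic ↥(Subgroup.zpowers x ⊓ Q) :=
        Subgroup.isCyclic_of_le (inf_le_left : Subgroup.zpowers x ⊓ Q ≤ Subgroup.zpowers x)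
      obtain ⟨c, hc⟩ := IsCyclic.exists_generator (α := ↥(Subgroup.zpowers x ⊓ Q))
      have hoc : orderOf (c : G) = Nat.card ↥(Subgroup.zpowers x ⊓ Q) := by
        rw [Subgroup.orderOf_coe]
        exact orderOf_eq_card_of_forall_mem_zpowers hc
      refine ⟨c, c.2.2, ?_⟩
      have h1 := Cfsg.Agent.Lib.Helper1.card_mul_relIndex_of_le
        (inf_le_right : Subgroup.zpowers x ⊓ Q ≤ Q)
      rw [Subgroup.inf_relIndex_right] at h1
      have h2 : (Subgroup.zpowers x).relIndex Q ≤ 2 :=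
        (Subgroup.relIndex_le_of_le_right hQP hrel.2).trans hrel.1
      rw [hoc, ← h1, mul_comm]
      exact Nat.mul_le_mul_right _ h2
    · have hdvd : orderOf g ∣ 2 ^ a * n := hG ▸ orderOf_dvd_natCard g
      have h1 : orderOf g ∣ n := (Nat.Coprime.pow_right a hcop).dvd_of_dvd_mul_left hdvd
      have h2 : (orderOf g).Coprime 3 := by
        rw [Nat.coprime_comm, Nat.Prime.coprime_iff_not_dvd Nat.prime_three]
        exact fun h => h3 (h.trans h1)
      exact Nat.Coprime.mul_right hcop h2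
  obtain ⟨N, hNn, hN⟩ := (Cfsg.Agent.S0071.result P).mpr hF
  refine ⟨N, hNn, ?_⟩
  have := hN.card_mul_card
  rw [hPcard, hG, mul_comm] at this
  exact Nat.eq_of_mul_eq_mul_left (pow_pos two_pos a) this

end Cfsg.Agent.S3971
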