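import Cfsg.Statements.S3972
import Cfsg.Agent.Lib.Helper20.SRing5

set_option autoImplicit false
open Cfsg

namespace Cfsg.Agent.S3972

open MulAction Pointwise

theorem ker_card {C : Type*} [Group C] [Finite C] (hcyc : IsCyclic C) (p : ℕ) (hp : p.Prime)
    (hdvd : p ∣ Nat.card C) : Nat.card {u : C // u ^ p = 1} = p := by
  letI : CommGroup C := IsCyclic.commGroup
  have h := IsCyclic.card_powMonoidHom_ker (G := C) p
  rw [Nat.gcd_eq_right hdvd] at h
  refine (Nat.card_congr ?_).trans h
  exact Equiv.subtypeEquivRight (fun u => by rw [MonoidHom.mem_ker, powMonoidHom_apply])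

/-- in a finite group with exactly `p` solutions of `u ^ p = 1` whose order is a power of `p`,
every nontrivial cyclic subgroup contains every such solution -/
theorem mem_zpowers_of_ker {C : Type*} [Group C] [Finite C] (p m : ℕ) [hp : Fact p.Prime]
    (hcard : Nat.card C = p ^ m) (hker : Nat.card {u : C // u ^ p = 1} = p)
    (z : C) (hz : z ^ p = 1) (c : C) (hc : c ≠ 1) : z ∈ Subgroup.zpowers c := by
  have hdvd : orderOf c ∣ p ^ m := by
    rw [← hcard]; exact orderOf_dvd_natCard c
  obtain ⟨i, _, hi⟩ := (Nat.dvd_prime_pow hp.out).1 hdvd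
  have hi1 : 1 ≤ i := by
    rcases Nat.eq_zero_or_pos i with h | h
    · exfalso
      rw [h, pow_zero, orderOf_eq_one_iff] at hi
      exact hc hi
    · exact h
  have hd : orderOf (c ^ (p ^ (i - 1))) = p := by
    rw [orderOf_pow_of_dvd (pow_ne_zero _ hp.out.ne_zero), hi, Nat.pow_div (by omega) hp.out.pos]
    · have : i - (i - 1) = 1 := by omega
      rw [this, pow_one]
    · rw [hi]
      exact pow_dvd_pow p (by omega)
  obtain ⟨k, hk⟩ := Cfsg.Agent.Lib.Helper20.SRing.pow_val_surj p hker _ hd z hz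
  rw [← hk, ← pow_mul]
  exact Subgroup.npow_mem_zpowers c _


/-- Let `p` be a prime, `m ≥ 2`, and `G` a transitive but not doubly transitive permutation group on `p ^ m` points containing a permutation of order `p ^ m` (necessarily a full cycle). Then `G` is imprimitive, and the normal closure in `G` of the `p ^ (m - 1)`-th power of that permutation is an intransitive normal subgroup. -/
theorem result {Ω : Type*} [Fintype Ω] [DecidableEq Ω] (p m : ℕ) (hp : p.Prime) (hm : 2 ≤ m) (hΩ : Fintype.card Ω = p ^ m) (G : Subgroup (Equiv.Perm Ω)) (htr : MulAction.IsPretransitive G Ω) (h2 : ¬ MulAction.IsMultiplyPretransitive G Ω 2) (g : G) (hg : orderOf g = p ^ m) : ¬ MulAction.IsPreprimitive G Ω ∧ ¬ MulAction.IsPretransitive (Subgroup.normalClosure ({g ^ (p ^ (m - 1))} : Set G)) Ω := by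
  haveI : Fact p.Prime := ⟨hp⟩
  have hp2 := hp.two_le
  set C : Subgroup ↥G := Subgroup.zpowers g with hCdef
  have hCcard : Nat.card C = p ^ m := by rw [hCdef, Nat.card_zpowers, hg]
  have hcyc : IsCyclic C := by rw [hCdef]; infer_instance
  have hcomm : ∀ a b : C, a * b = b * a := by
    intro a b
    letI : CommGroup C := IsCyclic.commGroup
    exact mul_comm a b
  have hker : Nat.card {u : C // u ^ p = 1} = p :=
    ker_card hcyc p hp (by rw [hCcard]; exact dvd_pow_self p (by omega))
  set gC : C := ⟨g, Subgroup.mem_zpowers g⟩ with hgC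
  have hgCord : orderOf gC = p ^ m := by rw [hgC, Subgroup.orderOf_mk, hg]
  set zC : C := gC ^ (p ^ (m - 1)) with hzC
  have hzCord : orderOf zC = p := by
    rw [hzC, orderOf_pow_of_dvd (pow_ne_zero _ hp.ne_zero), hgCord,
      Nat.pow_div (by omega) hp.pos]
    · have : m - (m - 1) = 1 := by omega
      rw [this, pow_one]
    · rw [hgCord]
      exact pow_dvd_pow p (by omega)
  have hzCp : zC ^ p = 1 := by
    have := pow_orderOf_eq_one zC
    rwa [hzCord] at this
  have hzC1 : zC ≠ 1 := by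
    intro h
    rw [h, orderOf_one] at hzCord
    omega
  have hzCval : ((zC : C) : ↥G) = g ^ (p ^ (m - 1)) := by
    rw [hzC]; rfl
  have hnotall : ∃ h : C, h ^ p ≠ 1 := by
    refine ⟨gC, fun h => ?_⟩
    have hd : orderOf gC ∣ p := orderOf_dvd_of_pow_eq_one h
    rw [hgCord] at hd
    have hle := Nat.le_of_dvd hp.pos hd
    have : p ^ 2 ≤ p ^ m := Nat.pow_le_pow_right hp.pos hm
    nlinarith
  have hinC : ∀ c : C, c ≠ 1 → zC ∈ Subgroup.zpowers c :=
    fun c hc => mem_zpowers_of_ker p m hCcard hker zC hzCp c hc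
  -- a point with trivial stabilizer
  have hfree : ∃ ω₀ : Ω, ∀ c : C, C.subtype c • ω₀ = ω₀ → c = 1 := by
    by_contra hcon
    push Not at hcon
    apply hzC1
    have hfix : ∀ ω : Ω, (C.subtype zC) • ω = ω := by
      intro ω
      obtain ⟨c, hcω, hc1⟩ := hcon ω
      have hcS : c ∈ (stabilizer ↥G ω).comap C.subtype := by
        rw [Subgroup.mem_comap, mem_stabilizer_iff]; exact hcω
      have := (Subgroup.zpowers_le.2 hcS) (hinC c hc1)
      rw [Subgroup.mem_comap, mem_stabilizer_iff] at this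
      exact this
    apply Subtype.ext
    apply Subtype.ext
    apply Equiv.ext
    intro ω
    exact hfix ω
  obtain ⟨ω₀, hinj⟩ := hfree
  have hbij : Function.Bijective (fun c : C => C.subtype c • ω₀) := by
    apply Function.Injective.bijective_of_nat_card_le
    · intro c c' h
      exact Cfsg.Agent.Lib.Helper20.SRing.inj_of_reg hinj h
    · rw [hCcard, Nat.card_eq_fintype_card, hΩ]
  have hsurj : ∀ ω : Ω, ∃ c : C, C.subtype c • ω₀ = ω := fun ω => hbij.2 ω
  have hnp : ¬ MulAction.IsPreprimitive G Ω := by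
    intro hprim
    apply h2
    have hst := Cfsg.Agent.Lib.Helper20.SRing.stab_trans_of_prime_power (ι := C.subtype)
      (ω₀ := ω₀) hcomm hprim hsurj hinj p hker hnotall
    rw [MulAction.is_two_pretransitive_iff]
    intro a b c d hab hcd
    obtain ⟨g₁, hg₁⟩ := MulAction.exists_smul_eq G a ω₀
    obtain ⟨g₂, hg₂⟩ := MulAction.exists_smul_eq G c ω₀
    obtain ⟨x, hx⟩ := hsurj (g₁ • b)
    obtain ⟨x', hx'⟩ := hsurj (g₂ • d)
    have hx1 : x ≠ 1 := by
      intro h
      rw [h, map_one, one_smul, ← hg₁] at hx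
      exact hab (MulAction.injective g₁ hx)
    have hx1' : x' ≠ 1 := by
      intro h
      rw [h, map_one, one_smul, ← hg₂] at hx'
      exact hcd (MulAction.injective g₂ hx')
    obtain ⟨k, hk, hkx⟩ := hst x x' hx1 hx1'
    rw [MulAction.mem_stabilizer_iff] at hk
    refine ⟨g₂⁻¹ * k * g₁, ?_, ?_⟩
    · rw [mul_smul, mul_smul, hg₁, hk, ← hg₂, inv_smul_smul]
    · rw [mul_smul, mul_smul, ← hx, hkx, hx', inv_smul_smul]
  refine ⟨hnp, ?_⟩
  -- a nontrivial block
  have hblock : ∃ B : Set Ω, IsBlock G B ∧ ¬ IsTrivialBlock B := by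
    by_contra hall
    push Not at hall
    exact hnp { toIsPretransitive := htr, isTrivialBlock_of_isBlock := fun {B} hB => hall B hB }
  obtain ⟨B, hB, hBnt⟩ := hblock
  unfold IsTrivialBlock at hBnt
  push Not at hBnt
  obtain ⟨hBns, hBnu⟩ := hBnt
  -- `z` fixes every block with at least two points
  have hzfix : ∀ B' : Set Ω, IsBlock G B' → ¬ B'.Subsingleton →
      (g ^ (p ^ (m - 1))) • B' = B' := by
    intro B' hB' hns
    rw [Set.not_subsingleton_iff] at hns
    obtain ⟨ω, hω, ω', hω', hne⟩ := hns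
    obtain ⟨c₁, hc₁⟩ := hsurj ω
    obtain ⟨c₂, hc₂⟩ := hsurj ω'
    set c : C := c₂ * c₁⁻¹ with hc
    have hcω : C.subtype c • ω = ω' := by
      rw [hc, map_mul, mul_smul, ← hc₁, map_inv, inv_smul_smul, hc₂]
    have hc1 : c ≠ 1 := by
      intro h
      rw [h, map_one, one_smul] at hcω
      exact hne hcω
    have hcB : C.subtype c • B' = B' :=
      hB'.smul_eq_of_mem hω (by rw [hcω]; exact hω')
    have hcS : c ∈ (stabilizer ↥G B').comap C.subtype := by
      rw [Subgroup.mem_comap, mem_stabilizer_iff]; exact hcB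
    have := (Subgroup.zpowers_le.2 hcS) (hinC c hc1)
    rw [Subgroup.mem_comap, mem_stabilizer_iff] at this
    rw [← hzCval]
    exact this
  have hN : Subgroup.normalClosure ({g ^ (p ^ (m - 1))} : Set G) ≤ stabilizer ↥G B := by
    unfold Subgroup.normalClosure
    rw [Subgroup.closure_le]
    intro n hn
    rw [Group.mem_conjugatesOfSet_iff] at hn
    obtain ⟨b, hb, hconj⟩ := hn
    rw [Set.mem_singleton_iff] at hb
    subst hb
    rw [isConj_iff] at hconj
    obtain ⟨k, rfl⟩ := hconj
    rw [SetLike.mem_coe, mem_stabilizer_iff, mul_smul, mul_smul,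
      hzfix (k⁻¹ • B) (hB.translate k⁻¹) ?_, smul_inv_smul]
    rw [Set.not_subsingleton_iff]
    obtain ⟨a, ha, b, hb, hab⟩ := hBns
    exact ⟨k⁻¹ • a, Set.smul_mem_smul_set ha, k⁻¹ • b, Set.smul_mem_smul_set hb,
      fun h => hab (MulAction.injective k⁻¹ h)⟩
  intro htrN
  obtain ⟨ω, hω, _⟩ := hBns
  obtain ⟨ω', hω'⟩ : ∃ ω', ω' ∉ B := by
    by_contra hcon
    push Not at hcon
    exact hBnu (Set.eq_univ_of_forall hcon)
  obtain ⟨n, hn⟩ := @MulAction.exists_smul_eq _ Ω _ htrN ω ω'
  have hnB := hN n.2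
  rw [mem_stabilizer_iff] at hnB
  apply hω'
  rw [← hn, ← hnB]
  exact Set.smul_mem_smul_set hω

end Cfsg.Agent.S3972
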