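import Cfsg.Statements.S3976
import Cfsg.Agent.Lib.Helper22.CountSubgroups

set_option autoImplicit false
open Cfsg

namespace Cfsg.Agent.S3976

open Cfsg.Agent.Lib.Helper22

theorem card_map_conj {G : Type*} [Group G] (g : G) (H : Subgroup G) :
    Nat.card (H.map (MulAut.conj g).toMonoidHom) = Nat.card H :=
  (Nat.card_congr (H.equivMapOfInjective (MulAut.conj g).toMonoidHom
    (MulAut.conj g).injective).toEquiv).symm

def conjAction {G : Type*} [Group G] (n : ℕ) : MulAction G {H : Subgroup G // Nat.card H = n} where
  smul g H := ⟨(H : Subgroup G).map (MulAut.conj g).toMonoidHom, by rw [card_map_conj]; exact H.2⟩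
  one_smul := by
    rintro ⟨H, hH⟩
    apply Subtype.ext
    show H.map (MulAut.conj (1 : G)).toMonoidHom = H
    ext x
    simp [Subgroup.mem_map]
  mul_smul := by
    rintro g h ⟨H, hH⟩
    apply Subtype.ext
    show H.map (MulAut.conj (g * h)).toMonoidHom =
      (H.map (MulAut.conj h).toMonoidHom).map (MulAut.conj g).toMonoidHom
    rw [Subgroup.map_map]
    congr 1
    ext x
    simp [MulAut.conj_apply, mul_assoc]

/-- Let `p` be a prime and `G` a group of order `p ^ m`. For every `s ≤ m` the number of normal subgroups of `G` of order `p ^ s` is congruent to `1` modulo `p`. -/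
theorem result {G : Type*} [Group G] [Finite G] (p m s : ℕ) (hp : p.Prime) (hG : Nat.card G = p ^ m) (hs : s ≤ m) : Nat.card {H : Subgroup G // H.Normal ∧ Nat.card H = p ^ s} ≡ 1 [MOD p] := by
  have : Fact p.Prime := ⟨hp⟩
  have hPG : IsPGroup p G := IsPGroup.of_card hG
  letI := conjAction (G := G) (p ^ s)
  have h1 := hPG.card_modEq_card_fixedPoints {H : Subgroup G // Nat.card H = p ^ s}
  have h2 := card_subgroups_ppow_modEq_one m G p hG s hs
  have h3 : Nat.card (MulAction.fixedPoints G {H : Subgroup G // Nat.card H = p ^ s}) =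
      Nat.card {H : Subgroup G // H.Normal ∧ Nat.card H = p ^ s} := by
    apply Nat.card_congr
    refine
      { toFun := fun H => ⟨(H.1 : Subgroup G), ?_, H.1.2⟩
        invFun := fun H => ⟨⟨H.1, H.2.2⟩, ?_⟩
        left_inv := fun H => rfl
        right_inv := fun H => rfl }
    · constructor
      intro n hn g
      have h4 := H.2 g
      have h5 : ((H.1 : Subgroup G)).map (MulAut.conj g).toMonoidHom = (H.1 : Subgroup G) :=
        congrArg Subtype.val h4
      rw [← h5]
      exact Subgroup.mem_map.2 ⟨n, hn, by simp [MulAut.conj_apply]⟩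
    · intro g
      apply Subtype.ext
      show (H.1).map (MulAut.conj g).toMonoidHom = H.1
      have hn : (H.1).Normal := H.2.1
      ext x
      rw [Subgroup.mem_map]
      constructor
      · rintro ⟨y, hy, rfl⟩
        have := hn.conj_mem y hy g
        simpa [MulAut.conj_apply] using this
      · intro hx
        refine ⟨g⁻¹ * x * g, ?_, by simp [MulAut.conj_apply, mul_assoc]⟩
        have := hn.conj_mem x hx g⁻¹
        simpa using this
  rw [← h3]
  exact h1.symm.trans h2

end Cfsg.Agent.S3976
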