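import Cfsg.Statements.S3979
import Mathlib

set_option autoImplicit false
open Cfsg

namespace Cfsg.Agent.S3979

/-- A finite cyclic group has trivial Schur multiplier: every finite stem extension of it is an isomorphism, said through `HasCyclicSchurMultiplier G 1`. -/
theorem result {G : Type*} [Group G] [Finite G] [IsCyclic G] : Cfsg.HasCyclicSchurMultiplier G 1 := by
  refine ⟨⟨G, inferInstance, inferInstance, MonoidHom.id G, ⟨Function.surjective_id, ?_, ?_⟩, ?_⟩, ?_⟩
  · simp [MonoidHom.ker_id]
  · simp [MonoidHom.ker_id]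
  · have hker : (MonoidHom.id G).ker = ⊥ := MonoidHom.ker_id
    rw [hker]
    refine ⟨MulEquiv.ofUnique⟩
  · intro Γ _ _ σ hσ
    obtain ⟨hsurj, hcen, hcomm⟩ := hσ
    have hab : ∀ a b : Γ, a * b = b * a := fun a b =>
      (σ.isMulCommutative_of_isCyclic_of_ker_le_center hcen).is_comm.comm a b
    have hcomm0 : commutator Γ = ⊥ := by
      rw [commutator_def, Subgroup.commutator_eq_bot_iff_le_centralizer]
      intro x _ y _
      exact hab y x
    have hker : σ.ker = ⊥ := by
      rw [hcomm0] at hcomm
      exact le_bot_iff.1 hcomm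
    refine ⟨1, ?_⟩
    intro x
    refine ⟨1, ?_⟩
    have h1 : (x : Γ) ∈ (⊥ : Subgroup Γ) := hker ▸ x.2
    rw [Subgroup.mem_bot] at h1
    ext
    simp [h1]

end Cfsg.Agent.S3979
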