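import Cfsg.Statements.S3981
import Cfsg.Agent.Lib.Helper22.Basic

set_option autoImplicit false
open Cfsg

namespace Cfsg.Agent.S3981

open Cfsg.Agent.Lib.Helper22

theorem inv_or_cent {W : Type*} [Group W] (p : ℕ) [Fact p.Prime] (R : Subgroup W)
    [Finite R] (hR : IsPGroup p R) (hR1 : R ≠ ⊥) (t : W) (ht : t * t = 1)
    (hnorm : ∀ z ∈ R, t * z * t⁻¹ ∈ R) :
    ∃ x ∈ R, x ≠ 1 ∧ x ^ p = 1 ∧ (t * x * t⁻¹ = x ∨ t * x * t⁻¹ = x⁻¹) := by
  have hp : p.Prime := Fact.out
  have htinv : t⁻¹ = t := inv_eq_of_mul_eq_one_left ht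
  by_cases hcase : ∃ z ∈ R, z ≠ 1 ∧ t * z * t⁻¹ = z
  · obtain ⟨z, hzR, hz1, hzt⟩ := hcase
    obtain ⟨k, hk⟩ := orderOf_of_mem_pgroup p R hR z hzR
    have hk0 : k ≠ 0 := by
      rintro rfl
      rw [pow_zero] at hk
      exact hz1 (orderOf_eq_one_iff.1 hk)
    obtain ⟨j, rfl⟩ := Nat.exists_eq_succ_of_ne_zero hk0
    have ho : orderOf (z ^ (p ^ j)) = p := by
      rw [orderOf_pow_of_dvd (pow_ne_zero _ hp.ne_zero) (by rw [hk]; exact pow_dvd_pow _ (Nat.le_succ j)),
        hk, pow_succ, Nat.mul_div_cancel_left _ (pow_pos hp.pos j)]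
    refine ⟨z ^ (p ^ j), R.pow_mem hzR _, ?_, ?_, Or.inl ?_⟩
    · intro h1
      rw [h1, orderOf_one] at ho
      exact hp.one_lt.ne ho
    · have := pow_orderOf_eq_one (z ^ (p ^ j))
      rwa [ho] at this
    · rw [← conj_pow, hzt]
  · push Not at hcase
    let φ : R → R := fun r => ⟨(r : W)⁻¹ * (t * (r : W) * t⁻¹), R.mul_mem (R.inv_mem r.2) (hnorm _ r.2)⟩
    have hinj : Function.Injective φ := by
      intro r s hrs
      have h1 : (r : W)⁻¹ * (t * (r : W) * t⁻¹) = (s : W)⁻¹ * (t * (s : W) * t⁻¹) :=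
        congrArg Subtype.val hrs
      by_contra hne
      have h2 : (s : W) * (r : W)⁻¹ ≠ 1 := by
        intro h3
        apply hne
        apply Subtype.ext
        exact (mul_inv_eq_one.1 h3).symm
      apply hcase ((s : W) * (r : W)⁻¹) (R.mul_mem s.2 (R.inv_mem r.2)) h2
      have h4 : t * (r : W) * t⁻¹ = (r : W) * (s : W)⁻¹ * (t * (s : W) * t⁻¹) := by
        calc t * (r : W) * t⁻¹ = (r : W) * ((r : W)⁻¹ * (t * (r : W) * t⁻¹)) := by group
          _ = (r : W) * ((s : W)⁻¹ * (t * (s : W) * t⁻¹)) := by rw [h1]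
          _ = (r : W) * (s : W)⁻¹ * (t * (s : W) * t⁻¹) := by group
      calc t * ((s : W) * (r : W)⁻¹) * t⁻¹ = (t * (s : W) * t⁻¹) * (t * (r : W) * t⁻¹)⁻¹ := by group
        _ = (t * (s : W) * t⁻¹) * ((r : W) * (s : W)⁻¹ * (t * (s : W) * t⁻¹))⁻¹ := by rw [h4]
        _ = (s : W) * (r : W)⁻¹ := by group
    have hsurj : Function.Surjective φ := Finite.injective_iff_surjective.1 hinj
    have hcard : p ∣ Nat.card R := by
      obtain ⟨n, hn⟩ := IsPGroup.iff_card.1 hR
      have hn0 : n ≠ 0 := by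
        rintro rfl
        rw [pow_zero] at hn
        exact hR1 (Subgroup.card_eq_one.1 hn)
      rw [hn]
      exact dvd_pow_self p hn0
    obtain ⟨x, hx⟩ := exists_prime_orderOf_dvd_card' p hcard
    obtain ⟨r, hr⟩ := hsurj x
    have hxr : (x : W) = (r : W)⁻¹ * (t * (r : W) * t⁻¹) := (congrArg Subtype.val hr).symm
    have hxo : orderOf (x : W) = p := by rw [Subgroup.orderOf_coe]; exact hx
    refine ⟨(x : W), x.2, ?_, ?_, Or.inr ?_⟩
    · intro h1
      rw [h1, orderOf_one] at hxo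
      exact hp.one_lt.ne hxo
    · have := pow_orderOf_eq_one (x : W)
      rwa [hxo] at this
    · rw [hxr, htinv]
      have e1 : t * ((r : W)⁻¹ * (t * (r : W) * t)) * t = t * (r : W)⁻¹ * t * (r : W) * (t * t) := by
        group
      have e2 : ((r : W)⁻¹ * (t * (r : W) * t))⁻¹ = t⁻¹ * (r : W)⁻¹ * t⁻¹ * (r : W) := by group
      rw [e1, ht, mul_one, e2, htinv]

/-- Let p be an odd prime, Q a p-subgroup of the finite group G and y an involution normalizing Q. Then Q is maximal among the p-subgroups of G normalized by y if and only if the image of y in N_G(Q) ⧸ Q neither inverts nor centralizes any element of order p there; the latter is phrased inside N_G(Q): for every x in N_G(Q) outside Q with x ^ p ∈ Q, neither y x y⁻¹ x nor y x y⁻¹ x⁻¹ lies in Q. -/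
theorem result {G : Type*} [Group G] [Finite G] (p : ℕ) [Fact p.Prime] (hp2 : p ≠ 2) (Q : Subgroup G) (hQ : IsPGroup p ↥Q) (y : G) (hy : orderOf y = 2) (hyQ : y ∈ Subgroup.normalizer (Q : Set G)) : (∀ R : Subgroup G, IsPGroup p ↥R → Q ≤ R → y ∈ Subgroup.normalizer (R : Set G) → R = Q) ↔ ∀ x : G, x ∈ Subgroup.normalizer (Q : Set G) → x ∉ Q → x ^ p ∈ Q → (y * x * y⁻¹ * x ∉ Q ∧ y * x * y⁻¹ * x⁻¹ ∉ Q) := by
  have hpp : p.Prime := Fact.out
  constructor
  · intro hmax x hxN hxQ hxp
    have hxpow : IsPGroup p (Subgroup.zpowers x) := by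
      obtain ⟨k, hk⟩ := orderOf_of_mem_pgroup p Q hQ _ hxp
      have h1 : x ^ (p ^ (k + 1)) = 1 := by
        rw [pow_succ', pow_mul, ← hk]; exact pow_orderOf_eq_one _
      obtain ⟨j, -, hj⟩ := (Nat.dvd_prime_pow hpp).1 (orderOf_dvd_of_pow_eq_one h1)
      apply IsPGroup.of_card (n := j)
      rw [Nat.card_zpowers, hj]
    set R := Subgroup.zpowers x ⊔ Q with hR
    have hRp : IsPGroup p R :=
      IsPGroup.to_sup_of_normal_right' hxpow hQ (Subgroup.zpowers_le.2 hxN)
    have hQR : Q ≤ R := le_sup_right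
    have hxR : x ∈ R := Subgroup.mem_sup_left (Subgroup.mem_zpowers x)
    have key : y * x * y⁻¹ ∈ R → False := by
      intro h
      have hyR : y ∈ Subgroup.normalizer (R : Set G) := by
        apply Subgroup.mem_normalizer_fintype
        intro r hr
        have hle : R ≤ R.comap (MulAut.conj y).toMonoidHom := by
          apply sup_le
          · rw [Subgroup.zpowers_le, Subgroup.mem_comap]
            simpa [MulAut.conj_apply] using h
          · intro q hq
            rw [Subgroup.mem_comap]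
            have : y * q * y⁻¹ ∈ Q := (Subgroup.mem_normalizer_iff.1 hyQ q).1 hq
            simpa [MulAut.conj_apply] using hQR this
        have := hle hr
        rw [Subgroup.mem_comap] at this
        simpa [MulAut.conj_apply] using this
      have h2 := hmax R hRp hQR hyR
      rw [h2] at hxR
      exact hxQ hxR
    constructor
    · intro h1
      apply key
      have : y * x * y⁻¹ = (y * x * y⁻¹ * x) * x⁻¹ := by group
      rw [this]
      exact R.mul_mem (hQR h1) (R.inv_mem hxR)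
    · intro h1
      apply key
      have : y * x * y⁻¹ = (y * x * y⁻¹ * x⁻¹) * x := by group
      rw [this]
      exact R.mul_mem (hQR h1) hxR
  · intro hcond R hRp hQR hyR
    by_contra hne
    have hlt : Q < R := lt_of_le_of_ne hQR (Ne.symm hne)
    have hnil : Group.IsNilpotent R := hRp.isNilpotent
    have hnc : NormalizerCondition R := Group.normalizerCondition_of_isNilpotent
    have hQR' : Q.subgroupOf R < ⊤ := by
      refine lt_of_le_of_ne le_top ?_
      intro h
      obtain ⟨r, hrR, hrQ⟩ := SetLike.exists_of_lt hlt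
      apply hrQ
      have : (⟨r, hrR⟩ : R) ∈ Q.subgroupOf R := by rw [h]; exact Subgroup.mem_top _
      exact Subgroup.mem_subgroupOf.1 this
    obtain ⟨r, hrn, hrq⟩ := SetLike.exists_of_lt (hnc _ hQR')
    have hr₀Q : (r : G) ∉ Q := fun h => hrq (Subgroup.mem_subgroupOf.2 h)
    have hr₀N : (r : G) ∈ Subgroup.normalizer (Q : Set G) := by
      apply Subgroup.mem_normalizer_fintype
      intro q hq
      have h1 : (⟨q, hQR hq⟩ : R) ∈ Q.subgroupOf R := Subgroup.mem_subgroupOf.2 hq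
      have h2 := (Subgroup.mem_normalizer_iff.1 hrn _).1 h1
      have h3 := Subgroup.mem_subgroupOf.1 h2
      simpa using h3
    set N := Subgroup.normalizer (Q : Set G) with hN
    have hQn : (Q.subgroupOf N).Normal := Subgroup.normal_in_normalizer
    set π := QuotientGroup.mk' (Q.subgroupOf N) with hπ
    have hπ1 : ∀ z : N, π z = 1 ↔ (z : G) ∈ Q := by
      intro z
      rw [hπ, QuotientGroup.mk'_apply, QuotientGroup.eq_one_iff, Subgroup.mem_subgroupOf]
    set t := π ⟨y, hyQ⟩ with ht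
    have hyy : y * y = 1 := by
      rw [← pow_two, ← hy]; exact pow_orderOf_eq_one y
    have htt : t * t = 1 := by
      rw [ht, ← map_mul]
      have : (⟨y, hyQ⟩ : N) * ⟨y, hyQ⟩ = 1 := Subtype.ext hyy
      rw [this, map_one]
    set Rbar := ((R ⊓ N).subgroupOf N).map π with hRbar
    have hRbarp : IsPGroup p Rbar := by
      have h1 : IsPGroup p (R ⊓ N : Subgroup G) := hRp.to_le inf_le_left
      have h2 : IsPGroup p ((R ⊓ N).subgroupOf N) :=
        h1.comap_of_injective _ (Subgroup.subtype_injective N)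
      exact h2.map π
    have hRbar1 : Rbar ≠ ⊥ := by
      intro h
      have h1 : π ⟨(r : G), hr₀N⟩ ∈ Rbar := by
        rw [hRbar]
        apply Subgroup.mem_map_of_mem
        rw [Subgroup.mem_subgroupOf]
        exact Subgroup.mem_inf.2 ⟨r.2, hr₀N⟩
      rw [h, Subgroup.mem_bot, hπ1] at h1
      exact hr₀Q h1
    have hnorm : ∀ z ∈ Rbar, t * z * t⁻¹ ∈ Rbar := by
      intro z hz
      rw [hRbar] at hz
      obtain ⟨z₀, hz₀, rfl⟩ := Subgroup.mem_map.1 hz
      rw [Subgroup.mem_subgroupOf] at hz₀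
      obtain ⟨hz₀R, hz₀N⟩ := Subgroup.mem_inf.1 hz₀
      have h1 : t * π z₀ * t⁻¹ = π (⟨y, hyQ⟩ * z₀ * ⟨y, hyQ⟩⁻¹) := by
        rw [ht, map_mul, map_mul, map_inv]
      rw [h1, hRbar]
      apply Subgroup.mem_map_of_mem
      rw [Subgroup.mem_subgroupOf]
      refine Subgroup.mem_inf.2 ⟨?_, (⟨y, hyQ⟩ * z₀ * ⟨y, hyQ⟩⁻¹ : N).2⟩
      have := (Subgroup.mem_normalizer_iff.1 hyR (z₀ : G)).1 hz₀R
      simpa using this
    obtain ⟨xb, hxbR, hxb1, hxbp, hxbt⟩ := inv_or_cent p Rbar hRbarp hRbar1 t htt hnorm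
    rw [hRbar] at hxbR
    obtain ⟨x, hx, rfl⟩ := Subgroup.mem_map.1 hxbR
    have hxQ : (x : G) ∉ Q := fun h => hxb1 ((hπ1 x).2 h)
    have hxp : (x : G) ^ p ∈ Q := by
      have : π (x ^ p) = 1 := by rw [map_pow, hxbp]
      have := (hπ1 _).1 this
      simpa using this
    have hc := hcond (x : G) x.2 hxQ hxp
    rcases hxbt with h1 | h1
    · apply hc.2
      have h2 : π (⟨y, hyQ⟩ * x * ⟨y, hyQ⟩⁻¹ * x⁻¹) = 1 := by
        rw [map_mul, map_mul, map_mul, map_inv, map_inv, ← ht, h1, mul_inv_cancel]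
      have := (hπ1 _).1 h2
      simpa using this
    · apply hc.1
      have h2 : π (⟨y, hyQ⟩ * x * ⟨y, hyQ⟩⁻¹ * x) = 1 := by
        rw [map_mul, map_mul, map_mul, map_inv, ← ht, h1, inv_mul_cancel]
      have := (hπ1 _).1 h2
      simpa using this

end Cfsg.Agent.S3981
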