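import Cfsg.Statements.S3982
import Cfsg.Agent.S0023
import Cfsg.Agent.Lib.helper17.PAct
import Cfsg.Agent.Lib.Helper13.ConjFamily

set_option autoImplicit false
open Cfsg

namespace Cfsg.Agent.S3982

section Aux

variable {G : Type*} [Group G] [Finite G]

/-- an involution normalizing `Q` and fixing no nonidentity element of `Q` inverts `Q` -/
theorem inverts_of_fpf (Q : Subgroup G) (t : G) (ht : t * t = 1)
    (htN : t ∈ Subgroup.normalizer (Q : Set G))
    (hfix : ∀ q ∈ Q, t * q * t⁻¹ = q → q = 1) : ∀ q ∈ Q, t * q * t⁻¹ = q⁻¹ := by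
  have htinv : t⁻¹ = t := inv_eq_of_mul_eq_one_right ht
  let φ : ↥Q →* ↥Q :=
    { toFun := fun q => ⟨t * q * t⁻¹, (Subgroup.mem_normalizer_iff.1 htN _).1 q.2⟩
      map_one' := by apply Subtype.ext; simp
      map_mul' := by
        intro a b
        apply Subtype.ext
        simp only [Subgroup.coe_mul]
        group }
  have hφ : ∀ k : ↥Q, ((φ k : ↥Q) : G) = t * k * t⁻¹ := fun k => rfl
  have hfpf : MonoidHom.FixedPointFree φ := by
    intro k hk
    apply Subtype.ext
    apply hfix _ k.2
    rw [← hφ, hk]
  have hinvol : Function.Involutive φ := by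
    intro k
    apply Subtype.ext
    rw [hφ, hφ, htinv]
    calc t * (t * ↑k * t) * t = (t * t) * ↑k * (t * t) := by group
      _ = k := by rw [ht, one_mul, mul_one]
  have := hfpf.coe_eq_inv_of_involutive hinvol
  intro k hk
  have h1 := congrFun this ⟨k, hk⟩
  have h2 := congrArg Subtype.val h1
  rw [hφ] at h2
  simpa using h2

end Aux


/-- Let p be an odd prime and G a finite group of even order divisible by p in which the centralizer of every non-identity p-element has odd order. If some nontrivial p-subgroup of G has a normalizer of even order, then the normalizer of every Sylow p-subgroup of G has even order. -/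
theorem result {G : Type*} [Group G] [Finite G] (p : ℕ) [Fact p.Prime] (hp2 : p ≠ 2) (hpG : p ∣ Nat.card G) (h2G : 2 ∣ Nat.card G) (hC : ∀ g : G, g ≠ 1 → (∃ k : ℕ, orderOf g = p ^ k) → Odd (Nat.card ↥(Subgroup.centralizer ({g} : Set G)))) (Q : Subgroup G) (hQ : IsPGroup p ↥Q) (hQ1 : Q ≠ ⊥) (hev : Even (Nat.card ↥(Subgroup.normalizer (Q : Set G)))) (P : Sylow p G) : Even (Nat.card ↥(Subgroup.normalizer ((P : Subgroup G) : Set G))) := by
  have hp : p.Prime := Fact.out
  haveI : Fact (Nat.Prime 2) := ⟨Nat.prime_two⟩
  -- the inductive claim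
  have key : ∀ n : ℕ, ∀ (Q : Subgroup G) (t : G), IsPGroup p ↥Q → Q ≠ ⊥ → orderOf t = 2 →
      t ∈ Subgroup.normalizer (Q : Set G) → Nat.card G - Nat.card ↥Q = n →
      ∃ (P' : Sylow p G) (t' : G), orderOf t' = 2 ∧
        t' ∈ Subgroup.normalizer ((P' : Subgroup G) : Set G) := by
    intro n
    induction n using Nat.strong_induction_on with
    | _ n ih =>
      intro Q t hQp hQ1 hto htN hn
      obtain ⟨P', hQP'⟩ := hQp.exists_le_sylow
      by_cases hQeq : Q = (P' : Subgroup G)
      · exact ⟨P', t, hto, hQeq ▸ htN⟩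
      · -- a larger p-subgroup R normalizing Q
        set R : Subgroup G := (P' : Subgroup G) ⊓ Subgroup.normalizer (Q : Set G) with hR
        have hRp : IsPGroup p ↥R := P'.2.to_le inf_le_left
        have hlt : Nat.card ↥Q < Nat.card ↥R :=
          Cfsg.Agent.Lib.Helper13.card_lt_card_inf_normalizer P'.2 hQP' hQeq
        have hRN : R ≤ Subgroup.normalizer (Q : Set G) := inf_le_right
        have ht2 : t * t = 1 := by
          have := pow_orderOf_eq_one t
          rwa [hto, pow_two] at this
        have htinv : t⁻¹ = t := inv_eq_of_mul_eq_one_right ht2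
        -- t acts fixed point freely on Q
        have hfix : ∀ q ∈ Q, t * q * t⁻¹ = q → q = 1 := by
          intro q hq hqt
          by_contra hq1
          have hord : ∃ k : ℕ, orderOf q = p ^ k := by
            obtain ⟨k, hk⟩ := (IsPGroup.iff_orderOf.1 hQp) ⟨q, hq⟩
            exact ⟨k, by rw [← hk, Subgroup.orderOf_mk]⟩
          have hodd := hC q hq1 hord
          have htC : t ∈ Subgroup.centralizer ({q} : Set G) := by
            rw [Subgroup.mem_centralizer_iff]
            intro y hy
            rw [Set.mem_singleton_iff] at hy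
            rw [hy]
            calc q * t = (t * q * t⁻¹) * t := by rw [hqt]
              _ = t * q := by group
          have hdvd : orderOf t ∣ Nat.card ↥(Subgroup.centralizer ({q} : Set G)) := by
            have := orderOf_dvd_natCard (⟨t, htC⟩ : ↥(Subgroup.centralizer ({q} : Set G)))
            rwa [Subgroup.orderOf_mk] at this
          rw [hto] at hdvd
          exact (Nat.not_even_iff_odd.2 hodd) (even_iff_two_dvd.2 hdvd)
        have hinv := inverts_of_fpf Q t ht2 htN hfix
        -- an element z of Q centralized by R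
        have hne : Q ⊓ Subgroup.centralizer (R : Set G) ≠ ⊥ :=
          Cfsg.Agent.Lib.helper17.inf_centralizer_ne_bot_of_pgroups hRp hQp hQ1 hRN
        obtain ⟨z, hz1⟩ := (Subgroup.ne_bot_iff_exists_ne_one).1 hne
        have hz1' : (z : G) ≠ 1 := fun h => hz1 (Subtype.ext h)
        obtain ⟨hzQ, hzR⟩ := Subgroup.mem_inf.1 z.2
        have hzord : ∃ k : ℕ, orderOf (z : G) = p ^ k := by
          obtain ⟨k, hk⟩ := (IsPGroup.iff_orderOf.1 hQp) ⟨z, hzQ⟩
          exact ⟨k, by rw [← hk, Subgroup.orderOf_mk]⟩
        set Y : Subgroup G := Subgroup.centralizer ({(z : G)} : Set G) with hY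
        have hYodd : Odd (Nat.card ↥Y) := hC z hz1' hzord
        have hRY : R ≤ Y := by
          intro r hr
          rw [hY, Subgroup.mem_centralizer_iff]
          intro y hy
          rw [Set.mem_singleton_iff] at hy
          rw [hy]
          exact ((Subgroup.mem_centralizer_iff.1 hzR) r hr).symm
        -- t normalizes Y
        have hzt : t * z * t⁻¹ = (z : G)⁻¹ := hinv z hzQ
        have htY : ∀ y : G, y ∈ Y → t * y * t⁻¹ ∈ Y := by
          intro y hy
          rw [hY, Subgroup.mem_centralizer_iff] at hy ⊢
          intro w hw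
          rw [Set.mem_singleton_iff] at hw
          rw [hw]
          have h1 : (z : G) * y = y * z := hy z rfl
          have h2 : (z : G)⁻¹ * y = y * (z : G)⁻¹ := by
            calc (z : G)⁻¹ * y = (z : G)⁻¹ * (y * z) * (z : G)⁻¹ := by group
              _ = (z : G)⁻¹ * (z * y) * (z : G)⁻¹ := by rw [h1]
              _ = y * (z : G)⁻¹ := by group
          have h3 : (z : G) = t * (z : G)⁻¹ * t⁻¹ := by
            rw [← hzt]; rw [htinv]
            calc (z : G) = (t * t) * z * (t * t) := by rw [ht2, one_mul, mul_one]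
              _ = t * (t * ↑z * t) * t := by group
          calc (z : G) * (t * y * t⁻¹) = (t * (z : G)⁻¹ * t⁻¹) * (t * y * t⁻¹) := by rw [← h3]
            _ = t * ((z : G)⁻¹ * y) * t⁻¹ := by group
            _ = t * (y * (z : G)⁻¹) * t⁻¹ := by rw [h2]
            _ = (t * y * t⁻¹) * (t * (z : G)⁻¹ * t⁻¹) := by group
            _ = t * y * t⁻¹ * z := by rw [← h3]
        set A : Subgroup G := Subgroup.zpowers t with hA
        have htNY : t ∈ Subgroup.normalizer (Y : Set G) := by
          rw [Subgroup.mem_normalizer_iff]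
          intro y
          constructor
          · exact htY y
          · intro h
            have := htY _ h
            rw [htinv] at this
            have e : t * (t * y * t) * t = y := by
              calc t * (t * y * t) * t = (t * t) * y * (t * t) := by group
                _ = y := by rw [ht2, one_mul, mul_one]
            rwa [e] at this
        have hAY : A ≤ Subgroup.normalizer (Y : Set G) := by
          rw [hA, Subgroup.zpowers_le]; exact htNY
        have hAcard : Nat.card ↥A = 2 := by rw [hA, Nat.card_zpowers, hto]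
        have hcop : (Nat.card ↥A).Coprime (Nat.card ↥Y) := by
          rw [hAcard, Nat.coprime_two_left]; exact hYodd
        have hAsolv : Group.IsSolvable ↥A := by
          rw [hA]; infer_instance
        obtain ⟨T', hT'⟩ := Cfsg.Agent.S0023.result A Y hAY hcop (Or.inl hAsolv) p
        set T : Subgroup G := (T' : Subgroup ↥Y).map Y.subtype with hT
        have hTp : IsPGroup p ↥T := T'.2.map _
        have hTcard : Nat.card ↥R ≤ Nat.card ↥T := by
          have hRp' : IsPGroup p ↥(R.subgroupOf Y) := hRp.comap_subtype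
          obtain ⟨T'', hT''⟩ := hRp'.exists_le_sylow
          have h1 : Nat.card ↥(R.subgroupOf Y) ≤ Nat.card ↥(T'' : Subgroup ↥Y) :=
            Subgroup.card_le_of_le hT''
          have h2 : Nat.card ↥(R.subgroupOf Y) = Nat.card ↥R :=
            Nat.card_congr (Subgroup.subgroupOfEquivOfLe hRY).toEquiv
          have h3 : Nat.card ↥(T'' : Subgroup ↥Y) = Nat.card ↥(T' : Subgroup ↥Y) := by
            rw [Sylow.card_eq_multiplicity, Sylow.card_eq_multiplicity]
          have h4 : Nat.card ↥T = Nat.card ↥(T' : Subgroup ↥Y) := by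
            rw [hT, Subgroup.card_map_of_injective Y.subtype_injective]
          omega
        have hT1 : T ≠ ⊥ := by
          intro h
          rw [h, Subgroup.card_bot] at hTcard
          have : 0 < Nat.card ↥Q := Nat.card_pos
          omega
        have htT : t ∈ Subgroup.normalizer (T : Set G) := hT' (Subgroup.mem_zpowers t)
        have hle : Nat.card ↥T ≤ Nat.card G := Subgroup.card_le_card_group _
        exact ih (Nat.card G - Nat.card ↥T) (by omega) T t hTp hT1 hto htT rfl
  -- get an involution in N(Q)
  obtain ⟨t0, ht0⟩ := exists_prime_orderOf_dvd_card' (G := ↥(Subgroup.normalizer (Q : Set G))) 2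
    (even_iff_two_dvd.1 hev)
  have hto : orderOf (t0 : G) = 2 := by rw [Subgroup.orderOf_coe]; exact ht0
  obtain ⟨P', t', ht'o, ht'N⟩ := key _ Q t0 hQ hQ1 hto t0.2 rfl
  -- transport to P
  obtain ⟨g, hg⟩ := MulAction.exists_smul_eq G P' P
  have hmem : ∀ x : G, x ∈ (P : Subgroup G) ↔ g⁻¹ * x * g ∈ (P' : Subgroup G) := by
    intro x
    rw [← hg, Sylow.coe_subgroup_smul, Subgroup.mem_pointwise_smul_iff_inv_smul_mem]
    simp [MulAut.smul_def]
  have hgt : g * t' * g⁻¹ ∈ Subgroup.normalizer ((P : Subgroup G) : Set G) := by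
    rw [Subgroup.mem_normalizer_iff]
    intro x
    rw [hmem, hmem]
    have e : g⁻¹ * (g * t' * g⁻¹ * x * (g * t' * g⁻¹)⁻¹) * g = t' * (g⁻¹ * x * g) * t'⁻¹ := by group
    rw [e]
    exact Subgroup.mem_normalizer_iff.1 ht'N _
  have hord : orderOf (g * t' * g⁻¹) = 2 := by
    have : g * t' * g⁻¹ = (MulAut.conj g) t' := by simp
    rw [this, MulEquiv.orderOf_eq]; exact ht'o
  rw [even_iff_two_dvd, ← hord]
  have := orderOf_dvd_natCard (⟨g * t' * g⁻¹, hgt⟩ : ↥(Subgroup.normalizer ((P : Subgroup G) : Set G)))
  rwa [Subgroup.orderOf_mk] at this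

end Cfsg.Agent.S3982
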