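import Cfsg.Statements.S3983
import Cfsg.Agent.Lib.Helper22.Sylow

set_option autoImplicit false
open Cfsg
open scoped Pointwise

namespace Cfsg.Agent.S3983

theorem mem_conj_smul_iff {M : Type*} [Group M] (g x : M) (S : Subgroup M) :
    x ∈ MulAut.conj g • S ↔ g⁻¹ * x * g ∈ S := by
  rw [Subgroup.mem_pointwise_smul_iff_inv_smul_mem, MulAut.smul_def, MulAut.conj_inv_apply]

theorem ti_elementwise {G : Type*} [Group G] [Finite G] (P : Subgroup G)
    (hTI : ∀ g : G, g ∉ Subgroup.normalizer (P : Set G) → P ⊓ (MulAut.conj g • P) = ⊥)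
    (g z : G) (hz : z ∈ P) (hgz : g⁻¹ * z * g ∈ P) (hz1 : z ≠ 1) :
    g ∈ Subgroup.normalizer (P : Set G) := by
  by_contra hg
  have h1 := hTI g hg
  have h2 : z ∈ P ⊓ (MulAut.conj g • P) := by
    refine Subgroup.mem_inf.2 ⟨hz, ?_⟩
    rw [mem_conj_smul_iff]; exact hgz
  rw [h1, Subgroup.mem_bot] at h2
  exact hz1 h2

theorem ti_conj {G : Type*} [Group G] [Finite G] (p : ℕ) [Fact p.Prime] (P : Sylow p G)
    (hTI : ∀ g : G, g ∉ Subgroup.normalizer ((P : Subgroup G) : Set G) →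
      (P : Subgroup G) ⊓ (MulAut.conj g • (P : Subgroup G)) = ⊥)
    (c : G) (g z : G) (hz : z ∈ ((c • P : Sylow p G) : Subgroup G))
    (hgz : g⁻¹ * z * g ∈ ((c • P : Sylow p G) : Subgroup G)) (hz1 : z ≠ 1) :
    ∀ x ∈ ((c • P : Sylow p G) : Subgroup G), g * x * g⁻¹ ∈ ((c • P : Sylow p G) : Subgroup G) := by
  rw [Lib.Helper22.mem_smul_sylow_iff] at hz hgz
  have h1 : (c⁻¹ * g * c)⁻¹ * (c⁻¹ * z * c) * (c⁻¹ * g * c) ∈ (P : Subgroup G) := by
    have : (c⁻¹ * g * c)⁻¹ * (c⁻¹ * z * c) * (c⁻¹ * g * c) = c⁻¹ * (g⁻¹ * z * g) * c := by group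
    rw [this]; exact hgz
  have h2 : c⁻¹ * z * c ≠ 1 := by
    intro h
    apply hz1
    have : z = c * (c⁻¹ * z * c) * c⁻¹ := by group
    rw [this, h]; group
  have h3 := ti_elementwise (P : Subgroup G) hTI (c⁻¹ * g * c) (c⁻¹ * z * c) hz h1 h2
  intro x hx
  rw [Lib.Helper22.mem_smul_sylow_iff] at hx ⊢
  have h4 := (Subgroup.mem_normalizer_iff.1 h3 (c⁻¹ * x * c)).1 hx
  have h5 : c⁻¹ * g * c * (c⁻¹ * x * c) * (c⁻¹ * g * c)⁻¹ = c⁻¹ * (g * x * g⁻¹) * c := by group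
  rwa [h5] at h4

theorem result {G : Type*} [Group G] [Finite G] (p : ℕ) [Fact p.Prime] (P : Sylow p G) (hTI : ∀ g : G, g ∉ Subgroup.normalizer ((P : Subgroup G) : Set G) → (P : Subgroup G) ⊓ (MulAut.conj g • (P : Subgroup G)) = ⊥) (U : Subgroup G) (hU : p ∣ Nat.card ↥U) (Q : Sylow p ↥U) : ∀ u : ↥U, u ∉ Subgroup.normalizer ((Q : Subgroup ↥U) : Set ↥U) → (Q : Subgroup ↥U) ⊓ (MulAut.conj u • (Q : Subgroup ↥U)) = ⊥ := by
  intro u hu
  rw [eq_bot_iff]
  intro z hz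
  rw [Subgroup.mem_bot]
  obtain ⟨hz1, hz2⟩ := Subgroup.mem_inf.1 hz
  rw [mem_conj_smul_iff] at hz2
  by_contra hzne
  apply hu
  have hQ' : IsPGroup p ((Q : Subgroup U).map U.subtype) := Q.2.map U.subtype
  obtain ⟨R, hR⟩ := hQ'.exists_le_sylow
  obtain ⟨c, hc⟩ := MulAction.exists_smul_eq G P R
  have hQR : ∀ x : U, x ∈ (Q : Subgroup U) → (x : G) ∈ ((c • P : Sylow p G) : Subgroup G) := by
    intro x hx
    rw [hc]
    exact hR (Subgroup.mem_map_of_mem U.subtype hx)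
  have hRQ : ∀ x : U, (x : G) ∈ ((c • P : Sylow p G) : Subgroup G) → x ∈ (Q : Subgroup U) := by
    have hpg : IsPGroup p (((c • P : Sylow p G) : Subgroup G).subgroupOf U) := by
      apply (c • P : Sylow p G).2.comap_of_injective
      exact Subgroup.subtype_injective U
    have hle : (Q : Subgroup U) ≤ ((c • P : Sylow p G) : Subgroup G).subgroupOf U := by
      intro x hx
      rw [Subgroup.mem_subgroupOf]
      exact hQR x hx
    have heq := Q.is_maximal' hpg hle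
    intro x hx
    rw [← heq, Subgroup.mem_subgroupOf]
    exact hx
  have hzne' : (z : G) ≠ 1 := fun h => hzne (Subtype.ext h)
  have h1 := ti_conj p P hTI c (u : G) (z : G) (hQR z hz1) (by
    have := hQR _ hz2
    simpa using this) hzne'
  apply Subgroup.mem_normalizer_fintype
  intro x hx
  apply hRQ
  have := h1 (x : G) (hQR x hx)
  simpa using this

end Cfsg.Agent.S3983
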