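import Cfsg.Statements.S3984
import Cfsg.Agent.Lib.Helper22.Sylow2
import Cfsg.Agent.S3983

set_option autoImplicit false
open Cfsg
open scoped Pointwise

namespace Cfsg.Agent.S3984

theorem result {G : Type*} [Group G] [Finite G] (p : ℕ) [Fact p.Prime] (P : Sylow p G) (hTI : ∀ g : G, g ∉ Subgroup.normalizer ((P : Subgroup G) : Set G) → (P : Subgroup G) ⊓ (MulAut.conj g • (P : Subgroup G)) = ⊥) (N : Subgroup G) [N.Normal] (hN : (Nat.card ↥N).Coprime p) (Q : Sylow p (G ⧸ N)) : ∀ x : G ⧸ N, x ∉ Subgroup.normalizer ((Q : Subgroup (G ⧸ N)) : Set (G ⧸ N)) → (Q : Subgroup (G ⧸ N)) ⊓ (MulAut.conj x • (Q : Subgroup (G ⧸ N))) = ⊥ := by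
  intro x hx
  have hp : p.Prime := Fact.out
  have hpN : ¬ p ∣ Nat.card N := by
    intro h
    have := Nat.Coprime.eq_one_of_dvd hN.symm h
    exact hp.one_lt.ne' this
  rw [eq_bot_iff]
  intro zb hzb
  rw [Subgroup.mem_bot]
  obtain ⟨hz1, hz2⟩ := Subgroup.mem_inf.1 hzb
  rw [S3983.mem_conj_smul_iff] at hz2
  by_contra hzne
  apply hx
  obtain ⟨R, hR⟩ := Sylow.mapSurjective_surjective (QuotientGroup.mk'_surjective N) p Q
  obtain ⟨c, hc⟩ := MulAction.exists_smul_eq G P R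
  have hQ : ∀ y : G ⧸ N, y ∈ (Q : Subgroup (G ⧸ N)) ↔
      ∃ r ∈ ((c • P : Sylow p G) : Subgroup G), (QuotientGroup.mk r : G ⧸ N) = y := by
    intro y
    rw [hc, ← hR, Sylow.coe_mapSurjective, Subgroup.mem_map]
    rfl
  obtain ⟨g, rfl⟩ := QuotientGroup.mk_surjective x
  obtain ⟨z, hzR, hz⟩ := (hQ zb).1 hz1
  obtain ⟨z₁, hz₁R, hz₁⟩ := (hQ _).1 hz2
  obtain ⟨l, hl⟩ : ∃ l : ℕ, orderOf z = p ^ l := by
    obtain ⟨l, hl⟩ := (IsPGroup.iff_orderOf.1 (c • P : Sylow p G).2) ⟨z, hzR⟩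
    exact ⟨l, by rw [← hl, Subgroup.orderOf_mk]⟩
  obtain ⟨l₁, hl₁⟩ : ∃ l : ℕ, orderOf z₁ = p ^ l := by
    obtain ⟨l, hl⟩ := (IsPGroup.iff_orderOf.1 (c • P : Sylow p G).2) ⟨z₁, hz₁R⟩
    exact ⟨l, by rw [← hl, Subgroup.orderOf_mk]⟩
  have hmk' : (QuotientGroup.mk (g * z₁ * g⁻¹) : G ⧸ N) = zb := by
    rw [QuotientGroup.mk_mul, QuotientGroup.mk_mul, QuotientGroup.mk_inv, hz₁]
    group
  have hu : g * z₁ * g⁻¹ ∈ Subgroup.zpowers z ⊔ N := by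
    have h1 : z⁻¹ * (g * z₁ * g⁻¹) ∈ N := by
      rw [← QuotientGroup.eq, hz, hmk']
    have h2 : g * z₁ * g⁻¹ = z * (z⁻¹ * (g * z₁ * g⁻¹)) := by group
    rw [h2]
    exact Subgroup.mul_mem_sup (Subgroup.mem_zpowers z) h1
  have hou : orderOf (g * z₁ * g⁻¹) = p ^ l₁ := by
    rw [← hl₁]
    symm
    apply SemiconjBy.orderOf_eq g
    unfold SemiconjBy
    group
  have hAp : IsPGroup p (Subgroup.zpowers z) := by
    apply IsPGroup.of_card (n := l)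
    rw [Nat.card_zpowers, hl]
  obtain ⟨h, hh, hhu⟩ := Lib.Helper22.exists_conj_mem_of_pelement p (Subgroup.zpowers z ⊔ N)
    (Subgroup.zpowers z) hAp (Lib.Helper22.not_dvd_relIndex_zpowers_sup p z l hl N hpN)
    (g * z₁ * g⁻¹) hu l₁ hou
  have hwR : h⁻¹ * (g * z₁ * g⁻¹) * h ∈ ((c • P : Sylow p G) : Subgroup G) := by
    have hle : Subgroup.zpowers z ≤ ((c • P : Sylow p G) : Subgroup G) := Subgroup.zpowers_le.2 hzR
    exact hle hhu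
  have hw1 : h⁻¹ * (g * z₁ * g⁻¹) * h ≠ 1 := by
    intro h1
    apply hzne
    rw [← hmk']
    have h2 : g * z₁ * g⁻¹ = h * (h⁻¹ * (g * z₁ * g⁻¹) * h) * h⁻¹ := by group
    rw [h2, h1]
    simp
  have hnorm := S3983.ti_conj p P hTI c (h⁻¹ * g) (h⁻¹ * (g * z₁ * g⁻¹) * h) hwR (by
    have : (h⁻¹ * g)⁻¹ * (h⁻¹ * (g * z₁ * g⁻¹) * h) * (h⁻¹ * g) = z₁ := by group
    rw [this]; exact hz₁R) hw1
  have hhQ : (QuotientGroup.mk h : G ⧸ N) ∈ (Q : Subgroup (G ⧸ N)) := by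
    have h5 : h ∈ ((Subgroup.zpowers z ⊔ N : Subgroup G) : Set G) := hh
    rw [Subgroup.mul_normal, Set.mem_mul] at h5
    obtain ⟨s, hs, n, hn, rfl⟩ := h5
    obtain ⟨j, rfl⟩ := hs
    have hn1 : (QuotientGroup.mk n : G ⧸ N) = 1 := (QuotientGroup.eq_one_iff n).2 hn
    rw [QuotientGroup.mk_mul, hn1, mul_one, QuotientGroup.mk_zpow, hz]
    exact Subgroup.zpow_mem _ hz1 j
  apply Subgroup.mem_normalizer_fintype
  intro y hy
  have hy' : y ∈ (Q : Subgroup (G ⧸ N)) := hy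
  obtain ⟨r, hr, rfl⟩ := (hQ y).1 hy'
  have h6 : (QuotientGroup.mk (h⁻¹ * g * r * (h⁻¹ * g)⁻¹) : G ⧸ N) ∈ (Q : Subgroup (G ⧸ N)) :=
    (hQ _).2 ⟨_, hnorm r hr, rfl⟩
  have h7 : (QuotientGroup.mk g : G ⧸ N) * (QuotientGroup.mk r : G ⧸ N) * (QuotientGroup.mk g : G ⧸ N)⁻¹ =
      (QuotientGroup.mk h : G ⧸ N) * (QuotientGroup.mk (h⁻¹ * g * r * (h⁻¹ * g)⁻¹) : G ⧸ N) *
        (QuotientGroup.mk h : G ⧸ N)⁻¹ := by
    rw [← QuotientGroup.mk_inv, ← QuotientGroup.mk_inv, ← QuotientGroup.mk_mul, ← QuotientGroup.mk_mul,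
      ← QuotientGroup.mk_mul, ← QuotientGroup.mk_mul]
    congr 1
    group
  show (QuotientGroup.mk g : G ⧸ N) * (QuotientGroup.mk r : G ⧸ N) * (QuotientGroup.mk g : G ⧸ N)⁻¹ ∈
    (Q : Subgroup (G ⧸ N))
  rw [h7]
  exact Subgroup.mul_mem _ (Subgroup.mul_mem _ hhQ h6) (Subgroup.inv_mem _ hhQ)

end Cfsg.Agent.S3984
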