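import Cfsg.Statements.S3985
import Cfsg.Agent.Lib.Helper22.Basic
import Cfsg.Agent.Lib.Helper22.Sylow
import Cfsg.Agent.Lib.Helper22.CyclicAut
import Cfsg.Agent.S3983

set_option autoImplicit false
open Cfsg
open scoped Pointwise

namespace Cfsg.Agent.S3985

theorem mem_sylow_of_normalizes {G : Type*} [Group G] [Finite G] (p : ℕ) [Fact p.Prime] (P : Sylow p G)
    (a : G) (k : ℕ) (ha : orderOf a = p ^ k)
    (hn : a ∈ Subgroup.normalizer ((P : Subgroup G) : Set G)) : a ∈ (P : Subgroup G) := by
  have hT : IsPGroup p (Subgroup.zpowers a ⊔ (P : Subgroup G) : Subgroup G) := by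
    apply IsPGroup.to_sup_of_normal_right'
    · apply IsPGroup.of_card (n := k)
      rw [Nat.card_zpowers, ha]
    · exact P.2
    · exact Subgroup.zpowers_le.2 hn
  have h1 := P.is_maximal' hT le_sup_right
  rw [← h1]
  exact Subgroup.mem_sup_left (Subgroup.mem_zpowers a)

theorem result {G : Type*} [Group G] [Finite G] (p : ℕ) [Fact p.Prime] (P : Sylow p G) (hcyc : IsCyclic ↥(P : Subgroup G)) : (∀ g : G, g ∉ Subgroup.normalizer ((P : Subgroup G) : Set G) → (P : Subgroup G) ⊓ (MulAut.conj g • (P : Subgroup G)) = ⊥) ↔ ∀ x : G, x ∈ (P : Subgroup G) → x ≠ 1 → Subgroup.centralizer ({x} : Set G) = Subgroup.centralizer ((P : Subgroup G) : Set G) := by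
  have hp : p.Prime := Fact.out
  obtain ⟨y₀', hy₀'⟩ := hcyc.exists_generator
  obtain ⟨n, hn⟩ := (IsPGroup.iff_orderOf.1 P.2) y₀'
  set y₀ : G := (y₀' : G) with hy₀def
  have hy₀P : y₀ ∈ (P : Subgroup G) := y₀'.2
  have hy₀ : orderOf y₀ = p ^ n := by rw [hy₀def, Subgroup.orderOf_coe, hn]
  have hPz : ∀ h : G, h ∈ (P : Subgroup G) ↔ h ∈ Subgroup.zpowers y₀ := by
    intro h
    constructor
    · intro hh
      obtain ⟨i, hi⟩ := hy₀' ⟨h, hh⟩
      refine ⟨i, ?_⟩
      have := congrArg Subtype.val hi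
      simpa using this
    · intro hh
      exact (Subgroup.zpowers_le.2 hy₀P) hh
  have hcomm_all : ∀ g : G, g * y₀ = y₀ * g → g ∈ Subgroup.centralizer ((P : Subgroup G) : Set G) := by
    intro g hg
    rw [Subgroup.mem_centralizer_iff]
    intro h hh
    obtain ⟨i, rfl⟩ := (hPz h).1 hh
    have hc : Commute g y₀ := hg
    exact ((hc.zpow_right i).eq).symm
  have hPab : ∀ a ∈ (P : Subgroup G), a * y₀ = y₀ * a := by
    intro a ha
    obtain ⟨i, rfl⟩ := (hPz a).1 ha
    exact ((Commute.refl y₀).zpow_left i).eq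
  constructor
  · intro hTI x hxP hx1
    apply le_antisymm
    · intro g hg
      have hgx : g * x = x * g := Subgroup.mem_centralizer_singleton_iff.1 hg
      have hzle : Subgroup.zpowers g ≤ Subgroup.centralizer ({x} : Set G) := Subgroup.zpowers_le.2 hg
      have hCN : ∀ c : G, c ∈ Subgroup.centralizer ({x} : Set G) →
          c ∈ Subgroup.normalizer ((P : Subgroup G) : Set G) := by
        intro c hc
        have hcx : c * x = x * c := Subgroup.mem_centralizer_singleton_iff.1 hc
        apply S3983.ti_elementwise (P : Subgroup G) hTI c x hxP _ hx1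
        have : c⁻¹ * x * c = x := by
          rw [mul_assoc, ← hcx]; group
        rw [this]; exact hxP
      obtain ⟨a, b, hab, -, ⟨k, hk⟩, hbcop, haz, hbz⟩ := Lib.Helper22.exists_p_decomp p g
      have haP : a ∈ (P : Subgroup G) := mem_sylow_of_normalizes p P a k hk (hCN a (hzle haz))
      have hay : a * y₀ = y₀ * a := hPab a haP
      have hbN := hCN b (hzle hbz)
      have hbx : b * x = x * b := Subgroup.mem_centralizer_singleton_iff.1 (hzle hbz)
      have hby : b * y₀ = y₀ * b := by
        apply Lib.Helper22.comm_of_fix_nontrivial p y₀ b x n hy₀ _ hbcop ((hPz x).1 hxP) hx1 hbx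
        rw [← hPz]
        exact (Subgroup.mem_normalizer_iff.1 hbN y₀).1 hy₀P
      apply hcomm_all
      rw [hab, mul_assoc, hby, ← mul_assoc, hay, mul_assoc]
    · apply Subgroup.centralizer_le
      intro z hz
      rw [Set.mem_singleton_iff] at hz
      rw [hz]; exact hxP
  · intro hC g hg
    rw [eq_bot_iff]
    intro z hz
    rw [Subgroup.mem_bot]
    obtain ⟨hz1, hz2⟩ := Subgroup.mem_inf.1 hz
    rw [S3983.mem_conj_smul_iff] at hz2
    by_contra hzne
    apply hg
    have hz'ne : g⁻¹ * z * g ≠ 1 := by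
      intro h
      apply hzne
      have : z = g * (g⁻¹ * z * g) * g⁻¹ := by group
      rw [this, h]; group
    have hCz := hC z hz1 hzne
    have hCz' := hC _ hz2 hz'ne
    apply Subgroup.mem_normalizer_fintype
    intro h hh
    have hh' : h ∈ (P : Subgroup G) := hh
    show g * h * g⁻¹ ∈ (P : Subgroup G)
    have h1 : h ∈ Subgroup.centralizer ({g⁻¹ * z * g} : Set G) := by
      rw [hCz']
      apply hcomm_all
      exact hPab h hh'
    rw [Subgroup.mem_centralizer_singleton_iff] at h1
    have h2 : g * h * g⁻¹ ∈ Subgroup.centralizer ({z} : Set G) := by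
      rw [Subgroup.mem_centralizer_singleton_iff]
      calc g * h * g⁻¹ * z = g * (h * (g⁻¹ * z * g)) * g⁻¹ := by group
        _ = g * ((g⁻¹ * z * g) * h) * g⁻¹ := by rw [h1]
        _ = z * (g * h * g⁻¹) := by group
    rw [hCz] at h2
    obtain ⟨k, hk⟩ := Lib.Helper22.orderOf_of_mem_pgroup p (P : Subgroup G) P.2 h hh'
    have hk' : orderOf (g * h * g⁻¹) = p ^ k := by
      rw [← hk]
      symm
      apply SemiconjBy.orderOf_eq g
      unfold SemiconjBy
      group
    apply mem_sylow_of_normalizes p P _ k hk'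
    exact Subgroup.centralizer_le_normalizer _ h2

end Cfsg.Agent.S3985
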