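import Cfsg.Statements.S3986
import Mathlib

set_option autoImplicit false
open Cfsg

namespace Cfsg.Agent.S3986

/-- a subgroup containing a Sylow `r`-subgroup for every prime `r` is everything -/
theorem eq_top_of_sylow_le {G : Type*} [Group G] [Finite G] (S : Subgroup G)
    (h : ∀ (r : ℕ) [Fact r.Prime], ∃ R : Sylow r G, (R : Subgroup G) ≤ S) : S = ⊤ := by
  apply Subgroup.eq_top_of_le_card
  apply Nat.le_of_dvd Nat.card_pos
  refine (Nat.dvd_iff_prime_pow_dvd_dvd _ _).2 fun r k hr hk => ?_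
  haveI : Fact r.Prime := ⟨hr⟩
  obtain ⟨R, hR⟩ := h r
  exact dvd_trans (R.pow_dvd_card_of_pow_dvd_card hk) (Subgroup.card_dvd_of_le hR)

theorem mem_sylow_of_normal {G : Type*} [Group G] [Finite G] (p : ℕ) [Fact p.Prime]
    (P : Sylow p G) (hP : (P : Subgroup G).Normal) (x : G) (a : ℕ) (hx : orderOf x = p ^ a) :
    x ∈ (P : Subgroup G) := by
  have hpg : IsPGroup p (Subgroup.zpowers x) := by
    apply IsPGroup.of_card (n := a)
    rw [Nat.card_zpowers, hx]
  obtain ⟨P', hP'⟩ := hpg.exists_le_sylow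
  haveI := Sylow.unique_of_normal P hP
  have : P' = P := Subsingleton.elim _ _
  rw [this] at hP'
  exact hP' (Subgroup.mem_zpowers x)

theorem forward {G : Type*} [Group G] [Finite G] (p : ℕ) [Fact p.Prime]
    (P : Sylow p G) (K : Subgroup G) (hP : (P : Subgroup G).Normal) (hK : K.Normal)
    (hdis : (P : Subgroup G) ⊓ K = ⊥) (hsup : (P : Subgroup G) ⊔ K = ⊤)
    (x y : G) (hx : ∃ a : ℕ, orderOf x = p ^ a)
    (hy : ∃ q b : ℕ, q.Prime ∧ q ≠ p ∧ orderOf y = q ^ b) : x * y = y * x := by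
  have hp : p.Prime := Fact.out
  obtain ⟨a, ha⟩ := hx
  obtain ⟨q, b, hq, hqp, hb⟩ := hy
  have hxP : x ∈ (P : Subgroup G) := mem_sylow_of_normal p P hP x a ha
  have hdisj : Disjoint (P : Subgroup G) K := disjoint_iff.2 hdis
  have hyK : y ∈ K := by
    have hy' : y ∈ (P : Subgroup G) ⊔ K := by rw [hsup]; exact Subgroup.mem_top y
    rw [← SetLike.mem_coe, Subgroup.mul_normal] at hy'
    obtain ⟨u, hu, k, hk, rfl⟩ := hy'
    have huk : Commute u k := Subgroup.commute_of_normal_of_disjoint _ _ hP hK hdisj u k hu hk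
    have h1 : (u * k) ^ (q ^ b) = 1 := by rw [← hb]; exact pow_orderOf_eq_one _
    rw [huk.mul_pow] at h1
    have h2 : u ^ (q ^ b) = (k ^ (q ^ b))⁻¹ := eq_inv_of_mul_eq_one_left h1
    have h3 : u ^ (q ^ b) ∈ (P : Subgroup G) ⊓ K :=
      ⟨Subgroup.pow_mem _ hu _, by rw [h2]; exact Subgroup.inv_mem _ (Subgroup.pow_mem _ hk _)⟩
    rw [hdis, Subgroup.mem_bot] at h3
    obtain ⟨c, hc⟩ := (IsPGroup.iff_orderOf.1 P.isPGroup') ⟨u, hu⟩
    rw [Subgroup.orderOf_mk] at hc
    have h4 : p ^ c ∣ q ^ b := by rw [← hc]; exact orderOf_dvd_of_pow_eq_one h3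
    have hc0 : c = 0 := by
      by_contra hc0
      have : p ∣ q ^ b := dvd_trans (dvd_pow_self p hc0) h4
      have := (Nat.prime_dvd_prime_iff_eq hp hq).1 (hp.dvd_of_dvd_pow this)
      exact hqp this.symm
    rw [hc0, pow_zero, orderOf_eq_one_iff] at hc
    subst hc
    simpa using hk
  exact Subgroup.commute_of_normal_of_disjoint _ _ hP hK hdisj x y hxP hyK

theorem backward {G : Type*} [Group G] [Finite G] (p : ℕ) [Fact p.Prime]
    (h : ∀ x y : G, (∃ a : ℕ, orderOf x = p ^ a) →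
      (∃ q b : ℕ, q.Prime ∧ q ≠ p ∧ orderOf y = q ^ b) → x * y = y * x) :
    ∃ (P : Sylow p G) (K : Subgroup G), (P : Subgroup G).Normal ∧ K.Normal ∧
      (P : Subgroup G) ⊓ K = ⊥ ∧ (P : Subgroup G) ⊔ K = ⊤ := by
  have hp : p.Prime := Fact.out
  obtain ⟨P⟩ : Nonempty (Sylow p G) := inferInstance
  have hPord : ∀ x ∈ (P : Subgroup G), ∃ a : ℕ, orderOf x = p ^ a := by
    intro x hx
    obtain ⟨c, hc⟩ := (IsPGroup.iff_orderOf.1 P.isPGroup') ⟨x, hx⟩
    rw [Subgroup.orderOf_mk] at hc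
    exact ⟨c, hc⟩
  -- P is normal
  have hN : Subgroup.normalizer ((P : Subgroup G) : Set G) = ⊤ := by
    apply eq_top_of_sylow_le
    intro r _
    by_cases hrp : r = p
    · subst hrp
      exact ⟨P, Subgroup.le_normalizer⟩
    · obtain ⟨R⟩ : Nonempty (Sylow r G) := inferInstance
      refine ⟨R, ?_⟩
      intro y hy
      obtain ⟨b, hb⟩ := (IsPGroup.iff_orderOf.1 R.isPGroup') ⟨y, hy⟩
      rw [Subgroup.orderOf_mk] at hb
      have hcent : y ∈ Subgroup.centralizer ((P : Subgroup G) : Set G) := by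
        rw [Subgroup.mem_centralizer_iff]
        intro x hx
        exact h x y (hPord x hx) ⟨r, b, Fact.out, hrp, hb⟩
      exact Subgroup.centralizer_le_normalizer _ hcent
  have hPn : (P : Subgroup G).Normal := Subgroup.normalizer_eq_top_iff.1 hN
  obtain ⟨K, hK⟩ := Subgroup.exists_right_complement'_of_coprime (N := (P : Subgroup G))
    P.card_coprime_index
  -- K centralizes P
  have hKcard : (Nat.card K).Coprime p := by
    have h1 : Nat.card K = (P : Subgroup G).index := hK.symm.index_eq_card.symm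
    rw [h1]
    exact (Nat.Prime.coprime_iff_not_dvd hp).2 P.not_dvd_index |>.symm
  have hKcent : K ≤ Subgroup.centralizer ((P : Subgroup G) : Set G) := by
    have htop : (Subgroup.centralizer ((P : Subgroup G) : Set G)).subgroupOf K = ⊤ := by
      apply eq_top_of_sylow_le
      intro r _
      obtain ⟨R⟩ : Nonempty (Sylow r K) := inferInstance
      refine ⟨R, ?_⟩
      intro y hy
      obtain ⟨b, hb⟩ := (IsPGroup.iff_orderOf.1 R.isPGroup') ⟨y, hy⟩
      rw [Subgroup.orderOf_mk] at hb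
      rw [Subgroup.mem_subgroupOf, Subgroup.mem_centralizer_iff]
      intro x hx
      by_cases hrp : r = p
      · subst hrp
        have h1 : orderOf y ∣ Nat.card K := orderOf_dvd_natCard y
        have h2 : orderOf y = 1 := by
          have : (orderOf y).Coprime (orderOf y) := by
            apply Nat.Coprime.coprime_dvd_left h1
            rw [hb]
            exact Nat.Coprime.pow_right _ hKcard
          exact (Nat.coprime_self _).1 this
        rw [orderOf_eq_one_iff] at h2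
        rw [h2]; simp
      · have hb' : orderOf (y : G) = r ^ b := by rw [Subgroup.orderOf_coe]; exact hb
        exact h x y (hPord x hx) ⟨r, b, Fact.out, hrp, hb'⟩
    intro k hk
    have : (⟨k, hk⟩ : K) ∈ (Subgroup.centralizer ((P : Subgroup G) : Set G)).subgroupOf K := by
      rw [htop]; exact Subgroup.mem_top _
    exact this
  have hsup : (P : Subgroup G) ⊔ K = ⊤ := hK.sup_eq_top
  have hKn : K.Normal := by
    constructor
    intro k hk g
    have hg : g ∈ (P : Subgroup G) ⊔ K := by rw [hsup]; exact Subgroup.mem_top g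
    rw [← SetLike.mem_coe, Subgroup.normal_mul] at hg
    obtain ⟨u, hu, k', hk', rfl⟩ := hg
    have hcomm : ∀ k₀ ∈ K, u * k₀ = k₀ * u := by
      intro k₀ hk₀
      have := hKcent hk₀
      rw [Subgroup.mem_centralizer_iff] at this
      exact this u hu
    have : u * k' * k * (u * k')⁻¹ = k' * k * k'⁻¹ := by
      have h1 := hcomm _ (K.mul_mem (K.mul_mem hk' hk) (K.inv_mem hk'))
      calc u * k' * k * (u * k')⁻¹ = u * (k' * k * k'⁻¹) * u⁻¹ := by group
        _ = k' * k * k'⁻¹ := by rw [h1]; group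
    rw [this]
    exact K.mul_mem (K.mul_mem hk' hk) (K.inv_mem hk')
  exact ⟨P, K, hPn, hKn, hK.disjoint.eq_bot, hsup⟩

theorem result {G : Type*} [Group G] [Finite G] (p : ℕ) [Fact p.Prime] : (∃ (P : Sylow p G) (K : Subgroup G), (P : Subgroup G).Normal ∧ K.Normal ∧ (P : Subgroup G) ⊓ K = ⊥ ∧ (P : Subgroup G) ⊔ K = ⊤) ↔ ∀ x y : G, (∃ a : ℕ, orderOf x = p ^ a) → (∃ q b : ℕ, q.Prime ∧ q ≠ p ∧ orderOf y = q ^ b) → x * y = y * x := by
  constructor
  · rintro ⟨P, K, hP, hK, hdis, hsup⟩ x y hx hy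
    exact forward p P K hP hK hdis hsup x y hx hy
  · exact backward p

end Cfsg.Agent.S3986
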