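import Cfsg.Statements.S3987
import Cfsg.Agent.S3986
import Cfsg.Agent.Lib.Helper22.Basic

set_option autoImplicit false
open Cfsg

namespace Cfsg.Agent.S3987

open Cfsg.Agent.Lib.Helper22

theorem index_eq_card_of_compl {G : Type*} [Group G] (P K : Subgroup G) [K.Normal]
    (hdis : P ⊓ K = ⊥) (hsup : P ⊔ K = ⊤) : K.index = Nat.card P := by
  have h1 : K.relIndex (P ⊔ K) = K.relIndex P := Subgroup.relIndex_sup_right P K
  rw [hsup, Subgroup.relIndex_top_right] at h1
  rw [h1, ← Subgroup.inf_relIndex_left, hdis, Subgroup.relIndex_bot_left]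

theorem exists_zpow_mul_eq {G : Type*} [Group G] {x y : G} (h : Commute x y)
    (hcop : (orderOf x).Coprime (orderOf y)) : ∃ k : ℤ, (x * y) ^ k = x := by
  set m := orderOf x with hm
  set n := orderOf y with hn
  have hbez : (1 : ℤ) = m * Nat.gcdA m n + n * Nat.gcdB m n := by
    have := Nat.gcd_eq_gcd_ab m n
    rw [hcop.gcd_eq_one] at this
    exact_mod_cast this
  refine ⟨n * Nat.gcdB m n, ?_⟩
  have h1 : (x * y) ^ (n : ℤ) = x ^ (n : ℤ) := by
    rw [h.mul_zpow, zpow_natCast y, hn, pow_orderOf_eq_one, mul_one]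
  rw [zpow_mul, h1, ← zpow_mul]
  have h2 : x ^ ((m : ℤ) * Nat.gcdA m n) = 1 := by
    rw [zpow_mul, zpow_natCast, hm, pow_orderOf_eq_one, one_zpow]
  calc x ^ ((n : ℤ) * Nat.gcdB m n) = x ^ ((m : ℤ) * Nat.gcdA m n) * x ^ ((n : ℤ) * Nat.gcdB m n) := by
        rw [h2, one_mul]
    _ = x ^ (1 : ℤ) := by rw [← zpow_add, ← hbez]
    _ = x := zpow_one x

theorem centralizer_mul_eq {G : Type*} [Group G] {x y : G} (h : Commute x y)
    (hcop : (orderOf x).Coprime (orderOf y)) :
    Subgroup.centralizer ({x * y} : Set G) =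
      Subgroup.centralizer ({x} : Set G) ⊓ Subgroup.centralizer ({y} : Set G) := by
  apply le_antisymm
  · intro g hg
    rw [Subgroup.mem_centralizer_singleton_iff] at hg
    have hg' : Commute g (x * y) := hg
    obtain ⟨k, hk⟩ := exists_zpow_mul_eq h hcop
    obtain ⟨l, hl⟩ := exists_zpow_mul_eq h.symm hcop.symm
    rw [h.symm.eq] at hl
    rw [Subgroup.mem_inf, Subgroup.mem_centralizer_singleton_iff,
      Subgroup.mem_centralizer_singleton_iff]
    refine ⟨?_, ?_⟩
    · have := hg'.zpow_right k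
      rw [hk] at this
      exact this
    · have := hg'.zpow_right l
      rw [hl] at this
      exact this
  · intro g hg
    rw [Subgroup.mem_inf, Subgroup.mem_centralizer_singleton_iff,
      Subgroup.mem_centralizer_singleton_iff] at hg
    rw [Subgroup.mem_centralizer_singleton_iff]
    have h1 : Commute g x := hg.1
    have h2 : Commute g y := hg.2
    exact (h1.mul_right h2)

theorem forward {G : Type*} [Group G] [Finite G] (p : ℕ) [Fact p.Prime]
    (P : Sylow p G) (K : Subgroup G) (hP : (P : Subgroup G).Normal) (hK : K.Normal)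
    (hdis : (P : Subgroup G) ⊓ K = ⊥) (hsup : (P : Subgroup G) ⊔ K = ⊤)
    (x y : G) (hx : ∃ a : ℕ, orderOf x = p ^ a)
    (hy : ∃ q b : ℕ, q.Prime ∧ q ≠ p ∧ orderOf y = q ^ b) :
    (Subgroup.centralizer ({x * y} : Set G)).index =
      (Subgroup.centralizer ({x} : Set G)).index * (Subgroup.centralizer ({y} : Set G)).index := by
  have hp : p.Prime := Fact.out
  have hcomm : ∀ x' y' : G, (∃ a : ℕ, orderOf x' = p ^ a) →
      (∃ q b : ℕ, q.Prime ∧ q ≠ p ∧ orderOf y' = q ^ b) → x' * y' = y' * x' :=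
    fun x' y' => Cfsg.Agent.S3986.forward p P K hP hK hdis hsup x' y'
  have hxy : Commute x y := hcomm x y hx hy
  have hx' := hx
  have hy' := hy
  obtain ⟨a, ha⟩ := hx
  obtain ⟨q, b, hq, hqp, hb⟩ := hy
  have hcop : (orderOf x).Coprime (orderOf y) := by
    rw [ha, hb]
    exact Nat.Coprime.pow _ _ ((Nat.coprime_primes hp hq).2 hqp.symm)
  rw [centralizer_mul_eq hxy hcop]
  set A := Subgroup.centralizer ({x} : Set G) with hA
  set B := Subgroup.centralizer ({y} : Set G) with hB
  -- K ≤ A, P ≤ B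
  have hxP : x ∈ (P : Subgroup G) := mem_sylow_of_normal p P hP x a ha
  have hdisj : Disjoint (P : Subgroup G) K := disjoint_iff.2 hdis
  have hKA : K ≤ A := by
    intro k hk
    rw [hA, Subgroup.mem_centralizer_singleton_iff]
    exact (Subgroup.commute_of_normal_of_disjoint _ _ hP hK hdisj x k hxP hk).symm.eq
  have hPB : (P : Subgroup G) ≤ B := by
    intro u hu
    rw [hB, Subgroup.mem_centralizer_singleton_iff]
    exact (hcomm u y (orderOf_of_mem_pgroup p _ P.isPGroup' u hu) hy')
  have hAidx : A.index ∣ Nat.card P := by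
    have := hK
    rw [← index_eq_card_of_compl (P : Subgroup G) K hdis hsup]
    exact Subgroup.index_dvd_of_le hKA
  have hBidx : B.index ∣ (P : Subgroup G).index := Subgroup.index_dvd_of_le hPB
  have hcopidx : A.index.Coprime B.index := by
    apply Nat.Coprime.coprime_dvd_left hAidx
    apply Nat.Coprime.coprime_dvd_right hBidx
    exact P.card_coprime_index
  apply le_antisymm (Subgroup.index_inf_le)
  apply Nat.le_of_dvd
  · exact Nat.pos_of_ne_zero (Subgroup.index_ne_zero_of_finite)
  · exact hcopidx.mul_dvd_of_dvd_of_dvd (Subgroup.index_dvd_of_le inf_le_left)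
      (Subgroup.index_dvd_of_le inf_le_right)

open Classical in
theorem backward {G : Type*} [Group G] [Finite G] (p : ℕ) [Fact p.Prime]
    (h : ∀ x y : G, (∃ a : ℕ, orderOf x = p ^ a) →
      (∃ q b : ℕ, q.Prime ∧ q ≠ p ∧ orderOf y = q ^ b) →
      (Subgroup.centralizer ({x * y} : Set G)).index =
        (Subgroup.centralizer ({x} : Set G)).index * (Subgroup.centralizer ({y} : Set G)).index)
    (x y : G) (hx : ∃ a : ℕ, orderOf x = p ^ a)
    (hy : ∃ q b : ℕ, q.Prime ∧ q ≠ p ∧ orderOf y = q ^ b) : x * y = y * x := by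
  haveI := Fintype.ofFinite G
  set cx : Finset G := {h : G | IsConj x h}.toFinset with hcx
  set cy : Finset G := {h : G | IsConj y h}.toFinset with hcy
  set cz : Finset G := {h : G | IsConj (x * y) h}.toFinset with hcz
  have hcardx : cx.card = (Subgroup.centralizer ({x} : Set G)).index := by
    rw [index_centralizer_eq_ncard_conj, Set.ncard_eq_toFinset_card']
  have hcardy : cy.card = (Subgroup.centralizer ({y} : Set G)).index := by
    rw [index_centralizer_eq_ncard_conj, Set.ncard_eq_toFinset_card']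
  have hcardz : cz.card = (Subgroup.centralizer ({x * y} : Set G)).index := by
    rw [index_centralizer_eq_ncard_conj, Set.ncard_eq_toFinset_card']
  set Φ : G × G → G := fun t => t.1 * t.2 with hΦ
  have hsub : cz ⊆ (cx ×ˢ cy).image Φ := by
    intro z hz
    rw [hcz, Set.mem_toFinset, Set.mem_ofPred_eq, isConj_iff] at hz
    obtain ⟨c, rfl⟩ := hz
    rw [Finset.mem_image]
    refine ⟨(c * x * c⁻¹, c * y * c⁻¹), ?_, ?_⟩
    · rw [Finset.mem_product]
      constructor
      · rw [hcx, Set.mem_toFinset]; exact isConj_iff.2 ⟨c, rfl⟩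
      · rw [hcy, Set.mem_toFinset]; exact isConj_iff.2 ⟨c, rfl⟩
    · simp only [hΦ]; group
  have hcard : ((cx ×ˢ cy).image Φ).card = (cx ×ˢ cy).card := by
    apply le_antisymm Finset.card_image_le
    rw [Finset.card_product, hcardx, hcardy, ← h x y hx hy, ← hcardz]
    exact Finset.card_le_card hsub
  have hinj := Finset.card_image_iff.1 hcard
  have h1 : (x, y) ∈ ((cx ×ˢ cy : Finset (G × G)) : Set (G × G)) := by
    rw [Finset.mem_coe, Finset.mem_product]
    constructor
    · rw [hcx, Set.mem_toFinset]; exact IsConj.refl x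
    · rw [hcy, Set.mem_toFinset]; exact IsConj.refl y
  have h2 : ((x * y) * x * (x * y)⁻¹, x * y * x⁻¹) ∈ ((cx ×ˢ cy : Finset (G × G)) : Set (G × G)) := by
    rw [Finset.mem_coe, Finset.mem_product]
    constructor
    · rw [hcx, Set.mem_toFinset]; exact isConj_iff.2 ⟨x * y, rfl⟩
    · rw [hcy, Set.mem_toFinset]; exact isConj_iff.2 ⟨x, rfl⟩
  have h3 : Φ (x, y) = Φ ((x * y) * x * (x * y)⁻¹, x * y * x⁻¹) := by
    simp only [hΦ]; group
  have h4 := hinj h1 h2 h3
  have h5 : y = x * y * x⁻¹ := (Prod.mk.inj h4).2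
  calc x * y = x * y * x⁻¹ * x := by group
    _ = y * x := by rw [← h5]

theorem result {G : Type*} [Group G] [Finite G] (p : ℕ) [Fact p.Prime] : (∃ (P : Sylow p G) (K : Subgroup G), (P : Subgroup G).Normal ∧ K.Normal ∧ (P : Subgroup G) ⊓ K = ⊥ ∧ (P : Subgroup G) ⊔ K = ⊤) ↔ ∀ x y : G, (∃ a : ℕ, orderOf x = p ^ a) → (∃ q b : ℕ, q.Prime ∧ q ≠ p ∧ orderOf y = q ^ b) → (Subgroup.centralizer ({x * y} : Set G)).index = (Subgroup.centralizer ({x} : Set G)).index * (Subgroup.centralizer ({y} : Set G)).index := by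
  constructor
  · rintro ⟨P, K, hP, hK, hdis, hsup⟩ x y hx hy
    exact forward p P K hP hK hdis hsup x y hx hy
  · intro h
    exact Cfsg.Agent.S3986.backward p (backward p h)

end Cfsg.Agent.S3987
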