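import Cfsg.Statements.S4155
import Mathlib
import Cfsg.Agent.Lib.Helper1.FpfAction
import Cfsg.Agent.Lib.Helper1.TwoGroupUnique
import Cfsg.Agent.Lib.Helper1.Fitting
import Cfsg.Agent.Lib.Helper22.Sylow
import Cfsg.Agent.Lib.Helper22.Basic
import Cfsg.Agent.S4153

set_option autoImplicit false
open Cfsg

namespace Cfsg.Agent.S4155

theorem cop_comm (H : Type*) [Group H] [hn : Group.IsNilpotent H] :
    ∀ (y a : H) (m n : ℕ), y ^ m = 1 → a ^ n = 1 → Nat.Coprime m n → y * a = a * y := by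
  refine Group.nilpotent_center_quotient_ind
    (P := fun H _ _ => ∀ (y a : H) (m n : ℕ), y ^ m = 1 → a ^ n = 1 → Nat.Coprime m n →
      y * a = a * y) H ?_ ?_
  · intro H _ _ y a m n _ _ _
    exact Subsingleton.elim _ _
  · intro H _ _ ih y a m n hy ha hmn
    have h1 := ih (QuotientGroup.mk y) (QuotientGroup.mk a) m n
      (by rw [← QuotientGroup.mk_pow, hy]; rfl) (by rw [← QuotientGroup.mk_pow, ha]; rfl) hmn
    have hz : y * a * y⁻¹ * a⁻¹ ∈ Subgroup.center H := by
      rw [← QuotientGroup.eq_one_iff]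
      simp only [QuotientGroup.mk_mul, QuotientGroup.mk_inv]
      rw [h1]
      group
    have hzc : ∀ g, g * (y * a * y⁻¹ * a⁻¹) = (y * a * y⁻¹ * a⁻¹) * g :=
      Subgroup.mem_center_iff.mp hz
    have hzn : (y * a * y⁻¹ * a⁻¹) ^ n = 1 := by
      have e1 : y * a * y⁻¹ = (y * a * y⁻¹ * a⁻¹) * a := by group
      have e2 : ((y * a * y⁻¹ * a⁻¹) * a) ^ n = (y * a * y⁻¹ * a⁻¹) ^ n * a ^ n :=
        Commute.mul_pow (hzc a).symm n
      have e3 : (y * a * y⁻¹) ^ n = 1 := by rw [conj_pow, ha]; group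
      rw [e1, e2, ha, mul_one] at e3
      exact e3
    have hzm : (y * a * y⁻¹ * a⁻¹) ^ m = 1 := by
      have e1 : y⁻¹ * (y * a * y⁻¹ * a⁻¹) = a * y⁻¹ * a⁻¹ := by group
      have e2 : (y⁻¹ * (y * a * y⁻¹ * a⁻¹)) ^ m = (y⁻¹) ^ m * (y * a * y⁻¹ * a⁻¹) ^ m :=
        Commute.mul_pow (hzc y⁻¹) m
      have e3 : (a * y⁻¹ * a⁻¹) ^ m = 1 := by rw [conj_pow, inv_pow, hy]; group
      rw [← e1, e2, inv_pow, hy, inv_one, one_mul] at e3
      exact e3
    have hz1 : y * a * y⁻¹ * a⁻¹ = 1 := by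
      have h1 := orderOf_dvd_of_pow_eq_one hzm
      have h2 := orderOf_dvd_of_pow_eq_one hzn
      have h3 := Nat.dvd_gcd h1 h2
      rw [hmn] at h3
      exact orderOf_eq_one_iff.mp (Nat.dvd_one.mp h3)
    have : y * a = (y * a * y⁻¹ * a⁻¹) * (a * y) := by group
    rw [this, hz1, one_mul]

theorem mem_zpowers_of_cyc {A : Type*} [Group A] [Finite A] [IsCyclic A] (r : ℕ) (hr : 0 < r)
    (x z : A) (hz : orderOf z = r) (hx : x ^ r = 1) : x ∈ Subgroup.zpowers z := by
  classical
  have : Fintype A := Fintype.ofFinite A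
  have h1 := IsCyclic.card_pow_eq_one_le (α := A) hr
  have hsub : (Subgroup.zpowers z : Set A) ⊆ {y : A | y ^ r = 1} := by
    intro y hy
    obtain ⟨k, rfl⟩ := Subgroup.mem_zpowers_iff.mp hy
    change (z ^ k) ^ r = 1
    rw [← zpow_natCast, ← zpow_mul, mul_comm, zpow_mul, zpow_natCast, ← hz, pow_orderOf_eq_one,
      one_zpow]
  have hcard : {y : A | y ^ r = 1}.ncard ≤ (Subgroup.zpowers z : Set A).ncard := by
    rw [Set.ncard_eq_toFinset_card', Set.toFinset_ofPred]
    have h2 : (Subgroup.zpowers z : Set A).ncard = r := by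
      rw [← Nat.card_coe_set_eq]
      change Nat.card (Subgroup.zpowers z) = r
      rw [Nat.card_zpowers, hz]
    rw [h2]
    exact h1
  have heq := Set.eq_of_subset_of_ncard_le hsub hcard (Set.toFinite _)
  have : x ∈ {y : A | y ^ r = 1} := hx
  rw [← heq] at this
  exact this

open scoped IsMulCommutative in
theorem unique_of_fpf {G' : Type*} [Group G'] [Finite G'] (R V : Subgroup G')
    [IsMulCommutative V] (hV : V ≠ ⊥) (hRV : R ≤ Subgroup.normalizer (V : Set G'))
    (hfpf : ∀ a ∈ R, a ≠ 1 → V ⊓ Subgroup.centralizer {a} = ⊥)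
    (r : ℕ) [hrf : Fact r.Prime] (hR : IsPGroup r R) :
    ∀ X Y : Subgroup R, Nat.card X = r → Nat.card Y = r → X = Y := by
  have hr : r.Prime := hrf.out
  by_cases hnt : Nontrivial R
  swap
  · intro X Y hX _
    exfalso
    rw [not_nontrivial_iff_subsingleton] at hnt
    have : Nat.card X = 1 := Nat.card_unique
    rw [this] at hX
    exact hr.one_lt.ne hX
  have hZnt := hR.center_nontrivial
  have hZp : IsPGroup r (Subgroup.center R) := hR.to_subgroup _
  obtain ⟨k, hk⟩ := IsPGroup.iff_card.mp hZp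
  have hk0 : k ≠ 0 := by
    rintro rfl
    rw [pow_zero] at hk
    have := Finite.one_lt_card_iff_nontrivial.mpr hZnt
    omega
  obtain ⟨z, hz⟩ := exists_prime_orderOf_dvd_card' (G := Subgroup.center R) r
    (hk ▸ dvd_pow_self r hk0)
  have hzG : orderOf ((z : R) : G') = r := by
    rw [Subgroup.orderOf_coe, Subgroup.orderOf_coe]; exact hz
  suffices h : ∀ X : Subgroup R, Nat.card X = r → X = Subgroup.zpowers (z : R) by
    intro X Y hX hY
    rw [h X hX, h Y hY]
  intro X hX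
  apply Subgroup.eq_of_le_of_card_ge
  · intro x hxX
    have hxr : x ^ r = 1 := by
      have h1 : (⟨x, hxX⟩ : X) ^ Nat.card X = 1 := pow_card_eq_one'
      rw [hX] at h1
      have := congrArg Subtype.val h1
      simpa using this
    have hxrG : (x : G') ^ r = 1 := by
      have := congrArg Subtype.val hxr
      simpa using this
    have hcomm : (x : G') * ((z : R) : G') = ((z : R) : G') * (x : G') := by
      have := (Subgroup.mem_center_iff.mp z.2) x
      exact congrArg Subtype.val this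
    have hAc : IsMulCommutative (Subgroup.closure ({(x : G'), ((z : R) : G')} : Set G')) := by
      apply Subgroup.isMulCommutative_closure
      intro a ha b hb
      rcases ha with rfl | rfl <;> rcases hb with rfl | rfl
      · rfl
      · exact hcomm
      · exact hcomm.symm
      · rfl
    have hAR : Subgroup.closure ({(x : G'), ((z : R) : G')} : Set G') ≤ R := by
      rw [Subgroup.closure_le]
      intro a ha
      rcases ha with rfl | rfl
      · exact x.2
      · exact (z : R).2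
    have hcyc : IsCyclic (Subgroup.closure ({(x : G'), ((z : R) : G')} : Set G')) :=
      Cfsg.Agent.Lib.Helper1.isCyclic_of_fpf_abelian _ V hV (hAR.trans hRV)
        (fun a ha => hfpf a (hAR ha))
    have hxA : (x : G') ∈ Subgroup.closure ({(x : G'), ((z : R) : G')} : Set G') :=
      Subgroup.subset_closure (by simp)
    have hzA : ((z : R) : G') ∈ Subgroup.closure ({(x : G'), ((z : R) : G')} : Set G') :=
      Subgroup.subset_closure (by simp)
    have h1 := mem_zpowers_of_cyc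
      (A := Subgroup.closure ({(x : G'), ((z : R) : G')} : Set G')) r hr.pos
      ⟨(x : G'), hxA⟩ ⟨((z : R) : G'), hzA⟩
      (by rw [← hzG]; exact (Subgroup.orderOf_mk _ hzA))
      (by apply Subtype.ext; simpa using hxrG)
    obtain ⟨j, hj⟩ := Subgroup.mem_zpowers_iff.mp h1
    refine Subgroup.mem_zpowers_iff.mpr ⟨j, ?_⟩
    apply Subtype.ext
    have := congrArg Subtype.val hj
    simpa using this
  · rw [hX, Nat.card_zpowers, Subgroup.orderOf_coe, hz]


theorem exists_other_prime (n : ℕ) (hn : 1 < n) (hnpp : ¬ IsPrimePow n) (q : ℕ) :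
    ∃ r : ℕ, r.Prime ∧ r ≠ q ∧ r ∣ n := by
  by_contra hcon
  push Not at hcon
  have hall : ∀ {d : ℕ}, d.Prime → d ∣ n → d = q := by
    intro d hd hdn
    by_contra hne
    exact hcon d hd hne hdn
  have h1 := Nat.eq_prime_pow_of_unique_prime_dvd (by omega : n ≠ 0) hall
  have hqp : q.Prime := by
    have h2 := Nat.minFac_prime (by omega : n ≠ 1)
    have h3 := hall h2 (Nat.minFac_dvd n)
    rw [← h3]; exact h2
  apply hnpp
  rw [isPrimePow_nat_iff]
  refine ⟨q, n.primeFactorsList.length, hqp, ?_, h1.symm⟩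
  rcases Nat.eq_zero_or_pos n.primeFactorsList.length with h0 | h0
  · rw [h0, pow_zero] at h1; omega
  · exact h0

theorem fpf_key {G : Type*} [Group G] [Finite G] (N : Subgroup G)
    (heq : ∀ x : G, x ∉ N → ∀ n ∈ N, orderOf (x * n) = orderOf x)
    (a v : G) (ha : a ∉ N) (hv : v ∈ N) (hcomm : a * v = v * a)
    (hcop : (orderOf a).Coprime (orderOf v)) : v = 1 := by
  have h1 := heq a ha v hv
  have h2 : orderOf (a * v) = orderOf a * orderOf v :=
    Commute.orderOf_mul_eq_mul_orderOf_of_coprime hcomm hcop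
  rw [h2] at h1
  have h3 : orderOf v = 1 := by
    have hpos : 0 < orderOf a := orderOf_pos a
    nlinarith
  exact orderOf_eq_one_iff.mp h3

theorem exists_central_prime {H : Type*} [Group H] [Finite H] (hnil : Group.IsNilpotent H)
    (r : ℕ) [hrf : Fact r.Prime] (hr : r ∣ Nat.card H) :
    ∃ z : H, z ∈ Subgroup.center H ∧ orderOf z = r := by
  have hrp : r.Prime := hrf.out
  have hsyl := ((Group.isNilpotent_of_finite_tfae (G := H)).out 0 3).mp hnil
  let P : Sylow r H := default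
  have hPn : (P : Subgroup H).Normal := hsyl r hrf P
  have hPne : (P : Subgroup H) ≠ ⊥ := P.ne_bot_of_dvd_card hr
  have hPnt : Nontrivial (P : Subgroup H) := (Subgroup.nontrivial_iff_ne_bot _).mpr hPne
  have hZnt := P.2.center_nontrivial
  have hZp : IsPGroup r (Subgroup.center (P : Subgroup H)) := P.2.to_subgroup _
  obtain ⟨k, hk⟩ := IsPGroup.iff_card.mp hZp
  have hk0 : k ≠ 0 := by
    rintro rfl
    rw [pow_zero] at hk
    have := Finite.one_lt_card_iff_nontrivial.mpr hZnt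
    omega
  obtain ⟨z, hz⟩ := exists_prime_orderOf_dvd_card' (G := Subgroup.center (P : Subgroup H)) r
    (hk ▸ dvd_pow_self r hk0)
  have hzH : orderOf (((z : (P : Subgroup H)) : H)) = r := by
    rw [Subgroup.orderOf_coe, Subgroup.orderOf_coe]; exact hz
  refine ⟨((z : (P : Subgroup H)) : H), ?_, hzH⟩
  rw [Subgroup.mem_center_iff]
  intro n
  obtain ⟨a, b, hab, -, ⟨j, hj⟩, hbcop, -, -⟩ := Cfsg.Agent.Lib.Helper22.exists_p_decomp r n
  have haP : a ∈ (P : Subgroup H) := Cfsg.Agent.Lib.Helper22.mem_sylow_of_normal r P hPn a j hj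
  have h1 : a * ((z : (P : Subgroup H)) : H) = ((z : (P : Subgroup H)) : H) * a := by
    have := (Subgroup.mem_center_iff.mp z.2) ⟨a, haP⟩
    exact congrArg Subtype.val this
  have h2 : b * ((z : (P : Subgroup H)) : H) = ((z : (P : Subgroup H)) : H) * b := by
    apply cop_comm H b _ (orderOf b) r (pow_orderOf_eq_one b)
    · have := pow_orderOf_eq_one (((z : (P : Subgroup H)) : H))
      rwa [hzH] at this
    · exact hbcop
  rw [hab, mul_assoc, h2, ← mul_assoc, h1, mul_assoc]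

theorem fitting_eq {G : Type*} [Group G] [Finite G] (N : Subgroup G) [N.Normal] (hN1 : N ≠ ⊥)
    (heq : ∀ x : G, x ∉ N → ∀ n ∈ N, orderOf (x * n) = orderOf x)
    (hnil : Group.IsNilpotent N) (hnpp : ¬ IsPrimePow (Nat.card N)) :
    N = Cfsg.fittingSubgroup G := by
  have hle : N ≤ Cfsg.fittingSubgroup G := le_sSup ⟨inferInstance, hnil⟩
  apply le_antisymm hle
  by_contra hcon
  obtain ⟨x, hxF, hxN⟩ := SetLike.not_le_iff_exists.mp hcon
  have hFnil : Group.IsNilpotent (Cfsg.fittingSubgroup G) :=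
    Cfsg.Agent.Lib.Helper1.fittingSubgroup_nilpotent
  have hN1' : 1 < Nat.card N := (Subgroup.one_lt_card_iff_ne_bot N).mpr hN1
  obtain ⟨r₁, hr₁, hr₁N⟩ := Nat.exists_prime_and_dvd (by omega : Nat.card N ≠ 1)
  have : Fact r₁.Prime := ⟨hr₁⟩
  obtain ⟨a, b, hab, -, ⟨j, hj⟩, hbcop, haz, hbz⟩ := Cfsg.Agent.Lib.Helper22.exists_p_decomp r₁ x
  have haF : a ∈ Cfsg.fittingSubgroup G :=
    (Subgroup.zpowers_le.mpr hxF) haz
  have hbF : b ∈ Cfsg.fittingSubgroup G :=
    (Subgroup.zpowers_le.mpr hxF) hbz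
  have key : ∀ (c v : G), c ∈ Cfsg.fittingSubgroup G → c ∉ N → v ∈ N →
      (orderOf c).Coprime (orderOf v) → v = 1 := by
    intro c v hcF hcN hvN hcop
    have hcomm : c * v = v * c := by
      have := cop_comm (Cfsg.fittingSubgroup G) ⟨c, hcF⟩ ⟨v, hle hvN⟩ (orderOf c) (orderOf v)
        (by apply Subtype.ext; simp [pow_orderOf_eq_one])
        (by apply Subtype.ext; simp [pow_orderOf_eq_one]) hcop
      exact congrArg Subtype.val this
    exact fpf_key N heq c v hcN hvN hcomm hcop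
  by_cases hbN : b ∈ N
  · have haN : a ∉ N := by
      intro haN
      apply hxN
      rw [hab]; exact N.mul_mem haN hbN
    obtain ⟨r₂, hr₂, hne, hr₂N⟩ := exists_other_prime _ hN1' hnpp r₁
    have : Fact r₂.Prime := ⟨hr₂⟩
    obtain ⟨v, hv⟩ := exists_prime_orderOf_dvd_card' (G := N) r₂ hr₂N
    have hv' : orderOf (v : G) = r₂ := by rw [Subgroup.orderOf_coe]; exact hv
    have := key a v haF haN v.2 (by
      rw [hj, hv']
      exact Nat.Coprime.pow_left j ((Nat.coprime_primes hr₁ hr₂).mpr (Ne.symm hne)))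
    rw [this, orderOf_one] at hv'
    exact hr₂.one_lt.ne hv'
  · obtain ⟨v, hv⟩ := exists_prime_orderOf_dvd_card' (G := N) r₁ hr₁N
    have hv' : orderOf (v : G) = r₁ := by rw [Subgroup.orderOf_coe]; exact hv
    have := key b v hbF hbN v.2 (by rw [hv']; exact hbcop)
    rw [this, orderOf_one] at hv'
    exact hr₁.one_lt.ne hv'


def cenTor {G : Type*} [Group G] (N : Subgroup G) (e : ℕ) : Subgroup G where
  carrier := {v | v ∈ N ∧ (∀ n ∈ N, n * v = v * n) ∧ v ^ e = 1}
  one_mem' := ⟨N.one_mem, fun n _ => by rw [mul_one, one_mul], one_pow e⟩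
  mul_mem' := by
    rintro v w ⟨hv, hvc, hve⟩ ⟨hw, hwc, hwe⟩
    refine ⟨N.mul_mem hv hw, fun n hn => ?_, ?_⟩
    · rw [← mul_assoc, hvc n hn, mul_assoc, hwc n hn, ← mul_assoc]
    · have hc : Commute v w := (hwc v hv)
      rw [hc.mul_pow, hve, hwe, one_mul]
  inv_mem' := by
    rintro v ⟨hv, hvc, hve⟩
    refine ⟨N.inv_mem hv, fun n hn => ?_, by rw [inv_pow, hve, inv_one]⟩
    have := hvc n hn
    calc n * v⁻¹ = v⁻¹ * (v * n) * v⁻¹ := by group
      _ = v⁻¹ * (n * v) * v⁻¹ := by rw [this]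
      _ = v⁻¹ * n := by group

theorem cenTor_normal {G : Type*} [Group G] (N : Subgroup G) [hN : N.Normal] (e : ℕ) :
    (cenTor N e).Normal := by
  constructor
  rintro v ⟨hv, hvc, hve⟩ g
  refine ⟨hN.conj_mem v hv g, fun n hn => ?_, by rw [conj_pow, hve]; group⟩
  have h1 : g⁻¹ * n * g ∈ N := by
    have := hN.conj_mem n hn g⁻¹
    rwa [inv_inv] at this
  have h2 := hvc _ h1
  calc n * (g * v * g⁻¹) = g * ((g⁻¹ * n * g) * v) * g⁻¹ := by group
    _ = g * (v * (g⁻¹ * n * g)) * g⁻¹ := by rw [h2]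
    _ = g * v * g⁻¹ * n := by group

theorem sylow_part {G : Type*} [Group G] [Finite G] (N : Subgroup G) [hNn : N.Normal]
    (hN1 : N ≠ ⊥)
    (heq : ∀ x : G, x ∉ N → ∀ n ∈ N, orderOf (x * n) = orderOf x)
    (hnil : Group.IsNilpotent N) (hnpp : ¬ IsPrimePow (Nat.card N))
    (q : ℕ) [hqf : Fact q.Prime] (Q : Sylow q (G ⧸ N)) :
    IsCyclic (Q : Subgroup (G ⧸ N)) ∨
      ∃ n : ℕ, Nonempty ((Q : Subgroup (G ⧸ N)) ≃* QuaternionGroup (2 ^ n)) := by
  classical
  have hq : q.Prime := hqf.out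
  have hN1' : 1 < Nat.card N := (Subgroup.one_lt_card_iff_ne_bot N).mpr hN1
  obtain ⟨r, hr, hrq, hrN⟩ := exists_other_prime _ hN1' hnpp q
  have hrf : Fact r.Prime := ⟨hr⟩
  let e : ℕ := r ^ Nat.card G
  let V : Subgroup G := cenTor N e
  have hVn : V.Normal := cenTor_normal N e
  have hVN : V ≤ N := fun v hv => hv.1
  have hVc : ∀ v ∈ V, ∀ n ∈ N, n * v = v * n := fun v hv => hv.2.1
  have hVe : ∀ v ∈ V, v ^ e = 1 := fun v hv => hv.2.2
  have hVne : V ≠ ⊥ := by
    obtain ⟨z, hzc, hzo⟩ := exists_central_prime (H := N) hnil r hrN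
    have hz1 : (z : G) ≠ 1 := by
      intro h
      have : z = 1 := Subtype.ext h
      rw [this, orderOf_one] at hzo
      exact hr.one_lt.ne hzo
    intro hbot
    apply hz1
    have hzV : (z : G) ∈ V := by
      refine ⟨z.2, fun n hn => ?_, ?_⟩
      · have := (Subgroup.mem_center_iff.mp hzc) ⟨n, hn⟩
        exact congrArg Subtype.val this
      · have h1 : orderOf (z : G) = r := by rw [Subgroup.orderOf_coe]; exact hzo
        apply orderOf_dvd_iff_pow_eq_one.mp
        rw [h1]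
        exact dvd_pow_self r Nat.card_pos.ne'
    rw [hbot] at hzV
    exact Subgroup.mem_bot.mp hzV
  let ψ : G →* MulAut V := MulAut.conjNormal
  have hψ : ∀ n ∈ N, ψ n = 1 := by
    intro n hn
    ext v
    rw [MulAut.conjNormal_apply, MulAut.one_apply, hVc v v.2 n hn, mul_inv_cancel_right]
  let φ : G ⧸ N →* MulAut V := QuotientGroup.lift N ψ hψ
  have hfin : Finite (V ⋊[φ] (G ⧸ N)) := Finite.of_equiv _ SemidirectProduct.equivProd.symm
  let V' : Subgroup (V ⋊[φ] (G ⧸ N)) := (SemidirectProduct.inl : V →* V ⋊[φ] (G ⧸ N)).range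
  let R' : Subgroup (V ⋊[φ] (G ⧸ N)) :=
    (Q : Subgroup (G ⧸ N)).map (SemidirectProduct.inr : G ⧸ N →* V ⋊[φ] (G ⧸ N))
  have hV'c : IsMulCommutative V' := by
    refine ⟨⟨?_⟩⟩
    rintro ⟨_, ⟨v, rfl⟩⟩ ⟨_, ⟨w, rfl⟩⟩
    apply Subtype.ext
    change SemidirectProduct.inl v * SemidirectProduct.inl w =
      SemidirectProduct.inl w * SemidirectProduct.inl v
    rw [← map_mul, ← map_mul]
    congr 1
    apply Subtype.ext
    exact (hVc (w : G) w.2 (v : G) (hVN v.2))
  have hV'ne : V' ≠ ⊥ := by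
    intro hbot
    apply hVne
    rw [eq_bot_iff]
    intro v hv
    have h1 : (SemidirectProduct.inl (⟨v, hv⟩ : V) : V ⋊[φ] (G ⧸ N)) ∈ V' := ⟨_, rfl⟩
    rw [hbot, Subgroup.mem_bot] at h1
    have h2 : (⟨v, hv⟩ : V) = 1 := SemidirectProduct.inl_injective (by rw [h1, map_one])
    exact Subgroup.mem_bot.mpr (congrArg Subtype.val h2)
  have hV'n : V'.Normal := by
    have : V' = (SemidirectProduct.rightHom : V ⋊[φ] (G ⧸ N) →* G ⧸ N).ker :=
      SemidirectProduct.range_inl_eq_ker_rightHom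
    rw [this]
    infer_instance
  have hRV : R' ≤ Subgroup.normalizer (V' : Set (V ⋊[φ] (G ⧸ N))) := by
    rw [Subgroup.normalizer_eq_top]
    exact le_top
  have hfpf : ∀ a ∈ R', a ≠ 1 → V' ⊓ Subgroup.centralizer {a} = ⊥ := by
    rintro _ ⟨ā, hāQ, rfl⟩ hne
    rw [eq_bot_iff]
    rintro _ ⟨⟨v, rfl⟩, hc⟩
    rw [Subgroup.mem_bot]
    have hā1 : ā ≠ 1 := by
      rintro rfl
      exact hne (map_one _)
    obtain ⟨k, hk⟩ := Cfsg.Agent.Lib.Helper22.orderOf_of_mem_pgroup q (Q : Subgroup (G ⧸ N)) Q.2 ā hāQ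
    obtain ⟨a, ⟨l, hl⟩, ha⟩ := Cfsg.Agent.S4153.exists_plift q N ā k hk
    have haN : a ∉ N := by
      intro haN
      apply hā1
      rw [← ha]
      exact (QuotientGroup.eq_one_iff a).mpr haN
    have hc' := Subgroup.mem_centralizer_singleton_iff.mp hc
    have h1 : (SemidirectProduct.inl (φ ā v) : V ⋊[φ] (G ⧸ N)) = SemidirectProduct.inl v := by
      rw [SemidirectProduct.inl_aut]
      rw [map_inv]
      calc SemidirectProduct.inr ā * SemidirectProduct.inl v * (SemidirectProduct.inr ā)⁻¹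
          = (SemidirectProduct.inl v * SemidirectProduct.inr ā) * (SemidirectProduct.inr ā)⁻¹ := by
            rw [hc']
        _ = SemidirectProduct.inl v := by group
    have h2 : φ ā v = v := SemidirectProduct.inl_injective h1
    have h3 : a * (v : G) * a⁻¹ = (v : G) := by
      have : φ ā v = ψ a v := by
        rw [← ha]
        rfl
      rw [this] at h2
      have := congrArg Subtype.val h2
      rwa [MulAut.conjNormal_apply] at this
    have hcomm : a * (v : G) = (v : G) * a := by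
      calc a * (v : G) = (a * (v : G) * a⁻¹) * a := by group
        _ = (v : G) * a := by rw [h3]
    have hcop : (orderOf a).Coprime (orderOf (v : G)) := by
      have hvo : orderOf (v : G) ∣ r ^ Nat.card G := orderOf_dvd_of_pow_eq_one (hVe v v.2)
      rw [hl]
      apply Nat.Coprime.coprime_dvd_right hvo
      exact Nat.Coprime.pow _ _ ((Nat.coprime_primes hq hr).mpr (Ne.symm hrq))
    have hv1 : (v : G) = 1 := fpf_key N heq a v haN (hVN v.2) hcomm hcop
    have : v = 1 := Subtype.ext hv1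
    rw [this, map_one]
  have hR'p : IsPGroup q R' := Q.2.map _
  have huniq := unique_of_fpf R' V' hV'ne hRV hfpf q hR'p
  let ι : (Q : Subgroup (G ⧸ N)) ≃* R' :=
    Subgroup.equivMapOfInjective (Q : Subgroup (G ⧸ N)) _ SemidirectProduct.inr_injective
  by_cases hq2 : q = 2
  · subst hq2
    rcases Cfsg.Agent.Lib.Helper1.cyclic_or_quaternion_of_unique (P := R') hR'p huniq with hc | ⟨n, ⟨f⟩⟩
    · left
      exact isCyclic_of_surjective ι.symm ι.symm.surjective
    · right
      exact ⟨n, ⟨ι.trans f⟩⟩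
  · left
    have hc : IsCyclic R' :=
      Cfsg.Agent.Lib.Helper29.isCyclic_of_unique_subgroup_odd q hq2 hR'p huniq
    exact isCyclic_of_surjective ι.symm ι.symm.surjective

theorem result {G : Type*} [Group G] [Finite G] (N : Subgroup G) [N.Normal] (hN1 : N ≠ ⊥) (hN2 : N ≠ ⊤)
    (heq : ∀ x : G, x ∉ N → ∀ n ∈ N, orderOf (x * n) = orderOf x)
    (hnil : Group.IsNilpotent N) (hnpp : ¬ IsPrimePow (Nat.card N)) :
    N = Cfsg.fittingSubgroup G ∧
    ∀ (q : ℕ) [Fact q.Prime] (Q : Sylow q (G ⧸ N)), IsCyclic (Q : Subgroup (G ⧸ N)) ∨ ∃ n : ℕ, Nonempty ((Q : Subgroup (G ⧸ N)) ≃* QuaternionGroup (2 ^ n)) := by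
  refine ⟨fitting_eq N hN1 heq hnil hnpp, ?_⟩
  intro q _ Q
  exact sylow_part N hN1 heq hnil hnpp q Q

end Cfsg.Agent.S4155
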