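import Cfsg.Statements.S3992
import Mathlib
import Cfsg.Agent.Lib.Helper1.FpfAction
import Cfsg.Agent.Lib.Helper1.Hall
import Cfsg.Agent.Lib.Helper1.MinNormal
import Cfsg.Agent.Lib.Helper22.SchurZassenhaus
import Cfsg.Agent.S4155
import Cfsg.Agent.S0721

set_option autoImplicit false
open Cfsg

namespace Cfsg.Agent.S3992

def EPPO (G : Type*) [Group G] : Prop := ∀ g : G, g ≠ 1 → IsPrimePow (orderOf g)

theorem not_isPrimePow_mul_coprime {a b : ℕ} (ha : 1 < a) (hb : 1 < b) (hab : a.Coprime b) :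
    ¬ IsPrimePow (a * b) := by
  intro h
  have h1 := (Nat.Coprime.isPrimePow_dvd_mul hab h).mp dvd_rfl
  rcases h1 with h1 | h1
  · have := Nat.le_of_dvd (by omega) h1
    nlinarith
  · have := Nat.le_of_dvd (by omega) h1
    nlinarith

theorem no_mixed {G : Type*} [Group G] [Finite G] (h : EPPO G) (x y : G) (hc : Commute x y)
    (hx : x ≠ 1) (hy : y ≠ 1) (hcop : (orderOf x).Coprime (orderOf y)) : False := by
  have h1 : orderOf (x * y) = orderOf x * orderOf y :=
    Commute.orderOf_mul_eq_mul_orderOf_of_coprime hc hcop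
  have hox : 1 < orderOf x := by
    have := orderOf_pos x
    have : orderOf x ≠ 1 := fun e => hx (orderOf_eq_one_iff.mp e)
    omega
  have hoy : 1 < orderOf y := by
    have := orderOf_pos y
    have : orderOf y ≠ 1 := fun e => hy (orderOf_eq_one_iff.mp e)
    omega
  have hxy : x * y ≠ 1 := by
    intro e
    rw [e, orderOf_one] at h1
    nlinarith
  have := h (x * y) hxy
  rw [h1] at this
  exact not_isPrimePow_mul_coprime hox hoy hcop this

theorem eppo_subgroup {G : Type*} [Group G] (h : EPPO G) (H : Subgroup G) : EPPO H := by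
  intro g hg
  have := h (g : G) (fun e => hg (Subtype.ext e))
  rwa [Subgroup.orderOf_coe] at this

theorem fpf_of_eppo {G : Type*} [Group G] [Finite G] (h : EPPO G) (V : Subgroup G) (p : ℕ)
    (hp : p.Prime) (hV : ∀ v ∈ V, ∃ k : ℕ, orderOf v = p ^ k) (a : G) (ha : a ≠ 1)
    (hcop : (orderOf a).Coprime p) : V ⊓ Subgroup.centralizer {a} = ⊥ := by
  rw [eq_bot_iff]
  rintro v ⟨hvV, hvc⟩
  rw [Subgroup.mem_bot]
  by_contra hv1
  obtain ⟨k, hk⟩ := hV v hvV
  have hvc' : v ∈ Subgroup.centralizer ({a} : Set G) := hvc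
  have hc : Commute a v := (Subgroup.mem_centralizer_singleton_iff.mp hvc').symm
  exact no_mixed h a v hc ha hv1 (by rw [hk]; exact Nat.Coprime.pow_right k hcop)


theorem hall_split (N q r : ℕ) (hN : N ≠ 0) (hq : q.Prime) (hr : r.Prime) (hqr : q ≠ r)
    (hqN : q ∣ N) (hrN : r ∣ N) :
    ∃ a b n : ℕ, 0 < a ∧ 0 < b ∧ N = (q ^ a * r ^ b) * n ∧ (q ^ a * r ^ b).Coprime n := by
  obtain ⟨a, N₁, hqN₁, hN₁⟩ := Nat.exists_eq_pow_mul_and_not_dvd hN q hq.ne_one
  have hN₁0 : N₁ ≠ 0 := by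
    rintro rfl
    rw [mul_zero] at hN₁
    exact hN hN₁
  obtain ⟨b, n, hrn, hn⟩ := Nat.exists_eq_pow_mul_and_not_dvd hN₁0 r hr.ne_one
  have ha : 0 < a := by
    rcases Nat.eq_zero_or_pos a with h0 | h0
    · exfalso
      rw [h0, pow_zero, one_mul] at hN₁
      exact hqN₁ (hN₁ ▸ hqN)
    · exact h0
  have hrN₁ : r ∣ N₁ := by
    have h1 : r ∣ q ^ a * N₁ := hN₁ ▸ hrN
    have h2 : Nat.Coprime r (q ^ a) :=
      Nat.Coprime.pow_right _ ((Nat.coprime_primes hr hq).mpr (Ne.symm hqr))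
    exact h2.dvd_of_dvd_mul_left h1
  have hb : 0 < b := by
    rcases Nat.eq_zero_or_pos b with h0 | h0
    · exfalso
      rw [h0, pow_zero, one_mul] at hn
      exact hrn (hn ▸ hrN₁)
    · exact h0
  refine ⟨a, b, n, ha, hb, ?_, ?_⟩
  · rw [hN₁, hn, mul_assoc]
  · apply Nat.Coprime.mul_left
    · apply Nat.Coprime.pow_left
      apply (Nat.Prime.coprime_iff_not_dvd hq).mpr
      intro h1
      exact hqN₁ (hn ▸ dvd_mul_of_dvd_right h1 _)
    · apply Nat.Coprime.pow_left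
      exact (Nat.Prime.coprime_iff_not_dvd hr).mpr hrn

open scoped IsMulCommutative in
theorem higman_aux {H : Type*} [Group H] [Finite H] [Group.IsSolvable H] (h : EPPO H)
    (V : Subgroup H) [hVn : V.Normal] (hVab : IsMulCommutative V) (p : ℕ) (hp : p.Prime)
    (hexp : ∀ x ∈ V, x ^ p = 1) (hVbot : V ≠ ⊥)
    (q r : ℕ) (hq : q.Prime) (hr : r.Prime) (hqr : q ≠ r) (hqp : q ≠ p) (hrp : r ≠ p)
    (hqH : q ∣ Nat.card H) (hrH : r ∣ Nat.card H) : False := by
  have hN0 : Nat.card H ≠ 0 := Nat.card_pos.ne'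
  obtain ⟨aa, bb, n, ha1, hb1, hmn, hcop⟩ := hall_split (Nat.card H) q r hN0 hq hr hqr hqH hrH
  obtain ⟨B, hB⟩ := Cfsg.Agent.Lib.Helper1.hall_exists _ n hmn hcop
  have hqB : q ∣ Nat.card B := by
    rw [hB]; exact dvd_mul_of_dvd_left (dvd_pow_self q ha1.ne') _
  have hrB : r ∣ Nat.card B := by
    rw [hB]; exact dvd_mul_of_dvd_right (dvd_pow_self r hb1.ne') _
  have hprimeB : ∀ s : ℕ, s.Prime → s ∣ Nat.card B → s = q ∨ s = r := by
    intro s hs hsB
    rw [hB] at hsB
    rcases (Nat.Prime.dvd_mul hs).mp hsB with h1 | h1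
    · left; exact (Nat.prime_dvd_prime_iff_eq hs hq).mp (hs.dvd_of_dvd_pow h1)
    · right; exact (Nat.prime_dvd_prime_iff_eq hs hr).mp (hs.dvd_of_dvd_pow h1)
  have hBelt : ∀ x ∈ B, x ≠ 1 → (orderOf x).Coprime p := by
    intro x hxB hx1
    obtain ⟨s, k, hs, hk, hsk⟩ := (isPrimePow_nat_iff _).mp (h x hx1)
    have hs' : s.Prime := hs
    have h1 : s ∣ Nat.card B := by
      have h2 : orderOf x ∣ Nat.card B := Subgroup.orderOf_dvd_natCard B hxB
      exact dvd_trans (hsk ▸ dvd_pow_self s hk.ne') h2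
    rw [← hsk]
    apply Nat.Coprime.pow_left
    rcases hprimeB s hs' h1 with e | e
    · rw [e]; exact (Nat.coprime_primes hq hp).mpr hqp
    · rw [e]; exact (Nat.coprime_primes hr hp).mpr hrp
  have hVelt : ∀ v ∈ V, ∃ k : ℕ, orderOf v = p ^ k := by
    intro v hv
    have h1 := orderOf_dvd_of_pow_eq_one (hexp v hv)
    rcases (Nat.dvd_prime hp).mp h1 with e | e
    · exact ⟨0, by rw [e, pow_zero]⟩
    · exact ⟨1, by rw [e, pow_one]⟩
  have hfpfB : ∀ b ∈ B, b ≠ 1 → V ⊓ Subgroup.centralizer {b} = ⊥ := fun b hb hb1 =>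
    fpf_of_eppo h V p hp hVelt b hb1 (hBelt b hb hb1)
  have hnormV : ∀ A : Subgroup H, A ≤ Subgroup.normalizer (V : Set H) := by
    intro A
    rw [Subgroup.normalizer_eq_top]
    exact le_top
  have hBnt : Nontrivial B := by
    rw [← Finite.one_lt_card_iff_nontrivial]
    exact lt_of_lt_of_le hq.one_lt (Nat.le_of_dvd Nat.card_pos hqB)
  obtain ⟨Q₀, hQn, hQbot, hQmin⟩ := Cfsg.Agent.Lib.Helper1.exists_minimal_normal (G := B)
  have := hQn
  obtain ⟨hQab, s, hs, hsexp⟩ := Cfsg.Agent.Lib.Helper1.minimal_normal_of_solvable Q₀ hQbot hQmin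
  have hsf : Fact s.Prime := ⟨hs⟩
  obtain ⟨x₀, hx₀Q, hx₀1⟩ : ∃ x ∈ Q₀, x ≠ 1 := by
    by_contra hcon
    push Not at hcon
    exact hQbot (eq_bot_iff.mpr (fun x hx => Subgroup.mem_bot.mpr (hcon x hx)))
  have hx₀o : orderOf x₀ = s := orderOf_eq_prime (hsexp x₀ hx₀Q) hx₀1
  have hsB : s ∣ Nat.card B := hx₀o ▸ orderOf_dvd_natCard x₀
  obtain ⟨t, ht, hts, htB⟩ : ∃ t : ℕ, t.Prime ∧ t ≠ s ∧ t ∣ Nat.card B := by
    rcases hprimeB s hs hsB with e | e
    · exact ⟨r, hr, fun e' => hqr (e'.trans e).symm, hrB⟩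
    · exact ⟨q, hq, fun e' => hqr (e'.trans e), hqB⟩
  have htf : Fact t.Prime := ⟨ht⟩
  have hQ'c : IsMulCommutative (Q₀.map B.subtype) := inferInstance
  have hQ'cyc : IsCyclic (Q₀.map B.subtype) :=
    Cfsg.Agent.Lib.Helper1.isCyclic_of_fpf_abelian (Q₀.map B.subtype) V hVbot (hnormV _)
      (fun a ha => hfpfB a (Subgroup.map_subtype_le Q₀ ha))
  have hQ₀cyc : IsCyclic Q₀ :=
    (MulEquiv.isCyclic (Q₀.equivMapOfInjective B.subtype B.subtype_injective)).mpr hQ'cyc
  have hQ₀card : Nat.card Q₀ = s := by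
    obtain ⟨g, hg⟩ := IsCyclic.exists_ofOrder_eq_natCard (α := Q₀)
    rw [← hg]
    have hgs : g ^ s = 1 := by
      apply Subtype.ext
      have := hsexp (g : B) g.2
      simpa using this
    have hg1 : g ≠ 1 := by
      rintro rfl
      rw [orderOf_one] at hg
      have : Nontrivial Q₀ := (Subgroup.nontrivial_iff_ne_bot _).mpr hQbot
      have := Finite.one_lt_card_iff_nontrivial.mpr this
      omega
    exact orderOf_eq_prime hgs hg1
  obtain ⟨y, hy⟩ := exists_prime_orderOf_dvd_card' (G := B) t htB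
  have hD₀card : Nat.card (Q₀ ⊔ Subgroup.zpowers y : Subgroup B) = s * t := by
    rw [Cfsg.Agent.Lib.Helper22.card_sup_of_coprime Q₀ (Subgroup.zpowers y)
      (by rw [hQ₀card, Nat.card_zpowers, hy]; exact (Nat.coprime_primes hs ht).mpr (Ne.symm hts)),
      hQ₀card, Nat.card_zpowers, hy]
  have hDcard : Nat.card ((Q₀ ⊔ Subgroup.zpowers y : Subgroup B).map B.subtype) = s * t := by
    rw [← hD₀card]
    exact (Nat.card_congr ((Q₀ ⊔ Subgroup.zpowers y : Subgroup B).equivMapOfInjective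
      B.subtype B.subtype_injective).toEquiv).symm
  have hDcyc : IsCyclic ((Q₀ ⊔ Subgroup.zpowers y : Subgroup B).map B.subtype) :=
    Cfsg.Agent.Lib.Helper1.isCyclic_of_fpf_pq _ V hVbot (hnormV _)
      (fun a ha => hfpfB a (Subgroup.map_subtype_le _ ha)) s t hs ht hDcard
  obtain ⟨g, hg⟩ := IsCyclic.exists_ofOrder_eq_natCard
    (α := ((Q₀ ⊔ Subgroup.zpowers y : Subgroup B).map B.subtype))
  rw [hDcard] at hg
  have hg1 : g ≠ 1 := by
    rintro rfl
    rw [orderOf_one] at hg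
    have := hs.one_lt
    have := ht.one_lt
    nlinarith
  have := eppo_subgroup h _ g hg1
  rw [hg] at this
  exact not_isPrimePow_mul_coprime hs.one_lt ht.one_lt
    ((Nat.coprime_primes hs ht).mpr (Ne.symm hts)) this

theorem higman {H : Type*} [Group H] [Finite H] [Group.IsSolvable H] (h : EPPO H) :
    (Nat.card H).primeFactors.card ≤ 2 := by
  by_contra hcon
  push Not at hcon
  obtain ⟨a, b, c, ha, hb, hc, hab, hac, hbc⟩ := Finset.two_lt_card_iff.mp hcon
  have ha' := Nat.mem_primeFactors.mp ha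
  have hb' := Nat.mem_primeFactors.mp hb
  have hc' := Nat.mem_primeFactors.mp hc
  have hnt : Nontrivial H := by
    rw [← Finite.one_lt_card_iff_nontrivial]
    exact lt_of_lt_of_le ha'.1.one_lt (Nat.le_of_dvd Nat.card_pos ha'.2.1)
  obtain ⟨V, hVn, hVbot, hVmin⟩ := Cfsg.Agent.Lib.Helper1.exists_minimal_normal (G := H)
  have := hVn
  obtain ⟨hVab, p, hp, hexp⟩ := Cfsg.Agent.Lib.Helper1.minimal_normal_of_solvable V hVbot hVmin
  obtain ⟨q, r, hq, hr, hqr, hqp, hrp, hqH, hrH⟩ : ∃ q r : ℕ, q.Prime ∧ r.Prime ∧ q ≠ r ∧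
      q ≠ p ∧ r ≠ p ∧ q ∣ Nat.card H ∧ r ∣ Nat.card H := by
    by_cases h1 : a = p
    · exact ⟨b, c, hb'.1, hc'.1, hbc, fun e => hab (h1.trans e.symm),
        fun e => hac (h1.trans e.symm), hb'.2.1, hc'.2.1⟩
    · by_cases h2 : b = p
      · exact ⟨a, c, ha'.1, hc'.1, hac, h1, fun e => hbc (h2.trans e.symm), ha'.2.1, hc'.2.1⟩
      · exact ⟨a, b, ha'.1, hb'.1, hab, h1, h2, ha'.2.1, hb'.2.1⟩
  exact higman_aux h V hVab p hp hexp hVbot q r hq hr hqr hqp hrp hqH hrH


theorem pelement_of_commute {G : Type*} [Group G] [Finite G] (h : EPPO G) (q : ℕ) (hq : q.Prime)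
    (y : G) (hy : orderOf y = q) (a : G) (hc : Commute a y) : ∃ k : ℕ, orderOf a = q ^ k := by
  by_cases ha1 : a = 1
  · exact ⟨0, by rw [ha1, orderOf_one, pow_zero]⟩
  obtain ⟨s, k, hs, hk, hsk⟩ := (isPrimePow_nat_iff _).mp (h a ha1)
  by_cases hsq : s = q
  · exact ⟨k, by rw [← hsk, hsq]⟩
  · exfalso
    have hy1 : y ≠ 1 := by
      rintro rfl
      rw [orderOf_one] at hy
      exact hq.one_lt.ne hy
    apply no_mixed h a y hc ha1 hy1
    rw [← hsk, hy]
    exact Nat.Coprime.pow_left k ((Nat.coprime_primes hs hq).mpr hsq)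

theorem solvable_normalizer_zpowers {G : Type*} [Group G] [Finite G] (h : EPPO G) (q : ℕ)
    (hq : q.Prime) (y : G) (hy : orderOf y = q) :
    Group.IsSolvable (Subgroup.normalizer ((Subgroup.zpowers y : Subgroup G) : Set G)) := by
  have hqf : Fact q.Prime := ⟨hq⟩
  let f := (Subgroup.zpowers y).normalizerMonoidHom
  have hker : IsPGroup q f.ker := by
    rw [IsPGroup.iff_orderOf]
    intro a
    have ha : f (a : Subgroup.normalizer ((Subgroup.zpowers y : Subgroup G) : Set G)) = 1 := a.2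
    have h1 : f (a : Subgroup.normalizer ((Subgroup.zpowers y : Subgroup G) : Set G))
        ⟨y, Subgroup.mem_zpowers y⟩ = ⟨y, Subgroup.mem_zpowers y⟩ := by rw [ha]; rfl
    have h2 : ((a : Subgroup.normalizer ((Subgroup.zpowers y : Subgroup G) : Set G)) : G) * y *
        ((a : Subgroup.normalizer ((Subgroup.zpowers y : Subgroup G) : Set G)) : G)⁻¹ = y :=
      congrArg Subtype.val h1
    have hc : Commute ((a : Subgroup.normalizer ((Subgroup.zpowers y : Subgroup G) : Set G)) : G) y := by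
      have : ((a : Subgroup.normalizer ((Subgroup.zpowers y : Subgroup G) : Set G)) : G) * y =
          (((a : Subgroup.normalizer ((Subgroup.zpowers y : Subgroup G) : Set G)) : G) * y *
          ((a : Subgroup.normalizer ((Subgroup.zpowers y : Subgroup G) : Set G)) : G)⁻¹) *
          ((a : Subgroup.normalizer ((Subgroup.zpowers y : Subgroup G) : Set G)) : G) := by group
      rw [h2] at this
      exact this
    obtain ⟨k, hk⟩ := pelement_of_commute h q hq y hy _ hc
    refine ⟨k, ?_⟩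
    rw [← hk, Subgroup.orderOf_coe, Subgroup.orderOf_coe]
  have hkn : Group.IsNilpotent f.ker := hker.isNilpotent
  have hks : Group.IsSolvable f.ker := inferInstance
  have hAs : Group.IsSolvable (MulAut (Subgroup.zpowers y)) := by
    let e := IsCyclic.mulAutMulEquiv (Subgroup.zpowers y)
    exact Group.isSolvable_of_isSolvable_injective (f := e.toMonoidHom) e.injective
  exact Group.isSolvable_of_ker_le_range f.ker.subtype f (by rw [Subgroup.range_subtype])

theorem radical_pgroup {G : Type*} [Group G] [Finite G] (hns : ¬ Group.IsSolvable G) (h : EPPO G)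
    (R : Subgroup G) [hRn : R.Normal] (hRs : Group.IsSolvable R) :
    ∃ p : ℕ, p.Prime ∧ IsPGroup p R := by
  classical
  by_cases hR1 : R = ⊥
  · refine ⟨2, Nat.prime_two, ?_⟩
    rw [hR1]
    exact IsPGroup.of_bot
  have hRnt : Nontrivial R := (Subgroup.nontrivial_iff_ne_bot R).mpr hR1
  have hex : ∃ n : ℕ, derivedSeries R n = ⊥ := hRs.solvable
  have hk0 : Nat.find hex ≠ 0 := by
    intro e
    have := Nat.find_spec hex
    rw [e, derivedSeries_zero] at this
    exact top_ne_bot this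
  obtain ⟨n, hn⟩ := Nat.exists_eq_succ_of_ne_zero hk0
  have hAne : derivedSeries R n ≠ ⊥ := Nat.find_min hex (by omega)
  have hAsucc : derivedSeries R (n + 1) = ⊥ := by
    have := Nat.find_spec hex
    rwa [hn] at this
  let V : Subgroup G := (derivedSeries R n).map R.subtype
  have hVn : V.Normal := inferInstance
  have hVab : IsMulCommutative V := by
    have : IsMulCommutative (derivedSeries R n) :=
      Cfsg.Agent.Lib.Helper1.isMulCommutative_of_commutator_eq_bot _ hAsucc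
    infer_instance
  have hVbot : V ≠ ⊥ := by
    intro e
    exact hAne ((Subgroup.map_eq_bot_iff_of_injective _ R.subtype_injective).mp e)
  have hVR : V ≤ R := Subgroup.map_subtype_le _
  obtain ⟨v₀, hv₀V, hv₀1⟩ : ∃ v ∈ V, v ≠ 1 := by
    by_contra hcon
    push Not at hcon
    exact hVbot (eq_bot_iff.mpr (fun x hx => Subgroup.mem_bot.mpr (hcon x hx)))
  obtain ⟨p, k₀, hp, hk₀, hpk₀⟩ := (isPrimePow_nat_iff _).mp (h v₀ hv₀1)
  have hVelt : ∀ v ∈ V, ∃ k : ℕ, orderOf v = p ^ k := by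
    intro v hv
    by_cases hv1 : v = 1
    · exact ⟨0, by rw [hv1, orderOf_one, pow_zero]⟩
    obtain ⟨s, k, hs, hk, hsk⟩ := (isPrimePow_nat_iff _).mp (h v hv1)
    by_cases hsp : s = p
    · exact ⟨k, by rw [← hsk, hsp]⟩
    · exfalso
      have hc : Commute v v₀ := by
        have := hVab.is_comm.comm (⟨v, hv⟩ : V) ⟨v₀, hv₀V⟩
        exact congrArg Subtype.val this
      apply no_mixed h v v₀ hc hv1 hv₀1
      rw [← hsk, ← hpk₀]
      exact Nat.Coprime.pow k k₀ ((Nat.coprime_primes hs hp).mpr hsp)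
  by_cases hq : ∃ q : ℕ, q.Prime ∧ q ≠ p ∧ q ∣ Nat.card R
  swap
  · push Not at hq
    refine ⟨p, hp, ?_⟩
    have hall : ∀ {d : ℕ}, d.Prime → d ∣ Nat.card R → d = p := by
      intro d hd hdR
      by_contra hne
      exact hq d hd hne hdR
    have h1 := Nat.eq_prime_pow_of_unique_prime_dvd Nat.card_pos.ne' hall
    have hpf : Fact p.Prime := ⟨hp⟩
    exact IsPGroup.of_card h1
  exfalso
  obtain ⟨q, hq, hqp, hqR⟩ := hq
  have hqf : Fact q.Prime := ⟨hq⟩
  let Q₀ : Sylow q R := default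
  let Q : Subgroup G := (Q₀ : Subgroup R).map R.subtype
  have hfrat : Subgroup.normalizer (Q : Set G) ⊔ R = ⊤ := Sylow.normalizer_sup_eq_top Q₀
  have hQp : IsPGroup q Q := Q₀.2.map _
  have hQ₀bot : (Q₀ : Subgroup R) ≠ ⊥ := Q₀.ne_bot_of_dvd_card hqR
  have hQbot : Q ≠ ⊥ := by
    intro e
    exact hQ₀bot ((Subgroup.map_eq_bot_iff_of_injective _ R.subtype_injective).mp e)
  have hfpf : ∀ a ∈ Q, a ≠ 1 → V ⊓ Subgroup.centralizer {a} = ⊥ := by
    intro a ha ha1
    obtain ⟨k, hk⟩ := Cfsg.Agent.Lib.Helper22.orderOf_of_mem_pgroup q Q hQp a ha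
    apply fpf_of_eppo h V p hp hVelt a ha1
    rw [hk]
    exact Nat.Coprime.pow_left k ((Nat.coprime_primes hq hp).mpr hqp)
  have hnormV : Q ≤ Subgroup.normalizer (V : Set G) := by
    rw [Subgroup.normalizer_eq_top]
    exact le_top
  have huniq := Cfsg.Agent.S4155.unique_of_fpf Q V hVbot hnormV hfpf q hQp
  obtain ⟨kq, hkq⟩ := IsPGroup.iff_card.mp hQp
  have hkq0 : kq ≠ 0 := by
    rintro rfl
    rw [pow_zero] at hkq
    have := (Subgroup.one_lt_card_iff_ne_bot Q).mpr hQbot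
    omega
  obtain ⟨y, hy⟩ := exists_prime_orderOf_dvd_card' (G := Q) q (hkq ▸ dvd_pow_self q hkq0)
  have hyG : orderOf (y : G) = q := by rw [Subgroup.orderOf_coe]; exact hy
  have hNY : Subgroup.normalizer (Q : Set G) ≤
      Subgroup.normalizer ((Subgroup.zpowers (y : G) : Subgroup G) : Set G) := by
    intro g hg
    have hgy : g * (y : G) * g⁻¹ ∈ Q := (Subgroup.mem_normalizer_iff.mp hg (y : G)).mp y.2
    have horder : orderOf (⟨g * (y : G) * g⁻¹, hgy⟩ : Q) = q := by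
      rw [← Subgroup.orderOf_coe]
      have := MulEquiv.orderOf_eq (MulAut.conj g) (y : G)
      rw [MulAut.conj_apply] at this
      rw [this, hyG]
    have heq := huniq (Subgroup.zpowers y) (Subgroup.zpowers ⟨g * (y : G) * g⁻¹, hgy⟩)
      (by rw [Nat.card_zpowers, hy]) (by rw [Nat.card_zpowers, horder])
    have hmem : (⟨g * (y : G) * g⁻¹, hgy⟩ : Q) ∈ Subgroup.zpowers y := by
      rw [heq]; exact Subgroup.mem_zpowers _
    obtain ⟨j, hj⟩ := Subgroup.mem_zpowers_iff.mp hmem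
    have hj' : (y : G) ^ j = g * (y : G) * g⁻¹ := by
      have := congrArg Subtype.val hj
      simpa using this
    apply Subgroup.mem_normalizer_fintype
    intro x hx
    obtain ⟨i, rfl⟩ := Subgroup.mem_zpowers_iff.mp hx
    have : g * (y : G) ^ i * g⁻¹ = (g * (y : G) * g⁻¹) ^ i := by
      rw [conj_zpow]
    rw [this, ← hj', ← zpow_mul]
    exact Subgroup.zpow_mem_zpowers _ _
  have hLs := solvable_normalizer_zpowers h q hq (y : G) hyG
  have hNs : Group.IsSolvable (Subgroup.normalizer (Q : Set G)) :=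
    Group.isSolvable_of_isSolvable_injective (f := Subgroup.inclusion hNY)
      (Subgroup.inclusion_injective hNY)
  have hsurj : Function.Surjective
      ((QuotientGroup.mk' R).comp (Subgroup.normalizer (Q : Set G)).subtype) := by
    intro x
    obtain ⟨g, rfl⟩ := QuotientGroup.mk_surjective x
    have hg : g ∈ ((Subgroup.normalizer (Q : Set G) ⊔ R : Subgroup G) : Set G) := by
      rw [hfrat]; trivial
    rw [Subgroup.mul_normal] at hg
    obtain ⟨a, ha, b, hb, rfl⟩ := Set.mem_mul.mp hg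
    refine ⟨⟨a, ha⟩, ?_⟩
    change (QuotientGroup.mk a : G ⧸ R) = QuotientGroup.mk (a * b)
    rw [QuotientGroup.mk_mul, (QuotientGroup.eq_one_iff b).mpr hb, mul_one]
  have hqs : Group.IsSolvable (G ⧸ R) := Group.isSolvable_of_surjective hsurj
  exact hns ((Group.isSolvable_iff_subgroup_quotient R).mpr ⟨hRs, hqs⟩)


theorem eppo_quotient {G : Type*} [Group G] [Finite G] (h : EPPO G) (R : Subgroup G) [R.Normal] :
    EPPO (G ⧸ R) := by
  intro x hx
  obtain ⟨g, rfl⟩ := QuotientGroup.mk_surjective x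
  have hg1 : g ≠ 1 := by
    rintro rfl
    exact hx rfl
  obtain ⟨s, k, hs, hk, hsk⟩ := (isPrimePow_nat_iff _).mp (h g hg1)
  have h1 : orderOf (QuotientGroup.mk g : G ⧸ R) ∣ orderOf g :=
    orderOf_map_dvd (QuotientGroup.mk' R) g
  rw [← hsk] at h1
  obtain ⟨j, hj, hj'⟩ := (Nat.dvd_prime_pow hs).mp h1
  rw [isPrimePow_nat_iff]
  refine ⟨s, j, hs, ?_, hj'.symm⟩
  rcases Nat.eq_zero_or_pos j with h0 | h0
  · exfalso
    rw [h0, pow_zero] at hj'
    exact hx (orderOf_eq_one_iff.mp hj')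
  · exact h0

theorem no_solvable_normal {G : Type*} [Group G] [Finite G]
    (R : Subgroup G) [R.Normal] (hRs : Group.IsSolvable ↥R)
    (hRmax : ∀ N : Subgroup G, N.Normal → Group.IsSolvable ↥N → N ≤ R)
    (S : Subgroup (G ⧸ R)) (hSn : S.Normal) (hSs : Group.IsSolvable S) : S = ⊥ := by
  have hRS : R ≤ S.comap (QuotientGroup.mk' R) := by
    intro r hr
    rw [Subgroup.mem_comap]
    have : (QuotientGroup.mk' R) r = 1 := (QuotientGroup.eq_one_iff r).mpr hr
    rw [this]; exact S.one_mem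
  have hsolv : Group.IsSolvable (S.comap (QuotientGroup.mk' R)) := by
    apply Group.isSolvable_of_ker_le_range (Subgroup.inclusion hRS)
      ((QuotientGroup.mk' R).subgroupComap S)
    intro x hx
    have h1 : ((QuotientGroup.mk' R).subgroupComap S) x = 1 := hx
    have h2 : (QuotientGroup.mk' R) (x : G) = 1 := congrArg Subtype.val h1
    have h3 : (x : G) ∈ R := (QuotientGroup.eq_one_iff _).mp h2
    exact ⟨⟨(x : G), h3⟩, Subtype.ext rfl⟩
  have hle := hRmax _ (hSn.comap _) hsolv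
  rw [eq_bot_iff]
  intro s hs
  obtain ⟨g, rfl⟩ := QuotientGroup.mk_surjective s
  have : g ∈ R := hle hs
  rw [Subgroup.mem_bot]
  exact (QuotientGroup.eq_one_iff g).mpr this

theorem two_primes_of_simple {T : Type*} [Group T] [Finite T] [IsSimpleGroup T]
    (hnab : ¬ ∀ a b : T, a * b = b * a) :
    ∃ s₁ s₂ : ℕ, s₁.Prime ∧ s₂.Prime ∧ s₁ ≠ s₂ ∧ s₁ ∣ Nat.card T ∧ s₂ ∣ Nat.card T := by
  have hcard : 1 < Nat.card T := Finite.one_lt_card
  have hnpp : ¬ IsPrimePow (Nat.card T) := by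
    intro hpp
    obtain ⟨s, k, hs, hk, hsk⟩ := (isPrimePow_nat_iff _).mp hpp
    have hsf : Fact s.Prime := ⟨hs⟩
    have hP : IsPGroup s T := IsPGroup.of_card hsk.symm
    have hZ := hP.center_nontrivial
    have hZn : (Subgroup.center T).Normal := inferInstance
    rcases IsSimpleGroup.eq_bot_or_eq_top_of_normal (Subgroup.center T) hZn with e | e
    · rw [e] at hZ
      exact not_nontrivial _ hZ
    · apply hnab
      intro a b
      have : b ∈ Subgroup.center T := by rw [e]; trivial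
      exact (Subgroup.mem_center_iff.mp this a)
  have hs₁ := Nat.minFac_prime (by omega : Nat.card T ≠ 1)
  obtain ⟨s₂, hs₂, hne, hs₂T⟩ :=
    Cfsg.Agent.S4155.exists_other_prime _ hcard hnpp (Nat.card T).minFac
  exact ⟨_, s₂, hs₁, hs₂, hne.symm, Nat.minFac_dvd _, hs₂T⟩

theorem quotient_part {G : Type*} [Group G] [Finite G] (hns : ¬ Group.IsSolvable G) (h : EPPO G)
    (R : Subgroup G) [R.Normal] (hRs : Group.IsSolvable ↥R)
    (hRmax : ∀ N : Subgroup G, N.Normal → Group.IsSolvable ↥N → N ≤ R) :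
    ∃ M : Subgroup (G ⧸ R), M.Normal ∧ IsSimpleGroup ↥M ∧ ¬ IsMulCommutative ↥M ∧
        ∀ N : Subgroup (G ⧸ R), N.Normal → N ≠ ⊥ → M ≤ N := by
  classical
  have hE := eppo_quotient h R
  have hnt : Nontrivial (G ⧸ R) := by
    by_contra hcon
    rw [not_nontrivial_iff_subsingleton] at hcon
    have : Group.IsSolvable (G ⧸ R) := inferInstance
    exact hns ((Group.isSolvable_iff_subgroup_quotient R).mpr ⟨hRs, this⟩)
  obtain ⟨M, hMn, hMbot, hMmin⟩ := Cfsg.Agent.Lib.Helper1.exists_minimal_normal (G := G ⧸ R)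
  have := hMn
  obtain ⟨T, hTg, m, hTs, hm, ⟨e⟩⟩ := Cfsg.Agent.S0721.result M hMbot hMmin
  have hfinPi : Finite (Fin m → T) := Finite.of_equiv M e.toEquiv
  have hTfin : Finite T :=
    Finite.of_injective (MonoidHom.mulSingle (fun _ : Fin m => T) ⟨0, hm⟩)
      (Pi.mulSingle_injective (M := fun _ : Fin m => T) (⟨0, hm⟩ : Fin m))
  have hTnab : ¬ ∀ a b : T, a * b = b * a := by
    intro hc
    have hMc : ∀ x y : M, x * y = y * x := by
      intro x y
      apply e.injective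
      rw [map_mul, map_mul]
      funext i
      exact hc _ _
    have hMs : Group.IsSolvable M := Group.isSolvable_of_comm hMc
    exact hMbot (no_solvable_normal R hRs hRmax M hMn hMs)
  obtain ⟨s₁, s₂, hs₁, hs₂, hs12, hs₁T, hs₂T⟩ := two_primes_of_simple hTnab
  have hs₁f : Fact s₁.Prime := ⟨hs₁⟩
  have hs₂f : Fact s₂.Prime := ⟨hs₂⟩
  have hm1 : m = 1 := by
    by_contra hm1
    have hm2 : 1 < m := by omega
    obtain ⟨x₁, hx₁⟩ := exists_prime_orderOf_dvd_card' (G := T) s₁ hs₁T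
    obtain ⟨x₂, hx₂⟩ := exists_prime_orderOf_dvd_card' (G := T) s₂ hs₂T
    have hij : (⟨0, hm⟩ : Fin m) ≠ ⟨1, hm2⟩ := by
      intro e'
      have := congrArg Fin.val e'
      simp at this
    have hc : Commute (Pi.mulSingle (⟨0, hm⟩ : Fin m) x₁ : Fin m → T)
        (Pi.mulSingle (⟨1, hm2⟩ : Fin m) x₂) :=
      Pi.mulSingle_commute (f := fun _ : Fin m => T) hij x₁ x₂
    have ho₁ : orderOf (Pi.mulSingle (⟨0, hm⟩ : Fin m) x₁ : Fin m → T) = s₁ := by
      rw [← hx₁]
      exact orderOf_injective (MonoidHom.mulSingle (fun _ : Fin m => T) ⟨0, hm⟩)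
        (Pi.mulSingle_injective (M := fun _ : Fin m => T) (⟨0, hm⟩ : Fin m)) x₁
    have ho₂ : orderOf (Pi.mulSingle (⟨1, hm2⟩ : Fin m) x₂ : Fin m → T) = s₂ := by
      rw [← hx₂]
      exact orderOf_injective (MonoidHom.mulSingle (fun _ : Fin m => T) ⟨1, hm2⟩)
        (Pi.mulSingle_injective (M := fun _ : Fin m => T) (⟨1, hm2⟩ : Fin m)) x₂
    have hc' : Commute ((e.symm (Pi.mulSingle (⟨0, hm⟩ : Fin m) x₁) : M) : G ⧸ R)
        ((e.symm (Pi.mulSingle (⟨1, hm2⟩ : Fin m) x₂) : M) : G ⧸ R) := by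
      have := hc.map e.symm.toMonoidHom
      exact congrArg Subtype.val this
    have ho₁' : orderOf ((e.symm (Pi.mulSingle (⟨0, hm⟩ : Fin m) x₁) : M) : G ⧸ R) = s₁ := by
      rw [Subgroup.orderOf_coe, MulEquiv.orderOf_eq, ho₁]
    have ho₂' : orderOf ((e.symm (Pi.mulSingle (⟨1, hm2⟩ : Fin m) x₂) : M) : G ⧸ R) = s₂ := by
      rw [Subgroup.orderOf_coe, MulEquiv.orderOf_eq, ho₂]
    apply no_mixed hE _ _ hc'
    · intro e1
      rw [e1, orderOf_one] at ho₁'
      exact hs₁.one_lt.ne ho₁'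
    · intro e1
      rw [e1, orderOf_one] at ho₂'
      exact hs₂.one_lt.ne ho₂'
    · rw [ho₁', ho₂']
      exact (Nat.coprime_primes hs₁ hs₂).mpr hs12
  subst hm1
  let e' : M ≃* T := e.trans (MulEquiv.funUnique (Fin 1) T)
  have hMsimple : IsSimpleGroup M := e'.isSimpleGroup
  have hMnc : ¬ IsMulCommutative M := by
    intro hc
    apply hTnab
    intro a b
    have := hc.is_comm.comm (e'.symm a) (e'.symm b)
    have h2 := congrArg e' this
    simpa using h2
  have hcardM : Nat.card M = Nat.card T := Nat.card_congr e'.toEquiv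
  refine ⟨M, hMn, hMsimple, hMnc, ?_⟩
  intro N hNn hNbot
  have hinf : (M ⊓ N).Normal := inferInstance
  rcases hMmin (M ⊓ N) hinf inf_le_left with e1 | e1
  · exfalso
    have hdis : Disjoint M N := disjoint_iff.mpr e1
    have hNcard : 1 < Nat.card N := (Subgroup.one_lt_card_iff_ne_bot N).mpr hNbot
    obtain ⟨t, ht, htN⟩ := Nat.exists_prime_and_dvd (by omega : Nat.card N ≠ 1)
    have htf : Fact t.Prime := ⟨ht⟩
    obtain ⟨y, hy⟩ := exists_prime_orderOf_dvd_card' (G := N) t htN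
    obtain ⟨s, hs, hst, hsM⟩ : ∃ s : ℕ, s.Prime ∧ s ≠ t ∧ s ∣ Nat.card M := by
      by_cases h1 : s₁ = t
      · exact ⟨s₂, hs₂, fun e2 => hs12 (h1.trans e2.symm), hcardM ▸ hs₂T⟩
      · exact ⟨s₁, hs₁, h1, hcardM ▸ hs₁T⟩
    have hsf : Fact s.Prime := ⟨hs⟩
    obtain ⟨x, hx⟩ := exists_prime_orderOf_dvd_card' (G := M) s hsM
    have hc : Commute (x : G ⧸ R) (y : G ⧸ R) :=
      Subgroup.commute_of_normal_of_disjoint M N hMn hNn hdis x y x.2 y.2
    have hox : orderOf (x : G ⧸ R) = s := by rw [Subgroup.orderOf_coe]; exact hx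
    have hoy : orderOf (y : G ⧸ R) = t := by rw [Subgroup.orderOf_coe]; exact hy
    apply no_mixed hE _ _ hc
    · intro e2
      rw [e2, orderOf_one] at hox
      exact hs.one_lt.ne hox
    · intro e2
      rw [e2, orderOf_one] at hoy
      exact ht.one_lt.ne hoy
    · rw [hox, hoy]
      exact (Nat.coprime_primes hs ht).mpr hst
  · rw [← e1]
    exact inf_le_right

theorem result {G : Type*} [Group G] [Finite G] (hns : ¬ Group.IsSolvable G) (hpp : ∀ g : G, g ≠ 1 → IsPrimePow (orderOf g))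
    (R : Subgroup G) [R.Normal] (hRs : Group.IsSolvable ↥R) (hRmax : ∀ N : Subgroup G, N.Normal → Group.IsSolvable ↥N → N ≤ R) :
    (∃ p : ℕ, p.Prime ∧ IsPGroup p ↥R) ∧
      (∃ M : Subgroup (G ⧸ R), M.Normal ∧ IsSimpleGroup ↥M ∧ ¬ IsMulCommutative ↥M ∧
        ∀ N : Subgroup (G ⧸ R), N.Normal → N ≠ ⊥ → M ≤ N) ∧
      ∀ H : Subgroup G, Group.IsSolvable ↥H → (Nat.card ↥H).primeFactors.card ≤ 2 := by
  refine ⟨radical_pgroup hns hpp R hRs, quotient_part hns hpp R hRs hRmax, ?_⟩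
  intro H hH
  exact higman (eppo_subgroup hpp H)

end Cfsg.Agent.S3992
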