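import Cfsg.Statements.S3994
import Cfsg.Agent.Lib.Helper22.Basic
import Cfsg.Agent.Lib.Helper22.Sylow
import Cfsg.Agent.Lib.Helper22.Frobenius

set_option autoImplicit false
open Cfsg

namespace Cfsg.Agent.S3994

theorem card_Q_conj {G : Type*} [Group G] (q : ℕ) (g y : G) :
    Nat.card {z : G // z ∈ Subgroup.centralizer ({g * y * g⁻¹} : Set G) ∧ ∃ j : ℕ, orderOf z = q ^ j} =
      Nat.card {z : G // z ∈ Subgroup.centralizer ({y} : Set G) ∧ ∃ j : ℕ, orderOf z = q ^ j} := by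
  symm
  have hord : ∀ z : G, orderOf (g * z * g⁻¹) = orderOf z := by
    intro z
    symm
    apply SemiconjBy.orderOf_eq g
    unfold SemiconjBy
    group
  apply Nat.card_eq_of_bijective
    (fun z : {z : G // z ∈ Subgroup.centralizer ({y} : Set G) ∧ ∃ j : ℕ, orderOf z = q ^ j} =>
      (⟨g * (z : G) * g⁻¹, by
        obtain ⟨hz1, hz2⟩ := z.2
        rw [Subgroup.mem_centralizer_singleton_iff] at hz1 ⊢
        constructor
        · calc g * (z : G) * g⁻¹ * (g * y * g⁻¹) = g * ((z : G) * y) * g⁻¹ := by group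
            _ = g * (y * (z : G)) * g⁻¹ := by rw [hz1]
            _ = g * y * g⁻¹ * (g * (z : G) * g⁻¹) := by group
        · rw [hord]; exact hz2⟩ :
        {z : G // z ∈ Subgroup.centralizer ({g * y * g⁻¹} : Set G) ∧ ∃ j : ℕ, orderOf z = q ^ j}))
  constructor
  · intro z z' h
    have h1 : g * (z : G) * g⁻¹ = g * (z' : G) * g⁻¹ := congrArg Subtype.val h
    exact Subtype.ext (mul_left_cancel (mul_right_cancel h1))
  · rintro ⟨w, hw1, hw2⟩
    refine ⟨⟨g⁻¹ * w * g, ?_, ?_⟩, ?_⟩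
    · rw [Subgroup.mem_centralizer_singleton_iff] at hw1 ⊢
      calc g⁻¹ * w * g * y = g⁻¹ * (w * (g * y * g⁻¹)) * g := by group
        _ = g⁻¹ * ((g * y * g⁻¹) * w) * g := by rw [hw1]
        _ = y * (g⁻¹ * w * g) := by group
    · have : g⁻¹ * w * g = g⁻¹ * w * g⁻¹⁻¹ := by rw [inv_inv]
      rw [this]
      have h2 : orderOf (g⁻¹ * w * g⁻¹⁻¹) = orderOf w := by
        symm
        apply SemiconjBy.orderOf_eq g⁻¹
        unfold SemiconjBy
        group
      rw [h2]; exact hw2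
    · apply Subtype.ext
      show g * (g⁻¹ * w * g) * g⁻¹ = w
      group

open Classical in
theorem card_qdecomp {G : Type*} [Group G] [Fintype G] (q : ℕ) [Fact q.Prime] (n : ℕ)
    (hqn : ¬ q ∣ n) :
    Nat.card {x : G // n ∣ orderOf x} =
      ∑ y ∈ Finset.univ.filter (fun y : G => (orderOf y).Coprime q ∧ n ∣ orderOf y),
        Nat.card {z : G // z ∈ Subgroup.centralizer ({y} : Set G) ∧ ∃ j : ℕ, orderOf z = q ^ j} := by
  have hq : q.Prime := Fact.out
  rw [Finset.sum_subtype (Finset.univ.filter (fun y : G => (orderOf y).Coprime q ∧ n ∣ orderOf y))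
    (p := fun y : G => (orderOf y).Coprime q ∧ n ∣ orderOf y) (fun x => by simp), ← Nat.card_sigma]
  symm
  have hN0 : Nat.card G ≠ 0 := Nat.card_pos.ne'
  set c := (Nat.card G).factorization q with hc
  set u := Nat.card G / q ^ c with hu
  have hcu : q ^ c * u = Nat.card G := Nat.ordProj_mul_ordCompl_eq_self _ _
  have hcop : Nat.Coprime (q ^ c) u := Nat.Coprime.pow_left _ (Nat.coprime_ordCompl hq hN0)
  have hyu : ∀ y : G, (orderOf y).Coprime q → y ^ u = 1 := by
    intro y hy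
    rw [← orderOf_dvd_iff_pow_eq_one]
    have h1 : orderOf y ∣ q ^ c * u := by rw [hcu]; exact orderOf_dvd_natCard y
    exact (hy.pow_right c).dvd_of_dvd_mul_left h1
  have hzc : ∀ z : G, (∃ j : ℕ, orderOf z = q ^ j) → z ^ (q ^ c) = 1 := by
    rintro z ⟨j, hj⟩
    rw [← orderOf_dvd_iff_pow_eq_one, hj]
    apply pow_dvd_pow
    have h1 : q ^ j ∣ Nat.card G := by rw [← hj]; exact orderOf_dvd_natCard z
    exact (hq.pow_dvd_iff_le_factorization hN0).1 h1
  obtain ⟨e, he1, he0⟩ := Nat.chineseRemainder hcop.symm 1 0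
  have hpart : ∀ (y z : G), (orderOf y).Coprime q → z ∈ Subgroup.centralizer ({y} : Set G) →
      (∃ j : ℕ, orderOf z = q ^ j) → (y * z) ^ e = y := by
    intro y z hy hz hzq
    have hzy : z * y = y * z := Subgroup.mem_centralizer_singleton_iff.1 hz
    rw [Lib.Helper22.pow_mul_eq_of_comm y z hzy]
    have h1 : y ^ e = y ^ 1 := by
      rw [pow_eq_pow_iff_modEq]
      exact he1.of_dvd (orderOf_dvd_of_pow_eq_one (hyu y hy))
    have h2 : z ^ e = 1 := by
      have h3 : q ^ c ∣ e := (Nat.modEq_zero_iff_dvd).1 he0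
      obtain ⟨t, rfl⟩ := h3
      rw [pow_mul, hzc z hzq, one_pow]
    rw [h1, h2, pow_one, mul_one]
  have hwd : ∀ (y z : G), (orderOf y).Coprime q → n ∣ orderOf y →
      z ∈ Subgroup.centralizer ({y} : Set G) → (∃ j : ℕ, orderOf z = q ^ j) → n ∣ orderOf (y * z) := by
    intro y z hy hny hz hzq
    obtain ⟨j, hj⟩ := hzq
    have hzy : z * y = y * z := Subgroup.mem_centralizer_singleton_iff.1 hz
    have hcomm : Commute y z := hzy.symm
    rw [hcomm.orderOf_mul_eq_mul_orderOf_of_coprime (by rw [hj]; exact hy.pow_right j)]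
    exact dvd_trans hny (dvd_mul_right _ _)
  apply Nat.card_eq_of_bijective
    (fun yz : (Σ y : {y : G // (orderOf y).Coprime q ∧ n ∣ orderOf y},
        {z : G // z ∈ Subgroup.centralizer ({(y : G)} : Set G) ∧ ∃ j : ℕ, orderOf z = q ^ j}) =>
      (⟨(yz.1 : G) * (yz.2 : G), hwd yz.1 yz.2 yz.1.2.1 yz.1.2.2 yz.2.2.1 yz.2.2.2⟩ :
        {x : G // n ∣ orderOf x}))
  constructor
  · rintro ⟨⟨y, hy1, hy2⟩, ⟨z, hz, hzq⟩⟩ ⟨⟨y', hy'1, hy'2⟩, ⟨z', hz', hzq'⟩⟩ h
    have h1 : y * z = y' * z' := congrArg Subtype.val h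
    have h2 : y = y' := by
      rw [← hpart y z hy1 hz hzq, ← hpart y' z' hy'1 hz' hzq', h1]
    subst h2
    have h3 : z = z' := mul_left_cancel h1
    subst h3
    rfl
  · rintro ⟨x, hx⟩
    obtain ⟨z, y, hxzy, hcomm, ⟨k, hk⟩, hycop, -, -⟩ := Lib.Helper22.exists_p_decomp q x
    have hox : orderOf x = q ^ k * orderOf y := by
      rw [hxzy, hcomm.orderOf_mul_eq_mul_orderOf_of_coprime (by rw [hk]; exact (hycop.symm).pow_left k), hk]
    have hny : n ∣ orderOf y := by
      rw [hox] at hx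
      have hcopn : Nat.Coprime n (q ^ k) :=
        (Nat.Coprime.pow_left k ((Nat.Prime.coprime_iff_not_dvd hq).2 hqn)).symm
      exact hcopn.dvd_of_dvd_mul_left hx
    have hzC : z ∈ Subgroup.centralizer ({y} : Set G) :=
      Subgroup.mem_centralizer_singleton_iff.2 hcomm.eq
    refine ⟨⟨⟨y, hycop, hny⟩, ⟨z, hzC, ⟨k, hk⟩⟩⟩, ?_⟩
    apply Subtype.ext
    show y * z = x
    rw [hxzy, hcomm.eq]

open Classical in
theorem ppow_dvd {G : Type*} [Group G] [Finite G] (q : ℕ) [Fact q.Prime] (n k : ℕ)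
    (hqn : ¬ q ∣ n) (hk : q ^ k ∣ Nat.card G) : q ^ k ∣ Nat.card {x : G // n ∣ orderOf x} := by
  have hq : q.Prime := Fact.out
  let _ : Fintype G := Fintype.ofFinite G
  rw [card_qdecomp q n hqn]
  apply Lib.Helper22.dvd_sum_of_class_function
    (fun y : G => Nat.card {z : G // z ∈ Subgroup.centralizer ({y} : Set G) ∧ ∃ j : ℕ, orderOf z = q ^ j})
    (fun g y => card_Q_conj q g y)
  · intro y hy g
    rw [Finset.mem_filter] at hy ⊢
    have hord : orderOf (g * y * g⁻¹) = orderOf y := by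
      symm
      apply SemiconjBy.orderOf_eq g
      unfold SemiconjBy
      group
    rw [hord]
    exact ⟨Finset.mem_univ _, hy.2⟩
  · intro y _
    show q ^ k ∣ (Subgroup.centralizer ({y} : Set G)).index *
      Nat.card {z : G // z ∈ Subgroup.centralizer ({y} : Set G) ∧ ∃ j : ℕ, orderOf z = q ^ j}
    set C := Subgroup.centralizer ({y} : Set G) with hC
    have hC0 : Nat.card C ≠ 0 := Nat.card_pos.ne'
    set c := (Nat.card C).factorization q with hc
    have hfrob := Lib.Helper22.frobenius (G := C) (q ^ c) (Nat.ordProj_dvd _ _)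
    have hequiv : Nat.card {z : G // z ∈ C ∧ ∃ j : ℕ, orderOf z = q ^ j} =
        Nat.card {w : C // w ^ (q ^ c) = 1} := by
      apply Nat.card_congr
      refine ⟨fun z => ⟨⟨(z : G), z.2.1⟩, ?_⟩, fun w => ⟨(w : C), (w : C).2, ?_⟩, ?_, ?_⟩
      · obtain ⟨j, hj⟩ := z.2.2
        rw [← orderOf_dvd_iff_pow_eq_one, Subgroup.orderOf_mk, hj]
        apply pow_dvd_pow
        have h1 : q ^ j ∣ Nat.card C := by
          rw [← hj]
          have := orderOf_dvd_natCard (⟨(z : G), z.2.1⟩ : C)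
          rwa [Subgroup.orderOf_mk] at this
        exact (hq.pow_dvd_iff_le_factorization hC0).1 h1
      · have h1 : orderOf (w : C) ∣ q ^ c := orderOf_dvd_of_pow_eq_one w.2
        obtain ⟨j, -, hj⟩ := (Nat.dvd_prime_pow hq).1 h1
        exact ⟨j, by rw [Subgroup.orderOf_coe]; exact hj⟩
      · intro z; rfl
      · intro w; rfl
    rw [hequiv]
    have hidx := Subgroup.index_mul_card C
    have hsplit : q ^ c * (Nat.card C / q ^ c) = Nat.card C := Nat.ordProj_mul_ordCompl_eq_self _ _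
    have hcopu : Nat.Coprime (q ^ k) (Nat.card C / q ^ c) :=
      Nat.Coprime.pow_left _ (Nat.coprime_ordCompl hq hC0)
    have h1 : q ^ k ∣ C.index * q ^ c * (Nat.card C / q ^ c) := by
      rw [mul_assoc, hsplit, hidx]; exact hk
    have h2 : q ^ k ∣ C.index * q ^ c := hcopu.dvd_of_dvd_mul_right h1
    exact dvd_trans h2 (Nat.mul_dvd_mul_left _ hfrob)

theorem result {G : Type*} [Group G] [Finite G] (n : ℕ) (hn : 0 < n) :
    Nat.card {g : G // n ∣ orderOf g} = 0 ∨
      (Nat.card G / Nat.gcd (Nat.card G) (n ^ Nat.card G)) ∣ Nat.card {g : G // n ∣ orderOf g} := by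
  right
  have hN0 : Nat.card G ≠ 0 := Nat.card_pos.ne'
  set N := Nat.card G with hN
  set g := Nat.gcd N (n ^ N) with hg
  have hgN : g ∣ N := Nat.gcd_dvd_left _ _
  have hDg : N / g * g = N := Nat.div_mul_cancel hgN
  rw [Nat.dvd_iff_prime_pow_dvd_dvd]
  intro q k hq hqk
  have : Fact q.Prime := ⟨hq⟩
  rcases Nat.eq_zero_or_pos k with rfl | hkpos
  · simp
  have hqD : q ∣ N / g := dvd_trans (dvd_pow_self q hkpos.ne') hqk
  have hqkN : q ^ k ∣ N := dvd_trans hqk (Dvd.intro _ hDg)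
  have hqn : ¬ q ∣ n := by
    intro hqn
    set v := N.factorization q with hv
    have hvN : v < N := by
      have h1 : q ^ v ≤ N := Nat.le_of_dvd (Nat.pos_of_ne_zero hN0) (Nat.ordProj_dvd _ _)
      exact lt_of_lt_of_le (Nat.lt_pow_self hq.one_lt) h1
    have h2 : q ^ v ∣ n ^ N :=
      dvd_trans (pow_dvd_pow q hvN.le) (pow_dvd_pow_of_dvd hqn N)
    have h3 : q ^ v ∣ g := Nat.dvd_gcd (Nat.ordProj_dvd _ _) h2
    have h4 : q ^ (v + 1) ∣ N := by
      rw [← hDg, pow_succ, mul_comm]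
      exact Nat.mul_dvd_mul hqD h3
    exact Nat.pow_succ_factorization_not_dvd hN0 hq h4
  exact ppow_dvd q n k hqn hqkN

end Cfsg.Agent.S3994
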