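import Cfsg.Statements.S3996
-- import your own Cfsg.Agent.* helpers here
import Cfsg.Agent.Lib.Helper22.NseA
import Cfsg.Agent.S0144

set_option autoImplicit false
open Cfsg

namespace Cfsg.Agent.S3996

open Cfsg.Agent.S3995 Cfsg.Agent.Lib.Helper22.NseA

theorem two_primes_card (N : ℕ) (hN : N ≠ 0) {p q : ℕ} (hp : p.Prime) (hq : q.Prime)
    (h : ∀ r : ℕ, r.Prime → r ∣ N → r = p ∨ r = q) : ∃ a b, N = p ^ a * q ^ b := by
  obtain ⟨a, N', hpN', rfl⟩ := Nat.exists_eq_pow_mul_and_not_dvd hN p hp.ne_one
  have hN' : N' ≠ 0 := by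
    rintro rfl
    simp at hN
  obtain ⟨b, N'', hqN'', rfl⟩ := Nat.exists_eq_pow_mul_and_not_dvd hN' q hq.ne_one
  have h1 : N'' = 1 := by
    by_contra h1
    obtain ⟨r, hr, hrd⟩ := Nat.exists_prime_and_dvd h1
    rcases h r hr ((hrd.trans (dvd_mul_left _ _)).trans (dvd_mul_left _ _)) with rfl | rfl
    · exact hpN' (hrd.trans (dvd_mul_left _ _))
    · exact hqN'' hrd
  subst h1
  exact ⟨a, b, by ring⟩

theorem solvable_of_primes {G : Type*} [Group G] [Finite G] {p q : ℕ} (hp : p.Prime) (hq : q.Prime)
    (h : ∀ r : ℕ, r.Prime → r ∣ Nat.card G → r = p ∨ r = q) : Group.IsSolvable G := by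
  obtain ⟨a, b, hab⟩ := two_primes_card (Nat.card G) Nat.card_pos.ne' hp hq h
  exact Cfsg.Agent.S0144.result p q a b hp hq hab

/-- A finite group in which the numbers of elements of each order that occurs (the numbers #{g : o(g) = m}, m ranging over the element orders) take exactly three different values is solvable. -/
theorem result {G : Type*} [Group G] [Finite G] (h : (((fun m : ℕ => Nat.card {g : G // orderOf g = m}) '' Set.range (orderOf : G → ℕ))).ncard = 3) : Group.IsSolvable G := by
  have h1 : (1 : ℕ) ∈ ((fun m : ℕ => Nat.card {g : G // orderOf g = m}) '' Set.range (orderOf : G → ℕ)) :=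
    ⟨1, ⟨1, orderOf_one⟩, cnt_one⟩
  obtain ⟨x, y, z, hxy, hxz, hyz, hV⟩ := Set.ncard_eq_three.1 h
  have key : ∃ m n, ∀ g : G, cnt G (orderOf g) = 1 ∨ cnt G (orderOf g) = m ∨
      cnt G (orderOf g) = n := by
    have hmem : ∀ g : G, cnt G (orderOf g) ∈ ({x, y, z} : Set ℕ) := by
      intro g
      rw [← hV]
      exact ⟨orderOf g, ⟨g, rfl⟩, rfl⟩
    have h1' : (1 : ℕ) ∈ ({x, y, z} : Set ℕ) := hV ▸ h1
    simp only [Set.mem_insert_iff, Set.mem_singleton_iff] at hmem h1'
    rcases h1' with rfl | rfl | rfl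
    · exact ⟨y, z, hmem⟩
    · exact ⟨x, z, fun g => by have := hmem g; tauto⟩
    · exact ⟨x, y, fun g => by have := hmem g; tauto⟩
  obtain ⟨m, n, hW⟩ := key
  by_cases h2 : 2 ∣ Nat.card G
  · by_cases hex : ∃ p q : ℕ, p.Prime ∧ q.Prime ∧ p ≠ q ∧ p ≠ 2 ∧ q ≠ 2 ∧ p ∣ Nat.card G ∧
        q ∣ Nat.card G
    · obtain ⟨p, q, hp, hq, hpq, hp2, hq2, hpd, hqd⟩ := hex
      have hc2 := claim2a m n hW hp hq hpq hp2 hq2 hpd hqd h2
      have h4 := claim2b m n hW hp hq hpq hp2 hq2 hpd hqd h2
      obtain ⟨z, hz⟩ := exists_prime_orderOf_dvd_card' 2 h2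
      have hu := uniq_of_cnt_two hc2 z hz
      have hzc := central_of_uniq z hz hu
      have hzcen : z ∈ Subgroup.center G := Subgroup.mem_center_iff.2 (fun g => hzc g)
      haveI hnorm : (Subgroup.zpowers z).Normal := ⟨fun x hx g => by
        have hxc : x ∈ Subgroup.center G := (Subgroup.zpowers_le.2 hzcen) hx
        have e : g * x * g⁻¹ = x := by
          rw [Subgroup.mem_center_iff.1 hxc g, mul_assoc, mul_inv_cancel, mul_one]
        rw [e]
        exact hx⟩
      have hcardZ : Nat.card (Subgroup.zpowers z) = 2 := by rw [Nat.card_zpowers, hz]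
      have hquot : Nat.card (G ⧸ Subgroup.zpowers z) * 2 = Nat.card G := by
        rw [← hcardZ]
        exact (Subgroup.card_eq_card_quotient_mul_card_subgroup _).symm
      haveI : Finite (G ⧸ Subgroup.zpowers z) := inferInstance
      have hprimes : ∀ r : ℕ, r.Prime → r ∣ Nat.card (G ⧸ Subgroup.zpowers z) → r = p ∨ r = q := by
        intro r hr hrd
        have hrN : r ∣ Nat.card G := hquot ▸ hrd.mul_right 2
        by_cases hr2 : r = 2
        · subst hr2
          exfalso
          apply h4
          rw [← hquot]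
          obtain ⟨c, hc⟩ := hrd
          rw [hc]
          exact ⟨c, by ring⟩
        · by_contra hne
          push Not at hne
          exact claim1 m n hW hp hq hr hpq (Ne.symm hne.1) (Ne.symm hne.2) hp2 hq2 hr2 hpd hqd hrN
      haveI : Group.IsSolvable (G ⧸ Subgroup.zpowers z) := solvable_of_primes hp hq hprimes
      haveI : Group.IsSolvable (Subgroup.zpowers z) :=
        Group.isSolvable_of_comm (fun a b => Subtype.ext (by
          obtain ⟨i, hi⟩ := Subgroup.mem_zpowers_iff.1 a.2
          obtain ⟨j, hj⟩ := Subgroup.mem_zpowers_iff.1 b.2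
          show (a : G) * b = b * a
          rw [← hi, ← hj, ← zpow_add, ← zpow_add, add_comm]))
      exact Group.isSolvable_of_ker_le_range (Subgroup.zpowers z).subtype
        (QuotientGroup.mk' (Subgroup.zpowers z)) (by simp)
    · push Not at hex
      by_cases hodd : ∃ p : ℕ, p.Prime ∧ p ≠ 2 ∧ p ∣ Nat.card G
      · obtain ⟨p, hp, hp2, hpd⟩ := hodd
        apply solvable_of_primes Nat.prime_two hp
        intro r hr hrd
        by_cases hr2 : r = 2
        · exact Or.inl hr2
        · right
          by_contra hne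
          exact hex p r hp hr (Ne.symm hne) hp2 hr2 hpd hrd
      · push Not at hodd
        apply solvable_of_primes Nat.prime_two Nat.prime_two
        intro r hr hrd
        by_contra hne
        push Not at hne
        exact hodd r hr hne.1 hrd
  · by_cases hex : ∃ p q : ℕ, p.Prime ∧ q.Prime ∧ p ≠ q ∧ p ∣ Nat.card G ∧ q ∣ Nat.card G
    · obtain ⟨p, q, hp, hq, hpq, hpd, hqd⟩ := hex
      have hp2 : p ≠ 2 := by
        rintro rfl
        exact h2 hpd
      have hq2 : q ≠ 2 := by
        rintro rfl
        exact h2 hqd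
      apply solvable_of_primes hp hq
      intro r hr hrd
      have hr2 : r ≠ 2 := by
        rintro rfl
        exact h2 hrd
      by_contra hne
      push Not at hne
      exact claim1 m n hW hp hq hr hpq (Ne.symm hne.1) (Ne.symm hne.2) hp2 hq2 hr2 hpd hqd hrd
    · push Not at hex
      by_cases hodd : ∃ p : ℕ, p.Prime ∧ p ∣ Nat.card G
      · obtain ⟨p, hp, hpd⟩ := hodd
        apply solvable_of_primes hp hp
        intro r hr hrd
        left
        by_contra hne
        exact hex p r hp hr (Ne.symm hne) hpd hrd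
      · push Not at hodd
        apply solvable_of_primes Nat.prime_two Nat.prime_two
        intro r hr hrd
        exact absurd hrd (hodd r hr)

end Cfsg.Agent.S3996
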