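import Cfsg.Statements.S3997
import Mathlib

set_option autoImplicit false
open Cfsg

namespace Cfsg.Agent.S3997

open Classical in
theorem card_orderOf_mem_eq_sum {G : Type*} [Group G] [Finite G] (S : Set ℕ) (B : ℕ)
    (hB : ∀ g : G, orderOf g ≤ B) :
    Nat.card {g : G // orderOf g ∈ S} =
      ∑ m ∈ Finset.range (B + 1), if m ∈ S then Nat.card {g : G // orderOf g = m} else 0 := by
  haveI := Fintype.ofFinite G
  rw [Nat.card_eq_fintype_card, Fintype.card_subtype]
  rw [Finset.card_eq_sum_card_fiberwise (f := orderOf) (t := Finset.range (B + 1))]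
  · apply Finset.sum_congr rfl
    intro m _
    split_ifs with hm
    · rw [Nat.card_eq_fintype_card, Fintype.card_subtype]
      congr 1
      ext g
      simp only [Finset.mem_filter, Finset.mem_univ, true_and]
      constructor
      · rintro ⟨_, h⟩; exact h
      · intro h; exact ⟨h ▸ hm, h⟩
    · rw [Finset.card_eq_zero]
      ext g
      simp only [Finset.mem_filter, Finset.mem_univ, true_and, Finset.notMem_empty, iff_false]
      rintro ⟨h1, h2⟩
      exact hm (h2 ▸ h1)
  · intro g _
    simp only [Finset.coe_range, Set.mem_Iio]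
    exact Nat.lt_succ_of_le (hB g)

theorem card_orderOf_mem_eq {G H : Type*} [Group G] [Finite G] [Group H] [Finite H]
    (hT : ∀ m : ℕ, Nat.card {g : G // orderOf g = m} = Nat.card {h : H // orderOf h = m})
    (S : Set ℕ) : Nat.card {g : G // orderOf g ∈ S} = Nat.card {h : H // orderOf h ∈ S} := by
  have hBG : ∀ g : G, orderOf g ≤ Nat.card G + Nat.card H := fun g =>
    le_trans (orderOf_le_card) (Nat.le_add_right _ _)
  have hBH : ∀ h : H, orderOf h ≤ Nat.card G + Nat.card H := fun h =>
    le_trans (orderOf_le_card) (Nat.le_add_left _ _)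
  rw [card_orderOf_mem_eq_sum S _ hBG, card_orderOf_mem_eq_sum S _ hBH]
  apply Finset.sum_congr rfl
  intro m _
  rw [hT m]

theorem card_eq {G H : Type*} [Group G] [Finite G] [Group H] [Finite H]
    (hT : ∀ m : ℕ, Nat.card {g : G // orderOf g = m} = Nat.card {h : H // orderOf h = m}) :
    Nat.card G = Nat.card H := by
  have := card_orderOf_mem_eq hT Set.univ
  have e1 : Nat.card {g : G // orderOf g ∈ (Set.univ : Set ℕ)} = Nat.card G :=
    Nat.card_congr (Equiv.subtypeUnivEquiv (fun _ => Set.mem_univ _))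
  have e2 : Nat.card {g : H // orderOf g ∈ (Set.univ : Set ℕ)} = Nat.card H :=
    Nat.card_congr (Equiv.subtypeUnivEquiv (fun _ => Set.mem_univ _))
  rw [← e1, ← e2, this]

/-- the set of p-elements contains every Sylow p-subgroup -/
theorem sylow_subset {H : Type*} [Group H] [Finite H] (p : ℕ) [Fact p.Prime] (Q : Sylow p H) :
    ((Q : Subgroup H) : Set H) ⊆ {h : H | orderOf h ∈ {n : ℕ | ∃ k, n = p ^ k}} := by
  intro h hh
  obtain ⟨k, hk⟩ := (IsPGroup.iff_orderOf.1 Q.isPGroup') ⟨h, hh⟩
  refine ⟨k, ?_⟩
  rw [← hk, Subgroup.orderOf_mk]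

theorem result {G H : Type*} [Group G] [Finite G] [Group H] [Finite H] (hT : (∀ m : ℕ, Nat.card {g : G // orderOf g = m} = Nat.card {h : H // orderOf h = m})) (hG : Group.IsNilpotent G) :
    Group.IsNilpotent H := by
  have hcard : Nat.card G = Nat.card H := card_eq hT
  apply (Group.isNilpotent_of_finite_tfae (G := H)).out 3 0 |>.1
  intro p hp Q
  haveI := hp
  set S : Set ℕ := {n : ℕ | ∃ k, n = p ^ k} with hS
  have hXeq : Nat.card {g : G // orderOf g ∈ S} = Nat.card {h : H // orderOf h ∈ S} :=
    card_orderOf_mem_eq hT S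
  -- in G
  obtain ⟨P⟩ : Nonempty (Sylow p G) := inferInstance
  have hPn : (P : Subgroup G).Normal := inferInstance
  have hXG : {g : G | orderOf g ∈ S} = ((P : Subgroup G) : Set G) := by
    apply Set.Subset.antisymm
    · intro g hg
      obtain ⟨k, hk⟩ := hg
      have hpg : IsPGroup p (Subgroup.zpowers g) := by
        apply IsPGroup.of_card (n := k)
        rw [Nat.card_zpowers, hk]
      obtain ⟨P', hP'⟩ := hpg.exists_le_sylow
      haveI := Sylow.unique_of_normal P hPn
      have : P' = P := Subsingleton.elim _ _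
      rw [this] at hP'
      exact hP' (Subgroup.mem_zpowers g)
    · exact sylow_subset p P
  have hcXG : Nat.card {g : G // orderOf g ∈ S} = Nat.card P := by
    have : Nat.card {g : G | orderOf g ∈ S} = Nat.card ((P : Subgroup G) : Set G) := by rw [hXG]
    exact this
  have hcQ : ∀ Q' : Sylow p H, Nat.card Q' = Nat.card {h : H // orderOf h ∈ S} := by
    intro Q'
    rw [← hXeq, hcXG, Sylow.card_eq_multiplicity, Sylow.card_eq_multiplicity, hcard]
  have hQeq : ∀ Q' : Sylow p H, ((Q' : Subgroup H) : Set H) = {h : H | orderOf h ∈ S} := by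
    intro Q'
    apply Set.eq_of_subset_of_ncard_le (sylow_subset p Q') _ (Set.toFinite _)
    rw [← Nat.card_coe_set_eq, ← Nat.card_coe_set_eq]
    exact (hcQ Q').ge
  haveI : Subsingleton (Sylow p H) := by
    constructor
    intro Q1 Q2
    apply Sylow.ext
    apply SetLike.coe_injective
    rw [hQeq Q1, hQeq Q2]
  exact Sylow.normal_of_subsingleton Q

end Cfsg.Agent.S3997
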