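import Cfsg.Statements.S4001
import Mathlib
import Cfsg.Agent.Lib.Helper22.FrobKernel
import Cfsg.Agent.Lib.Helper9.FrobAct
import Cfsg.Agent.S0040
import Cfsg.Agent.S0041
import Cfsg.Agent.S0042
import Cfsg.Agent.Lib.Helper11.NilpCoprime
import Cfsg.Agent.Lib.Helper1.Nilp

set_option autoImplicit false
open Cfsg

namespace Cfsg.Agent.S4001

open Cfsg.Agent.Lib.Helper22

universe u

def KernelNilpotent : Prop := ∀ (L : Type u) [Group L] [Finite L] (C : Subgroup L),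
  Cfsg.IsFrobeniusComplement C →
    ∃ N : Subgroup L, (N : Set L) = Cfsg.frobeniusKernel C ∧ N.Normal ∧ Group.IsNilpotent N

theorem kernel_nilpotent (hT : KernelNilpotent.{u}) {L : Type u} [Group L] [Finite L]
    (N C : Subgroup L) (hC : Cfsg.IsFrobeniusComplement C)
    (hN : Cfsg.frobeniusKernel C = (N : Set L)) : Group.IsNilpotent N := by
  obtain ⟨N', hN', _, hnil⟩ := hT L C hC
  have h : N' = N := SetLike.coe_injective (hN'.trans hN)
  rw [← h]
  exact hnil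

section setup

variable {G : Type u} [Group G] [Finite G] (H K : Subgroup G) [hHn : H.Normal] [hKn : K.Normal]

def toQuot (C₁ : Subgroup ↥K) : ↥C₁ →* ↥(K.map (QuotientGroup.mk' H)) :=
  ((QuotientGroup.mk' H).comp (K.subtype.comp C₁.subtype)).codRestrict _
    (fun c => Subgroup.mem_map_of_mem _ (c : ↥K).2)

theorem toQuot_coe (C₁ : Subgroup ↥K) (c : ↥C₁) :
    ((toQuot H K C₁ c : ↥(K.map (QuotientGroup.mk' H))) : G ⧸ H) = QuotientGroup.mk' H ((c : ↥K) : G) := rfl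

theorem decomp {L : Type*} [Group L] (N C : Subgroup L) (hc : Subgroup.IsComplement' N C) (g : L) :
    ∃ n ∈ N, ∃ c ∈ C, g = n * c := by
  obtain ⟨x, hx, _⟩ := Subgroup.IsComplement.existsUnique hc g
  exact ⟨x.1, x.1.2, x.2, x.2.2, hx.symm⟩

theorem toQuot_bijective (C₁ : Subgroup ↥K)
    (hc : Subgroup.IsComplement' (H.subgroupOf K) C₁) : Function.Bijective (toQuot H K C₁) := by
  constructor
  · rw [injective_iff_map_eq_one]
    intro c hc1
    have h1 : QuotientGroup.mk' H ((c : ↥K) : G) = 1 := by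
      rw [← toQuot_coe, hc1]; rfl
    have h2 : ((c : ↥K) : G) ∈ H := by
      rwa [QuotientGroup.mk'_apply, QuotientGroup.eq_one_iff] at h1
    have h3 : (c : ↥K) ∈ H.subgroupOf K ⊓ C₁ := ⟨Subgroup.mem_subgroupOf.mpr h2, c.2⟩
    rw [hc.disjoint.eq_bot, Subgroup.mem_bot] at h3
    exact Subtype.ext h3
  · rintro ⟨y, hy⟩
    obtain ⟨k, hk, rfl⟩ := Subgroup.mem_map.mp hy
    obtain ⟨n, hn, c, hcC, hkc⟩ := decomp _ _ hc (⟨k, hk⟩ : ↥K)
    refine ⟨⟨c, hcC⟩, ?_⟩
    apply Subtype.ext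
    rw [toQuot_coe]
    have h1 : k = (n : G) * (c : G) := by
      have := congrArg Subtype.val hkc
      simpa using this
    have h2 : (n : G) ∈ H := Subgroup.mem_subgroupOf.mp hn
    change QuotientGroup.mk' H (c : G) = QuotientGroup.mk' H k
    rw [h1, map_mul]
    have : QuotientGroup.mk' H (n : G) = 1 := by
      rw [QuotientGroup.mk'_apply, QuotientGroup.eq_one_iff]; exact h2
    rw [this, one_mul]

noncomputable def equivQuot (C₁ : Subgroup ↥K)
    (hc : Subgroup.IsComplement' (H.subgroupOf K) C₁) : ↥C₁ ≃* ↥(K.map (QuotientGroup.mk' H)) :=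
  MulEquiv.ofBijective (toQuot H K C₁) (toQuot_bijective H K C₁ hc)

end setup




theorem exists_pow_orderOf {A : Type*} [Group A] [Finite A] (g : A) (d : ℕ) (hd : d ∣ orderOf g) :
    ∃ k : ℕ, orderOf (g ^ k) = d := by
  obtain ⟨m, hm⟩ := hd
  have hpos : 0 < orderOf g := orderOf_pos g
  have hm0 : m ≠ 0 := by
    rintro rfl
    omega
  refine ⟨m, ?_⟩
  rw [orderOf_pow_of_dvd hm0 ⟨d, by rw [hm, mul_comm]⟩, hm]
  exact Nat.mul_div_cancel _ (Nat.pos_of_ne_zero hm0)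

theorem exists_orderOf_cyclic {A : Type*} [Group A] [Finite A] [IsCyclic A] (d : ℕ)
    (hd : d ∣ Nat.card A) : ∃ a : A, orderOf a = d := by
  obtain ⟨g, hg⟩ := IsCyclic.exists_ofOrder_eq_natCard (α := A)
  obtain ⟨k, hk⟩ := exists_pow_orderOf g d (hg ▸ hd)
  exact ⟨g ^ k, hk⟩

section omega

variable {G : Type u} [Group G] (H : Subgroup G) [hHn : H.Normal] (p : ℕ)

def omegaZ : Subgroup G where
  carrier := {m | m ∈ H ∧ (∀ h ∈ H, h * m = m * h) ∧ m ^ p = 1}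
  one_mem' := ⟨H.one_mem, fun h _ => by rw [mul_one, one_mul], one_pow p⟩
  mul_mem' := by
    rintro a b ⟨haH, hac, hap⟩ ⟨hbH, hbc, hbp⟩
    refine ⟨H.mul_mem haH hbH, fun h hh => ?_, ?_⟩
    · rw [← mul_assoc, hac h hh, mul_assoc, hbc h hh, mul_assoc]
    · have hab : Commute a b := (hac b hbH).symm
      rw [hab.mul_pow, hap, hbp, one_mul]
  inv_mem' := by
    rintro a ⟨haH, hac, hap⟩
    refine ⟨H.inv_mem haH, fun h hh => ?_, by rw [inv_pow, hap, inv_one]⟩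
    have := hac h hh
    calc h * a⁻¹ = a⁻¹ * (a * h) * a⁻¹ := by group
      _ = a⁻¹ * (h * a) * a⁻¹ := by rw [this]
      _ = a⁻¹ * h := by group

omit hHn in
theorem mem_omegaZ {m : G} : m ∈ omegaZ H p ↔ m ∈ H ∧ (∀ h ∈ H, h * m = m * h) ∧ m ^ p = 1 :=
  Iff.rfl

instance omegaZ_normal : (omegaZ H p).Normal := by
  refine ⟨fun m hm g => ?_⟩
  obtain ⟨hmH, hmc, hmp⟩ := hm
  refine ⟨hHn.conj_mem m hmH g, fun h hh => ?_, ?_⟩
  · have hh' : g⁻¹ * h * g ∈ H := by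
      have := hHn.conj_mem h hh g⁻¹
      rwa [inv_inv] at this
    have h1 := hmc _ hh'
    calc h * (g * m * g⁻¹) = g * ((g⁻¹ * h * g) * m) * g⁻¹ := by group
      _ = g * (m * (g⁻¹ * h * g)) * g⁻¹ := by rw [h1]
      _ = g * m * g⁻¹ * h := by group
  · rw [conj_pow, hmp]; group

instance omegaZ_comm : IsMulCommutative ↥(omegaZ H p) :=
  ⟨⟨fun a b => Subtype.ext ((a.2.2.1 b b.2.1).symm)⟩⟩

def actG : G →* MulAut ↥(omegaZ H p) := MulAut.conjNormal

theorem actG_ker : H ≤ (actG H p).ker := by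
  intro h hh
  rw [MonoidHom.mem_ker]
  ext m
  change ((MulAut.conjNormal h m : ↥(omegaZ H p)) : G) = m
  rw [MulAut.conjNormal_apply]
  have := m.2.2.1 h hh
  rw [this]; group

def actQ : G ⧸ H →* MulAut ↥(omegaZ H p) := QuotientGroup.lift H (actG H p) (actG_ker H p)

theorem actQ_mk (g : G) (m : ↥(omegaZ H p)) :
    ((actQ H p (QuotientGroup.mk' H g) m : ↥(omegaZ H p)) : G) = g * m * g⁻¹ := by
  change ((MulAut.conjNormal g m : ↥(omegaZ H p)) : G) = _
  rw [MulAut.conjNormal_apply]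

theorem omegaZ_ne_bot [Finite G] [hp : Fact p.Prime] (hnil : Group.IsNilpotent H)
    (hpH : p ∣ Nat.card H) : ∃ m ∈ omegaZ H p, m ≠ 1 := by
  obtain ⟨P⟩ : Nonempty (Sylow p H) := inferInstance
  have hPn : (P : Subgroup H).Normal := inferInstance
  have hPb : (P : Subgroup H) ≠ ⊥ := by
    intro h
    have h1 := P.card_eq_multiplicity
    rw [h, Subgroup.card_bot] at h1
    have h2 : (Nat.card H).factorization p = 0 := by
      by_contra hne
      have : 1 < p ^ (Nat.card H).factorization p := Nat.one_lt_pow hne hp.1.one_lt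
      omega
    have h3 : 0 < (Nat.card H).factorization p :=
      hp.1.factorization_pos_of_dvd Nat.card_pos.ne' hpH
    omega
  have h1 := Cfsg.Agent.Lib.Helper1.normal_inf_center_ne_bot (P : Subgroup H) hPb
  obtain ⟨z, hz1⟩ := Subgroup.ne_bot_iff_exists_ne_one.mp h1
  obtain ⟨hzP, hzZ⟩ := z.2
  have hz1' : (z : H) ≠ 1 := fun h => hz1 (Subtype.ext h)
  obtain ⟨k, hk⟩ := (P.2 ⟨(z : H), hzP⟩)
  have hk' : (z : H) ^ p ^ k = 1 := by
    have := congrArg Subtype.val hk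
    simpa using this
  obtain ⟨j, hj⟩ := (Nat.dvd_prime_pow hp.1).mp (orderOf_dvd_of_pow_eq_one hk')
  obtain ⟨hjk, hj⟩ := hj
  have hj0 : j ≠ 0 := by
    intro h
    rw [h, pow_zero, orderOf_eq_one_iff] at hj
    exact hz1' hj
  obtain ⟨i, rfl⟩ := Nat.exists_eq_succ_of_ne_zero hj0
  refine ⟨(((z : H) ^ p ^ i : H) : G), ⟨?_, ?_, ?_⟩, ?_⟩
  · exact ((z : H) ^ p ^ i).2
  · intro h hh
    have h2 := Subgroup.mem_center_iff.mp (Subgroup.pow_mem _ hzZ (p ^ i)) ⟨h, hh⟩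
    exact congrArg Subtype.val h2
  · rw [← Subgroup.coe_pow, ← pow_mul, ← pow_succ, ← hj, pow_orderOf_eq_one]
    rfl
  · intro h
    have h2 : (z : H) ^ p ^ i = 1 := Subtype.ext h
    have h3 := orderOf_dvd_of_pow_eq_one h2
    rw [hj] at h3
    have := (Nat.pow_dvd_pow_iff_le_right hp.1.one_lt).mp h3
    omega

end omega

section main

variable {G : Type u} [Group G] [Finite G] (H K : Subgroup G) [hHn : H.Normal] [hKn : K.Normal]
  (C₁ : Subgroup ↥K) (hC₁ : Cfsg.IsFrobeniusComplement C₁)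
  (hk₁ : Cfsg.frobeniusKernel C₁ = (H.subgroupOf K : Set ↥K))
  (C₂ : Subgroup (G ⧸ H)) (hC₂ : Cfsg.IsFrobeniusComplement C₂)
  (hk₂ : Cfsg.frobeniusKernel C₂ = (K.map (QuotientGroup.mk' H) : Set (G ⧸ H)))

include hC₁ hk₁ hC₂ hk₂

theorem map_normal : (K.map (QuotientGroup.mk' H)).Normal :=
  Subgroup.Normal.map hKn _ (QuotientGroup.mk'_surjective H)

theorem odd_card_C₁ : Odd (Nat.card C₁) := by
  have hKqn : (K.map (QuotientGroup.mk' H)).Normal := Subgroup.Normal.map hKn _ (QuotientGroup.mk'_surjective H)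
  have hc₁ := FrobKernel.isComplement' _ C₁ hC₁ hk₁
  have hc₂ := FrobKernel.isComplement' _ C₂ hC₂ hk₂
  by_contra hodd
  rw [Nat.not_odd_iff_even, even_iff_two_dvd] at hodd
  have : Fact (Nat.Prime 2) := ⟨Nat.prime_two⟩
  obtain ⟨t, ht⟩ := exists_prime_orderOf_dvd_card' (G := ↥C₁) 2 hodd
  have ht1 : t ≠ 1 := by
    intro h
    rw [h, orderOf_one] at ht
    omega
  have ht2 : t * t = 1 := by
    rw [← pow_two, ← ht]
    exact pow_orderOf_eq_one t
  set e := equivQuot H K C₁ hc₁ with he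
  set z : G ⧸ H := ((e t : ↥(K.map (QuotientGroup.mk' H))) : G ⧸ H) with hz
  have hzK : z ∈ K.map (QuotientGroup.mk' H) := (e t).2
  have hz1 : z ≠ 1 := by
    intro h
    apply ht1
    apply e.injective
    rw [map_one]
    exact Subtype.ext h
  have hcent : ∀ g : G ⧸ H, g * z = z * g := by
    intro g
    have hgz : g * z * g⁻¹ ∈ K.map (QuotientGroup.mk' H) := hKqn.conj_mem z hzK g
    set t' := e.symm ⟨g * z * g⁻¹, hgz⟩ with ht'
    have het' : e t' = ⟨g * z * g⁻¹, hgz⟩ := by rw [ht']; exact e.apply_symm_apply _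
    have ht1' : t' ≠ 1 := by
      intro h
      rw [h, map_one] at het'
      have h2 : g * z * g⁻¹ = 1 := (congrArg Subtype.val het').symm
      apply hz1
      have : z = g⁻¹ * (g * z * g⁻¹) * g := by group
      rw [this, h2]; group
    have ht2' : t' * t' = 1 := by
      apply e.injective
      rw [map_mul, map_one, het']
      apply Subtype.ext
      change (g * z * g⁻¹) * (g * z * g⁻¹) = 1
      have hzz : z * z = 1 := by
        have := congrArg (fun x : ↥(K.map (QuotientGroup.mk' H)) => (x : G ⧸ H)) (congrArg e ht2)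
        simpa [map_mul] using this
      have : (g * z * g⁻¹) * (g * z * g⁻¹) = g * (z * z) * g⁻¹ := by group
      rw [this, hzz]; group
    have huniq : (t : ↥K) = (t' : ↥K) :=
      FrobKernel.involution_unique (H.subgroupOf K) C₁ hC₁ hk₁ t.2
        (fun h => ht1 (Subtype.ext h)) (by exact_mod_cast congrArg Subtype.val ht2) t'.2
        (fun h => ht1' (Subtype.ext h)) (by exact_mod_cast congrArg Subtype.val ht2')
    have htt' : t = t' := Subtype.ext huniq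
    rw [← htt'] at het'
    have h3 : z = g * z * g⁻¹ := congrArg Subtype.val het'
    calc g * z = (g * z * g⁻¹) * g := by group
      _ = z * g := by rw [← h3]
  have htop : K.map (QuotientGroup.mk' H) = ⊤ := by
    rw [eq_top_iff]
    intro g _
    exact FrobKernel.centralizer_le _ C₂ hC₂ hk₂ hzK hz1 (hcent g)
  have h1 := hc₂.card_mul_card
  rw [htop, Subgroup.card_top] at h1
  have hpos : 0 < Nat.card (G ⧸ H) := Nat.card_pos
  have h2 : Nat.card C₂ = 1 := by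
    have : Nat.card (G ⧸ H) * Nat.card C₂ = Nat.card (G ⧸ H) * 1 := by rw [h1, mul_one]
    exact Nat.eq_of_mul_eq_mul_left hpos this
  exact hC₂.1 (Subgroup.card_eq_one.mp h2)





theorem isCyclic_C₁ (hT : KernelNilpotent.{u}) : IsCyclic C₁ := by
  have hc₁ := FrobKernel.isComplement' _ C₁ hC₁ hk₁
  have hnilKq : Group.IsNilpotent ↥(K.map (QuotientGroup.mk' H)) :=
    kernel_nilpotent hT _ C₂ hC₂ hk₂
  have hnilC : Group.IsNilpotent C₁ := Group.nilpotent_of_mulEquiv (equivQuot H K C₁ hc₁).symm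
  have hodd := odd_card_C₁ H K C₁ hC₁ hk₁ C₂ hC₂ hk₂
  have hZ : IsZGroup C₁ := by
    refine ⟨fun p hp P => ?_⟩
    have : Fact p.Prime := ⟨hp⟩
    rcases Cfsg.Agent.S0040.result (H.subgroupOf K) C₁ hc₁
      (FrobKernel.kernel_ne_bot _ C₁ hC₁ hk₁) (FrobKernel.fpf _ C₁ hC₁ hk₁) p P with h | ⟨n, ⟨e⟩⟩
    · exact h
    · exfalso
      have h1 : Nat.card P = 4 * 2 ^ n := by
        rw [Nat.card_congr e.toEquiv, Nat.card_eq_fintype_card, QuaternionGroup.card]
      have h2 : Nat.card P ∣ Nat.card C₁ := Subgroup.card_subgroup_dvd_card _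
      rw [h1] at h2
      have h3 : 2 ∣ Nat.card C₁ := dvd_trans ⟨2 * 2 ^ n, by ring⟩ h2
      rw [← even_iff_two_dvd, ← Nat.not_odd_iff_even] at h3
      exact h3 hodd
  infer_instance

theorem isCyclic_Kq (hT : KernelNilpotent.{u}) : IsCyclic ↥(K.map (QuotientGroup.mk' H)) := by
  have hc₁ := FrobKernel.isComplement' _ C₁ hC₁ hk₁
  have := isCyclic_C₁ H K C₁ hC₁ hk₁ C₂ hC₂ hk₂ hT
  exact isCyclic_of_surjective (equivQuot H K C₁ hc₁) (equivQuot H K C₁ hc₁).surjective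

theorem isCyclic_C₂ (hT : KernelNilpotent.{u}) : IsCyclic C₂ := by
  have hKqn : (K.map (QuotientGroup.mk' H)).Normal :=
    Subgroup.Normal.map hKn _ (QuotientGroup.mk'_surjective H)
  have hcyc := isCyclic_Kq H K C₁ hC₁ hk₁ C₂ hC₂ hk₂ hT
  have hKqb := FrobKernel.kernel_ne_bot _ C₂ hC₂ hk₂
  have hcommAut : ∀ a b : MulAut ↥(K.map (QuotientGroup.mk' H)), a * b = b * a := by
    intro a b
    apply (IsCyclic.mulAutMulEquiv ↥(K.map (QuotientGroup.mk' H))).injective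
    rw [map_mul, map_mul, mul_comm]
  obtain ⟨g₀, hg₀⟩ : ∃ g₀ : ↥(K.map (QuotientGroup.mk' H)), g₀ ≠ 1 := by
    obtain ⟨x, hx⟩ := Subgroup.ne_bot_iff_exists_ne_one.mp hKqb
    exact ⟨x, hx⟩
  have hcomm : ∀ c ∈ C₂, ∀ c' ∈ C₂, c * c' = c' * c := by
    intro c hc c' hc'
    have h1 := hcommAut (MulAut.conjNormal c) (MulAut.conjNormal c')
    have h2 := congrArg (fun f => ((f g₀ : ↥(K.map (QuotientGroup.mk' H))) : G ⧸ H)) h1
    simp only [MulAut.mul_apply, MulAut.conjNormal_apply] at h2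
    have h3 : (c⁻¹ * c'⁻¹ * c * c') * (g₀ : G ⧸ H) = (g₀ : G ⧸ H) * (c⁻¹ * c'⁻¹ * c * c') := by
      have e1 : (c⁻¹ * c'⁻¹ * c * c') * (g₀ : G ⧸ H) =
        c⁻¹ * c'⁻¹ * (c * (c' * (g₀ : G ⧸ H) * c'⁻¹) * c⁻¹) * c * c' := by group
      rw [e1, h2]
      group
    have h4 := FrobKernel.eq_one_of_commute _ C₂ hC₂ hk₂ g₀.2
      (fun h => hg₀ (Subtype.ext h))
      (C₂.mul_mem (C₂.mul_mem (C₂.mul_mem (C₂.inv_mem hc) (C₂.inv_mem hc')) hc) hc') h3
    have e2 : c * c' = c' * c * (c⁻¹ * c'⁻¹ * c * c') := by group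
    rw [e2, h4, mul_one]
  have hA : IsMulCommutative C₂ := ⟨⟨fun a b => Subtype.ext (hcomm a a.2 b b.2)⟩⟩
  have hV : IsMulCommutative ↥(K.map (QuotientGroup.mk' H)) := by
    let _ : CommGroup ↥(K.map (QuotientGroup.mk' H)) := IsCyclic.commGroup
    exact ⟨⟨fun a b => mul_comm a b⟩⟩
  refine Cfsg.Agent.S0041.result C₂ (K.map (QuotientGroup.mk' H)) hKqb ?_
    (FrobKernel.fpf _ C₂ hC₂ hk₂) (Or.inl hA)
  rw [Subgroup.normalizer_eq_top]
  exact le_top





def toGK (hle : H ≤ K) : ↥C₂ →* G ⧸ K :=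
  (QuotientGroup.map H K (MonoidHom.id G) (fun _ hx => hle hx)).comp C₂.subtype

omit [Finite G] hC₁ hk₁ hC₂ hk₂ in
theorem toGK_mk (hle : H ≤ K) (g : G) (hg : (QuotientGroup.mk' H g) ∈ C₂) :
    toGK H K C₂ hle ⟨QuotientGroup.mk' H g, hg⟩ = (QuotientGroup.mk' K g) := rfl

theorem toGK_bijective (hle : H ≤ K) : Function.Bijective (toGK H K C₂ hle) := by
  have hc₂ := FrobKernel.isComplement' _ C₂ hC₂ hk₂
  constructor
  · rw [injective_iff_map_eq_one]
    rintro ⟨c, hc⟩ h1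
    obtain ⟨g, rfl⟩ := QuotientGroup.mk'_surjective H c
    rw [toGK_mk] at h1
    have h2 : g ∈ K := by
      rwa [QuotientGroup.mk'_apply, QuotientGroup.eq_one_iff] at h1
    have h3 : QuotientGroup.mk' H g ∈ K.map (QuotientGroup.mk' H) ⊓ C₂ :=
      ⟨Subgroup.mem_map_of_mem _ h2, hc⟩
    rw [hc₂.disjoint.eq_bot, Subgroup.mem_bot] at h3
    exact Subtype.ext h3
  · intro y
    obtain ⟨g, rfl⟩ := QuotientGroup.mk'_surjective K y
    obtain ⟨n, hn, c, hc, hgc⟩ := decomp _ _ hc₂ (QuotientGroup.mk' H g)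
    obtain ⟨k, hk, rfl⟩ := Subgroup.mem_map.mp hn
    have h1 : c = QuotientGroup.mk' H (k⁻¹ * g) := by
      rw [map_mul, hgc, map_inv]; group
    subst h1
    refine ⟨⟨_, hc⟩, ?_⟩
    rw [toGK_mk, map_mul, map_inv]
    have : QuotientGroup.mk' K k = 1 := by
      rw [QuotientGroup.mk'_apply, QuotientGroup.eq_one_iff]; exact hk
    rw [this, inv_one, one_mul]

theorem isCyclic_GK (hT : KernelNilpotent.{u}) (hle : H ≤ K) : IsCyclic (G ⧸ K) := by
  have := isCyclic_C₂ H K C₁ hC₁ hk₁ C₂ hC₂ hk₂ hT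
  exact isCyclic_of_surjective (toGK H K C₂ hle) (toGK_bijective H K C₁ hC₁ hk₁ C₂ hC₂ hk₂ hle).2

theorem nilpotent_H (hT : KernelNilpotent.{u}) (hle : H ≤ K) : Group.IsNilpotent H := by
  have hnilHk : Group.IsNilpotent ↥(H.subgroupOf K) := kernel_nilpotent hT _ C₁ hC₁ hk₁
  exact Group.nilpotent_of_mulEquiv (Subgroup.subgroupOfEquivOfLe hle)

theorem isCyclic_KH (hT : KernelNilpotent.{u}) : IsCyclic (↥K ⧸ H.subgroupOf K) := by
  have hc₁ := FrobKernel.isComplement' _ C₁ hC₁ hk₁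
  have := isCyclic_C₁ H K C₁ hC₁ hk₁ C₂ hC₂ hk₂ hT
  apply isCyclic_of_surjective ((QuotientGroup.mk' (H.subgroupOf K)).comp C₁.subtype)
  intro y
  obtain ⟨k, rfl⟩ := QuotientGroup.mk'_surjective _ y
  obtain ⟨n, hn, c, hc, hkc⟩ := decomp _ _ hc₁ k
  refine ⟨⟨c, hc⟩, ?_⟩
  rw [hkc, map_mul]
  have : QuotientGroup.mk' (H.subgroupOf K) n = 1 := by
    rw [QuotientGroup.mk'_apply, QuotientGroup.eq_one_iff]; exact hn
  rw [this, one_mul]
  rfl

theorem solvable_G (hT : KernelNilpotent.{u}) (hle : H ≤ K) : Group.IsSolvable G := by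
  have hnilHk : Group.IsNilpotent ↥(H.subgroupOf K) := kernel_nilpotent hT _ C₁ hC₁ hk₁
  have hsolHk : Group.IsSolvable ↥(H.subgroupOf K) := inferInstance
  have hcycQ := isCyclic_KH H K C₁ hC₁ hk₁ C₂ hC₂ hk₂ hT
  have hsolQ : Group.IsSolvable (↥K ⧸ H.subgroupOf K) :=
    Group.isSolvable_of_comm (fun a b => IsCyclic.isMulCommutative.is_comm.comm a b)
  have hsolK : Group.IsSolvable ↥K :=
    Group.isSolvable_of_ker_le_range (H.subgroupOf K).subtype (QuotientGroup.mk' (H.subgroupOf K))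
      (by rw [QuotientGroup.ker_mk', Subgroup.range_subtype])
  have hcycGK := isCyclic_GK H K C₁ hC₁ hk₁ C₂ hC₂ hk₂ hT hle
  have hsolGK : Group.IsSolvable (G ⧸ K) :=
    Group.isSolvable_of_comm (fun a b => IsCyclic.isMulCommutative.is_comm.comm a b)
  exact Group.isSolvable_of_ker_le_range K.subtype (QuotientGroup.mk' K)
    (by rw [QuotientGroup.ker_mk', Subgroup.range_subtype])

theorem card_C₁ : Nat.card C₁ = Nat.card (↥K ⧸ H.subgroupOf K) := by
  have hc₁ := FrobKernel.isComplement' _ C₁ hC₁ hk₁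
  have h1 := hc₁.card_mul_card
  have h2 := Subgroup.card_eq_card_quotient_mul_card_subgroup (H.subgroupOf K)
  have hpos : 0 < Nat.card (H.subgroupOf K) := Nat.card_pos
  rw [h2, mul_comm] at h1
  exact Nat.eq_of_mul_eq_mul_right hpos h1

theorem card_Kq : Nat.card ↥(K.map (QuotientGroup.mk' H)) = Nat.card C₁ := by
  have hc₁ := FrobKernel.isComplement' _ C₁ hC₁ hk₁
  exact (Nat.card_congr (equivQuot H K C₁ hc₁).toEquiv).symm

theorem card_C₂ (hle : H ≤ K) : Nat.card C₂ = Nat.card (G ⧸ K) :=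
  Nat.card_congr (Equiv.ofBijective _ (toGK_bijective H K C₁ hC₁ hk₁ C₂ hC₂ hk₂ hle))

omit hC₁ hk₁ hC₂ hk₂ [Finite G] in
theorem card_Hk (hle : H ≤ K) : Nat.card (H.subgroupOf K) = Nat.card H :=
  Nat.card_congr (Subgroup.subgroupOfEquivOfLe hle).toEquiv

theorem coprime_all (hle : H ≤ K) :
    Nat.Coprime (Nat.card C₁) (Nat.card H * Nat.card (G ⧸ K)) := by
  apply Nat.Coprime.mul_right
  · rw [← card_Hk H K hle]
    exact (FrobKernel.coprime _ C₁ hC₁ hk₁).symm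
  · rw [← card_C₂ H K C₁ hC₁ hk₁ C₂ hC₂ hk₂ hle, ← card_Kq H K C₁ hC₁ hk₁ C₂ hC₂ hk₂]
    exact FrobKernel.coprime _ C₂ hC₂ hk₂

theorem card_G (hle : H ≤ K) :
    Nat.card G = Nat.card H * Nat.card C₁ * Nat.card (G ⧸ K) := by
  have hc₁ := FrobKernel.isComplement' _ C₁ hC₁ hk₁
  have h1 := hc₁.card_mul_card
  rw [card_Hk H K hle] at h1
  rw [h1, mul_comm]
  exact Subgroup.card_eq_card_quotient_mul_card_subgroup K





open scoped IsMulCommutative in
theorem exists_mixed (hT : KernelNilpotent.{u}) (hle : H ≤ K) (p q : ℕ) (hp : p.Prime)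
    (hq : q.Prime) (hpq : p ≠ q) (hpH : p ∣ Nat.card H) (hqC : q ∣ Nat.card (G ⧸ K)) :
    ∃ g : G, orderOf g = p * q := by
  have : Fact p.Prime := ⟨hp⟩
  have : Fact q.Prime := ⟨hq⟩
  have hnilH := nilpotent_H H K C₁ hC₁ hk₁ C₂ hC₂ hk₂ hT hle
  have hc₁ := FrobKernel.isComplement' _ C₁ hC₁ hk₁
  have hc₂ := FrobKernel.isComplement' _ C₂ hC₂ hk₂
  obtain ⟨m₀, hm₀, hm₀1⟩ := omegaZ_ne_bot H p hnilH hpH
  have hcop : Nat.Coprime p (Nat.card ↥(K.map (QuotientGroup.mk' H))) := by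
    rw [card_Kq H K C₁ hC₁ hk₁ C₂ hC₂ hk₂]
    have h1 := coprime_all H K C₁ hC₁ hk₁ C₂ hC₂ hk₂ hle
    exact (Nat.Coprime.coprime_dvd_right (Dvd.dvd.mul_right hpH _) h1).symm
  have hex : ∃ m : ↥(omegaZ H p), m ≠ 1 ∧ ∀ h ∈ C₂, actQ H p h m = m := by
    by_contra hne
    push Not at hne
    have hfH : ∀ m : ↥(omegaZ H p), (∀ h ∈ C₂, actQ H p h m = m) → m = 1 := by
      intro m hm
      by_contra h1
      obtain ⟨h, hh, hne'⟩ := hne m h1
      exact hne' (hm h hh)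
    have hfK : ∀ m : ↥(omegaZ H p),
        (∀ k ∈ K.map (QuotientGroup.mk' H), actQ H p k m = m) → m = 1 := by
      intro m hm
      by_contra hm1
      obtain ⟨c, hc1⟩ := Subgroup.ne_bot_iff_exists_ne_one.mp hC₁.1
      have h1 := hm (QuotientGroup.mk' H ((c : ↥K) : G)) (Subgroup.mem_map_of_mem _ (c : ↥K).2)
      have h2 : ((c : ↥K) : G) * m * ((c : ↥K) : G)⁻¹ = m := by rw [← actQ_mk, h1]
      have h3 : (c : ↥K) = 1 :=
        FrobKernel.eq_one_of_commute (H.subgroupOf K) C₁ hC₁ hk₁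
          (n := ⟨(m : G), hle m.2.1⟩) (Subgroup.mem_subgroupOf.mpr m.2.1)
          (fun h => hm1 (Subtype.ext (by have h' := congrArg Subtype.val h; exact h'))) c.2
          (Subtype.ext (by
            change ((c : ↥K) : G) * (m : G) = (m : G) * ((c : ↥K) : G)
            calc ((c : ↥K) : G) * (m : G)
                = (((c : ↥K) : G) * m * ((c : ↥K) : G)⁻¹) * ((c : ↥K) : G) := by group
              _ = (m : G) * ((c : ↥K) : G) := by rw [h2]))
      exact hc1 (Subtype.ext h3)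
    have hpow := Cfsg.Agent.Lib.Helper9.frob_act_pow (actQ H p) (K.map (QuotientGroup.mk' H)) C₂
      hC₂ hk₂.symm hc₂ hfK hfH ⟨m₀, hm₀⟩
    have hpow' : m₀ ^ Nat.card ↥(K.map (QuotientGroup.mk' H)) = 1 := by
      have := congrArg Subtype.val hpow
      simpa using this
    have h1 : orderOf m₀ ∣ Nat.card ↥(K.map (QuotientGroup.mk' H)) :=
      orderOf_dvd_of_pow_eq_one hpow'
    have h2 : orderOf m₀ ∣ p := orderOf_dvd_of_pow_eq_one hm₀.2.2
    have h3 : orderOf m₀ = 1 := Nat.eq_one_of_dvd_coprimes hcop h2 h1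
    exact hm₀1 (orderOf_eq_one_iff.mp h3)
  obtain ⟨m, hm1, hmfix⟩ := hex
  have hqC' : q ∣ Nat.card C₂ := by
    rw [card_C₂ H K C₁ hC₁ hk₁ C₂ hC₂ hk₂ hle]; exact hqC
  obtain ⟨c, hc⟩ := exists_prime_orderOf_dvd_card' (G := ↥C₂) q hqC'
  obtain ⟨g, hg⟩ := QuotientGroup.mk'_surjective H (c : G ⧸ H)
  have hdvd : q ∣ orderOf g := by
    have h1 : orderOf (c : G ⧸ H) = q := by rw [Subgroup.orderOf_coe]; exact hc
    rw [← h1, ← hg]; exact orderOf_map_dvd _ g
  obtain ⟨k, hk⟩ := exists_pow_orderOf g q hdvd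
  have hyC : QuotientGroup.mk' H (g ^ k) ∈ C₂ := by
    rw [map_pow, hg]; exact C₂.pow_mem c.2 k
  have hfix := hmfix _ hyC
  have hcomm : (g ^ k) * (m : G) = (m : G) * (g ^ k) := by
    have h1 := congrArg Subtype.val hfix
    rw [actQ_mk] at h1
    calc (g ^ k) * (m : G) = ((g ^ k) * m * (g ^ k)⁻¹) * (g ^ k) := by group
      _ = (m : G) * (g ^ k) := by rw [h1]
  have hmord : orderOf (m : G) = p :=
    orderOf_eq_prime m.2.2.2 (fun h => hm1 (Subtype.ext h))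
  refine ⟨(m : G) * g ^ k, ?_⟩
  have hc' : Commute (m : G) (g ^ k) := hcomm.symm
  rw [hc'.orderOf_mul_eq_mul_orderOf_of_coprime
    (by rw [hmord, hk]; exact (Nat.coprime_primes hp hq).mpr hpq), hmord, hk]

theorem no_mixed (hle : H ≤ K) (p q : ℕ) (hp : p.Prime) (hq : q.Prime)
    (hpb : p ∣ Nat.card C₁) (hqb : ¬ q ∣ Nat.card C₁) (g : G) (hg : orderOf g = p * q) :
    False := by
  have hx : orderOf (g ^ q) = p := by
    rw [orderOf_pow_of_dvd hq.ne_zero (hg ▸ Dvd.intro_left p rfl), hg]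
    exact Nat.mul_div_cancel _ hq.pos
  have hy : orderOf (g ^ p) = q := by
    rw [orderOf_pow_of_dvd hp.ne_zero (hg ▸ Dvd.intro q rfl), hg]
    exact Nat.mul_div_cancel_left _ hp.pos
  have hxy : (g ^ q) * (g ^ p) = (g ^ p) * (g ^ q) := (Commute.pow_pow_self g q p).eq
  have hcop := coprime_all H K C₁ hC₁ hk₁ C₂ hC₂ hk₂ hle
  have hxK : g ^ q ∈ K := by
    rw [← QuotientGroup.eq_one_iff (N := K) (g ^ q), ← QuotientGroup.mk'_apply]
    have h1 : orderOf (QuotientGroup.mk' K (g ^ q)) ∣ p := hx ▸ orderOf_map_dvd _ (g ^ q)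
    have h2 : orderOf (QuotientGroup.mk' K (g ^ q)) ∣ Nat.card (G ⧸ K) := orderOf_dvd_natCard _
    have h3 : Nat.Coprime p (Nat.card (G ⧸ K)) :=
      Nat.Coprime.coprime_dvd_left hpb (Nat.Coprime.coprime_dvd_right (Dvd.intro_left _ rfl) hcop)
    exact orderOf_eq_one_iff.mp (Nat.eq_one_of_dvd_coprimes h3 h1 h2)
  have hxH : g ^ q ∉ H := by
    intro hxH
    have h1 : p ∣ Nat.card H := by
      have := orderOf_dvd_natCard (⟨g ^ q, hxH⟩ : H)
      rwa [Subgroup.orderOf_mk, hx] at this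
    have h3 : Nat.Coprime p (Nat.card H) :=
      Nat.Coprime.coprime_dvd_left hpb (Nat.Coprime.coprime_dvd_right (Dvd.intro _ rfl) hcop)
    exact hp.one_lt.ne' (Nat.Coprime.eq_one_of_dvd h3 h1)
  have hxq : QuotientGroup.mk' H (g ^ q) ∈ K.map (QuotientGroup.mk' H) :=
    Subgroup.mem_map_of_mem _ hxK
  have hxq1 : QuotientGroup.mk' H (g ^ q) ≠ 1 := by
    rw [Ne, QuotientGroup.mk'_apply, QuotientGroup.eq_one_iff]; exact hxH
  have hyq : QuotientGroup.mk' H (g ^ p) ∈ K.map (QuotientGroup.mk' H) :=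
    FrobKernel.centralizer_le _ C₂ hC₂ hk₂ hxq hxq1 (by rw [← map_mul, ← map_mul, hxy])
  have hyH : g ^ p ∈ H := by
    have h1 : orderOf (⟨QuotientGroup.mk' H (g ^ p), hyq⟩ : ↥(K.map (QuotientGroup.mk' H)))
        ∣ Nat.card C₁ := by
      rw [← card_Kq H K C₁ hC₁ hk₁ C₂ hC₂ hk₂]; exact orderOf_dvd_natCard _
    have h2 : orderOf (QuotientGroup.mk' H (g ^ p)) ∣ q := hy ▸ orderOf_map_dvd _ (g ^ p)
    rw [Subgroup.orderOf_mk] at h1
    rcases (Nat.dvd_prime hq).mp h2 with h | h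
    · rw [orderOf_eq_one_iff, QuotientGroup.mk'_apply, QuotientGroup.eq_one_iff] at h; exact h
    · rw [h] at h1; exact absurd h1 hqb
  have hy1 : g ^ p ≠ 1 := by
    intro h
    rw [h, orderOf_one] at hy
    exact hq.one_lt.ne hy
  have := FrobKernel.centralizer_le (H.subgroupOf K) C₁ hC₁ hk₁ (n := ⟨g ^ p, hle hyH⟩)
    (Subgroup.mem_subgroupOf.mpr hyH) (fun h => hy1 (congrArg Subtype.val h))
    (g := ⟨g ^ q, hxK⟩) (Subtype.ext hxy)
  exact hxH (Subgroup.mem_subgroupOf.mp this)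

end main


theorem main (hT : KernelNilpotent.{u}) {G : Type u} [Group G] [Finite G] (H K : Subgroup G)
    [H.Normal] [K.Normal] (hlt : H < K)
    (hK : ∃ C : Subgroup ↥K, Cfsg.IsFrobeniusComplement C ∧ Cfsg.frobeniusKernel C = (H.subgroupOf K : Set ↥K))
    (hGH : ∃ C : Subgroup (G ⧸ H), Cfsg.IsFrobeniusComplement C ∧ Cfsg.frobeniusKernel C = (K.map (QuotientGroup.mk' H) : Set (G ⧸ H))) :
    Group.IsSolvable G ∧ Odd (Nat.card (↥K ⧸ H.subgroupOf K)) ∧
      Nat.Coprime (Nat.card (↥K ⧸ H.subgroupOf K)) (Nat.card ↥H * Nat.card (G ⧸ K)) ∧ IsCyclic (G ⧸ K) ∧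
      ∀ p q : ℕ, p.Prime → q.Prime → p ≠ q → p ∣ Nat.card G → q ∣ Nat.card G →
        ((∃ g : G, orderOf g = p * q) ↔ (p ∣ Nat.card (↥K ⧸ H.subgroupOf K) ↔ q ∣ Nat.card (↥K ⧸ H.subgroupOf K))) := by
  obtain ⟨C₁, hC₁, hk₁⟩ := hK
  obtain ⟨C₂, hC₂, hk₂⟩ := hGH
  have hle := hlt.le
  have hb := card_C₁ H K C₁ hC₁ hk₁ C₂ hC₂ hk₂
  rw [← hb]
  refine ⟨solvable_G H K C₁ hC₁ hk₁ C₂ hC₂ hk₂ hT hle, odd_card_C₁ H K C₁ hC₁ hk₁ C₂ hC₂ hk₂,
    coprime_all H K C₁ hC₁ hk₁ C₂ hC₂ hk₂ hle, isCyclic_GK H K C₁ hC₁ hk₁ C₂ hC₂ hk₂ hT hle, ?_⟩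
  intro p q hp hq hpq hpG hqG
  have hcoppq : Nat.Coprime p q := (Nat.coprime_primes hp hq).mpr hpq
  constructor
  · rintro ⟨g, hg⟩
    by_cases hp' : p ∣ Nat.card C₁ <;> by_cases hq' : q ∣ Nat.card C₁
    · exact ⟨fun _ => hq', fun _ => hp'⟩
    · exact (no_mixed H K C₁ hC₁ hk₁ C₂ hC₂ hk₂ hle p q hp hq hp' hq' g hg).elim
    · exact (no_mixed H K C₁ hC₁ hk₁ C₂ hC₂ hk₂ hle q p hq hp hq' hp' g
        (hg.trans (mul_comm p q))).elim
    · exact ⟨fun h => (hp' h).elim, fun h => (hq' h).elim⟩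
  · intro hiff
    by_cases hp' : p ∣ Nat.card C₁
    · have hq' := hiff.mp hp'
      have hcyc := isCyclic_C₁ H K C₁ hC₁ hk₁ C₂ hC₂ hk₂ hT
      obtain ⟨c, hc⟩ := exists_orderOf_cyclic (A := ↥C₁) (p * q)
        (Nat.Coprime.mul_dvd_of_dvd_of_dvd hcoppq hp' hq')
      refine ⟨((c : ↥K) : G), ?_⟩
      rw [Subgroup.orderOf_coe, Subgroup.orderOf_coe, hc]
    · have hq' : ¬ q ∣ Nat.card C₁ := fun h => hp' (hiff.mpr h)
      have hcG := card_G H K C₁ hC₁ hk₁ C₂ hC₂ hk₂ hle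
      have hpc : p ∣ Nat.card H ∨ p ∣ Nat.card (G ⧸ K) := by
        rw [hcG] at hpG
        rcases (hp.dvd_mul).mp hpG with h | h
        · rcases (hp.dvd_mul).mp h with h | h
          · exact Or.inl h
          · exact (hp' h).elim
        · exact Or.inr h
      have hqc : q ∣ Nat.card H ∨ q ∣ Nat.card (G ⧸ K) := by
        rw [hcG] at hqG
        rcases (hq.dvd_mul).mp hqG with h | h
        · rcases (hq.dvd_mul).mp h with h | h
          · exact Or.inl h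
          · exact (hq' h).elim
        · exact Or.inr h
      rcases hpc with hpH | hpC <;> rcases hqc with hqH | hqC
      · have : Fact p.Prime := ⟨hp⟩
        have : Fact q.Prime := ⟨hq⟩
        have hnilH := nilpotent_H H K C₁ hC₁ hk₁ C₂ hC₂ hk₂ hT hle
        obtain ⟨x, hx⟩ := exists_prime_orderOf_dvd_card' (G := ↥H) p hpH
        obtain ⟨y, hy⟩ := exists_prime_orderOf_dvd_card' (G := ↥H) q hqH
        have hc := Cfsg.Agent.Lib.Helper11.commute_of_coprime_orderOf x y (by rw [hx, hy]; exact hcoppq)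
        refine ⟨((x * y : ↥H) : G), ?_⟩
        rw [Subgroup.orderOf_coe, hc.orderOf_mul_eq_mul_orderOf_of_coprime (by rw [hx, hy]; exact hcoppq),
          hx, hy]
      · exact exists_mixed H K C₁ hC₁ hk₁ C₂ hC₂ hk₂ hT hle p q hp hq hpq hpH hqC
      · obtain ⟨g, hg⟩ := exists_mixed H K C₁ hC₁ hk₁ C₂ hC₂ hk₂ hT hle q p hq hp hpq.symm hqH hpC
        exact ⟨g, hg.trans (mul_comm q p)⟩
      · have hcyc := isCyclic_GK H K C₁ hC₁ hk₁ C₂ hC₂ hk₂ hT hle
        obtain ⟨a, ha⟩ := exists_orderOf_cyclic (A := G ⧸ K) (p * q)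
          (Nat.Coprime.mul_dvd_of_dvd_of_dvd hcoppq hpC hqC)
        obtain ⟨g, hg⟩ := QuotientGroup.mk'_surjective K a
        have hdvd : p * q ∣ orderOf g := by
          rw [← ha, ← hg]; exact orderOf_map_dvd _ g
        obtain ⟨k, hk⟩ := exists_pow_orderOf g (p * q) hdvd
        exact ⟨g ^ k, hk⟩


/-- Let G be a 2-Frobenius group: it has normal subgroups H < K with K a Frobenius group with kernel H and G/H a Frobenius group with kernel K/H. Then G is solvable; K/H has odd order coprime to the order of H and to the order of G/K (it is the image of an odd-order Hall subgroup); G/K is cyclic; and the prime graph of G has exactly two connected components, both complete: for distinct primes p, q dividing the order of G, G has an element of order pq exactly when p and q either both divide the order of K/H or both do not. -/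
theorem result {G : Type*} [Group G] [Finite G] (H K : Subgroup G) [H.Normal] [K.Normal] (hlt : H < K)
    (hK : ∃ C : Subgroup ↥K, Cfsg.IsFrobeniusComplement C ∧ Cfsg.frobeniusKernel C = (H.subgroupOf K : Set ↥K))
    (hGH : ∃ C : Subgroup (G ⧸ H), Cfsg.IsFrobeniusComplement C ∧ Cfsg.frobeniusKernel C = (K.map (QuotientGroup.mk' H) : Set (G ⧸ H))) :
    Group.IsSolvable G ∧ Odd (Nat.card (↥K ⧸ H.subgroupOf K)) ∧
      Nat.Coprime (Nat.card (↥K ⧸ H.subgroupOf K)) (Nat.card ↥H * Nat.card (G ⧸ K)) ∧ IsCyclic (G ⧸ K) ∧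
      ∀ p q : ℕ, p.Prime → q.Prime → p ≠ q → p ∣ Nat.card G → q ∣ Nat.card G →
        ((∃ g : G, orderOf g = p * q) ↔ (p ∣ Nat.card (↥K ⧸ H.subgroupOf K) ↔ q ∣ Nat.card (↥K ⧸ H.subgroupOf K))) :=
  main (fun _ _ _ C hC => Cfsg.Agent.S0042.result C hC) H K hlt hK hGH

end Cfsg.Agent.S4001
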