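import Mathlib
import Cfsg.Statements.S4002
import Cfsg.Agent.S3633
-- import your own Cfsg.Agent.* helpers here

set_option autoImplicit false
open Cfsg

namespace Cfsg.Agent.S4002

/-- three primes `≤ n` with pairwise products `> n`, for `n ≥ 7` -/
theorem exists_three_primes (n : ℕ) (hn : 7 ≤ n) :
    ∃ p q r : ℕ, p.Prime ∧ q.Prime ∧ r.Prime ∧ p ≠ q ∧ p ≠ r ∧ q ≠ r ∧ p ≤ n ∧ q ≤ n ∧ r ≤ n ∧
      n < p * q ∧ n < p * r ∧ n < q * r := by
  by_cases h14 : n ≤ 14
  · exact ⟨3, 5, 7, by norm_num, by norm_num, by norm_num, by norm_num, by norm_num, by norm_num,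
      by omega, by omega, by omega, by omega, by omega, by omega⟩
  by_cases h31 : n ≤ 31
  · exact ⟨5, 7, 11, by norm_num, by norm_num, by norm_num, by norm_num, by norm_num, by norm_num,
      by omega, by omega, by omega, by omega, by omega, by omega⟩
  -- n ≥ 32: Bertrand three times
  obtain ⟨p, hp, hp1, hp2⟩ := Nat.exists_prime_lt_and_le_two_mul (n / 2) (by omega)
  obtain ⟨q, hq, hq1, hq2⟩ := Nat.exists_prime_lt_and_le_two_mul (n / 2 / 2) (by omega)
  obtain ⟨r, hr, hr1, hr2⟩ := Nat.exists_prime_lt_and_le_two_mul (n / 2 / 2 / 2) (by omega)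
  refine ⟨p, q, r, hp, hq, hr, by omega, by omega, by omega, by omega, by omega, by omega, ?_, ?_, ?_⟩
  · have h5 : 5 ≤ q := by omega
    calc n < p * 5 := by omega
      _ ≤ p * q := Nat.mul_le_mul_left p h5
  · have h5 : 5 ≤ r := by omega
    calc n < p * 5 := by omega
      _ ≤ p * r := Nat.mul_le_mul_left p h5
  · have h5 : 5 ≤ r := by omega
    calc n < q * 5 := by omega
      _ ≤ q * r := Nat.mul_le_mul_left q h5

/-- If the set of element orders of a finite group G is {1, 2, …, n} with n ≥ 7, then G is not solvable. -/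
theorem result {G : Type*} [Group G] [Finite G] (n : ℕ) (hn : 7 ≤ n) (h : Set.range (orderOf : G → ℕ) = {k : ℕ | 1 ≤ k ∧ k ≤ n}) : ¬ Group.IsSolvable G := by
  obtain ⟨p, q, r, hp, hq, hr, hpq, hpr, hqr, hpn, hqn, hrn, h1, h2, h3⟩ := exists_three_primes n hn
  have hdvd : ∀ s : ℕ, s.Prime → s ≤ n → s ∣ Nat.card G := by
    intro s hs hsn
    have : s ∈ Set.range (orderOf : G → ℕ) := by
      rw [h]
      exact ⟨hs.one_lt.le, hsn⟩
    obtain ⟨x, hx⟩ := this
    rw [← hx]
    exact orderOf_dvd_natCard x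
  have hno : ∀ m : ℕ, n < m → ¬ ∃ x : G, orderOf x = m := by
    rintro m hm ⟨x, hx⟩
    have : orderOf x ∈ Set.range (orderOf : G → ℕ) := ⟨x, rfl⟩
    rw [h, hx] at this
    exact absurd this.2 (by omega)
  have hcard : 3 ≤ ({p, q, r} : Finset ℕ).card := by
    rw [Finset.card_insert_of_notMem (by simp [hpq, hpr]),
      Finset.card_insert_of_notMem (by simp [hqr]), Finset.card_singleton]
  have key := Cfsg.Agent.S3633.result (G := G) ({p, q, r} : Finset ℕ) hcard ?_ (⊥ : Subgroup G)
    inferInstance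
  · exact key.2
  · constructor
    · intro s hs
      simp only [Finset.mem_insert, Finset.mem_singleton] at hs
      rcases hs with rfl | rfl | rfl
      · exact ⟨hp, hdvd _ hp hpn⟩
      · exact ⟨hq, hdvd _ hq hqn⟩
      · exact ⟨hr, hdvd _ hr hrn⟩
    · intro s hs u hu hsu
      simp only [Finset.mem_insert, Finset.mem_singleton] at hs hu
      apply hno
      rcases hs with rfl | rfl | rfl <;> rcases hu with rfl | rfl | rfl
      · exact absurd rfl hsu
      · exact h1
      · exact h2
      · rw [mul_comm]; exact h1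
      · exact absurd rfl hsu
      · exact h3
      · rw [mul_comm]; exact h2
      · rw [mul_comm]; exact h3
      · exact absurd rfl hsu

end Cfsg.Agent.S4002
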