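import Cfsg.Statements.S4004
-- import your own Cfsg.Agent.* helpers here
import Cfsg.Agent.Lib.Helper22.NseB
import Cfsg.Agent.Lib.Helper22.NseC
import Cfsg.Agent.Lib.Helper1.MinNormal
import Cfsg.Agent.S3996

set_option autoImplicit false
open Cfsg

namespace Cfsg.Agent.S4004

open Cfsg.Agent.S3995 Cfsg.Agent.Lib.Helper22.NseA Cfsg.Agent.Lib.Helper22.NseB
  Cfsg.Agent.Lib.Helper22.NseC

theorem order_cases (n p q : ℕ) (honly : ∀ r : ℕ, r.Prime → r ∣ n → r = p ∨ r = q)
    (h1 : ¬ p ^ 2 ∣ n) (h2 : ¬ q ^ 2 ∣ n) (h3 : ¬ p * q ∣ n) : n = 1 ∨ n = p ∨ n = q := by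
  by_cases hn1 : n = 1
  · exact Or.inl hn1
  right
  obtain ⟨r, hr, hrn⟩ := Nat.exists_prime_and_dvd hn1
  obtain ⟨m, rfl⟩ := hrn
  have hm : m = 1 := by
    by_contra hm1
    obtain ⟨r', hr', hr'm⟩ := Nat.exists_prime_and_dvd hm1
    have hr'n : r' ∣ r * m := hr'm.mul_left r
    have hrr' : r * r' ∣ r * m := Nat.mul_dvd_mul_left r hr'm
    rcases honly r hr (dvd_mul_right r m) with rfl | rfl
    · rcases honly r' hr' hr'n with rfl | rfl
      · exact h1 (by rw [pow_two]; exact hrr')
      · exact h3 hrr'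
    · rcases honly r' hr' hr'n with rfl | rfl
      · exact h3 (by rw [mul_comm]; exact hrr')
      · exact h2 (by rw [pow_two]; exact hrr')
  subst hm
  rw [mul_one]
  exact honly r hr (by simp)

theorem exists_orderOf_eq_of_dvd {G : Type*} [Group G] [Finite G] (g : G) (d : ℕ)
    (hd : d ∣ orderOf g) : ∃ h : G, orderOf h = d := by
  have hpos : 0 < orderOf g := orderOf_pos g
  obtain ⟨c, hc⟩ := hd
  have hc0 : c ≠ 0 := by
    rintro rfl
    rw [mul_zero] at hc
    omega
  refine ⟨g ^ c, ?_⟩
  rw [orderOf_pow_of_dvd hc0 ⟨d, by rw [hc, mul_comm]⟩, hc]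
  exact Nat.mul_div_cancel _ (Nat.pos_of_ne_zero hc0)

/-- Let G be a finite group of odd order in which the numbers of elements of each order that occurs (the numbers #{g : o(g) = m}, m ranging over the element orders of G) take exactly three different values. Then the order of G has at most two prime divisors; and if it has exactly two, then every Sylow subgroup of G for a prime dividing its order has prime exponent, G is a Frobenius group, and some Frobenius complement of G has prime order. -/
theorem result {G : Type*} [Group G] [Finite G] (hodd : Odd (Nat.card G)) (h : (((fun m : ℕ => Nat.card {g : G // orderOf g = m}) '' Set.range (orderOf : G → ℕ))).ncard = 3) :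
    (Nat.card G).primeFactors.card ≤ 2 ∧
      ((Nat.card G).primeFactors.card = 2 →
        (∀ (p : ℕ) [Fact p.Prime] (P : Sylow p G), p ∣ Nat.card G → Monoid.exponent ↥(P : Subgroup G) = p) ∧
        ∃ C : Subgroup G, Cfsg.IsFrobeniusComplement C ∧ (Nat.card ↥C).Prime) := by
  have h1 : (1 : ℕ) ∈ ((fun m : ℕ => Nat.card {g : G // orderOf g = m}) '' Set.range (orderOf : G → ℕ)) :=
    ⟨1, ⟨1, orderOf_one⟩, cnt_one⟩
  obtain ⟨x, y, z, hxy, hxz, hyz, hV⟩ := Set.ncard_eq_three.1 h
  have key : ∃ m n, ∀ g : G, cnt G (orderOf g) = 1 ∨ cnt G (orderOf g) = m ∨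
      cnt G (orderOf g) = n := by
    have hmem : ∀ g : G, cnt G (orderOf g) ∈ ({x, y, z} : Set ℕ) := by
      intro g
      rw [← hV]
      exact ⟨orderOf g, ⟨g, rfl⟩, rfl⟩
    have h1' : (1 : ℕ) ∈ ({x, y, z} : Set ℕ) := hV ▸ h1
    simp only [Set.mem_insert_iff, Set.mem_singleton_iff] at hmem h1'
    rcases h1' with rfl | rfl | rfl
    · exact ⟨y, z, hmem⟩
    · exact ⟨x, z, fun g => by have := hmem g; tauto⟩
    · exact ⟨x, y, fun g => by have := hmem g; tauto⟩
  obtain ⟨m, n, hW⟩ := key
  have h2 : ¬ 2 ∣ Nat.card G := by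
    rw [← even_iff_two_dvd, Nat.not_even_iff_odd]
    exact hodd
  have hr2 : ∀ r : ℕ, r ∣ Nat.card G → r ≠ 2 := by
    rintro r hr rfl
    exact h2 hr
  have hN0 : Nat.card G ≠ 0 := Nat.card_pos.ne'
  constructor
  · by_contra hcard
    push Not at hcard
    obtain ⟨p, hp, q, hq, r, hr, hpq, hpr, hqr⟩ := Finset.two_lt_card.1 hcard
    have hp' := Nat.prime_of_mem_primeFactors hp
    have hq' := Nat.prime_of_mem_primeFactors hq
    have hr' := Nat.prime_of_mem_primeFactors hr
    have hpd := Nat.dvd_of_mem_primeFactors hp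
    have hqd := Nat.dvd_of_mem_primeFactors hq
    have hrd := Nat.dvd_of_mem_primeFactors hr
    exact claim1 m n hW hp' hq' hr' hpq hpr hqr (hr2 p hpd) (hr2 q hqd) (hr2 r hrd) hpd hqd hrd
  · intro h2card
    obtain ⟨p, q, hpq, hpf⟩ := Finset.card_eq_two.1 h2card
    have hp : p ∈ (Nat.card G).primeFactors := by rw [hpf]; simp
    have hq : q ∈ (Nat.card G).primeFactors := by rw [hpf]; simp
    have hp' := Nat.prime_of_mem_primeFactors hp
    have hq' := Nat.prime_of_mem_primeFactors hq
    have hpd := Nat.dvd_of_mem_primeFactors hp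
    have hqd := Nat.dvd_of_mem_primeFactors hq
    have hp2 := hr2 p hpd
    have hq2 := hr2 q hqd
    have honly : ∀ s : ℕ, s.Prime → s ∣ Nat.card G → s = p ∨ s = q := by
      intro s hs hsd
      have : s ∈ (Nat.card G).primeFactors := Nat.mem_primeFactors.2 ⟨hs, hsd, hN0⟩
      rw [hpf] at this
      simpa using this
    have hne : cnt G p ≠ cnt G q := by
      intro hc
      have hW' := same_vals m n hW hp' hq' hpq hp2 hpd hqd hc
      exact two_same _ _ hW' hp' hq' hpq hp2 hpd hqd rfl hc.symm honly h2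
    obtain ⟨g1, hg1⟩ := exists_of_cnt_ne_zero (cnt_prime_ne_zero hp' hpd)
    obtain ⟨g2, hg2⟩ := exists_of_cnt_ne_zero (cnt_prime_ne_zero hq' hqd)
    have hp3 : 3 ≤ p := by
      have := hp'.two_le
      omega
    have hq3 : 3 ≤ q := by
      have := hq'.two_le
      omega
    have hW1 : ∀ g : G, cnt G (orderOf g) = 1 ∨ cnt G (orderOf g) = cnt G p ∨
        cnt G (orderOf g) = cnt G q := by
      intro g
      have := vals_of_two m n hW g1 g2 (cnt_ne_one g1 (by rw [hg1]; exact hp3))
        (cnt_ne_one g2 (by rw [hg2]; exact hq3)) (by rw [hg1, hg2]; exact hne) g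
      rwa [hg1, hg2] at this
    have hW2 : ∀ g : G, cnt G (orderOf g) = 1 ∨ cnt G (orderOf g) = cnt G q ∨
        cnt G (orderOf g) = cnt G p := by
      intro g
      have := hW1 g
      tauto
    have hnosq_q : ∀ g : G, orderOf g ≠ q ^ 2 :=
      no_sq_two _ _ hW1 hp' hq' hpq hp2 hpd hqd rfl rfl
    have hnosq_p : ∀ g : G, orderOf g ≠ p ^ 2 :=
      no_sq_two _ _ hW2 hq' hp' hpq.symm hq2 hqd hpd rfl rfl
    have hnopq : ∀ g : G, orderOf g ≠ p * q := by
      intro g hg
      have h0 := no_pq _ _ hW1 hp' hq' hpq hp2 hq2 hpd hqd rfl rfl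
      rw [← hg] at h0
      exact cnt_pos_of g h0
    have hord : ∀ g : G, orderOf g = 1 ∨ orderOf g = p ∨ orderOf g = q := by
      intro g
      apply order_cases
      · intro r hr hrd
        exact honly r hr (hrd.trans (orderOf_dvd_natCard g))
      · intro hd
        obtain ⟨h', hh'⟩ := exists_orderOf_eq_of_dvd g _ hd
        exact hnosq_p h' hh'
      · intro hd
        obtain ⟨h', hh'⟩ := exists_orderOf_eq_of_dvd g _ hd
        exact hnosq_q h' hh'
      · intro hd
        obtain ⟨h', hh'⟩ := exists_orderOf_eq_of_dvd g _ hd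
        exact hnopq h' hh'
    constructor
    · intro r hrF P hrd
      have hr := hrF.1
      have hx : ∀ x : (P : Subgroup G), x ^ r = 1 := by
        intro x
        obtain ⟨k, hk⟩ := P.2 x
        have hdk : orderOf x ∣ r ^ k := orderOf_dvd_of_pow_eq_one hk
        have hco : orderOf (x : G) = orderOf x := Subgroup.orderOf_coe x
        have hcase : orderOf x = 1 ∨ orderOf x = r := by
          rcases hord (x : G) with h' | h' | h'
          · left; rw [← hco]; exact h'
          · right
            rw [hco] at h'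
            rw [h'] at hdk ⊢
            exact (Nat.prime_dvd_prime_iff_eq hp' hr).1 (hp'.dvd_of_dvd_pow hdk)
          · right
            rw [hco] at h'
            rw [h'] at hdk ⊢
            exact (Nat.prime_dvd_prime_iff_eq hq' hr).1 (hq'.dvd_of_dvd_pow hdk)
        rcases hcase with h' | h'
        · rw [orderOf_eq_one_iff] at h'
          rw [h', one_pow]
        · have := pow_orderOf_eq_one x
          rwa [h'] at this
      have hdvd : Monoid.exponent (P : Subgroup G) ∣ r :=
        Monoid.exponent_dvd_of_forall_pow_eq_one hx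
      rcases (Nat.dvd_prime hr).1 hdvd with h' | h'
      · exfalso
        rw [Monoid.exp_eq_one_iff] at h'
        have hbot : (P : Subgroup G) = ⊥ := Subgroup.eq_bot_of_subsingleton _
        exact P.ne_bot_of_dvd_card hrd hbot
      · exact h'
    · haveI : Group.IsSolvable G := Cfsg.Agent.S3996.solvable_of_primes hp' hq' honly
      haveI : Nontrivial G := by
        rw [← Finite.one_lt_card_iff_nontrivial]
        have := Nat.le_of_dvd Nat.card_pos hpd
        omega
      obtain ⟨V, hVn, hV1, hVmin⟩ := Cfsg.Agent.Lib.Helper1.exists_minimal_normal (G := G)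
      haveI := hVn
      obtain ⟨hVc, r, hr, hVr⟩ := Cfsg.Agent.Lib.Helper1.minimal_normal_of_solvable V hV1 hVmin
      haveI := hVc
      obtain ⟨w, hw⟩ := (Subgroup.ne_bot_iff_exists_ne_one (H := V)).1 hV1
      have hwr : orderOf (w : G) = r := by
        rcases (Nat.dvd_prime hr).1 (orderOf_dvd_of_pow_eq_one (hVr w w.2)) with h' | h'
        · exfalso
          apply hw
          exact Subtype.ext (orderOf_eq_one_iff.1 h')
        · exact h'
      have hrd : r ∣ Nat.card G := hwr ▸ orderOf_dvd_natCard (w : G)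
      haveI : Fact p.Prime := ⟨hp'⟩
      haveI : Fact q.Prime := ⟨hq'⟩
      rcases honly r hr hrd with rfl | rfl
      · exact struct_aux r q hpq hord hqd V hV1 hVr
      · have hord' : ∀ g : G, orderOf g = 1 ∨ orderOf g = r ∨ orderOf g = p := by
          intro g
          have := hord g
          tauto
        exact struct_aux r p hpq.symm hord' hpd V hV1 hVr

end Cfsg.Agent.S4004
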