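import Mathlib
import Cfsg.Statements.S4005
import Cfsg.Agent.Lib.Helper22.Burnside
import Cfsg.Agent.Lib.Helper22.Sylow

set_option autoImplicit false
open Cfsg

namespace Cfsg.Agent.S4005

theorem comm_of_sq {G : Type*} [Group G] (a b : G) (ha : a ^ 2 = 1) (hb : b ^ 2 = 1)
    (hab : (a * b) ^ 2 = 1) : a * b = b * a := by
  have h1 : a⁻¹ = a := by
    rw [inv_eq_iff_mul_eq_one, ← pow_two, ha]
  have h2 : b⁻¹ = b := by
    rw [inv_eq_iff_mul_eq_one, ← pow_two, hb]
  have h3 : (a * b)⁻¹ = a * b := by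
    rw [inv_eq_iff_mul_eq_one, ← pow_two, hab]
  rw [mul_inv_rev, h1, h2] at h3
  exact h3.symm

theorem comm_algebra {A : Type*} [CommGroup A] (a b c e f h i : A)
    (e1 : b * e * h = 1) (e2 : c * f * i = 1) (r1 : a * b * c = 1) (r2 : a * e * i = 1)
    (r3 : a * h * f = 1) (ha : a ^ 2 = 1) : a = 1 := by
  have h1 : a * a * a * ((b * e * h) * (c * f * i)) = (a * b * c) * (a * e * i) * (a * h * f) := by
    ac_rfl
  rw [e1, e2, r1, r2, r3] at h1
  simp only [mul_one] at h1
  have h2 : a * a = 1 := by rw [← pow_two, ha]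
  rw [h2, one_mul] at h1
  exact h1

theorem case_two {G : Type*} [Group G] [Finite G]
    (ho : ∀ g : G, orderOf g = 1 ∨ orderOf g = 2 ∨ orderOf g = 3)
    (S : Sylow 2 G) (hS : Nat.card S = 2) (t : G) (ht : orderOf t = 2) :
    ∃ N : Subgroup G, N.Normal ∧ Cfsg.IsElementaryAbelian 3 N ∧ N.index = 2 := by
  have hNC : Subgroup.normalizer ((S : Subgroup G) : Set G) ≤
      Subgroup.centralizer ((S : Subgroup G) : Set G) := by
    intro g hg
    rw [Subgroup.mem_centralizer_iff]
    intro y hy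
    have hy' : y ∈ (S : Subgroup G) := hy
    by_cases hy1 : y = 1
    · subst hy1; simp
    · have h1 : g * y * g⁻¹ ∈ (S : Subgroup G) := (Subgroup.mem_normalizer_iff.1 hg y).1 hy'
      have h2 : g * y * g⁻¹ ≠ 1 := by
        intro h
        apply hy1
        have : g * y * g⁻¹ = g * 1 * g⁻¹ := by rw [h]; simp
        simpa using this
      have h3 : ∀ a b : (S : Subgroup G), a ≠ 1 → b ≠ 1 → a = b := by
        intro a b ha hb
        by_contra hab
        have : 2 < Nat.card (S : Subgroup G) := by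
          have : Fintype (S : Subgroup G) := Fintype.ofFinite _
          rw [Nat.card_eq_fintype_card, Fintype.two_lt_card_iff]
          exact ⟨1, a, b, ha.symm, hb.symm, hab⟩
        omega
      have h4 := h3 ⟨g * y * g⁻¹, h1⟩ ⟨y, hy'⟩ (by
        intro h; apply h2; exact congrArg Subtype.val h) (by
        intro h; apply hy1; exact congrArg Subtype.val h)
      have h5 : g * y * g⁻¹ = y := congrArg Subtype.val h4
      have h6 : g * y = y * g := by
        calc g * y = (g * y * g⁻¹) * g := by group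
          _ = y * g := by rw [h5]
      exact h6.symm
  obtain ⟨K, hKn, hKc, hKmem⟩ := Cfsg.Agent.Lib.Helper22.burnside_type 2 S hNC
  have htK : t ∉ K := by
    intro h
    have := (hKmem t).1 h
    rw [ht] at this
    norm_num at this
  have hK3 : ∀ x ∈ K, x ^ 3 = 1 := by
    intro x hx
    have h1 := (hKmem x).1 hx
    rcases ho x with h | h | h
    · rw [orderOf_eq_one_iff] at h; rw [h, one_pow]
    · rw [h] at h1; norm_num at h1
    · rw [← h]; exact pow_orderOf_eq_one x
  have ht2 : t * t = 1 := by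
    rw [← pow_two, ← ht]; exact pow_orderOf_eq_one t
  have hinv : ∀ x ∈ K, t * x * t = x⁻¹ := by
    intro x hx
    have h1 : t * x ∉ K := by
      intro h
      apply htK
      have := K.mul_mem h (K.inv_mem hx)
      simpa using this
    have h2 : ¬ (orderOf (t * x)).Coprime 2 := fun h => h1 ((hKmem _).2 h)
    have h3 : orderOf (t * x) = 2 := by
      rcases ho (t * x) with h | h | h
      · rw [h] at h2; norm_num at h2
      · exact h
      · rw [h] at h2; norm_num at h2
    have h4 : (t * x) ^ 2 = 1 := by rw [← h3]; exact pow_orderOf_eq_one _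
    rw [pow_two] at h4
    have h5 : t * x * t = x⁻¹ * (x * (t * x * (t * x))) * (x⁻¹ * (t * t) * x) * x⁻¹ := by
      rw [ht2]; group
    rw [h5, h4, ht2]; group
  refine ⟨K, hKn, ⟨⟨⟨?_⟩⟩, ?_⟩, ?_⟩
  · rintro ⟨a, ha⟩ ⟨b, hb⟩
    apply Subtype.ext
    show a * b = b * a
    have h1 := hinv a ha
    have h2 := hinv b hb
    have h3 := hinv (a * b) (K.mul_mem ha hb)
    have h4 : t * (a * b) * t = (t * a * t) * (t * b * t) := by
      calc t * (a * b) * t = t * a * 1 * b * t := by group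
        _ = t * a * (t * t) * b * t := by rw [ht2]
        _ = (t * a * t) * (t * b * t) := by group
    rw [h3, h1, h2] at h4
    have h5 : (a * b)⁻¹⁻¹ = (a⁻¹ * b⁻¹)⁻¹ := by rw [h4]
    rw [inv_inv, mul_inv_rev, inv_inv, inv_inv] at h5
    exact h5
  · exact hK3
  · rw [hKc.symm.index_eq_card]; exact hS

theorem sq_of_mem {G : Type*} [Group G] [Finite G]
    (ho : ∀ g : G, orderOf g = 1 ∨ orderOf g = 2 ∨ orderOf g = 3)
    (Q : Sylow 2 G) (s : G) (hs : s ∈ Q) : s ^ 2 = 1 := by
  obtain ⟨k, hk⟩ := Q.2 ⟨s, hs⟩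
  have h1 : s ^ (2 ^ k) = 1 := by
    have := congrArg Subtype.val hk
    simpa using this
  have h2 : orderOf s ∣ 2 ^ k := orderOf_dvd_of_pow_eq_one h1
  rcases ho s with h | h | h
  · rw [orderOf_eq_one_iff] at h; rw [h, one_pow]
  · rw [← h]; exact pow_orderOf_eq_one s
  · rw [h] at h2
    have := Nat.Prime.dvd_of_dvd_pow Nat.prime_three h2
    omega

theorem comm_sylow {G : Type*} [Group G] [Finite G]
    (ho : ∀ g : G, orderOf g = 1 ∨ orderOf g = 2 ∨ orderOf g = 3)
    (Q : Sylow 2 G) (a b : G) (ha : a ∈ Q) (hb : b ∈ Q) : a * b = b * a :=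
  comm_of_sq a b (sq_of_mem ho Q a ha) (sq_of_mem ho Q b hb)
    (sq_of_mem ho Q (a * b) (Q.mul_mem ha hb))

theorem f1 {G : Type*} [Group G] [Finite G]
    (ho : ∀ g : G, orderOf g = 1 ∨ orderOf g = 2 ∨ orderOf g = 3)
    (t : G) (ht : orderOf t = 2) (g : G) (hc : Commute t g) : g ^ 2 = 1 := by
  rcases ho g with h | h | h
  · rw [orderOf_eq_one_iff] at h; rw [h, one_pow]
  · rw [← h]; exact pow_orderOf_eq_one g
  · exfalso
    have h1 := hc.orderOf_mul_eq_mul_orderOf_of_coprime (by rw [ht, h]; norm_num)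
    rw [ht, h] at h1
    rcases ho (t * g) with h' | h' | h' <;> omega

theorem f2 {G : Type*} [Group G] [Finite G]
    (ho : ∀ g : G, orderOf g = 1 ∨ orderOf g = 2 ∨ orderOf g = 3)
    (Q : Sylow 2 G) (t : G) (htQ : t ∈ Q) (ht1 : t ≠ 1) (g : G) (hc : Commute t g) : g ∈ Q := by
  have ht : orderOf t = 2 := by
    have h1 := sq_of_mem ho Q t htQ
    have h2 : orderOf t ∣ 2 := orderOf_dvd_of_pow_eq_one h1
    rcases (Nat.dvd_prime Nat.prime_two).1 h2 with h | h
    · exfalso; exact ht1 (orderOf_eq_one_iff.1 h)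
    · exact h
  have hC : IsPGroup 2 (Subgroup.centralizer ({t} : Set G)) := by
    rintro ⟨y, hy⟩
    refine ⟨1, ?_⟩
    apply Subtype.ext
    have hy' : Commute t y := by
      rw [Subgroup.mem_centralizer_iff] at hy
      exact hy t rfl
    have := f1 ho t ht y hy'
    simpa using this
  obtain ⟨Q', hQ'⟩ := hC.exists_le_sylow
  have hQC : (Q : Subgroup G) ≤ Subgroup.centralizer ({t} : Set G) := by
    intro y hy
    rw [Subgroup.mem_centralizer_iff]
    intro z hz
    rw [Set.mem_singleton_iff] at hz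
    subst hz
    exact comm_sylow ho Q z y htQ hy
  have h1 : (Q' : Subgroup G) = Q := Q.3 Q'.2 (hQC.trans hQ')
  have h2 : g ∈ Subgroup.centralizer ({t} : Set G) := by
    rw [Subgroup.mem_centralizer_iff]
    intro z hz
    rw [Set.mem_singleton_iff] at hz
    subst hz
    exact hc
  have := hQ' h2
  rw [h1] at this
  exact this

theorem f4 {G : Type*} [Group G] [Finite G]
    (ho : ∀ g : G, orderOf g = 1 ∨ orderOf g = 2 ∨ orderOf g = 3)
    (Q Q' : Sylow 2 G) (t : G) (htQ : t ∈ Q) (htQ' : t ∈ Q') (ht1 : t ≠ 1) : Q = Q' := by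
  have h1 : (Q' : Subgroup G) ≤ Q := by
    intro g hg
    exact f2 ho Q t htQ ht1 g (comm_sylow ho Q' t g htQ' hg)
  exact Sylow.ext (Q'.3 Q.2 h1)

theorem smul_eq_of_ne {G : Type*} [Group G] [Finite G]
    (ho : ∀ g : G, orderOf g = 1 ∨ orderOf g = 2 ∨ orderOf g = 3)
    (S S' : Sylow 2 G) (hne : S ≠ S') (t u : G) (htS : t ∈ S) (ht1 : t ≠ 1)
    (huS' : u ∈ S') (hu1 : u ≠ 1) : t • S' = u • S := by
  have huS : u ∉ S := fun h => hne (f4 ho S S' u h huS' hu1)
  have ht2 : t * t = 1 := by rw [← pow_two]; exact sq_of_mem ho S t htS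
  have hu2 : u * u = 1 := by rw [← pow_two]; exact sq_of_mem ho S' u huS'
  have h3 : (t * u) ^ 3 = 1 := by
    rcases ho (t * u) with h | h | h
    · exfalso
      rw [orderOf_eq_one_iff] at h
      apply huS
      have : u = t⁻¹ := by
        rw [eq_inv_iff_mul_eq_one, ← h]
        calc u * t = (t * t) * u * t := by rw [ht2, one_mul]
          _ = t * (t * u) * t := by group
          _ = t * u := by rw [h]; simp [ht2]
      rw [this]; exact S.inv_mem htS
    · exfalso
      apply huS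
      have h1 : (t * u) ^ 2 = 1 := by rw [← h]; exact pow_orderOf_eq_one _
      have h2 : t * u = u * t := comm_of_sq t u (by rw [pow_two, ht2]) (by rw [pow_two, hu2]) h1
      exact f2 ho S t htS ht1 u h2
    · rw [← h]; exact pow_orderOf_eq_one _
  have hw : t * u * t = u * t * u := by
    have h4 : t * u * (t * u) * (t * u) = 1 := by
      rw [← h3, pow_succ, pow_two]
    have h5 : u * t * u * (u * t * u) = 1 := by
      calc u * t * u * (u * t * u) = u * t * (u * u) * t * u := by group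
        _ = u * (t * t) * u := by rw [hu2]; group
        _ = 1 := by rw [ht2, mul_one, hu2]
    calc t * u * t = t * u * t * (u * t * u * (u * t * u)) := by rw [h5, mul_one]
      _ = (t * u * (t * u) * (t * u)) * (u * t * u) := by group
      _ = u * t * u := by rw [h4, one_mul]
  have hw1 : t * u * t ≠ 1 := by
    intro h
    apply hu1
    calc u = (t * t) * u * (t * t) := by rw [ht2]; group
      _ = t * (t * u * t) * t := by group
      _ = 1 := by rw [h]; simp [ht2]
  have hwa : t * u * t ∈ ((t • S' : Sylow 2 G) : Subgroup G) := by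
    rw [Cfsg.Agent.Lib.Helper22.mem_smul_sylow_iff]
    have : t⁻¹ * (t * u * t) * t = u * (t * t) := by group
    rw [this, ht2, mul_one]
    exact huS'
  have hwb : t * u * t ∈ ((u • S : Sylow 2 G) : Subgroup G) := by
    rw [hw, Cfsg.Agent.Lib.Helper22.mem_smul_sylow_iff]
    have : u⁻¹ * (u * t * u) * u = t * (u * u) := by group
    rw [this, hu2, mul_one]
    exact htS
  exact f4 ho _ _ _ hwa hwb hw1

theorem unique_sylow {G : Type*} [Group G] [Finite G]
    (ho : ∀ g : G, orderOf g = 1 ∨ orderOf g = 2 ∨ orderOf g = 3)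
    (S : Sylow 2 G) (hS : 2 < Nat.card S) (S' : Sylow 2 G) : S = S' := by
  by_contra hne
  have : Fintype (S : Subgroup G) := Fintype.ofFinite _
  rw [Nat.card_eq_fintype_card, Fintype.two_lt_card_iff] at hS
  obtain ⟨a, b, c, hab, hac, hbc⟩ := hS
  have key : ∃ t t' : (S : Subgroup G), t ≠ 1 ∧ t' ≠ 1 ∧ t ≠ t' := by
    by_cases ha : a = 1
    · refine ⟨b, c, ?_, ?_, hbc⟩
      · rw [← ha]; exact hab.symm
      · rw [← ha]; exact hac.symm
    · by_cases hb : b = 1
      · refine ⟨a, c, ha, ?_, hac⟩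
        rw [← hb]; exact hbc.symm
      · exact ⟨a, b, ha, hb, hab⟩
  obtain ⟨⟨t, htS⟩, ⟨t', ht'S⟩, ht1, ht'1, htt'⟩ := key
  have ht1' : t ≠ 1 := fun h => ht1 (Subtype.ext h)
  have ht'1' : t' ≠ 1 := fun h => ht'1 (Subtype.ext h)
  have htt'' : t ≠ t' := fun h => htt' (Subtype.ext h)
  obtain ⟨g, hg⟩ := MulAction.exists_smul_eq G S S'
  have huS' : g * t * g⁻¹ ∈ S' := by
    rw [← hg]
    show g * t * g⁻¹ ∈ ((g • S : Sylow 2 G) : Subgroup G)
    rw [Cfsg.Agent.Lib.Helper22.mem_smul_sylow_iff]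
    have : g⁻¹ * (g * t * g⁻¹) * g = t := by group
    rw [this]; exact htS
  have hu1 : g * t * g⁻¹ ≠ 1 := by
    intro h
    apply ht1'
    calc t = g⁻¹ * (g * t * g⁻¹) * g := by group
      _ = 1 := by rw [h]; group
  have e1 := smul_eq_of_ne ho S S' hne t _ htS ht1' huS' hu1
  have e2 := smul_eq_of_ne ho S S' hne t' _ ht'S ht'1' huS' hu1
  have e3 : (t'⁻¹ * t) • S' = S' := by
    rw [mul_smul, e1, ← e2, inv_smul_smul]
  rw [Sylow.smul_eq_iff_mem_normalizer] at e3
  have h1 : t'⁻¹ * t ∈ (S : Subgroup G) ⊓ (S' : Subgroup G) :=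
    (S.2.inf_normalizer_sylow S').le ⟨S.mul_mem (S.inv_mem ht'S) htS, e3⟩
  have h2 : t'⁻¹ * t ≠ 1 := by
    intro h
    apply htt''
    have : t = t' * (t'⁻¹ * t) := by group
    rw [this, h, mul_one]
  exact hne (f4 ho S S' _ h1.1 h1.2 h2)

theorem no_big {G : Type*} [Group G] [Finite G]
    (ho : ∀ g : G, orderOf g = 1 ∨ orderOf g = 2 ∨ orderOf g = 3)
    (N : Subgroup G) (hNn : N.Normal) (hsq : ∀ s ∈ N, s ^ 2 = 1)
    (hcomm : ∀ a ∈ N, ∀ b ∈ N, a * b = b * a)
    (z y : G) (hzy : z * y = y * z) (hz : z ^ 3 = 1) (hy : y ^ 3 = 1) (hz1 : z ≠ 1) (hy1 : y ≠ 1)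
    (hzy1 : z * y ≠ 1) (hzzy1 : z * z * y ≠ 1) : ∀ s ∈ N, s = 1 := by
  let _ : CommGroup N :=
    { (inferInstance : Group N) with
      mul_comm := fun a b => Subtype.ext (hcomm a a.2 b b.2) }
  let cN : G → N → N := fun x s => ⟨x * s * x⁻¹, hNn.conj_mem s s.2 x⟩
  have c_mul : ∀ (x x' : G) (s : N), cN (x * x') s = cN x (cN x' s) := by
    intro x x' s
    apply Subtype.ext
    show x * x' * (s : G) * (x * x')⁻¹ = x * (x' * (s : G) * x'⁻¹) * x⁻¹
    group
  have c_comm : ∀ (x x' : G) (s : N), x * x' = x' * x → cN x (cN x' s) = cN x' (cN x s) := by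
    intro x x' s h
    rw [← c_mul, ← c_mul, h]
  have c_cube : ∀ (x : G) (s : N), x ^ 3 = 1 → cN x (cN x (cN x s)) = s := by
    intro x s h
    rw [← c_mul, ← c_mul]
    have : x * x * x = 1 := by rw [← h, pow_succ, pow_two]
    rw [this]
    apply Subtype.ext
    show 1 * (s : G) * 1⁻¹ = s
    group
  have c_hom : ∀ (x : G) (a b : N), cN x (a * b) = cN x a * cN x b := by
    intro x a b
    apply Subtype.ext
    show x * ((a : G) * (b : G)) * x⁻¹ = x * (a : G) * x⁻¹ * (x * (b : G) * x⁻¹)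
    group
  have rel : ∀ x : G, x ≠ 1 → x ^ 3 = 1 → ∀ s : N, s * cN x s * cN x (cN x s) = 1 := by
    intro x hx1 hx3 s
    by_contra hm
    have h1 : cN x (s * cN x s * cN x (cN x s)) = s * cN x s * cN x (cN x s) := by
      rw [c_hom, c_hom, c_cube x s hx3]
      ac_rfl
    have h2 : x * ((s * cN x s * cN x (cN x s) : N) : G) * x⁻¹ =
        ((s * cN x s * cN x (cN x s) : N) : G) := congrArg Subtype.val h1
    set m : G := ((s * cN x s * cN x (cN x s) : N) : G) with hm_def
    have hmN : m ∈ N := (s * cN x s * cN x (cN x s) : N).2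
    have hm1 : m ≠ 1 := by
      intro h
      apply hm
      apply Subtype.ext
      exact h
    have hmo : orderOf m = 2 := by
      have h3 : orderOf m ∣ 2 := orderOf_dvd_of_pow_eq_one (hsq m hmN)
      rcases (Nat.dvd_prime Nat.prime_two).1 h3 with h | h
      · exfalso; exact hm1 (orderOf_eq_one_iff.1 h)
      · exact h
    have hcm : Commute m x := by
      show m * x = x * m
      calc m * x = (x * m * x⁻¹) * x := by rw [h2]
        _ = x * m := by group
    have h4 := f1 ho m hmo x hcm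
    apply hx1
    calc x = x ^ 3 * (x ^ 2)⁻¹ := by group
      _ = 1 := by rw [hx3, h4]; simp
  intro s hs
  have hzy3 : (z * y) ^ 3 = 1 := by
    rw [(show Commute z y from hzy).mul_pow, hz, hy, one_mul]
  have hzzy3 : (z * z * y) ^ 3 = 1 := by
    have hc : Commute (z * z) y := (Commute.mul_left (show Commute z y from hzy) hzy)
    rw [hc.mul_pow, hy, mul_one, ← pow_two, ← pow_mul]
    have : z ^ (2 * 3) = (z ^ 3) ^ 2 := by rw [← pow_mul]
    rw [this, hz, one_pow]
  set s0 : N := ⟨s, hs⟩ with hs0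
  have e1 := rel z hz1 hz (cN y s0)
  have e2 := rel z hz1 hz (cN y (cN y s0))
  have r1 := rel y hy1 hy s0
  have r2 := rel (z * y) hzy1 hzy3 s0
  have r3 := rel (z * z * y) hzzy1 hzzy3 s0
  have k2 : cN (z * y) (cN (z * y) s0) = cN z (cN z (cN y (cN y s0))) := by
    rw [c_mul, c_mul, c_comm y z _ hzy.symm]
  have k3 : cN (z * z * y) (cN (z * z * y) s0) = cN z (cN y (cN y s0)) := by
    simp only [c_mul]
    rw [c_comm y z _ hzy.symm, c_comm y z _ hzy.symm, c_cube z _ hz]
  rw [k2, c_mul] at r2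
  rw [k3, c_mul, c_mul] at r3
  have hs2 : s0 ^ 2 = 1 := by
    apply Subtype.ext
    exact hsq s hs
  have := comm_algebra s0 (cN y s0) (cN y (cN y s0)) (cN z (cN y s0)) (cN z (cN y (cN y s0)))
    (cN z (cN z (cN y s0))) (cN z (cN z (cN y (cN y s0)))) e1 e2 r1 r2 r3 hs2
  exact congrArg Subtype.val this

theorem case_four {G : Type*} [Group G] [Finite G]
    (ho : ∀ g : G, orderOf g = 1 ∨ orderOf g = 2 ∨ orderOf g = 3)
    (S : Sylow 2 G) (hS : 2 < Nat.card S) (x₀ : G) (hx₀ : orderOf x₀ = 3) :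
    ∃ N : Subgroup G, N.Normal ∧ Cfsg.IsElementaryAbelian 2 N ∧ N.index = 3 := by
  have hsub : Subsingleton (Sylow 2 G) :=
    ⟨fun A B => by rw [← unique_sylow ho S hS A, ← unique_sylow ho S hS B]⟩
  have hSn : (S : Subgroup G).Normal := Sylow.normal_of_subsingleton S
  refine ⟨S, hSn, ⟨⟨⟨fun a b => Subtype.ext (comm_sylow ho S a b a.2 b.2)⟩⟩,
    fun a ha => sq_of_mem ho S a ha⟩, ?_⟩
  have hprime : ∀ q : ℕ, q.Prime → q ∣ Nat.card G → q = 2 ∨ q = 3 := by
    intro q hq hdvd
    have := Fact.mk hq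
    obtain ⟨g, hg⟩ := exists_prime_orderOf_dvd_card' q hdvd
    rcases ho g with h | h | h
    · rw [hg] at h; exact absurd h hq.ne_one
    · left; rw [← hg, h]
    · right; rw [← hg, h]
  have hidx : ∀ q : ℕ, q.Prime → q ∣ (S : Subgroup G).index → q = 3 := by
    intro q hq hdvd
    rcases hprime q hq (hdvd.trans (Subgroup.index_dvd_card _)) with h | h
    · exfalso; subst h; exact S.not_dvd_index hdvd
    · exact h
  have hidx0 : (S : Subgroup G).index ≠ 0 := Subgroup.index_ne_zero_of_finite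
  have hpow := Nat.eq_prime_pow_of_unique_prime_dvd hidx0 (fun {q} hq hd => hidx q hq hd)
  set k := ((S : Subgroup G).index).primeFactorsList.length with hk
  have h3dvd : 3 ∣ (S : Subgroup G).index := by
    have h1 : 3 ∣ Nat.card G := by rw [← hx₀]; exact orderOf_dvd_natCard x₀
    rw [← Subgroup.card_mul_index (S : Subgroup G)] at h1
    obtain ⟨a, ha⟩ := IsPGroup.iff_card.1 S.2
    rw [ha] at h1
    have hc : Nat.Coprime 3 (2 ^ a) := Nat.Coprime.pow_right a (by norm_num)
    exact hc.dvd_of_dvd_mul_left h1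
  have hk0 : k ≠ 0 := by
    intro h
    rw [h, pow_zero] at hpow
    rw [hpow] at h3dvd
    norm_num at h3dvd
  by_cases hk1 : k = 1
  · rw [hpow, hk1, pow_one]
  exfalso
  have hk2 : 2 ≤ k := by omega
  have h9 : 3 ^ 2 ∣ Nat.card G := by
    have h1 : 3 ^ 2 ∣ 3 ^ k := pow_dvd_pow 3 hk2
    rw [← hpow] at h1
    exact h1.trans (Subgroup.index_dvd_card _)
  obtain ⟨T, hT⟩ := Sylow.exists_subgroup_card_pow_prime 3 h9
  have hTc : IsMulCommutative T := IsPGroup.isMulCommutative_of_card_eq_prime_sq hT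
  have hT3 : ∀ x ∈ T, x ^ 3 = 1 := by
    intro x hx
    have h1 : orderOf x ∣ 3 ^ 2 := by
      rw [← hT]
      have := orderOf_dvd_natCard (⟨x, hx⟩ : T)
      rwa [Subgroup.orderOf_mk] at this
    rcases ho x with h | h | h
    · rw [orderOf_eq_one_iff] at h; rw [h, one_pow]
    · rw [h] at h1
      have := Nat.Prime.dvd_of_dvd_pow Nat.prime_two h1
      omega
    · rw [← h]; exact pow_orderOf_eq_one x
  have hTnt : Nontrivial T := by
    rw [← Finite.one_lt_card_iff_nontrivial, hT]; norm_num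
  obtain ⟨⟨z, hzT⟩, hz1⟩ := exists_ne (1 : T)
  have hz1' : z ≠ 1 := fun h => hz1 (Subtype.ext h)
  have hzo : orderOf z = 3 := by
    have h1 : orderOf z ∣ 3 := orderOf_dvd_of_pow_eq_one (hT3 z hzT)
    rcases (Nat.dvd_prime Nat.prime_three).1 h1 with h | h
    · exfalso; exact hz1' (orderOf_eq_one_iff.1 h)
    · exact h
  have hlt : Subgroup.zpowers z < T := by
    refine lt_of_le_of_ne ((Subgroup.zpowers_le).2 hzT) ?_
    intro h
    have h1 : Nat.card (Subgroup.zpowers z) = 3 := by rw [Nat.card_zpowers, hzo]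
    rw [h, hT] at h1
    norm_num at h1
  obtain ⟨y, hyT, hyz⟩ := SetLike.exists_of_lt hlt
  have hzy : z * y = y * z := by
    have := hTc.is_comm.comm (⟨z, hzT⟩ : T) ⟨y, hyT⟩
    exact congrArg Subtype.val this
  have hy1 : y ≠ 1 := by
    intro h; apply hyz; rw [h]; exact Subgroup.one_mem _
  have hzy1 : z * y ≠ 1 := by
    intro h
    apply hyz
    have : y = z⁻¹ := by
      rw [eq_inv_iff_mul_eq_one, ← hzy]; exact h
    rw [this]
    exact Subgroup.inv_mem _ (Subgroup.mem_zpowers z)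
  have hzzy1 : z * z * y ≠ 1 := by
    intro h
    apply hyz
    have : y = (z * z)⁻¹ := by
      rw [eq_inv_iff_mul_eq_one]
      calc y * (z * z) = z * y * z := by rw [hzy]; group
        _ = z * (y * z) := by group
        _ = z * z * y := by rw [← hzy]; group
        _ = 1 := h
    rw [this]
    exact Subgroup.inv_mem _ (Subgroup.mul_mem _ (Subgroup.mem_zpowers z) (Subgroup.mem_zpowers z))
  have hall := no_big ho (S : Subgroup G) hSn (fun s hs => sq_of_mem ho S s hs)
    (fun a ha b hb => comm_sylow ho S a b ha hb) z y hzy (hT3 z hzT) (hT3 y hyT) hz1' hy1 hzy1 hzzy1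
  have hcard1 : Nat.card (S : Subgroup G) = 1 := by
    rw [Nat.card_eq_one_iff_unique]
    refine ⟨⟨fun a b => ?_⟩, ⟨1⟩⟩
    apply Subtype.ext
    rw [hall a a.2, hall b b.2]
  omega

theorem result {G : Type*} [Group G] [Finite G] (h : Set.range (orderOf : G → ℕ) = {k : ℕ | 1 ≤ k ∧ k ≤ 3}) :
    (∃ N : Subgroup G, N.Normal ∧ Cfsg.IsElementaryAbelian 3 N ∧ N.index = 2) ∨
      (∃ N : Subgroup G, N.Normal ∧ Cfsg.IsElementaryAbelian 2 N ∧ N.index = 3) := by
  have ho : ∀ g : G, orderOf g = 1 ∨ orderOf g = 2 ∨ orderOf g = 3 := by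
    intro g
    have h1 : orderOf g ∈ Set.range (orderOf : G → ℕ) := ⟨g, rfl⟩
    rw [h] at h1
    have h2 : 1 ≤ orderOf g ∧ orderOf g ≤ 3 := h1
    omega
  have h2 : (2 : ℕ) ∈ Set.range (orderOf : G → ℕ) := by
    rw [h]; constructor <;> norm_num
  have h3 : (3 : ℕ) ∈ Set.range (orderOf : G → ℕ) := by
    rw [h]; constructor <;> norm_num
  obtain ⟨t, ht⟩ := h2
  obtain ⟨x₀, hx₀⟩ := h3
  have S : Sylow 2 G := default
  have hS2 : 2 ∣ Nat.card S := by
    rw [Sylow.card_eq_multiplicity]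
    have h4 : 2 ∣ Nat.card G := by rw [← ht]; exact orderOf_dvd_natCard t
    have h5 : (Nat.card G).factorization 2 ≠ 0 := by
      intro h6
      rcases (Nat.factorization_eq_zero_iff _ _).1 h6 with h7 | h7 | h7
      · exact h7 Nat.prime_two
      · exact h7 h4
      · exact Nat.card_pos.ne' h7
    exact dvd_pow_self 2 h5
  by_cases hS : Nat.card S = 2
  · left; exact case_two ho S hS t ht
  · right
    apply case_four ho S _ x₀ hx₀
    have h6 : Nat.card S ≠ 0 := Nat.card_pos.ne'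
    have h7 := Nat.le_of_dvd (Nat.pos_of_ne_zero h6) hS2
    omega

end Cfsg.Agent.S4005
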