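import Cfsg.Statements.S4006
import Mathlib
import Cfsg.Agent.Lib.Helper22.Ord4A
import Cfsg.Agent.Lib.Helper22.Ord4B
import Cfsg.Agent.Lib.Helper22.Ord4E

set_option autoImplicit false
open Cfsg

namespace Cfsg.Agent.S4006

open Cfsg.Agent.Lib.Helper22.Ord4A Cfsg.Agent.Lib.Helper22.Ord4B Cfsg.Agent.Lib.Helper22.Ord4E
open Cfsg.Agent.Lib.Helper22

/-- the elements of an abelian subgroup killed by `n` -/
def powSub {G : Type*} [Group G] (A : Subgroup G) (hA : ∀ u ∈ A, ∀ v ∈ A, u * v = v * u) (n : ℕ) :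
    Subgroup G where
  carrier := {a | a ∈ A ∧ a ^ n = 1}
  mul_mem' := by
    rintro a b ⟨ha, ha'⟩ ⟨hb, hb'⟩
    refine ⟨A.mul_mem ha hb, ?_⟩
    have hc : Commute a b := hA a ha b hb
    rw [hc.mul_pow, ha', hb', one_mul]
  one_mem' := ⟨A.one_mem, one_pow n⟩
  inv_mem' := by
    rintro a ⟨ha, ha'⟩
    exact ⟨A.inv_mem ha, by rw [inv_pow, ha', inv_one]⟩

theorem powSub_normal {G : Type*} [Group G] (A : Subgroup G) [hAn : A.Normal]
    (hA : ∀ u ∈ A, ∀ v ∈ A, u * v = v * u) (n : ℕ) : (powSub A hA n).Normal := by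
  constructor
  rintro a ⟨ha, ha'⟩ g
  refine ⟨hAn.conj_mem a ha g, ?_⟩
  rw [conj_pow, ha', mul_one, mul_inv_cancel]

theorem mem_powSub {G : Type*} [Group G] (A : Subgroup G)
    (hA : ∀ u ∈ A, ∀ v ∈ A, u * v = v * u) (n : ℕ) (x : G) :
    x ∈ powSub A hA n ↔ x ∈ A ∧ x ^ n = 1 := Iff.rfl

/-- A finite group whose set of element orders is exactly {1, 2, 3, 4} has a normal subgroup N such that either N is a 2-group of exponent 4 and nilpotency class at most 2 with G/N of order 3, or N is an elementary abelian 2-group with G/N isomorphic to the symmetric group of degree 3, or N is an elementary abelian 3-group with G/N cyclic of order 4 or quaternion of order 8. -/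
theorem result {G : Type*} [Group G] [Finite G] (h : Set.range (orderOf : G → ℕ) = {k : ℕ | 1 ≤ k ∧ k ≤ 4}) :
    ∃ (N : Subgroup G) (_ : N.Normal),
      (IsPGroup 2 ↥N ∧ Monoid.exponent ↥N = 4 ∧ Group.nilpotencyClass ↥N ≤ 2 ∧ N.index = 3) ∨
      (Cfsg.IsElementaryAbelian 2 N ∧ Nonempty (G ⧸ N ≃* Equiv.Perm (Fin 3))) ∨
      (Cfsg.IsElementaryAbelian 3 N ∧ ((IsCyclic (G ⧸ N) ∧ N.index = 4) ∨ Nonempty (G ⧸ N ≃* QuaternionGroup 2))) := by
  classical
  have hord : Ord4 G := by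
    intro g
    have hm : orderOf g ∈ Set.range (orderOf : G → ℕ) := ⟨g, rfl⟩
    rw [h] at hm
    exact hm.2
  obtain ⟨g4, hg4⟩ : ∃ g : G, orderOf g = 4 := by
    have hm : (4 : ℕ) ∈ {k : ℕ | 1 ≤ k ∧ k ≤ 4} := ⟨by norm_num, le_rfl⟩
    rw [← h] at hm
    exact hm
  obtain ⟨g3, hg3⟩ : ∃ g : G, orderOf g = 3 := by
    have hm : (3 : ℕ) ∈ {k : ℕ | 1 ≤ k ∧ k ≤ 4} := ⟨by norm_num, by norm_num⟩
    rw [← h] at hm
    exact hm
  have hs := solvable hord
  have hnt : Nontrivial G := ⟨⟨g3, 1, fun e => by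
    rw [e, orderOf_one] at hg3
    norm_num at hg3⟩⟩
  obtain ⟨A, hAchar, hAbot, hAcomm⟩ := AutOrb6.exists_char_abelian hs
  have hAn : A.Normal := inferInstance
  obtain ⟨a₀, ha₀A, ha₀1⟩ : ∃ a ∈ A, a ≠ 1 := by
    by_contra hcon
    push Not at hcon
    exact hAbot ((Subgroup.eq_bot_iff_forall _).mpr hcon)
  rcases pow4_or_pow3 hord a₀ with e | e
  · have hn := powSub_normal A hAcomm 4
    have hbot : powSub A hAcomm 4 ≠ ⊥ := by
      intro hb
      have hm : a₀ ∈ powSub A hAcomm 4 := ⟨ha₀A, e⟩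
      rw [hb, Subgroup.mem_bot] at hm
      exact ha₀1 hm
    obtain ⟨N, hNn, r⟩ := case2 hord g4 g3 hg4 hg3 (powSub A hAcomm 4) hbot (fun x hx => hx.2)
    rcases r with r | r
    · exact ⟨N, hNn, Or.inl r⟩
    · exact ⟨N, hNn, Or.inr (Or.inl r)⟩
  · have hn := powSub_normal A hAcomm 3
    have hbot : powSub A hAcomm 3 ≠ ⊥ := by
      intro hb
      have hm : a₀ ∈ powSub A hAcomm 3 := ⟨ha₀A, e⟩
      rw [hb, Subgroup.mem_bot] at hm
      exact ha₀1 hm
    obtain ⟨N, hNn, hEA, r⟩ := case3 hord g4 hg4 (powSub A hAcomm 3) hbot (fun x hx => hx.2)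
    exact ⟨N, hNn, Or.inr (Or.inr ⟨hEA, r⟩)⟩

end Cfsg.Agent.S4006
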