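import Cfsg.Statements.S4010
import Mathlib
import Cfsg.Agent.Lib.Helper22.LinDLA
import Cfsg.Agent.Lib.Helper22.LinDLB

set_option autoImplicit false
open Cfsg

namespace Cfsg.Agent.S4010

open Cfsg.Agent.Lib.Helper22

/-- The representation over the algebraic closure attached to a matrix representation. -/
noncomputable def repOf {P : Type*} [Group P] (F : Type*) [Field F] (n : ℕ)
    (ρ : P →* Matrix.GeneralLinearGroup (Fin n) F) :
    Representation (AlgebraicClosure F) P (Fin n → AlgebraicClosure F) where
  toFun g := Matrix.toLin' (((ρ g : Matrix (Fin n) (Fin n) F)).map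
    (algebraMap F (AlgebraicClosure F)))
  map_one' := by
    simp [Matrix.map_one]
    rfl
  map_mul' g h := by
    rw [map_mul, Matrix.GeneralLinearGroup.coe_mul, Matrix.map_mul, Matrix.toLin'_mul]
    rfl

theorem repOf_eq_one {P : Type*} [Group P] (F : Type*) [Field F] (n : ℕ)
    (ρ : P →* Matrix.GeneralLinearGroup (Fin n) F) (hρ : Function.Injective ρ) (g : P)
    (hg : repOf F n ρ g = 1) : g = 1 := by
  apply hρ
  rw [map_one]
  apply Units.ext
  have h1 : Matrix.toLin' (((ρ g : Matrix (Fin n) (Fin n) F)).map
      (algebraMap F (AlgebraicClosure F))) = 1 := hg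
  have h2 : ((ρ g : Matrix (Fin n) (Fin n) F)).map (algebraMap F (AlgebraicClosure F)) = 1 := by
    apply Matrix.toLin'.injective
    rw [h1, Matrix.toLin'_one]
    rfl
  have h3 : ((ρ g : Matrix (Fin n) (Fin n) F)).map (algebraMap F (AlgebraicClosure F))
      = (1 : Matrix (Fin n) (Fin n) F).map (algebraMap F (AlgebraicClosure F)) := by
    rw [h2, Matrix.map_one _ (map_zero _) (map_one _)]
  exact Matrix.map_injective (FaithfulSMul.algebraMap_injective F (AlgebraicClosure F)) h3

/-- Let F be a field, n ≥ 1, and P a finite p-group (p a prime) admitting an injective homomorphism into the general linear group of degree n over F. Then the derived length of P is at most ⌊log₂ n⌋ + 1: that term of the derived series of P is trivial. -/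
theorem result {P : Type*} [Group P] [Finite P] (p : ℕ) [Fact p.Prime] (hP : IsPGroup p P) (F : Type*) [Field F] (n : ℕ) (hn : 1 ≤ n) (ρ : P →* Matrix.GeneralLinearGroup (Fin n) F) (hρ : Function.Injective ρ) : derivedSeries P (Nat.log 2 n + 1) = ⊥ := by
  rw [eq_bot_iff]
  intro g hg
  rw [Subgroup.mem_bot]
  apply repOf_eq_one F n ρ hρ
  have hdim : Module.finrank (AlgebraicClosure F) (Fin n → AlgebraicClosure F) = n :=
    Module.finrank_fin_fun _
  by_cases hK : (p : AlgebraicClosure F) = 0
  · apply LinDLA.charP_case p hP hK (repOf F n ρ) (Nat.log 2 n + 1) _ g hg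
    rw [hdim]
    exact (Nat.lt_pow_succ_log_self (by norm_num) n).le
  · exact LinDLB.good_all (AlgebraicClosure F) p hK n _ P hP (repOf F n ρ) hdim g hg

end Cfsg.Agent.S4010
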