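import Cfsg.Statements.S4013
import Mathlib

set_option autoImplicit false
open Cfsg

namespace Cfsg.Agent.S4013

theorem card_mul_relIndex_of_le {G : Type*} [Group G] {N M : Subgroup G} (h : N ≤ M) :
    Nat.card N * N.relIndex M = Nat.card M := by
  have h1 : (⊥ : Subgroup G).relIndex N * N.relIndex M = (⊥ : Subgroup G).relIndex M :=
    Subgroup.relIndex_mul_relIndex ⊥ N M bot_le h
  simpa [Subgroup.relIndex_bot_left] using h1

/-- In a finite p-group, if a conjugacy class equals M∖N for normal N < M, then p = 2 and [M:N] = 2. -/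
theorem result {G : Type*} [Group G] [Finite G] (p : ℕ) [Fact p.Prime] (hG : IsPGroup p G) (N M : Subgroup G) [N.Normal] [M.Normal] (hNM : N < M) (g : G) (hgM : g ∈ M) (hgN : g ∉ N) (hcl : {h : G | IsConj g h} = (M : Set G) \ (N : Set G)) : p = 2 ∧ N.relIndex M = 2 := by
  have hp : p.Prime := Fact.out
  have horb : MulAction.orbit (ConjAct G) g = {h : G | IsConj g h} := by
    rw [ConjAct.orbit_eq_carrier_conjClasses]
    ext h
    rw [ConjClasses.mem_carrier_iff_mk_eq, ConjClasses.mk_eq_mk_iff_isConj, Set.mem_setOf_eq, isConj_comm]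
  have hGc : IsPGroup p (ConjAct G) := hG
  obtain ⟨k, hk⟩ := hGc.card_orbit g
  rw [horb, hcl] at hk
  have hNM' : (N : Set G) ⊆ (M : Set G) := hNM.le
  have hcard : Nat.card ((M : Set G) \ (N : Set G) : Set G) = Nat.card M - Nat.card N := by
    rw [Nat.card_coe_set_eq, Set.ncard_sdiff hNM' (Set.toFinite _)]
    rfl
  rw [hcard] at hk
  obtain ⟨i, hi⟩ := (hG.to_subgroup N).exists_card_eq
  have hrel : Nat.card N * N.relIndex M = Nat.card M := card_mul_relIndex_of_le hNM.le
  have hrelp : ∃ j, N.relIndex M = p ^ j := by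
    have hdvd : N.relIndex M ∣ Nat.card M := Subgroup.relIndex_dvd_card N M
    obtain ⟨m, hm⟩ := (hG.to_subgroup M).exists_card_eq
    rw [hm] at hdvd
    exact (Nat.dvd_prime_pow hp).1 hdvd |>.imp fun j hj => hj.2
  obtain ⟨j, hj⟩ := hrelp
  have hj1 : N.relIndex M ≠ 1 := by
    intro h1
    have := Subgroup.relIndex_eq_one.1 h1
    exact (not_le_of_gt hNM) this
  have hjpos : j ≠ 0 := by
    rintro rfl
    rw [pow_zero] at hj
    exact hj1 hj
  -- p^k = p^i * (p^j - 1)
  have hkey : p ^ k = p ^ i * (p ^ j - 1) := by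
    rw [← hk, ← hrel, hi, hj, Nat.mul_sub, mul_one]
  have hpj : 1 < p ^ j := Nat.one_lt_pow hjpos hp.one_lt
  have hdvd : (p ^ j - 1) ∣ p ^ k := ⟨p ^ i, by rw [hkey, mul_comm]⟩
  obtain ⟨l, -, hl⟩ := (Nat.dvd_prime_pow hp).1 hdvd
  have hl0 : l = 0 := by
    by_contra hl0
    have h1 : p ∣ p ^ j - 1 := by rw [hl]; exact dvd_pow_self p hl0
    have h2 : p ∣ p ^ j := dvd_pow_self p hjpos
    have h3 : p ∣ 1 := by
      have := Nat.dvd_sub h2 h1
      rwa [Nat.sub_sub_self hpj.le] at this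
    exact hp.one_lt.ne' (Nat.dvd_one.1 h3)
  rw [hl0, pow_zero] at hl
  have hpj2 : p ^ j = 2 := by omega
  have hp2 : p = 2 := by
    have : p ∣ 2 := by rw [← hpj2]; exact dvd_pow_self p hjpos
    exact (Nat.prime_dvd_prime_iff_eq hp Nat.prime_two).1 this
  exact ⟨hp2, by rw [hj, hpj2]⟩

end Cfsg.Agent.S4013
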