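import Cfsg.Statements.S4014
import Mathlib

set_option autoImplicit false
open Cfsg

namespace Cfsg.Agent.S4014

open Subgroup
open scoped commutatorElement

theorem derivedSeries_succ_eq_map {P : Type*} [Group P] (a : ℕ) :
    derivedSeries P (a + 1) = (derivedSeries (commutator P) a).map (commutator P).subtype := by
  induction a with
  | zero =>
    rw [derivedSeries_succ, derivedSeries_zero, derivedSeries_zero, ← MonoidHom.range_eq_map,
      Subgroup.range_subtype]
    rfl
  | succ a ih =>
    rw [derivedSeries_succ, ih, derivedSeries_succ, Subgroup.map_commutator]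

theorem commutator_le_of_coatom {P : Type*} [Group P] [Finite P] {p : ℕ} [Fact p.Prime]
    (hP : IsPGroup p P) (M : Subgroup P) (hM : IsCoatom M) : commutator P ≤ M := by
  have hnil : Group.IsNilpotent P := hP.isNilpotent
  have hMn : M.Normal :=
    NormalizerCondition.normal_of_coatom M Group.normalizerCondition_of_isNilpotent hM
  have hQ : IsPGroup p (P ⧸ M) := hP.to_quotient M
  have hQnt : Nontrivial (P ⧸ M) := by
    rw [← Finite.one_lt_card_iff_nontrivial, ← Subgroup.index_eq_card]
    have h1 : M.index ≠ 1 := fun e => hM.1 (Subgroup.index_eq_one.mp e)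
    have h2 : M.index ≠ 0 := Subgroup.index_ne_zero_of_finite
    omega
  have hZ : Nontrivial (center (P ⧸ M)) := hQ.center_nontrivial
  have hZne : center (P ⧸ M) ≠ ⊥ := (Subgroup.nontrivial_iff_ne_bot _).mp hZ
  have hle : M ≤ (center (P ⧸ M)).comap (QuotientGroup.mk' M) := by
    intro x hx
    rw [Subgroup.mem_comap]
    have : (QuotientGroup.mk' M) x = 1 := (QuotientGroup.eq_one_iff x).mpr hx
    rw [this]
    exact Subgroup.one_mem _
  have hne : M ≠ (center (P ⧸ M)).comap (QuotientGroup.mk' M) := by
    intro e
    apply hZne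
    rw [eq_bot_iff]
    intro z hz
    obtain ⟨x, rfl⟩ := QuotientGroup.mk_surjective z
    have : x ∈ M := by rw [e]; exact hz
    rw [Subgroup.mem_bot]
    exact (QuotientGroup.eq_one_iff x).mpr this
  have htop : (center (P ⧸ M)).comap (QuotientGroup.mk' M) = ⊤ :=
    hM.2 _ (lt_of_le_of_ne hle hne)
  have hctop : center (P ⧸ M) = ⊤ := by
    rw [eq_top_iff]
    intro z _
    obtain ⟨x, rfl⟩ := QuotientGroup.mk_surjective z
    have : x ∈ (center (P ⧸ M)).comap (QuotientGroup.mk' M) := by rw [htop]; trivial
    exact this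
  let _ : CommGroup (P ⧸ M) := Group.commGroupOfCenterEqTop hctop
  have := Abelianization.commutator_subset_ker (QuotientGroup.mk' M)
  rwa [QuotientGroup.ker_mk'] at this


theorem orbit_subgroup_subset {P Ω : Type*} [Group P] [MulAction P Ω] (D M : Subgroup P)
    (h : D ≤ M) (x : Ω) : MulAction.orbit D x ⊆ MulAction.orbit M x := by
  rintro y ⟨d, rfl⟩
  exact ⟨⟨d, h d.2⟩, rfl⟩

theorem orbit_subgroup_subset_top {P Ω : Type*} [Group P] [MulAction P Ω] (D : Subgroup P)
    (x : Ω) : MulAction.orbit D x ⊆ MulAction.orbit P x := by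
  rintro y ⟨d, rfl⟩
  exact ⟨(d : P), rfl⟩

theorem stabilizer_subgroup_eq {P Ω : Type*} [Group P] [MulAction P Ω] (M : Subgroup P) (x : Ω) :
    MulAction.stabilizer M x = (MulAction.stabilizer P x).subgroupOf M := by
  ext m
  rw [MulAction.mem_stabilizer_iff, Subgroup.mem_subgroupOf, MulAction.mem_stabilizer_iff]
  rfl

theorem finite_orbit {P Ω : Type*} [Group P] [Finite P] [MulAction P Ω] (x : Ω) :
    (MulAction.orbit P x).Finite := Set.finite_range _

theorem dl_bound.{u, v} (p : ℕ) [Fact p.Prime] : ∀ (a : ℕ) (P : Type u) [Group P] [Finite P]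
    (Ω : Type v) [MulAction P Ω] [FaithfulSMul P Ω], IsPGroup p P →
    (∀ x : Ω, (MulAction.orbit P x).ncard < p ^ (a + 1)) → derivedSeries P a = ⊥ := by
  have hp : p.Prime := Fact.out
  intro a
  induction a with
  | zero =>
    intro P _ _ Ω _ _ hP horb
    rw [derivedSeries_zero, eq_bot_iff]
    intro g _
    rw [Subgroup.mem_bot]
    apply FaithfulSMul.eq_of_smul_eq_smul (α := Ω)
    intro x
    rw [one_smul]
    have h1 := horb x
    have hfo : Finite (MulAction.orbit P x) := (finite_orbit x).to_subtype
    obtain ⟨j, hj⟩ := hP.card_orbit x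
    rw [Nat.card_coe_set_eq] at hj
    rw [hj, zero_add, pow_one] at h1
    have hj0 : j = 0 := by
      by_contra hne
      have : p ^ 1 ≤ p ^ j := Nat.pow_le_pow_right hp.pos (by omega)
      rw [pow_one] at this
      omega
    rw [hj0, pow_zero] at hj
    obtain ⟨y, hy⟩ := Set.ncard_eq_one.mp hj
    have h2 : g • x ∈ MulAction.orbit P x := MulAction.mem_orbit x g
    have h3 : x ∈ MulAction.orbit P x := MulAction.mem_orbit_self x
    rw [hy, Set.mem_singleton_iff] at h2 h3
    rw [h2, h3]
  | succ a ih =>
    intro P _ _ Ω _ _ hP horb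
    rw [derivedSeries_succ_eq_map]
    have hD : IsPGroup p (commutator P) := hP.to_subgroup _
    have hkey : ∀ x : Ω, (MulAction.orbit (commutator P) x).ncard < p ^ (a + 1) := by
      intro x
      have hfo : Finite (MulAction.orbit P x) := (finite_orbit x).to_subtype
      obtain ⟨j, hj⟩ := hP.card_orbit x
      rw [Nat.card_coe_set_eq] at hj
      have hjlt := horb x
      rw [hj] at hjlt
      have hj2 : j < a + 1 + 1 := (Nat.pow_lt_pow_iff_right hp.one_lt).mp hjlt
      have hfin : (MulAction.orbit P x).Finite := finite_orbit x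
      by_cases hja : j ≤ a
      · calc (MulAction.orbit (commutator P) x).ncard ≤ (MulAction.orbit P x).ncard :=
              Set.ncard_le_ncard (orbit_subgroup_subset_top _ x) hfin
          _ = p ^ j := hj
          _ ≤ p ^ a := Nat.pow_le_pow_right hp.pos hja
          _ < p ^ (a + 1) := Nat.pow_lt_pow_right hp.one_lt (by omega)
      · have hj' : j = a + 1 := by omega
        have hSidx : (MulAction.stabilizer P x).index = p ^ (a + 1) := by
          rw [MulAction.index_stabilizer, hj, hj']
        have hSne : MulAction.stabilizer P x ≠ ⊤ := by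
          intro e
          rw [e, Subgroup.index_top] at hSidx
          have : 1 < p ^ (a + 1) := Nat.one_lt_pow (by omega) hp.one_lt
          omega
        rcases IsCoatomic.eq_top_or_exists_le_coatom (MulAction.stabilizer P x) with e | ⟨M, hM, hSM⟩
        · exact absurd e hSne
        have hDM : commutator P ≤ M := commutator_le_of_coatom hP M hM
        obtain ⟨i, hi⟩ := hP.index M
        have hi0 : i ≠ 0 := by
          intro e
          rw [e, pow_zero] at hi
          exact hM.1 (Subgroup.index_eq_one.mp hi)
        have hMidx : p ≤ M.index := by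
          rw [hi]
          calc p = p ^ 1 := (pow_one p).symm
            _ ≤ p ^ i := Nat.pow_le_pow_right hp.pos (by omega)
        have hrel := Subgroup.relIndex_mul_index hSM
        rw [hSidx] at hrel
        have hrel2 : (MulAction.stabilizer P x).relIndex M ≤ p ^ a := by
          have h1 : (MulAction.stabilizer P x).relIndex M * p ≤ p ^ a * p := by
            calc (MulAction.stabilizer P x).relIndex M * p
                ≤ (MulAction.stabilizer P x).relIndex M * M.index := Nat.mul_le_mul_left _ hMidx
              _ = p ^ (a + 1) := hrel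
              _ = p ^ a * p := pow_succ p a
          exact Nat.le_of_mul_le_mul_right h1 hp.pos
        have horbM : (MulAction.orbit M x).ncard = (MulAction.stabilizer P x).relIndex M := by
          rw [← MulAction.index_stabilizer, stabilizer_subgroup_eq]
          rfl
        have hfinM : (MulAction.orbit M x).Finite := finite_orbit x
        calc (MulAction.orbit (commutator P) x).ncard ≤ (MulAction.orbit M x).ncard :=
              Set.ncard_le_ncard (orbit_subgroup_subset _ M hDM x) hfinM
          _ = (MulAction.stabilizer P x).relIndex M := horbM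
          _ ≤ p ^ a := hrel2
          _ < p ^ (a + 1) := Nat.pow_lt_pow_right hp.one_lt (by omega)
    rw [ih (commutator P) Ω hD hkey, Subgroup.map_bot]

theorem map_derivedSeries_subgroup_le {W : Type*} [Group W] (T : Subgroup W) (i : ℕ)
    (hT : T ≤ derivedSeries W i) (j : ℕ) :
    (derivedSeries T j).map T.subtype ≤ derivedSeries W (i + j) := by
  induction j with
  | zero =>
    rw [derivedSeries_zero, ← MonoidHom.range_eq_map, Subgroup.range_subtype, add_zero]
    exact hT
  | succ j ih =>
    rw [derivedSeries_succ, Subgroup.map_commutator, ← add_assoc, derivedSeries_succ]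
    exact Subgroup.commutator_mono ih ih

open RegularWreathProduct in
theorem wreath_step {D Q : Type*} [Group D] [Group Q] (q : Q) (hq : q ≠ 1) (j : ℕ)
    (h : derivedSeries D j ≠ ⊥) : derivedSeries (D ≀ᵣ Q) (j + 1) ≠ ⊥ := by
  classical
  intro hbot
  apply h
  set T : Subgroup (D ≀ᵣ Q) := derivedSeries (D ≀ᵣ Q) 1 ⊓ (rightHom : D ≀ᵣ Q →* Q).ker with hT
  let ev : T →* D :=
    { toFun := fun w => (w : D ≀ᵣ Q).left 1
      map_one' := rfl
      map_mul' := by
        intro a b
        have ha : (a : D ≀ᵣ Q).right = 1 := a.2.2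
        show ((a : D ≀ᵣ Q) * (b : D ≀ᵣ Q)).left 1 = _
        rw [RegularWreathProduct.mul_left]
        simp [ha] }
  have hsurj : Function.Surjective ev := by
    intro d
    set b : D ≀ᵣ Q := ⟨Pi.mulSingle 1 d⁻¹, 1⟩ with hb
    set t : D ≀ᵣ Q := ⟨1, q⟩ with ht
    have hmem : ⁅t, b⁆ ∈ T := by
      refine ⟨?_, ?_⟩
      · rw [derivedSeries_one, _root_.commutator_def]
        exact Subgroup.commutator_mem_commutator (Subgroup.mem_top _) (Subgroup.mem_top _)
      · show (⁅t, b⁆).right = 1
        rw [commutatorElement_def]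
        simp [RegularWreathProduct.mul_right, RegularWreathProduct.inv_right, ht, hb]
    refine ⟨⟨⁅t, b⁆, hmem⟩, ?_⟩
    show (⁅t, b⁆).left 1 = d
    rw [commutatorElement_def]
    have hq' : q⁻¹ ≠ 1 := fun e => hq (inv_eq_one.mp e)
    simp [RegularWreathProduct.mul_left, RegularWreathProduct.inv_left,
      RegularWreathProduct.mul_right, RegularWreathProduct.inv_right, ht, hb, Pi.mulSingle_apply, hq']
  have h1 := map_derivedSeries_subgroup_le T 1 inf_le_left j
  rw [add_comm, hbot, le_bot_iff] at h1
  have h2 : derivedSeries T j = ⊥ :=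
    (Subgroup.map_eq_bot_iff_of_injective _ T.subtype_injective).mp h1
  have h3 := derivedSeries_le_map_derivedSeries hsurj j
  rw [h2, Subgroup.map_bot, le_bot_iff] at h3
  exact h3

theorem iterated_dl.{u} (G : Type u) [Group G] (g : G) (hg : g ≠ 1) :
    ∀ k : ℕ, derivedSeries (IteratedWreathProduct G (k + 1)) k ≠ ⊥ := by
  intro k
  induction k with
  | zero =>
    rw [derivedSeries_zero]
    intro e
    have h1 : (RegularWreathProduct.inl g : IteratedWreathProduct G 0 ≀ᵣ G) ∈
        (⊤ : Subgroup (IteratedWreathProduct G 0 ≀ᵣ G)) := Subgroup.mem_top _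
    have e' : (⊤ : Subgroup (IteratedWreathProduct G 0 ≀ᵣ G)) = ⊥ := e
    rw [e', Subgroup.mem_bot] at h1
    have h2 := congrArg RegularWreathProduct.right h1
    exact hg h2
  | succ k ih =>
    exact wreath_step g hg k ih

theorem result (p : ℕ) [Fact p.Prime] (n : ℕ) (hn : 1 ≤ n) (P : Sylow p (Equiv.Perm (Fin n))) : derivedSeries ↥(P : Subgroup (Equiv.Perm (Fin n))) (Nat.log p n) = ⊥ ∧ (1 ≤ Nat.log p n → derivedSeries ↥(P : Subgroup (Equiv.Perm (Fin n))) (Nat.log p n - 1) ≠ ⊥) := by
  have hp : p.Prime := Fact.out
  constructor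
  · apply dl_bound p (Nat.log p n) (↥(P : Subgroup (Equiv.Perm (Fin n)))) (Fin n) P.2
    intro x
    have h1 : (MulAction.orbit (↥(P : Subgroup (Equiv.Perm (Fin n)))) x).ncard ≤ n := by
      calc (MulAction.orbit (↥(P : Subgroup (Equiv.Perm (Fin n)))) x).ncard
          ≤ (Set.univ : Set (Fin n)).ncard := Set.ncard_le_ncard (Set.subset_univ _) Set.finite_univ
        _ = n := by rw [Set.ncard_univ, Nat.card_fin]
    exact lt_of_le_of_lt h1 (Nat.lt_pow_succ_log_self hp.one_lt n)
  · intro hk
    obtain ⟨k, hk'⟩ : ∃ k, Nat.log p n = k + 1 := ⟨Nat.log p n - 1, by omega⟩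
    rw [hk', Nat.add_sub_cancel]
    have hpk : p ^ (k + 1) ≤ n := by
      rw [← hk']
      exact Nat.pow_log_le_self p (by omega)
    let G := Multiplicative (ZMod p)
    have hGcard : Nat.card G = p := by
      show Nat.card (Multiplicative (ZMod p)) = p
      rw [Nat.card_eq_fintype_card, Fintype.card_multiplicative, ZMod.card]
    have hGnt : ∃ g : G, g ≠ 1 := by
      have : Nontrivial G := by
        rw [← Finite.one_lt_card_iff_nontrivial, hGcard]
        exact hp.one_lt
      exact exists_ne 1
    obtain ⟨g, hg⟩ := hGnt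
    have hW := iterated_dl G g hg k
    let f₁ := iteratedWreathToPermHom G (k + 1)
    have hf₁ : Function.Injective f₁ := iteratedWreathToPermHomInj G (k + 1)
    have hcard : Fintype.card (Fin (k + 1) → G) ≤ Fintype.card (Fin n) := by
      rw [Fintype.card_fin, Fintype.card_fun, Fintype.card_fin, ← Nat.card_eq_fintype_card, hGcard]
      exact hpk
    obtain ⟨ι⟩ := Function.Embedding.nonempty_of_card_le hcard
    let f := (Equiv.Perm.viaEmbeddingHom ι).comp f₁
    have hf : Function.Injective f :=
      (Equiv.Perm.viaEmbeddingHom_injective ι).comp hf₁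
    have hrange : IsPGroup p f.range := by
      apply IsPGroup.of_card (n := ∑ i ∈ Finset.range (k + 1), p ^ i)
      rw [← Nat.card_congr (MonoidHom.ofInjective hf).toEquiv, IteratedWreathProduct.card, hGcard]
    obtain ⟨Q', hQ'⟩ := hrange.exists_le_sylow
    let f' : IteratedWreathProduct G (k + 1) →* (Q' : Subgroup (Equiv.Perm (Fin n))) :=
      f.codRestrict _ (fun w => hQ' ⟨w, rfl⟩)
    have hf' : Function.Injective f' := by
      intro a b hab
      apply hf
      exact congrArg Subtype.val hab
    have hQ'dl : derivedSeries (Q' : Subgroup (Equiv.Perm (Fin n))) k ≠ ⊥ := by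
      intro e
      have h1 := map_derivedSeries_le_derivedSeries f' k
      rw [e, le_bot_iff] at h1
      exact hW ((Subgroup.map_eq_bot_iff_of_injective _ hf').mp h1)
    intro e
    apply hQ'dl
    have h2 := map_derivedSeries_eq (f := (Sylow.equiv P Q').toMonoidHom)
      (Sylow.equiv P Q').surjective k
    rw [← h2, e, Subgroup.map_bot]

end Cfsg.Agent.S4014
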