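import Cfsg.Statements.S4015
import Mathlib
import Cfsg.Agent.Lib.Helper22.LinDLE
import Cfsg.Agent.Lib.Helper22.LinDLF

set_option autoImplicit false
open Cfsg

namespace Cfsg.Agent.S4015

open Cfsg.Agent.Lib.Helper22

/-- Let p be an odd prime, F a finite field with q elements where p does not divide q, and e the multiplicative order of q modulo p. Let n ≥ e and write w = ⌊n/e⌋ and k = ⌊log_p w⌋. Then a Sylow p-subgroup of GL(n, F) has derived length exactly k + 1: its (k+1)-st derived subgroup is trivial and its k-th is not. -/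
theorem result (p : ℕ) [Fact p.Prime] (hp : p ≠ 2) (F : Type*) [Field F] [Fintype F] (q : ℕ) (hq : Fintype.card F = q) (hpq : ¬ p ∣ q) (n : ℕ) (hn : orderOf (q : ZMod p) ≤ n) (P : Sylow p (Matrix.GeneralLinearGroup (Fin n) F)) : derivedSeries ↥(P : Subgroup (Matrix.GeneralLinearGroup (Fin n) F)) (Nat.log p (n / orderOf (q : ZMod p)) + 1) = ⊥ ∧ derivedSeries ↥(P : Subgroup (Matrix.GeneralLinearGroup (Fin n) F)) (Nat.log p (n / orderOf (q : ZMod p))) ≠ ⊥ := by
  classical
  subst hq
  have : Finite (GL (Fin n) F) := inferInstance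
  have hP : IsPGroup p (P : Subgroup (GL (Fin n) F)) := P.isPGroup'
  have he0 : 0 < orderOf ((Fintype.card F : ℕ) : ZMod p) :=
    LinDLC.orderOf_pos_of_not_dvd p _ hpq
  constructor
  · rw [eq_bot_iff]
    intro g hg
    rw [Subgroup.mem_bot]
    set ρ : Representation F (P : Subgroup (GL (Fin n) F)) (Fin n → F) :=
      ((Matrix.toLinAlgEquiv' : Matrix (Fin n) (Fin n) F ≃ₐ[F] _) :
          Matrix (Fin n) (Fin n) F →* _).comp
        ((Units.coeHom _).comp (P : Subgroup (GL (Fin n) F)).subtype) with hρ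
    have hρa : ∀ a : (P : Subgroup (GL (Fin n) F)),
        ρ a = Matrix.toLinAlgEquiv' ((a : GL (Fin n) F) : Matrix (Fin n) (Fin n) F) :=
      fun a => rfl
    have hdim : Module.finrank F (Fin n → F) = n := Module.finrank_fin_fun _
    have h1 : ρ g = 1 :=
      LinDLE.goodFP_all F p hpq n (Fin n → F) _ hP ρ hdim g hg
    rw [hρa] at h1
    have h2 : ((g : GL (Fin n) F) : Matrix (Fin n) (Fin n) F) = 1 := by
      apply (Matrix.toLinAlgEquiv' : Matrix (Fin n) (Fin n) F ≃ₐ[F] _).injective
      rw [h1, map_one]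
    apply Subtype.ext
    apply Units.ext
    exact h2
  · have hp1 : 1 < p := (Fact.out : p.Prime).one_lt
    have hw : n / orderOf ((Fintype.card F : ℕ) : ZMod p) ≠ 0 := by
      have := Nat.div_pos hn he0
      omega
    have h1 : p ^ Nat.log p (n / orderOf ((Fintype.card F : ℕ) : ZMod p))
        ≤ n / orderOf ((Fintype.card F : ℕ) : ZMod p) := Nat.pow_log_le_self p hw
    have h2 : p ^ Nat.log p (n / orderOf ((Fintype.card F : ℕ) : ZMod p))
        * orderOf ((Fintype.card F : ℕ) : ZMod p) ≤ n := by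
      calc p ^ Nat.log p (n / orderOf ((Fintype.card F : ℕ) : ZMod p))
            * orderOf ((Fintype.card F : ℕ) : ZMod p)
          ≤ (n / orderOf ((Fintype.card F : ℕ) : ZMod p))
            * orderOf ((Fintype.card F : ℕ) : ZMod p) := Nat.mul_le_mul_right _ h1
        _ ≤ n := Nat.div_mul_le_self n _
    obtain ⟨Q0, hQ0, hk⟩ := LinDLF.exists_subgroup_derivedSeries_ne_bot p hpq n _ h2
    exact LinDLF.sylow_derivedSeries_ne_bot p Q0 hQ0 _ hk P

end Cfsg.Agent.S4015
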