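import Mathlib
import Cfsg.Statements.S4022
import Cfsg.Agent.Lib.Helper22.SchurZassenhaus
import Cfsg.Agent.Lib.Helper22.Sylow2
import Cfsg.Agent.Lib.Helper22.Sylow
import Cfsg.Agent.Lib.Helper1.MinNormal

set_option autoImplicit false
open Cfsg

namespace Cfsg.Agent.S4022

open Cfsg.Agent.Lib.Helper22

def PropD (G : Type*) [Group G] : Prop :=
  ∀ p : ℕ, p.Prime → ∀ H K : Subgroup G, IsPGroup p H → IsPGroup p K → Nat.card H = Nat.card K →
    ∃ g : G, K = H.map (MulAut.conj g).toMonoidHom

def PropC (G : Type*) [Group G] (r : ℕ) : Prop :=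
  ∀ p : ℕ, p.Prime → p ≠ r → ∀ P : Sylow p G, IsCyclic P

def Concl (G : Type*) [Group G] : Prop :=
  ∀ H K : Subgroup G, Nat.card H = Nat.card K → ∃ g : G, K = H.map (MulAut.conj g).toMonoidHom

theorem cyc_unique {G : Type*} [Group G] [Finite G] [IsCyclic G] (A B : Subgroup G)
    (h : Nat.card A = Nat.card B) : A = B := by
  classical
  have : Fintype G := Fintype.ofFinite G
  have key : ∀ C : Subgroup G, (C : Set G) = {x | x ^ Nat.card C = 1} := by
    intro C
    apply Set.eq_of_subset_of_ncard_le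
    · intro x hx
      have := pow_card_eq_one' (G := C) (x := ⟨x, hx⟩)
      exact congrArg Subtype.val this
    · rw [Set.ncard_eq_toFinset_card', Set.toFinset_ofPred]
      have h1 := IsCyclic.card_pow_eq_one_le (α := G) (n := Nat.card C) Nat.card_pos
      have h2 : (C : Set G).ncard = Nat.card C := Nat.card_coe_set_eq _ |>.symm
      rw [h2]
      exact h1
    · exact Set.toFinite _
  apply SetLike.coe_injective
  rw [key A, key B, h]

theorem card_subgroupOf_of_le {G : Type*} [Group G] {A B : Subgroup G} (h : A ≤ B) :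
    Nat.card (A.subgroupOf B) = Nat.card A :=
  Nat.card_congr (Subgroup.subgroupOfEquivOfLe h).toEquiv

theorem cycD {G : Type*} [Group G] [Finite G]
    (hc : ∀ p : ℕ, p.Prime → ∀ P : Sylow p G, IsCyclic P) : PropD G := by
  intro p hp H K hH hK hcard
  have := Fact.mk hp
  obtain ⟨P, hP⟩ := hH.exists_le_sylow
  obtain ⟨P', hP'⟩ := hK.exists_le_sylow
  obtain ⟨g, hg⟩ := MulAction.exists_smul_eq G P P'
  refine ⟨g, ?_⟩
  have h1 : H.map (MulAut.conj g).toMonoidHom ≤ P' := by
    rw [← hg]
    rintro _ ⟨x, hx, rfl⟩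
    show _ ∈ ((g • P : Sylow p G) : Subgroup G)
    rw [mem_smul_sylow_iff]
    have : g⁻¹ * (MulAut.conj g).toMonoidHom x * g = x := by
      simp only [MulEquiv.coe_toMonoidHom, MulAut.conj_apply]
      group
    rw [this]
    exact hP hx
  have := hc p hp P'
  have h2 := cyc_unique (K.subgroupOf P') ((H.map (MulAut.conj g).toMonoidHom).subgroupOf P') (by
    rw [card_subgroupOf_of_le hP', card_subgroupOf_of_le h1, card_map_conj', hcard])
  have h3 := congrArg (Subgroup.map (P' : Subgroup G).subtype) h2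
  rwa [Subgroup.map_subgroupOf_eq_of_le hP', Subgroup.map_subgroupOf_eq_of_le h1] at h3

theorem quotC {G : Type*} [Group G] [Finite G] (r : ℕ) (hc : PropC G r) (N : Subgroup G)
    [N.Normal] : PropC (G ⧸ N) r := by
  intro q hq hqr P
  have := Fact.mk hq
  obtain ⟨P₀, hP₀⟩ := Sylow.mapSurjective_surjective (QuotientGroup.mk'_surjective N) q P
  have h1 := hc q hq hqr P₀
  have h2 : (P : Subgroup (G ⧸ N)) = (P₀ : Subgroup G).map (QuotientGroup.mk' N) := by
    rw [← hP₀]; rfl
  have h3 : IsCyclic ((P₀ : Subgroup G).map (QuotientGroup.mk' N)) :=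
    isCyclic_of_surjective ((QuotientGroup.mk' N).subgroupMap (P₀ : Subgroup G))
      (MonoidHom.subgroupMap_surjective _ _)
  rw [← h2] at h3
  exact h3

theorem quotD {G : Type*} [Group G] [Finite G] (hD : PropD G) (N : Subgroup G) [N.Normal] :
    PropD (G ⧸ N) := by
  intro q hq X Y hX hY hXY
  have := Fact.mk hq
  have hfs : Function.Surjective (QuotientGroup.mk' N) := QuotientGroup.mk'_surjective N
  have key : ∀ X : Subgroup (G ⧸ N), IsPGroup q X → ∃ A : Subgroup G, IsPGroup q A ∧
      A.map (QuotientGroup.mk' N) = X ∧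
      Nat.card A = q ^ (Nat.card G / X.index).factorization q := by
    intro X hX
    let B := X.comap (QuotientGroup.mk' N)
    let P : Sylow q B := default
    refine ⟨(P : Subgroup B).map B.subtype, ?_, ?_, ?_⟩
    · exact P.2.map _
    · have hs : Function.Surjective ((QuotientGroup.mk' N).subgroupComap X) :=
        (QuotientGroup.mk' N).subgroupComap_surjective_of_surjective X hfs
      have h1 : ((Sylow.mapSurjective hs P : Sylow q X) : Subgroup X) = ⊤ :=
        ((Sylow.mapSurjective hs P).3 (Q := ⊤) (hX.to_subgroup _) le_top).symm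
      have h2 : (P : Subgroup B).map ((QuotientGroup.mk' N).subgroupComap X) = ⊤ := h1
      rw [Subgroup.map_map]
      have h3 : (QuotientGroup.mk' N).comp B.subtype =
          X.subtype.comp ((QuotientGroup.mk' N).subgroupComap X) := rfl
      rw [h3, ← Subgroup.map_map, h2, ← MonoidHom.range_eq_map, Subgroup.range_subtype]
    · rw [Subgroup.card_map_of_injective B.subtype_injective, Sylow.card_eq_multiplicity]
      have h1 : B.index = X.index := Subgroup.index_comap_of_surjective X hfs
      have h2 : Nat.card B = Nat.card G / X.index := by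
        rw [← h1]
        exact (Nat.div_eq_of_eq_mul_left (Nat.pos_of_ne_zero Subgroup.index_ne_zero_of_finite)
          (Subgroup.card_mul_index B).symm).symm
      rw [h2]
  obtain ⟨A, hA, hAX, hAc⟩ := key X hX
  obtain ⟨B, hB, hBY, hBc⟩ := key Y hY
  have hidx : X.index = Y.index := by
    have h1 := Subgroup.card_mul_index X
    have h2 := Subgroup.card_mul_index Y
    rw [hXY] at h1
    have h3 : Nat.card Y * X.index = Nat.card Y * Y.index := by rw [h1, h2]
    exact Nat.eq_of_mul_eq_mul_left Nat.card_pos h3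
  obtain ⟨g, hg⟩ := hD q hq A B hA hB (by rw [hAc, hBc, hidx])
  refine ⟨QuotientGroup.mk' N g, ?_⟩
  rw [← hBY, hg, map_conj_map, hAX]

theorem lift_conj {G : Type*} [Group G] (N : Subgroup G) [N.Normal] (H K : Subgroup G) (g : G)
    (h : K.map (QuotientGroup.mk' N) =
      (H.map (QuotientGroup.mk' N)).map (MulAut.conj (QuotientGroup.mk' N g)).toMonoidHom) :
    K ⊔ N = H.map (MulAut.conj g).toMonoidHom ⊔ N := by
  rw [← map_conj_map] at h
  have := congrArg (Subgroup.comap (QuotientGroup.mk' N)) h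
  rwa [Subgroup.comap_map_eq, Subgroup.comap_map_eq, QuotientGroup.ker_mk'] at this

theorem map_conj_normal {G : Type*} [Group G] (N : Subgroup G) [hN : N.Normal] (g : G) :
    N.map (MulAut.conj g).toMonoidHom = N := by
  apply le_antisymm
  · rintro _ ⟨x, hx, rfl⟩
    exact hN.conj_mem x hx g
  · intro x hx
    refine ⟨g⁻¹ * x * g, ?_, ?_⟩
    · have := hN.conj_mem x hx g⁻¹
      simpa using this
    · simp only [MulEquiv.coe_toMonoidHom, MulAut.conj_apply]
      group

theorem le_of_card_le {G : Type*} [Group G] [Finite G] (hD : PropD G) (p : ℕ) [Fact p.Prime]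
    (N : Subgroup G) [N.Normal] (hN : IsPGroup p N) (A : Subgroup G) (hA : IsPGroup p A)
    (h : Nat.card N ≤ Nat.card A) : N ≤ A := by
  have hp : p.Prime := Fact.out
  obtain ⟨k, hk⟩ := IsPGroup.iff_card.1 hN
  rw [hk] at h
  obtain ⟨A₀, hA₀⟩ := Sylow.exists_subgroup_card_pow_prime_of_le_card hp hA h
  have h1 : Nat.card (A₀.map A.subtype) = Nat.card N := by
    rw [Subgroup.card_map_of_injective A.subtype_injective, hA₀, hk]
  obtain ⟨g, hg⟩ := hD p hp N (A₀.map A.subtype) hN ((hA.to_subgroup A₀).map _) h1.symm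
  rw [map_conj_normal] at hg
  rw [← hg]
  exact Subgroup.map_subtype_le _

theorem le_of_card_ge {G : Type*} [Group G] [Finite G] (hD : PropD G) (p : ℕ) [Fact p.Prime]
    (N : Subgroup G) [N.Normal] (hN : IsPGroup p N) (A : Subgroup G) (hA : IsPGroup p A)
    (h : Nat.card A ≤ Nat.card N) : A ≤ N := by
  have hp : p.Prime := Fact.out
  obtain ⟨k, hk⟩ := IsPGroup.iff_card.1 hA
  rw [hk] at h
  obtain ⟨N₀, hN₀⟩ := Sylow.exists_subgroup_card_pow_prime_of_le_card hp hN h
  have h1 : Nat.card (N₀.map N.subtype) = Nat.card A := by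
    rw [Subgroup.card_map_of_injective N.subtype_injective, hN₀, hk]
  obtain ⟨g, hg⟩ := hD p hp (N₀.map N.subtype) A ((hN.to_subgroup N₀).map _) hA h1
  rw [hg]
  calc (N₀.map N.subtype).map (MulAut.conj g).toMonoidHom
      ≤ N.map (MulAut.conj g).toMonoidHom := Subgroup.map_mono (Subgroup.map_subtype_le _)
    _ = N := map_conj_normal N g

theorem final_step.{u} {G : Type u} [Group G] [Finite G] [Group.IsSolvable G]
    (IH : ∀ (G' : Type u) [Group G'] [Finite G'] [Group.IsSolvable G'],
      Nat.card G' < Nat.card G → PropD G' → ∀ r, PropC G' r → Concl G')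
    (p : ℕ) [Fact p.Prime] (N : Subgroup G) [N.Normal] (hN : IsPGroup p N) (hN1 : N ≠ ⊥)
    (hNidx : ¬ p ∣ N.index)
    (hq : ∀ q : ℕ, q.Prime → q ≠ p → ∀ P : Sylow q G, IsCyclic P)
    (M C C' : Subgroup G) (hC : C ≤ M) (hC' : C' ≤ M) (hcard : Nat.card C = Nat.card C')
    (hcop : (Nat.card C).Coprime p) :
    ∃ y ∈ M, C' = C.map (MulAut.conj y).toMonoidHom := by
  have hp : p.Prime := Fact.out
  have hM₀p : IsPGroup p (N.subgroupOf M) := hN.comap_of_injective _ M.subtype_injective
  have hcardq : Nat.card (↥M ⧸ N.subgroupOf M) ∣ N.index := by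
    have h1 : Nat.card (↥M ⧸ N.subgroupOf M) = N.relIndex M := by
      rw [← Subgroup.index_eq_card]; rfl
    rw [h1]
    exact Subgroup.relIndex_dvd_index_of_normal N M
  have hlt : Nat.card (↥M ⧸ N.subgroupOf M) < Nat.card G := by
    have h1 : Nat.card (↥M ⧸ N.subgroupOf M) ≤ N.index :=
      Nat.le_of_dvd (Nat.pos_of_ne_zero Subgroup.index_ne_zero_of_finite) hcardq
    have h2 : 1 < Nat.card N := by
      rw [Subgroup.one_lt_card_iff_ne_bot]; exact hN1
    have h3 := Subgroup.card_mul_index N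
    have h4 : 0 < N.index := Nat.pos_of_ne_zero Subgroup.index_ne_zero_of_finite
    nlinarith
  have hcyc : ∀ q : ℕ, q.Prime → ∀ P : Sylow q (↥M ⧸ N.subgroupOf M), IsCyclic P := by
    intro q hqp P
    have := Fact.mk hqp
    by_cases hqp' : q = p
    · subst hqp'
      have h1 : Nat.card P = 1 := by
        rw [Sylow.card_eq_multiplicity]
        have h2 : ¬ q ∣ Nat.card (↥M ⧸ N.subgroupOf M) := fun h => hNidx (h.trans hcardq)
        rw [Nat.factorization_eq_zero_of_not_dvd h2, pow_zero]
      have : Subsingleton P := (Nat.card_eq_one_iff_unique.1 h1).1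
      exact isCyclic_of_subsingleton
    · obtain ⟨P₀, hP₀⟩ := Sylow.mapSurjective_surjective
        (QuotientGroup.mk'_surjective (N.subgroupOf M)) q P
      have h1 : IsPGroup q ((P₀ : Subgroup M).map M.subtype) := P₀.2.map _
      obtain ⟨PG, hPG⟩ := h1.exists_le_sylow
      have := hq q hqp hqp' PG
      have h2 : IsCyclic ((P₀ : Subgroup M).map M.subtype) := Subgroup.isCyclic_of_le hPG
      have h3 : IsCyclic (P₀ : Subgroup M) :=
        isCyclic_of_injective ((P₀ : Subgroup M).equivMapOfInjective M.subtype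
          M.subtype_injective).toMonoidHom (MulEquiv.injective _)
      have h4 : (P : Subgroup (↥M ⧸ N.subgroupOf M)) =
          (P₀ : Subgroup M).map (QuotientGroup.mk' (N.subgroupOf M)) := by
        rw [← hP₀]; rfl
      have h5 : IsCyclic ((P₀ : Subgroup M).map (QuotientGroup.mk' (N.subgroupOf M))) :=
        isCyclic_of_surjective ((QuotientGroup.mk' (N.subgroupOf M)).subgroupMap (P₀ : Subgroup M))
          (MonoidHom.subgroupMap_surjective _ _)
      rw [← h4] at h5
      exact h5
  have hConcl : Concl (↥M ⧸ N.subgroupOf M) :=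
    IH _ hlt (cycD hcyc) 0 (fun q hqp _ P => hcyc q hqp P)
  have hc1 : Nat.card (C.subgroupOf M) = Nat.card C := card_subgroupOf_of_le hC
  have hc2 : Nat.card (C'.subgroupOf M) = Nat.card C' := card_subgroupOf_of_le hC'
  obtain ⟨k, hk⟩ := IsPGroup.iff_card.1 hM₀p
  have hcopk : ∀ D : Subgroup M, Nat.card D = Nat.card C →
      (Nat.card (N.subgroupOf M)).Coprime (Nat.card D) := by
    intro D hD
    rw [hk, hD]
    exact (Nat.Coprime.pow_right k hcop).symm
  have hdisj : ∀ D : Subgroup M, Nat.card D = Nat.card C →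
      D ⊓ (QuotientGroup.mk' (N.subgroupOf M)).ker = ⊥ := by
    intro D hD
    rw [QuotientGroup.ker_mk']
    exact (Subgroup.disjoint_of_coprime_natCard (hcopk D hD).symm).eq_bot
  have hX : Nat.card ((C.subgroupOf M).map (QuotientGroup.mk' (N.subgroupOf M))) =
      Nat.card ((C'.subgroupOf M).map (QuotientGroup.mk' (N.subgroupOf M))) := by
    rw [card_map_of_disjoint_ker _ _ (hdisj _ hc1),
      card_map_of_disjoint_ker _ _ (hdisj _ (hc2.trans hcard.symm)), hc1, hc2, hcard]
  obtain ⟨mbar, hmbar⟩ := hConcl _ _ hX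
  obtain ⟨m, rfl⟩ := QuotientGroup.mk'_surjective (N.subgroupOf M) mbar
  have hlift := lift_conj (N.subgroupOf M) (C.subgroupOf M) (C'.subgroupOf M) m hmbar
  have hsol : Group.IsSolvable (N.subgroupOf M) := by
    have := hM₀p.isNilpotent
    infer_instance
  have hcK : Nat.card ((C.subgroupOf M).map (MulAut.conj m).toMonoidHom) = Nat.card C := by
    rw [card_map_conj', hc1]
  obtain ⟨x, hxM₀, hx⟩ := sz_conj_solvable (N.subgroupOf M) hsol
    ((C.subgroupOf M).map (MulAut.conj m).toMonoidHom) (C'.subgroupOf M)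
    (by rw [hcK, hc2, hcard]) (hcopk _ hcK) (by
      rw [sup_comm, ← hlift]; exact le_sup_left)
  rw [map_conj_mul] at hx
  refine ⟨((x * m : M) : G), (x * m).2, ?_⟩
  have h1 := congrArg (Subgroup.map M.subtype) hx
  rw [Subgroup.map_subgroupOf_eq_of_le hC', map_conj_subtype,
    Subgroup.map_subgroupOf_eq_of_le hC] at h1
  exact h1

theorem sylow_of_not_cyclic {G : Type*} [Group G] [Finite G] (hD : PropD G) (r : ℕ)
    (hC : PropC G r) (p : ℕ) [Fact p.Prime] (N : Subgroup G) [N.Normal] (hN : IsPGroup p N)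
    (hnc : ¬ IsCyclic N) : p = r ∧ ¬ p ∣ N.index := by
  have hp : p.Prime := Fact.out
  obtain ⟨R, hR⟩ := hN.exists_le_sylow
  constructor
  · by_contra hpr
    have := hC p hp hpr R
    exact hnc (Subgroup.isCyclic_of_le hR)
  · have hNR : N = R := by
      by_contra hne
      have hlt : N < R := lt_of_le_of_ne hR hne
      obtain ⟨x, hxR, hxN⟩ := SetLike.exists_of_lt hlt
      have hzp : IsPGroup p (Subgroup.zpowers x) := R.2.to_le ((Subgroup.zpowers_le).2 hxR)
      rcases le_total (Nat.card (Subgroup.zpowers x)) (Nat.card N) with h | h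
      · exact hxN (le_of_card_ge hD p N hN _ hzp h (Subgroup.mem_zpowers x))
      · have := le_of_card_le hD p N hN _ hzp h
        exact hnc (Subgroup.isCyclic_of_le this)
    rw [hNR]
    exact R.not_dvd_index

theorem map_conj_of_mem_normalizer {G : Type*} [Group G] (Q : Subgroup G) (y : G)
    (hy : y ∈ Subgroup.normalizer (Q : Set G)) : Q.map (MulAut.conj y).toMonoidHom = Q := by
  ext x
  constructor
  · rintro ⟨z, hz, rfl⟩
    exact (Subgroup.mem_normalizer_iff.1 hy z).1 hz
  · intro hx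
    refine ⟨y⁻¹ * x * y, ?_, ?_⟩
    · exact (Subgroup.mem_normalizer_iff''.1 hy x).1 hx
    · simp only [MulEquiv.coe_toMonoidHom, MulAut.conj_apply]
      group

theorem map_conj_one {G : Type*} [Group G] (Q : Subgroup G) :
    Q.map (MulAut.conj (1 : G)).toMonoidHom = Q := by
  ext x
  simp

theorem coreC.{u} {G : Type u} [Group G] [Finite G] [Group.IsSolvable G]
    (IH : ∀ (G' : Type u) [Group G'] [Finite G'] [Group.IsSolvable G'],
      Nat.card G' < Nat.card G → PropD G' → ∀ r, PropC G' r → Concl G')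
    (hD : PropD G) (r : ℕ) (hC : PropC G r)
    (p : ℕ) [Fact p.Prime] (N : Subgroup G) [N.Normal] (hN : IsPGroup p N) (hN1 : N ≠ ⊥)
    (Q₁ Q₂ C : Subgroup G) (hQ₁ : Q₁ ≤ N) (hQ₂ : Q₂ ≤ N) (hQ : Nat.card Q₁ = Nat.card Q₂)
    (hC₁ : C ≤ Subgroup.normalizer (Q₁ : Set G)) (hC₂ : C ≤ Subgroup.normalizer (Q₂ : Set G))
    (hcop : (Nat.card C).Coprime p) :
    ∃ w : G, Q₂ = Q₁.map (MulAut.conj w).toMonoidHom ∧ C = C.map (MulAut.conj w).toMonoidHom := by
  have hp : p.Prime := Fact.out
  by_cases hcyc : IsCyclic N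
  · refine ⟨1, ?_, (map_conj_one C).symm⟩
    rw [map_conj_one]
    have h2 := cyc_unique (Q₂.subgroupOf N) (Q₁.subgroupOf N) (by
      rw [card_subgroupOf_of_le hQ₁, card_subgroupOf_of_le hQ₂, hQ])
    have h3 := congrArg (Subgroup.map N.subtype) h2
    rwa [Subgroup.map_subgroupOf_eq_of_le hQ₂, Subgroup.map_subgroupOf_eq_of_le hQ₁] at h3
  · obtain ⟨hpr, hNidx⟩ := sylow_of_not_cyclic hD r hC p N hN hcyc
    have hq : ∀ q : ℕ, q.Prime → q ≠ p → ∀ P : Sylow q G, IsCyclic P := by
      intro q hqp hqne P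
      exact hC q hqp (by rw [← hpr]; exact hqne) P
    obtain ⟨g, hg⟩ := hD p hp Q₁ Q₂ (hN.to_le hQ₁) (hN.to_le hQ₂) hQ
    have hC' : C.map (MulAut.conj g).toMonoidHom ≤ Subgroup.normalizer (Q₂ : Set G) := by
      rw [hg, ← Subgroup.map_equiv_normalizer_eq Q₁ (MulAut.conj g)]
      exact Subgroup.map_mono hC₁
    obtain ⟨y, hyM, hy⟩ := final_step IH p N hN hN1 hNidx hq
      (Subgroup.normalizer (Q₂ : Set G)) C (C.map (MulAut.conj g).toMonoidHom) hC₂ hC'
      (card_map_conj' g C).symm hcop
    refine ⟨y⁻¹ * g, ?_, ?_⟩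
    · rw [← map_conj_mul, ← hg]
      exact (map_conj_of_mem_normalizer Q₂ y⁻¹ (Subgroup.inv_mem _ hyM)).symm
    · rw [← map_conj_mul, hy, map_conj_mul, inv_mul_cancel, map_conj_one]

theorem le_normalizer_inf {G : Type*} [Group G] (H N : Subgroup G) [hN : N.Normal] :
    H ≤ Subgroup.normalizer ((H ⊓ N : Subgroup G) : Set G) := by
  intro h hh
  rw [Subgroup.mem_normalizer_iff]
  intro x
  constructor
  · rintro ⟨hx1, hx2⟩
    exact ⟨H.mul_mem (H.mul_mem hh hx1) (H.inv_mem hh), hN.conj_mem x hx2 h⟩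
  · rintro ⟨hx1, hx2⟩
    have e : x = h⁻¹ * (h * x * h⁻¹) * h := by group
    constructor
    · rw [e]; exact H.mul_mem (H.mul_mem (H.inv_mem hh) hx1) hh
    · have := hN.conj_mem _ hx2 h⁻¹
      rw [inv_inv] at this
      rw [e]; exact this

theorem exists_compl {G : Type*} [Group G] [Finite G] (p : ℕ) [Fact p.Prime] (N : Subgroup G)
    [N.Normal] (hN : IsPGroup p N) (H : Subgroup G) (hH : ¬ p ∣ N.relIndex H) :
    ∃ C : Subgroup G, C ≤ H ∧ (H ⊓ N) ⊔ C = H ∧ Nat.card C = N.relIndex H := by
  have hp : p.Prime := Fact.out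
  have hN'p : IsPGroup p (N.subgroupOf H) := hN.comap_of_injective _ H.subtype_injective
  obtain ⟨k, hk⟩ := IsPGroup.iff_card.1 hN'p
  have hcop : Nat.Coprime (Nat.card (N.subgroupOf H)) (N.subgroupOf H).index := by
    rw [hk]
    exact Nat.Coprime.pow_left k ((Nat.Prime.coprime_iff_not_dvd hp).2 hH)
  obtain ⟨C', hC'⟩ := Subgroup.exists_right_complement'_of_coprime hcop
  refine ⟨C'.map H.subtype, Subgroup.map_subtype_le _, ?_, ?_⟩
  · have h1 := hC'.sup_eq_top
    have h2 := congrArg (Subgroup.map H.subtype) h1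
    rw [Subgroup.map_sup, Subgroup.subgroupOf_map_subtype, ← MonoidHom.range_eq_map,
      Subgroup.range_subtype, inf_comm] at h2
    exact h2
  · rw [Subgroup.card_map_of_injective H.subtype_injective]
    exact hC'.symm.index_eq_card.symm

theorem coreB.{u} {G : Type u} [Group G] [Finite G] [Group.IsSolvable G]
    (IH : ∀ (G' : Type u) [Group G'] [Finite G'] [Group.IsSolvable G'],
      Nat.card G' < Nat.card G → PropD G' → ∀ r, PropC G' r → Concl G')
    (hD : PropD G) (r : ℕ) (hC : PropC G r)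
    (p : ℕ) [Fact p.Prime] (N : Subgroup G) [N.Normal] (hN : IsPGroup p N) (hN1 : N ≠ ⊥)
    (H K : Subgroup G) (hcard : Nat.card H = Nat.card K) (hsup : H ⊔ N = K ⊔ N)
    (hH : ¬ p ∣ N.relIndex H) :
    ∃ g : G, K = H.map (MulAut.conj g).toMonoidHom := by
  have hp : p.Prime := Fact.out
  have hrel : N.relIndex K = N.relIndex H := by
    rw [← Subgroup.relIndex_sup_right K N, ← hsup, Subgroup.relIndex_sup_right]
  have hK : ¬ p ∣ N.relIndex K := by rw [hrel]; exact hH
  obtain ⟨C₁, hC₁H, hC₁sup, hC₁card⟩ := exists_compl p N hN H hH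
  obtain ⟨C₂, hC₂K, hC₂sup, hC₂card⟩ := exists_compl p N hN K hK
  have hcc : Nat.card C₁ = Nat.card C₂ := by rw [hC₁card, hC₂card, hrel]
  have hcop1 : (Nat.card C₁).Coprime p := by
    rw [hC₁card]; exact ((Nat.Prime.coprime_iff_not_dvd hp).2 hH).symm
  obtain ⟨k, hk⟩ := IsPGroup.iff_card.1 hN
  have hcopN : (Nat.card N).Coprime (Nat.card C₁) := by
    rw [hk]; exact (Nat.Coprime.pow_right k hcop1).symm
  have hsolN : Group.IsSolvable N := by
    have := hN.isNilpotent
    infer_instance
  have hle : C₂ ≤ N ⊔ C₁ := by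
    have h1 : C₂ ≤ H ⊔ N := by
      rw [hsup]; exact hC₂K.trans le_sup_left
    have h2 : H ⊔ N ≤ N ⊔ C₁ := by
      rw [← hC₁sup]
      apply sup_le _ le_sup_left
      exact sup_le (inf_le_right.trans le_sup_left) le_sup_right
    exact h1.trans h2
  obtain ⟨x, hxN, hx⟩ := sz_conj_solvable N hsolN C₁ C₂ hcc hcopN hle
  have hQ₁N : (H ⊓ N).map (MulAut.conj x).toMonoidHom ≤ N := by
    calc (H ⊓ N).map (MulAut.conj x).toMonoidHom ≤ N.map (MulAut.conj x).toMonoidHom :=
          Subgroup.map_mono inf_le_right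
      _ = N := map_conj_normal N x
  have hm0 : 0 < N.relIndex H := by
    apply Nat.pos_of_ne_zero
    intro h
    apply hH
    rw [h]; exact dvd_zero p
  have hQcard : Nat.card ((H ⊓ N).map (MulAut.conj x).toMonoidHom) = Nat.card (K ⊓ N : Subgroup G) := by
    rw [card_map_conj']
    have h1 := card_mul_relIndex_of_le (inf_le_left : H ⊓ N ≤ H)
    have h2 := card_mul_relIndex_of_le (inf_le_left : K ⊓ N ≤ K)
    rw [Subgroup.inf_relIndex_left] at h1 h2
    rw [hrel] at h2
    have h3 : Nat.card (H ⊓ N : Subgroup G) * N.relIndex H =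
        Nat.card (K ⊓ N : Subgroup G) * N.relIndex H := by rw [h1, h2, hcard]
    exact Nat.eq_of_mul_eq_mul_right hm0 h3
  have hn1 : C₂ ≤ Subgroup.normalizer (((H ⊓ N).map (MulAut.conj x).toMonoidHom : Subgroup G) : Set G) := by
    rw [hx, ← Subgroup.map_equiv_normalizer_eq (H ⊓ N) (MulAut.conj x)]
    exact Subgroup.map_mono (hC₁H.trans (le_normalizer_inf H N))
  have hn2 : C₂ ≤ Subgroup.normalizer ((K ⊓ N : Subgroup G) : Set G) :=
    hC₂K.trans (le_normalizer_inf K N)
  obtain ⟨w, hw1, hw2⟩ := coreC IH hD r hC p N hN hN1 _ _ C₂ hQ₁N inf_le_right hQcard hn1 hn2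
    (by rw [← hcc]; exact hcop1)
  refine ⟨w * x, ?_⟩
  rw [← map_conj_mul]
  conv_lhs => rw [← hC₂sup, hw1, hw2]
  rw [← Subgroup.map_sup]
  conv_lhs => rw [hx]
  rw [← Subgroup.map_sup, hC₁sup]

theorem main.{u} : ∀ (n : ℕ) (G : Type u) [Group G] [Finite G] [Group.IsSolvable G],
    Nat.card G = n → PropD G → ∀ r, PropC G r → Concl G := by
  intro n
  induction n using Nat.strong_induction_on with
  | _ n ih =>
  intro G _ _ _ hn hD r hC
  have IH : ∀ (G' : Type u) [Group G'] [Finite G'] [Group.IsSolvable G'],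
      Nat.card G' < Nat.card G → PropD G' → ∀ r, PropC G' r → Concl G' := by
    intro G' _ _ _ hlt hD' r' hC'
    exact ih (Nat.card G') (hn ▸ hlt) G' rfl hD' r' hC'
  clear ih
  by_cases hnt : Nontrivial G
  swap
  · rw [not_nontrivial_iff_subsingleton] at hnt
    intro H K _
    exact ⟨1, Subsingleton.elim _ _⟩
  obtain ⟨N, hNn, hN1, hNmin⟩ := Cfsg.Agent.Lib.Helper1.exists_minimal_normal (G := G)
  obtain ⟨_, p, hp, hNp⟩ := Cfsg.Agent.Lib.Helper1.minimal_normal_of_solvable N hN1 hNmin
  have := Fact.mk hp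
  have hN : IsPGroup p N := by
    rintro ⟨x, hx⟩
    refine ⟨1, ?_⟩
    apply Subtype.ext
    rw [pow_one]
    exact hNp x hx
  have hlt : Nat.card (G ⧸ N) < Nat.card G := by
    have h2 : 1 < Nat.card N := by
      rw [Subgroup.one_lt_card_iff_ne_bot]; exact hN1
    have h3 := Subgroup.card_mul_index N
    have h4 : 0 < N.index := Nat.pos_of_ne_zero Subgroup.index_ne_zero_of_finite
    rw [← Subgroup.index_eq_card]
    nlinarith
  have hCq : Concl (G ⧸ N) := IH (G ⧸ N) hlt (quotD hD N) r (quotC r hC N)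
  have stepQ : ∀ H K : Subgroup G, N ≤ H → N ≤ K → Nat.card H = Nat.card K →
      ∃ g : G, K = H.map (MulAut.conj g).toMonoidHom := by
    intro H K hH hK hcard
    have h1 : Nat.card (H.map (QuotientGroup.mk' N)) = Nat.card (K.map (QuotientGroup.mk' N)) := by
      have e1 : (H.map (QuotientGroup.mk' N)).index = H.index := by
        exact Subgroup.index_map_eq H (QuotientGroup.mk'_surjective N)
          (by rw [QuotientGroup.ker_mk']; exact hH)
      have e2 : (K.map (QuotientGroup.mk' N)).index = K.index := by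
        exact Subgroup.index_map_eq K (QuotientGroup.mk'_surjective N)
          (by rw [QuotientGroup.ker_mk']; exact hK)
      have e3 : H.index = K.index := by
        have a1 := Subgroup.card_mul_index H
        have a2 := Subgroup.card_mul_index K
        rw [hcard] at a1
        have a3 : Nat.card K * H.index = Nat.card K * K.index := by rw [a1, a2]
        exact Nat.eq_of_mul_eq_mul_left Nat.card_pos a3
      have b1 := Subgroup.card_mul_index (H.map (QuotientGroup.mk' N))
      have b2 := Subgroup.card_mul_index (K.map (QuotientGroup.mk' N))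
      rw [e1] at b1
      rw [e2, ← e3] at b2
      have b3 : Nat.card (H.map (QuotientGroup.mk' N)) * H.index =
          Nat.card (K.map (QuotientGroup.mk' N)) * H.index := by rw [b1, b2]
      exact Nat.eq_of_mul_eq_mul_right (Nat.pos_of_ne_zero Subgroup.index_ne_zero_of_finite) b3
    obtain ⟨gbar, hg⟩ := hCq _ _ h1
    obtain ⟨g, rfl⟩ := QuotientGroup.mk'_surjective N gbar
    have h2 := lift_conj N H K g hg
    refine ⟨g, ?_⟩
    rw [sup_of_le_left hK] at h2
    rw [h2]
    apply sup_of_le_left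
    calc N = N.map (MulAut.conj g).toMonoidHom := (map_conj_normal N g).symm
      _ ≤ H.map (MulAut.conj g).toMonoidHom := Subgroup.map_mono hH
  intro H K hcard
  let HP : Sylow p H := default
  let KP : Sylow p K := default
  have hAp : IsPGroup p ((HP : Subgroup H).map H.subtype) := HP.2.map _
  have hBp : IsPGroup p ((KP : Subgroup K).map K.subtype) := KP.2.map _
  have hAB : Nat.card ((HP : Subgroup H).map H.subtype) = Nat.card ((KP : Subgroup K).map K.subtype) := by
    rw [Subgroup.card_map_of_injective H.subtype_injective,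
      Subgroup.card_map_of_injective K.subtype_injective, Sylow.card_eq_multiplicity,
      Sylow.card_eq_multiplicity, hcard]
  have hAH : (HP : Subgroup H).map H.subtype ≤ H := Subgroup.map_subtype_le _
  have hBK : (KP : Subgroup K).map K.subtype ≤ K := Subgroup.map_subtype_le _
  rcases le_or_gt (Nat.card N) (Nat.card ((HP : Subgroup H).map H.subtype)) with hle | hlt'
  · have h1 : N ≤ (HP : Subgroup H).map H.subtype := le_of_card_le hD p N hN _ hAp hle
    have h2 : N ≤ (KP : Subgroup K).map K.subtype := le_of_card_le hD p N hN _ hBp (hAB ▸ hle)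
    exact stepQ H K (h1.trans hAH) (h2.trans hBK) hcard
  · have hAN : (HP : Subgroup H).map H.subtype ≤ N := le_of_card_ge hD p N hN _ hAp hlt'.le
    have hBN : (KP : Subgroup K).map K.subtype ≤ N :=
      le_of_card_ge hD p N hN _ hBp (hAB ▸ hlt'.le)
    have hsyl : ∀ (H : Subgroup G) (HP : Sylow p H), (HP : Subgroup H).map H.subtype ≤ N →
        N.subgroupOf H = HP := by
      intro H HP hAN
      have h1 : (HP : Subgroup H) ≤ N.subgroupOf H := by
        intro x hx
        rw [Subgroup.mem_subgroupOf]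
        exact hAN (Subgroup.mem_map_of_mem _ hx)
      exact HP.3 (hN.comap_of_injective _ H.subtype_injective) h1
    have hsH := hsyl H HP hAN
    have hsK := hsyl K KP hBN
    have hKnd : ¬ p ∣ N.relIndex K := by
      show ¬ p ∣ (N.subgroupOf K).index
      rw [hsK]
      exact KP.not_dvd_index
    have hrel : N.relIndex H = N.relIndex K := by
      show (N.subgroupOf H).index = (N.subgroupOf K).index
      rw [hsH, hsK]
      have a1 := Subgroup.card_mul_index (HP : Subgroup H)
      have a2 := Subgroup.card_mul_index (KP : Subgroup K)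
      have a3 : Nat.card (HP : Subgroup H) = Nat.card (KP : Subgroup K) := by
        rw [Sylow.card_eq_multiplicity, Sylow.card_eq_multiplicity, hcard]
      rw [a3, hcard] at a1
      have a4 : Nat.card (KP : Subgroup K) * (HP : Subgroup H).index =
          Nat.card (KP : Subgroup K) * (KP : Subgroup K).index := by rw [a1, a2]
      exact Nat.eq_of_mul_eq_mul_left Nat.card_pos a4
    have hcs : Nat.card (H ⊔ N : Subgroup G) = Nat.card (K ⊔ N : Subgroup G) := by
      rw [card_sup_normal H N, card_sup_normal K N, hrel]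
    obtain ⟨g, hg⟩ := stepQ (H ⊔ N) (K ⊔ N) le_sup_right le_sup_right hcs
    rw [Subgroup.map_sup, map_conj_normal N g] at hg
    have hH'' : ¬ p ∣ N.relIndex (H.map (MulAut.conj g).toMonoidHom) := by
      rw [← Subgroup.relIndex_sup_right, ← hg, Subgroup.relIndex_sup_right]
      exact hKnd
    obtain ⟨g', hg'⟩ := coreB IH hD r hC p N hN hN1 (H.map (MulAut.conj g).toMonoidHom) K
      (by rw [card_map_conj', hcard]) hg.symm hH''
    refine ⟨g' * g, ?_⟩
    rw [← map_conj_mul]
    exact hg'

theorem result {G : Type*} [Group G] [Finite G]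
    [Group.IsSolvable G] (hD : ∀ p : ℕ, p.Prime → ∀ H K : Subgroup G, IsPGroup p H → IsPGroup p K → Nat.card H = Nat.card K →
      ∃ g : G, K = H.map (MulAut.conj g).toMonoidHom)
    (r : ℕ) (hcyc : ∀ p : ℕ, p.Prime → p ≠ r → ∀ P : Sylow p G, IsCyclic P) :
    ∀ H K : Subgroup G, Nat.card H = Nat.card K → ∃ g : G, K = H.map (MulAut.conj g).toMonoidHom :=
  main (Nat.card G) G rfl hD r hcyc

end Cfsg.Agent.S4022
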