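import Cfsg.Statements.S4025
import Cfsg.Agent.Lib.Helper22.EqSylJ
import Cfsg.Agent.Lib.Helper1.Fusion

set_option autoImplicit false
open Cfsg

namespace Cfsg.Agent.S4025

/-- Let p be a prime and G a finite group in which any two p-subgroups of the same order are conjugate, and suppose a Sylow p-subgroup P of G is elementary abelian of order pⁿ with n ≥ 3. Let N be the normalizer of P and K the largest normal subgroup of N of order prime to p, and assume N/K is solvable. Then either n = 3 and N/K embeds in the one-dimensional semi-affine group over the field with p³ elements (and for p = 2 it is isomorphic to the affine or the semi-affine group over the field with 8 elements), or n = 5, p = 2 and N/K is isomorphic to the one-dimensional semi-affine group over the field with 32 elements. -/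
theorem result {G : Type*} [Group G] [Finite G]
    {p : ℕ} [Fact p.Prime] (hC : ∀ H K : Subgroup G, IsPGroup p H → IsPGroup p K → Nat.card H = Nat.card K →
      ∃ g : G, K = H.map (MulAut.conj g).toMonoidHom) (P : Sylow p G) (n : ℕ) (hn : 3 ≤ n)
    (hel : Cfsg.IsElementaryAbelian p (P : Subgroup G)) (hcard : Nat.card P = p ^ n)
    (N : Subgroup G) (hN : N = Subgroup.normalizer ((P : Subgroup G) : Set G))
    (hsolv : Group.IsSolvable (↥N ⧸ Cfsg.pPrimeCore p ↥N)) :
    (n = 3 ∧ (∃ f : ↥N ⧸ Cfsg.pPrimeCore p ↥N →* ↥(Cfsg.semiaffineGroup (GaloisField p 3)), Function.Injective f) ∧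
      (p = 2 → Nonempty (↥N ⧸ Cfsg.pPrimeCore p ↥N ≃* Cfsg.semiaffineGroup (GaloisField 2 3)) ∨
               Nonempty (↥N ⧸ Cfsg.pPrimeCore p ↥N ≃* Cfsg.affineGroup (GaloisField 2 3)))) ∨
    (n = 5 ∧ p = 2 ∧ Nonempty (↥N ⧸ Cfsg.pPrimeCore p ↥N ≃* Cfsg.semiaffineGroup (GaloisField 2 5))) := by
  classical
  have hPN : (P : Subgroup G) ≤ N := by
    rw [hN]; exact Subgroup.le_normalizer
  have hVn : ((P : Subgroup G).subgroupOf N).Normal := by
    rw [hN]; exact Subgroup.normal_in_normalizer
  have hPc : ∀ a ∈ (P : Subgroup G), ∀ b ∈ (P : Subgroup G), a * b = b * a := by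
    intro a ha b hb
    have := hel.1.is_comm.comm ⟨a, ha⟩ ⟨b, hb⟩
    exact congrArg Subtype.val this
  have hVc : IsMulCommutative ((P : Subgroup G).subgroupOf N) := by
    refine ⟨⟨fun a b => ?_⟩⟩
    apply Subtype.ext
    apply Subtype.ext
    exact hPc _ a.2 _ b.2
  have hexp : ∀ v ∈ (P : Subgroup G).subgroupOf N, v ^ p = 1 := by
    intro v hv
    apply Subtype.ext
    rw [Subgroup.coe_pow]
    exact hel.2 _ hv
  have hcardV : Nat.card ((P : Subgroup G).subgroupOf N) = p ^ n := by
    rw [← hcard]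
    exact Nat.card_congr (Subgroup.subgroupOfEquivOfLe hPN).toEquiv
  have hcop : (Nat.card ((P : Subgroup G).subgroupOf N)).Coprime
      ((P : Subgroup G).subgroupOf N).index := by
    rw [hcardV]
    apply Nat.Coprime.pow_left
    have h1 : ¬ p ∣ (P : Subgroup G).index := P.not_dvd_index
    have h2 : (P : Subgroup G).relIndex N ∣ (P : Subgroup G).index :=
      ⟨_, (Subgroup.relIndex_mul_index hPN).symm⟩
    rw [Nat.Prime.coprime_iff_not_dvd Fact.out]
    intro h3
    exact h1 (Nat.dvd_trans h3 h2)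
  refine Cfsg.Agent.Lib.Helper22.EqSylJ.main_X
    ((P : Subgroup G).subgroupOf N) n hn hexp hcardV hcop ?_ hsolv
  intro U U' hU hU' hUU
  have hUP : U.map N.subtype ≤ (P : Subgroup G) := by
    rintro _ ⟨u, hu, rfl⟩
    exact hU hu
  have hU'P : U'.map N.subtype ≤ (P : Subgroup G) := by
    rintro _ ⟨u, hu, rfl⟩
    exact hU' hu
  have hc1 : Nat.card (U.map N.subtype) = Nat.card (U'.map N.subtype) := by
    rw [Subgroup.card_map_of_injective N.subtype_injective,
      Subgroup.card_map_of_injective N.subtype_injective, hUU]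
  obtain ⟨g, hg⟩ := hC (U.map N.subtype) (U'.map N.subtype) (P.2.to_le hUP) (P.2.to_le hU'P) hc1
  have hnorm : ∀ T : Subgroup G, T ≤ (P : Subgroup G) →
      (P : Subgroup G) ≤ Subgroup.normalizer ((T : Subgroup G) : Set G) := by
    intro T hT
    rw [Subgroup.le_normalizer_iff]
    intro y hy t ht
    have : y * t * y⁻¹ = t := by
      rw [hPc y hy t (hT ht)]; group
    rw [this]; exact ht
  have hg' : MulAut.conj g '' ((U.map N.subtype : Subgroup G) : Set G) =
      ((U'.map N.subtype : Subgroup G) : Set G) := by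
    rw [hg]; rfl
  obtain ⟨m, hm, hm'⟩ := Cfsg.Agent.Lib.Helper1.burnside_fusion_sets P _ _ (hnorm _ hUP)
    (hnorm _ hU'P) g hg'
  have hmN : m ∈ N := by rw [hN]; exact hm
  refine ⟨⟨m, hmN⟩, ?_⟩
  ext y
  constructor
  · intro hy
    have h1 : (y : G) ∈ ((U'.map N.subtype : Subgroup G) : Set G) := ⟨y, hy, rfl⟩
    rw [← hm'] at h1
    obtain ⟨a, ⟨u, hu, rfl⟩, ha⟩ := h1
    refine ⟨u, hu, ?_⟩
    apply Subtype.ext
    exact ha
  · rintro ⟨u, hu, rfl⟩
    have h1 : MulAut.conj m (u : G) ∈ ((U'.map N.subtype : Subgroup G) : Set G) := by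
      rw [← hm']
      exact ⟨u, ⟨u, hu, rfl⟩, rfl⟩
    obtain ⟨y, hy, hyu⟩ := h1
    have : y = (MulAut.conj (⟨m, hmN⟩ : N)).toMonoidHom u := by
      apply Subtype.ext
      exact hyu
    rw [← this]
    exact hy

end Cfsg.Agent.S4025
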