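import Cfsg.Statements.S4027
import Cfsg.Agent.Lib.Helper22.NoInvert

set_option autoImplicit false
open Cfsg

namespace Cfsg.Agent.S4027

theorem result {G : Type*} [Group G] [Finite G]
    (hirr : ∀ x : G, (∀ r : ℕ, r.Prime → r ∣ orderOf x → r ≠ 2) →
      Subgroup.normalizer ((Subgroup.zpowers x : Subgroup G) : Set G) ≤ Subgroup.centralizer {x}) (P : Sylow 2 G) :
    (P : Subgroup G).Normal := by
  apply Lib.Helper22.sylow2_normal_of_noInvert (Nat.card G) G rfl _ P
  intro t x hxodd hinv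
  have hx2 : ∀ r : ℕ, r.Prime → r ∣ orderOf x → r ≠ 2 := by
    rintro r _ hrd rfl
    exact (Nat.not_even_iff_odd.2 hxodd) (even_iff_two_dvd.2 hrd)
  have htN : t ∈ Subgroup.normalizer ((Subgroup.zpowers x : Subgroup G) : Set G) := by
    apply Subgroup.mem_normalizer_fintype
    rintro n ⟨i, rfl⟩
    show t * x ^ i * t⁻¹ ∈ Subgroup.zpowers x
    rw [← conj_zpow, hinv]
    exact Subgroup.zpow_mem _ (Subgroup.inv_mem _ (Subgroup.mem_zpowers x)) i
  have htC := hirr x hx2 htN
  rw [Subgroup.mem_centralizer_singleton_iff] at htC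
  have h1 : x⁻¹ = x := by
    rw [← hinv, htC]; group
  have h2 : x ^ 2 = 1 := by
    rw [pow_two]
    nth_rewrite 1 [← h1]
    exact inv_mul_cancel x
  have h3 : orderOf x ∣ 2 := orderOf_dvd_of_pow_eq_one h2
  rcases (Nat.dvd_prime Nat.prime_two).1 h3 with h4 | h4
  · exact orderOf_eq_one_iff.1 h4
  · exfalso
    rw [h4] at hxodd
    exact (by decide : ¬ Odd 2) hxodd

end Cfsg.Agent.S4027
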