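import Cfsg.Statements.S4028
import Cfsg.Agent.Lib.Helper22.Sylow

set_option autoImplicit false
open Cfsg

namespace Cfsg.Agent.S4028

theorem odd_part {G : Type*} [Group G] [Finite G] (x b : G) (k : ℕ) (hk : orderOf x = 2 ^ k)
    (hb : b ∈ Subgroup.normalizer ((Subgroup.zpowers x : Subgroup G) : Set G))
    (hbo : (orderOf b).Coprime 2) : b * x = x * b := by
  set H : Subgroup G := Subgroup.zpowers x with hH
  have hcardH : Nat.card H = 2 ^ k := by rw [hH, Nat.card_zpowers, hk]
  have h1 : orderOf (H.normalizerMonoidHom ⟨b, hb⟩) ∣ orderOf b := by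
    have := orderOf_map_dvd H.normalizerMonoidHom (⟨b, hb⟩ : Subgroup.normalizer (H : Set G))
    rwa [Subgroup.orderOf_mk] at this
  have h2 : orderOf (H.normalizerMonoidHom ⟨b, hb⟩) ∣ (2 ^ k).totient := by
    have := orderOf_dvd_natCard (H.normalizerMonoidHom ⟨b, hb⟩)
    rwa [IsCyclic.card_mulAut, hcardH] at this
  have h3 : (orderOf b).Coprime (2 ^ k).totient := by
    rcases Nat.eq_zero_or_pos k with rfl | hkpos
    · simp
    · rw [Nat.totient_prime_pow Nat.prime_two hkpos]
      simpa using hbo.pow_right (k - 1)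
  have h4 : orderOf (H.normalizerMonoidHom ⟨b, hb⟩) = 1 :=
    Nat.Coprime.eq_one_of_dvd (Nat.Coprime.coprime_dvd_left h1 h3) h2
  rw [orderOf_eq_one_iff] at h4
  have h5 : (⟨b, hb⟩ : Subgroup.normalizer (H : Set G)) ∈ H.normalizerMonoidHom.ker := h4
  rw [Subgroup.normalizerMonoidHom_ker, Subgroup.mem_subgroupOf] at h5
  have h6 := h5 x (Subgroup.mem_zpowers x)
  exact h6.symm

theorem result {G : Type*} [Group G] [Finite G] (P : Sylow 2 G) :
    (∀ x : G, (∀ r : ℕ, r.Prime → r ∣ orderOf x → r = 2) →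
      Subgroup.normalizer ((Subgroup.zpowers x : Subgroup G) : Set G) ≤ Subgroup.centralizer {x}) ↔
    (∀ y : ↥(P : Subgroup G), Subgroup.normalizer ((Subgroup.zpowers y : Subgroup ↥(P : Subgroup G)) : Set ↥(P : Subgroup G)) ≤
        Subgroup.centralizer {y}) := by
  have hp2 : Fact (Nat.Prime 2) := ⟨Nat.prime_two⟩
  constructor
  · intro hirr y g hg
    rw [Subgroup.mem_centralizer_singleton_iff]
    have hy2 : ∀ r : ℕ, r.Prime → r ∣ orderOf (y : G) → r = 2 := by
      intro r hr hrd
      obtain ⟨k, hk⟩ := P.2 y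
      have : orderOf (y : G) ∣ 2 ^ k := by
        rw [Subgroup.orderOf_coe]; exact orderOf_dvd_of_pow_eq_one hk
      exact (Nat.prime_dvd_prime_iff_eq hr Nat.prime_two).1 (hr.dvd_of_dvd_pow (dvd_trans hrd this))
    have hgn : (g : G) ∈ Subgroup.normalizer ((Subgroup.zpowers (y : G) : Subgroup G) : Set G) := by
      apply Subgroup.mem_normalizer_fintype
      rintro n ⟨i, rfl⟩
      have h1 : g * y ^ i * g⁻¹ ∈ Subgroup.zpowers y :=
        (Subgroup.mem_normalizer_iff.1 hg (y ^ i)).1 (Subgroup.zpow_mem _ (Subgroup.mem_zpowers y) i)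
      obtain ⟨j, hj⟩ := h1
      refine ⟨j, ?_⟩
      have := congrArg (Subtype.val) hj
      simpa using this
    have := hirr (y : G) hy2 hgn
    rw [Subgroup.mem_centralizer_singleton_iff] at this
    exact Subtype.ext (by simpa using this)
  · intro hP x hx g hg
    rw [Subgroup.mem_centralizer_singleton_iff]
    have hk : orderOf x = 2 ^ (orderOf x).primeFactorsList.length :=
      Nat.eq_prime_pow_of_unique_prime_dvd (orderOf_pos x).ne' (fun {d} hd hdd => hx d hd hdd)
    set k := (orderOf x).primeFactorsList.length with hkdef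
    obtain ⟨a, b, hab, hcomm, ⟨l, hl⟩, hbcop, haz, hbz⟩ := Lib.Helper22.exists_p_decomp 2 g
    have hzle : Subgroup.zpowers g ≤ Subgroup.normalizer ((Subgroup.zpowers x : Subgroup G) : Set G) :=
      Subgroup.zpowers_le.2 hg
    have hbx : b * x = x * b := odd_part x b k hk (hzle hbz) hbcop
    have han := hzle haz
    have hT : IsPGroup 2 (Subgroup.zpowers a ⊔ Subgroup.zpowers x : Subgroup G) := by
      apply IsPGroup.to_sup_of_normal_right'
      · apply IsPGroup.of_card (n := l)
        rw [Nat.card_zpowers, hl]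
      · apply IsPGroup.of_card (n := k)
        rw [Nat.card_zpowers, hk]
      · exact Subgroup.zpowers_le.2 han
    obtain ⟨Q, hQ⟩ := hT.exists_le_sylow
    obtain ⟨c, hc⟩ := MulAction.exists_smul_eq G P Q
    have haQ : a ∈ ((c • P : Sylow 2 G) : Subgroup G) := by
      rw [hc]; exact hQ (Subgroup.mem_sup_left (Subgroup.mem_zpowers a))
    have hxQ : x ∈ ((c • P : Sylow 2 G) : Subgroup G) := by
      rw [hc]; exact hQ (Subgroup.mem_sup_right (Subgroup.mem_zpowers x))
    rw [Lib.Helper22.mem_smul_sylow_iff] at haQ hxQ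
    have hnorm : (⟨c⁻¹ * a * c, haQ⟩ : (P : Subgroup G)) ∈
        Subgroup.normalizer ((Subgroup.zpowers (⟨c⁻¹ * x * c, hxQ⟩ : (P : Subgroup G)) :
          Subgroup (P : Subgroup G)) : Set (P : Subgroup G)) := by
      apply Subgroup.mem_normalizer_fintype
      rintro n ⟨i, rfl⟩
      have h1 : a * x ^ i * a⁻¹ ∈ Subgroup.zpowers x :=
        (Subgroup.mem_normalizer_iff.1 han (x ^ i)).1 (Subgroup.zpow_mem _ (Subgroup.mem_zpowers x) i)
      obtain ⟨j, hj⟩ := h1
      have hj' : x ^ j = a * x ^ i * a⁻¹ := hj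
      refine ⟨j, ?_⟩
      apply Subtype.ext
      have h2 : (c⁻¹ * x * c) ^ j = c⁻¹ * x ^ j * c := by
        have := conj_zpow (i := j) (a := c⁻¹) (b := x)
        simpa using this
      have h3 : (c⁻¹ * x * c) ^ i = c⁻¹ * x ^ i * c := by
        have := conj_zpow (i := i) (a := c⁻¹) (b := x)
        simpa using this
      simp only [Subgroup.coe_zpow, Subgroup.coe_mul, Subgroup.coe_inv]
      rw [h2, h3, hj']
      group
    have h4 := hP _ hnorm
    rw [Subgroup.mem_centralizer_singleton_iff] at h4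
    have h5 := congrArg Subtype.val h4
    simp only [Subgroup.coe_mul] at h5
    have hax : a * x = x * a := by
      have h6 : c * (c⁻¹ * a * c * (c⁻¹ * x * c)) * c⁻¹ = c * (c⁻¹ * x * c * (c⁻¹ * a * c)) * c⁻¹ := by
        rw [h5]
      simpa [mul_assoc] using h6
    rw [hab, mul_assoc, hbx, ← mul_assoc, hax, mul_assoc]

end Cfsg.Agent.S4028
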