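import Cfsg.Statements.S4029
import Mathlib
import Cfsg.Agent.Lib.Helper1.Frat

set_option autoImplicit false
open Cfsg

namespace Cfsg.Agent.S4029

open Finset

theorem sq_eq_iff {P : Type*} [Group P] (g x : P) :
    (g * x) ^ 2 = x ^ 2 ↔ x⁻¹ * g * x = g⁻¹ := by
  constructor
  · intro h
    have h1 : g * x * g = x := by
      have h2 : g * x * g * x = x * x := by
        have : g * x * (g * x) = x * x := by simpa [sq] using h
        simpa [mul_assoc] using this
      exact mul_right_cancel h2
    rw [eq_inv_iff_mul_eq_one]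
    calc x⁻¹ * g * x * g = x⁻¹ * (g * x * g) := by group
      _ = 1 := by rw [h1]; group
  · intro h
    have h1 : g * x * g = x := by
      have h2 : x⁻¹ * g * x * g = 1 := by rw [h]; group
      calc g * x * g = x * (x⁻¹ * g * x * g) := by group
        _ = x := by rw [h2, mul_one]
    rw [sq, sq]
    calc g * x * (g * x) = (g * x * g) * x := by group
      _ = x * x := by rw [h1]

theorem sq_eq_one_of_inverted {P : Type*} [Group P]
    (hirr : ∀ y : P, Subgroup.normalizer ((Subgroup.zpowers y : Subgroup P) : Set P) ≤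
      Subgroup.centralizer {y})
    (g x : P) (h : x⁻¹ * g * x = g⁻¹) : g ^ 2 = 1 ∧ Commute g x := by
  have hn : x⁻¹ ∈ Subgroup.normalizer ((Subgroup.zpowers g : Subgroup P) : Set P) := by
    rw [Subgroup.mem_normalizer_iff_map_conj_eq, MonoidHom.map_zpowers]
    have h0 : (MulAut.conj x⁻¹) g = g⁻¹ := by
      rw [MulAut.conj_apply, inv_inv]; exact h
    change Subgroup.zpowers ((MulAut.conj x⁻¹) g) = Subgroup.zpowers g
    rw [h0, Subgroup.zpowers_inv]
  have hc := hirr g hn
  rw [Subgroup.mem_centralizer_iff] at hc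
  have hc' : g * x⁻¹ = x⁻¹ * g := hc g (Set.mem_singleton g)
  have hcomm : Commute g x := by
    have : Commute g x⁻¹ := hc'
    simpa using this.inv_right
  refine ⟨?_, hcomm⟩
  have h3 : x⁻¹ * g * x = g := by
    rw [← hc', inv_mul_cancel_right]
  have : g = g⁻¹ := h3.symm.trans h
  rw [sq]
  calc g * g = g * g⁻¹ := by rw [← this]
    _ = 1 := mul_inv_cancel g

theorem main {P : Type*} [Group P] [Finite P] (hP : IsPGroup 2 P)
    (hirr : ∀ y : P, Subgroup.normalizer ((Subgroup.zpowers y : Subgroup P) : Set P) ≤
      Subgroup.centralizer {y}) :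
    Nat.card (P ⧸ frattini P) ≤
      Nat.card {c : ConjClasses P // ∃ y : P, ConjClasses.mk y = c ∧ orderOf y = 2} + 1 := by
  classical
  let _ : Fintype P := Fintype.ofFinite P
  have : Fact (Nat.Prime 2) := ⟨Nat.prime_two⟩
  set s := Nat.card {c : ConjClasses P // ∃ y : P, ConjClasses.mk y = c ∧ orderOf y = 2} with hs
  let T : Finset (P × P) := univ.filter (fun q : P × P => q.2⁻¹ * q.1 * q.2 = q.1⁻¹)
  let R : Finset (P × P) := univ.filter (fun q : P × P => q.1 ^ 2 = q.2 ^ 2)
  let r : P → ℕ := fun w => (univ.filter (fun x : P => x ^ 2 = w)).card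
  let Φ : Finset P := univ.filter (fun w : P => w ∈ frattini P)
  have hTR : T.card = R.card := by
    apply Finset.card_nbij' (fun q : P × P => (q.2, q.1 * q.2)) (fun q : P × P => (q.2 * q.1⁻¹, q.1))
    · intro q hq
      simp only [T, R, coe_filter, mem_univ, true_and, Set.mem_ofPred_eq] at hq ⊢
      exact ((sq_eq_iff q.1 q.2).mpr hq).symm
    · intro q hq
      simp only [T, R, coe_filter, mem_univ, true_and, Set.mem_ofPred_eq] at hq ⊢
      apply (sq_eq_iff _ _).mp
      rw [inv_mul_cancel_right]
      exact hq.symm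
    · intro q _
      simp
    · intro q _
      simp
  have hR : R.card = ∑ w : P, r w ^ 2 := by
    rw [Finset.card_eq_sum_card_fiberwise (f := fun q : P × P => q.1 ^ 2) (s := R) (t := univ)
      (by intro q _; simp)]
    apply Finset.sum_congr rfl
    intro w _
    have : R.filter (fun q : P × P => q.1 ^ 2 = w) =
        (univ.filter (fun x : P => x ^ 2 = w)) ×ˢ (univ.filter (fun x : P => x ^ 2 = w)) := by
      ext q
      simp only [R, mem_filter, mem_univ, true_and, mem_product]
      constructor
      · rintro ⟨h1, h2⟩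
        exact ⟨h2, by rw [← h1]; exact h2⟩
      · rintro ⟨h1, h2⟩
        exact ⟨by rw [h1, h2], h1⟩
    rw [this, Finset.card_product, sq]
  have hsumΦ : ∑ w ∈ Φ, r w = Fintype.card P := by
    rw [← Finset.card_univ]
    rw [Finset.card_eq_sum_card_fiberwise (f := fun x : P => x ^ 2) (s := univ) (t := Φ)]
    intro x _
    simp only [Φ, coe_filter, mem_univ, true_and, Set.mem_ofPred_eq]
    exact Cfsg.Agent.Lib.Helper1.pgroup_pow_mem_frattini hP x
  have hCS : Fintype.card P ^ 2 ≤ Φ.card * R.card := by
    rw [← hsumΦ, hR]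
    calc (∑ w ∈ Φ, r w) ^ 2 ≤ Φ.card * ∑ w ∈ Φ, r w ^ 2 := sq_sum_le_card_mul_sum_sq
      _ ≤ Φ.card * ∑ w : P, r w ^ 2 := by
        apply Nat.mul_le_mul_left
        exact Finset.sum_le_sum_of_subset (Finset.subset_univ _)
  let CY : Finset (ConjClasses P) :=
    univ.filter (fun c : ConjClasses P => ∃ y : P, ConjClasses.mk y = c ∧ y ^ 2 = 1)
  have hrep : ∀ g : P, ∃ u : P, u * (Quotient.out (ConjClasses.mk g)) * u⁻¹ = g := by
    intro g
    have h1 : ConjClasses.mk (Quotient.out (ConjClasses.mk g)) = ConjClasses.mk g :=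
      Quotient.out_eq _
    rw [ConjClasses.mk_eq_mk_iff_isConj, isConj_iff] at h1
    exact h1
  choose u hu using hrep
  have hTle : T.card ≤ (CY ×ˢ (univ : Finset P)).card := by
    apply Finset.card_le_card_of_injOn (fun q : P × P => (ConjClasses.mk q.1, q.2 * u q.1))
    · intro q hq
      simp only [T, coe_filter, mem_univ, true_and, Set.mem_ofPred_eq] at hq
      have h1 := sq_eq_one_of_inverted hirr q.1 q.2 hq
      simp only [CY, coe_product, coe_filter, mem_univ, true_and, coe_univ, Set.mem_prod,
        Set.mem_ofPred_eq, Set.mem_univ, and_true]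
      exact ⟨q.1, rfl, h1.1⟩
    · intro q hq q' hq' hqq
      simp only [T, coe_filter, mem_univ, true_and, Set.mem_ofPred_eq] at hq hq'
      have h1 := (sq_eq_one_of_inverted hirr q.1 q.2 hq).2
      have h1' := (sq_eq_one_of_inverted hirr q'.1 q'.2 hq').2
      simp only [Prod.mk.injEq] at hqq
      obtain ⟨hc, hw⟩ := hqq
      have key : ∀ q : P × P, Commute q.1 q.2 →
          (q.2 * u q.1) * Quotient.out (ConjClasses.mk q.1) * (q.2 * u q.1)⁻¹ = q.1 := by
        intro q hcomm
        calc (q.2 * u q.1) * Quotient.out (ConjClasses.mk q.1) * (q.2 * u q.1)⁻¹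
            = q.2 * (u q.1 * Quotient.out (ConjClasses.mk q.1) * (u q.1)⁻¹) * q.2⁻¹ := by group
          _ = q.2 * q.1 * q.2⁻¹ := by rw [hu]
          _ = q.1 := by rw [← hcomm.eq, mul_inv_cancel_right]
      have e1 : q.1 = q'.1 := by
        rw [← key q h1, ← key q' h1', hc, hw]
      have e2 : q.2 = q'.2 := by
        rw [e1] at hw
        exact mul_right_cancel hw
      exact Prod.ext e1 e2
  have hCY : CY.card ≤ s + 1 := by
    have hsub : CY ⊆ insert (ConjClasses.mk (1 : P))
        (univ.filter (fun c : ConjClasses P => ∃ y : P, ConjClasses.mk y = c ∧ orderOf y = 2)) := by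
      intro c hc
      simp only [CY, mem_filter, mem_univ, true_and] at hc
      obtain ⟨y, rfl, hy⟩ := hc
      by_cases h1 : y = 1
      · rw [h1]; exact Finset.mem_insert_self _ _
      · apply Finset.mem_insert_of_mem
        simp only [mem_filter, mem_univ, true_and]
        exact ⟨y, rfl, orderOf_eq_prime hy h1⟩
    have h2 : (univ.filter (fun c : ConjClasses P =>
        ∃ y : P, ConjClasses.mk y = c ∧ orderOf y = 2)).card = s := by
      rw [hs, Nat.card_eq_fintype_card, Fintype.card_subtype]
    calc CY.card ≤ _ := Finset.card_le_card hsub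
      _ ≤ _ + 1 := Finset.card_insert_le _ _
      _ = s + 1 := by rw [h2]
  have hΦ : Φ.card = Nat.card (frattini P) := by
    rw [Nat.card_eq_fintype_card, Fintype.card_subtype]
  have hPcard : Nat.card P = Nat.card (P ⧸ frattini P) * Nat.card (frattini P) :=
    Subgroup.card_eq_card_quotient_mul_card_subgroup (frattini P)
  have hpos : 0 < Fintype.card P := Fintype.card_pos
  have hfin : Fintype.card P * Fintype.card P ≤ Φ.card * ((s + 1) * Fintype.card P) := by
    calc Fintype.card P * Fintype.card P = Fintype.card P ^ 2 := (sq _).symm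
      _ ≤ Φ.card * R.card := hCS
      _ = Φ.card * T.card := by rw [hTR]
      _ ≤ Φ.card * (CY ×ˢ (univ : Finset P)).card := Nat.mul_le_mul_left _ hTle
      _ = Φ.card * (CY.card * Fintype.card P) := by rw [Finset.card_product, Finset.card_univ]
      _ ≤ Φ.card * ((s + 1) * Fintype.card P) :=
        Nat.mul_le_mul_left _ (Nat.mul_le_mul_right _ hCY)
  have h4 : Fintype.card P ≤ Φ.card * (s + 1) := by
    have : Fintype.card P * Fintype.card P ≤ (Φ.card * (s + 1)) * Fintype.card P := by
      rw [mul_assoc]; exact hfin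
    exact Nat.le_of_mul_le_mul_right this hpos
  rw [← Nat.card_eq_fintype_card, hPcard, hΦ] at h4
  have hΦpos : 0 < Nat.card (frattini P) := Nat.card_pos
  have : Nat.card (P ⧸ frattini P) * Nat.card (frattini P) ≤ (s + 1) * Nat.card (frattini P) := by
    rw [mul_comm (s + 1)]; exact h4
  exact Nat.le_of_mul_le_mul_right this hΦpos

theorem result {P : Type*} [Group P] [Finite P] (hP : IsPGroup 2 P)
    (hirr : ∀ y : P, Subgroup.normalizer ((Subgroup.zpowers y : Subgroup P) : Set P) ≤ Subgroup.centralizer {y}) :
    Nat.card (P ⧸ frattini P) ≤ Nat.card {c : ConjClasses P // ∃ y : P, ConjClasses.mk y = c ∧ orderOf y = 2} + 1 ∧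
    Nat.card (P ⧸ frattini P) ≤ Nat.card (Subgroup.closure {y : P | orderOf y = 2}) := by
  have h1 := main hP hirr
  refine ⟨h1, h1.trans ?_⟩
  classical
  let K : Subgroup P := Subgroup.closure {y : P | orderOf y = 2}
  have hinj : ∀ c : {c : ConjClasses P // ∃ y : P, ConjClasses.mk y = c ∧ orderOf y = 2},
      ∃ y : P, ConjClasses.mk y = c.1 ∧ orderOf y = 2 := fun c => c.2
  choose f hf using hinj
  let F : Option {c : ConjClasses P // ∃ y : P, ConjClasses.mk y = c ∧ orderOf y = 2} → K :=
    fun o => match o with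
      | none => 1
      | some c => ⟨f c, Subgroup.subset_closure (hf c).2⟩
  have hF : Function.Injective F := by
    intro a b hab
    match a, b with
    | none, none => rfl
    | none, some c =>
      exfalso
      have : (1 : P) = f c := congrArg Subtype.val hab
      have h2 := (hf c).2
      rw [← this, orderOf_one] at h2
      omega
    | some c, none =>
      exfalso
      have : f c = (1 : P) := congrArg Subtype.val hab
      have h2 := (hf c).2
      rw [this, orderOf_one] at h2
      omega
    | some c, some d =>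
      have : f c = f d := congrArg Subtype.val hab
      have h2 : c.1 = d.1 := by rw [← (hf c).1, ← (hf d).1, this]
      exact congrArg some (Subtype.ext h2)
  have := Nat.card_le_card_of_injective F hF
  rw [Finite.card_option] at this
  exact this

end Cfsg.Agent.S4029
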