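import Cfsg.Statements.S4032
import Cfsg.Agent.Lib.Helper22.Sylow2

set_option autoImplicit false
open Cfsg

namespace Cfsg.Agent.S4032

theorem pp_case {G : Type*} [Group G] [Finite G] (π : Set ℕ)
    (hirr : ∀ x : G, (∀ r : ℕ, r.Prime → r ∣ orderOf x → r ∈ π) →
      Subgroup.normalizer ((Subgroup.zpowers x : Subgroup G) : Set G) ≤ Subgroup.centralizer {x})
    (N : Subgroup G) [N.Normal] (hN : ∀ r : ℕ, r.Prime → r ∣ Nat.card N → r ∉ π)
    (p : ℕ) (hp : p.Prime) (hpπ : p ∈ π) (a gb : G ⧸ N) (k : ℕ) (ha : orderOf a = p ^ k)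
    (hconj : gb * a * gb⁻¹ ∈ Subgroup.zpowers a) : gb * a = a * gb := by
  have : Fact p.Prime := ⟨hp⟩
  have hpN : ¬ p ∣ Nat.card N := fun h => hN p hp h hpπ
  obtain ⟨x₀, hx₀⟩ := QuotientGroup.mk_surjective a
  obtain ⟨g, hg⟩ := QuotientGroup.mk_surjective gb
  obtain ⟨x, b, hxb, hcomm, ⟨l, hl⟩, hbcop, hxz, hbz⟩ := Lib.Helper22.exists_p_decomp p x₀
  have hb1 : (QuotientGroup.mk b : G ⧸ N) = 1 := by
    have h1 : orderOf (QuotientGroup.mk b : G ⧸ N) ∣ orderOf b :=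
      orderOf_map_dvd (QuotientGroup.mk' N) b
    have h2 : orderOf (QuotientGroup.mk b : G ⧸ N) ∣ p ^ k := by
      rw [← ha]
      apply orderOf_dvd_of_mem_zpowers
      obtain ⟨i, hi⟩ := hbz
      refine ⟨i, ?_⟩
      rw [← hx₀, ← hi]
      simp
    have h3 : (orderOf (QuotientGroup.mk b : G ⧸ N)).Coprime (p ^ k) :=
      (Nat.Coprime.coprime_dvd_left h1 hbcop).pow_right k
    exact orderOf_eq_one_iff.1 (h3.eq_one_of_dvd h2)
  have hxa : (QuotientGroup.mk x : G ⧸ N) = a := by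
    rw [← hx₀, hxb, QuotientGroup.mk_mul, hb1, mul_one]
  have hxπ : ∀ r : ℕ, r.Prime → r ∣ orderOf x → r ∈ π := by
    intro r hr hrd
    rw [hl] at hrd
    have := (Nat.prime_dvd_prime_iff_eq hr hp).1 (hr.dvd_of_dvd_pow hrd)
    rw [this]; exact hpπ
  obtain ⟨i, hi⟩ := hconj
  have hu : g * x * g⁻¹ ∈ Subgroup.zpowers x ⊔ N := by
    have h1 : (x ^ i)⁻¹ * (g * x * g⁻¹) ∈ N := by
      rw [← QuotientGroup.eq]
      rw [QuotientGroup.mk_zpow, hxa, QuotientGroup.mk_mul, QuotientGroup.mk_mul,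
        QuotientGroup.mk_inv, hxa, hg]
      exact hi
    have h2 : g * x * g⁻¹ = x ^ i * ((x ^ i)⁻¹ * (g * x * g⁻¹)) := by group
    rw [h2]
    exact Subgroup.mul_mem_sup (Subgroup.zpow_mem _ (Subgroup.mem_zpowers x) i) h1
  have hou : orderOf (g * x * g⁻¹) = p ^ l := by
    rw [← hl]
    symm
    apply SemiconjBy.orderOf_eq g
    unfold SemiconjBy
    group
  have hAp : IsPGroup p (Subgroup.zpowers x) := by
    apply IsPGroup.of_card (n := l)
    rw [Nat.card_zpowers, hl]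
  obtain ⟨h, hh, hhu⟩ := Lib.Helper22.exists_conj_mem_of_pelement p (Subgroup.zpowers x ⊔ N)
    (Subgroup.zpowers x) hAp (Lib.Helper22.not_dvd_relIndex_zpowers_sup p x l hl N hpN)
    (g * x * g⁻¹) hu l hou
  have hc : h⁻¹ * g ∈ Subgroup.normalizer ((Subgroup.zpowers x : Subgroup G) : Set G) := by
    apply Subgroup.mem_normalizer_fintype
    intro n hn
    obtain ⟨j, rfl⟩ := hn
    have h3 : h⁻¹ * g * x ^ j * (h⁻¹ * g)⁻¹ = (h⁻¹ * (g * x * g⁻¹) * h) ^ j := by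
      have h4 : h⁻¹ * (g * x * g⁻¹) * h = (h⁻¹ * g) * x * (h⁻¹ * g)⁻¹ := by group
      rw [h4, conj_zpow]
    show h⁻¹ * g * x ^ j * (h⁻¹ * g)⁻¹ ∈ Subgroup.zpowers x
    rw [h3]
    exact Subgroup.zpow_mem _ hhu j
  have hcx := hirr x hxπ hc
  rw [Subgroup.mem_centralizer_singleton_iff] at hcx
  have hha : (QuotientGroup.mk h : G ⧸ N) * a = a * (QuotientGroup.mk h : G ⧸ N) := by
    have h5 : h ∈ ((Subgroup.zpowers x ⊔ N : Subgroup G) : Set G) := hh
    rw [Subgroup.mul_normal, Set.mem_mul] at h5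
    obtain ⟨s, hs, n, hn, rfl⟩ := h5
    obtain ⟨j, rfl⟩ := hs
    have hn1 : (QuotientGroup.mk n : G ⧸ N) = 1 := (QuotientGroup.eq_one_iff n).2 hn
    rw [QuotientGroup.mk_mul, hn1, mul_one, QuotientGroup.mk_zpow, hxa]
    exact ((Commute.refl a).zpow_left j).eq
  have hca : (QuotientGroup.mk (h⁻¹ * g) : G ⧸ N) * a = a * (QuotientGroup.mk (h⁻¹ * g) : G ⧸ N) := by
    rw [← hxa, ← QuotientGroup.mk_mul, ← QuotientGroup.mk_mul, hcx]
  have hgb : gb = (QuotientGroup.mk h : G ⧸ N) * (QuotientGroup.mk (h⁻¹ * g) : G ⧸ N) := by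
    rw [← hg, ← QuotientGroup.mk_mul]
    congr 1
    group
  rw [hgb, mul_assoc, hca, ← mul_assoc, hha, mul_assoc]

theorem result {G : Type*} [Group G] [Finite G] (π : Set ℕ)
    (hirr : ∀ x : G, (∀ r : ℕ, r.Prime → r ∣ orderOf x → r ∈ π) →
      Subgroup.normalizer ((Subgroup.zpowers x : Subgroup G) : Set G) ≤ Subgroup.centralizer {x})
    (N : Subgroup G) [N.Normal] (hN : ∀ r : ℕ, r.Prime → r ∣ Nat.card N → r ∉ π) :
    ∀ y : G ⧸ N, (∀ r : ℕ, r.Prime → r ∣ orderOf y → r ∈ π) →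
      Subgroup.normalizer ((Subgroup.zpowers y : Subgroup (G ⧸ N)) : Set (G ⧸ N)) ≤ Subgroup.centralizer {y} := by
  intro y hy gb hgb
  rw [Subgroup.mem_centralizer_singleton_iff]
  have h1 : gb * y * gb⁻¹ ∈ Subgroup.zpowers y :=
    (Subgroup.mem_normalizer_iff.1 hgb y).1 (Subgroup.mem_zpowers y)
  rw [← mem_powers_iff_mem_zpowers] at h1
  obtain ⟨j, hj⟩ := h1
  have hj' : y ^ j = gb * y * gb⁻¹ := hj
  have hmod : j ≡ 1 [MOD orderOf y] := by
    rw [Nat.modEq_iff_dvd, Int.natCast_dvd, Nat.dvd_iff_prime_pow_dvd_dvd]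
    intro p k hp hpk
    rcases Nat.eq_zero_or_pos k with rfl | hkpos
    · simp
    have hpπ : p ∈ π := hy p hp (dvd_trans (dvd_pow_self p hkpos.ne') hpk)
    have hn0 : orderOf y / p ^ k ≠ 0 := by
      intro h0
      rw [Nat.div_eq_zero_iff] at h0
      rcases h0 with h0 | h0
      · exact (pow_pos hp.pos k).ne' h0
      · exact absurd (Nat.le_of_dvd (orderOf_pos y) hpk) (not_le.2 h0)
    have hoa : orderOf (y ^ (orderOf y / p ^ k)) = p ^ k := by
      rw [orderOf_pow_of_dvd hn0 (Nat.div_dvd_of_dvd hpk)]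
      exact Nat.div_div_self hpk (orderOf_pos y).ne'
    have hca : gb * y ^ (orderOf y / p ^ k) * gb⁻¹ = (y ^ (orderOf y / p ^ k)) ^ j := by
      rw [← conj_pow, ← hj', ← pow_mul, ← pow_mul, mul_comm]
    have hcomm := pp_case π hirr N hN p hp hpπ (y ^ (orderOf y / p ^ k)) gb k hoa
      (by rw [hca]; exact Subgroup.pow_mem _ (Subgroup.mem_zpowers _) j)
    have h2 : (y ^ (orderOf y / p ^ k)) ^ j = (y ^ (orderOf y / p ^ k)) ^ 1 := by
      rw [← hca, hcomm, pow_one]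
      group
    rw [pow_eq_pow_iff_modEq, hoa] at h2
    rw [← Int.natCast_dvd]
    have := (Nat.modEq_iff_dvd.1 h2)
    exact_mod_cast this
  have h3 : y ^ j = y ^ 1 := pow_eq_pow_iff_modEq.2 hmod
  rw [pow_one] at h3
  rw [hj'] at h3
  calc gb * y = gb * y * gb⁻¹ * gb := by group
    _ = y * gb := by rw [h3]

end Cfsg.Agent.S4032
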