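import Cfsg.Statements.S4035
import Cfsg.Agent.S3986
import Cfsg.Agent.Lib.Helper22.Basic
import Cfsg.Agent.Lib.Helper22.Sylow

set_option autoImplicit false
open Cfsg

namespace Cfsg.Agent.S4035

open Cfsg.Agent.Lib.Helper22

theorem index_eq_card_of_compl {G : Type*} [Group G] (P K : Subgroup G) [K.Normal]
    (hdis : P ⊓ K = ⊥) (hsup : P ⊔ K = ⊤) : K.index = Nat.card P := by
  have h1 : K.relIndex (P ⊔ K) = K.relIndex P := Subgroup.relIndex_sup_right P K
  rw [hsup, Subgroup.relIndex_top_right] at h1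
  rw [h1, ← Subgroup.inf_relIndex_left, hdis, Subgroup.relIndex_bot_left]

theorem mem_of_coprime_index {G : Type*} [Group G] [Finite G] (N : Subgroup G) [N.Normal] (y : G)
    (h : (orderOf y).Coprime N.index) : y ∈ N := by
  have h1 : orderOf (QuotientGroup.mk' N y) ∣ orderOf y := orderOf_map_dvd _ y
  have h2 : orderOf (QuotientGroup.mk' N y) ∣ N.index := orderOf_dvd_natCard _
  have h3 : orderOf (QuotientGroup.mk' N y) = 1 := Nat.eq_one_of_dvd_coprimes h h1 h2
  rw [orderOf_eq_one_iff] at h3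
  exact (QuotientGroup.eq_one_iff y).1 h3

theorem result {G : Type*} [Group G] [Finite G] {p : ℕ} [Fact p.Prime]
    (h : ∀ x : G, (orderOf x).Coprime p → ¬ p ∣ (ConjClasses.mk x).carrier.ncard) (P : Sylow p G) :
    (P : Subgroup G).Normal ∧ ∃ H : Subgroup G, H.Normal ∧ ¬ p ∣ Nat.card H ∧
      (P : Subgroup G) ⊓ H = ⊥ ∧ (P : Subgroup G) ⊔ H = ⊤ := by
  have hp : p.Prime := Fact.out
  have hidx : ∀ b : G, (orderOf b).Coprime p →
      ¬ p ∣ (Subgroup.centralizer ({b} : Set G)).index := by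
    intro b hb
    rw [index_centralizer_eq_ncard_conj]
    have h1 := h b hb
    have h2 : (ConjClasses.mk b).carrier = {h : G | IsConj b h} := by
      ext x
      rw [ConjClasses.mem_carrier_iff_mk_eq, ConjClasses.mk_eq_mk_iff_isConj, Set.mem_ofPred_eq,
        isConj_comm]
    rw [h2] at h1
    exact h1
  set H := (P : Subgroup G) ⊔ Subgroup.centralizer ((P : Subgroup G) : Set G) with hH
  have hcover : ∀ g : G, ∃ c : G, c⁻¹ * g * c ∈ H := by
    intro g
    obtain ⟨a, b, hg, hab, ⟨k, hk⟩, hb, -, -⟩ := exists_p_decomp p g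
    have haC : a ∈ Subgroup.centralizer ({b} : Set G) :=
      Subgroup.mem_centralizer_singleton_iff.2 hab.eq
    obtain ⟨R, hRC, haR⟩ :=
      exists_sylow_le_of_pelement p (Subgroup.centralizer ({b} : Set G)) (hidx b hb) a haC k hk
    obtain ⟨c, hc⟩ := MulAction.exists_smul_eq G P R
    refine ⟨c, ?_⟩
    have h1 : c⁻¹ * a * c ∈ (P : Subgroup G) := (mem_smul_sylow_iff c a P).1 (hc ▸ haR)
    have h2 : c⁻¹ * b * c ∈ Subgroup.centralizer ((P : Subgroup G) : Set G) := by
      rw [Subgroup.mem_centralizer_iff]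
      intro u hu
      have h3 : c * u * c⁻¹ ∈ (R : Subgroup G) := by
        rw [← hc, mem_smul_sylow_iff]
        have : c⁻¹ * (c * u * c⁻¹) * c = u := by group
        rw [this]; exact hu
      have h4 := Subgroup.mem_centralizer_singleton_iff.1 (hRC h3)
      calc u * (c⁻¹ * b * c) = c⁻¹ * ((c * u * c⁻¹) * b) * c := by group
        _ = c⁻¹ * (b * (c * u * c⁻¹)) * c := by rw [h4]
        _ = c⁻¹ * b * c * u := by group
    have h5 : c⁻¹ * g * c = (c⁻¹ * a * c) * (c⁻¹ * b * c) := by rw [hg]; group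
    rw [h5, hH]
    exact Subgroup.mul_mem_sup h1 h2
  have hHtop := eq_top_of_conj_cover H hcover
  have hPn : (P : Subgroup G).Normal := by
    rw [← Subgroup.normalizer_eq_top_iff, eq_top_iff, ← hHtop, hH]
    exact sup_le Subgroup.le_normalizer (Subgroup.centralizer_le_normalizer _)
  haveI := hPn
  have hCn : (Subgroup.centralizer ((P : Subgroup G) : Set G)).Normal :=
    Subgroup.normal_centralizer
  have hidxC : (Subgroup.centralizer ((P : Subgroup G) : Set G)).index ∣ Nat.card P := by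
    have h1 := Subgroup.relIndex_sup_right (P : Subgroup G)
      (Subgroup.centralizer ((P : Subgroup G) : Set G))
    rw [← hH, hHtop, Subgroup.relIndex_top_right] at h1
    rw [h1]
    exact Subgroup.relIndex_dvd_card _ _
  have hcomm : ∀ x y : G, (∃ a : ℕ, orderOf x = p ^ a) →
      (∃ q b : ℕ, q.Prime ∧ q ≠ p ∧ orderOf y = q ^ b) → x * y = y * x := by
    rintro x y ⟨a, ha⟩ ⟨q, b, hq, hqp, hb⟩
    have hxP := mem_sylow_of_normal p P hPn x a ha
    have hy : y ∈ Subgroup.centralizer ((P : Subgroup G) : Set G) := by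
      apply mem_of_coprime_index
      apply Nat.Coprime.coprime_dvd_right hidxC
      obtain ⟨n, hn⟩ := IsPGroup.iff_card.1 P.isPGroup'
      rw [hb, hn]
      exact Nat.Coprime.pow _ _ ((Nat.coprime_primes hq hp).2 hqp)
    rw [Subgroup.mem_centralizer_iff] at hy
    exact hy x hxP
  obtain ⟨P', K, hP'n, hKn, hdis, hsup⟩ := Cfsg.Agent.S3986.backward p hcomm
  have hPP' : P' = P := by
    haveI := Sylow.unique_of_normal P hPn
    exact Subsingleton.elim _ _
  subst hPP'
  refine ⟨hPn, K, hKn, ?_, hdis, hsup⟩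
  have h1 : (P' : Subgroup G).index = Nat.card K := by
    apply index_eq_card_of_compl K (P' : Subgroup G)
    · rw [inf_comm]; exact hdis
    · rw [sup_comm]; exact hsup
  rw [← h1]
  exact P'.not_dvd_index

end Cfsg.Agent.S4035
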