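import Cfsg.Statements.S4036

set_option autoImplicit false
open Cfsg

namespace Cfsg.Agent.S4036

theorem result {P : Type*} [CommGroup P] [Finite P] {p : ℕ}
    [Fact p.Prime] (hP : IsPGroup p P) (K : Subgroup (MulAut P)) (hK : p ∣ Nat.card K)
    (hfix : ∀ x y : MulAut P, x ∈ K → y ∈ K → x ≠ 1 → y ≠ 1 → ∀ v : P, x v = v ↔ y v = v) :
    ∀ N : Subgroup ↥K, N.Normal → ¬ p ∣ Nat.card N → N = ⊥ := by
  intro N hNn hNp
  have hp : p.Prime := Fact.out
  obtain ⟨g, hg⟩ := exists_prime_orderOf_dvd_card' p hK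
  have hg1 : g ≠ 1 := by
    rintro rfl
    rw [orderOf_one] at hg
    exact hp.one_lt.ne hg
  have hg1' : ((g : K) : MulAut P) ≠ 1 := fun h => hg1 (Subtype.ext h)
  let _ : Fintype N := Fintype.ofFinite N
  let ν : P →* P :=
    { toFun := fun v => ∏ x : N, (((x : K) : MulAut P) v)
      map_one' := by simp
      map_mul' := fun v w => by simp [Finset.prod_mul_distrib] }
  have hν : ∀ v, ν v = ∏ x : N, (((x : K) : MulAut P) v) := fun v => rfl
  have hν1 : ∀ y : N, ∀ v : P, ((y : K) : MulAut P) (ν v) = ν v := by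
    intro y v
    rw [hν, map_prod]
    exact Fintype.prod_equiv (Equiv.mulLeft y) _ _ (fun x => by simp [MulAut.mul_apply])
  have hν3 : ∀ y : N, ∀ v : P, ν (((y : K) : MulAut P) v) = ν v := by
    intro y v
    rw [hν, hν]
    exact Fintype.prod_equiv (Equiv.mulRight y) _ _ (fun x => by simp [MulAut.mul_apply])
  have hν4 : ∀ v : P, (∀ y : N, ((y : K) : MulAut P) v = v) → ν v = v ^ Nat.card N := by
    intro v hv
    rw [hν]
    simp only [hv, Finset.prod_const, Finset.card_univ, Nat.card_eq_fintype_card]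
  have hν5 : ∀ k : K, ∀ v : P, (k : MulAut P) (ν v) = ν ((k : MulAut P) v) := by
    intro k v
    rw [hν, hν, map_prod]
    let e : N ≃ N :=
      { toFun := fun x => ⟨k * x * k⁻¹, hNn.conj_mem x x.2 k⟩
        invFun := fun x => ⟨k⁻¹ * x * k, by
          have := hNn.conj_mem x x.2 k⁻¹
          simpa using this⟩
        left_inv := fun x => Subtype.ext (by simp [mul_assoc])
        right_inv := fun x => Subtype.ext (by simp [mul_assoc]) }
    exact Fintype.prod_equiv e _ _ (fun x => by simp [e, MulAut.mul_apply])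
  set W : Subgroup P := ν.ker with hW
  have hW1 : ∀ k : K, ∀ v ∈ W, (k : MulAut P) v ∈ W := by
    intro k v hv
    rw [hW, MonoidHom.mem_ker] at hv ⊢
    rw [← hν5, hv, map_one]
  have hW2 : ∀ v ∈ W, (∀ y : N, ((y : K) : MulAut P) v = v) → v = 1 := by
    intro v hv hfixv
    rw [hW, MonoidHom.mem_ker, hν4 v hfixv] at hv
    obtain ⟨k, hk⟩ := (IsPGroup.iff_orderOf.1 hP) v
    have h1 : orderOf v ∣ Nat.card N := orderOf_dvd_of_pow_eq_one hv
    rw [hk] at h1
    have hcop : (p ^ k).Coprime (Nat.card N) :=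
      Nat.Coprime.pow_left _ ((Nat.Prime.coprime_iff_not_dvd hp).2 hNp)
    have h2 := Nat.Coprime.eq_one_of_dvd hcop h1
    rw [h2] at hk
    exact orderOf_eq_one_iff.1 hk
  have hW3 : ∀ v : P, ((g : K) : MulAut P) v = v → ∀ y : N, ((y : K) : MulAut P) v = v := by
    intro v hv y
    by_cases hy : ((y : K) : MulAut P) = 1
    · rw [hy]; rfl
    · exact (hfix _ _ g.2 (y : K).2 hg1' hy v).1 hv
  let Z : Subgroup K := Subgroup.zpowers g
  have hZp : IsPGroup p Z := by
    apply IsPGroup.of_card (n := 1)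
    rw [Nat.card_zpowers, hg, pow_one]
  let act : MulAction Z W :=
    { smul := fun z w => ⟨((z : K) : MulAut P) (w : P), hW1 (z : K) w w.2⟩
      one_smul := fun w => Subtype.ext (by
        show (((1 : Z) : K) : MulAut P) (w : P) = w
        simp)
      mul_smul := fun z z' w => Subtype.ext (by
        show (((z * z' : Z) : K) : MulAut P) (w : P) = ((z : K) : MulAut P) (((z' : K) : MulAut P) (w : P))
        simp [MulAut.mul_apply]) }
  have hsmul : ∀ (z : Z) (w : W), ((z • w : W) : P) = ((z : K) : MulAut P) (w : P) := fun z w => rfl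
  have hfp : MulAction.fixedPoints Z W = {1} := by
    ext w
    rw [MulAction.mem_fixedPoints, Set.mem_singleton_iff]
    constructor
    · intro h
      have h1 := h ⟨g, Subgroup.mem_zpowers g⟩
      have h2 : ((g : K) : MulAut P) (w : P) = w := by
        have := congrArg Subtype.val h1
        rwa [hsmul] at this
      exact Subtype.ext (hW2 w w.2 (hW3 w h2))
    · rintro rfl z
      apply Subtype.ext
      rw [hsmul]
      simp
  have hcard := hZp.card_modEq_card_fixedPoints W
  rw [hfp] at hcard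
  simp only [Nat.card_eq_fintype_card, Fintype.card_unique] at hcard
  obtain ⟨j, hj⟩ := (hP.to_subgroup W).exists_card_eq
  have hWbot : W = ⊥ := by
    rw [← Subgroup.card_eq_one]
    rcases Nat.eq_zero_or_pos j with rfl | hjpos
    · rw [hj, pow_zero]
    · exfalso
      have h1 : p ∣ Nat.card W := by rw [hj]; exact dvd_pow_self p hjpos.ne'
      have h2 : Nat.card W % p = 0 := Nat.mod_eq_zero_of_dvd h1
      have h3 : 1 % p = 1 := Nat.mod_eq_of_lt hp.one_lt
      unfold Nat.ModEq at hcard
      omega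
  have hinj : Function.Injective ν := (MonoidHom.ker_eq_bot_iff ν).1 hWbot
  rw [eq_bot_iff]
  intro y hy
  rw [Subgroup.mem_bot]
  apply Subtype.ext
  apply MulEquiv.ext
  intro v
  exact hinj (hν3 ⟨y, hy⟩ v)

end Cfsg.Agent.S4036
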