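import Cfsg.Statements.S4039
import Cfsg.Agent.Lib.Helper18.NilMaxTwo

set_option autoImplicit false
open Cfsg

namespace Cfsg.Agent.S4039

theorem result {G : Type*} [Group G] [Finite G]
    (M : Subgroup G) (hmax : IsCoatom M) (hnil : Group.IsNilpotent M) (hcl : Group.nilpotencyClass ↥M ≤ 2) :
    Group.IsSolvable G := by
  haveI := hnil
  have htop : Subgroup.upperCentralSeries ↥M 2 = ⊤ :=
    Subgroup.upperCentralSeries_eq_top_iff_nilpotencyClass_le.mpr hcl
  have hcen : ∀ x y : ↥M, x * y * x⁻¹ * y⁻¹ ∈ Subgroup.center ↥M := by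
    intro x y
    have hx : x ∈ Subgroup.upperCentralSeries ↥M (1 + 1) := by
      show x ∈ Subgroup.upperCentralSeries ↥M 2
      rw [htop]; exact Subgroup.mem_top x
    rw [Subgroup.mem_upperCentralSeries_succ_iff, Subgroup.upperCentralSeries_one] at hx
    have := hx y
    rwa [commutatorElement_def] at this
  apply Cfsg.Agent.Lib.Helper18.NilMaxTwo.solvable_of_class_two M hmax hnil
  intro a ha b hb c hc
  have h1 := hcen ⟨a, ha⟩ ⟨b, hb⟩
  rw [Subgroup.mem_center_iff] at h1
  have h2 := h1 ⟨c, hc⟩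
  exact (congrArg Subtype.val h2).symm

end Cfsg.Agent.S4039
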