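import Cfsg.Statements.S4040
import Mathlib
import Cfsg.Agent.Lib.Helper1.TNPC.NilMax2

set_option autoImplicit false
open Cfsg

namespace Cfsg.Agent.S4040

/-- A finite group possessing a maximal subgroup that is nilpotent of odd order is solvable. -/
theorem result {G : Type*} [Group G] [Finite G]
    (M : Subgroup G) (hmax : IsCoatom M) (hnil : Group.IsNilpotent M) (hodd : Odd (Nat.card M)) :
    Group.IsSolvable G := by
  obtain ⟨N, hN⟩ : ∃ N : Subgroup G, N = M.normalCore := ⟨_, rfl⟩
  haveI hNn : N.Normal := by rw [hN]; infer_instance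
  have hNM : N ≤ M := by rw [hN]; exact Subgroup.normalCore_le M
  have hNmax : ∀ X : Subgroup G, X.Normal → X ≤ M → X ≤ N := by
    intro X hX hXM
    rw [hN]
    exact Subgroup.normal_le_normalCore.mpr hXM
  clear hN
  have hsurj := QuotientGroup.mk'_surjective N
  obtain ⟨Mb, hMb⟩ : ∃ Mb : Subgroup (G ⧸ N), Mb = M.map (QuotientGroup.mk' N) := ⟨_, rfl⟩
  have hcomap : Mb.comap (QuotientGroup.mk' N) = M := by
    rw [hMb, Subgroup.comap_map_eq, QuotientGroup.ker_mk']
    exact sup_eq_left.mpr hNM
  have hmaxb : IsCoatom Mb := by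
    constructor
    · intro h
      apply hmax.1
      rw [← hcomap, h, Subgroup.comap_top]
    · intro B hB
      have h1 : M ≤ B.comap (QuotientGroup.mk' N) := by
        rw [← hcomap]
        exact Subgroup.comap_mono hB.le
      rcases hmax.le_iff.mp h1 with h | h
      · rw [← Subgroup.map_comap_eq_self_of_surjective hsurj B, h,
          Subgroup.map_top_of_surjective _ hsurj]
      · exfalso
        apply hB.ne
        rw [← Subgroup.map_comap_eq_self_of_surjective hsurj B, h, hMb]
  have hnilb : Group.IsNilpotent Mb := by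
    haveI := hnil
    rw [hMb]
    exact Group.nilpotent_of_surjective ((QuotientGroup.mk' N).subgroupMap M)
      ((QuotientGroup.mk' N).subgroupMap_surjective M)
  have hoddb : Odd (Nat.card Mb) := by
    rw [hMb]
    exact Odd.of_dvd_nat hodd (Subgroup.card_map_dvd M _)
  have hcoreb : Mb.normalCore = ⊥ := by
    rw [eq_bot_iff]
    have h1 : (Mb.normalCore).comap (QuotientGroup.mk' N) ≤ N := by
      apply hNmax _ inferInstance
      rw [← hcomap]
      exact Subgroup.comap_mono (Subgroup.normalCore_le Mb)
    rw [← Subgroup.map_comap_eq_self_of_surjective hsurj Mb.normalCore]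
    rintro _ ⟨x, hx, rfl⟩
    rw [Subgroup.mem_bot]
    exact (QuotientGroup.eq_one_iff x).mpr (h1 hx)
  haveI hq : Group.IsSolvable (G ⧸ N) :=
    Cfsg.Agent.Lib.Helper1.TNPC.NilMax.solvable_of_corefree Mb hmaxb hnilb hoddb hcoreb
  haveI hMs : Group.IsSolvable M := by
    haveI := hnil
    infer_instance
  haveI hNs : Group.IsSolvable N :=
    Group.isSolvable_of_isSolvable_injective (Subgroup.inclusion_injective hNM)
  apply Group.isSolvable_of_ker_le_range N.subtype (QuotientGroup.mk' N)
  rw [QuotientGroup.ker_mk', Subgroup.range_subtype]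

end Cfsg.Agent.S4040
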