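import Cfsg.Statements.S4043
import Mathlib
import Cfsg.Agent.Lib.Helper22.SchurZassenhaus

set_option autoImplicit false
open Cfsg

namespace Cfsg.Agent.S4043

open Cfsg.Agent.Lib.Helper22

theorem mem_of_coprime_index' {G : Type*} [Group G] [Finite G] (N : Subgroup G) [N.Normal] (y : G)
    (h : (orderOf y).Coprime N.index) : y ∈ N := by
  have h1 : orderOf (QuotientGroup.mk' N y) ∣ orderOf y := orderOf_map_dvd _ y
  have h2 : orderOf (QuotientGroup.mk' N y) ∣ N.index := orderOf_dvd_natCard _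
  have h3 : orderOf (QuotientGroup.mk' N y) = 1 := Nat.eq_one_of_dvd_coprimes h h1 h2
  rw [orderOf_eq_one_iff] at h3
  exact (QuotientGroup.eq_one_iff y).1 h3

theorem exists_fixed_of_pgroups {G : Type*} [Group G] [Finite G] {p : ℕ} [Fact p.Prime]
    (S D : Subgroup G) (hS : IsPGroup p S) (hD : IsPGroup p D) (hne : D ≠ ⊥)
    (hnorm : ∀ s ∈ S, ∀ d ∈ D, s * d * s⁻¹ ∈ D) :
    ∃ d ∈ D, d ≠ 1 ∧ ∀ s ∈ S, s * d * s⁻¹ = d := by
  letI : MulAction S D :=
    { smul := fun s d => ⟨(s : G) * (d : G) * (s : G)⁻¹, hnorm s s.2 d d.2⟩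
      one_smul := fun d => Subtype.ext (by
        show ((1 : S) : G) * (d : G) * ((1 : S) : G)⁻¹ = d
        simp)
      mul_smul := fun s t d => Subtype.ext (by
        show ((s * t : S) : G) * (d : G) * ((s * t : S) : G)⁻¹ =
          (s : G) * ((t : G) * (d : G) * (t : G)⁻¹) * (s : G)⁻¹
        simp [mul_assoc]) }
  have hp : p ∣ Nat.card D := hD.card_eq_or_dvd.resolve_left (fun h => hne (Subgroup.card_eq_one.1 h))
  have h1 : (1 : D) ∈ MulAction.fixedPoints S D := by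
    intro s
    apply Subtype.ext
    show (s : G) * ((1 : D) : G) * (s : G)⁻¹ = ((1 : D) : G)
    simp
  obtain ⟨b, hb, hne'⟩ := hS.exists_fixed_point_of_prime_dvd_card_of_fixed_point D hp h1
  refine ⟨b, b.2, ?_, ?_⟩
  · intro h
    apply hne'
    apply Subtype.ext
    rw [h]; rfl
  · intro s hs
    exact congrArg Subtype.val (hb ⟨s, hs⟩)

theorem le_normalizer_map_subtype {G : Type*} [Group G] (A : Subgroup G) (M : Subgroup A)
    [hM : M.Normal] : ∀ a ∈ A, ∀ k ∈ M.map A.subtype, a * k * a⁻¹ ∈ M.map A.subtype := by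
  intro a ha k hk
  obtain ⟨m, hm, rfl⟩ := Subgroup.mem_map.1 hk
  refine Subgroup.mem_map.2 ⟨⟨a, ha⟩ * m * ⟨a, ha⟩⁻¹, hM.conj_mem m hm ⟨a, ha⟩, ?_⟩
  simp

/-- Let G be a finite group that is the semidirect product of a normal p-subgroup N by a subgroup A, and also of N by a subgroup A₁, where p is a prime and A and A₁ both have normal p-complements. If C_N(A) = C_N(A₁) = 1, then A₁ is conjugate to A by an element of N. -/
theorem result {G : Type*} [Group G] [Finite G] {p : ℕ}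
    [Fact p.Prime] (N : Subgroup G) [N.Normal] (hN : IsPGroup p N) (A A₁ : Subgroup G)
    (hA : A.IsComplement' N) (hA₁ : A₁.IsComplement' N)
    (hAp : Cfsg.HasNormalPComplement p A) (hA₁p : Cfsg.HasNormalPComplement p A₁)
    (hC : ∀ n : G, n ∈ N → (∀ a : G, a ∈ A → a * n * a⁻¹ = n) → n = 1)
    (hC₁ : ∀ n : G, n ∈ N → (∀ a : G, a ∈ A₁ → a * n * a⁻¹ = n) → n = 1) :
    ∃ n : G, n ∈ N ∧ A₁ = A.map (MulAut.conj n).toMonoidHom := by
  have hp : p.Prime := Fact.out
  obtain ⟨P, M, hMn, hMP⟩ := hAp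
  obtain ⟨P₁, M₁, hM₁n, hM₁P⟩ := hA₁p
  have hcA : N.index = Nat.card A := hA.index_eq_card
  have hcA₁ : N.index = Nat.card A₁ := hA₁.index_eq_card
  have hcP : Nat.card P = p ^ (Nat.card A).factorization p := P.card_eq_multiplicity
  have hcP₁ : Nat.card P₁ = p ^ (Nat.card A₁).factorization p := P₁.card_eq_multiplicity
  have hcPP : Nat.card P = Nat.card P₁ := by rw [hcP, hcP₁, ← hcA, ← hcA₁]
  have hMc : Nat.card M * Nat.card P = Nat.card A := hMP.card_mul_card
  have hM₁c : Nat.card M₁ * Nat.card P₁ = Nat.card A₁ := hM₁P.card_mul_card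
  have hcMM : Nat.card M = Nat.card M₁ := by
    have h1 : Nat.card M * Nat.card P = Nat.card M₁ * Nat.card P := by
      rw [hMc, hcPP, hM₁c, ← hcA, ← hcA₁]
    exact Nat.eq_of_mul_eq_mul_right Nat.card_pos h1
  have hMidx : M.index = Nat.card P := hMP.symm.index_eq_card
  have hM₁idx : M₁.index = Nat.card P₁ := hM₁P.symm.index_eq_card
  have hMcop : Nat.Coprime (Nat.card M) p := by
    rw [← hMP.index_eq_card]
    exact ((Nat.Prime.coprime_iff_not_dvd hp).2 P.not_dvd_index).symm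
  have hM₁cop : Nat.Coprime (Nat.card M₁) p := by rw [← hcMM]; exact hMcop
  have hcK : Nat.card (M.map A.subtype) = Nat.card M :=
    Subgroup.card_map_of_injective A.subtype_injective
  have hcK₁ : Nat.card (M₁.map A₁.subtype) = Nat.card M₁ :=
    Subgroup.card_map_of_injective A₁.subtype_injective
  obtain ⟨e, he⟩ := (IsPGroup.iff_card).1 hN
  have hcopNK : Nat.Coprime (Nat.card N) (Nat.card (M.map A.subtype)) := by
    rw [he, hcK]
    exact (Nat.Coprime.pow_left e hMcop.symm)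
  have hKle : M₁.map A₁.subtype ≤ N ⊔ M.map A.subtype := by
    intro k₁ hk₁
    have hk₁top : k₁ ∈ A ⊔ N := hA.sup_eq_top ▸ Subgroup.mem_top k₁
    rw [← SetLike.mem_coe, Subgroup.mul_normal] at hk₁top
    obtain ⟨a, ha, n, hn, rfl⟩ := Set.mem_mul.1 hk₁top
    have hord : orderOf a ∣ orderOf (a * n) := by
      apply orderOf_dvd_of_pow_eq_one
      have h1 : a ^ orderOf (a * n) ∈ N := by
        rw [← QuotientGroup.eq_one_iff, QuotientGroup.mk_pow]
        have h2 : ((a * n : G) : G ⧸ N) = (a : G ⧸ N) := by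
          rw [QuotientGroup.mk_mul, (QuotientGroup.eq_one_iff n).2 hn, mul_one]
        rw [← h2, ← QuotientGroup.mk_pow, pow_orderOf_eq_one]
        rfl
      have h3 : a ^ orderOf (a * n) ∈ A ⊓ N := ⟨A.pow_mem ha _, h1⟩
      rw [hA.disjoint.eq_bot] at h3
      exact Subgroup.mem_bot.1 h3
    have hcop : (orderOf a).Coprime (Nat.card P) := by
      have h1 : orderOf a ∣ Nat.card (M₁.map A₁.subtype) :=
        hord.trans (Subgroup.orderOf_dvd_natCard _ hk₁)
      rw [hcK₁] at h1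
      rw [hcP]
      exact Nat.Coprime.pow_right _ (Nat.Coprime.coprime_dvd_left h1 hM₁cop)
    have haM : (⟨a, ha⟩ : A) ∈ M := by
      apply mem_of_coprime_index' M
      rw [Subgroup.orderOf_mk, hMidx]
      exact hcop
    have haK : a ∈ M.map A.subtype := Subgroup.mem_map.2 ⟨⟨a, ha⟩, haM, rfl⟩
    exact Subgroup.mul_mem _ (Subgroup.mem_sup_right haK) (Subgroup.mem_sup_left hn)
  have hsolN : Group.IsSolvable N := by
    have := hN.isNilpotent
    infer_instance
  obtain ⟨x, hxN, hK₁eq⟩ := sz_conj_solvable N hsolN (M.map A.subtype) (M₁.map A₁.subtype)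
    (by rw [hcK, hcK₁, hcMM]) hcopNK hKle
  refine ⟨x, hxN, ?_⟩
  have hA₁norm : ∀ a ∈ A₁, ∀ k ∈ M₁.map A₁.subtype, a * k * a⁻¹ ∈ M₁.map A₁.subtype :=
    le_normalizer_map_subtype A₁ M₁
  have hAnorm : ∀ a ∈ A, ∀ k ∈ M.map A.subtype, a * k * a⁻¹ ∈ M.map A.subtype :=
    le_normalizer_map_subtype A M
  have hK₁A₁ : M₁.map A₁.subtype ≤ A₁ := Subgroup.map_subtype_le M₁
  have hA₁T : A₁ ≤ Subgroup.normalizer ((M₁.map A₁.subtype : Subgroup G) : Set G) := by
    intro a ha
    exact Subgroup.mem_normalizer_fintype (hA₁norm a ha)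
  have hA'T : A.map (MulAut.conj x).toMonoidHom ≤
      Subgroup.normalizer ((M₁.map A₁.subtype : Subgroup G) : Set G) := by
    intro a' ha'
    obtain ⟨a, ha, rfl⟩ := Subgroup.mem_map.1 ha'
    apply Subgroup.mem_normalizer_fintype
    intro k₁ hk₁
    have hk₁' : k₁ ∈ (M₁.map A₁.subtype : Subgroup G) := hk₁
    rw [hK₁eq] at hk₁'
    obtain ⟨k, hk, rfl⟩ := Subgroup.mem_map.1 hk₁'
    show _ ∈ (M₁.map A₁.subtype : Subgroup G)
    rw [hK₁eq]
    refine Subgroup.mem_map.2 ⟨a * k * a⁻¹, hAnorm a ha k hk, ?_⟩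
    simp [MulAut.conj_apply, mul_assoc]
  have hTN : Subgroup.normalizer ((M₁.map A₁.subtype : Subgroup G) : Set G) ⊓ N = ⊥ := by
    by_contra hD
    have hS₁ : IsPGroup p (P₁.map A₁.subtype : Subgroup G) := P₁.isPGroup'.map _
    have hDp : IsPGroup p
        (Subgroup.normalizer ((M₁.map A₁.subtype : Subgroup G) : Set G) ⊓ N : Subgroup G) :=
      hN.to_inf_right
    have hS₁A₁ : (P₁.map A₁.subtype : Subgroup G) ≤ A₁ := Subgroup.map_subtype_le _
    obtain ⟨d, hdD, hd1, hdfix⟩ := exists_fixed_of_pgroups _ _ hS₁ hDp hD (by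
      intro s hs d hd
      have hsT := hA₁T (hS₁A₁ hs)
      exact ⟨Subgroup.mul_mem _ (Subgroup.mul_mem _ hsT hd.1) (Subgroup.inv_mem _ hsT),
        ‹N.Normal›.conj_mem d hd.2 s⟩)
    have hcomm : ∀ k ∈ M₁.map A₁.subtype, k * d = d * k := by
      intro k hk
      have h1 : d * k * d⁻¹ ∈ M₁.map A₁.subtype :=
        ((Subgroup.mem_normalizer_iff.1 hdD.1) k).1 hk
      have h2 : d * k * d⁻¹ * k⁻¹ ∈ M₁.map A₁.subtype :=
        Subgroup.mul_mem _ h1 (Subgroup.inv_mem _ hk)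
      have h3 : d * k * d⁻¹ * k⁻¹ ∈ N := by
        have h4 : k * d⁻¹ * k⁻¹ ∈ N := ‹N.Normal›.conj_mem d⁻¹ (N.inv_mem hdD.2) k
        have h5 : d * k * d⁻¹ * k⁻¹ = d * (k * d⁻¹ * k⁻¹) := by group
        rw [h5]
        exact N.mul_mem hdD.2 h4
      have h6 : d * k * d⁻¹ * k⁻¹ ∈ A₁ ⊓ N := ⟨hK₁A₁ h2, h3⟩
      rw [hA₁.disjoint.eq_bot] at h6
      have h7 : d * k * d⁻¹ * k⁻¹ = 1 := Subgroup.mem_bot.1 h6
      have h8 : d * k = (d * k * d⁻¹ * k⁻¹) * (k * d) := by group
      rw [h7, one_mul] at h8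
      exact h8.symm
    apply hd1
    apply hC₁ d hdD.2
    intro a ha
    have htop : (⟨a, ha⟩ : A₁) ∈ M₁ ⊔ (P₁ : Subgroup A₁) := by
      rw [hM₁P.sup_eq_top]; exact Subgroup.mem_top _
    rw [← SetLike.mem_coe, Subgroup.normal_mul] at htop
    obtain ⟨m, hm, s, hs, hms⟩ := Set.mem_mul.1 htop
    have hms' : (m : G) * (s : G) = a := congrArg Subtype.val hms
    have hmK : (m : G) ∈ M₁.map A₁.subtype := Subgroup.mem_map.2 ⟨m, hm, rfl⟩
    have hsS : (s : G) ∈ (P₁.map A₁.subtype : Subgroup G) := Subgroup.mem_map.2 ⟨s, hs, rfl⟩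
    have h1 := hdfix _ hsS
    have h2 := hcomm _ hmK
    rw [← hms']
    calc (m : G) * (s : G) * d * ((m : G) * (s : G))⁻¹
        = (m : G) * ((s : G) * d * (s : G)⁻¹) * (m : G)⁻¹ := by group
      _ = (m : G) * d * (m : G)⁻¹ := by rw [h1]
      _ = d := by rw [h2]; group
  have hcardT : Nat.card (Subgroup.normalizer ((M₁.map A₁.subtype : Subgroup G) : Set G)) ≤
      N.index := by
    have h1 := card_sup_normal
      (Subgroup.normalizer ((M₁.map A₁.subtype : Subgroup G) : Set G)) N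
    rw [← Subgroup.inf_relIndex_left, hTN, Subgroup.relIndex_bot_left] at h1
    have h2 : Nat.card (Subgroup.normalizer ((M₁.map A₁.subtype : Subgroup G) : Set G) ⊔ N :
        Subgroup G) ≤ Nat.card G := Subgroup.card_le_card_group _
    rw [h1, ← N.card_mul_index] at h2
    exact Nat.le_of_mul_le_mul_left h2 Nat.card_pos
  have e1 : A₁ = Subgroup.normalizer ((M₁.map A₁.subtype : Subgroup G) : Set G) :=
    Subgroup.eq_of_le_of_card_ge hA₁T (by rw [← hcA₁]; exact hcardT)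
  have e2 : A.map (MulAut.conj x).toMonoidHom =
      Subgroup.normalizer ((M₁.map A₁.subtype : Subgroup G) : Set G) :=
    Subgroup.eq_of_le_of_card_ge hA'T (by rw [card_map_conj', ← hcA]; exact hcardT)
  rw [e2]
  exact e1

end Cfsg.Agent.S4043
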