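import Cfsg.Statements.S4049
import Cfsg.Agent.Lib.Helper22.NoInvert

set_option autoImplicit false
open Cfsg

namespace Cfsg.Agent.S4049

theorem result {G : Type*} [Group G] [Finite G]
    (hhom : ∀ H : Subgroup G, H ≠ ⊥ → ¬ 2 ∣ Nat.card ↥H →
        ¬ 2 ∣ (Subgroup.centralizer (H : Set G)).relIndex (Subgroup.normalizer (H : Set G))) (P : Sylow 2 G) :
    (P : Subgroup G).Normal := by
  apply Lib.Helper22.sylow2_normal_of_noInvert (Nat.card G) G rfl _ P
  intro t x hxodd hinv
  by_contra hx1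
  have hHne : Subgroup.zpowers x ≠ ⊥ := by
    intro h
    apply hx1
    have : x ∈ (⊥ : Subgroup G) := by rw [← h]; exact Subgroup.mem_zpowers x
    exact Subgroup.mem_bot.1 this
  have hHodd : ¬ 2 ∣ Nat.card (Subgroup.zpowers x) := by
    rw [Nat.card_zpowers]
    intro h
    exact (Nat.not_even_iff_odd.2 hxodd) (even_iff_two_dvd.2 h)
  apply hhom (Subgroup.zpowers x) hHne hHodd
  have htN : t ∈ Subgroup.normalizer ((Subgroup.zpowers x : Subgroup G) : Set G) := by
    apply Subgroup.mem_normalizer_fintype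
    rintro n ⟨i, rfl⟩
    show t * x ^ i * t⁻¹ ∈ Subgroup.zpowers x
    rw [← conj_zpow, hinv]
    exact Subgroup.zpow_mem _ (Subgroup.inv_mem _ (Subgroup.mem_zpowers x)) i
  have hxx : x⁻¹ ≠ x := by
    intro h1
    have h2 : x ^ 2 = 1 := by
      rw [pow_two]
      nth_rewrite 1 [← h1]
      exact inv_mul_cancel x
    have h3 : orderOf x ∣ 2 := orderOf_dvd_of_pow_eq_one h2
    rcases (Nat.dvd_prime Nat.prime_two).1 h3 with h4 | h4
    · exact hx1 (orderOf_eq_one_iff.1 h4)
    · rw [h4] at hxodd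
      exact (by decide : ¬ Odd 2) hxodd
  have htC : t ∉ Subgroup.centralizer ((Subgroup.zpowers x : Subgroup G) : Set G) := by
    intro hC
    rw [Subgroup.mem_centralizer_iff] at hC
    have h1 := hC x (Subgroup.mem_zpowers x)
    apply hxx
    rw [← hinv, ← h1]; group
  have ht2C : t ^ 2 ∈ Subgroup.centralizer ((Subgroup.zpowers x : Subgroup G) : Set G) := by
    rw [Subgroup.mem_centralizer_iff]
    rintro n ⟨i, rfl⟩
    have h1 : t ^ 2 * x * (t ^ 2)⁻¹ = x := by
      have : t ^ 2 * x * (t ^ 2)⁻¹ = t * (t * x * t⁻¹) * t⁻¹ := by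
        rw [pow_two]; group
      rw [this, hinv]
      have h2 : t * x⁻¹ * t⁻¹ = (t * x * t⁻¹)⁻¹ := by group
      rw [h2, hinv, inv_inv]
    have hc : Commute (t ^ 2) x := by
      unfold Commute SemiconjBy
      calc t ^ 2 * x = (t ^ 2 * x * (t ^ 2)⁻¹) * t ^ 2 := by group
        _ = x * t ^ 2 := by rw [h1]
    exact ((hc.zpow_right i).eq).symm
  set K : Subgroup (Subgroup.normalizer ((Subgroup.zpowers x : Subgroup G) : Set G)) :=
    (Subgroup.centralizer ((Subgroup.zpowers x : Subgroup G) : Set G)).subgroupOf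
      (Subgroup.normalizer ((Subgroup.zpowers x : Subgroup G) : Set G)) with hK
  have hKn : K.Normal := by
    rw [hK, ← Subgroup.normalizerMonoidHom_ker]
    infer_instance
  show 2 ∣ K.index
  rw [Subgroup.index_eq_card]
  have ho : orderOf (QuotientGroup.mk (⟨t, htN⟩ :
      Subgroup.normalizer ((Subgroup.zpowers x : Subgroup G) : Set G)) :
      Subgroup.normalizer ((Subgroup.zpowers x : Subgroup G) : Set G) ⧸ K) = 2 := by
    apply orderOf_eq_prime
    · rw [← QuotientGroup.mk_pow, QuotientGroup.eq_one_iff, hK, Subgroup.mem_subgroupOf]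
      exact ht2C
    · rw [Ne, QuotientGroup.eq_one_iff, hK, Subgroup.mem_subgroupOf]
      exact htC
  rw [← ho]
  exact orderOf_dvd_natCard _

end Cfsg.Agent.S4049
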