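import Cfsg.Statements.S4050
import Mathlib
import Cfsg.Agent.S4051

set_option autoImplicit false
open Cfsg

namespace Cfsg.Agent.S4050

open Subgroup Cfsg.Agent.S4051

theorem centralizer_sub {G : Type*} [Group G] (Γ₀ : Subgroup G) (J : Subgroup Γ₀) :
    centralizer (J : Set Γ₀) =
      (centralizer ((J.map Γ₀.subtype : Subgroup G) : Set G)).subgroupOf Γ₀ := by
  ext y
  rw [Subgroup.mem_subgroupOf, Subgroup.mem_centralizer_iff, Subgroup.mem_centralizer_iff]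
  constructor
  · intro h z hz
    obtain ⟨j, hj, rfl⟩ := hz
    exact congrArg Subtype.val (h j hj)
  · intro h j hj
    apply Subtype.ext
    exact h (j : G) ⟨j, hj, rfl⟩

theorem normalizer_sub {G : Type*} [Group G] (Γ₀ : Subgroup G) (J : Subgroup Γ₀) :
    normalizer (J : Set Γ₀) =
      (normalizer ((J.map Γ₀.subtype : Subgroup G) : Set G)).subgroupOf Γ₀ := by
  ext y
  rw [Subgroup.mem_subgroupOf, Subgroup.mem_normalizer_iff, Subgroup.mem_normalizer_iff]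
  constructor
  · intro h z
    constructor
    · rintro ⟨j, hj, rfl⟩
      exact ⟨y * j * y⁻¹, (h j).mp hj, rfl⟩
    · rintro ⟨j, hj, hjz⟩
      have hz : z ∈ Γ₀ := by
        have e : z = (y : G)⁻¹ * (j : G) * (y : G) := by
          have : (j : G) = (y : G) * z * (y : G)⁻¹ := hjz
          rw [this]; group
        rw [e]
        exact Γ₀.mul_mem (Γ₀.mul_mem (Γ₀.inv_mem y.2) j.2) y.2
      refine ⟨⟨z, hz⟩, ?_, rfl⟩
      show (⟨z, hz⟩ : Γ₀) ∈ J
      rw [h ⟨z, hz⟩]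
      have : y * ⟨z, hz⟩ * y⁻¹ = j := Subtype.ext hjz.symm
      rw [this]
      exact hj
  · intro h j
    have h1 := h (j : G)
    constructor
    · intro hj
      obtain ⟨j', hj', e⟩ := h1.mp ⟨j, hj, rfl⟩
      have : y * j * y⁻¹ = j' := Subtype.ext e.symm
      rw [this]
      exact hj'
    · intro hj
      obtain ⟨j', hj', e⟩ := h1.mpr ⟨y * j * y⁻¹, hj, rfl⟩
      have : j = j' := Subtype.ext e.symm
      rw [this]
      exact hj'

theorem relIndex_sub_dvd {G : Type*} [Group G] (Γ₀ : Subgroup G) (J : Subgroup Γ₀) :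
    (centralizer (J : Set Γ₀)).relIndex (normalizer (J : Set Γ₀)) ∣
      (centralizer ((J.map Γ₀.subtype : Subgroup G) : Set G)).relIndex
        (normalizer ((J.map Γ₀.subtype : Subgroup G) : Set G)) := by
  set J₀ : Subgroup G := J.map Γ₀.subtype
  set C₀ := centralizer (J₀ : Set G)
  set N₀ := normalizer (J₀ : Set G)
  rw [centralizer_sub, normalizer_sub]
  have h1 : (C₀.subgroupOf Γ₀).relIndex (N₀.subgroupOf Γ₀) = C₀.relIndex (N₀ ⊓ Γ₀) := by
    rw [← Subgroup.inf_subgroupOf_right N₀ Γ₀]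
    exact Subgroup.relIndex_subgroupOf inf_le_right
  rw [h1]
  have hnorm : (C₀.subgroupOf N₀).Normal := centralizer_normal_in_normalizer J₀
  have h2 := Subgroup.relIndex_dvd_index_of_normal (C₀.subgroupOf N₀) ((N₀ ⊓ Γ₀).subgroupOf N₀)
  rw [Subgroup.relIndex_subgroupOf inf_le_left] at h2
  exact h2


theorem isPi_coe {π : Set ℕ} {G : Type*} [Group G] {S : Subgroup G} (x : S) :
    IsPi π (x : G) ↔ IsPi π x := by
  unfold IsPi
  rw [Subgroup.orderOf_coe]

theorem eq_one_of_isPi_of_card {π : Set ℕ} {G : Type*} [Group G] [Finite G] (x : G)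
    (hx : IsPi π x) (hG : ∀ p : ℕ, p.Prime → p ∣ Nat.card G → p ∉ π) : x = 1 := by
  rw [← orderOf_eq_one_iff]
  by_contra hne
  obtain ⟨p, hp, hdvd⟩ := Nat.exists_prime_and_dvd hne
  exact hG p hp (dvd_trans hdvd (orderOf_dvd_natCard x)) (hx p hp hdvd)

theorem forward {π : Set ℕ} {G : Type*} [Group G] [Finite G] (R : Subgroup G)
    (hR : ∀ x : G, x ∈ R ↔ IsPi π x) :
    ((∃ (n : ℕ) (H : Fin (n + 1) → Subgroup G), H 0 = ⊥ ∧ H (Fin.last n) = ⊤ ∧ Monotone H ∧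
      (∀ i, (H i).Normal) ∧
      ∀ i : Fin n, (∀ q : ℕ, q.Prime → q ∣ (H i.castSucc).relIndex (H i.succ) → q ∈ π) ∨
        (∀ q : ℕ, q.Prime → q ∣ (H i.castSucc).relIndex (H i.succ) → q ∉ π)) ∧
     (∀ H : Subgroup G, H ≠ ⊥ → (∀ p : ℕ, p.Prime → p ∣ Nat.card ↥H → p ∉ π) →
        ∀ p : ℕ, p.Prime → p ∣ (Subgroup.centralizer (H : Set G)).relIndex
          (Subgroup.normalizer (H : Set G)) → p ∉ π)) := by
  have hRn : R.Normal := by
    refine ⟨fun l hl g => ?_⟩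
    rw [hR] at hl ⊢
    exact isPi_conj g hl
  have hRπ : ∀ p : ℕ, p.Prime → p ∣ Nat.card R → p ∈ π := by
    intro p hp hdvd
    have hpf : Fact p.Prime := ⟨hp⟩
    obtain ⟨l, hl⟩ := exists_prime_orderOf_dvd_card' (G := R) p hdvd
    have h1 := (hR l).mp l.2 p hp
    apply h1
    rw [Subgroup.orderOf_coe, hl]
  have hpel : ∀ (p : ℕ), p.Prime → p ∈ π → ∀ (w : G) (j : ℕ), orderOf w = p ^ j → w ∈ R := by
    intro p hp hpπ w j hj
    rw [hR]
    intro p' hp' hdvd'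
    rw [hj] at hdvd'
    have := (Nat.prime_dvd_prime_iff_eq hp' hp).mp (hp'.dvd_of_dvd_pow hdvd')
    rw [this]
    exact hpπ
  have hRidx : ∀ p : ℕ, p.Prime → p ∣ R.index → p ∉ π := by
    intro p hp hdvd hpπ
    have hpf : Fact p.Prime := ⟨hp⟩
    let P : Sylow p G := default
    have hPR : (P : Subgroup G) ≤ R := by
      intro w hw
      obtain ⟨j, hj⟩ := (IsPGroup.iff_orderOf.mp P.2) ⟨w, hw⟩
      have hj' : orderOf w = p ^ j := by
        rw [← hj]
        exact (Subgroup.orderOf_mk w hw).symm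
      exact hpel p hp hpπ w j hj'
    exact P.not_dvd_index (dvd_trans hdvd (Subgroup.index_dvd_of_le hPR))
  refine ⟨⟨2, ![⊥, R, ⊤], rfl, rfl, ?_, ?_, ?_⟩, ?_⟩
  · rw [Fin.monotone_iff_le_succ]
    intro i
    fin_cases i
    · exact bot_le
    · exact le_top
  · intro i
    fin_cases i
    · exact (inferInstance : (⊥ : Subgroup G).Normal)
    · exact hRn
    · exact (inferInstance : (⊤ : Subgroup G).Normal)
  · intro i
    fin_cases i
    · left
      intro q hq hdvd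
      have e : (⊥ : Subgroup G).relIndex R = Nat.card R := Subgroup.relIndex_bot_left R
      exact hRπ q hq (e ▸ hdvd)
    · right
      intro q hq hdvd
      have e : R.relIndex ⊤ = R.index := Subgroup.relIndex_top_right R
      exact hRidx q hq (e ▸ hdvd)
  · intro H _ hHπ p hp hdvd hpπ
    have hpf : Fact p.Prime := ⟨hp⟩
    let P : Sylow p (normalizer (H : Set G)) := default
    have hPC : (P : Subgroup (normalizer (H : Set G))) ≤
        (centralizer (H : Set G)).subgroupOf (normalizer (H : Set G)) := by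
      intro w hw
      obtain ⟨j, hj⟩ := (IsPGroup.iff_orderOf.mp P.2) ⟨w, hw⟩
      have hj' : orderOf (w : G) = p ^ j := by
        rw [Subgroup.orderOf_coe, ← hj]
        exact (Subgroup.orderOf_mk w hw).symm
      have hwR : (w : G) ∈ R := hpel p hp hpπ _ j hj'
      rw [Subgroup.mem_subgroupOf, Subgroup.mem_centralizer_iff]
      intro h hh
      have hwN := w.2
      rw [Subgroup.mem_normalizer_iff] at hwN
      have h1 : (w : G) * h * (w : G)⁻¹ ∈ H := (hwN h).mp hh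
      have h2 : (w : G) * h * (w : G)⁻¹ * h⁻¹ ∈ H := H.mul_mem h1 (H.inv_mem hh)
      have h3 : (w : G) * h * (w : G)⁻¹ * h⁻¹ ∈ R := by
        have h4 : h * (w : G)⁻¹ * h⁻¹ ∈ R := hRn.conj_mem _ (R.inv_mem hwR) h
        have e : (w : G) * h * (w : G)⁻¹ * h⁻¹ = (w : G) * (h * (w : G)⁻¹ * h⁻¹) := by group
        rw [e]
        exact R.mul_mem hwR h4
      have h5 : IsPi π (⟨(w : G) * h * (w : G)⁻¹ * h⁻¹, h2⟩ : H) := by
        rw [← isPi_coe]
        exact (hR _).mp h3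
      have h6 := eq_one_of_isPi_of_card _ h5 hHπ
      have h7 : (w : G) * h * (w : G)⁻¹ * h⁻¹ = 1 := congrArg Subtype.val h6
      have h8 := mul_inv_eq_one.mp h7
      have h9 := mul_inv_eq_iff_eq_mul.mp h8
      exact h9.symm
    have h1 : ((centralizer (H : Set G)).subgroupOf (normalizer (H : Set G))).index ∣
        (P : Subgroup (normalizer (H : Set G))).index := Subgroup.index_dvd_of_le hPC
    exact P.not_dvd_index (dvd_trans hdvd h1)


theorem step {π : Set ℕ} {G : Type*} [Group G] [Finite G] (hπ : ∀ p ∈ π, p.Prime)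
    (hhom : ∀ H : Subgroup G, H ≠ ⊥ → (∀ p : ℕ, p.Prime → p ∣ Nat.card ↥H → p ∉ π) →
        ∀ p : ℕ, p.Prime → p ∣ (Subgroup.centralizer (H : Set G)).relIndex
          (Subgroup.normalizer (H : Set G)) → p ∉ π)
    (A B : Subgroup G) [A.Normal] (hAB : A ≤ B)
    (hfac : (∀ q : ℕ, q.Prime → q ∣ A.relIndex B → q ∈ π) ∨
        (∀ q : ℕ, q.Prime → q ∣ A.relIndex B → q ∉ π))
    (hA : ∀ x y : G, x ∈ A → y ∈ A → IsPi π x → IsPi π y → IsPi π (x * y)) :
    ∀ x y : G, x ∈ B → y ∈ B → IsPi π x → IsPi π y → IsPi π (x * y) := by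
  have hhomΓ : ∀ J : Subgroup B, J ≠ ⊥ → (∀ p : ℕ, p.Prime → p ∣ Nat.card ↥J → p ∉ π) →
      ∀ p : ℕ, p.Prime → p ∣ (Subgroup.centralizer (J : Set B)).relIndex
        (Subgroup.normalizer (J : Set B)) → p ∉ π := by
    intro J hJ hJπ p hp hdvd
    apply hhom (J.map B.subtype) _ _ p hp (dvd_trans hdvd (relIndex_sub_dvd B J))
    · intro e
      exact hJ ((Subgroup.map_eq_bot_iff_of_injective J B.subtype_injective).mp e)
    · intro p' hp' hdvd'
      rw [Subgroup.card_map_of_injective B.subtype_injective] at hdvd'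
      exact hJπ p' hp' hdvd'
  have hKn : (A.subgroupOf B).Normal := Subgroup.normal_subgroupOf
  have hK : ∃ L : Subgroup ↥(A.subgroupOf B), ∀ x : ↥(A.subgroupOf B),
      x ∈ L ↔ ∀ p : ℕ, p.Prime → p ∣ orderOf x → p ∈ π := by
    apply exists_subgroup_of_mul
    intro x y hx hy
    have hx' : IsPi π ((x : B) : G) := (isPi_coe (x : B)).mpr ((isPi_coe x).mpr hx)
    have hy' : IsPi π ((y : B) : G) := (isPi_coe (y : B)).mpr ((isPi_coe y).mpr hy)
    have h1 := hA _ _ (Subgroup.mem_subgroupOf.mp x.2) (Subgroup.mem_subgroupOf.mp y.2) hx' hy'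
    have e : (((x * y : ↥(A.subgroupOf B)) : B) : G) = ((x : B) : G) * ((y : B) : G) := by
      push_cast
      rfl
    rw [← e] at h1
    exact (isPi_coe (x * y)).mp ((isPi_coe ((x * y : ↥(A.subgroupOf B)) : B)).mp h1)
  have hcardQ : Nat.card (B ⧸ A.subgroupOf B) = A.relIndex B := by
    rw [← Subgroup.index_eq_card]
    rfl
  have hQ : ∃ L : Subgroup (B ⧸ A.subgroupOf B), ∀ x : B ⧸ A.subgroupOf B,
      x ∈ L ↔ ∀ p : ℕ, p.Prime → p ∣ orderOf x → p ∈ π := by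
    rcases hfac with hf | hf
    · refine ⟨⊤, fun x => ⟨fun _ p hp hdvd => ?_, fun _ => Subgroup.mem_top x⟩⟩
      apply hf p hp
      rw [← hcardQ]
      exact dvd_trans hdvd (orderOf_dvd_natCard x)
    · refine ⟨⊥, fun x => ⟨fun hx => ?_, fun hx => ?_⟩⟩
      · rw [Subgroup.mem_bot] at hx
        rw [hx]
        exact isPi_one π
      · rw [Subgroup.mem_bot]
        apply eq_one_of_isPi_of_card x hx
        intro p hp hdvd
        rw [hcardQ] at hdvd
        exact hf p hp hdvd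
  obtain ⟨LΓ, hLΓ⟩ := Cfsg.Agent.S4051.result π hπ hhomΓ (A.subgroupOf B) hK hQ
  intro x y hx hy hxπ hyπ
  have h1 : (⟨x, hx⟩ : B) ∈ LΓ := (hLΓ _).mpr ((isPi_coe (⟨x, hx⟩ : B)).mp hxπ)
  have h2 : (⟨y, hy⟩ : B) ∈ LΓ := (hLΓ _).mpr ((isPi_coe (⟨y, hy⟩ : B)).mp hyπ)
  have h3 : IsPi π ((⟨x, hx⟩ : B) * ⟨y, hy⟩) := (hLΓ _).mp (LΓ.mul_mem h1 h2)
  exact (isPi_coe ((⟨x, hx⟩ : B) * ⟨y, hy⟩)).mpr h3

theorem backward {π : Set ℕ} {G : Type*} [Group G] [Finite G] (hπ : ∀ p ∈ π, p.Prime)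
    (n : ℕ) (H : Fin (n + 1) → Subgroup G) (h0 : H 0 = ⊥) (hlast : H (Fin.last n) = ⊤)
    (hmono : Monotone H) (hnorm : ∀ i, (H i).Normal)
    (hfac : ∀ i : Fin n, (∀ q : ℕ, q.Prime → q ∣ (H i.castSucc).relIndex (H i.succ) → q ∈ π) ∨
        (∀ q : ℕ, q.Prime → q ∣ (H i.castSucc).relIndex (H i.succ) → q ∉ π))
    (hhom : ∀ H : Subgroup G, H ≠ ⊥ → (∀ p : ℕ, p.Prime → p ∣ Nat.card ↥H → p ∉ π) →
        ∀ p : ℕ, p.Prime → p ∣ (Subgroup.centralizer (H : Set G)).relIndex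
          (Subgroup.normalizer (H : Set G)) → p ∉ π) :
    ∀ x y : G, IsPi π x → IsPi π y → IsPi π (x * y) := by
  have key : ∀ k : ℕ, ∀ hk : k < n + 1, ∀ x y : G, x ∈ H ⟨k, hk⟩ → y ∈ H ⟨k, hk⟩ →
      IsPi π x → IsPi π y → IsPi π (x * y) := by
    intro k
    induction k with
    | zero =>
      intro hk x y hx hy _ _
      have e : H ⟨0, hk⟩ = ⊥ := h0
      rw [e, Subgroup.mem_bot] at hx hy
      rw [hx, hy, one_mul]
      exact isPi_one π
    | succ k ih =>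
      intro hk
      have hk' : k < n := by omega
      have hn := hnorm (Fin.castSucc ⟨k, hk'⟩)
      have hle : H (Fin.castSucc ⟨k, hk'⟩) ≤ H (Fin.succ ⟨k, hk'⟩) :=
        hmono (le_of_lt (Fin.castSucc_lt_succ))
      exact step hπ hhom (H (Fin.castSucc ⟨k, hk'⟩)) (H (Fin.succ ⟨k, hk'⟩)) hle
        (hfac ⟨k, hk'⟩) (ih (by omega))
  intro x y hx hy
  have e : H ⟨n, by omega⟩ = ⊤ := hlast
  exact key n (by omega) x y (by rw [e]; trivial) (by rw [e]; trivial) hx hy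

theorem result {G : Type*} [Group G] [Finite G] (π : Set ℕ)
    (hπ : ∀ p ∈ π, p.Prime) :
    (∃ K : Subgroup G, ∀ x : G, x ∈ K ↔ ∀ p : ℕ, p.Prime → p ∣ orderOf x → p ∈ π) ↔
    ((∃ (n : ℕ) (H : Fin (n + 1) → Subgroup G), H 0 = ⊥ ∧ H (Fin.last n) = ⊤ ∧ Monotone H ∧ (∀ i, (H i).Normal) ∧
      ∀ i : Fin n, (∀ q : ℕ, q.Prime → q ∣ (H i.castSucc).relIndex (H i.succ) → q ∈ π) ∨
        (∀ q : ℕ, q.Prime → q ∣ (H i.castSucc).relIndex (H i.succ) → q ∉ π)) ∧
     (∀ H : Subgroup G, H ≠ ⊥ → (∀ p : ℕ, p.Prime → p ∣ Nat.card ↥H → p ∉ π) →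
        ∀ p : ℕ, p.Prime → p ∣ (Subgroup.centralizer (H : Set G)).relIndex (Subgroup.normalizer (H : Set G)) → p ∉ π)) := by
  constructor
  · rintro ⟨R, hR⟩
    exact forward R hR
  · rintro ⟨⟨n, H, h0, hlast, hmono, hnorm, hfac⟩, hhom⟩
    exact exists_subgroup_of_mul (backward hπ n H h0 hlast hmono hnorm hfac hhom)

end Cfsg.Agent.S4050
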