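import Cfsg.Statements.S4058
import Mathlib
import Cfsg.Agent.Lib.Helper24.FSCount
import Cfsg.Agent.Lib.Helper11.AbelianQuot
import Cfsg.Agent.Lib.Helper11.CyclicDual
import Cfsg.Agent.Lib.Helper25.CharBound
import Cfsg.Agent.Lib.Helper25.DefectZeroCount
import Cfsg.Agent.Lib.Helper1.Frat

set_option autoImplicit false
open Cfsg

namespace Cfsg.Agent.S4058


open scoped ComplexConjugate
open Cfsg.Agent.Lib.Helper24 Cfsg.Agent.Lib.Helper25 Cfsg.Agent.Lib.Helper11 Cfsg.Agent.Lib.Helper1

variable {G : Type*} [Group G]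

noncomputable def twist [Finite G] (l : (G ⧸ frattini G) →* ℂˣ) (χ : Cfsg.IrrCharacter G) :
    Cfsg.IrrCharacter G :=
  ⟨fun g => ((l (QuotientGroup.mk' (frattini G) g) : ℂˣ) : ℂ) * (χ : G → ℂ) g, by
    let _ : Fintype G := Fintype.ofFinite G
    exact isIrr_linChar_mul (l.comp (QuotientGroup.mk' (frattini G))) (χ : G → ℂ) χ.2⟩

theorem twist_apply [Finite G] (l : (G ⧸ frattini G) →* ℂˣ) (χ : Cfsg.IrrCharacter G) (g : G) :
    (twist l χ : G → ℂ) g = ((l (QuotientGroup.mk' (frattini G) g) : ℂˣ) : ℂ) * (χ : G → ℂ) g :=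
  rfl

noncomputable instance twistAction [Finite G] :
    MulAction ((G ⧸ frattini G) →* ℂˣ) (Cfsg.IrrCharacter G) where
  smul := twist
  one_smul := by
    intro χ
    apply Subtype.ext
    funext g
    show (twist 1 χ : G → ℂ) g = _
    rw [twist_apply]
    simp
  mul_smul := by
    intro l m χ
    apply Subtype.ext
    funext g
    show (twist (l * m) χ : G → ℂ) g = (twist l (twist m χ) : G → ℂ) g
    rw [twist_apply, twist_apply, twist_apply]
    simp [mul_assoc]

theorem smul_apply [Finite G] (l : (G ⧸ frattini G) →* ℂˣ) (χ : Cfsg.IrrCharacter G) (g : G) :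
    ((l • χ : Cfsg.IrrCharacter G) : G → ℂ) g =
      ((l (QuotientGroup.mk' (frattini G) g) : ℂˣ) : ℂ) * (χ : G → ℂ) g :=
  rfl

theorem quot_sq [Finite G] (hG : IsPGroup 2 G) (v : G ⧸ frattini G) : v * v = 1 := by
  have : Fact (Nat.Prime 2) := ⟨Nat.prime_two⟩
  obtain ⟨g, rfl⟩ := QuotientGroup.mk_surjective v
  rw [← QuotientGroup.mk_mul, QuotientGroup.eq_one_iff, ← pow_two]
  exact pgroup_pow_mem_frattini hG g

theorem quot_comm [Finite G] (hG : IsPGroup 2 G) (a b : G ⧸ frattini G) : a * b = b * a := by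
  have : Fact (Nat.Prime 2) := ⟨Nat.prime_two⟩
  have h := pgroup_commutator_le_frattini hG
  have hc : IsMulCommutative (G ⧸ frattini G) :=
    (Subgroup.Normal.quotient_commutative_iff_commutator_le).2 h
  exact (isMulCommutative_iff.1 hc) a b

theorem charDegree_smul [Finite G] (l : (G ⧸ frattini G) →* ℂˣ) (χ : Cfsg.IrrCharacter G) :
    Cfsg.charDegree ((l • χ : Cfsg.IrrCharacter G) : G → ℂ) = Cfsg.charDegree (χ : G → ℂ) := by
  unfold Cfsg.charDegree
  rw [smul_apply]
  simp

theorem fsEps_smul [Fintype G] (hG : IsPGroup 2 G) (l : (G ⧸ frattini G) →* ℂˣ)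
    (χ : Cfsg.IrrCharacter G) : fsEps (l • χ) = fsEps χ := by
  have h : fsNu (l • χ) = fsNu χ := by
    unfold fsNu
    congr 1
    apply Finset.sum_congr rfl
    intro s _
    rw [smul_apply, map_mul, quot_sq hG, map_one]
    simp
  unfold fsEps
  rw [h]

theorem sum_normSq [Fintype G] (χ : Cfsg.IrrCharacter G) :
    ∑ g : G, Complex.normSq ((χ : G → ℂ) g) = (Nat.card G : ℝ) := by
  have h1 := irr_classInner χ χ
  rw [if_pos rfl] at h1
  unfold Cfsg.classInner at h1
  have hne : (Nat.card G : ℂ) ≠ 0 := by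
    have : 0 < Nat.card G := Nat.card_pos
    exact_mod_cast this.ne'
  have h2 : ∑ g : G, (χ : G → ℂ) g * conj ((χ : G → ℂ) g) = (Nat.card G : ℂ) := by
    calc ∑ g : G, (χ : G → ℂ) g * conj ((χ : G → ℂ) g)
        = (Nat.card G : ℂ) * ((Nat.card G : ℂ)⁻¹ *
            ∑ g : G, (χ : G → ℂ) g * conj ((χ : G → ℂ) g)) := by
          rw [← mul_assoc, mul_inv_cancel₀ hne, one_mul]
      _ = (Nat.card G : ℂ) := by rw [h1, mul_one]
  have h3 : ((∑ g : G, Complex.normSq ((χ : G → ℂ) g) : ℝ) : ℂ) = ((Nat.card G : ℝ) : ℂ) := by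
    push_cast
    rw [← h2]
    apply Finset.sum_congr rfl
    intro g _
    rw [Complex.mul_conj]
  exact_mod_cast h3

theorem normSq_le [Finite G] (χ : Cfsg.IrrCharacter G) (g : G) :
    Complex.normSq ((χ : G → ℂ) g) ≤ ((Cfsg.charDegree (χ : G → ℂ) : ℕ) : ℝ) ^ 2 := by
  have h1 := irr_norm_le χ g
  have h2 := (charDegree_irr χ).1
  rw [← h2] at h1
  rw [Complex.norm_natCast] at h1
  rw [Complex.normSq_eq_norm_sq]
  exact pow_le_pow_left₀ (norm_nonneg _) h1 2

theorem card_stabilizer_le [Fintype G] [Finite ((G ⧸ frattini G) →* ℂˣ)]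
    (χ : Cfsg.IrrCharacter G) :
    Nat.card (MulAction.stabilizer ((G ⧸ frattini G) →* ℂˣ) χ) ≤
      (Cfsg.charDegree (χ : G → ℂ)) ^ 2 := by
  classical
  set S := MulAction.stabilizer ((G ⧸ frattini G) →* ℂˣ) χ with hS
  let _ : Fintype S := Fintype.ofFinite S
  set K : Finset G := Finset.univ.filter
    (fun g : G => ∀ l : S, (l : (G ⧸ frattini G) →* ℂˣ) (QuotientGroup.mk' (frattini G) g) = 1)
    with hK
  have hvanish : ∀ g : G, g ∉ K → (χ : G → ℂ) g = 0 := by
    intro g hg
    rw [hK, Finset.mem_filter] at hg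
    push Not at hg
    obtain ⟨l, hl⟩ := hg (Finset.mem_univ g)
    have h1 : (l : (G ⧸ frattini G) →* ℂˣ) • χ = χ := l.2
    have h2 := congrArg (fun ψ : Cfsg.IrrCharacter G => (ψ : G → ℂ) g) h1
    simp only [smul_apply] at h2
    have h3 : ((((l : (G ⧸ frattini G) →* ℂˣ) (QuotientGroup.mk' (frattini G) g) : ℂˣ) : ℂ) - 1) *
        (χ : G → ℂ) g = 0 := by
      rw [sub_mul, one_mul, h2, sub_self]
    rcases mul_eq_zero.1 h3 with h4 | h4
    · exfalso
      apply hl
      rw [sub_eq_zero] at h4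
      exact Units.ext h4
    · exact h4
  have hdouble : (Fintype.card S : ℂ) * (K.card : ℂ) = (Fintype.card G : ℂ) := by
    have e1 : ∑ g : G, ∑ l : S,
        (((l : (G ⧸ frattini G) →* ℂˣ) (QuotientGroup.mk' (frattini G) g) : ℂˣ) : ℂ) =
        (Fintype.card S : ℂ) * (K.card : ℂ) := by
      have : ∀ g : G, ∑ l : S,
          (((l : (G ⧸ frattini G) →* ℂˣ) (QuotientGroup.mk' (frattini G) g) : ℂˣ) : ℂ) =
          if g ∈ K then (Fintype.card S : ℂ) else 0 := by
        intro g
        split_ifs with hg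
        · rw [hK, Finset.mem_filter] at hg
          have : ∀ l : S,
              (((l : (G ⧸ frattini G) →* ℂˣ) (QuotientGroup.mk' (frattini G) g) : ℂˣ) : ℂ) = 1 := by
            intro l
            rw [hg.2 l, Units.val_one]
          simp only [this, Finset.sum_const, Finset.card_univ, nsmul_eq_mul, mul_one]
        · rw [hK, Finset.mem_filter] at hg
          push Not at hg
          obtain ⟨l0, hl0⟩ := hg (Finset.mem_univ g)
          have := sum_hom_units_eq_zero
            ((Units.coeHom ℂ).comp (((MonoidHom.eval (N := ℂˣ))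
              (QuotientGroup.mk' (frattini G) g)).comp S.subtype)) (by
            intro h
            apply hl0
            have h3 := DFunLike.congr_fun h l0
            simpa using h3)
          simpa using this
      simp only [this]
      rw [Finset.sum_ite_mem, Finset.univ_inter, Finset.sum_const, nsmul_eq_mul, mul_comm]
    have e2 : ∑ g : G, ∑ l : S,
        (((l : (G ⧸ frattini G) →* ℂˣ) (QuotientGroup.mk' (frattini G) g) : ℂˣ) : ℂ) =
        (Fintype.card G : ℂ) := by
      rw [Finset.sum_comm]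
      have : ∀ l : S, ∑ g : G,
          (((l : (G ⧸ frattini G) →* ℂˣ) (QuotientGroup.mk' (frattini G) g) : ℂˣ) : ℂ) =
          if l = 1 then (Fintype.card G : ℂ) else 0 := by
        intro l
        split_ifs with hl
        · rw [hl]
          simp
        · have := sum_hom_units_eq_zero
            ((Units.coeHom ℂ).comp ((l : (G ⧸ frattini G) →* ℂˣ).comp
              (QuotientGroup.mk' (frattini G)))) (by
            intro h
            apply hl
            apply Subtype.ext
            apply MonoidHom.ext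
            intro v
            obtain ⟨g, rfl⟩ := QuotientGroup.mk'_surjective (frattini G) v
            have h3 := DFunLike.congr_fun h g
            apply Units.ext
            simpa using h3)
          simpa using this
      simp only [this]
      rw [Finset.sum_ite_eq' Finset.univ (1 : S)]
      simp
    rw [← e1, e2]
  have hdoubleN : Fintype.card S * K.card = Fintype.card G := by
    exact_mod_cast hdouble
  have hsum : ∑ g ∈ K, Complex.normSq ((χ : G → ℂ) g) = (Nat.card G : ℝ) := by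
    rw [← sum_normSq χ]
    apply Finset.sum_subset (Finset.subset_univ K)
    intro g _ hg
    rw [hvanish g hg, map_zero]
  have hle : (Nat.card G : ℝ) ≤ (K.card : ℝ) * ((Cfsg.charDegree (χ : G → ℂ) : ℕ) : ℝ) ^ 2 := by
    rw [← hsum]
    calc ∑ g ∈ K, Complex.normSq ((χ : G → ℂ) g)
        ≤ ∑ _g ∈ K, ((Cfsg.charDegree (χ : G → ℂ) : ℕ) : ℝ) ^ 2 :=
          Finset.sum_le_sum (fun g _ => normSq_le χ g)
      _ = (K.card : ℝ) * ((Cfsg.charDegree (χ : G → ℂ) : ℕ) : ℝ) ^ 2 := by
          rw [Finset.sum_const, nsmul_eq_mul]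
  have hleN : Nat.card G ≤ K.card * (Cfsg.charDegree (χ : G → ℂ)) ^ 2 := by
    exact_mod_cast hle
  rw [Nat.card_eq_fintype_card, ← hdoubleN] at hleN
  have hKpos : 0 < K.card := by
    rcases Nat.eq_zero_or_pos K.card with h0 | h0
    · rw [h0, mul_zero] at hdoubleN
      exact absurd hdoubleN.symm Fintype.card_ne_zero
    · exact h0
  rw [Nat.card_eq_fintype_card]
  have : K.card * Fintype.card S ≤ K.card * (Cfsg.charDegree (χ : G → ℂ)) ^ 2 := by
    rw [mul_comm]; exact hleN
  exact Nat.le_of_mul_le_mul_left this hKpos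



theorem dvd_sum_of_orbits {A X : Type*} [Group A] [MulAction A X] [Fintype X]
    (f : X → ℤ) (hf : ∀ (a : A) (x : X), f (a • x) = f x) (m : ℤ)
    (h : ∀ x : X, m ∣ (Nat.card (MulAction.orbit A x) : ℤ) * f x) : m ∣ ∑ x : X, f x := by
  classical
  let r : X → X := fun x => (Quotient.mk'' x : MulAction.orbitRel.Quotient A X).out
  have hr1 : ∀ x, r x ∈ MulAction.orbit A x := by
    intro x
    have h1 : (Quotient.mk'' (r x) : MulAction.orbitRel.Quotient A X) = Quotient.mk'' x :=
      Quotient.out_eq' _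
    have h2 := Quotient.exact' h1
    exact h2
  have hr2 : ∀ x y, x ∈ MulAction.orbit A y → r x = r y := by
    intro x y hxy
    have h1 : (Quotient.mk'' x : MulAction.orbitRel.Quotient A X) = Quotient.mk'' y :=
      Quotient.sound' hxy
    show (Quotient.mk'' x : MulAction.orbitRel.Quotient A X).out = _
    rw [h1]
  rw [← Finset.sum_fiberwise Finset.univ r f]
  apply Finset.dvd_sum
  intro y _
  by_cases hy : ∃ x0, r x0 = y
  · obtain ⟨x0, hx0⟩ := hy
    have hyx0 : y ∈ MulAction.orbit A x0 := hx0 ▸ hr1 x0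
    have hfib : ∀ x, r x = y ↔ x ∈ MulAction.orbit A y := by
      intro x
      constructor
      · intro hx
        have h1 : y ∈ MulAction.orbit A x := hx ▸ hr1 x
        obtain ⟨a, ha⟩ := h1
        refine ⟨a⁻¹, ?_⟩
        show a⁻¹ • y = x
        rw [← ha]
        simp
      · intro hx
        rw [hr2 x y hx, hr2 y x0 hyx0, hx0]
    have hconst : ∀ x ∈ Finset.univ.filter (fun x => r x = y), f x = f y := by
      intro x hx
      rw [Finset.mem_filter] at hx
      obtain ⟨a, ha⟩ := (hfib x).1 hx.2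
      rw [← ha]
      exact hf a y
    rw [Finset.sum_congr rfl hconst, Finset.sum_const, nsmul_eq_mul]
    have hcard : (Finset.univ.filter (fun x => r x = y)).card = Nat.card (MulAction.orbit A y) := by
      rw [Nat.card_eq_fintype_card, Fintype.card_subtype]
      congr 1
      ext x
      simp only [Finset.mem_filter, Finset.mem_univ, true_and]
      exact hfib x
    rw [hcard]
    exact h y
  · push Not at hy
    have : Finset.univ.filter (fun x => r x = y) = ∅ := by
      ext x
      simp [hy x]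
    rw [this, Finset.sum_empty]
    exact dvd_zero m

theorem arith (o c deg cardG cardA k : ℕ) (n d : ℕ) (hG : cardG = 2 ^ n) (hA : cardA = 2 ^ d)
    (hk : 2 ^ (2 * k + 1) ≤ cardA) (hoc : o * c = cardA) (hc : c ≤ deg ^ 2) (hdeg : deg ∣ cardG) :
    2 ^ (k + 1) ∣ o * deg := by
  rw [hG] at hdeg
  obtain ⟨e, _, rfl⟩ := (Nat.dvd_prime_pow Nat.prime_two).1 hdeg
  rw [hA] at hoc hk
  have hcd : c ∣ 2 ^ d := Dvd.intro_left o hoc
  obtain ⟨s, hsd, rfl⟩ := (Nat.dvd_prime_pow Nat.prime_two).1 hcd
  have ho : o = 2 ^ (d - s) := by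
    have h1 : 2 ^ (d - s) * 2 ^ s = 2 ^ d := by
      rw [← pow_add]
      congr 1
      omega
    have h2 : o * 2 ^ s = 2 ^ (d - s) * 2 ^ s := by rw [hoc, h1]
    exact Nat.eq_of_mul_eq_mul_right (by positivity) h2
  have hs2e : s ≤ 2 * e := by
    rw [← pow_mul, mul_comm] at hc
    exact (Nat.pow_le_pow_iff_right (by norm_num)).1 hc
  have hkd : 2 * k + 1 ≤ d := (Nat.pow_le_pow_iff_right (by norm_num)).1 hk
  rw [ho, ← pow_add]
  apply pow_dvd_pow
  omega


/-- Let G be a finite 2-group with #(G/Φ(G)) ≥ 2^(2k+1). Then the number of elements x of G with x² = 1 is divisible by 2^(k+1). -/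
theorem result {G : Type*} [Group G] [Finite G] (hG : IsPGroup 2 G) (k : ℕ)
    (hgen : 2 ^ (2 * k + 1) ≤ Nat.card (G ⧸ frattini G)) :
    2 ^ (k + 1) ∣ Nat.card {x : G // x ^ 2 = 1} := by
  classical
  let _ : Fintype G := Fintype.ofFinite G
  let _ : Fintype (Cfsg.IrrCharacter G) := Fintype.ofFinite _
  have hcardA : Nat.card ((G ⧸ frattini G) →* ℂˣ) = Nat.card (G ⧸ frattini G) :=
    card_linChar (quot_comm hG)
  have hfinA : Finite ((G ⧸ frattini G) →* ℂˣ) :=
    Nat.finite_of_card_ne_zero (by rw [hcardA]; exact Nat.card_pos.ne')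
  have hcount := fs_count_int (G := G)
  have hsq : Nat.card {x : G // x ^ 2 = 1} = Nat.card {x : G // orderOf x = 2} + 1 := by
    rw [← fs_card_sq_eq_one]
    apply Nat.card_congr
    exact Equiv.subtypeEquivRight (fun x => by rw [pow_two])
  obtain ⟨n, hn⟩ := IsPGroup.iff_card.1 hG
  obtain ⟨d, hd⟩ := IsPGroup.iff_card.1 (hG.to_quotient (frattini G))
  have hdvd : ((2 ^ (k + 1) : ℕ) : ℤ) ∣
      ∑ χ : Cfsg.IrrCharacter G, fsEps χ * (Cfsg.charDegree (χ : G → ℂ) : ℤ) := by
    apply dvd_sum_of_orbits (A := (G ⧸ frattini G) →* ℂˣ)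
    · intro a χ
      rw [fsEps_smul hG, charDegree_smul]
    · intro χ
      rw [← mul_assoc, mul_comm _ (fsEps χ), mul_assoc]
      apply Dvd.dvd.mul_left
      have hoc : Nat.card (MulAction.orbit ((G ⧸ frattini G) →* ℂˣ) χ) *
          Nat.card (MulAction.stabilizer ((G ⧸ frattini G) →* ℂˣ) χ) =
          Nat.card ((G ⧸ frattini G) →* ℂˣ) := by
        rw [← Nat.card_prod]
        exact Nat.card_congr (MulAction.orbitProdStabilizerEquivGroup _ χ)
      have := arith _ _ (Cfsg.charDegree (χ : G → ℂ)) (Nat.card G)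
        (Nat.card ((G ⧸ frattini G) →* ℂˣ)) k n d hn (by rw [hcardA, hd])
        (by rw [hcardA]; exact hgen) hoc (card_stabilizer_le χ) (charDegree_dvd_card χ)
      exact_mod_cast this
  rw [← hcount] at hdvd
  have hfin : ((2 ^ (k + 1) : ℕ) : ℤ) ∣ ((Nat.card {x : G // x ^ 2 = 1} : ℕ) : ℤ) := by
    rw [hsq]
    push_cast
    push_cast at hdvd
    exact hdvd
  exact_mod_cast hfin

end Cfsg.Agent.S4058
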