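import Cfsg.Statements.S4059
import Mathlib

set_option autoImplicit false
open Cfsg
open scoped commutatorElement

namespace Cfsg.Agent.S4059

theorem card_mul_relIndex_of_le {G : Type*} [Group G] {N M : Subgroup G} (h : N ≤ M) :
    Nat.card N * N.relIndex M = Nat.card M := by
  have h1 : (⊥ : Subgroup G).relIndex N * N.relIndex M = (⊥ : Subgroup G).relIndex M :=
    Subgroup.relIndex_mul_relIndex ⊥ N M bot_le h
  simpa [Subgroup.relIndex_bot_left] using h1

/-- the elements conjugating `x` to `x` or `x⁻¹` -/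
def invNormalizer {G : Type*} [Group G] (x : G) : Subgroup G where
  carrier := {g | g * x * g⁻¹ = x ∨ g * x * g⁻¹ = x⁻¹}
  one_mem' := by simp
  mul_mem' := by
    intro a b ha hb
    simp only [Set.mem_setOf_eq] at ha hb ⊢
    have h1 : a * b * x * (a * b)⁻¹ = a * (b * x * b⁻¹) * a⁻¹ := by group
    rw [h1]
    rcases hb with hb | hb
    · rw [hb]; exact ha
    · rw [hb]
      have h2 : a * x⁻¹ * a⁻¹ = (a * x * a⁻¹)⁻¹ := by group
      rw [h2]
      rcases ha with ha | ha
      · right; rw [ha]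
      · left; rw [ha, inv_inv]
  inv_mem' := by
    intro a ha
    simp only [Set.mem_setOf_eq] at ha ⊢
    rcases ha with ha | ha
    · left
      calc a⁻¹ * x * a⁻¹⁻¹ = a⁻¹ * (a * x * a⁻¹) * a := by rw [ha, inv_inv]
        _ = x := by group
    · right
      have h : a * x⁻¹ * a⁻¹ = x := by
        have h0 : a * x⁻¹ * a⁻¹ = (a * x * a⁻¹)⁻¹ := by group
        rw [h0, ha, inv_inv]
      calc a⁻¹ * x * a⁻¹⁻¹ = a⁻¹ * (a * x⁻¹ * a⁻¹) * a := by rw [h, inv_inv]
        _ = x⁻¹ := by group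

theorem conj_pow_odd {G : Type*} [Group G] (c y : G) (h : c * y * c⁻¹ = y⁻¹) (m : ℕ) (hm : Odd m) :
    c ^ m * y * (c ^ m)⁻¹ = y⁻¹ := by
  obtain ⟨j, rfl⟩ := hm
  have h2 : Commute (c ^ 2) y := by
    have h' : c * y⁻¹ * c⁻¹ = y := by
      have h0 : c * y⁻¹ * c⁻¹ = (c * y * c⁻¹)⁻¹ := by group
      rw [h0, h, inv_inv]
    have : c ^ 2 * y * (c ^ 2)⁻¹ = y := by
      calc c ^ 2 * y * (c ^ 2)⁻¹ = c * (c * y * c⁻¹) * c⁻¹ := by rw [pow_two]; group
        _ = y := by rw [h, h']
    exact mul_inv_eq_iff_eq_mul.1 this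
  have h3 : Commute ((c ^ 2) ^ j) y := h2.pow_left j
  have h4 : c ^ (2 * j + 1) = (c ^ 2) ^ j * c := by rw [pow_succ, pow_mul]
  rw [h4]
  calc (c ^ 2) ^ j * c * y * ((c ^ 2) ^ j * c)⁻¹
      = (c ^ 2) ^ j * (c * y * c⁻¹) * ((c ^ 2) ^ j)⁻¹ := by group
    _ = (c ^ 2) ^ j * y⁻¹ * ((c ^ 2) ^ j)⁻¹ := by rw [h]
    _ = y⁻¹ := by
      have := h3.inv_right
      rw [this.eq]; group

theorem result {G : Type*} [Group G] [Finite G] (hamb : ∀ x : G, IsConj x x⁻¹) :
    (∀ (S : Sylow 2 G) (x : G), x ∈ Subgroup.centralizer ((S : Subgroup G) : Set G) → x ≠ 1 → orderOf x = 2) ∧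
    (∀ z : G, z ∈ Subgroup.center G → z ^ 2 = 1) ∧
    (∀ x : G, x ^ 2 ∈ commutator G) ∧
    Subgroup.closure {x : G | ∃ k : ℕ, orderOf x = 2 ^ k} = ⊤ := by
  refine ⟨?_, ?_, ?_, ?_⟩
  · intro S x hx hx1
    obtain ⟨c, hc⟩ := isConj_iff.1 (hamb x)
    by_cases hxx : x = x⁻¹
    · have h2 : x ^ 2 = 1 := by
        rw [pow_two]; nth_rewrite 2 [hxx]; exact mul_inv_cancel x
      exact orderOf_eq_prime h2 hx1
    · exfalso
      set Cx := Subgroup.centralizer ({x} : Set G) with hCx
      set Nx := invNormalizer x with hNx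
      have hle : Cx ≤ Nx := by
        intro g hg
        rw [hCx, Subgroup.mem_centralizer_singleton_iff] at hg
        left
        rw [hg]; group
      have hrel : Cx.relIndex Nx = 2 := by
        rw [Subgroup.relIndex_eq_two_iff]
        refine ⟨c, Or.inr hc, ?_⟩
        intro b hb
        have hb' : b * x * b⁻¹ = x ∨ b * x * b⁻¹ = x⁻¹ := hb
        have hbc : b * c * x * (b * c)⁻¹ = (b * x * b⁻¹)⁻¹ := by
          calc b * c * x * (b * c)⁻¹ = b * (c * x * c⁻¹) * b⁻¹ := by group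
            _ = (b * x * b⁻¹)⁻¹ := by rw [hc]; group
        have mem_iff : ∀ g : G, g ∈ Cx ↔ g * x * g⁻¹ = x := by
          intro g
          rw [hCx, Subgroup.mem_centralizer_singleton_iff]
          constructor
          · intro h; rw [h]; group
          · intro h; exact mul_inv_eq_iff_eq_mul.1 h
        rw [mem_iff, mem_iff, hbc]
        rcases hb' with h1 | h1
        · rw [h1]
          right
          exact ⟨rfl, fun h => hxx h.symm⟩
        · rw [h1, inv_inv]
          left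
          exact ⟨rfl, fun h => hxx h.symm⟩
      have hSC : (S : Subgroup G) ≤ Cx := by
        intro s hs
        rw [hCx, Subgroup.mem_centralizer_singleton_iff]
        rw [Subgroup.mem_centralizer_iff] at hx
        exact hx s hs
      have h1 : Nat.card S ∣ Nat.card Cx := Subgroup.card_dvd_of_le hSC
      have h2 : Nat.card Cx * 2 = Nat.card Nx := by
        rw [← hrel]; exact card_mul_relIndex_of_le hle
      have h3 : Nat.card Nx ∣ Nat.card G := Subgroup.card_subgroup_dvd_card Nx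
      have h4 : 2 ^ ((Nat.card G).factorization 2 + 1) ∣ Nat.card G := by
        rw [pow_succ, ← Sylow.card_eq_multiplicity S]
        exact dvd_trans (by rw [← h2]; exact Nat.mul_dvd_mul_right h1 2) h3
      exact Nat.pow_succ_factorization_not_dvd Nat.card_pos.ne' Nat.prime_two h4
  · intro z hz
    obtain ⟨c, hc⟩ := isConj_iff.1 (hamb z)
    have h1 : c * z = z * c := (Subgroup.mem_center_iff.1 hz c)
    have h2 : z = z⁻¹ := by
      rw [← hc, h1]; group
    rw [pow_two]; nth_rewrite 2 [h2]; exact mul_inv_cancel z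
  · intro x
    obtain ⟨c, hc⟩ := isConj_iff.1 (hamb x)
    have h1 : x ^ 2 = ⁅x, c⁆ := by
      rw [commutatorElement_def]
      have : c * x⁻¹ * c⁻¹ = x := by
        calc c * x⁻¹ * c⁻¹ = (c * x * c⁻¹)⁻¹ := by group
          _ = x := by rw [hc, inv_inv]
      calc x ^ 2 = x * (c * x⁻¹ * c⁻¹) := by rw [this, pow_two]
        _ = x * c * x⁻¹ * c⁻¹ := by group
    rw [h1, commutator_def]
    exact Subgroup.commutator_mem_commutator (Subgroup.mem_top x) (Subgroup.mem_top c)
  · set T := Subgroup.closure {x : G | ∃ k : ℕ, orderOf x = 2 ^ k} with hT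
    rw [eq_top_iff]
    intro g _
    -- odd order elements are in T
    have hodd : ∀ y : G, Odd (orderOf y) → y ∈ T := by
      intro y hy
      obtain ⟨c, hc⟩ := isConj_iff.1 (hamb y)
      obtain ⟨k, m, hm, hkm⟩ := Nat.exists_eq_two_pow_mul_odd (orderOf_pos c).ne'
      set t := c ^ m with ht
      have hto : orderOf t = 2 ^ k := by
        rw [ht, orderOf_pow_of_dvd hm.pos.ne' (by rw [hkm]; exact dvd_mul_left _ _), hkm,
          Nat.mul_div_cancel _ hm.pos]
      have hty : t * y * t⁻¹ = y⁻¹ := conj_pow_odd c y hc m hm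
      have htT : t ∈ T := Subgroup.subset_closure ⟨k, hto⟩
      have hytT : y * t * y⁻¹ ∈ T := by
        apply Subgroup.subset_closure
        refine ⟨k, ?_⟩
        rw [← hto]
        have hs : SemiconjBy y t (y * t * y⁻¹) := by
          simp [SemiconjBy]
        exact (hs.orderOf_eq y).symm
      have hy2 : y ^ 2 ∈ T := by
        have : y ^ 2 = (y * t * y⁻¹) * t⁻¹ := by
          have h5 : t * y⁻¹ * t⁻¹ = y := by
            calc t * y⁻¹ * t⁻¹ = (t * y * t⁻¹)⁻¹ := by group
              _ = y := by rw [hty, inv_inv]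
          calc y ^ 2 = y * (t * y⁻¹ * t⁻¹) := by rw [h5, pow_two]
            _ = (y * t * y⁻¹) * t⁻¹ := by group
        rw [this]
        exact T.mul_mem hytT (T.inv_mem htT)
      -- y is a power of y^2
      obtain ⟨j, hj⟩ := hy
      have : y = (y ^ 2) ^ (j + 1) := by
        rw [← pow_mul, show 2 * (j + 1) = (2 * j + 1) + 1 by ring, pow_succ, ← hj,
          pow_orderOf_eq_one, one_mul]
      rw [this]
      exact T.pow_mem hy2 _
    obtain ⟨k, m, hm, hkm⟩ := Nat.exists_eq_two_pow_mul_odd (orderOf_pos g).ne'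
    have hcop : Nat.Coprime (2 ^ k) m := Nat.Coprime.pow_left _ (Nat.coprime_two_left.2 hm)
    have hbez : (1 : ℤ) = (2 ^ k : ℕ) * Nat.gcdA (2 ^ k) m + m * Nat.gcdB (2 ^ k) m := by
      have := Nat.gcd_eq_gcd_ab (2 ^ k) m
      rw [hcop.gcd_eq_one] at this
      exact_mod_cast this
    have h1 : g ^ (2 ^ k) ∈ T := by
      apply hodd
      rw [orderOf_pow_of_dvd (pow_ne_zero _ two_ne_zero) (by rw [hkm]; exact dvd_mul_right _ _), hkm,
        Nat.mul_div_cancel_left _ (pow_pos two_pos k)]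
      exact hm
    have h2 : g ^ m ∈ T := by
      apply Subgroup.subset_closure
      refine ⟨k, ?_⟩
      rw [orderOf_pow_of_dvd hm.pos.ne' (by rw [hkm]; exact dvd_mul_left _ _), hkm,
        Nat.mul_div_cancel _ hm.pos]
    have : g = (g ^ (2 ^ k)) ^ (Nat.gcdA (2 ^ k) m) * (g ^ m) ^ (Nat.gcdB (2 ^ k) m) := by
      rw [← zpow_natCast g (2 ^ k), ← zpow_natCast g m, ← zpow_mul, ← zpow_mul, ← zpow_add, ← hbez,
        zpow_one]
    rw [this]
    exact T.mul_mem (T.zpow_mem h1 _) (T.zpow_mem h2 _)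

end Cfsg.Agent.S4059
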