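import Cfsg.Statements.S4060
import Cfsg.Agent.S3985
import Cfsg.Agent.Lib.Helper22.Sylow
import Cfsg.Agent.Lib.Helper22.AxB

set_option autoImplicit false
open Cfsg

namespace Cfsg.Agent.S4060

open Cfsg.Agent.Lib.Helper22
open scoped commutatorElement

def invNorm {G : Type*} [Group G] (x : G) : Subgroup G where
  carrier := {h | h * x * h⁻¹ = x ∨ h * x * h⁻¹ = x⁻¹}
  one_mem' := by left; simp
  mul_mem' := by
    intro a b ha hb
    have e : a * b * x * (a * b)⁻¹ = a * (b * x * b⁻¹) * a⁻¹ := by group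
    rcases hb with hb | hb <;> rcases ha with ha | ha
    · left; rw [e, hb, ha]
    · right; rw [e, hb, ha]
    · right
      rw [e, hb]
      have : a * x⁻¹ * a⁻¹ = (a * x * a⁻¹)⁻¹ := by group
      rw [this, ha]
    · left
      rw [e, hb]
      have : a * x⁻¹ * a⁻¹ = (a * x * a⁻¹)⁻¹ := by group
      rw [this, ha, inv_inv]
  inv_mem' := by
    intro a ha
    rcases ha with ha | ha
    · left
      calc a⁻¹ * x * a⁻¹⁻¹ = a⁻¹ * (a * x * a⁻¹) * a := by rw [ha, inv_inv]
        _ = x := by group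
    · right
      have h1 : a * x⁻¹ * a⁻¹ = x := by
        have : a * x⁻¹ * a⁻¹ = (a * x * a⁻¹)⁻¹ := by group
        rw [this, ha, inv_inv]
      have : a⁻¹ * x * a⁻¹⁻¹ = a⁻¹ * (a * x⁻¹ * a⁻¹) * a := by rw [h1]; group
      rw [this]; group

theorem comm_of_odd_of_mem_invNorm {G : Type*} [Group G] (x b : G) (hb : b ∈ invNorm x)
    (hodd : Odd (orderOf b)) : b * x = x * b := by
  have h2 : (b * b) * x = x * (b * b) := by
    have hbb : b * b ∈ invNorm x := (invNorm x).mul_mem hb hb
    rcases hb with hb | hb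
    · have : b * x = x * b := by
        calc b * x = b * x * b⁻¹ * b := by group
          _ = x * b := by rw [hb]
      calc b * b * x = b * (b * x) := by group
        _ = b * (x * b) := by rw [this]
        _ = (b * x) * b := by group
        _ = x * b * b := by rw [this]
        _ = x * (b * b) := by group
    · have e : b * b * x * (b * b)⁻¹ = b * (b * x * b⁻¹) * b⁻¹ := by group
      have h1 : b * x⁻¹ * b⁻¹ = x := by
        have : b * x⁻¹ * b⁻¹ = (b * x * b⁻¹)⁻¹ := by group
        rw [this, hb, inv_inv]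
      have : b * b * x * (b * b)⁻¹ = x := by rw [e, hb, h1]
      calc b * b * x = b * b * x * (b * b)⁻¹ * (b * b) := by group
        _ = x * (b * b) := by rw [this]
  obtain ⟨m, hm⟩ := hodd
  have h3 : b = (b * b) ^ (m + 1) := by
    rw [← pow_two, ← pow_mul]
    have : 2 * (m + 1) = orderOf b + 1 := by omega
    rw [this, pow_succ, pow_orderOf_eq_one, one_mul]
  have h4 : Commute (b * b) x := h2
  have h5 : Commute ((b * b) ^ (m + 1)) x := h4.pow_left _
  rw [← h3] at h5
  exact h5.eq

theorem core {G : Type*} [Group G] [Finite G] (A : Subgroup G) [A.Normal]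
    (hA : ∀ a ∈ A, ∀ b ∈ A, a * b = b * a) (S : Sylow 2 G) (x : G) (hxA : x ∈ A)
    (hodd : Odd (orderOf x)) (hnorm : x ∈ Subgroup.normalizer ((S : Subgroup G) : Set G))
    (hconj : IsConj x x⁻¹) : x = 1 := by
  by_contra hx1
  have hxx : x ≠ x⁻¹ := by
    intro h
    have h2 : x ^ 2 = 1 := by
      rw [pow_two]
      nth_rewrite 2 [h]
      exact mul_inv_cancel x
    have h3 : orderOf x ∣ 2 := orderOf_dvd_of_pow_eq_one h2
    have h4 : orderOf x = 1 := by
      rcases (Nat.dvd_prime Nat.prime_two).1 h3 with h | h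
      · exact h
      · rw [h] at hodd; exact absurd hodd (by decide)
    exact hx1 (orderOf_eq_one_iff.1 h4)
  have hcent : ∀ s ∈ (S : Subgroup G), x * s = s * x := by
    intro s hs
    set t := s⁻¹ * (x * s * x⁻¹) with ht
    have htS : t ∈ (S : Subgroup G) :=
      Subgroup.mul_mem _ (Subgroup.inv_mem _ hs) ((Subgroup.mem_normalizer_iff.1 hnorm s).1 hs)
    have htA : t ∈ A := by
      have : t = (s⁻¹ * x * s⁻¹⁻¹) * x⁻¹ := by rw [ht]; group
      rw [this]
      exact A.mul_mem (‹A.Normal›.conj_mem x hxA _) (A.inv_mem hxA)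
    have hxt : x * t = t * x := hA x hxA t htA
    have hconj' : x * s * x⁻¹ = s * t := by rw [ht]; group
    have h1 := conj_pow_mul_of_comm x s t hxt hconj' (orderOf x)
    rw [pow_orderOf_eq_one] at h1
    have h2 : t ^ orderOf x = 1 := by
      have : s = s * t ^ orderOf x := by simpa using h1
      exact mul_eq_left.1 this.symm
    obtain ⟨j, hj⟩ := orderOf_of_mem_pgroup 2 (S : Subgroup G) S.2 t htS
    have h3 : orderOf t ∣ orderOf x := orderOf_dvd_of_pow_eq_one h2
    have h4 : orderOf t = 1 := by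
      have hco : (orderOf t).Coprime (orderOf x) := by
        rw [hj]
        apply Nat.Coprime.pow_left
        exact Nat.coprime_two_left.2 hodd
      exact hco.eq_one_of_dvd h3
    have h5 : t = 1 := orderOf_eq_one_iff.1 h4
    rw [h5, mul_one] at hconj'
    calc x * s = x * s * x⁻¹ * x := by group
      _ = s * x := by rw [hconj']
  obtain ⟨g, hg⟩ := isConj_iff.1 hconj
  set C := Subgroup.centralizer ({x} : Set G) with hC
  have hSC : (S : Subgroup G) ≤ C := by
    intro s hs
    rw [hC, Subgroup.mem_centralizer_singleton_iff]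
    exact (hcent s hs).symm
  have hgx : g⁻¹ * x * g = x⁻¹ := by
    have h1 : g⁻¹ * x⁻¹ * g = x := by
      rw [← hg]; group
    have : g⁻¹ * x * g = (g⁻¹ * x⁻¹ * g)⁻¹ := by group
    rw [this, h1]
  have hgSC : ((g • S : Sylow 2 G) : Subgroup G) ≤ C := by
    intro s hs
    rw [mem_smul_sylow_iff] at hs
    have h1 := hcent _ hs
    rw [hC, Subgroup.mem_centralizer_singleton_iff]
    have h2 : x⁻¹ * (g⁻¹ * s * g) = (g⁻¹ * s * g) * x⁻¹ := by
      have hc : Commute x (g⁻¹ * s * g) := h1
      exact hc.inv_left.eq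
    calc s * x = g * ((g⁻¹ * s * g) * (g⁻¹ * x * g)) * g⁻¹ := by group
      _ = g * ((g⁻¹ * s * g) * x⁻¹) * g⁻¹ := by rw [hgx]
      _ = g * (x⁻¹ * (g⁻¹ * s * g)) * g⁻¹ := by rw [h2]
      _ = g * ((g⁻¹ * x * g) * (g⁻¹ * s * g)) * g⁻¹ := by rw [hgx]
      _ = x * s := by group
  obtain ⟨c, hc⟩ := MulAction.exists_smul_eq C ((g • S).subtype hgSC) (S.subtype hSC)
  rw [Sylow.smul_subtype] at hc
  have hc' : c • (g • S) = S := Sylow.subtype_injective hc
  have hc'' : ((c : G) * g) • S = S := by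
    rw [mul_smul]; exact hc'
  set g' := (c : G) * g with hg'
  have hg'N : g' ∈ Subgroup.normalizer ((S : Subgroup G) : Set G) :=
    Sylow.smul_eq_iff_mem_normalizer.1 hc''
  have hcx : (c : G) * x⁻¹ * (c : G)⁻¹ = x⁻¹ := by
    have h1 : (c : G) * x = x * (c : G) := Subgroup.mem_centralizer_singleton_iff.1 c.2
    have h2 : Commute (c : G) x⁻¹ := (show Commute (c : G) x from h1).inv_right
    rw [h2.eq, mul_inv_cancel_right]
  have hg'x : g' * x * g'⁻¹ = x⁻¹ := by
    have : g' * x * g'⁻¹ = (c : G) * (g * x * g⁻¹) * (c : G)⁻¹ := by rw [hg']; group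
    rw [this, hg, hcx]
  have hg'D : g' ∈ invNorm x := Or.inr hg'x
  obtain ⟨a, b, hab, hcomm, ⟨k, hk⟩, hb, haz, hbz⟩ := exists_p_decomp 2 g'
  have haN : a ∈ Subgroup.normalizer ((S : Subgroup G) : Set G) :=
    (Subgroup.zpowers_le.2 hg'N) haz
  have haS : a ∈ (S : Subgroup G) := Cfsg.Agent.S3985.mem_sylow_of_normalizes 2 S a k hk haN
  have hax : a * x = x * a := (hcent a haS).symm
  have hbD : b ∈ invNorm x := (Subgroup.zpowers_le.2 hg'D) hbz
  have hbx : b * x = x * b :=
    comm_of_odd_of_mem_invNorm x b hbD (Nat.coprime_two_right.1 hb)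
  have h7 : g' * x * g'⁻¹ = x := by
    rw [hab]
    calc a * b * x * (a * b)⁻¹ = a * (b * x) * b⁻¹ * a⁻¹ := by group
      _ = a * (x * b) * b⁻¹ * a⁻¹ := by rw [hbx]
      _ = a * x * a⁻¹ := by group
      _ = x * a * a⁻¹ := by rw [hax]
      _ = x := by group
  rw [h7] at hg'x
  exact hxx hg'x

theorem mem_derivedSeries {G : Type*} [Group G] [Finite G] (S : Sylow 2 G) (x : G)
    (hodd : Odd (orderOf x)) (hnorm : x ∈ Subgroup.normalizer ((S : Subgroup G) : Set G))
    (hconj : IsConj x x⁻¹) : ∀ i : ℕ, x ∈ derivedSeries G i := by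
  intro i
  induction i with
  | zero => rw [derivedSeries_zero]; exact Subgroup.mem_top _
  | succ i ih =>
    set D := derivedSeries G (i + 1) with hD
    have hDn : D.Normal := derivedSeries_normal G (i + 1)
    have hsurj : Function.Surjective (QuotientGroup.mk' D) := QuotientGroup.mk'_surjective D
    have hAn : ((derivedSeries G i).map (QuotientGroup.mk' D)).Normal :=
      Subgroup.Normal.map (derivedSeries_normal G i) _ hsurj
    have hAab : ∀ a ∈ (derivedSeries G i).map (QuotientGroup.mk' D),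
        ∀ b ∈ (derivedSeries G i).map (QuotientGroup.mk' D), a * b = b * a := by
      rintro _ ⟨a, ha, rfl⟩ _ ⟨b, hb, rfl⟩
      have h1 : ⁅a, b⁆ ∈ D := by
        rw [hD, derivedSeries_succ]
        exact Subgroup.commutator_mem_commutator ha hb
      have h2 : (QuotientGroup.mk' D) ⁅a, b⁆ = 1 := (QuotientGroup.eq_one_iff _).2 h1
      rw [commutatorElement_def, map_mul, map_mul, map_mul, map_inv, map_inv] at h2
      have h3 := mul_inv_eq_one.1 h2
      exact mul_inv_eq_iff_eq_mul.1 h3
    have hxA : (QuotientGroup.mk' D) x ∈ (derivedSeries G i).map (QuotientGroup.mk' D) :=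
      Subgroup.mem_map_of_mem _ ih
    have hodd' : Odd (orderOf ((QuotientGroup.mk' D) x)) :=
      Odd.of_dvd_nat hodd (orderOf_map_dvd _ x)
    have hnorm' : (QuotientGroup.mk' D) x ∈
        Subgroup.normalizer (((S.mapSurjective hsurj : Sylow 2 (G ⧸ D)) : Subgroup (G ⧸ D)) : Set (G ⧸ D)) := by
      apply Subgroup.mem_normalizer_fintype
      intro y hy
      have hy' : y ∈ (S : Subgroup G).map (QuotientGroup.mk' D) := hy
      obtain ⟨s, hs, rfl⟩ := Subgroup.mem_map.1 hy'
      have h1 : x * s * x⁻¹ ∈ (S : Subgroup G) := (Subgroup.mem_normalizer_iff.1 hnorm s).1 hs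
      show _ ∈ (S : Subgroup G).map (QuotientGroup.mk' D)
      refine Subgroup.mem_map.2 ⟨x * s * x⁻¹, h1, ?_⟩
      simp
    have hconj' : IsConj ((QuotientGroup.mk' D) x) ((QuotientGroup.mk' D) x)⁻¹ := by
      have := (QuotientGroup.mk' D).map_isConj hconj
      rwa [map_inv] at this
    have h1 := @core (G ⧸ D) _ _ _ hAn hAab (S.mapSurjective hsurj) _ hxA hodd' hnorm' hconj'
    exact (QuotientGroup.eq_one_iff x).1 h1

/-- Let G be a finite solvable group with Sylow 2-subgroup S, and let x ≠ 1 be an element of odd order normalizing S. Then x is not conjugate to its inverse in G. -/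
theorem result {G : Type*} [Group G] [Finite G] [Group.IsSolvable G]
    (S : Sylow 2 G) (x : G) (hx : x ≠ 1) (hodd : Odd (orderOf x))
    (hnorm : x ∈ Subgroup.normalizer ((S : Subgroup G) : Set G)) : ¬ IsConj x x⁻¹ := by
  intro hconj
  obtain ⟨n, hn⟩ := (inferInstance : Group.IsSolvable G).solvable
  have h1 := mem_derivedSeries S x hodd hnorm hconj n
  rw [hn, Subgroup.mem_bot] at h1
  exact hx h1

end Cfsg.Agent.S4060
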