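import Cfsg.Statements.S4061
-- import your own Cfsg.Agent.* helpers here
import Mathlib
import Cfsg.Agent.Lib.Helper1.TwoGroupUnique
import Cfsg.Agent.Lib.Helper18.PPrimeCore
import Cfsg.Agent.Lib.Helper22.AmbivA
import Cfsg.Agent.Lib.Helper22.Ord4B

set_option autoImplicit false
open Cfsg

namespace Cfsg.Agent.S4061

open Cfsg.Agent.Lib.Helper22.AmbivA
open scoped commutatorElement

/-- in a finite `2`-group in which any two commuting involutions are equal, there is only one
subgroup of order two -/
theorem unique_order_two {P : Type*} [Group P] [Finite P] (hP : IsPGroup 2 P)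
    (hT : ∀ a b : P, orderOf a = 2 → orderOf b = 2 → a * b = b * a → a = b)
    (H K : Subgroup P) (hH : Nat.card H = 2) (hK : Nat.card K = 2) : H = K := by
  have : Fact (Nat.Prime 2) := ⟨Nat.prime_two⟩
  have hnt : Nontrivial P := by
    have : Nontrivial H := by
      rw [← Finite.one_lt_card_iff_nontrivial, hH]; norm_num
    obtain ⟨x, y, hxy⟩ := this
    exact ⟨⟨x, y, fun h => hxy (Subtype.ext h)⟩⟩
  have hcn : Nontrivial (Subgroup.center P) := hP.center_nontrivial
  have h2c : 2 ∣ Nat.card (Subgroup.center P) := by
    rcases (hP.to_subgroup (Subgroup.center P)).card_eq_or_dvd with h | h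
    · rw [← Finite.one_lt_card_iff_nontrivial] at hcn; omega
    · exact h
  obtain ⟨z, hz⟩ := exists_prime_orderOf_dvd_card' (G := Subgroup.center P) 2 h2c
  have hz2 : orderOf (z : P) = 2 := by rw [Subgroup.orderOf_coe]; exact hz
  have hzc : ∀ x : P, x * (z : P) = (z : P) * x := fun x =>
    (Subgroup.mem_center_iff.1 z.2 x)
  have key : ∀ L : Subgroup P, Nat.card L = 2 → L = Subgroup.zpowers (z : P) := by
    intro L hL
    have hLnt : Nontrivial L := by
      rw [← Finite.one_lt_card_iff_nontrivial, hL]; norm_num
    obtain ⟨h, hh1⟩ := exists_ne (1 : L)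
    have hho : orderOf h = 2 := by
      have h1 : orderOf h ∣ 2 := by rw [← hL]; exact orderOf_dvd_natCard h
      rcases (Nat.dvd_prime Nat.prime_two).1 h1 with h2 | h2
      · exact absurd (orderOf_eq_one_iff.1 h2) hh1
      · exact h2
    have hho' : orderOf (h : P) = 2 := by rw [Subgroup.orderOf_coe]; exact hho
    have heq : (h : P) = (z : P) := hT _ _ hho' hz2 (hzc _)
    symm
    apply Subgroup.eq_of_le_of_card_ge
    · rw [Subgroup.zpowers_le, ← heq]; exact h.2
    · rw [hL, Nat.card_zpowers, hz2]
  rw [key H hH, key K hK]

/-- Let G be a finite solvable group of even order in which every element is conjugate to its inverse and all involutions are conjugate. Then a Sylow 2-subgroup S of G has order 2 or is a generalized quaternion group (of order at least 8). Moreover, if S has order 2, then G is the semidirect product of its largest normal subgroup of odd order O(G) by S, O(G) equals the derived subgroup of G, and the involution of S inverts every element of O(G). -/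
theorem result {G : Type*} [Group G] [Finite G] [Group.IsSolvable G]
    (hamb : ∀ x : G, IsConj x x⁻¹) (heven : 2 ∣ Nat.card G) (hone : ∀ s t : G, orderOf s = 2 → orderOf t = 2 → IsConj s t) (S : Sylow 2 G) :
    (Nat.card S = 2 ∨ ∃ n : ℕ, Nonempty ((S : Subgroup G) ≃* QuaternionGroup (2 ^ (n + 1)))) ∧
    (Nat.card S = 2 → (S : Subgroup G).IsComplement' (Cfsg.oddCore G) ∧ Cfsg.oddCore G = commutator G ∧
        ∀ t : G, t ∈ S → t ≠ 1 → ∀ x : G, x ∈ Cfsg.oddCore G → t * x * t⁻¹ = x⁻¹) := by
  classical
  have hf2 : Fact (Nat.Prime 2) := ⟨Nat.prime_two⟩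
  have hT := no_two_invol (Nat.card G) G rfl hamb hone
  have hSp : IsPGroup 2 ↥(S : Subgroup G) := S.isPGroup'
  have hS2 : 2 ∣ Nat.card ↥(S : Subgroup G) := S.dvd_card_of_dvd_card heven
  have hminfac : (Nat.card G).minFac = 2 := (Nat.minFac_eq_two_iff _).2 heven
  -- cyclic case
  have hcyc : IsCyclic ↥(S : Subgroup G) → Nat.card ↥(S : Subgroup G) = 2 := by
    intro hc
    have hNC := IsCyclic.normalizer_le_centralizer hminfac hc
    obtain ⟨s, hs⟩ := hc.exists_generator
    obtain ⟨c, hc'⟩ := isConj_iff.1 (hamb (s : G))
    have h1 : (c⁻¹)⁻¹ * (s : G) ^ 1 * c⁻¹ ∈ (S : Subgroup G) := by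
      rw [inv_inv, pow_one, hc']
      exact (S : Subgroup G).inv_mem s.2
    have h2 := MonoidHom.transferSylow_eq_pow_aux S hNC (s : G) s.2 1 c⁻¹ h1
    rw [inv_inv, pow_one, hc'] at h2
    have hss : (s : G) * (s : G) = 1 := by
      calc (s : G) * (s : G) = (s : G) * ((s : G))⁻¹ := by rw [h2]
        _ = 1 := mul_inv_cancel _
    have hso : orderOf s ∣ 2 := by
      apply orderOf_dvd_of_pow_eq_one
      apply Subtype.ext
      rw [Subgroup.coe_pow, pow_two, Subgroup.coe_one]; exact hss
    have hcard : Nat.card ↥(S : Subgroup G) = orderOf s :=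
      (orderOf_eq_card_of_forall_mem_zpowers hs).symm
    rw [hcard]
    rw [hcard] at hS2
    exact Nat.dvd_antisymm hso hS2
  refine ⟨?_, ?_⟩
  · have huniq : ∀ H K : Subgroup ↥(S : Subgroup G), Nat.card H = 2 → Nat.card K = 2 → H = K := by
      intro H K hH hK
      refine unique_order_two hSp ?_ H K hH hK
      intro a b ha hb hab
      apply Subtype.ext
      refine hT (a : G) (b : G) ?_ ?_ ?_
      · rw [Subgroup.orderOf_coe]; exact ha
      · rw [Subgroup.orderOf_coe]; exact hb
      · exact_mod_cast congrArg Subtype.val hab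
    rcases Cfsg.Agent.Lib.Helper1.cyclic_or_quaternion_of_unique hSp huniq with hc | ⟨n, ⟨e⟩⟩
    · exact Or.inl (hcyc hc)
    · rcases n with _ | n
      · left
        apply hcyc
        have : IsCyclic (QuaternionGroup (2 ^ 0)) := by
          rw [pow_zero]; exact QuaternionGroup.quaternionGroup_one_isCyclic
        exact isCyclic_of_surjective e.symm e.symm.surjective
      · exact Or.inr ⟨n, ⟨e⟩⟩
  · intro hS
    have hc : IsCyclic ↥(S : Subgroup G) := by
      have : Fact (Nat.card ↥(S : Subgroup G)).Prime := ⟨by rw [hS]; exact Nat.prime_two⟩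
      exact isCyclic_of_prime_card rfl
    have hNC := IsCyclic.normalizer_le_centralizer hminfac hc
    set N : Subgroup G := (MonoidHom.transferSylow S hNC).ker with hN
    have hcompl : N.IsComplement' (S : Subgroup G) :=
      MonoidHom.ker_transferSylow_isComplement' S hNC
    have hNn : N.Normal := by rw [hN]; infer_instance
    have hNcard : Nat.card N = (S : Subgroup G).index := hcompl.index_eq_card.symm
    have hNcop : (Nat.card N).Coprime 2 := by
      rw [hNcard, Nat.coprime_comm, Nat.Prime.coprime_iff_not_dvd Nat.prime_two]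
      exact S.not_dvd_index
    have hNle : N ≤ Cfsg.oddCore G := Cfsg.Agent.Lib.Helper18.le_pPrimeCore_h18 hNn hNcop
    have hOcop : (Nat.card (Cfsg.oddCore G)).Coprime 2 :=
      Cfsg.Agent.Lib.Helper18.pPrimeCore_card_coprime_h18 2
    have hGcard : Nat.card G = Nat.card N * 2 := by
      rw [← hS, hNcard, mul_comm]; exact ((S : Subgroup G).card_mul_index).symm
    have hOeq : Cfsg.oddCore G = N := by
      symm
      apply Subgroup.eq_of_le_of_card_ge hNle
      have h1 : Nat.card (Cfsg.oddCore G) ∣ Nat.card N * 2 := by
        rw [← hGcard]; exact Subgroup.card_subgroup_dvd_card _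
      exact Nat.le_of_dvd Nat.card_pos (hOcop.dvd_of_dvd_mul_right h1)
    have hNodd : Odd (Nat.card N) := Nat.coprime_two_right.1 hNcop
    -- the involution
    have htinv : ∀ t : G, t ∈ S → t ≠ 1 → ∀ x : G, x ∈ N → t * x * t⁻¹ = x⁻¹ := by
      intro t htS ht1 x hx
      have hto : orderOf t ∣ 2 := by
        rw [← hS]; exact Subgroup.orderOf_dvd_natCard _ htS
      have ht2 : t * t = 1 := by
        rw [← pow_two]; exact orderOf_dvd_iff_pow_eq_one.1 hto
      refine Cfsg.Agent.Lib.Helper22.Ord4B.inverts_of_fpf N t ht2 ?_ hx
      intro c hcN hct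
      -- c is real
      obtain ⟨g, hg⟩ := isConj_iff.1 (hamb c)
      -- g = n * s with n ∈ N, s ∈ S
      obtain ⟨⟨⟨n, hn⟩, ⟨s, hs⟩⟩, hns⟩ := hcompl.2 g
      have hns' : n * s = g := hns
      -- s = 1 or s = t
      have hs_cases : s = 1 ∨ s = t := by
        by_cases hs1 : s = 1
        · exact Or.inl hs1
        · right
          -- S has two elements
          have hcardS : Nat.card ↥(S : Subgroup G) = 2 := hS
          have : ∀ a b c : ↥(S : Subgroup G), a = b ∨ a = c ∨ b = c := by
            intro a b c
            by_contra hcon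
            push Not at hcon
            have h3 : 3 ≤ Nat.card ↥(S : Subgroup G) := by
              have : Fintype ↥(S : Subgroup G) := Fintype.ofFinite _
              rw [Nat.card_eq_fintype_card]
              have hsub : ({a, b, c} : Finset ↥(S : Subgroup G)).card = 3 := by
                rw [Finset.card_insert_of_notMem, Finset.card_pair hcon.2.2]
                simp [hcon.1, hcon.2.1]
              rw [← hsub]
              exact Finset.card_le_univ _
            omega
          rcases this ⟨s, hs⟩ ⟨t, htS⟩ 1 with h | h | h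
          · exact congrArg Subtype.val h
          · exact absurd (congrArg Subtype.val h) hs1
          · exact absurd (congrArg Subtype.val h) ht1
      -- in both cases `n` inverts `c`
      have hnc : n * c * n⁻¹ = c⁻¹ := by
        rcases hs_cases with h | h
        · rw [h, mul_one] at hns'
          rw [hns']; exact hg
        · rw [h] at hns'
          have htc : t * c * t⁻¹ = c := by
            rw [hct]; group
          have e : n * c * n⁻¹ = n * (t * c * t⁻¹) * n⁻¹ := by rw [htc]
          rw [e, ← hg, ← hns']; group
      have hno : Odd (orderOf n) :=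
        Odd.of_dvd_nat hNodd (Subgroup.orderOf_dvd_natCard N hn)
      have hcc : c * c = 1 := sq_eq_one_of_odd_conj hnc hno
      have hco : Odd (orderOf c) :=
        Odd.of_dvd_nat hNodd (Subgroup.orderOf_dvd_natCard N hcN)
      exact eq_one_of_sq_of_odd hcc hco
    refine ⟨?_, ?_, ?_⟩
    · rw [hOeq]; exact hcompl.symm
    · rw [hOeq]
      apply le_antisymm
      · -- N ≤ commutator G
        intro x hx
        obtain ⟨t, ht⟩ := exists_prime_orderOf_dvd_card' (G := ↥(S : Subgroup G)) 2 hS2
        have ht1 : (t : G) ≠ 1 := by
          intro h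
          have : t = 1 := Subtype.ext h
          rw [this, orderOf_one] at ht; omega
        have h1 := htinv (t : G) t.2 ht1 x hx
        -- x⁻¹ * x⁻¹ = [t, x] * ... : t x t⁻¹ x⁻¹ = x⁻²
        have h2 : x⁻¹ * x⁻¹ ∈ commutator G := by
          have h3 : ⁅(t : G), x⁆ ∈ commutator G := by
            rw [commutator_def]
            exact Subgroup.commutator_mem_commutator (Subgroup.mem_top _) (Subgroup.mem_top _)
          rw [commutatorElement_def, h1] at h3
          exact h3
        have h4 : x * x ∈ commutator G := by
          have := (commutator G).inv_mem h2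
          rwa [mul_inv_rev, inv_inv] at this
        -- x is a power of x * x
        obtain ⟨i, hi⟩ : Odd (orderOf x) :=
          Odd.of_dvd_nat hNodd (Subgroup.orderOf_dvd_natCard N hx)
        have h5 : x = (x * x) ^ (i + 1) := by
          rw [← pow_two, ← pow_mul]
          have : 2 * (i + 1) = orderOf x + 1 := by omega
          rw [this, pow_succ, pow_orderOf_eq_one, one_mul]
        rw [h5]
        exact (commutator G).pow_mem h4 _
      · -- commutator G ≤ N since G / N is abelian
        rw [hN]
        have hcomm : ∀ a b : ↥(S : Subgroup G), a * b = b * a := by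
          intro a b
          exact Subtype.ext (hNC (Subgroup.le_normalizer b.2) a a.2)
        intro x hx
        rw [commutator_def] at hx
        rw [MonoidHom.mem_ker]
        have : ⁅(⊤ : Subgroup G), ⊤⁆ ≤ (MonoidHom.transferSylow S hNC).ker := by
          rw [Subgroup.commutator_le]
          intro a _ b _
          rw [MonoidHom.mem_ker, map_commutatorElement, commutatorElement_eq_one_iff_mul_comm]
          exact hcomm _ _
        exact MonoidHom.mem_ker.1 (this hx)
    · intro t htS ht1 x hx
      rw [hOeq] at hx
      exact htinv t htS ht1 x hx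

end Cfsg.Agent.S4061
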