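import Cfsg.Statements.S4062
import Mathlib
import Cfsg.Agent.Lib.Helper22.Basic
import Cfsg.Agent.Lib.Helper1.MinNormal

set_option autoImplicit false
open Cfsg

namespace Cfsg.Agent.S4062

def SO (G : Type*) [Group G] : Prop := ∀ x y : G, orderOf x = orderOf y → IsConj x y

theorem orderOf_of_isConj {G : Type*} [Group G] {x y : G} (h : IsConj x y) :
    orderOf x = orderOf y := by
  obtain ⟨c, rfl⟩ := isConj_iff.mp h
  have := MulEquiv.orderOf_eq (MulAut.conj c) x
  rw [MulAut.conj_apply] at this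
  exact this.symm

theorem class_card {G : Type*} [Group G] [Finite G] (h : SO G) (x : G) :
    (Subgroup.centralizer ({x} : Set G)).index = {y : G | orderOf y = orderOf x}.ncard := by
  rw [Cfsg.Agent.Lib.Helper22.index_centralizer_eq_ncard_conj]
  congr 1
  ext y
  exact ⟨fun hy => (orderOf_of_isConj hy).symm, fun hy => h x y hy.symm⟩

theorem even_class {G : Type*} [Group G] [Finite G] (k : ℕ) (hk : 2 < k) :
    2 ∣ {y : G | orderOf y = k}.ncard := by
  classical
  have : Fintype G := Fintype.ofFinite G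
  have : Fact (Nat.Prime 2) := ⟨Nat.prime_two⟩
  let f : Function.End {y : G // orderOf y = k} := fun y => ⟨(y : G)⁻¹, by rw [orderOf_inv]; exact y.2⟩
  have hf : f ^ 2 ^ 1 = 1 := by
    rw [pow_one, sq]
    funext y
    apply Subtype.ext
    change ((y : G)⁻¹)⁻¹ = (y : G)
    exact inv_inv _
  have h1 := Equiv.Perm.card_fixedPoints_modEq hf
  have h2 : Fintype.card (Function.fixedPoints f) = 0 := by
    rw [Fintype.card_eq_zero_iff]
    constructor
    rintro ⟨y, hy⟩
    have h3 : ((y : G))⁻¹ = y := congrArg Subtype.val hy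
    have h4 : (y : G) ^ 2 = 1 := by
      rw [sq]; nth_rewrite 1 [← h3]; exact inv_mul_cancel _
    have h5 := orderOf_dvd_of_pow_eq_one h4
    rw [y.2] at h5
    have := Nat.le_of_dvd (by norm_num) h5
    omega
  rw [h2] at h1
  have h6 : {y : G | orderOf y = k}.ncard = Fintype.card {y : G // orderOf y = k} := by
    rw [← Nat.card_coe_set_eq, Nat.card_eq_fintype_card]
    rfl
  rw [h6]
  exact (Nat.modEq_zero_iff_dvd.mp h1)

theorem index_dvd {G : Type*} [Group G] [Finite G] (x : G) :
    (Subgroup.centralizer ({x} : Set G)).index * orderOf x ∣ Nat.card G := by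
  have h1 : Subgroup.zpowers x ≤ Subgroup.centralizer ({x} : Set G) := by
    rw [Subgroup.zpowers_le]
    exact Subgroup.mem_centralizer_singleton_iff.mpr rfl
  have h2 := Subgroup.card_dvd_of_le h1
  rw [Nat.card_zpowers] at h2
  rw [← Subgroup.index_mul_card (Subgroup.centralizer ({x} : Set G))]
  exact Nat.mul_dvd_mul_left _ h2

theorem two_mul_dvd {G : Type*} [Group G] [Finite G] (h : SO G) (x : G) (hx : 2 < orderOf x) :
    2 * orderOf x ∣ Nat.card G := by
  have h1 := index_dvd x
  have h2 : 2 ∣ (Subgroup.centralizer ({x} : Set G)).index := by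
    rw [class_card h]; exact even_class _ hx
  exact dvd_trans (Nat.mul_dvd_mul_right h2 _) h1

theorem exists_lift {G : Type*} [Group G] [Finite G] (N : Subgroup G) [N.Normal] (p : ℕ)
    (hp : p.Prime) (hexp : ∀ x ∈ N, x ^ p = 1) (hall : ∀ x : G, orderOf x = p → x ∈ N)
    (X : G ⧸ N) :
    ∃ x : G, (x : G ⧸ N) = X ∧
      orderOf x = if p ∣ orderOf X then p * orderOf X else orderOf X := by
  obtain ⟨x₀, rfl⟩ := QuotientGroup.mk_surjective X
  set k := orderOf (x₀ : G ⧸ N) with hk
  have hkpos : 0 < k := orderOf_pos _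
  have h1 : x₀ ^ k ∈ N := by
    rw [← QuotientGroup.eq_one_iff, QuotientGroup.mk_pow, hk, pow_orderOf_eq_one]
  have h2 : x₀ ^ (k * p) = 1 := by rw [pow_mul]; exact hexp _ h1
  have h3 : orderOf x₀ ∣ k * p := orderOf_dvd_of_pow_eq_one h2
  have h4 : k ∣ orderOf x₀ := orderOf_map_dvd (QuotientGroup.mk' N) x₀
  split_ifs with hpk
  · refine ⟨x₀, rfl, ?_⟩
    obtain ⟨d, hd⟩ := h4
    rw [hd] at h3
    have hdp : d ∣ p := Nat.dvd_of_mul_dvd_mul_left hkpos h3
    rcases (Nat.dvd_prime hp).mp hdp with rfl | rfl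
    · exfalso
      rw [mul_one] at hd
      obtain ⟨j, hj⟩ := hpk
      have hjpos : 0 < j := by
        rcases Nat.eq_zero_or_pos j with h0 | h0
        · rw [h0, mul_zero] at hj; omega
        · exact h0
      have h5 : orderOf (x₀ ^ j) = p := by
        rw [orderOf_pow' _ hjpos.ne', hd, hj, Nat.gcd_mul_left_left, Nat.mul_div_cancel _ hjpos]
      have h6 := hall _ h5
      have h7 : (x₀ : G ⧸ N) ^ j = 1 := by
        rw [← QuotientGroup.mk_pow]; exact (QuotientGroup.eq_one_iff _).mpr h6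
      have h8 : k ∣ j := orderOf_dvd_of_pow_eq_one h7
      have h9 := Nat.le_of_dvd hjpos h8
      have h10 : 2 * j ≤ p * j := Nat.mul_le_mul_right j hp.two_le
      omega
    · rw [hd, mul_comm]
  · have hcop : Nat.Coprime k p := (Nat.Coprime.symm ((Nat.Prime.coprime_iff_not_dvd hp).mpr hpk))
    obtain ⟨a, ha1, ha2⟩ := Nat.chineseRemainder hcop 1 0
    have hX : ((x₀ ^ a : G) : G ⧸ N) = (x₀ : G ⧸ N) := by
      rw [QuotientGroup.mk_pow]
      have : (x₀ : G ⧸ N) ^ a = (x₀ : G ⧸ N) ^ 1 := by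
        rw [pow_eq_pow_iff_modEq]; exact ha1
      rw [this, pow_one]
    refine ⟨x₀ ^ a, hX, ?_⟩
    apply Nat.dvd_antisymm
    · apply orderOf_dvd_of_pow_eq_one
      rw [← pow_mul]
      have hpa : p ∣ a := (Nat.modEq_zero_iff_dvd).mp ha2
      apply orderOf_dvd_iff_pow_eq_one.mp
      exact dvd_trans h3 (by rw [mul_comm a k]; exact Nat.mul_dvd_mul_left k hpa)
    · have h9 := orderOf_map_dvd (QuotientGroup.mk' N) (x₀ ^ a)
      have h10 : (QuotientGroup.mk' N) (x₀ ^ a) = (x₀ : G ⧸ N) := hX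
      rw [h10] at h9; exact h9

theorem quot_SO {G : Type*} [Group G] [Finite G] (N : Subgroup G) [N.Normal] (p : ℕ)
    (hp : p.Prime) (hexp : ∀ x ∈ N, x ^ p = 1) (hall : ∀ x : G, orderOf x = p → x ∈ N)
    (h : SO G) : SO (G ⧸ N) := by
  intro X Y hXY
  obtain ⟨x, rfl, hx⟩ := exists_lift N p hp hexp hall X
  obtain ⟨y, rfl, hy⟩ := exists_lift N p hp hexp hall Y
  rw [← hXY, ← hx] at hy
  exact (QuotientGroup.mk' N).map_isConj (h x y hy.symm)

theorem card_le_two_of_comm {G : Type*} [Group G] [Finite G] (h : SO G)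
    (hc : ∀ x y : G, x * y = y * x) : Nat.card G ≤ 2 := by
  classical
  have : Fintype G := Fintype.ofFinite G
  have hinj : ∀ x y : G, orderOf x = orderOf y → x = y := by
    intro x y hxy
    obtain ⟨c, hc'⟩ := isConj_iff.mp (h x y hxy)
    rw [hc c x, mul_inv_cancel_right] at hc'
    exact hc'
  have hsq : ∀ x : G, orderOf x ∣ 2 := by
    intro x
    apply orderOf_dvd_of_pow_eq_one
    have := hinj x x⁻¹ (orderOf_inv x).symm
    rw [sq]; nth_rewrite 1 [this]; exact inv_mul_cancel _
  by_contra hlt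
  push Not at hlt
  rw [Nat.card_eq_fintype_card] at hlt
  obtain ⟨a, b, c, hab, hac, hbc⟩ := Fintype.two_lt_card_iff.mp hlt
  have ho : ∀ x : G, orderOf x = 1 ∨ orderOf x = 2 := fun x =>
    (Nat.dvd_prime Nat.prime_two).mp (hsq x)
  rcases ho a with ha | ha <;> rcases ho b with hb | hb <;> rcases ho c with hc2 | hc2
  all_goals first
    | exact hab (hinj a b (ha.trans hb.symm))
    | exact hac (hinj a c (ha.trans hc2.symm))
    | exact hbc (hinj b c (hb.trans hc2.symm))

theorem exists_big_order {G : Type*} [Group G] [Finite G] (p : ℕ) [Fact p.Prime]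
    (hdvd : p ^ 2 ∣ Nat.card G) (N : Subgroup G) (hN : Nat.card N = p)
    (hall : ∀ x : G, orderOf x = p → x ∈ N) : ∃ x : G, orderOf x = p ^ 2 := by
  have hp : p.Prime := Fact.out
  obtain ⟨S, hS⟩ := Sylow.exists_subgroup_card_pow_prime p hdvd
  by_cases hx : ∃ x ∈ S, x ^ p ≠ 1
  · obtain ⟨x, hxS, hx1⟩ := hx
    refine ⟨x, ?_⟩
    have h4 : x ^ p ^ 2 = 1 := by
      have := pow_card_eq_one' (G := S) (x := ⟨x, hxS⟩)
      rw [hS] at this
      exact congrArg Subtype.val this
    have := orderOf_eq_prime_pow (p := p) (n := 1) (x := x) (by rwa [pow_one]) h4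
    exact this
  · exfalso
    push Not at hx
    have hle : S ≤ N := by
      intro x hxS
      by_cases h1 : x = 1
      · rw [h1]; exact N.one_mem
      · exact hall x (orderOf_eq_prime (hx x hxS) h1)
    have := Subgroup.card_le_of_le hle
    rw [hS, hN] at this
    have h2 : p * 2 ≤ p * p := Nat.mul_le_mul_left p hp.two_le
    nlinarith [hp.two_le]

theorem no12 {G : Type*} [Group G] [Finite G] (h : SO G) (hG : Nat.card G = 12)
    (N : Subgroup G) (hN : Nat.card N = 2) (hall : ∀ x : G, orderOf x = 2 → x ∈ N) : False := by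
  have : Fact (Nat.Prime 2) := ⟨Nat.prime_two⟩
  obtain ⟨x, hx⟩ := exists_big_order 2 (by rw [hG]; norm_num) N hN hall
  have := two_mul_dvd h x (by rw [hx]; norm_num)
  rw [hx, hG] at this
  norm_num at this

theorem no18 {G : Type*} [Group G] [Finite G] (h : SO G) (hG : Nat.card G = 18)
    (N : Subgroup G) (hN : Nat.card N = 3) (hall : ∀ x : G, orderOf x = 3 → x ∈ N) : False := by
  have : Fact (Nat.Prime 3) := ⟨Nat.prime_three⟩
  obtain ⟨x, hx⟩ := exists_big_order 3 (by rw [hG]; norm_num) N hN hall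
  have h1 := index_dvd x
  rw [class_card h, hx, hG] at h1
  have h2 : ({x, x ^ 2, x ^ 4} : Set G) ⊆ {y : G | orderOf y = 3 ^ 2} := by
    intro y hy
    simp only [Set.mem_insert_iff, Set.mem_singleton_iff] at hy
    rcases hy with rfl | rfl | rfl
    · exact hx
    · change orderOf (x ^ 2) = 3 ^ 2
      rw [Nat.Coprime.orderOf_pow (by rw [hx]; norm_num), hx]
    · change orderOf (x ^ 4) = 3 ^ 2
      rw [Nat.Coprime.orderOf_pow (by rw [hx]; norm_num), hx]
  have h3 : ({x, x ^ 2, x ^ 4} : Set G).ncard = 3 := by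
    rw [Set.ncard_eq_three]
    refine ⟨x, x ^ 2, x ^ 4, ?_, ?_, ?_, rfl⟩
    · intro e
      have : x ^ 1 = x ^ 2 := by rw [pow_one]; exact e
      rw [pow_eq_pow_iff_modEq, hx] at this
      revert this; decide
    · intro e
      have : x ^ 1 = x ^ 4 := by rw [pow_one]; exact e
      rw [pow_eq_pow_iff_modEq, hx] at this
      revert this; decide
    · intro e
      rw [pow_eq_pow_iff_modEq, hx] at e
      revert e; decide
  have h4 := Set.ncard_le_ncard h2 (Set.toFinite _)
  rw [h3] at h4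
  have h5 : {y : G | orderOf y = 3 ^ 2}.ncard ∣ 2 := by
    have : {y : G | orderOf y = 3 ^ 2}.ncard * 3 ^ 2 ∣ 2 * 3 ^ 2 := by
      norm_num at h1 ⊢; exact h1
    exact Nat.dvd_of_mul_dvd_mul_right (by norm_num) this
  have := Nat.le_of_dvd (by norm_num) h5
  omega

theorem comm_on_cyclic {G : Type*} [Group G] (D : Subgroup G) [IsCyclic D] (f f' : G →* G)
    (hf : ∀ d ∈ D, f d ∈ D) (hf' : ∀ d ∈ D, f' d ∈ D) {d : G} (hd : d ∈ D) :
    f (f' d) = f' (f d) := by
  obtain ⟨⟨d₀, hd₀⟩, hgen⟩ := IsCyclic.exists_generator (α := D)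
  have key : ∀ x ∈ D, ∃ i : ℤ, x = d₀ ^ i := by
    intro x hx
    obtain ⟨i, hi⟩ := Subgroup.mem_zpowers_iff.mp (hgen ⟨x, hx⟩)
    refine ⟨i, ?_⟩
    have := congrArg Subtype.val hi
    simpa using this.symm
  obtain ⟨m, hm⟩ := key _ (hf d₀ hd₀)
  obtain ⟨m', hm'⟩ := key _ (hf' d₀ hd₀)
  obtain ⟨i, rfl⟩ := key d hd
  simp only [map_zpow, hm, hm', ← zpow_mul]
  congr 1
  ring

theorem class_of_min {G : Type*} [Group G] [Finite G] (h : SO G) (N : Subgroup G)
    (p : ℕ) (hp : p.Prime) (hexp : ∀ x ∈ N, x ^ p = 1) (hall : ∀ x : G, orderOf x = p → x ∈ N)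
    (x₀ : G) (hx₀ : orderOf x₀ = p) :
    (Subgroup.centralizer ({x₀} : Set G)).index = Nat.card N - 1 := by
  have hT : {y : G | orderOf y = p} = (N : Set G) \ {1} := by
    ext y; constructor
    · intro hy
      refine ⟨hall y hy, ?_⟩
      rintro rfl
      simp only [Set.mem_ofPred_eq, orderOf_one] at hy
      exact hp.one_lt.ne hy
    · rintro ⟨hyN, hy1⟩
      have : Fact p.Prime := ⟨hp⟩
      exact orderOf_eq_prime (hexp y hyN) hy1
  rw [class_card h, hx₀, hT, Set.ncard_sdiff (by simp) (Set.toFinite _),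
    Set.ncard_singleton, ← Nat.card_coe_set_eq]
  rfl

theorem no42 {G : Type*} [Group G] [Finite G] (h : SO G) (hG : Nat.card G = 42)
    (N : Subgroup G) [N.Normal] (hN : Nat.card N = 7)
    (hNab : ∀ a ∈ N, ∀ b ∈ N, a * b = b * a)
    (hexp : ∀ x ∈ N, x ^ 7 = 1)
    (hall : ∀ x : G, orderOf x = 7 → x ∈ N) : False := by
  have hp7 : Nat.Prime 7 := by norm_num
  have : Fact (Nat.Prime 7) := ⟨hp7⟩
  have : Fact (Nat.Prime 3) := ⟨Nat.prime_three⟩
  obtain ⟨⟨x₀, hx₀N⟩, hx₀⟩ := exists_prime_orderOf_dvd_card' (G := N) 7 (by rw [hN])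
  have hx₀' : orderOf x₀ = 7 := by rw [← hx₀, Subgroup.orderOf_mk]
  have hNcyc : IsCyclic N := isCyclic_of_prime_card hN
  have hidx : (Subgroup.centralizer ({x₀} : Set G)).index = 6 := by
    rw [class_of_min h N 7 hp7 hexp hall x₀ hx₀', hN]
  have hcent : N = Subgroup.centralizer ({x₀} : Set G) := by
    apply Subgroup.eq_of_le_of_card_ge
    · intro n hn
      rw [Subgroup.mem_centralizer_singleton_iff]
      exact hNab n hn x₀ hx₀N
    · have := Subgroup.index_mul_card (Subgroup.centralizer ({x₀} : Set G))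
      rw [hidx, hG] at this
      rw [hN]; omega
  have hcomm : ∀ g k : G, (k * g)⁻¹ * (g * k) ∈ N := by
    intro g k
    have h1 := comm_on_cyclic N (MulAut.conj g).toMonoidHom (MulAut.conj k).toMonoidHom
      (fun d hd => Subgroup.Normal.conj_mem inferInstance d hd g)
      (fun d hd => Subgroup.Normal.conj_mem inferInstance d hd k) hx₀N
    simp only [MulEquiv.coe_toMonoidHom, MulAut.conj_apply] at h1
    rw [hcent, Subgroup.mem_centralizer_singleton_iff]
    have e1 : (k * g)⁻¹ * (g * k) * x₀ = (k * g)⁻¹ * (g * (k * x₀ * k⁻¹) * g⁻¹) * (g * k) := by group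
    have e2 : x₀ * ((k * g)⁻¹ * (g * k)) = (k * g)⁻¹ * (k * (g * x₀ * g⁻¹) * k⁻¹) * (g * k) := by
      group
    rw [e1, e2, h1]
  obtain ⟨y, hy⟩ := exists_prime_orderOf_dvd_card' (G := G) 3 (by rw [hG]; norm_num)
  obtain ⟨c, hc⟩ := isConj_iff.mp (h y y⁻¹ (orderOf_inv y).symm)
  have h2 := hcomm c y
  have e3 : (y * c)⁻¹ * (c * y) = c⁻¹ * (y ^ 2)⁻¹ * c⁻¹⁻¹ := by
    have : c * y = y⁻¹ * c := by rw [← hc]; group
    rw [this]; group
  rw [e3] at h2
  have h3 : (y ^ 2)⁻¹ ∈ N := by
    have := Subgroup.Normal.conj_mem (inferInstance : N.Normal) _ h2 c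
    have e4 : c * (c⁻¹ * (y ^ 2)⁻¹ * c⁻¹⁻¹) * c⁻¹ = (y ^ 2)⁻¹ := by group
    rwa [e4] at this
  have h4 : y ^ 2 ∈ N := by simpa using N.inv_mem h3
  have h5 := hexp _ h4
  rw [← pow_mul] at h5
  have h6 := orderOf_dvd_of_pow_eq_one h5
  rw [hy] at h6
  norm_num at h6

theorem no24 {G : Type*} [Group G] [Finite G] (h : SO G) (hG : Nat.card G = 24)
    (N : Subgroup G) [N.Normal] (hN : Nat.card N = 4)
    (hNab : ∀ a ∈ N, ∀ b ∈ N, a * b = b * a)
    (hexp : ∀ x ∈ N, x ^ 2 = 1)
    (hall : ∀ x : G, orderOf x = 2 → x ∈ N) : False := by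
  have : Fact (Nat.Prime 2) := ⟨Nat.prime_two⟩
  have hsq1 : ∀ x : G, x ^ 2 = 1 → x ∈ N := by
    intro x hx
    by_cases h1 : x = 1
    · rw [h1]; exact N.one_mem
    · exact hall x (orderOf_eq_prime hx h1)
  have hinv : ∀ n ∈ N, n⁻¹ = n := by
    intro n hn
    have := hexp n hn
    rw [sq] at this
    exact inv_eq_of_mul_eq_one_left this
  have hidx : N.index = 6 := by
    have := Subgroup.card_mul_index N
    rw [hN, hG] at this
    omega
  obtain ⟨X, hX⟩ := exists_prime_orderOf_dvd_card' (G := G ⧸ N) 2 (by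
    rw [← Subgroup.index_eq_card, hidx]; norm_num)
  obtain ⟨g, rfl⟩ := QuotientGroup.mk_surjective X
  have hgN : g ∉ N := by
    intro hg
    rw [(QuotientGroup.eq_one_iff g).mpr hg, orderOf_one] at hX
    norm_num at hX
  have hzN : g ^ 2 ∈ N := by
    rw [← QuotientGroup.eq_one_iff, QuotientGroup.mk_pow, ← hX, pow_orderOf_eq_one]
  have hz1 : g ^ 2 ≠ 1 := fun e => hgN (hsq1 g e)
  have hzz : g ^ 2 * g ^ 2 = 1 := by rw [← sq]; exact hexp _ hzN
  have hA : ∀ n ∈ N, (g⁻¹ * n * g) * n ≠ g ^ 2 := by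
    intro n hn e
    have h1 : (g * n) ^ 2 = 1 := by
      have : (g * n) ^ 2 = g ^ 2 * ((g⁻¹ * n * g) * n) := by rw [sq, sq]; group
      rw [this, e, hzz]
    have h2 := hsq1 _ h1
    exact hgN ((Subgroup.mul_mem_cancel_right N hn).mp h2)
  have hB : ∀ n ∈ N, g⁻¹ * n * g = n := by
    by_contra hcon
    push Not at hcon
    obtain ⟨n₀, hn₀, hne⟩ := hcon
    have hn₀' : g⁻¹ * n₀ * g ∈ N := by
      have := Subgroup.Normal.conj_mem (inferInstance : N.Normal) n₀ hn₀ g⁻¹
      rwa [inv_inv] at this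
    set w := (g⁻¹ * n₀ * g) * n₀ with hw
    have hwN : w ∈ N := N.mul_mem hn₀' hn₀
    have hw1 : w ≠ 1 := by
      intro e
      apply hne
      have := eq_inv_of_mul_eq_one_left e
      rw [this, hinv n₀ hn₀]
    have hwz : w ≠ g ^ 2 := hA n₀ hn₀
    have hwg : g⁻¹ * w * g = w := by
      have e1 : g⁻¹ * w * g = ((g ^ 2)⁻¹ * n₀ * g ^ 2) * (g⁻¹ * n₀ * g) := by
        rw [hw]; group
      have e2 : (g ^ 2)⁻¹ * n₀ * g ^ 2 = n₀ := by
        rw [mul_assoc, hNab n₀ hn₀ _ hzN, ← mul_assoc, inv_mul_cancel, one_mul]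
      rw [e1, e2, hNab n₀ hn₀ _ hn₀']
    let C : Subgroup G := N ⊓ Subgroup.centralizer ({g} : Set G)
    have hzC : g ^ 2 ∈ C := by
      refine Subgroup.mem_inf.mpr ⟨hzN, ?_⟩
      rw [Subgroup.mem_centralizer_singleton_iff]
      group
    have hwC : w ∈ C := by
      refine Subgroup.mem_inf.mpr ⟨hwN, ?_⟩
      rw [Subgroup.mem_centralizer_singleton_iff]
      have : g * (g⁻¹ * w * g) = w * g := by group
      rw [← this, hwg]
    have h3 : 3 ≤ Nat.card C := by
      have hs : ({1, g ^ 2, w} : Set G) ⊆ (C : Set G) := by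
        intro y hy
        simp only [Set.mem_insert_iff, Set.mem_singleton_iff] at hy
        rcases hy with rfl | rfl | rfl
        · exact C.one_mem
        · exact hzC
        · exact hwC
      have hc3 : ({1, g ^ 2, w} : Set G).ncard = 3 := by
        rw [Set.ncard_eq_three]
        exact ⟨1, g ^ 2, w, hz1.symm, hw1.symm, hwz.symm, rfl⟩
      have := Set.ncard_le_ncard hs (Set.toFinite _)
      rw [hc3] at this
      rw [← Nat.card_coe_set_eq] at this
      exact this
    have h4 : Nat.card C ∣ 4 := hN ▸ Subgroup.card_dvd_of_le (inf_le_left : C ≤ N)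
    have h5 : Nat.card C = 4 := by
      have := Nat.le_of_dvd (by norm_num) h4
      interval_cases (Nat.card C) <;> simp_all
    have h6 : C = N := Subgroup.eq_of_le_of_card_ge inf_le_left (by rw [h5, hN])
    have h7 : n₀ ∈ C := h6 ▸ hn₀
    have h8 := Subgroup.mem_centralizer_singleton_iff.mp (Subgroup.mem_inf.mp h7).2
    apply hne
    rw [mul_assoc, h8, ← mul_assoc, inv_mul_cancel, one_mul]
  have hcomm : ∀ n ∈ N, n * g = g * n := by
    intro n hn
    have := hB n hn
    calc n * g = g * (g⁻¹ * n * g) := by group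
      _ = g * n := by rw [this]
  have hord : ∀ n ∈ N, orderOf (g * n) = 2 ^ 2 := by
    intro n hn
    have h1 : (g * n) ^ 2 = g ^ 2 := by
      rw [sq, mul_assoc, ← mul_assoc n g n, hcomm n hn, mul_assoc g n n, ← sq n, hexp n hn,
        mul_one, ← sq]
    apply orderOf_eq_prime_pow (n := 1)
    · rw [pow_one, h1]; exact hz1
    · rw [pow_succ, pow_one, pow_mul, h1, sq, hzz]
  have hT : 4 ≤ {y : G | orderOf y = orderOf g}.ncard := by
    have hg4 : orderOf g = 2 ^ 2 := by
      have := hord 1 N.one_mem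
      rwa [mul_one] at this
    have hs : (fun n => g * n) '' (N : Set G) ⊆ {y : G | orderOf y = orderOf g} := by
      rintro _ ⟨n, hn, rfl⟩
      rw [Set.mem_ofPred_eq, hg4]
      exact hord n hn
    have hc : ((fun n => g * n) '' (N : Set G)).ncard = 4 := by
      rw [Set.ncard_image_of_injective _ (mul_right_injective g), ← Nat.card_coe_set_eq]
      exact hN
    have := Set.ncard_le_ncard hs (Set.toFinite _)
    rwa [hc] at this
  rw [← class_card h] at hT
  let K := Subgroup.centralizer ({g} : Set G)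
  have hNK : N ≤ K := by
    intro n hn
    rw [Subgroup.mem_centralizer_singleton_iff]
    exact hcomm n hn
  have hgK : g ∈ K := Subgroup.mem_centralizer_singleton_iff.mpr rfl
  have hlt : N < K := lt_of_le_of_ne hNK (fun e => hgN (e ▸ hgK))
  have h8 : 4 ∣ Nat.card K := hN ▸ Subgroup.card_dvd_of_le hNK
  have h9 : 4 < Nat.card K := by
    have h1 : Nat.card N ≤ Nat.card K := Subgroup.card_le_of_le hNK
    rcases h1.lt_or_eq with h2 | h2
    · rw [hN] at h2; exact h2
    · exact absurd (Subgroup.eq_of_le_of_card_ge hNK h2.ge) hlt.ne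
  have h10 := Subgroup.index_mul_card K
  rw [hG] at h10
  obtain ⟨j, hj⟩ := h8
  have : K.index * j = 6 := by
    have : K.index * (4 * j) = 24 := hj ▸ h10
    nlinarith
  have hj2 : 2 ≤ j := by omega
  nlinarith

theorem s3_of_card_six {G : Type*} [Group G] [Finite G] (h : SO G) (hG : Nat.card G = 6) :
    Nonempty (G ≃* Equiv.Perm (Fin 3)) := by
  classical
  have : Fact (Nat.Prime 2) := ⟨Nat.prime_two⟩
  have : Fact (Nat.Prime 3) := ⟨Nat.prime_three⟩
  obtain ⟨y, hy⟩ := exists_prime_orderOf_dvd_card' (G := G) 3 (by rw [hG]; norm_num)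
  obtain ⟨t, ht⟩ := exists_prime_orderOf_dvd_card' (G := G) 2 (by rw [hG]; norm_num)
  have ht1 : t ≠ 1 := by
    rintro rfl
    rw [orderOf_one] at ht
    norm_num at ht
  have hcy : Nat.card (Subgroup.centralizer ({y} : Set G)) = 3 := by
    have h1 : 2 ∣ (Subgroup.centralizer ({y} : Set G)).index := by
      rw [class_card h]; exact even_class _ (by rw [hy]; norm_num)
    have h2 := index_dvd y
    rw [hy, hG] at h2
    have h3 := Subgroup.index_mul_card (Subgroup.centralizer ({y} : Set G))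
    rw [hG] at h3
    obtain ⟨a, ha⟩ := h1
    obtain ⟨b, hb⟩ := h2
    rw [ha] at hb h3
    have ha1 : a = 1 := by
      have : a * b = 1 := by nlinarith
      exact Nat.eq_one_of_mul_eq_one_right this
    rw [ha1] at h3
    omega
  have htc : t ∉ Subgroup.centralizer ({y} : Set G) := by
    intro htc
    have := Subgroup.orderOf_dvd_natCard (Subgroup.centralizer ({y} : Set G)) htc
    rw [ht, hcy] at this
    norm_num at this
  let H := Subgroup.zpowers t
  have hmem : ∀ u ∈ H, u = 1 ∨ u = t := by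
    intro u hu
    obtain ⟨k, rfl⟩ := Subgroup.mem_zpowers_iff.mp hu
    rw [← zpow_mod_orderOf, ht, Nat.cast_ofNat]
    rcases Int.emod_two_eq_zero_or_one k with h0 | h0
    · left; rw [h0]; exact zpow_zero t
    · right; rw [h0]; exact zpow_one t
  have hcore : H.normalCore = ⊥ := by
    rw [eq_bot_iff]
    intro u hu
    rw [Subgroup.mem_bot]
    have h1 : ∀ b : G, b * u * b⁻¹ ∈ H := hu
    have h2 := h1 1
    rw [one_mul, inv_one, mul_one] at h2
    rcases hmem u h2 with e | e
    · exact e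
    · exfalso
      rw [e] at h1
      rcases hmem _ (h1 y) with e2 | e2
      · apply ht1
        have : t = y⁻¹ * (y * t * y⁻¹) * y := by group
        rw [this, e2]; group
      · apply htc
        rw [Subgroup.mem_centralizer_singleton_iff]
        have : y * t = (y * t * y⁻¹) * y := by group
        rw [this, e2]
  have hH : Nat.card H = 2 := by rw [Nat.card_zpowers, ht]
  have hidx : H.index = 3 := by
    have := Subgroup.card_mul_index H
    rw [hH, hG] at this
    omega
  let f : G →* Equiv.Perm (G ⧸ H) := MulAction.toPermHom G (G ⧸ H)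
  have hf : Function.Injective f := by
    rw [← MonoidHom.ker_eq_bot_iff, ← Subgroup.normalCore_eq_ker]
    exact hcore
  have hc3 : Nat.card (G ⧸ H) = 3 := by rw [← Subgroup.index_eq_card, hidx]
  let e : (G ⧸ H) ≃ Fin 3 := Finite.equivFinOfCardEq hc3
  let F : G →* Equiv.Perm (Fin 3) := e.permCongrHom.toMonoidHom.comp f
  have hF : Function.Injective F := by
    intro a b hab
    exact hf (e.permCongrHom.injective hab)
  have hbij : Function.Bijective F := by
    apply Function.Injective.bijective_of_nat_card_le hF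
    rw [Nat.card_perm, hG, Nat.card_fin]
    decide
  exact ⟨MulEquiv.ofBijective F hbij⟩

theorem aux.{u} : ∀ (n : ℕ) (G : Type u) [Group G] [Finite G] [Group.IsSolvable G],
    Nat.card G = n → SO G → (n = 1 ∨ n = 2 ∨ n = 6) := by
  intro n
  induction n using Nat.strong_induction_on with
  | _ n ih =>
    intro G _ _ _ hn hSO
    by_cases h1 : n = 1
    · exact Or.inl h1
    have hnt : Nontrivial G := by
      rw [← Finite.one_lt_card_iff_nontrivial, hn]
      have := Nat.card_pos (α := G)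
      omega
    obtain ⟨N, hNn, hNbot, hmin⟩ := Cfsg.Agent.Lib.Helper1.exists_minimal_normal (G := G)
    have := hNn
    obtain ⟨hNab, p, hp, hexp⟩ := Cfsg.Agent.Lib.Helper1.minimal_normal_of_solvable N hNbot hmin
    have : Fact p.Prime := ⟨hp⟩
    obtain ⟨x₀, hx₀N, hx₀1⟩ : ∃ x ∈ N, x ≠ 1 := by
      by_contra hcon
      push Not at hcon
      exact hNbot (eq_bot_iff.mpr (fun x hx => Subgroup.mem_bot.mpr (hcon x hx)))
    have hx₀ : orderOf x₀ = p := orderOf_eq_prime (hexp x₀ hx₀N) hx₀1
    have hall : ∀ x : G, orderOf x = p → x ∈ N := by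
      intro x hx
      obtain ⟨c, hc⟩ := isConj_iff.mp (hSO x₀ x (hx₀.trans hx.symm))
      rw [← hc]; exact hNn.conj_mem x₀ hx₀N c
    have hq := quot_SO N p hp hexp hall hSO
    have hcard := Subgroup.card_mul_index N
    rw [hn] at hcard
    have hN2 : 2 ≤ Nat.card N := by
      have := (Subgroup.one_lt_card_iff_ne_bot N).mpr hNbot
      omega
    have hipos : 0 < N.index := Nat.pos_of_ne_zero Subgroup.index_ne_zero_of_finite
    have hlt : N.index < n := by nlinarith
    have hidx := ih N.index hlt (G ⧸ N) (Subgroup.index_eq_card N).symm hq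
    have hab' : ∀ a ∈ N, ∀ b ∈ N, a * b = b * a := by
      intro a ha b hb
      have := hNab.is_comm.comm (⟨a, ha⟩ : N) ⟨b, hb⟩
      exact congrArg Subtype.val this
    have hcl := class_of_min hSO N p hp hexp hall x₀ hx₀
    have hdvd : Nat.card N - 1 ∣ N.index := by
      rw [← hcl]
      apply Subgroup.index_dvd_of_le
      intro a ha
      rw [Subgroup.mem_centralizer_singleton_iff]
      exact hab' a ha x₀ hx₀N
    have hpN : p ∣ Nat.card N := by
      have := orderOf_dvd_natCard (⟨x₀, hx₀N⟩ : N)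
      rwa [Subgroup.orderOf_mk, hx₀] at this
    rcases hidx with hi | hi | hi
    · rw [hi] at hdvd hcard
      have h2 : Nat.card N = 2 := by
        have := Nat.le_of_dvd (by norm_num) hdvd
        omega
      right; left
      omega
    · rw [hi] at hdvd hcard
      have h2 : Nat.card N = 2 ∨ Nat.card N = 3 := by
        have := Nat.le_of_dvd (by norm_num) hdvd
        omega
      rcases h2 with h2 | h2
      · exfalso
        rw [h2] at hcard
        have : Fact (Nat.Prime 2) := ⟨Nat.prime_two⟩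
        have hG4 : Nat.card G = 2 ^ 2 := by rw [hn]; omega
        have hcomm := (IsPGroup.isMulCommutative_of_card_eq_prime_sq hG4).is_comm.comm
        have := card_le_two_of_comm hSO hcomm
        omega
      · right; right
        omega
    · exfalso
      rw [hi] at hdvd hcard
      have h2 : Nat.card N = 2 ∨ Nat.card N = 3 ∨ Nat.card N = 4 ∨ Nat.card N = 7 := by
        have h3 := Nat.le_of_dvd (by norm_num) hdvd
        have h4 : Nat.card N ≤ 7 := by omega
        interval_cases (Nat.card N) <;> simp_all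
      rcases h2 with h2 | h2 | h2 | h2
      · rw [h2] at hpN hcard
        have hp2 : p = 2 := (Nat.prime_dvd_prime_iff_eq hp Nat.prime_two).mp hpN
        subst hp2
        exact no12 hSO (by omega) N h2 hall
      · rw [h2] at hpN hcard
        have hp3 : p = 3 := (Nat.prime_dvd_prime_iff_eq hp Nat.prime_three).mp hpN
        subst hp3
        exact no18 hSO (by omega) N h2 hall
      · rw [h2] at hpN hcard
        have hp2 : p = 2 := by
          have : p ∣ 2 ^ 2 := by norm_num; exact hpN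
          exact (Nat.prime_dvd_prime_iff_eq hp Nat.prime_two).mp (hp.dvd_of_dvd_pow this)
        subst hp2
        exact no24 hSO (by omega) N h2 hab' hexp hall
      · rw [h2] at hpN hcard
        have hp7 : p = 7 := (Nat.prime_dvd_prime_iff_eq hp (by norm_num)).mp hpN
        subst hp7
        exact no42 hSO (by omega) N h2 hab' hexp hall

theorem result {G : Type*} [Group G] [Finite G] [Group.IsSolvable G]
    (h : ∀ x y : G, orderOf x = orderOf y → IsConj x y) :
    Nat.card G = 1 ∨ Nat.card G = 2 ∨ Nonempty (G ≃* Equiv.Perm (Fin 3)) := by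
  rcases aux (Nat.card G) G rfl h with h1 | h1 | h1
  · exact Or.inl h1
  · exact Or.inr (Or.inl h1)
  · exact Or.inr (Or.inr (s3_of_card_six h h1))

end Cfsg.Agent.S4062
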