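import Cfsg.Statements.S4064
import Cfsg.Agent.Lib.Helper24.CTIFrob
import Cfsg.Agent.Lib.Helper24.CTIMain

set_option autoImplicit false
open Cfsg

namespace Cfsg.Agent.S4064

theorem result {G : Type*} [Group G] [Finite G] (hTI : ∀ x : G, Cfsg.IsTISubset (Subgroup.centralizer ({x} : Set G) : Set G)) :
    Group.IsNilpotent G ∨
    (∃ H : Subgroup G, Cfsg.IsFrobeniusComplement H ∧
      (IsCyclic H ∨ ∃ m : ℕ, Odd m ∧ Nonempty (H ≃* Multiplicative (ZMod m) × QuaternionGroup 2))) ∨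
    (∃ n : ℕ, 2 ≤ n ∧ Nonempty (G ≃* Matrix.ProjectiveSpecialLinearGroup (Fin 2) (GaloisField 2 n))) := by
  have h : Cfsg.Agent.Lib.Helper24.CTI.IsCTI G := hTI
  by_cases hnil : Group.IsNilpotent G
  · exact Or.inl hnil
  right
  by_cases hF : Cfsg.fittingSubgroup G = ⊥
  · right
    haveI : Nontrivial G := by
      by_contra hnt
      rw [not_nontrivial_iff_subsingleton] at hnt
      apply hnil
      haveI := hnt
      exact ⟨⟨0, Subsingleton.elim _ _⟩⟩
    obtain ⟨F, iF, iFin, f, hf2, hcard, ⟨e⟩⟩ := Cfsg.Agent.Lib.Helper24.CTI.psl_case h hF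
    refine ⟨f, hf2, ?_⟩
    haveI : Fintype (GaloisField 2 f) := Fintype.ofFinite _
    have hc : Fintype.card F = Fintype.card (GaloisField 2 f) := by
      rw [hcard, ← Nat.card_eq_fintype_card, GaloisField.card 2 f (by omega)]
    obtain ⟨e'⟩ := Cfsg.Agent.Lib.helper6.SylowPSL.psl_congr (FiniteField.ringEquivOfCardEq hc)
    exact ⟨e.trans e'⟩
  · left
    exact Cfsg.Agent.Lib.Helper24.CTI.frobenius_case h hnil hF

end Cfsg.Agent.S4064
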