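import Cfsg.Statements.S4065

import Cfsg.Agent.Lib.helper15.SL2Cent
set_option autoImplicit false
open Cfsg

namespace Cfsg.Agent.S4065


open Cfsg.Agent.Lib.helper15

section Helpers

variable {F : Type*} [Field F]

theorem nonscalar_of_ne_one [CharP F 2] (s : Matrix.SpecialLinearGroup (Fin 2) F) (hs : s ≠ 1) :
    ∀ c : F, (s : Matrix (Fin 2) (Fin 2) F) ≠ c • (1 : Matrix (Fin 2) (Fin 2) F) := by
  intro c hc
  have hdet : (s : Matrix (Fin 2) (Fin 2) F).det = 1 := s.2
  rw [hc, Matrix.det_smul, Matrix.det_one, Fintype.card_fin, mul_one] at hdet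
  have h1 : c = 1 := by
    have : c ^ 2 = (1 : F) ^ 2 := by rw [hdet, one_pow]
    exact CharTwo.sq_inj.mp this
  rw [h1, one_smul] at hc
  apply hs
  apply Subtype.ext
  exact hc

theorem center_eq_bot [CharP F 2] :
    Subgroup.center (Matrix.SpecialLinearGroup (Fin 2) F) = ⊥ := by
  rw [Subgroup.eq_bot_iff_forall]
  intro A hA
  rw [Matrix.SpecialLinearGroup.mem_center_iff] at hA
  obtain ⟨r, hr, hA⟩ := hA
  rw [Fintype.card_fin] at hr
  have h1 : r = 1 := by
    have : r ^ 2 = (1 : F) ^ 2 := by rw [hr, one_pow]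
    exact CharTwo.sq_inj.mp this
  subst h1
  apply Subtype.ext
  rw [← hA]
  simp

theorem mk_injective [CharP F 2] :
    Function.Injective (QuotientGroup.mk :
      Matrix.SpecialLinearGroup (Fin 2) F → Matrix.ProjectiveSpecialLinearGroup (Fin 2) F) := by
  have := (MonoidHom.ker_eq_bot_iff (QuotientGroup.mk' (Subgroup.center
    (Matrix.SpecialLinearGroup (Fin 2) F)))).mp (by rw [QuotientGroup.ker_mk', center_eq_bot])
  exact this

theorem comm_of_comm [CharP F 2] (U V W : Matrix.SpecialLinearGroup (Fin 2) F) (hU : U ≠ 1)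
    (hUV : U * V = V * U) (hWU : W * U = U * W) : W * V = V * W := by
  have hUn := nonscalar_of_ne_one U hU
  have h1 : (V : Matrix (Fin 2) (Fin 2) F) * (U : Matrix (Fin 2) (Fin 2) F) =
      (U : Matrix (Fin 2) (Fin 2) F) * (V : Matrix (Fin 2) (Fin 2) F) := by
    rw [← Matrix.SpecialLinearGroup.coe_mul, ← Matrix.SpecialLinearGroup.coe_mul, hUV]
  obtain ⟨a, b, hab⟩ := m2_commute_lin _ _ hUn h1
  have h2 : (W : Matrix (Fin 2) (Fin 2) F) * (U : Matrix (Fin 2) (Fin 2) F) =
      (U : Matrix (Fin 2) (Fin 2) F) * (W : Matrix (Fin 2) (Fin 2) F) := by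
    rw [← Matrix.SpecialLinearGroup.coe_mul, ← Matrix.SpecialLinearGroup.coe_mul, hWU]
  apply Subtype.ext
  rw [Matrix.SpecialLinearGroup.coe_mul, Matrix.SpecialLinearGroup.coe_mul, hab, mul_add, add_mul,
    mul_smul_comm, mul_smul_comm, smul_mul_assoc, smul_mul_assoc, mul_one, one_mul, h2]

theorem comm_of_comm_psl [CharP F 2] (u v w : Matrix.ProjectiveSpecialLinearGroup (Fin 2) F)
    (hu : u ≠ 1) (huv : u * v = v * u) (hwu : w * u = u * w) : w * v = v * w := by
  obtain ⟨U, rfl⟩ := QuotientGroup.mk_surjective u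
  obtain ⟨V, rfl⟩ := QuotientGroup.mk_surjective v
  obtain ⟨W, rfl⟩ := QuotientGroup.mk_surjective w
  have hU : U ≠ 1 := by
    rintro rfl
    exact hu rfl
  have hUV : U * V = V * U := mk_injective (by
    rw [QuotientGroup.mk_mul, QuotientGroup.mk_mul]; exact huv)
  have hWU : W * U = U * W := mk_injective (by
    rw [QuotientGroup.mk_mul, QuotientGroup.mk_mul]; exact hwu)
  have := comm_of_comm U V W hU hUV hWU
  rw [← QuotientGroup.mk_mul, ← QuotientGroup.mk_mul, this]

theorem ti_centralizer [CharP F 2] (x : Matrix.ProjectiveSpecialLinearGroup (Fin 2) F) :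
    Cfsg.IsTISubset (Subgroup.centralizer ({x} : Set (Matrix.ProjectiveSpecialLinearGroup (Fin 2) F)) :
      Set (Matrix.ProjectiveSpecialLinearGroup (Fin 2) F)) := by
  intro g hg y hy hz
  by_contra hy1
  apply hg
  rw [SetLike.mem_coe, Subgroup.mem_centralizer_singleton_iff] at hy hz
  have hx1 : x ≠ 1 := by
    rintro rfl
    apply hg
    rw [Subgroup.mem_normalizer_iff]
    intro h
    simp [Subgroup.mem_centralizer_singleton_iff]
  have hz1 : g * y * g⁻¹ ≠ 1 := by
    intro h
    apply hy1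
    have : y = g⁻¹ * (g * y * g⁻¹) * g := by group
    rw [this, h]
    group
  rw [Subgroup.mem_normalizer_iff]
  intro h
  rw [Subgroup.mem_centralizer_singleton_iff, Subgroup.mem_centralizer_singleton_iff]
  constructor
  · intro hh
    have h1 : h * y = y * h := comm_of_comm_psl x y h hx1 hy.symm hh
    have h2 : (g * h * g⁻¹) * (g * y * g⁻¹) = (g * y * g⁻¹) * (g * h * g⁻¹) := by
      have e1 : (g * h * g⁻¹) * (g * y * g⁻¹) = g * (h * y) * g⁻¹ := by group
      have e2 : (g * y * g⁻¹) * (g * h * g⁻¹) = g * (y * h) * g⁻¹ := by group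
      rw [e1, e2, h1]
    exact comm_of_comm_psl (g * y * g⁻¹) x (g * h * g⁻¹) hz1 hz h2
  · intro hh
    have h2 : (g * h * g⁻¹) * (g * y * g⁻¹) = (g * y * g⁻¹) * (g * h * g⁻¹) :=
      comm_of_comm_psl x (g * y * g⁻¹) (g * h * g⁻¹) hx1 hz.symm hh
    have h1 : h * y = y * h := by
      have e1 : h * y = g⁻¹ * ((g * h * g⁻¹) * (g * y * g⁻¹)) * g := by group
      have e2 : y * h = g⁻¹ * ((g * y * g⁻¹) * (g * h * g⁻¹)) * g := by group
      rw [e1, e2, h2]
    exact comm_of_comm_psl y x h hy1 hy h1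

end Helpers

/-- Let F be a finite field with 2ⁿ elements, n ≥ 2. In PSL₂(F) the centralizer of every element meets each of its conjugates by elements outside its normalizer trivially. -/
theorem result (n : ℕ) (hn : 2 ≤ n)
    (x : Matrix.ProjectiveSpecialLinearGroup (Fin 2) (GaloisField 2 n)) :
    Cfsg.IsTISubset (Subgroup.centralizer ({x} : Set (Matrix.ProjectiveSpecialLinearGroup (Fin 2) (GaloisField 2 n))) :
      Set (Matrix.ProjectiveSpecialLinearGroup (Fin 2) (GaloisField 2 n))) := by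
  have _h := hn
  exact ti_centralizer x

end Cfsg.Agent.S4065
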