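import Cfsg.Statements.S4066
import Mathlib

set_option autoImplicit false
open Cfsg

namespace Cfsg.Agent.S4066

section
variable {G : Type*} [Group G]

theorem mem_cent_iff (x g : G) : g ∈ Subgroup.centralizer ({x} : Set G) ↔ g * x = x * g :=
  Subgroup.mem_centralizer_singleton_iff

/-- Step A: if `1 ≠ y ∈ C(x)` and `C(x)` is TI then `C(y) ≤ N(C(x))`. -/
theorem stepA (hTI : ∀ x : G, Cfsg.IsTISubset (Subgroup.centralizer ({x} : Set G) : Set G))
    {x y : G} (hy : y ∈ Subgroup.centralizer ({x} : Set G)) (hy1 : y ≠ 1) :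
    Subgroup.centralizer ({y} : Set G) ≤
      Subgroup.normalizer ((Subgroup.centralizer ({x} : Set G) : Subgroup G) : Set G) := by
  intro g hg
  by_contra hgn
  rw [mem_cent_iff] at hg
  have h1 : g * y * g⁻¹ = y := by rw [hg]; group
  have := hTI x g hgn y hy (by rw [h1]; exact hy)
  exact hy1 this

/-- a `p`-element of `M` lies in `C` if `C` is normalized by `M` and contains a Sylow `p`-subgroup -/
theorem mem_of_pelement {p : ℕ} [Fact p.Prime] [Finite G] (C M : Subgroup G) (hCM : C ≤ M)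
    (hnorm : M ≤ Subgroup.normalizer (C : Set G)) (P : Sylow p G) (hPC : (P : Subgroup G) ≤ C)
    (y : G) (hyM : y ∈ M) (k : ℕ) (hy : orderOf y = p ^ k) : y ∈ C := by
  have hp : p.Prime := Fact.out
  haveI hN : (C.subgroupOf M).Normal := by
    constructor
    intro c hc m
    rw [Subgroup.mem_subgroupOf] at hc ⊢
    have := hnorm m.2
    rw [Subgroup.mem_normalizer_iff] at this
    have h2 := (this (c : G)).1 hc
    simpa using h2
  set ybar : M ⧸ C.subgroupOf M := QuotientGroup.mk ⟨y, hyM⟩ with hybar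
  have h1 : orderOf ybar ∣ p ^ k := by
    rw [← hy, ← Subgroup.orderOf_mk y hyM]
    exact orderOf_map_dvd (QuotientGroup.mk' (C.subgroupOf M)) ⟨y, hyM⟩
  have h2 : orderOf ybar ∣ C.relIndex M := orderOf_dvd_natCard ybar
  have h3 : C.relIndex M ∣ (P : Subgroup G).index :=
    dvd_trans (Subgroup.relIndex_dvd_index_of_le hCM) (Subgroup.index_dvd_of_le hPC)
  have hcop : (p ^ k).Coprime (P : Subgroup G).index :=
    Nat.Coprime.pow_left _ ((Nat.Prime.coprime_iff_not_dvd hp).2 P.not_dvd_index)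
  have h4 : orderOf ybar = 1 := Nat.eq_one_of_dvd_coprimes hcop h1 (dvd_trans h2 h3)
  rw [orderOf_eq_one_iff, hybar, QuotientGroup.eq_one_iff, Subgroup.mem_subgroupOf] at h4
  exact h4

/-- a subgroup generated by pairwise commuting `p`-elements is a `p`-group -/
theorem isPGroup_closure {p : ℕ} (S : Set G) (hcomm : ∀ a ∈ S, ∀ b ∈ S, a * b = b * a)
    (hS : ∀ a ∈ S, ∃ k : ℕ, a ^ p ^ k = 1) : IsPGroup p (Subgroup.closure S) := by
  have hcent : Subgroup.closure S ≤ Subgroup.centralizer (Subgroup.closure S : Set G) := by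
    rw [Subgroup.centralizer_closure, Subgroup.closure_le]
    intro a ha
    rw [SetLike.mem_coe, Subgroup.mem_centralizer_iff]
    intro b hb
    exact hcomm b hb a ha
  have hcomm' : ∀ a ∈ Subgroup.closure S, ∀ b ∈ Subgroup.closure S, Commute a b := by
    intro a ha b hb
    have := hcent hb
    rw [Subgroup.mem_centralizer_iff] at this
    exact this a ha
  have key : ∀ g ∈ Subgroup.closure S, ∃ k : ℕ, g ^ p ^ k = 1 := by
    intro g hg
    induction hg using Subgroup.closure_induction with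
    | mem a ha => exact hS a ha
    | one => exact ⟨0, by simp⟩
    | mul a b ha hb iha ihb =>
      obtain ⟨k, hk⟩ := iha
      obtain ⟨l, hl⟩ := ihb
      refine ⟨k + l, ?_⟩
      rw [(hcomm' a ha b hb).mul_pow, pow_add, pow_mul, hk, one_pow, one_mul, mul_comm (p ^ k),
        pow_mul, hl, one_pow]
    | inv a ha iha =>
      obtain ⟨k, hk⟩ := iha
      exact ⟨k, by rw [inv_pow, hk, inv_one]⟩
  intro g
  obtain ⟨k, hk⟩ := key g.1 g.2
  exact ⟨k, Subtype.ext (by simpa using hk)⟩

theorem conj_mem_closure (S : Set G) (u : G) (hS : ∀ a ∈ S, u * a * u⁻¹ ∈ S) :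
    ∀ n ∈ Subgroup.closure S, u * n * u⁻¹ ∈ Subgroup.closure S := by
  intro n hn
  induction hn using Subgroup.closure_induction with
  | mem a ha => exact Subgroup.subset_closure (hS a ha)
  | one => simp
  | mul a b _ _ iha ihb =>
    have : u * (a * b) * u⁻¹ = (u * a * u⁻¹) * (u * b * u⁻¹) := by group
    rw [this]; exact Subgroup.mul_mem _ iha ihb
  | inv a _ iha =>
    have : u * a⁻¹ * u⁻¹ = (u * a * u⁻¹)⁻¹ := by group
    rw [this]; exact Subgroup.inv_mem _ iha

end

theorem result {G : Type*} [Group G] [Finite G] (hTI : ∀ x : G, Cfsg.IsTISubset (Subgroup.centralizer ({x} : Set G) : Set G))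
    {p : ℕ} [Fact p.Prime] (P Q : Sylow p G) (hPQ : P ≠ Q) : (P : Subgroup G) ⊓ (Q : Subgroup G) = ⊥ := by
  by_contra hne
  obtain ⟨⟨d, hdP, hdQ⟩, hd1'⟩ := (Subgroup.ne_bot_iff_exists_ne_one).1 hne
  have hd1 : d ≠ 1 := fun h => hd1' (Subtype.ext h)
  have hcenter : ∀ R : Sylow p G, d ∈ (R : Subgroup G) →
      ∃ z ∈ (R : Subgroup G), z ≠ 1 ∧ ∀ u ∈ (R : Subgroup G), u * z = z * u := by
    intro R hdR
    haveI : Nontrivial (R : Subgroup G) :=
      ⟨⟨⟨d, hdR⟩, 1, fun h => hd1 (congrArg Subtype.val h)⟩⟩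
    haveI := IsPGroup.center_nontrivial R.isPGroup'
    obtain ⟨z, hz⟩ := exists_ne (1 : Subgroup.center (R : Subgroup G))
    refine ⟨((z : (R : Subgroup G)) : G), (z : (R : Subgroup G)).2, ?_, ?_⟩
    · intro h
      apply hz
      apply Subtype.ext
      apply Subtype.ext
      exact h
    · intro u hu
      have := Subgroup.mem_center_iff.1 z.2 ⟨u, hu⟩
      exact congrArg Subtype.val this
  obtain ⟨z, hzP, hz1, hzc⟩ := hcenter P hdP
  obtain ⟨z', hz'Q, hz'1, hz'c⟩ := hcenter Q hdQ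
  have hPz : (P : Subgroup G) ≤ Subgroup.centralizer ({z} : Set G) :=
    fun u hu => (mem_cent_iff z u).2 (hzc u hu)
  have hQz' : (Q : Subgroup G) ≤ Subgroup.centralizer ({z'} : Set G) :=
    fun u hu => (mem_cent_iff z' u).2 (hz'c u hu)
  have hdz : d ∈ Subgroup.centralizer ({z} : Set G) := hPz hdP
  have h1 := stepA hTI hdz hd1
  have hz'd : z' ∈ Subgroup.centralizer ({d} : Set G) :=
    (mem_cent_iff d z').2 (hz'c d hdQ).symm
  have hz'M := h1 hz'd
  have hQord : ∀ x ∈ (Q : Subgroup G), ∃ k : ℕ, orderOf x = p ^ k := by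
    intro x hx
    obtain ⟨c, hc⟩ := (IsPGroup.iff_orderOf.1 Q.isPGroup') ⟨x, hx⟩
    rw [Subgroup.orderOf_mk] at hc
    exact ⟨c, hc⟩
  obtain ⟨k, hk⟩ := hQord z' hz'Q
  have hz'C : z' ∈ Subgroup.centralizer ({z} : Set G) :=
    mem_of_pelement _ _ Subgroup.le_normalizer le_rfl P hPz z' hz'M k hk
  have h2 := stepA hTI hz'C hz'1
  have hQz : (Q : Subgroup G) ≤ Subgroup.centralizer ({z} : Set G) := by
    intro x hx
    obtain ⟨l, hl⟩ := hQord x hx
    exact mem_of_pelement _ _ Subgroup.le_normalizer le_rfl P hPz x (h2 (hQz' hx)) l hl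
  have hnorm : ∀ x ∈ Subgroup.centralizer ({z} : Set G), ∀ h ∈ Subgroup.centralizer ({z} : Set G),
      h ∈ Subgroup.normalizer ((Subgroup.centralizer ({x} : Set G) : Subgroup G) : Set G) := by
    intro x hx h hh
    by_contra hn
    have hzx : z ∈ Subgroup.centralizer ({x} : Set G) :=
      (mem_cent_iff x z).2 ((mem_cent_iff z x).1 hx).symm
    have hhz : h * z * h⁻¹ = z := by rw [(mem_cent_iff z h).1 hh]; group
    exact hz1 (hTI x h hn z hzx (by rw [hhz]; exact hzx))
  have hcc : ∀ x ∈ Subgroup.centralizer ({z} : Set G), ∀ h ∈ Subgroup.centralizer ({z} : Set G),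
      (h * x * h⁻¹) * x = x * (h * x * h⁻¹) := by
    intro x hx h hh
    have h3 := hnorm x hx h hh
    rw [Subgroup.mem_normalizer_iff] at h3
    have hxx : x ∈ Subgroup.centralizer ({x} : Set G) := (mem_cent_iff x x).2 rfl
    have h4 := (h3 x).1 hxx
    exact (mem_cent_iff _ _).1 h4
  have hQP : (Q : Subgroup G) ≤ (P : Subgroup G) := by
    intro x hxQ
    set S : Set G := {y | ∃ u ∈ (P : Subgroup G), y = u * x * u⁻¹} with hS
    have hScomm : ∀ a ∈ S, ∀ b ∈ S, a * b = b * a := by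
      rintro _ ⟨u, hu, rfl⟩ _ ⟨v, hv, rfl⟩
      have hx' : u * x * u⁻¹ ∈ Subgroup.centralizer ({z} : Set G) :=
        Subgroup.mul_mem _ (Subgroup.mul_mem _ (hPz hu) (hQz hxQ)) (Subgroup.inv_mem _ (hPz hu))
      have hh : v * u⁻¹ ∈ Subgroup.centralizer ({z} : Set G) :=
        Subgroup.mul_mem _ (hPz hv) (Subgroup.inv_mem _ (hPz hu))
      have h5 := hcc _ hx' _ hh
      have e : v * u⁻¹ * (u * x * u⁻¹) * (v * u⁻¹)⁻¹ = v * x * v⁻¹ := by group
      rw [e] at h5
      exact h5.symm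
    have hSp : ∀ a ∈ S, ∃ k : ℕ, a ^ p ^ k = 1 := by
      rintro _ ⟨u, hu, rfl⟩
      obtain ⟨l, hl⟩ := hQord x hxQ
      refine ⟨l, ?_⟩
      rw [conj_pow, ← hl, pow_orderOf_eq_one]
      group
    have hK := isPGroup_closure S hScomm hSp
    have hSinv : ∀ u ∈ (P : Subgroup G), ∀ a ∈ S, u * a * u⁻¹ ∈ S := by
      rintro u hu _ ⟨v, hv, rfl⟩
      exact ⟨u * v, Subgroup.mul_mem _ hu hv, by group⟩
    have hPK : (P : Subgroup G) ≤ Subgroup.normalizer ((Subgroup.closure S : Subgroup G) : Set G) := by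
      intro u hu
      rw [Subgroup.mem_normalizer_iff]
      intro n
      constructor
      · exact conj_mem_closure S u (hSinv u hu) n
      · intro hn
        have := conj_mem_closure S u⁻¹ (hSinv u⁻¹ (Subgroup.inv_mem _ hu)) _ hn
        simpa [mul_assoc] using this
    have hsup := IsPGroup.to_sup_of_normal_right' P.isPGroup' hK hPK
    have hmax := P.is_maximal' hsup le_sup_left
    have hKP : Subgroup.closure S ≤ (P : Subgroup G) := by
      have : Subgroup.closure S ≤ (P : Subgroup G) ⊔ Subgroup.closure S := le_sup_right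
      rw [hmax] at this
      exact this
    apply hKP
    apply Subgroup.subset_closure
    exact ⟨1, Subgroup.one_mem _, by group⟩
  have := Q.is_maximal' P.isPGroup' hQP
  exact hPQ (Sylow.ext this)

end Cfsg.Agent.S4066
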