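import Mathlib
import Cfsg.Statements.S4071
import Cfsg.Agent.Lib.Helper22.Sylow

set_option autoImplicit false
open Cfsg

namespace Cfsg.Agent.S4071

open scoped Pointwise

theorem exists_normal_prime_index {G : Type*} [Group G] [Finite G] [Group.IsSolvable G]
    [Nontrivial G] : ∃ (M : Subgroup G) (p : ℕ), M.Normal ∧ p.Prime ∧ M.index = p := by
  have hlt : commutator G < ⊤ := Group.IsSolvable.commutator_lt_top_of_nontrivial G
  have hcard : Nat.card (Abelianization G) ≠ 1 := by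
    intro h
    have h1 : (commutator G).index = 1 := h
    rw [Subgroup.index_eq_one] at h1
    exact hlt.ne h1
  obtain ⟨p, hp, hpd⟩ := Nat.exists_prime_and_dvd hcard
  have := Fact.mk hp
  obtain ⟨z, hz⟩ := exists_prime_orderOf_dvd_card' (G := Abelianization G) p hpd
  have hninj : ¬ Function.Injective (powMonoidHom p : Abelianization G →* Abelianization G) := by
    intro hinj
    have h1 : (powMonoidHom p : Abelianization G →* Abelianization G) z = 1 := by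
      rw [powMonoidHom_apply, ← hz]; exact pow_orderOf_eq_one z
    have h2 : z = 1 := by
      apply hinj
      rw [h1, map_one]
    rw [h2, orderOf_one] at hz
    exact hp.one_lt.ne hz
  have hnsurj : ¬ Function.Surjective (powMonoidHom p : Abelianization G →* Abelianization G) :=
    fun hs => hninj (Finite.injective_iff_surjective.2 hs)
  set R := (powMonoidHom p : Abelianization G →* Abelianization G).range with hR
  have hRtop : R ≠ ⊤ := by
    intro h
    exact hnsurj (MonoidHom.range_eq_top.1 h)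
  have hRn : R.Normal := Subgroup.normal_of_isMulCommutative R
  have hE : IsPGroup p (Abelianization G ⧸ R) := by
    intro y
    obtain ⟨w, rfl⟩ := QuotientGroup.mk_surjective y
    refine ⟨1, ?_⟩
    rw [pow_one, ← QuotientGroup.mk_pow, QuotientGroup.eq_one_iff]
    exact ⟨w, rfl⟩
  obtain ⟨k, hk⟩ := IsPGroup.iff_card.1 hE
  have hk0 : k ≠ 0 := by
    intro h
    rw [h, pow_zero] at hk
    have h1 : R.index = 1 := hk
    rw [Subgroup.index_eq_one] at h1
    exact hRtop h1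
  obtain ⟨K, hK⟩ := Sylow.exists_subgroup_card_pow_prime p (G := Abelianization G ⧸ R) (n := k - 1)
    (by rw [hk]; exact pow_dvd_pow p (Nat.sub_le k 1))
  have hKidx : K.index = p := by
    have h1 := Subgroup.card_mul_index K
    rw [hK, hk] at h1
    have h2 : p ^ k = p ^ (k - 1) * p := by
      rw [← pow_succ]; congr 1; omega
    rw [h2] at h1
    exact Nat.eq_of_mul_eq_mul_left (pow_pos hp.pos _) h1
  have hKn : K.Normal := Subgroup.normal_of_isMulCommutative K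
  have hof : Function.Surjective (Abelianization.of : G →* Abelianization G) :=
    QuotientGroup.mk_surjective
  refine ⟨(K.comap (QuotientGroup.mk' R)).comap (Abelianization.of : G →* Abelianization G),
    p, ?_, hp, ?_⟩
  · exact Subgroup.Normal.comap (Subgroup.Normal.comap hKn _) _
  · rw [Subgroup.index_comap_of_surjective _ hof,
      Subgroup.index_comap_of_surjective _ (QuotientGroup.mk'_surjective _), hKidx]

theorem inj_key {G : Type*} [Group G] (x : G) (A : Subgroup G)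
    (hfpf : ∀ a : G, a ∈ A → a ≠ 1 → x * a * x⁻¹ ≠ a) (a b : G) (ha : a ∈ A) (hb : b ∈ A)
    (h : a * x * a⁻¹ = b * x * b⁻¹) : a = b := by
  have h2 : b⁻¹ * a * x = x * (b⁻¹ * a) := by
    calc b⁻¹ * a * x = b⁻¹ * (a * x * a⁻¹) * a := by group
      _ = b⁻¹ * (b * x * b⁻¹) * a := by rw [h]
      _ = x * (b⁻¹ * a) := by group
  have h1 : x * (b⁻¹ * a) * x⁻¹ = b⁻¹ * a := by
    calc x * (b⁻¹ * a) * x⁻¹ = (b⁻¹ * a * x) * x⁻¹ := by rw [h2]
      _ = b⁻¹ * a := by group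
  by_contra hne
  have h3 : b⁻¹ * a ≠ 1 := by
    intro h'
    apply hne
    calc a = b * (b⁻¹ * a) := by group
      _ = b := by rw [h', mul_one]
  exact hfpf _ (A.mul_mem (A.inv_mem hb) ha) h3 h1

theorem back_core {G : Type*} [Group G] [Finite G] (x : G) (A : Subgroup G) [hAn : A.Normal]
    (hgen : ∀ g : G, ∃ i : ℤ, ∃ a ∈ A, g = x ^ i * a)
    (hfpf : ∀ a : G, a ∈ A → a ≠ 1 → x * a * x⁻¹ ≠ a)
    (H : Subgroup G) (hxH : x ∈ H) : Subgroup.normalizer (H : Set G) ≤ H := by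
  intro g hg
  obtain ⟨i, a, haA, rfl⟩ := hgen g
  suffices haH : a ∈ H from H.mul_mem (H.zpow_mem hxH i) haH
  have haN : a ∈ Subgroup.normalizer (H : Set G) := by
    have h1 : x ^ i ∈ Subgroup.normalizer (H : Set G) := Subgroup.le_normalizer (H.zpow_mem hxH i)
    have h2 := Subgroup.mul_mem _ (Subgroup.inv_mem _ h1) hg
    have h3 : (x ^ i)⁻¹ * (x ^ i * a) = a := by group
    rwa [h3] at h2
  let φ : ↥(H ⊓ A) → ↥(H ⊓ A) := fun b => ⟨(b : G) * x * (b : G)⁻¹ * x⁻¹, by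
    constructor
    · exact H.mul_mem (H.mul_mem (H.mul_mem b.2.1 hxH) (H.inv_mem b.2.1)) (H.inv_mem hxH)
    · have h1 : x * (b : G)⁻¹ * x⁻¹ ∈ A := hAn.conj_mem _ (A.inv_mem b.2.2) x
      have h2 : (b : G) * x * (b : G)⁻¹ * x⁻¹ = (b : G) * (x * (b : G)⁻¹ * x⁻¹) := by group
      rw [h2]
      exact A.mul_mem b.2.2 h1⟩
  have hφinj : Function.Injective φ := by
    intro b c hbc
    have h1 : (b : G) * x * (b : G)⁻¹ * x⁻¹ = (c : G) * x * (c : G)⁻¹ * x⁻¹ :=
      congrArg Subtype.val hbc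
    have h2 : (b : G) * x * (b : G)⁻¹ = (c : G) * x * (c : G)⁻¹ := mul_right_cancel h1
    exact Subtype.ext (inj_key x A hfpf _ _ b.2.2 c.2.2 h2)
  have hφsurj : Function.Surjective φ := Finite.injective_iff_surjective.1 hφinj
  have htH : a * x * a⁻¹ * x⁻¹ ∈ H := by
    have h1 : a * x * a⁻¹ ∈ H := (Subgroup.mem_normalizer_iff.1 haN x).1 hxH
    exact H.mul_mem h1 (H.inv_mem hxH)
  have htA : a * x * a⁻¹ * x⁻¹ ∈ A := by
    have h1 : x * a⁻¹ * x⁻¹ ∈ A := hAn.conj_mem _ (A.inv_mem haA) x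
    have h2 : a * x * a⁻¹ * x⁻¹ = a * (x * a⁻¹ * x⁻¹) := by group
    rw [h2]
    exact A.mul_mem haA h1
  obtain ⟨b, hb⟩ := hφsurj ⟨a * x * a⁻¹ * x⁻¹, htH, htA⟩
  have h1 : (b : G) * x * (b : G)⁻¹ * x⁻¹ = a * x * a⁻¹ * x⁻¹ := congrArg Subtype.val hb
  have h2 : (b : G) * x * (b : G)⁻¹ = a * x * a⁻¹ := mul_right_cancel h1
  have h3 := inj_key x A hfpf _ _ b.2.2 haA h2
  rw [← h3]
  exact b.2.1

theorem back {G : Type*} [Group G] [Finite G] (x : G) (A : Subgroup G) (p : ℕ) (hp : p.Prime)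
    (hAn : A.Normal) (hAc : IsMulCommutative A) (k : ℕ) (hk : orderOf x = p ^ k)
    (hcompl : (Subgroup.zpowers x).IsComplement' A) (hxp : x ^ p ∈ Subgroup.center G)
    (hfpf : ∀ a : G, a ∈ A → a ≠ 1 → x * a * x⁻¹ ≠ a)
    (H : Subgroup G) (hH : ¬ IsMulCommutative H) : Subgroup.normalizer (H : Set G) = H := by
  have hgen : ∀ g : G, ∃ i : ℕ, ∃ a ∈ A, g = x ^ i * a := by
    intro g
    obtain ⟨⟨⟨z, hz⟩, ⟨a, ha⟩⟩, hza, -⟩ := hcompl.existsUnique g
    have hz' : z ∈ Submonoid.powers x := (mem_powers_iff_mem_zpowers).2 hz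
    obtain ⟨i, rfl⟩ := (Submonoid.mem_powers_iff _ _).1 hz'
    exact ⟨i, a, ha, hza.symm⟩
  have hex : ∃ h ∈ H, ∃ (i : ℕ) (a : G), a ∈ A ∧ h = x ^ i * a ∧ ¬ p ∣ i := by
    by_contra hall
    push Not at hall
    apply hH
    refine ⟨⟨fun h₁ h₂ => ?_⟩⟩
    obtain ⟨i₁, a₁, ha₁, e₁⟩ := hgen h₁
    obtain ⟨i₂, a₂, ha₂, e₂⟩ := hgen h₂
    obtain ⟨j₁, rfl⟩ := hall h₁ h₁.2 i₁ a₁ ha₁ e₁
    obtain ⟨j₂, rfl⟩ := hall h₂ h₂.2 i₂ a₂ ha₂ e₂
    have c₁ : ∀ g : G, g * x ^ (p * j₁) = x ^ (p * j₁) * g := by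
      intro g
      have : x ^ (p * j₁) ∈ Subgroup.center G := by
        rw [pow_mul]; exact Subgroup.pow_mem _ hxp j₁
      exact Subgroup.mem_center_iff.1 this g
    have c₂ : ∀ g : G, g * x ^ (p * j₂) = x ^ (p * j₂) * g := by
      intro g
      have : x ^ (p * j₂) ∈ Subgroup.center G := by
        rw [pow_mul]; exact Subgroup.pow_mem _ hxp j₂
      exact Subgroup.mem_center_iff.1 this g
    have ca : a₁ * a₂ = a₂ * a₁ := by
      have := hAc.is_comm.comm (⟨a₁, ha₁⟩ : A) ⟨a₂, ha₂⟩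
      exact congrArg Subtype.val this
    apply Subtype.ext
    show (h₁ : G) * (h₂ : G) = (h₂ : G) * (h₁ : G)
    rw [e₁, e₂]
    calc x ^ (p * j₁) * a₁ * (x ^ (p * j₂) * a₂)
        = x ^ (p * j₁) * (a₁ * x ^ (p * j₂)) * a₂ := by group
      _ = x ^ (p * j₁) * (x ^ (p * j₂) * a₁) * a₂ := by rw [c₂ a₁]
      _ = x ^ (p * j₁) * x ^ (p * j₂) * (a₁ * a₂) := by group
      _ = x ^ (p * j₁) * x ^ (p * j₂) * (a₂ * a₁) := by rw [ca]
      _ = (x ^ (p * j₁) * x ^ (p * j₂)) * a₂ * a₁ := by group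
      _ = (x ^ (p * j₂) * x ^ (p * j₁)) * a₂ * a₁ := by rw [c₁ (x ^ (p * j₂))]
      _ = x ^ (p * j₂) * (x ^ (p * j₁) * a₂) * a₁ := by group
      _ = x ^ (p * j₂) * (a₂ * x ^ (p * j₁)) * a₁ := by rw [← c₁ a₂]
      _ = x ^ (p * j₂) * a₂ * (x ^ (p * j₁) * a₁) := by group
  obtain ⟨h, hhH, i, a, haA, rfl, hpi⟩ := hex
  have hcop : (Nat.card (Subgroup.zpowers x)).Coprime i := by
    rw [Nat.card_zpowers, hk]
    exact Nat.Coprime.pow_left k ((Nat.Prime.coprime_iff_not_dvd hp).2 hpi)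
  obtain ⟨⟨z, hz⟩, hzi⟩ := (powCoprime hcop).surjective ⟨x, Subgroup.mem_zpowers x⟩
  have hzi' : z ^ i = x := congrArg Subtype.val hzi
  obtain ⟨j, rfl⟩ := Subgroup.mem_zpowers_iff.1 hz
  have hh' : x⁻¹ * (x ^ i * a) ^ j ∈ A := by
    rw [← QuotientGroup.eq (s := A)]
    have h1 : ((x ^ i * a : G) : G ⧸ A) = ((x : G) : G ⧸ A) ^ i := by
      rw [QuotientGroup.mk_mul, (QuotientGroup.eq_one_iff a).2 haA, mul_one, QuotientGroup.mk_pow]
    rw [QuotientGroup.mk_zpow, h1, ← zpow_natCast, ← zpow_mul, mul_comm, zpow_mul, zpow_natCast,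
      ← QuotientGroup.mk_zpow, ← QuotientGroup.mk_pow, hzi']
  let θ : ↥A → ↥A := fun b => ⟨x⁻¹ * (b : G) * x * (b : G)⁻¹, by
    have h1 : x⁻¹ * (b : G) * x ∈ A := by
      have := hAn.conj_mem _ b.2 x⁻¹
      rwa [inv_inv] at this
    exact A.mul_mem h1 (A.inv_mem b.2)⟩
  have hθinj : Function.Injective θ := by
    intro b c hbc
    have h1 : x⁻¹ * (b : G) * x * (b : G)⁻¹ = x⁻¹ * (c : G) * x * (c : G)⁻¹ :=
      congrArg Subtype.val hbc
    have h2 : (b : G) * x * (b : G)⁻¹ = (c : G) * x * (c : G)⁻¹ := by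
      have h3 : x * (x⁻¹ * (b : G) * x * (b : G)⁻¹) = x * (x⁻¹ * (c : G) * x * (c : G)⁻¹) := by
        rw [h1]
      calc (b : G) * x * (b : G)⁻¹ = x * (x⁻¹ * (b : G) * x * (b : G)⁻¹) := by group
        _ = x * (x⁻¹ * (c : G) * x * (c : G)⁻¹) := h3
        _ = (c : G) * x * (c : G)⁻¹ := by group
    exact Subtype.ext (inj_key x A hfpf _ _ b.2 c.2 h2)
  have hθsurj : Function.Surjective θ := Finite.injective_iff_surjective.1 hθinj
  obtain ⟨⟨b, hbA⟩, hb⟩ := hθsurj ⟨x⁻¹ * (x ^ i * a) ^ j, hh'⟩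
  have hb' : x⁻¹ * b * x * b⁻¹ = x⁻¹ * (x ^ i * a) ^ j := congrArg Subtype.val hb
  have hx'H : b * x * b⁻¹ ∈ H := by
    have h1 : b * x * b⁻¹ = (x ^ i * a) ^ j := by
      calc b * x * b⁻¹ = x * (x⁻¹ * b * x * b⁻¹) := by group
        _ = x * (x⁻¹ * (x ^ i * a) ^ j) := by rw [hb']
        _ = (x ^ i * a) ^ j := by group
    rw [h1]
    exact H.zpow_mem hhH j
  have hgen' : ∀ g : G, ∃ l : ℤ, ∃ c ∈ A, g = (b * x * b⁻¹) ^ l * c := by
    intro g
    obtain ⟨l, c, hc, e⟩ := hgen (b⁻¹ * g * b)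
    refine ⟨l, b * c * b⁻¹, hAn.conj_mem c hc b, ?_⟩
    rw [conj_zpow, zpow_natCast]
    calc g = b * (b⁻¹ * g * b) * b⁻¹ := by group
      _ = b * (x ^ l * c) * b⁻¹ := by rw [e]
      _ = b * x ^ l * b⁻¹ * (b * c * b⁻¹) := by group
  have hfpf' : ∀ c : G, c ∈ A → c ≠ 1 → (b * x * b⁻¹) * c * (b * x * b⁻¹)⁻¹ ≠ c := by
    intro c hc hc1 he
    have h1 : b⁻¹ * c * b ∈ A := by
      have := hAn.conj_mem c hc b⁻¹
      rwa [inv_inv] at this
    have h2 : b⁻¹ * c * b ≠ 1 := by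
      intro h
      apply hc1
      calc c = b * (b⁻¹ * c * b) * b⁻¹ := by group
        _ = 1 := by rw [h]; group
    apply hfpf _ h1 h2
    calc x * (b⁻¹ * c * b) * x⁻¹ = b⁻¹ * ((b * x * b⁻¹) * c * (b * x * b⁻¹)⁻¹) * b := by group
      _ = b⁻¹ * c * b := by rw [he]
  exact le_antisymm (back_core (b * x * b⁻¹) A hgen' hfpf' H hx'H) Subgroup.le_normalizer

theorem fix_comm {G : Type*} [Group G] (x : G) (A : Subgroup G) [hAn : A.Normal]
    (hAc : ∀ a ∈ A, ∀ b ∈ A, a * b = b * a) (n : ℕ) (hn : x ^ n = 1)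
    (hA1 : ∀ c ∈ A, c ^ n = 1 → c = 1) (b : G) (hb : b ∈ A)
    (hc : x * (x * b * x⁻¹ * b⁻¹) * x⁻¹ = x * b * x⁻¹ * b⁻¹) : x * b * x⁻¹ * b⁻¹ = 1 := by
  have hcA : x * b * x⁻¹ * b⁻¹ ∈ A := A.mul_mem (hAn.conj_mem b hb x) (A.inv_mem hb)
  have hTA : ∀ m : ℕ, x ^ m * b * (x ^ m)⁻¹ * b⁻¹ ∈ A := fun m =>
    A.mul_mem (hAn.conj_mem b hb (x ^ m)) (A.inv_mem hb)
  have hcm : ∀ m : ℕ, x ^ m * (x * b * x⁻¹ * b⁻¹) * (x ^ m)⁻¹ = x * b * x⁻¹ * b⁻¹ := by
    intro m
    induction m with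
    | zero => simp
    | succ m ih =>
      calc x ^ (m + 1) * (x * b * x⁻¹ * b⁻¹) * (x ^ (m + 1))⁻¹
          = x ^ m * (x * (x * b * x⁻¹ * b⁻¹) * x⁻¹) * (x ^ m)⁻¹ := by
            rw [pow_succ]; group
        _ = x ^ m * (x * b * x⁻¹ * b⁻¹) * (x ^ m)⁻¹ := by rw [hc]
        _ = x * b * x⁻¹ * b⁻¹ := ih
  have key : ∀ m : ℕ, (x * b * x⁻¹ * b⁻¹) ^ m = x ^ m * b * (x ^ m)⁻¹ * b⁻¹ := by
    intro m
    induction m with
    | zero => simp
    | succ m ih =>
      have e1 : x ^ (m + 1) * b * (x ^ (m + 1))⁻¹ * b⁻¹ =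
          (x ^ m * (x * b * x⁻¹ * b⁻¹) * (x ^ m)⁻¹) * (x ^ m * b * (x ^ m)⁻¹ * b⁻¹) := by
        rw [pow_succ]; group
      rw [e1, hcm m, pow_succ, ih]
      exact hAc _ (hTA m) _ hcA
  apply hA1 _ hcA
  rw [key n, hn]
  group

theorem forward {G : Type*} [Group G] [Finite G] [Group.IsSolvable G] (hnn : ¬ Group.IsNilpotent G)
    (hsn : ∀ H : Subgroup G, ¬ IsMulCommutative H → Subgroup.normalizer (H : Set G) = H) :
    ∃ (x : G) (A : Subgroup G) (p : ℕ), p.Prime ∧ A.Normal ∧ IsMulCommutative A ∧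
      (∃ k : ℕ, orderOf x = p ^ k) ∧
      ¬ p ∣ Nat.card A ∧ (Subgroup.zpowers x).IsComplement' A ∧ x ^ p ∈ Subgroup.center G ∧
      ∀ a : G, a ∈ A → a ≠ 1 → x * a * x⁻¹ ≠ a := by
  have hnt : Nontrivial G := by
    by_contra h
    rw [not_nontrivial_iff_subsingleton] at h
    exact hnn inferInstance
  have hpn : ∀ N : Subgroup G, N.Normal → N ≠ ⊤ → IsMulCommutative N := by
    intro N hN hNt
    by_contra hc
    have h1 := hsn N hc
    rw [Subgroup.normalizer_eq_top] at h1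
    exact hNt h1.symm
  obtain ⟨M, p, hMn, hp, hMidx⟩ := exists_normal_prime_index (G := G)
  have := Fact.mk hp
  have hMtop : M ≠ ⊤ := by
    intro h
    rw [h, Subgroup.index_top] at hMidx
    exact hp.one_lt.ne hMidx
  have hMc := hpn M hMn hMtop
  have hMcomm : ∀ a ∈ M, ∀ b ∈ M, a * b = b * a := fun a ha b hb =>
    congrArg Subtype.val (hMc.is_comm.comm ⟨a, ha⟩ ⟨b, hb⟩)
  let A : Subgroup G :=
    { carrier := {g | g ∈ M ∧ (orderOf g).Coprime p}
      mul_mem' := by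
        rintro a b ⟨ha, hao⟩ ⟨hb, hbo⟩
        refine ⟨M.mul_mem ha hb, ?_⟩
        have h1 : orderOf (a * b) ∣ orderOf a * orderOf b :=
          Commute.orderOf_mul_dvd_mul_orderOf (hMcomm a ha b hb)
        exact Nat.Coprime.coprime_dvd_left h1 (Nat.Coprime.mul_left hao hbo)
      one_mem' := ⟨M.one_mem, by rw [orderOf_one]; exact Nat.coprime_one_left p⟩
      inv_mem' := by
        rintro a ⟨ha, hao⟩
        exact ⟨M.inv_mem ha, by rw [orderOf_inv]; exact hao⟩ }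
  have hAmem : ∀ g : G, g ∈ A ↔ g ∈ M ∧ (orderOf g).Coprime p := fun g => Iff.rfl
  have hAM : A ≤ M := fun g hg => hg.1
  have hAn : A.Normal := by
    constructor
    rintro a ⟨ha, hao⟩ g
    refine ⟨hMn.conj_mem a ha g, ?_⟩
    have : orderOf (g * a * g⁻¹) = orderOf a := MulEquiv.orderOf_eq (MulAut.conj g) a
    rw [this]; exact hao
  have hAcomm : ∀ a ∈ A, ∀ b ∈ A, a * b = b * a := fun a ha b hb =>
    hMcomm a (hAM ha) b (hAM hb)
  have hAc : IsMulCommutative A := ⟨⟨fun a b => Subtype.ext (hAcomm a a.2 b b.2)⟩⟩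
  have hpA : ¬ p ∣ Nat.card A := by
    intro hd
    obtain ⟨⟨a, haA⟩, hao⟩ := exists_prime_orderOf_dvd_card' (G := A) p hd
    rw [Subgroup.orderOf_mk] at hao
    have := haA.2
    rw [hao] at this
    exact hp.one_lt.ne' ((Nat.coprime_self p).1 this)
  have hQp : IsPGroup p (G ⧸ A) := by
    intro y
    obtain ⟨g, rfl⟩ := QuotientGroup.mk_surjective y
    have hgM : g ^ p ∈ M := by
      have := Subgroup.pow_index_mem M g
      rwa [hMidx] at this
    obtain ⟨a, b, hab, hcomm, ⟨k, hk⟩, hbo, haz, hbz⟩ :=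
      Cfsg.Agent.Lib.Helper22.exists_p_decomp p (g ^ p)
    have hbM : b ∈ M := (Subgroup.zpowers_le.2 hgM) hbz
    have hbA : b ∈ A := ⟨hbM, hbo⟩
    refine ⟨k + 1, ?_⟩
    rw [← QuotientGroup.mk_pow, QuotientGroup.eq_one_iff]
    have h1 : g ^ p ^ (k + 1) = b ^ p ^ k := by
      rw [pow_succ', pow_mul, hab, hcomm.mul_pow, ← hk, pow_orderOf_eq_one, one_mul]
    rw [h1]
    exact A.pow_mem hbA _
  obtain ⟨t, ht⟩ := IsPGroup.iff_card.1 hQp
  have hAidx : A.index = p ^ t := by rw [Subgroup.index_eq_card]; exact ht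
  let P : Sylow p G := default
  have hPcard : Nat.card P = p ^ t := by
    rw [Sylow.card_eq_multiplicity]
    congr 1
    have h1 := Subgroup.card_mul_index A
    rw [hAidx] at h1
    rw [← h1, Nat.factorization_mul Nat.card_pos.ne' (pow_pos hp.pos t).ne']
    simp only [Finsupp.coe_add, Pi.add_apply]
    rw [Nat.factorization_eq_zero_of_not_dvd hpA, zero_add, hp.factorization_pow]
    simp
  have hcopAP : (Nat.card A).Coprime (Nat.card P) := by
    rw [hPcard]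
    exact Nat.Coprime.pow_right t ((Nat.Prime.coprime_iff_not_dvd hp).2 hpA).symm
  have hAPc : A.IsComplement' (P : Subgroup G) := by
    apply Subgroup.isComplement'_of_coprime _ hcopAP
    rw [hPcard, ← hAidx]
    exact Subgroup.card_mul_index A
  have hdisj : ∀ g : G, g ∈ A → g ∈ (P : Subgroup G) → g = 1 := by
    intro g hgA hgP
    have := hAPc.disjoint
    rw [Subgroup.disjoint_def] at this
    exact this hgA hgP
  have hgenP : ∀ g : G, ∃ a ∈ A, ∃ y ∈ (P : Subgroup G), g = a * y := by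
    intro g
    obtain ⟨⟨⟨a, ha⟩, ⟨y, hy⟩⟩, hay, -⟩ := hAPc.existsUnique g
    exact ⟨a, ha, y, hy, hay.symm⟩
  have hex : ∃ y ∈ (P : Subgroup G), ∃ a₀ ∈ A, y * a₀ ≠ a₀ * y := by
    by_contra hall
    push Not at hall
    apply hnn
    let _ : CommGroup A :=
      { (inferInstance : Group A) with
        mul_comm := fun a b => Subtype.ext (hAcomm a a.2 b b.2) }
    have hPnil : Group.IsNilpotent (P : Subgroup G) := P.2.isNilpotent
    let f : ↥A × ↥(P : Subgroup G) →* G :=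
      MonoidHom.noncommCoprod A.subtype (P : Subgroup G).subtype
        (fun a y => (hall y y.2 a a.2).symm)
    have hf : Function.Surjective f := by
      intro g
      obtain ⟨a, ha, y, hy, rfl⟩ := hgenP g
      exact ⟨(⟨a, ha⟩, ⟨y, hy⟩), rfl⟩
    exact Group.nilpotent_of_surjective f hf
  obtain ⟨y, hyP, a₀, ha₀, hya₀⟩ := hex
  have hHna : ¬ IsMulCommutative (A ⊔ Subgroup.zpowers y : Subgroup G) := by
    intro hc
    apply hya₀
    have := hc.is_comm.comm (⟨y, Subgroup.mem_sup_right (Subgroup.mem_zpowers y)⟩ :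
      (A ⊔ Subgroup.zpowers y : Subgroup G)) ⟨a₀, Subgroup.mem_sup_left ha₀⟩
    exact congrArg Subtype.val this
  have hHsn := hsn _ hHna
  have hzyP : Subgroup.zpowers y ≤ (P : Subgroup G) := Subgroup.zpowers_le.2 hyP
  have hPy : (P : Subgroup G) = Subgroup.zpowers y := by
    by_contra hne
    have hPnil : Group.IsNilpotent (P : Subgroup G) := P.2.isNilpotent
    have hnc := (normalizerCondition_iff_only_full_group_self_normalizing.1
      (Group.normalizerCondition_of_isNilpotent (G := (P : Subgroup G))))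
      ((Subgroup.zpowers y).subgroupOf (P : Subgroup G))
    have hntop : (Subgroup.zpowers y).subgroupOf (P : Subgroup G) ≠ ⊤ := by
      intro h
      rw [Subgroup.subgroupOf_eq_top] at h
      exact hne (le_antisymm h hzyP)
    have hnorm : Subgroup.normalizer (((Subgroup.zpowers y).subgroupOf (P : Subgroup G) :
        Subgroup (P : Subgroup G)) : Set (P : Subgroup G)) ≠
        (Subgroup.zpowers y).subgroupOf (P : Subgroup G) := fun h => hntop (hnc h)
    have hlt : (Subgroup.zpowers y).subgroupOf (P : Subgroup G) <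
        Subgroup.normalizer (((Subgroup.zpowers y).subgroupOf (P : Subgroup G) :
        Subgroup (P : Subgroup G)) : Set (P : Subgroup G)) :=
      lt_of_le_of_ne Subgroup.le_normalizer (Ne.symm hnorm)
    obtain ⟨⟨g, hgP⟩, hgN, hgY⟩ := SetLike.exists_of_lt hlt
    have hgy : g * y * g⁻¹ ∈ Subgroup.zpowers y := by
      have h1 := (Subgroup.mem_normalizer_iff.1 hgN ⟨y, hyP⟩).1
        (Subgroup.mem_subgroupOf.2 (Subgroup.mem_zpowers y))
      have h2 := Subgroup.mem_subgroupOf.1 h1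
      simpa using h2
    have hgNH : g ∈ Subgroup.normalizer ((A ⊔ Subgroup.zpowers y : Subgroup G) : Set G) := by
      apply Subgroup.mem_normalizer_fintype
      intro n hn
      have hn' : n ∈ ((A ⊔ Subgroup.zpowers y : Subgroup G) : Set G) := hn
      rw [Subgroup.normal_mul] at hn'
      obtain ⟨a, ha, z, hz, rfl⟩ := Set.mem_mul.1 hn'
      obtain ⟨l, rfl⟩ := Subgroup.mem_zpowers_iff.1 hz
      have e : g * (a * y ^ l) * g⁻¹ = (g * a * g⁻¹) * (g * y * g⁻¹) ^ l := by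
        rw [conj_zpow]; group
      show g * (a * y ^ l) * g⁻¹ ∈ (A ⊔ Subgroup.zpowers y : Subgroup G)
      rw [e]
      exact Subgroup.mul_mem _ (Subgroup.mem_sup_left (hAn.conj_mem a ha g))
        (Subgroup.mem_sup_right (Subgroup.zpow_mem _ hgy l))
    rw [hHsn] at hgNH
    have hgNH' : g ∈ ((A ⊔ Subgroup.zpowers y : Subgroup G) : Set G) := hgNH
    rw [Subgroup.normal_mul] at hgNH'
    obtain ⟨a, ha, z, hz, hazg⟩ := Set.mem_mul.1 hgNH'
    have haP : a ∈ (P : Subgroup G) := by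
      have : a = g * z⁻¹ := by rw [← hazg]; group
      rw [this]
      exact Subgroup.mul_mem _ hgP (Subgroup.inv_mem _ (hzyP hz))
    have ha1 := hdisj a ha haP
    apply hgY
    rw [Subgroup.mem_subgroupOf]
    show g ∈ Subgroup.zpowers y
    rw [← hazg, ha1, one_mul]
    exact hz
  have hyo : orderOf y = p ^ t := by
    rw [← Nat.card_zpowers, ← hPy]; exact hPcard
  have hyn : y ^ (p ^ t) = 1 := by rw [← hyo]; exact pow_orderOf_eq_one y
  have hcompl : (Subgroup.zpowers y).IsComplement' A := by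
    rw [← hPy]; exact hAPc.symm
  have hgenY : ∀ g : G, ∃ a ∈ A, ∃ l : ℤ, g = a * y ^ l := by
    intro g
    obtain ⟨a, ha, z, hz, rfl⟩ := hgenP g
    rw [hPy] at hz
    obtain ⟨l, rfl⟩ := Subgroup.mem_zpowers_iff.1 hz
    exact ⟨a, ha, l, rfl⟩
  have hypM : y ^ p ∈ M := by
    have := Subgroup.pow_index_mem M y
    rwa [hMidx] at this
  have hcenter : y ^ p ∈ Subgroup.center G := by
    rw [Subgroup.mem_center_iff]
    intro g
    obtain ⟨a, ha, l, rfl⟩ := hgenY g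
    have h1 : a * y ^ p = y ^ p * a := hMcomm a (hAM ha) _ hypM
    have h2 : y ^ l * y ^ p = y ^ p * y ^ l := by
      rw [← zpow_natCast y p, ← zpow_add, ← zpow_add, add_comm]
    calc a * y ^ l * y ^ p = a * (y ^ l * y ^ p) := by group
      _ = a * (y ^ p * y ^ l) := by rw [h2]
      _ = (a * y ^ p) * y ^ l := by group
      _ = y ^ p * a * y ^ l := by rw [h1]
      _ = y ^ p * (a * y ^ l) := by group
  have hA1 : ∀ c ∈ A, c ^ (p ^ t) = 1 → c = 1 := by
    intro c hc hct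
    have h1 : orderOf c ∣ p ^ t := orderOf_dvd_of_pow_eq_one hct
    have h2 : (orderOf c).Coprime (p ^ t) := Nat.Coprime.pow_right t hc.2
    exact orderOf_eq_one_iff.1 (Nat.Coprime.eq_one_of_dvd h2 h1)
  have hψmul : ∀ b ∈ A, ∀ c ∈ A, (y * b * y⁻¹ * b⁻¹) * (y * c * y⁻¹ * c⁻¹) =
      y * (b * c) * y⁻¹ * (b * c)⁻¹ := by
    intro b hb c hc
    have h1 : b⁻¹ * (y * c * y⁻¹) = (y * c * y⁻¹) * b⁻¹ :=
      hAcomm _ (A.inv_mem hb) _ (hAn.conj_mem c hc y)
    have h2 : b⁻¹ * c⁻¹ = c⁻¹ * b⁻¹ := hAcomm _ (A.inv_mem hb) _ (A.inv_mem hc)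
    calc (y * b * y⁻¹ * b⁻¹) * (y * c * y⁻¹ * c⁻¹)
        = y * b * y⁻¹ * (b⁻¹ * (y * c * y⁻¹)) * c⁻¹ := by group
      _ = y * b * y⁻¹ * ((y * c * y⁻¹) * b⁻¹) * c⁻¹ := by rw [h1]
      _ = y * (b * c) * y⁻¹ * (b⁻¹ * c⁻¹) := by group
      _ = y * (b * c) * y⁻¹ * (c⁻¹ * b⁻¹) := by rw [h2]
      _ = y * (b * c) * y⁻¹ * (b * c)⁻¹ := by group
  let I : Subgroup G :=
    { carrier := {g | ∃ b ∈ A, g = y * b * y⁻¹ * b⁻¹}
      mul_mem' := by
        rintro _ _ ⟨b, hb, rfl⟩ ⟨c, hc, rfl⟩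
        exact ⟨b * c, A.mul_mem hb hc, hψmul b hb c hc⟩
      one_mem' := ⟨1, A.one_mem, by group⟩
      inv_mem' := by
        rintro _ ⟨b, hb, rfl⟩
        refine ⟨b⁻¹, A.inv_mem hb, ?_⟩
        have h1 := hψmul b hb b⁻¹ (A.inv_mem hb)
        have h2 : y * (b * b⁻¹) * y⁻¹ * (b * b⁻¹)⁻¹ = 1 := by group
        rw [h2] at h1
        exact inv_eq_of_mul_eq_one_right h1 }
  have hIA : I ≤ A := by
    rintro _ ⟨b, hb, rfl⟩
    exact A.mul_mem (hAn.conj_mem b hb y) (A.inv_mem hb)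
  have hyI : Subgroup.zpowers y ≤ Subgroup.normalizer (I : Set G) := by
    rw [Subgroup.zpowers_le]
    apply Subgroup.mem_normalizer_fintype
    rintro _ ⟨b, hb, rfl⟩
    refine ⟨y * b * y⁻¹, hAn.conj_mem b hb y, ?_⟩
    group
  have hcoe : ((I ⊔ Subgroup.zpowers y : Subgroup G) : Set G) = (I : Set G) * (Subgroup.zpowers y : Set G) :=
    Subgroup.coe_mul_of_right_le_normalizer_left I (Subgroup.zpowers y) hyI
  have hH'na : ¬ IsMulCommutative (I ⊔ Subgroup.zpowers y : Subgroup G) := by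
    intro hc
    apply hya₀
    have h1 : y * a₀ * y⁻¹ * a₀⁻¹ = 1 := by
      apply fix_comm y A hAcomm (p ^ t) hyn hA1 a₀ ha₀
      have hcI : y * a₀ * y⁻¹ * a₀⁻¹ ∈ (I ⊔ Subgroup.zpowers y : Subgroup G) :=
        Subgroup.mem_sup_left ⟨a₀, ha₀, rfl⟩
      have hyH : y ∈ (I ⊔ Subgroup.zpowers y : Subgroup G) :=
        Subgroup.mem_sup_right (Subgroup.mem_zpowers y)
      have := hc.is_comm.comm (⟨y, hyH⟩ : (I ⊔ Subgroup.zpowers y : Subgroup G)) ⟨_, hcI⟩
      have h2 : y * (y * a₀ * y⁻¹ * a₀⁻¹) = (y * a₀ * y⁻¹ * a₀⁻¹) * y := congrArg Subtype.val this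
      rw [h2]; group
    calc y * a₀ = (y * a₀ * y⁻¹ * a₀⁻¹) * a₀ * y := by group
      _ = a₀ * y := by rw [h1, one_mul]
  have hH'sn := hsn _ hH'na
  have hfix : ∀ c ∈ A, y * c * y⁻¹ = c → c = 1 := by
    intro c hc hyc
    have hcy : ∀ l : ℤ, c * y ^ l = y ^ l * c := by
      intro l
      have h1 : Commute y c := by
        show y * c = c * y
        calc y * c = (y * c * y⁻¹) * y := by group
          _ = c * y := by rw [hyc]
      exact ((h1.zpow_left l).eq).symm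
    have hcN : c ∈ Subgroup.normalizer ((I ⊔ Subgroup.zpowers y : Subgroup G) : Set G) := by
      apply Subgroup.mem_normalizer_fintype
      intro n hn
      have hn' : n ∈ ((I ⊔ Subgroup.zpowers y : Subgroup G) : Set G) := hn
      have hn'' := hn'
      rw [hcoe] at hn''
      obtain ⟨i, hi, z, hz, rfl⟩ := Set.mem_mul.1 hn''
      obtain ⟨l, rfl⟩ := Subgroup.mem_zpowers_iff.1 hz
      have e : c * (i * y ^ l) * c⁻¹ = i * y ^ l := by
        have h1 : c * i = i * c := hAcomm c hc i (hIA hi)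
        calc c * (i * y ^ l) * c⁻¹ = (c * i) * y ^ l * c⁻¹ := by group
          _ = i * (c * y ^ l) * c⁻¹ := by rw [h1]; group
          _ = i * (y ^ l * c) * c⁻¹ := by rw [hcy l]
          _ = i * y ^ l := by group
      rw [e]
      exact hn'
    rw [hH'sn] at hcN
    have hcN' : c ∈ ((I ⊔ Subgroup.zpowers y : Subgroup G) : Set G) := hcN
    rw [hcoe] at hcN'
    obtain ⟨i, hi, z, hz, hizc⟩ := Set.mem_mul.1 hcN'
    have hzA : z ∈ A := by
      have : z = i⁻¹ * c := by rw [← hizc]; group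
      rw [this]
      exact A.mul_mem (A.inv_mem (hIA hi)) hc
    have hz1 := hdisj z hzA (hzyP hz)
    rw [hz1, mul_one] at hizc
    obtain ⟨b, hb, hib⟩ := hi
    rw [← hizc, hib]
    apply fix_comm y A hAcomm (p ^ t) hyn hA1 b hb
    rw [← hib, hizc]
    exact hyc
  exact ⟨y, A, p, hp, hAn, hAc, ⟨t, hyo⟩, hpA, hcompl, hcenter,
    fun a ha ha1 h => ha1 (hfix a ha h)⟩

theorem result {G : Type*} [Group G] [Finite G]
    [Group.IsSolvable G] (hnn : ¬ Group.IsNilpotent G) :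
    (∀ H : Subgroup G, ¬ IsMulCommutative H → Subgroup.normalizer (H : Set G) = H) ↔
    ∃ (x : G) (A : Subgroup G) (p : ℕ), p.Prime ∧ A.Normal ∧ IsMulCommutative A ∧ (∃ k : ℕ, orderOf x = p ^ k) ∧
      ¬ p ∣ Nat.card A ∧ (Subgroup.zpowers x).IsComplement' A ∧ x ^ p ∈ Subgroup.center G ∧
      ∀ a : G, a ∈ A → a ≠ 1 → x * a * x⁻¹ ≠ a := by
  constructor
  · intro hsn
    exact forward hnn hsn
  · rintro ⟨x, A, p, hp, hAn, hAc, ⟨k, hk⟩, -, hcompl, hxp, hfpf⟩ H hH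
    exact back x A p hp hAn hAc k hk hcompl hxp hfpf H hH

end Cfsg.Agent.S4071
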