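import Cfsg.Statements.S4074
import Mathlib

set_option autoImplicit false
open Cfsg

namespace Cfsg.Agent.S4074

open DihedralGroup

def parity (n : ℕ) (hn : 2 ∣ n) : DihedralGroup n →* Multiplicative (ZMod 2) where
  toFun g := match g with
    | .r i => Multiplicative.ofAdd (ZMod.castHom hn (ZMod 2) i)
    | .sr i => Multiplicative.ofAdd (ZMod.castHom hn (ZMod 2) i)
  map_one' := by
    rw [DihedralGroup.one_def]
    simp
  map_mul' := by
    rintro (i | i) (j | j)
    · simp only [DihedralGroup.r_mul_r, map_add, ofAdd_add]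
    · simp only [DihedralGroup.r_mul_sr, map_sub]
      rw [sub_eq_add_neg, ZMod.neg_eq_self_mod_two, ofAdd_add, mul_comm]
    · simp only [DihedralGroup.sr_mul_r, map_add, ofAdd_add]
    · simp only [DihedralGroup.sr_mul_sr, map_sub]
      rw [sub_eq_add_neg, ZMod.neg_eq_self_mod_two, ofAdd_add, mul_comm]

theorem isMulCommutative_of_card {G : Type*} [Group G] [Finite G] (h : Nat.card G ∣ 8)
    (h8 : Nat.card G ≠ 8) : IsMulCommutative G := by
  have hle : Nat.card G ≤ 8 := Nat.le_of_dvd (by norm_num) h
  have hpos : 0 < Nat.card G := Nat.card_pos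
  have hcases : Nat.card G = 1 ∨ Nat.card G = 2 ∨ Nat.card G = 4 := by
    interval_cases (Nat.card G) <;> simp_all
  rcases hcases with h1 | h2 | h4
  · have : Subsingleton G := (Nat.card_eq_one_iff_unique.1 h1).1
    exact ⟨⟨fun a b => Subsingleton.elim _ _⟩⟩
  · have : Fact (Nat.Prime 2) := ⟨Nat.prime_two⟩
    have hc : IsCyclic G := isCyclic_of_prime_card h2
    exact hc.isMulCommutative
  · have : Fact (Nat.Prime 2) := ⟨Nat.prime_two⟩
    have h4' : Nat.card G = 2 ^ 2 := by rw [h4]; norm_num
    exact IsPGroup.isMulCommutative_of_card_eq_prime_sq h4'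

theorem odd_case (n : ℕ) (hodd : Odd n) (H : Subgroup (DihedralGroup n))
    (hH : ¬ IsMulCommutative H) : Subgroup.normalizer (H : Set (DihedralGroup n)) = H := by
  have hrefl : ∃ j : ZMod n, sr j ∈ H := by
    by_contra hno
    push Not at hno
    apply hH
    refine ⟨⟨?_⟩⟩
    rintro ⟨a, ha⟩ ⟨b, hb⟩
    apply Subtype.ext
    cases a with
    | r i =>
      cases b with
      | r j => simp [add_comm]
      | sr j => exact absurd hb (hno j)
    | sr i => exact absurd ha (hno i)
  obtain ⟨j, hj⟩ := hrefl
  have hrot : ∀ a : ZMod n, r a ∈ Subgroup.normalizer (H : Set (DihedralGroup n)) → r a ∈ H := by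
    intro a ha
    have h1 : r a * sr j * (r a)⁻¹ ∈ H := (Subgroup.mem_normalizer_iff.1 ha _).1 hj
    have h2 : sr j * (r a * sr j * (r a)⁻¹) ∈ H := H.mul_mem hj h1
    have h3 : sr j * (r a * sr j * (r a)⁻¹) = r (-(2 * a)) := by
      simp only [DihedralGroup.inv_r, DihedralGroup.r_mul_sr, DihedralGroup.sr_mul_r,
        DihedralGroup.sr_mul_sr]
      congr 1
      ring
    rw [h3] at h2
    obtain ⟨m, hm⟩ := hodd
    have h4 : (r (-(2 * a)) : DihedralGroup n) ^ (n - (m + 1)) ∈ H := H.pow_mem h2 _
    have h5 : (r (-(2 * a)) : DihedralGroup n) ^ (n - (m + 1)) = r a := by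
      rw [DihedralGroup.r_pow]
      congr 1
      have hn0 : ((n : ℕ) : ZMod n) = 0 := ZMod.natCast_self n
      have hle : m + 1 ≤ n := by omega
      rw [Nat.cast_sub hle, hn0]
      have h2m : (2 : ZMod n) * ((m : ZMod n) + 1) = 1 := by
        have : ((2 * m + 1 : ℕ) : ZMod n) = 0 := by rw [← hm]; exact hn0
        push_cast at this
        linear_combination this
      push_cast
      linear_combination a * h2m
    rw [h5] at h4
    exact h4
  apply le_antisymm _ Subgroup.le_normalizer
  intro g hg
  cases g with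
  | r a => exact hrot a hg
  | sr a =>
    have h1 : sr j * sr a ∈ Subgroup.normalizer (H : Set (DihedralGroup n)) :=
      Subgroup.mul_mem _ (Subgroup.le_normalizer hj) hg
    rw [DihedralGroup.sr_mul_sr] at h1
    have h2 := hrot _ h1
    have h3 : sr a = sr j * r (a - j) := by
      rw [DihedralGroup.sr_mul_r]; congr 1; ring
    rw [h3]
    exact H.mul_mem hj h2

theorem even_case (n : ℕ) (hn : 2 ∣ n) (h6 : 6 ≤ n) :
    ∃ H : Subgroup (DihedralGroup n), ¬ IsMulCommutative H ∧
      Subgroup.normalizer (H : Set (DihedralGroup n)) ≠ H := by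
  refine ⟨(parity n hn).ker, ?_, ?_⟩
  · intro hc
    have h1 : (r 2 : DihedralGroup n) ∈ (parity n hn).ker := by
      rw [MonoidHom.mem_ker]
      show Multiplicative.ofAdd (ZMod.castHom hn (ZMod 2) 2) = 1
      rw [map_ofNat]
      rfl
    have h2 : (sr 0 : DihedralGroup n) ∈ (parity n hn).ker := by
      rw [MonoidHom.mem_ker]
      show Multiplicative.ofAdd (ZMod.castHom hn (ZMod 2) 0) = 1
      rw [map_zero]
      rfl
    have h3 := hc.is_comm.comm (⟨r 2, h1⟩ : (parity n hn).ker) ⟨sr 0, h2⟩
    have h4 : (r 2 : DihedralGroup n) * sr 0 = sr 0 * r 2 := congrArg Subtype.val h3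
    rw [DihedralGroup.r_mul_sr, DihedralGroup.sr_mul_r] at h4
    have h5 : (0 : ZMod n) - 2 = 0 + 2 := by
      injection h4
    have h6' : ((4 : ℕ) : ZMod n) = 0 := by
      push_cast
      linear_combination -h5
    rw [ZMod.natCast_eq_zero_iff] at h6'
    have := Nat.le_of_dvd (by norm_num) h6'
    omega
  · intro heq
    have hnorm : Subgroup.normalizer (((parity n hn).ker : Subgroup (DihedralGroup n)) : Set (DihedralGroup n)) = ⊤ :=
      Subgroup.normalizer_eq_top_iff.2 inferInstance
    rw [hnorm] at heq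
    have h1 : (r 1 : DihedralGroup n) ∈ (parity n hn).ker := by rw [← heq]; exact Subgroup.mem_top _
    rw [MonoidHom.mem_ker] at h1
    have h2 : Multiplicative.ofAdd (ZMod.castHom hn (ZMod 2) 1) = 1 := h1
    rw [map_one] at h2
    have h3 : (1 : ZMod 2) = 0 := h2
    exact absurd h3 (by decide)

/-- For n > 2, every non-abelian subgroup of the dihedral group of order 2n is self-normalizing if and only if n = 4 or n is odd. -/
theorem result (n : ℕ) (hn : 2 < n) :
    (∀ H : Subgroup (DihedralGroup n), ¬ IsMulCommutative H → Subgroup.normalizer (H : Set (DihedralGroup n)) = H) ↔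
    (n = 4 ∨ Odd n) := by
  constructor
  · intro h
    by_contra hcon
    push Not at hcon
    obtain ⟨h4, hodd⟩ := hcon
    rw [Nat.not_odd_iff_even] at hodd
    have hn2 : 2 ∣ n := even_iff_two_dvd.1 hodd
    have h6 : 6 ≤ n := by
      obtain ⟨k, hk⟩ := hn2
      omega
    obtain ⟨H, hH1, hH2⟩ := even_case n hn2 h6
    exact hH2 (h H hH1)
  · rintro (h4 | hodd) H hH
    · subst h4
      by_cases h8 : Nat.card H = 8
      · have : H = ⊤ := by
          apply Subgroup.eq_top_of_card_eq
          rw [h8, DihedralGroup.nat_card]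
        rw [this]
        exact Subgroup.normalizer_eq_top_iff.2 inferInstance
      · exfalso
        apply hH
        apply isMulCommutative_of_card _ h8
        have := Subgroup.card_subgroup_dvd_card H
        rwa [DihedralGroup.nat_card] at this
    · exact odd_case n hodd H hH

end Cfsg.Agent.S4074
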