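import Cfsg.Statements.S4075
import Mathlib

set_option autoImplicit false
open Cfsg

namespace Cfsg.Agent.S4075

theorem comm_of_sylow_comm {G : Type*} [Group G] [Finite G] [Group.IsNilpotent G]
    (h : ∀ (p : ℕ) [Fact p.Prime] (P : Sylow p G), IsMulCommutative (P : Subgroup G)) :
    IsMulCommutative G := by
  have hnil : Group.IsNilpotent G := inferInstance
  obtain ⟨e⟩ := ((Group.isNilpotent_of_finite_tfae (G := G)).out 0 4).1 hnil
  refine ⟨⟨fun a b => ?_⟩⟩
  have hab : e.symm a * e.symm b = e.symm b * e.symm a := by
    funext p P
    haveI : Fact (p : ℕ).Prime := ⟨Nat.prime_of_mem_primeFactors p.2⟩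
    have := (h p P).is_comm.comm (e.symm a p P) (e.symm b p P)
    exact this
  have := congrArg e hab
  simpa using this

theorem result {G : Type*} [Group G] [Finite G]
    [Group.IsNilpotent G] :
    (∀ H : Subgroup G, ¬ IsMulCommutative H → Subgroup.normalizer (H : Set G) = H) ↔
    (IsMulCommutative G ∨ (IsPrimePow (Nat.card G) ∧ ¬ IsMulCommutative G ∧ ∀ H : Subgroup G, H ≠ ⊤ → IsMulCommutative H)) := by
  constructor
  · intro h
    by_cases hc : IsMulCommutative G
    · exact Or.inl hc
    · right
      have hNC : NormalizerCondition G := Group.normalizerCondition_of_isNilpotent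
      have hprop : ∀ H : Subgroup G, H ≠ ⊤ → IsMulCommutative H := by
        intro H hH
        by_contra hnc
        have h1 := h H hnc
        have h2 := (normalizerCondition_iff_only_full_group_self_normalizing.1 hNC) H h1
        exact hH h2
      refine ⟨?_, hc, hprop⟩
      by_contra hpp
      apply hc
      apply comm_of_sylow_comm
      intro p _ P
      apply hprop
      intro hP
      apply hpp
      obtain ⟨n, hn⟩ := IsPGroup.iff_card.1 P.isPGroup'
      have hcard : Nat.card G = p ^ n := by
        rw [← hn, hP, Subgroup.card_top]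
      rw [hcard]
      have hn0 : n ≠ 0 := by
        rintro rfl
        rw [pow_zero] at hcard
        have : Subsingleton G := (Nat.card_eq_one_iff_unique.1 hcard).1
        exact hc ⟨⟨fun a b => Subsingleton.elim _ _⟩⟩
      exact ⟨p, n, (Fact.out : p.Prime).prime, Nat.pos_of_ne_zero hn0, rfl⟩
  · rintro (h | ⟨-, -, h⟩) H hH
    · exfalso
      apply hH
      exact ⟨⟨fun a b => Subtype.ext (h.is_comm.comm (a : G) (b : G))⟩⟩
    · have : H = ⊤ := by
        by_contra hne
        exact hH (h H hne)
      subst this
      rw [eq_top_iff]
      intro x _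
      rw [Subgroup.mem_normalizer_iff]
      intro y
      simp

end Cfsg.Agent.S4075
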