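import Cfsg.Statements.S4079
import Cfsg.Agent.Lib.Helper22.MetaAutA
import Cfsg.Agent.Lib.Helper22.MetaAutB
import Cfsg.Agent.Lib.Helper22.MetaAutC
import Cfsg.Agent.Lib.Helper22.MetaAutD

set_option autoImplicit false
open Cfsg

namespace Cfsg.Agent.S4079

/-- Let p be an odd prime and L a finite metacyclic p-group with no cyclic subgroup of index p, and let a be an automorphism of L of order p. Then a moves some element of order p of L if and only if p = 3 and the semidirect product L ⋊ ⟨a⟩ (of order 3·#L) has maximal class, i.e. nilpotency class m where #L = 3^m. -/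
theorem result {L : Type*} [Group L] [Finite L] {p : ℕ} [Fact p.Prime]
    (hp : p ≠ 2) (hL : IsPGroup p L) (hmc : Cfsg.IsMetacyclic L) (hnc : ∀ C : Subgroup L, IsCyclic C → C.index ≠ p)
    (a : MulAut L) (ha : orderOf a = p) (m : ℕ) (hm : Nat.card L = p ^ m) :
    (∃ x : L, orderOf x = p ∧ a x ≠ x) ↔
    (p = 3 ∧ Group.nilpotencyClass (SemidirectProduct L ↥(Subgroup.zpowers a) (Subgroup.zpowers a).subtype) = m) := by
  have hpp := (Fact.out : p.Prime)
  have : Nontrivial L := by
    by_contra hnt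
    rw [not_nontrivial_iff_subsingleton] at hnt
    have h1 : a = 1 := by
      ext x
      exact Subsingleton.elim _ _
    rw [h1, orderOf_one] at ha
    exact hpp.one_lt.ne ha
  obtain ⟨W, M, h⟩ := Cfsg.Agent.Lib.Helper22.MetaAut.ma_exists_om2 hp hL hmc hnc
  have hap : a ^ p = 1 := by
    rw [← ha]
    exact pow_orderOf_eq_one a
  constructor
  · rintro ⟨x, hx, hax⟩
    have hxW : x ∈ W := (h.memW x).mpr (by rw [← hx]; exact pow_orderOf_eq_one x)
    obtain ⟨hp3, hfix⟩ := Cfsg.Agent.Lib.Helper22.MetaAut.ma_forward hp hL h a hap x hxW hax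
    exact ⟨hp3, Cfsg.Agent.Lib.Helper22.MetaAut.ma_class a ha m hm hfix⟩
  · rintro ⟨-, hclass⟩
    exact Cfsg.Agent.Lib.Helper22.MetaAut.ma_backward hp hL hmc h a ha m hm hclass

end Cfsg.Agent.S4079
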