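import Mathlib
import Cfsg.Statements.S4080

set_option autoImplicit false
open Cfsg

namespace Cfsg.Agent.S4080

theorem nilp_sq {F : Type*} [Field F] (N : Matrix (Fin 2) (Fin 2) F) (k : ℕ) (h : N ^ k = 0) :
    N ^ 2 = 0 := by
  have h1 : IsNilpotent N := ⟨k, h⟩
  have h2 := Matrix.isNilpotent_charpoly_sub_pow_of_isNilpotent h1
  have h3 : N.charpoly - Polynomial.X ^ (Fintype.card (Fin 2)) = 0 := h2.eq_zero
  have h4 : N.charpoly = Polynomial.X ^ 2 := by
    rw [sub_eq_zero] at h3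
    simpa using h3
  have h5 := Matrix.aeval_self_charpoly N
  rw [h4] at h5
  simpa using h5

theorem dvd_of_cast_eq_zero (p : ℕ) [Fact p.Prime] (r : ZMod (p ^ 2))
    (h : (ZMod.castHom (dvd_pow_self p two_ne_zero) (ZMod p)) r = 0) :
    ∃ s : ZMod (p ^ 2), r = (p : ZMod (p ^ 2)) * s := by
  have hp : p.Prime := Fact.out
  have : NeZero (p ^ 2) := ⟨pow_ne_zero 2 hp.ne_zero⟩
  have h1 : ((r.val : ℕ) : ZMod p) = 0 := by
    rw [← h]
    have h0 : r = ((r.val : ℕ) : ZMod (p ^ 2)) := (ZMod.natCast_zmod_val r).symm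
    conv_rhs => rw [h0]
    rw [map_natCast]
  rw [ZMod.natCast_eq_zero_iff] at h1
  obtain ⟨s, hs⟩ := h1
  refine ⟨(s : ZMod (p ^ 2)), ?_⟩
  rw [← Nat.cast_mul, ← hs, ZMod.natCast_zmod_val]

theorem dvd_of_mul_eq_zero (p : ℕ) [Fact p.Prime] (r : ZMod (p ^ 2))
    (h : (p : ZMod (p ^ 2)) * r = 0) : ∃ s : ZMod (p ^ 2), r = (p : ZMod (p ^ 2)) * s := by
  have hp : p.Prime := Fact.out
  have : NeZero (p ^ 2) := ⟨pow_ne_zero 2 hp.ne_zero⟩
  have h1 : ((p * r.val : ℕ) : ZMod (p ^ 2)) = 0 := by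
    rw [Nat.cast_mul, ZMod.natCast_zmod_val]; exact h
  rw [ZMod.natCast_eq_zero_iff] at h1
  have h2 : p ∣ r.val := by
    have h3 : p * p ∣ p * r.val := by
      have : p * p = p ^ 2 := (pow_two p).symm
      rw [this]; exact h1
    exact Nat.dvd_of_mul_dvd_mul_left hp.pos h3
  obtain ⟨s, hs⟩ := h2
  refine ⟨(s : ZMod (p ^ 2)), ?_⟩
  rw [← Nat.cast_mul, ← hs, ZMod.natCast_zmod_val]

theorem mat_lemma (p : ℕ) [Fact p.Prime] (hp3 : 3 < p)
    (M : Matrix (Fin 2) (Fin 2) (ZMod (p ^ 2))) (hM : M ^ p = 1) :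
    ∃ Y : Matrix (Fin 2) (Fin 2) (ZMod (p ^ 2)), M = 1 + (p : ZMod (p ^ 2)) • Y := by
  have hp : p.Prime := Fact.out
  set ρ := ZMod.castHom (dvd_pow_self p two_ne_zero) (ZMod p) with hρ
  set N := M - 1 with hN
  have hM' : M = N + 1 := by rw [hN]; abel
  have hNbar : (ρ.mapMatrix N) ^ p = 0 := by
    have h1 : ρ.mapMatrix N = ρ.mapMatrix M - 1 := by rw [hN, map_sub, map_one]
    have h2 : (ρ.mapMatrix M) ^ p = 1 := by rw [← map_pow, hM, map_one]
    rw [h1, sub_pow_char_of_commute _ (Commute.one_right _), h2, one_pow, sub_self]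
  have hN2bar : (ρ.mapMatrix N) ^ 2 = 0 := nilp_sq _ p hNbar
  have hN2 : ∃ Y : Matrix (Fin 2) (Fin 2) (ZMod (p ^ 2)), N ^ 2 = (p : ZMod (p ^ 2)) • Y := by
    have h0 : ρ.mapMatrix (N ^ 2) = 0 := by rw [map_pow]; exact hN2bar
    have hent : ∀ i j, ∃ s : ZMod (p ^ 2), (N ^ 2) i j = (p : ZMod (p ^ 2)) * s := by
      intro i j
      apply dvd_of_cast_eq_zero p
      exact congrFun (congrFun h0 i) j
    choose Y hY using hent
    refine ⟨Matrix.of Y, ?_⟩
    ext i j
    simp [hY]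
  obtain ⟨Y, hY⟩ := hN2
  have hpp : (p : ZMod (p ^ 2)) * (p : ZMod (p ^ 2)) = 0 := by
    rw [← Nat.cast_mul, ← pow_two]
    exact ZMod.natCast_self _
  have hbin : M ^ p = 1 + (p : ZMod (p ^ 2)) • N := by
    rw [hM', (Commute.one_right N).add_pow]
    simp only [one_pow, mul_one]
    have hsub : Finset.range 2 ⊆ Finset.range (p + 1) := by
      intro m hm
      rw [Finset.mem_range] at hm ⊢
      omega
    rw [← Finset.sum_subset hsub]
    · rw [Finset.sum_range_succ, Finset.sum_range_one]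
      simp only [pow_zero, Nat.choose_zero_right, Nat.cast_one, mul_one, pow_one,
        Nat.choose_one_right]
      congr 1
      rw [← nsmul_eq_mul', Nat.cast_smul_eq_nsmul]
    · intro m hm1 hm2
      rw [Finset.mem_range] at hm1 hm2
      have hm : 2 ≤ m := by omega
      have hNm : N ^ m = N ^ (m - 2) * ((p : ZMod (p ^ 2)) • Y) := by
        rw [← hY, ← pow_add]
        congr 1
        omega
      by_cases hmp : m < p
      · obtain ⟨c, hc⟩ := hp.dvd_choose_self (by omega) hmp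
        rw [hc, ← nsmul_eq_mul', hNm, mul_nsmul, Matrix.mul_smul, ← Nat.cast_smul_eq_nsmul (ZMod (p ^ 2)) p,
          smul_smul, hpp, zero_smul, smul_zero]
      · have hmp' : m = p := by omega
        have hNp : N ^ m = N ^ (m - 4) * (N ^ 2 * N ^ 2) := by
          rw [← pow_add, ← pow_add]
          congr 1
          omega
        have hz : N ^ 2 * N ^ 2 = 0 := by
          rw [hY, Matrix.smul_mul, Matrix.mul_smul, smul_smul, hpp, zero_smul]
        rw [hNp, hz, mul_zero, zero_mul]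
  have hpN : (p : ZMod (p ^ 2)) • N = 0 := by
    rw [hM] at hbin
    have := hbin.symm
    rwa [add_eq_left] at this
  have hent : ∀ i j, ∃ s : ZMod (p ^ 2), N i j = (p : ZMod (p ^ 2)) * s := by
    intro i j
    apply dvd_of_mul_eq_zero p
    have := congrFun (congrFun hpN i) j
    simpa using this
  choose Y' hY' using hent
  refine ⟨Matrix.of Y', ?_⟩
  rw [hM', add_comm]
  congr 1
  ext i j
  simp [hY']

theorem result {p : ℕ} [Fact p.Prime] (hp : 3 < p)
    (a : MulAut (Multiplicative (ZMod (p ^ 2) × ZMod (p ^ 2)))) (ha : orderOf a = p)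
    (x : Multiplicative (ZMod (p ^ 2) × ZMod (p ^ 2))) (hx : orderOf x = p) : a x = x := by
  have hpp : p.Prime := Fact.out
  have : NeZero (p ^ 2) := ⟨pow_ne_zero 2 hpp.ne_zero⟩
  let f : ZMod (p ^ 2) × ZMod (p ^ 2) → ZMod (p ^ 2) × ZMod (p ^ 2) :=
    fun v => Multiplicative.toAdd (a (Multiplicative.ofAdd v))
  have hfadd : ∀ v w, f (v + w) = f v + f w := by
    intro v w
    show Multiplicative.toAdd (a (Multiplicative.ofAdd (v + w))) = _
    rw [ofAdd_add, map_mul, toAdd_mul]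
  have hfzero : f 0 = 0 := by
    show Multiplicative.toAdd (a (Multiplicative.ofAdd 0)) = 0
    rw [ofAdd_zero, map_one, toAdd_one]
  have hfsmul : ∀ (n : ℕ) v, f (n • v) = n • f v := by
    intro n v
    induction n with
    | zero => simp [hfzero]
    | succ n ih => rw [succ_nsmul, hfadd, ih, succ_nsmul]
  have hfiter : ∀ (k : ℕ) v, f^[k] v = Multiplicative.toAdd ((a ^ k) (Multiplicative.ofAdd v)) := by
    intro k
    induction k with
    | zero => intro v; simp
    | succ k ih =>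
      intro v
      rw [Function.iterate_succ_apply', ih, pow_succ' a k]
      rfl
  have hap : a ^ p = 1 := by
    have := pow_orderOf_eq_one a
    rwa [ha] at this
  have hfp : ∀ v, f^[p] v = v := by
    intro v
    rw [hfiter, hap]
    rfl
  let e : ZMod (p ^ 2) × ZMod (p ^ 2) → (Fin 2 → ZMod (p ^ 2)) := fun v => ![v.1, v.2]
  let e' : (Fin 2 → ZMod (p ^ 2)) → ZMod (p ^ 2) × ZMod (p ^ 2) := fun w => (w 0, w 1)
  have hee' : ∀ w, e (e' w) = w := by
    intro w
    ext i
    fin_cases i <;> rfl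
  have he'e : ∀ v, e' (e v) = v := fun v => rfl
  let M : Matrix (Fin 2) (Fin 2) (ZMod (p ^ 2)) :=
    Matrix.of ![![(f (1, 0)).1, (f (0, 1)).1], ![(f (1, 0)).2, (f (0, 1)).2]]
  have hfM : ∀ v, f v = e' (M.mulVec (e v)) := by
    intro v
    have hv : v = v.1.val • ((1, 0) : ZMod (p ^ 2) × ZMod (p ^ 2)) + v.2.val • ((0, 1) : ZMod (p ^ 2) × ZMod (p ^ 2)) := by
      ext <;> simp
    conv_lhs => rw [hv]
    rw [hfadd, hfsmul, hfsmul]
    ext
    · simp [e, e', M, Matrix.mulVec, dotProduct, Fin.sum_univ_two]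
      ring
    · simp [e, e', M, Matrix.mulVec, dotProduct, Fin.sum_univ_two]
      ring
  have hfMk : ∀ (k : ℕ) v, f^[k] v = e' ((M ^ k).mulVec (e v)) := by
    intro k
    induction k with
    | zero => intro v; simp [he'e]
    | succ k ih =>
      intro v
      rw [Function.iterate_succ_apply', ih, hfM, hee', Matrix.mulVec_mulVec, ← pow_succ' M k]
  have hMp : M ^ p = 1 := by
    apply Matrix.mulVec_injective
    ext w i
    have h1 := hfp (e' w)
    rw [hfMk, hee'] at h1
    have h2 := congrArg e h1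
    rw [hee', hee'] at h2
    rw [Matrix.one_mulVec]
    exact congrFun h2 i
  obtain ⟨Y, hY⟩ := mat_lemma p hp M hMp
  have hxp : x ^ p = 1 := by
    have := pow_orderOf_eq_one x
    rwa [hx] at this
  have hv0 : p • (Multiplicative.toAdd x) = 0 := by
    have := congrArg Multiplicative.toAdd hxp
    rwa [toAdd_pow, toAdd_one] at this
  have h1 : (p : ZMod (p ^ 2)) * (Multiplicative.toAdd x).1 = 0 := by
    have := congrArg Prod.fst hv0
    simpa using this
  have h2 : (p : ZMod (p ^ 2)) * (Multiplicative.toAdd x).2 = 0 := by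
    have := congrArg Prod.snd hv0
    simpa using this
  obtain ⟨s1, hs1⟩ := dvd_of_mul_eq_zero p _ h1
  obtain ⟨s2, hs2⟩ := dvd_of_mul_eq_zero p _ h2
  have hppz : (p : ZMod (p ^ 2)) * (p : ZMod (p ^ 2)) = 0 := by
    rw [← Nat.cast_mul, ← pow_two]
    exact ZMod.natCast_self _
  have hev : e (Multiplicative.toAdd x) = (p : ZMod (p ^ 2)) • ![s1, s2] := by
    ext i
    fin_cases i
    · simp [e, hs1]
    · simp [e, hs2]
  have hfx : f (Multiplicative.toAdd x) = Multiplicative.toAdd x := by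
    rw [hfM, hY, Matrix.add_mulVec, Matrix.one_mulVec, Matrix.smul_mulVec]
    have h3 : (p : ZMod (p ^ 2)) • Y.mulVec (e (Multiplicative.toAdd x)) = 0 := by
      rw [hev, Matrix.mulVec_smul, smul_smul, hppz, zero_smul]
    rw [h3, add_zero, he'e]
  have h4 : Multiplicative.ofAdd (f (Multiplicative.toAdd x)) = x := by
    rw [hfx]; rfl
  exact h4

end Cfsg.Agent.S4080
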