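import Cfsg.Statements.S4081
import Mathlib
import Cfsg.Agent.Lib.Helper22.AutOrb6

set_option autoImplicit false
open Cfsg

namespace Cfsg.Agent.S4081

theorem result {G : Type*} [Group G] [Finite G] (hnpp : ¬ IsPrimePow (Nat.card G)) (hnt : Nat.card G ≠ 1) :
    Nat.card (MulAction.orbitRel.Quotient (MulAut G) G) = 3 ↔
    ∃ (p q n : ℕ) (_ : Fact p.Prime) (_ : Fact q.Prime), p ≠ q ∧ 1 ≤ n ∧ Nat.card G = p ^ n * q ∧
      (∀ P : Sylow p G, (P : Subgroup G).Normal ∧ Cfsg.IsElementaryAbelian p (P : Subgroup G)) ∧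
      orderOf (p : ZMod q) = q - 1 ∧
      ∀ x y : G, orderOf x = q → orderOf y = p → x * y * x⁻¹ ≠ y := by
  constructor
  · intro h3
    exact Cfsg.Agent.Lib.Helper22.AutOrb6.forward hnpp hnt h3
  · rintro ⟨p, q, n, hp, hq, hpq, hn, hcard, hsyl, hprim, hfpf⟩
    exact Cfsg.Agent.Lib.Helper22.AutOrb6.backward p q n hpq hn hcard hsyl hprim hfpf

end Cfsg.Agent.S4081
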