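import Mathlib
import Cfsg.Statements.S4082
import Cfsg.Agent.Lib.Helper21.PByCyc

set_option autoImplicit false
open Cfsg

namespace Cfsg.Agent.S4082

open Cfsg.Agent.Lib.Helper21.DihType Cfsg.Agent.Lib.Helper21.PByCyc
open scoped Pointwise

/-- the hypothesis: `p`-by-cyclic subgroups are cyclic or dihedral -/
def Hyp (G : Type*) [Group G] (p : ℕ) [Fact p.Prime] : Prop :=
  ∀ H : Subgroup G, (∀ S : Sylow p ↥H, (S : Subgroup ↥H).Normal) →
    (∀ (S : Sylow p ↥H) [(S : Subgroup ↥H).Normal], IsCyclic (↥H ⧸ (S : Subgroup ↥H))) →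
    IsCyclic H ∨ (∃ n : ℕ, Nonempty (H ≃* DihedralGroup (p ^ n)))

/-- an element normalizing but not centralizing a `p`-subgroup is an involution inverting it -/
theorem lemma_X {G : Type*} [Group G] [Finite G] {p : ℕ} [hpp : Fact p.Prime] (hp : p ≠ 2)
    (hyp : Hyp G p) (B : Subgroup G) (hB : IsPGroup p B) (x : G)
    (hx : x ∈ Subgroup.normalizer (B : Set G)) (b₀ : G) (hb₀ : b₀ ∈ B) (hne : x * b₀ ≠ b₀ * x) :
    orderOf x = 2 ∧ ∀ b ∈ B, x * b * x⁻¹ = b⁻¹ := by
  obtain ⟨h1, h2⟩ := pbc_sup_zpowers B hB x hx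
  have hxH : x ∈ B ⊔ Subgroup.zpowers x := Subgroup.mem_sup_right (Subgroup.mem_zpowers x)
  have hBH : B ≤ B ⊔ Subgroup.zpowers x := le_sup_left
  rcases hyp (B ⊔ Subgroup.zpowers x) h1 h2 with hc | ⟨n, ⟨e⟩⟩
  · exfalso
    obtain ⟨g, hg⟩ := hc.exists_generator
    have : (⟨x, hxH⟩ : ↥(B ⊔ Subgroup.zpowers x)) * ⟨b₀, hBH hb₀⟩ = ⟨b₀, hBH hb₀⟩ * ⟨x, hxH⟩ := by
      obtain ⟨i, hi⟩ := Subgroup.mem_zpowers_iff.mp (hg ⟨x, hxH⟩)
      obtain ⟨j, hj⟩ := Subgroup.mem_zpowers_iff.mp (hg ⟨b₀, hBH hb₀⟩)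
      rw [← hi, ← hj, ← zpow_add, ← zpow_add, add_comm]
    exact hne (congrArg Subtype.val this)
  · have D : DT ↥(B ⊔ Subgroup.zpowers x) := (dihedral (p ^ n)).ofEquiv e.symm
    have hBc : ∀ b (hb : b ∈ B), (⟨b, hBH hb⟩ : ↥(B ⊔ Subgroup.zpowers x)) ∈
        Subgroup.zpowers D.c := by
      intro b hb
      by_contra hnot
      have h3 := D.outside_sq hnot
      have h4 : b * b = 1 := congrArg Subtype.val h3
      obtain ⟨k, hk⟩ := hB ⟨b, hb⟩
      have h5 : b ^ (p ^ k) = 1 := by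
        have := congrArg Subtype.val hk
        simpa using this
      have h6 : orderOf b ∣ 2 := orderOf_dvd_of_pow_eq_one (by rw [pow_two]; exact h4)
      have h7 : orderOf b ∣ p ^ k := orderOf_dvd_of_pow_eq_one h5
      have h8 : orderOf b ∣ Nat.gcd 2 (p ^ k) := Nat.dvd_gcd h6 h7
      have h9 : Nat.gcd 2 (p ^ k) = 1 :=
        Nat.Coprime.pow_right k ((Nat.coprime_primes Nat.prime_two hpp.out).mpr (Ne.symm hp))
      rw [h9, Nat.dvd_one, orderOf_eq_one_iff] at h8
      apply hnot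
      have : (⟨b, hBH hb⟩ : ↥(B ⊔ Subgroup.zpowers x)) = 1 := Subtype.ext h8
      rw [this]; exact one_mem _
    have hxc : (⟨x, hxH⟩ : ↥(B ⊔ Subgroup.zpowers x)) ∉ Subgroup.zpowers D.c := by
      intro hxc
      obtain ⟨i, hi⟩ := Subgroup.mem_zpowers_iff.mp hxc
      obtain ⟨j, hj⟩ := Subgroup.mem_zpowers_iff.mp (hBc b₀ hb₀)
      have : (⟨x, hxH⟩ : ↥(B ⊔ Subgroup.zpowers x)) * ⟨b₀, hBH hb₀⟩ =
          ⟨b₀, hBH hb₀⟩ * ⟨x, hxH⟩ := by
        rw [← hi, ← hj, ← zpow_add, ← zpow_add, add_comm]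
      exact hne (congrArg Subtype.val this)
    have hx2 : x * x = 1 := congrArg Subtype.val (D.outside_sq hxc)
    have hx1 : x ≠ 1 := by
      rintro rfl; exact hne (by simp)
    refine ⟨orderOf_eq_prime (by rw [pow_two]; exact hx2) hx1, fun b hb => ?_⟩
    have := D.outside_conj hxc (hBc b hb)
    exact congrArg Subtype.val this


theorem forward {G : Type*} [Group G] [Finite G] {p : ℕ} [hpp : Fact p.Prime] (hp : p ≠ 2)
    (P : Sylow p G) (hyp : Hyp G p) :
    (IsCyclic P ∧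
      (Subgroup.normalizer ((P : Subgroup G) : Set G) = Subgroup.centralizer ((P : Subgroup G) : Set G) ∨
       ((Subgroup.centralizer ((P : Subgroup G) : Set G)).relIndex (Subgroup.normalizer ((P : Subgroup G) : Set G)) = 2 ∧
        ∀ Q : Subgroup G, Q ≤ P → Nat.card Q = p →
          IsMulCommutative ↥(Subgroup.centralizer (Q : Set G)) ∧
          ∀ x : G, x ∈ Subgroup.normalizer (Q : Set G) → x ∉ Subgroup.centralizer (Q : Set G) →
            orderOf x = 2 ∧ ∀ c : G, c ∈ Subgroup.centralizer (Q : Set G) → x * c * x⁻¹ = c⁻¹))) := by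
  have hcyc : IsCyclic P := by
    have hsub : Subsingleton (↥(P : Subgroup G) ⧸ (⊤ : Subgroup ↥(P : Subgroup G))) :=
      QuotientGroup.subsingleton_quotient_top
    obtain ⟨h1, h2⟩ := pbc_of_normal (p := p) (⊤ : Subgroup ↥(P : Subgroup G))
      (P.isPGroup'.to_subgroup _) isCyclic_of_subsingleton
    rcases hyp (P : Subgroup G) h1 h2 with hc | ⟨n, ⟨e⟩⟩
    · exact hc
    · exfalso
      have hc1 : Nat.card (P : Subgroup G) = 2 * p ^ n := by
        rw [Nat.card_congr e.toEquiv, DihedralGroup.nat_card]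
      obtain ⟨k, hk⟩ := P.isPGroup'.exists_card_eq
      rw [hk] at hc1
      have : 2 ∣ p ^ k := ⟨p ^ n, hc1⟩
      have := Nat.Prime.dvd_of_dvd_pow Nat.prime_two this
      exact hp ((Nat.prime_dvd_prime_iff_eq Nat.prime_two hpp.out).mp this).symm
  refine ⟨hcyc, ?_⟩
  by_cases hNC : Subgroup.normalizer ((P : Subgroup G) : Set G) =
      Subgroup.centralizer ((P : Subgroup G) : Set G)
  · left; exact hNC
  right
  have hle : Subgroup.centralizer ((P : Subgroup G) : Set G) ≤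
      Subgroup.normalizer ((P : Subgroup G) : Set G) := Subgroup.centralizer_le_normalizer _
  obtain ⟨x₀, hx₀N, hx₀C⟩ := SetLike.exists_of_lt (lt_of_le_of_ne hle (Ne.symm hNC))
  -- every element of `N(P) \ C(P)` inverts `P`
  have hinvP : ∀ x : G, x ∈ Subgroup.normalizer ((P : Subgroup G) : Set G) →
      x ∉ Subgroup.centralizer ((P : Subgroup G) : Set G) →
      orderOf x = 2 ∧ ∀ b ∈ (P : Subgroup G), x * b * x⁻¹ = b⁻¹ := by
    intro x hxN hxC
    rw [Subgroup.mem_centralizer_iff] at hxC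
    push Not at hxC
    obtain ⟨b₀, hb₀, hne⟩ := hxC
    exact lemma_X hp hyp (P : Subgroup G) P.isPGroup' x hxN b₀ hb₀ (fun h => hne h.symm)
  have hx₀ := hinvP x₀ hx₀N hx₀C
  refine ⟨?_, ?_⟩
  · show ((Subgroup.centralizer ((P : Subgroup G) : Set G)).subgroupOf
      (Subgroup.normalizer ((P : Subgroup G) : Set G))).index = 2
    rw [Subgroup.index_eq_two_iff]
    refine ⟨⟨x₀, hx₀N⟩, fun b => ?_⟩
    by_cases hb : (b : G) ∈ Subgroup.centralizer ((P : Subgroup G) : Set G)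
    · right
      refine ⟨hb, fun h => ?_⟩
      rw [Subgroup.mem_subgroupOf] at h
      have h' : (b : G) * x₀ ∈ Subgroup.centralizer ((P : Subgroup G) : Set G) := h
      have := mul_mem (inv_mem hb) h'
      rw [inv_mul_cancel_left] at this
      exact hx₀C this
    · left
      refine ⟨?_, hb⟩
      rw [Subgroup.mem_subgroupOf]
      show (b : G) * x₀ ∈ Subgroup.centralizer ((P : Subgroup G) : Set G)
      have hb' := hinvP b b.2 hb
      rw [Subgroup.mem_centralizer_iff]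
      intro h hh
      have e1 := hx₀.2 h hh
      have e2 := hb'.2 h⁻¹ (inv_mem hh)
      rw [inv_inv] at e2
      have e3 : (b : G) * x₀ * h * ((b : G) * x₀)⁻¹ = h := by
        have : (b : G) * x₀ * h * ((b : G) * x₀)⁻¹ = (b : G) * (x₀ * h * x₀⁻¹) * (b : G)⁻¹ := by
          group
        rw [this, e1, e2]
      calc h * ((b : G) * x₀) = ((b : G) * x₀ * h * ((b : G) * x₀)⁻¹) * ((b : G) * x₀) := by
            rw [e3]
        _ = (b : G) * x₀ * h := by group
  · intro Q hQP hQp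
    have hQpg : IsPGroup p Q := IsPGroup.of_card (n := 1) (by rw [hQp, pow_one])
    -- every element of `N(Q) \ C(Q)` is an involution
    have hord : ∀ x : G, x ∈ Subgroup.normalizer (Q : Set G) →
        x ∉ Subgroup.centralizer (Q : Set G) → orderOf x = 2 := by
      intro x hxN hxC
      rw [Subgroup.mem_centralizer_iff] at hxC
      push Not at hxC
      obtain ⟨b₀, hb₀, hne⟩ := hxC
      exact (lemma_X hp hyp Q hQpg x hxN b₀ hb₀ (fun h => hne h.symm)).1
    have hCN : Subgroup.centralizer (Q : Set G) ≤ Subgroup.normalizer (Q : Set G) :=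
      Subgroup.centralizer_le_normalizer _
    have hinvQ : ∀ x : G, x ∈ Subgroup.normalizer (Q : Set G) →
        x ∉ Subgroup.centralizer (Q : Set G) →
        ∀ c : G, c ∈ Subgroup.centralizer (Q : Set G) → x * c * x⁻¹ = c⁻¹ := by
      intro x hxN hxC c hc
      have h1 : orderOf x = 2 := hord x hxN hxC
      have h2 : orderOf (x * c) = 2 := by
        refine hord (x * c) (mul_mem hxN (hCN hc)) (fun h => hxC ?_)
        have := mul_mem h (inv_mem hc)
        rwa [mul_inv_cancel_right] at this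
      have h3 : x * x = 1 := Cfsg.Agent.Lib.Helper24.ti_sq_of_order h1
      have h4 : (x * c) * (x * c) = 1 := Cfsg.Agent.Lib.Helper24.ti_sq_of_order h2
      have h5 : x⁻¹ = x := Cfsg.Agent.Lib.Helper24.ti_inv_of_sq h3
      rw [h5]
      have h6 : x * c * x = (x * c * (x * c)) * c⁻¹ := by group
      rw [h6, h4, one_mul]
    -- `x₀` normalizes but does not centralize `Q`
    have hx₀Q : x₀ ∈ Subgroup.normalizer (Q : Set G) := by
      rw [Subgroup.mem_normalizer_iff]
      intro h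
      constructor
      · intro hh
        rw [hx₀.2 h (hQP hh)]; exact inv_mem hh
      · intro hh
        have h1 : h ∈ (P : Subgroup G) :=
          (Subgroup.mem_normalizer_iff.mp hx₀N h).mpr (hQP hh)
        rw [hx₀.2 h h1] at hh
        have := inv_mem hh
        rwa [inv_inv] at this
    have hx₀Q' : x₀ ∉ Subgroup.centralizer (Q : Set G) := by
      intro hcen
      rw [Subgroup.mem_centralizer_iff] at hcen
      -- a nontrivial element of `Q`
      have hQ1 : Q ≠ ⊥ := by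
        intro h
        rw [h, Subgroup.card_bot] at hQp
        exact hpp.out.one_lt.ne hQp
      obtain ⟨⟨q, hq⟩, hq1⟩ := (Subgroup.ne_bot_iff_exists_ne_one).mp hQ1
      have hq1' : q ≠ 1 := fun h => hq1 (Subtype.ext h)
      have h1 := hcen q hq
      have h2 := hx₀.2 q (hQP hq)
      have h3 : q⁻¹ = q := by
        rw [← h2, ← h1, mul_inv_cancel_right]
      have h4 : q * q = 1 := by
        nth_rewrite 1 [← h3]; exact inv_mul_cancel q
      have h6 : orderOf q ∣ 2 := orderOf_dvd_of_pow_eq_one (by rw [pow_two]; exact h4)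
      have h7 : orderOf q ∣ p := by
        have := Subgroup.orderOf_dvd_natCard Q hq
        rwa [hQp] at this
      have h8 : orderOf q ∣ Nat.gcd 2 p := Nat.dvd_gcd h6 h7
      have h9 : Nat.gcd 2 p = 1 :=
        (Nat.coprime_primes Nat.prime_two hpp.out).mpr (Ne.symm hp)
      rw [h9, Nat.dvd_one, orderOf_eq_one_iff] at h8
      exact hq1' h8
    refine ⟨⟨⟨fun a b => ?_⟩⟩, fun x hxN hxC => ⟨hord x hxN hxC, hinvQ x hxN hxC⟩⟩
    have ha := hinvQ x₀ hx₀Q hx₀Q' a a.2
    have hb := hinvQ x₀ hx₀Q hx₀Q' b b.2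
    have hab := hinvQ x₀ hx₀Q hx₀Q' (a * b) (mul_mem a.2 b.2)
    have e1 : x₀ * ((a : G) * b) * x₀⁻¹ = (x₀ * a * x₀⁻¹) * (x₀ * b * x₀⁻¹) := by group
    rw [e1, ha, hb, mul_inv_rev] at hab
    have e2 : (b : G) * a = a * b := by
      have := congrArg (fun z => z⁻¹) hab
      simpa using this
    exact Subtype.ext e2.symm


/-- with `[N(P) : C(P)] = 2` and `P` cyclic, normalizing elements centralize or invert `P` -/
theorem norm_cases {G : Type*} [Group G] [Finite G] {p : ℕ} [hpp : Fact p.Prime] (hp : p ≠ 2)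
    (P : Sylow p G) (hcyc : IsCyclic P)
    (hidx : (Subgroup.centralizer ((P : Subgroup G) : Set G)).relIndex
      (Subgroup.normalizer ((P : Subgroup G) : Set G)) = 2)
    (n : G) (hn : n ∈ Subgroup.normalizer ((P : Subgroup G) : Set G)) :
    (∀ h ∈ (P : Subgroup G), n * h * n⁻¹ = h) ∨ (∀ h ∈ (P : Subgroup G), n * h * n⁻¹ = h⁻¹) := by
  obtain ⟨t, ht⟩ := (Subgroup.isCyclic_iff_exists_zpowers_eq_top (P : Subgroup G)).mp hcyc
  have htP : t ∈ (P : Subgroup G) := by rw [← ht]; exact Subgroup.mem_zpowers t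
  have hot : orderOf t = Nat.card (P : Subgroup G) := by rw [← Nat.card_zpowers, ht]
  obtain ⟨k, hk⟩ := P.isPGroup'.exists_card_eq
  have h1 : n * t * n⁻¹ ∈ Subgroup.zpowers t := by
    rw [ht]; exact (Subgroup.mem_normalizer_iff.mp hn t).mp htP
  obtain ⟨m, hm⟩ := Subgroup.mem_zpowers_iff.mp h1
  have h2 : n * n ∈ Subgroup.centralizer ((P : Subgroup G) : Set G) := by
    have := Subgroup.mul_self_mem_of_index_two (H := (Subgroup.centralizer
      ((P : Subgroup G) : Set G)).subgroupOf (Subgroup.normalizer ((P : Subgroup G) : Set G)))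
      hidx ⟨n, hn⟩
    exact this
  have h3 : (n * n) * t * (n * n)⁻¹ = t := by
    have := Subgroup.mem_centralizer_iff.mp h2 t htP
    rw [← this, mul_inv_cancel_right]
  have h4 : (n * n) * t * (n * n)⁻¹ = t ^ (m * m) := by
    have : (n * n) * t * (n * n)⁻¹ = n * (n * t * n⁻¹) * n⁻¹ := by group
    rw [this, ← hm, ← conj_zpow, ← hm, ← zpow_mul]
  rw [h3] at h4
  have h5 : t ^ (m * m - 1) = 1 := by
    rw [zpow_sub, zpow_one, ← h4, mul_inv_cancel]
  have h6 : ((p ^ k : ℕ) : ℤ) ∣ m * m - 1 := by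
    rw [← hk, ← hot]; exact orderOf_dvd_iff_zpow_eq_one.mpr h5
  have hgen : ∀ h ∈ (P : Subgroup G), ∃ j : ℤ, h = t ^ j := by
    intro h hh
    rw [← ht] at hh
    obtain ⟨j, hj⟩ := Subgroup.mem_zpowers_iff.mp hh
    exact ⟨j, hj.symm⟩
  rcases int_sq_lemma hpp.out hp k m h6 with h7 | h7
  · left
    have h8 : t ^ (m - 1) = 1 := by
      rw [← hk, ← hot] at h7; exact orderOf_dvd_iff_zpow_eq_one.mp h7
    have h9 : t ^ m = t := by
      have : t ^ m = t ^ (m - 1) * t := by rw [← zpow_add_one]; congr 1; ring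
      rw [this, h8, one_mul]
    intro h hh
    obtain ⟨j, rfl⟩ := hgen h hh
    rw [← conj_zpow, ← hm, h9]
  · right
    have h8 : t ^ (m + 1) = 1 := by
      rw [← hk, ← hot] at h7; exact orderOf_dvd_iff_zpow_eq_one.mp h7
    have h9 : t ^ m = t⁻¹ := by
      rw [zpow_add_one] at h8
      exact eq_inv_of_mul_eq_one_left h8
    intro h hh
    obtain ⟨j, rfl⟩ := hgen h hh
    rw [← conj_zpow, ← hm, h9, inv_zpow]

/-- an element inverting `q` normalizes `⟨q⟩` -/
theorem mem_normalizer_zpowers_of_inv {G : Type*} [Group G] (c q : G)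
    (h : c * q * c⁻¹ = q⁻¹) : c ∈ Subgroup.normalizer ((Subgroup.zpowers q : Subgroup G) : Set G) := by
  have h' : c⁻¹ * q * c = q⁻¹ := by
    have : q = c⁻¹ * q⁻¹ * c := by rw [← h]; group
    have h2 : q⁻¹ = (c⁻¹ * q⁻¹ * c)⁻¹ := congrArg (fun z => z⁻¹) this
    rw [h2]; group
  rw [Subgroup.mem_normalizer_iff]
  intro x
  constructor
  · intro hx
    obtain ⟨j, rfl⟩ := Subgroup.mem_zpowers_iff.mp hx
    rw [← conj_zpow, h]
    exact zpow_mem (inv_mem (Subgroup.mem_zpowers q)) j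
  · intro hx
    obtain ⟨j, hj⟩ := Subgroup.mem_zpowers_iff.mp hx
    have : x = c⁻¹ * (q ^ j) * c := by rw [hj]; group
    rw [this]
    have e : c⁻¹ * q ^ j * c = (c⁻¹ * q * c) ^ j := by
      have := conj_zpow (a := c⁻¹) (b := q) (i := j)
      rw [inv_inv] at this
      exact this.symm
    rw [e, h']
    exact zpow_mem (inv_mem (Subgroup.mem_zpowers q)) j


/-- the right-hand side of the statement -/
def RHS {G : Type*} [Group G] {p : ℕ} [Fact p.Prime] (P : Sylow p G) : Prop :=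
  (IsCyclic P ∧
      (Subgroup.normalizer ((P : Subgroup G) : Set G) = Subgroup.centralizer ((P : Subgroup G) : Set G) ∨
       ((Subgroup.centralizer ((P : Subgroup G) : Set G)).relIndex (Subgroup.normalizer ((P : Subgroup G) : Set G)) = 2 ∧
        ∀ Q : Subgroup G, Q ≤ P → Nat.card Q = p →
          IsMulCommutative ↥(Subgroup.centralizer (Q : Set G)) ∧
          ∀ x : G, x ∈ Subgroup.normalizer (Q : Set G) → x ∉ Subgroup.centralizer (Q : Set G) →
            orderOf x = 2 ∧ ∀ c : G, c ∈ Subgroup.centralizer (Q : Set G) → x * c * x⁻¹ = c⁻¹)))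

/-- an element normalizing a cyclic subgroup `⟨s⟩ ≤ P` centralizes it or is an involution
inverting it -/
theorem core {G : Type*} [Group G] [Finite G] {p : ℕ} [hpp : Fact p.Prime] (hp : p ≠ 2)
    (P : Sylow p G) (hR : RHS P) (s c : G) (hs : s ∈ (P : Subgroup G))
    (hcs : c * s * c⁻¹ ∈ Subgroup.zpowers s) :
    c * s * c⁻¹ = s ∨ (orderOf c = 2 ∧ c * s * c⁻¹ = s⁻¹) := by
  obtain ⟨hcyc, hrest⟩ := hR
  haveI : IsCyclic ↥(P : Subgroup G) := hcyc
  have hcsP : c * s * c⁻¹ ∈ (P : Subgroup G) := by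
    have : Subgroup.zpowers s ≤ (P : Subgroup G) := by rw [Subgroup.zpowers_le]; exact hs
    exact this hcs
  obtain ⟨n, hn0, hconj⟩ := P.conj_eq_normalizer_conj_of_mem s c⁻¹ hs (by rw [inv_inv]; exact hcsP)
  have hn : n ∈ Subgroup.normalizer ((P : Subgroup G) : Set G) := hn0
  rw [inv_inv] at hconj
  rcases hrest with hNC | ⟨hidx, hQ⟩
  · left
    rw [hNC] at hn
    have := Subgroup.mem_centralizer_iff.mp hn s hs
    rw [hconj, mul_assoc, this, inv_mul_cancel_left]
  · have hn' : n⁻¹ ∈ Subgroup.normalizer ((P : Subgroup G) : Set G) := inv_mem hn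
    rcases norm_cases hp P hcyc hidx n⁻¹ hn' with h1 | h2
    · left
      have := h1 s hs
      rw [inv_inv] at this
      rw [hconj, this]
    · have hinv : c * s * c⁻¹ = s⁻¹ := by
        have := h2 s hs
        rw [inv_inv] at this
        rw [hconj, this]
      by_cases hs1 : s = 1
      · left; rw [hs1]; group
      right
      refine ⟨?_, hinv⟩
      -- the subgroup of order `p` in `⟨s⟩`
      obtain ⟨k, hk⟩ := P.isPGroup' ⟨s, hs⟩
      have hk' : s ^ (p ^ k) = 1 := by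
        have := congrArg Subtype.val hk
        simpa using this
      obtain ⟨j, hj, hoj⟩ := (Nat.dvd_prime_pow hpp.out).mp (orderOf_dvd_of_pow_eq_one hk')
      have hj0 : j ≠ 0 := by
        rintro rfl
        rw [pow_zero, orderOf_eq_one_iff] at hoj
        exact hs1 hoj
      obtain ⟨i, rfl⟩ := Nat.exists_eq_succ_of_ne_zero hj0
      set q := s ^ (p ^ i) with hq
      have hoq : orderOf q = p := by
        rw [hq, orderOf_pow_of_dvd (pow_ne_zero _ hpp.out.ne_zero) (by rw [hoj]; exact pow_dvd_pow p (Nat.le_succ i)), hoj,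
          pow_succ, Nat.mul_div_cancel_left _ (pow_pos hpp.out.pos i)]
      have hqP : q ∈ (P : Subgroup G) := pow_mem hs _
      have hqinv : c * q * c⁻¹ = q⁻¹ := by
        rw [hq, ← conj_pow, hinv, inv_pow]
      have hQP : Subgroup.zpowers q ≤ (P : Subgroup G) := by
        rw [Subgroup.zpowers_le]; exact hqP
      have hQc : Nat.card (Subgroup.zpowers q) = p := by rw [Nat.card_zpowers, hoq]
      obtain ⟨-, hx⟩ := hQ (Subgroup.zpowers q) hQP hQc
      refine (hx c (mem_normalizer_zpowers_of_inv c q hqinv) (fun hcen => ?_)).1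
      have h1 := Subgroup.mem_centralizer_iff.mp hcen q (Subgroup.mem_zpowers q)
      have h3 : q⁻¹ = q := by
        rw [← hqinv, ← h1, mul_inv_cancel_right]
      have h4 : q * q = 1 := by
        nth_rewrite 1 [← h3]; exact inv_mul_cancel q
      have h6 : orderOf q ∣ 2 := orderOf_dvd_of_pow_eq_one (by rw [pow_two]; exact h4)
      rw [hoq] at h6
      exact hp ((Nat.prime_dvd_prime_iff_eq hpp.out Nat.prime_two).mp h6)


theorem backward {G : Type*} [Group G] [Finite G] {p : ℕ} [hpp : Fact p.Prime] (hp : p ≠ 2)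
    (P : Sylow p G) (hR : RHS P) : Hyp G p := by
  intro H hn hq
  obtain ⟨S₀⟩ : Nonempty (Sylow p ↥H) := inferInstance
  haveI := hn S₀
  have hQ2 : IsPGroup p ((S₀ : Subgroup ↥H).map H.subtype) := S₀.2.map _
  obtain ⟨P', hP'⟩ := hQ2.exists_le_sylow
  obtain ⟨g, rfl⟩ := MulAction.exists_smul_eq G P P'
  have e₁ : ↥(S₀ : Subgroup ↥H) ≃* ↥((S₀ : Subgroup ↥H).map H.subtype) :=
    Subgroup.equivMapOfInjective _ _ H.subtype_injective
  have e₃ := P.equivSMul g
  have hcycS : IsCyclic (S₀ : Subgroup ↥H) := by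
    haveI : IsCyclic ↥(P : Subgroup G) := hR.1
    haveI : IsCyclic ↥((g • P : Sylow p G) : Subgroup G) := isCyclic_of_surjective e₃ e₃.surjective
    haveI : IsCyclic ↥((S₀ : Subgroup ↥H).map H.subtype) := Subgroup.isCyclic_of_le hP'
    exact isCyclic_of_surjective e₁.symm e₁.symm.surjective
  obtain ⟨s₀, hs₀⟩ := (Subgroup.isCyclic_iff_exists_zpowers_eq_top (S₀ : Subgroup ↥H)).mp hcycS
  have hs₀S : s₀ ∈ (S₀ : Subgroup ↥H) := by rw [← hs₀]; exact Subgroup.mem_zpowers s₀
  have hos : orderOf s₀ = Nat.card (S₀ : Subgroup ↥H) := by rw [← Nat.card_zpowers, hs₀]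
  obtain ⟨k, hk⟩ := S₀.2.exists_card_eq
  obtain ⟨c₀, hcop, hmeet, hgen, hcard⟩ :=
    exists_cyclic_complement_p (S₀ : Subgroup ↥H) S₀.2 S₀.not_dvd_index (hq S₀)
  have hnorm : c₀ * s₀ * c₀⁻¹ ∈ Subgroup.zpowers s₀ := by
    rw [hs₀]
    exact (inferInstance : (S₀ : Subgroup ↥H).Normal).conj_mem s₀ hs₀S c₀
  obtain ⟨i, hi⟩ := Subgroup.mem_zpowers_iff.mp hnorm
  -- transport to `G` and conjugate into `P`
  have hsP' : (s₀ : G) ∈ ((g • P : Sylow p G) : Subgroup G) := hP' ⟨s₀, hs₀S, rfl⟩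
  rw [Sylow.coe_subgroup_smul, Subgroup.mem_smul_pointwise_iff_exists] at hsP'
  obtain ⟨s', hs', hs'eq⟩ := hsP'
  rw [MulAut.smul_def, MulAut.conj_apply] at hs'eq
  have hs'eq2 : s' = g⁻¹ * (s₀ : G) * g := by rw [← hs'eq]; group
  have hcs' : (g⁻¹ * (c₀ : G) * g) * s' * (g⁻¹ * (c₀ : G) * g)⁻¹ ∈ Subgroup.zpowers s' := by
    have h1 : (g⁻¹ * (c₀ : G) * g) * s' * (g⁻¹ * (c₀ : G) * g)⁻¹ =
        g⁻¹ * ((c₀ : G) * (s₀ : G) * (c₀ : G)⁻¹) * g := by rw [hs'eq2]; group
    have h2 : (c₀ : G) * (s₀ : G) * (c₀ : G)⁻¹ = (s₀ : G) ^ i := by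
      have := congrArg Subtype.val hi
      simpa using this.symm
    rw [h1, h2]
    have h3 : g⁻¹ * (s₀ : G) ^ i * g = s' ^ i := by
      rw [hs'eq2]
      have := conj_zpow (a := g⁻¹) (b := (s₀ : G)) (i := i)
      rw [inv_inv] at this
      exact this.symm
    rw [h3]
    exact zpow_mem (Subgroup.mem_zpowers s') i
  have hcoreS := core hp P hR s' (g⁻¹ * (c₀ : G) * g) hs' hcs'
  have hback : ∀ z : G, (g⁻¹ * (c₀ : G) * g) * s' * (g⁻¹ * (c₀ : G) * g)⁻¹ = g⁻¹ * z * g →
      (c₀ : G) * (s₀ : G) * (c₀ : G)⁻¹ = z := by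
    intro z hz
    have h1 : (g⁻¹ * (c₀ : G) * g) * s' * (g⁻¹ * (c₀ : G) * g)⁻¹ =
        g⁻¹ * ((c₀ : G) * (s₀ : G) * (c₀ : G)⁻¹) * g := by rw [hs'eq2]; group
    rw [h1] at hz
    have := congrArg (fun w => g * w * g⁻¹) hz
    have e1 : g * (g⁻¹ * ((c₀ : G) * (s₀ : G) * (c₀ : G)⁻¹) * g) * g⁻¹ =
      (c₀ : G) * (s₀ : G) * (c₀ : G)⁻¹ := by group
    have e2 : g * (g⁻¹ * z * g) * g⁻¹ = z := by group
    change g * (g⁻¹ * ((c₀ : G) * (s₀ : G) * (c₀ : G)⁻¹) * g) * g⁻¹ = g * (g⁻¹ * z * g) * g⁻¹ at this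
    rw [e1, e2] at this
    exact this
  have hcopsc : (orderOf s₀).Coprime (orderOf c₀) := by
    rw [hos, hk]; exact Nat.Coprime.pow_left _ hcop.symm
  rcases hcoreS with h1 | ⟨h1, h2⟩
  · left
    have h3 := hback (s₀ : G) (by rw [h1, hs'eq2])
    have h4 : c₀ * s₀ * c₀⁻¹ = s₀ := Subtype.ext (by simpa using h3)
    have hcomm : Commute s₀ c₀ := by
      show s₀ * c₀ = c₀ * s₀
      calc s₀ * c₀ = (c₀ * s₀ * c₀⁻¹) * c₀ := by rw [h4]
        _ = c₀ * s₀ := by group
    exact cyclic_of_commute s₀ c₀ hcomm hcopsc (by rw [hos]; exact hcard)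
  · right
    have h3 := hback ((s₀ : G)⁻¹) (by rw [h2, hs'eq2]; group)
    have h4 : c₀ * s₀ * c₀⁻¹ = s₀⁻¹ := Subtype.ext (by simpa using h3)
    have h5 : orderOf c₀ = 2 := by
      have e1 : g⁻¹ * (c₀ : G) * g = MulAut.conj g⁻¹ (c₀ : G) := by
        rw [MulAut.conj_apply, inv_inv]
      rw [e1, MulEquiv.orderOf_eq, Subgroup.orderOf_coe] at h1
      exact h1
    obtain ⟨e⟩ := dihedral_of_invert s₀ c₀ h5 h4 (by rw [hs₀]; exact hmeet) (by rw [hs₀]; exact hgen)
    rw [hos, hk] at e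
    exact ⟨k, ⟨e⟩⟩

/-- Let p be an odd prime and G a finite group with Sylow p-subgroup P. Say that G has restricted p-by-cyclic subgroups when every subgroup H of G whose Sylow p-subgroup is normal in H with cyclic quotient is itself cyclic or dihedral of order 2pⁿ for some n. Then G has restricted p-by-cyclic subgroups if and only if P is cyclic and one of the following holds: (1) N_G(P) = C_G(P); or (2) N_G(P)/C_G(P) has order 2 and, for the subgroup Q of order p of P, the centralizer C_G(Q) is abelian and every element of N_G(Q) outside C_G(Q) is an involution inverting every element of C_G(Q). -/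
theorem result {G : Type*} [Group G] [Finite G] {p : ℕ}
    [Fact p.Prime] (hp : p ≠ 2) (P : Sylow p G) :
    (∀ H : Subgroup G, (∀ S : Sylow p ↥H, (S : Subgroup ↥H).Normal) →
        (∀ (S : Sylow p ↥H) [(S : Subgroup ↥H).Normal], IsCyclic (↥H ⧸ (S : Subgroup ↥H))) →
        IsCyclic H ∨ (∃ n : ℕ, Nonempty (H ≃* DihedralGroup (p ^ n)))) ↔
    (IsCyclic P ∧
      (Subgroup.normalizer ((P : Subgroup G) : Set G) = Subgroup.centralizer ((P : Subgroup G) : Set G) ∨
       ((Subgroup.centralizer ((P : Subgroup G) : Set G)).relIndex (Subgroup.normalizer ((P : Subgroup G) : Set G)) = 2 ∧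
        ∀ Q : Subgroup G, Q ≤ P → Nat.card Q = p →
          IsMulCommutative ↥(Subgroup.centralizer (Q : Set G)) ∧
          ∀ x : G, x ∈ Subgroup.normalizer (Q : Set G) → x ∉ Subgroup.centralizer (Q : Set G) →
            orderOf x = 2 ∧ ∀ c : G, c ∈ Subgroup.centralizer (Q : Set G) → x * c * x⁻¹ = c⁻¹))) := by
  exact ⟨fun h => forward hp P h, fun h => backward hp P h⟩

end Cfsg.Agent.S4082
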