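import Mathlib
import Cfsg.Statements.S4083
import Cfsg.Agent.Lib.Helper21.TwoByCyc
import Cfsg.Agent.Lib.Helper21.SympD

set_option autoImplicit false
open Cfsg

namespace Cfsg.Agent.S4083

open Cfsg.Agent.Lib.Helper21.DihType Cfsg.Agent.Lib.Helper21.TwoByCyc
open scoped Pointwise

/-- the four-group condition transfers to conjugate Sylow subgroups -/
theorem conj_hyp {G : Type*} [Group G] [Finite G] (P : Sylow 2 G)
    (hK : ∀ K : Subgroup G, K ≤ P → Nat.card K = 4 → (∀ k ∈ K, k ^ 2 = 1) →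
      Subgroup.centralizer (K : Set G) = K) (g : G) :
    ∀ K : Subgroup G, K ≤ ((g • P : Sylow 2 G) : Subgroup G) → Nat.card K = 4 →
      (∀ k ∈ K, k ^ 2 = 1) → Subgroup.centralizer (K : Set G) ≤ K := by
  intro K hKP hK4 hKe
  set φ : G ≃* G := MulAut.conj g⁻¹ with hφ
  have hφa : ∀ x : G, φ x = g⁻¹ * x * g := by
    intro x; rw [hφ, MulAut.conj_apply, inv_inv]
  have h1 : K.map φ.toMonoidHom ≤ P := by
    rintro _ ⟨k, hk, rfl⟩
    have := hKP hk
    rw [Sylow.coe_subgroup_smul, Subgroup.mem_smul_pointwise_iff_exists] at this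
    obtain ⟨s, hs, rfl⟩ := this
    show φ (MulAut.conj g • s) ∈ (P : Subgroup G)
    rw [hφa, MulAut.smul_def, MulAut.conj_apply]
    have e : g⁻¹ * (g * s * g⁻¹) * g = s := by group
    rw [e]; exact hs
  have h2 : Nat.card (K.map φ.toMonoidHom) = 4 := by
    rw [Subgroup.card_map_of_injective φ.injective]; exact hK4
  have h3 : ∀ k ∈ K.map φ.toMonoidHom, k ^ 2 = 1 := by
    rintro _ ⟨k, hk, rfl⟩
    show (φ k) ^ 2 = 1
    rw [← map_pow, hKe k hk, map_one]
  have h4 := hK _ h1 h2 h3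
  intro x hx
  have hx' : φ x ∈ Subgroup.centralizer ((K.map φ.toMonoidHom : Subgroup G) : Set G) := by
    rw [Subgroup.mem_centralizer_iff]
    rintro _ ⟨k, hk, rfl⟩
    show φ k * φ x = φ x * φ k
    rw [← map_mul, ← map_mul]
    rw [Subgroup.mem_centralizer_iff] at hx
    rw [hx k hk]
  rw [h4] at hx'
  obtain ⟨k, hk, hkx⟩ := hx'
  have : k = x := φ.injective hkx
  rw [← this]; exact hk


theorem backward {G : Type*} [Group G] [Finite G] (P : Sylow 2 G)
    (hP : IsCyclic P ∨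
      ((∃ n : ℕ, 1 ≤ n ∧ Nonempty ((P : Subgroup G) ≃* DihedralGroup (2 ^ n))) ∧
        ∀ K : Subgroup G, K ≤ P → Nat.card K = 4 → (∀ k ∈ K, k ^ 2 = 1) →
          Subgroup.centralizer (K : Set G) = K))
    (H : Subgroup G) (hn : ∀ S : Sylow 2 ↥H, (S : Subgroup ↥H).Normal)
    (hq : ∀ (S : Sylow 2 ↥H) [(S : Subgroup ↥H).Normal], IsCyclic (↥H ⧸ (S : Subgroup ↥H))) :
    IsCyclic H ∨ (∃ n : ℕ, Nonempty (H ≃* DihedralGroup (2 ^ n))) ∨
      Nonempty (H ≃* alternatingGroup (Fin 4)) := by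
  haveI : Fact (Nat.Prime 2) := ⟨Nat.prime_two⟩
  obtain ⟨S₀⟩ : Nonempty (Sylow 2 ↥H) := inferInstance
  haveI := hn S₀
  have hQ2 : IsPGroup 2 ((S₀ : Subgroup ↥H).map H.subtype) := S₀.2.map _
  obtain ⟨P', hP'⟩ := hQ2.exists_le_sylow
  obtain ⟨g, rfl⟩ := MulAction.exists_smul_eq G P P'
  have e₁ : ↥(S₀ : Subgroup ↥H) ≃* ↥((S₀ : Subgroup ↥H).map H.subtype) :=
    Subgroup.equivMapOfInjective _ _ H.subtype_injective
  have e₂ := Subgroup.subgroupOfEquivOfLe hP'
  have e₃ := P.equivSMul g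
  have hstr : IsCyclic (S₀ : Subgroup ↥H) ∨ Nonempty (DT (S₀ : Subgroup ↥H)) := by
    rcases hP with hc | ⟨⟨n, -, ⟨e⟩⟩, -⟩
    · left
      haveI : IsCyclic ↥((g • P : Sylow 2 G) : Subgroup G) := isCyclic_of_surjective e₃ e₃.surjective
      haveI : IsCyclic ↥((S₀ : Subgroup ↥H).map H.subtype) := Subgroup.isCyclic_of_le hP'
      exact isCyclic_of_surjective e₁.symm e₁.symm.surjective
    · have D : DT ↥((g • P : Sylow 2 G) : Subgroup G) :=
        ((dihedral (2 ^ n)).ofEquiv e.symm).ofEquiv e₃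
      rcases subgroup D (((S₀ : Subgroup ↥H).map H.subtype).subgroupOf
        ((g • P : Sylow 2 G) : Subgroup G)) with h | ⟨⟨D'⟩⟩
      · left
        exact isCyclic_of_surjective (e₂.trans e₁.symm) (e₂.trans e₁.symm).surjective
      · right
        exact ⟨D'.ofEquiv (e₂.trans e₁.symm)⟩
  have hF : ∀ K : Subgroup ↥H, K ≤ (S₀ : Subgroup ↥H) → Nat.card K = 4 → (∀ k ∈ K, k ^ 2 = 1) →
      Subgroup.centralizer (K : Set ↥H) ≤ K := by
    intro K hKS hK4 hKe
    rcases hP with hc | ⟨-, hK⟩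
    · exfalso
      haveI : IsCyclic ↥((g • P : Sylow 2 G) : Subgroup G) := isCyclic_of_surjective e₃ e₃.surjective
      haveI : IsCyclic ↥((S₀ : Subgroup ↥H).map H.subtype) := Subgroup.isCyclic_of_le hP'
      haveI : IsCyclic ↥(S₀ : Subgroup ↥H) := isCyclic_of_surjective e₁.symm e₁.symm.surjective
      haveI : IsCyclic K := Subgroup.isCyclic_of_le hKS
      obtain ⟨k₀, hk₀⟩ := (Subgroup.isCyclic_iff_exists_zpowers_eq_top K).mp inferInstance
      have h1 : orderOf k₀ = 4 := by rw [← Nat.card_zpowers, hk₀, hK4]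
      have h2 : orderOf k₀ ∣ 2 :=
        orderOf_dvd_of_pow_eq_one (hKe k₀ (by rw [← hk₀]; exact Subgroup.mem_zpowers k₀))
      rw [h1] at h2
      omega
    · have hc := conj_hyp P hK g (K.map H.subtype)
        (le_trans (Subgroup.map_mono hKS) hP')
        (by rw [Subgroup.card_map_of_injective H.subtype_injective]; exact hK4)
        (by
          rintro _ ⟨k, hk, rfl⟩
          show (H.subtype k) ^ 2 = 1
          rw [← map_pow, hKe k hk, map_one])
      intro y hy
      have hy' : (y : G) ∈ Subgroup.centralizer ((K.map H.subtype : Subgroup G) : Set G) := by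
        rw [Subgroup.mem_centralizer_iff]
        rintro _ ⟨k, hk, rfl⟩
        rw [Subgroup.mem_centralizer_iff] at hy
        have := congrArg Subtype.val (hy k hk)
        simpa using this
      obtain ⟨k, hk, hky⟩ := hc hy'
      have : k = y := Subtype.ext hky
      rw [← this]; exact hk
  exact main_lemma (S₀ : Subgroup ↥H) S₀.2 S₀.not_dvd_index (hq S₀) hstr hF


theorem a4_noncomm : ∃ a b : alternatingGroup (Fin 4), a * b ≠ b * a :=
  ⟨⟨Equiv.swap 0 1 * Equiv.swap 1 2, Equiv.Perm.mem_alternatingGroup.mpr (by decide)⟩,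
   ⟨Equiv.swap 0 1 * Equiv.swap 1 3, Equiv.Perm.mem_alternatingGroup.mpr (by decide)⟩, by decide⟩

theorem a4_card : Nat.card (alternatingGroup (Fin 4)) = 12 := by
  rw [nat_card_alternatingGroup, Nat.card_fin]; rfl

/-- a cyclic group of order four has an element of order four -/
theorem four_cyclic_absurd {X : Type*} [Group X] (hc : IsCyclic X) (h4 : Nat.card X = 4)
    (he : ∀ x : X, x ^ 2 = 1) : False := by
  obtain ⟨g, hg⟩ := hc.exists_generator
  have h1 : orderOf g = 4 := by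
    rw [← h4, ← Nat.card_zpowers]
    exact Nat.card_congr (Equiv.subtypeUnivEquiv hg)
  have h2 : orderOf g ∣ 2 := orderOf_dvd_of_pow_eq_one (he g)
  rw [h1] at h2
  omega

/-- the side conditions hold for `2`-subgroups -/
theorem two_group_hyp {G : Type*} [Group G] [Finite G] (H : Subgroup G) (hH : IsPGroup 2 H) :
    (∀ S : Sylow 2 ↥H, (S : Subgroup ↥H).Normal) ∧
      (∀ (S : Sylow 2 ↥H) [(S : Subgroup ↥H).Normal], IsCyclic (↥H ⧸ (S : Subgroup ↥H))) := by
  have htop : ∀ S : Sylow 2 ↥H, (S : Subgroup ↥H) = ⊤ := fun S =>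
    (S.is_maximal' (hH.to_subgroup ⊤) le_top).symm
  refine ⟨fun S => ?_, fun S _ => ?_⟩
  · rw [htop S]; infer_instance
  · have h1 : Nat.card (↥H ⧸ (S : Subgroup ↥H)) = 1 := Subgroup.index_eq_one.mpr (htop S)
    haveI : Subsingleton (↥H ⧸ (S : Subgroup ↥H)) := (Nat.card_eq_one_iff_unique.mp h1).1
    exact isCyclic_of_subsingleton

theorem not_two_pow_twelve (k : ℕ) : 2 ^ k ≠ 12 := by
  intro h
  have h3 : 3 ∣ 2 ^ k := by rw [h]; norm_num
  have := Nat.Prime.dvd_of_dvd_pow Nat.prime_three h3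
  omega


/-- a four-group cannot be centralised by an element of odd prime order -/
theorem odd_case {G : Type*} [Group G] [Finite G]
    (hyp : ∀ H : Subgroup G, (∀ S : Sylow 2 ↥H, (S : Subgroup ↥H).Normal) →
        (∀ (S : Sylow 2 ↥H) [(S : Subgroup ↥H).Normal], IsCyclic (↥H ⧸ (S : Subgroup ↥H))) →
        IsCyclic H ∨ (∃ n : ℕ, Nonempty (H ≃* DihedralGroup (2 ^ n))) ∨
          Nonempty (H ≃* alternatingGroup (Fin 4)))
    (K : Subgroup G) (hK4 : Nat.card K = 4) (hKe : ∀ k ∈ K, k ^ 2 = 1)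
    (hKc : ∀ a ∈ K, ∀ b ∈ K, a * b = b * a)
    (x : G) (hx : ∀ k ∈ K, k * x = x * k) (s : ℕ) (hs : s.Prime) (hs2 : s ≠ 2)
    (hxs : orderOf x = s) : False := by
  haveI : Fact (Nat.Prime 2) := ⟨Nat.prime_two⟩
  set H : Subgroup G := K ⊔ Subgroup.zpowers x with hH
  have hKH : K ≤ H := le_sup_left
  have hxH : x ∈ H := (le_sup_right : Subgroup.zpowers x ≤ H) (Subgroup.mem_zpowers x)
  have hdec : ∀ y ∈ H, ∃ k ∈ K, ∃ j : ℤ, y = k * x ^ j :=
    Cfsg.Agent.Lib.Helper21.Symp.exists_mul_zpow_of_mem_sup K x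
      (fun b hb => by rw [← hx b hb, mul_inv_cancel_right]; exact hb)
      (fun b hb => by rw [mul_assoc, hx b hb, inv_mul_cancel_left]; exact hb)
  have hHc : ∀ a b : ↥H, a * b = b * a := by
    rintro ⟨a, ha⟩ ⟨b, hb⟩
    apply Subtype.ext
    show a * b = b * a
    obtain ⟨k, hk, i, rfl⟩ := hdec a ha
    obtain ⟨k', hk', j, rfl⟩ := hdec b hb
    have c1 : Commute k k' := hKc k hk k' hk'
    have c2 : Commute k (x ^ j) := (show Commute k x from hx k hk).zpow_right j
    have c3 : Commute (x ^ i) k' := ((show Commute k' x from hx k' hk').zpow_right i).symm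
    have c4 : Commute (x ^ i) (x ^ j) := ((Commute.refl x).zpow_right j).zpow_left i
    exact ((c1.mul_right c2).mul_left (c3.mul_right c4)).eq
  have hnorm : ∀ S : Sylow 2 ↥H, (S : Subgroup ↥H).Normal := by
    intro S
    refine ⟨fun n hn h => ?_⟩
    rw [hHc h n, mul_inv_cancel_right]; exact hn
  have hquot : ∀ (S : Sylow 2 ↥H) [(S : Subgroup ↥H).Normal],
      IsCyclic (↥H ⧸ (S : Subgroup ↥H)) := by
    intro S _
    haveI : (K.subgroupOf H).Normal := by
      refine ⟨fun n hn h => ?_⟩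
      rw [hHc h n, mul_inv_cancel_right]; exact hn
    have hK2 : IsPGroup 2 (K.subgroupOf H) := by
      have : IsPGroup 2 K := IsPGroup.of_card (n := 2) (by rw [hK4]; norm_num)
      exact this.comap_subtype
    have hKS : K.subgroupOf H ≤ S := hK2.le_sylow_of_normal S
    refine ⟨⟨QuotientGroup.mk ⟨x, hxH⟩, fun q => ?_⟩⟩
    obtain ⟨⟨y, hy⟩, rfl⟩ := QuotientGroup.mk_surjective q
    obtain ⟨k, hk, j, rfl⟩ := hdec y hy
    refine ⟨j, ?_⟩
    show (QuotientGroup.mk (⟨x, hxH⟩ : ↥H) : ↥H ⧸ (S : Subgroup ↥H)) ^ j =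
      QuotientGroup.mk (⟨k * x ^ j, hy⟩ : ↥H)
    rw [← QuotientGroup.mk_zpow, QuotientGroup.eq]
    apply hKS
    rw [Subgroup.mem_subgroupOf]
    have e : (((⟨x, hxH⟩ : ↥H) ^ j)⁻¹ * ⟨k * x ^ j, hy⟩ : ↥H).1 = (x ^ j)⁻¹ * (k * x ^ j) := by
      simp
    rw [e]
    have c2 : Commute k (x ^ j) := (show Commute k x from hx k hk).zpow_right j
    rw [c2.eq, inv_mul_cancel_left]
    exact hk
  rcases hyp H hnorm hquot with h | ⟨n, ⟨e⟩⟩ | ⟨⟨e⟩⟩
  · haveI := h
    haveI : IsCyclic K := Subgroup.isCyclic_of_le hKH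
    exact four_cyclic_absurd inferInstance hK4 (fun k => Subtype.ext (by
      show (k : G) ^ 2 = 1
      exact hKe k k.2))
  · have h1 : Nat.card H = 2 ^ (n + 1) := by
      rw [Nat.card_congr e.toEquiv, DihedralGroup.nat_card, pow_succ]; ring
    have h2 : s ∣ Nat.card H := by
      have := orderOf_dvd_natCard (⟨x, hxH⟩ : ↥H)
      rwa [Subgroup.orderOf_mk, hxs] at this
    rw [h1] at h2
    have := (Nat.prime_dvd_prime_iff_eq hs Nat.prime_two).mp (hs.dvd_of_dvd_pow h2)
    exact hs2 this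
  · obtain ⟨a, b, hab⟩ := a4_noncomm
    apply hab
    have := hHc (e.symm a) (e.symm b)
    rw [← map_mul, ← map_mul] at this
    exact e.symm.injective this


theorem forward {G : Type*} [Group G] [Finite G] (P : Sylow 2 G)
    (hyp : ∀ H : Subgroup G, (∀ S : Sylow 2 ↥H, (S : Subgroup ↥H).Normal) →
        (∀ (S : Sylow 2 ↥H) [(S : Subgroup ↥H).Normal], IsCyclic (↥H ⧸ (S : Subgroup ↥H))) →
        IsCyclic H ∨ (∃ n : ℕ, Nonempty (H ≃* DihedralGroup (2 ^ n))) ∨
          Nonempty (H ≃* alternatingGroup (Fin 4))) :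
    IsCyclic P ∨
      ((∃ n : ℕ, 1 ≤ n ∧ Nonempty ((P : Subgroup G) ≃* DihedralGroup (2 ^ n))) ∧
        ∀ K : Subgroup G, K ≤ P → Nat.card K = 4 → (∀ k ∈ K, k ^ 2 = 1) →
          Subgroup.centralizer (K : Set G) = K) := by
  haveI : Fact (Nat.Prime 2) := ⟨Nat.prime_two⟩
  have h2grp : ∀ H : Subgroup G, IsPGroup 2 H →
      IsCyclic H ∨ ∃ n : ℕ, Nonempty (H ≃* DihedralGroup (2 ^ n)) := by
    intro H hH
    obtain ⟨h1, h2⟩ := two_group_hyp H hH
    rcases hyp H h1 h2 with h | h | ⟨⟨e⟩⟩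
    · left; exact h
    · right; exact h
    · exfalso
      obtain ⟨k, hk⟩ := hH.exists_card_eq
      rw [Nat.card_congr e.toEquiv, a4_card] at hk
      exact not_two_pow_twelve k hk.symm
  rcases h2grp P P.2 with hc | ⟨n, ⟨e⟩⟩
  · left; exact hc
  rcases n with _ | n
  · left
    have : Nat.card (P : Subgroup G) = 2 := by
      rw [Nat.card_congr e.toEquiv, DihedralGroup.nat_card]; norm_num
    exact isCyclic_of_prime_card this
  right
  refine ⟨⟨n + 1, by omega, ⟨e⟩⟩, ?_⟩
  intro K hKP hK4 hKe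
  have hinv : ∀ k ∈ K, k⁻¹ = k := fun k hk =>
    inv_eq_of_mul_eq_one_left (by rw [← pow_two]; exact hKe k hk)
  have hKc : ∀ a ∈ K, ∀ b ∈ K, a * b = b * a := by
    intro a ha b hb
    have h1 := hinv _ (mul_mem ha hb)
    rw [mul_inv_rev, hinv a ha, hinv b hb] at h1
    exact h1.symm
  have hKle : K ≤ Subgroup.centralizer (K : Set G) := by
    intro k hk
    rw [Subgroup.mem_centralizer_iff]
    intro h hh
    exact hKc h hh k hk
  apply le_antisymm _ hKle
  -- the centraliser is a 2-group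
  have hC2 : IsPGroup 2 (Subgroup.centralizer (K : Set G)) := by
    by_contra hnot
    have hex : ∃ s : ℕ, s.Prime ∧ s ∣ Nat.card (Subgroup.centralizer (K : Set G)) ∧ s ≠ 2 := by
      by_contra hcon
      apply hnot
      have := Nat.eq_prime_pow_of_unique_prime_dvd (p := 2)
        (Nat.card_pos (α := Subgroup.centralizer (K : Set G))).ne' (fun {d} hd hdvd => by
          by_contra hd2
          exact hcon ⟨d, hd, hdvd, hd2⟩)
      exact IsPGroup.of_card this
    obtain ⟨s, hs, hsdvd, hs2⟩ := hex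
    haveI : Fact s.Prime := ⟨hs⟩
    obtain ⟨⟨x, hxC⟩, hxs⟩ := exists_prime_orderOf_dvd_card' s hsdvd
    rw [Subgroup.orderOf_mk] at hxs
    rw [Subgroup.mem_centralizer_iff] at hxC
    exact odd_case hyp K hK4 hKe hKc x hxC s hs hs2 hxs
  rcases h2grp _ hC2 with hc | ⟨n', ⟨e'⟩⟩
  · exfalso
    haveI := hc
    haveI : IsCyclic K := Subgroup.isCyclic_of_le hKle
    exact four_cyclic_absurd inferInstance hK4 (fun k => Subtype.ext (by
      show (k : G) ^ 2 = 1
      exact hKe k k.2))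
  · -- dihedral centraliser
    set C := Subgroup.centralizer (K : Set G) with hC
    have D : DT ↥C := (dihedral (2 ^ n')).ofEquiv e'.symm
    by_cases hcc : D.c * D.c = 1
    · -- small: card C ≤ 4
      have h1 : orderOf D.c ∣ 2 := orderOf_dvd_of_pow_eq_one (by rw [pow_two]; exact hcc)
      have h2 := Nat.le_of_dvd (by norm_num) h1
      have h3 := D.card_eq
      have h4 : Nat.card C ≤ Nat.card K := by rw [hK4, h3]; omega
      exact (Subgroup.eq_of_le_of_card_ge hKle h4).ge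
    · exfalso
      have hKz : K.subgroupOf C ≤ Subgroup.zpowers D.c := by
        rintro ⟨k, hkC⟩ hk
        rw [Subgroup.mem_subgroupOf] at hk
        by_contra hout
        have h1 := D.outside_conj hout (Subgroup.mem_zpowers D.c)
        -- k is central in C
        have h2 : (⟨k, hkC⟩ : ↥C) * D.c = D.c * ⟨k, hkC⟩ := by
          apply Subtype.ext
          show k * (D.c : G) = (D.c : G) * k
          exact (Subgroup.mem_centralizer_iff.mp D.c.2) k hk
        rw [h2, mul_inv_cancel_right] at h1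
        apply hcc
        calc D.c * D.c = D.c * D.c⁻¹ := by rw [← h1]
          _ = 1 := mul_inv_cancel _
      haveI : IsCyclic ↥(K.subgroupOf C) := Subgroup.isCyclic_of_le hKz
      have e₂ := Subgroup.subgroupOfEquivOfLe hKle
      haveI : IsCyclic K := isCyclic_of_surjective e₂ e₂.surjective
      exact four_cyclic_absurd inferInstance hK4 (fun k => Subtype.ext (by
        show (k : G) ^ 2 = 1
        exact hKe k k.2))

/-- Let G be a finite group with Sylow 2-subgroup P. Every subgroup H of G whose Sylow 2-subgroup is normal in H with cyclic quotient is cyclic, dihedral of 2-power order, or isomorphic to the alternating group of degree 4, if and only if either P is cyclic, or P is dihedral (of order at least 4) and every elementary abelian subgroup K of order 4 of P satisfies C_G(K) = K. -/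
theorem result {G : Type*} [Group G] [Finite G] (P : Sylow 2 G) :
    (∀ H : Subgroup G, (∀ S : Sylow 2 ↥H, (S : Subgroup ↥H).Normal) →
        (∀ (S : Sylow 2 ↥H) [(S : Subgroup ↥H).Normal], IsCyclic (↥H ⧸ (S : Subgroup ↥H))) →
        IsCyclic H ∨ (∃ n : ℕ, Nonempty (H ≃* DihedralGroup (2 ^ n))) ∨ Nonempty (H ≃* alternatingGroup (Fin 4))) ↔
    (IsCyclic P ∨
      ((∃ n : ℕ, 1 ≤ n ∧ Nonempty ((P : Subgroup G) ≃* DihedralGroup (2 ^ n))) ∧
        ∀ K : Subgroup G, K ≤ P → Nat.card K = 4 → (∀ k ∈ K, k ^ 2 = 1) → Subgroup.centralizer (K : Set G) = K)) :=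
  ⟨forward P, fun hP H hn hq => backward P hP H hn hq⟩

end Cfsg.Agent.S4083
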