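import Cfsg.Statements.S4084
import Mathlib

set_option autoImplicit false
open Cfsg

namespace Cfsg.Agent.S4084

theorem dir {G H : Type*} [Group G] [Finite G] [Group H] [Finite H] (e : G ≃ H)
    (he : ∀ x y : G, Commute x y ↔ Commute (e x) (e y))
    {p q : ℕ} (hp : p.Prime) (hq : q.Prime) (hpq : p ≠ q) :
    (∃ g : G, orderOf g = p * q) → (∃ h : H, orderOf h = p * q) := by
  rintro ⟨g, hg⟩
  set ZG : Subgroup G := Subgroup.centralizer (Subgroup.centralizer ({g} : Set G) : Set G) with hZG
  set ZH : Subgroup H := Subgroup.centralizer (Subgroup.centralizer ({e g} : Set H) : Set H) with hZH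
  have memG : ∀ x : G, x ∈ ZG ↔ ∀ c : G, Commute g c → Commute c x := by
    intro x
    rw [hZG, Subgroup.mem_centralizer_iff]
    constructor
    · intro h c hc
      apply h c
      rw [SetLike.mem_coe, Subgroup.mem_centralizer_iff]
      intro t ht
      rw [Set.mem_singleton_iff] at ht
      subst ht
      exact hc
    · intro h c hc
      rw [SetLike.mem_coe, Subgroup.mem_centralizer_iff] at hc
      exact h c (hc g rfl)
  have memH : ∀ x : H, x ∈ ZH ↔ ∀ c : H, Commute (e g) c → Commute c x := by
    intro x
    rw [hZH, Subgroup.mem_centralizer_iff]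
    constructor
    · intro h c hc
      apply h c
      rw [SetLike.mem_coe, Subgroup.mem_centralizer_iff]
      intro t ht
      rw [Set.mem_singleton_iff] at ht
      subst ht
      exact hc
    · intro h c hc
      rw [SetLike.mem_coe, Subgroup.mem_centralizer_iff] at hc
      exact h c (hc (e g) rfl)
  have hmem : ∀ x : G, x ∈ ZG ↔ e x ∈ ZH := by
    intro x
    rw [memG, memH]
    constructor
    · intro h c hc
      obtain ⟨c, rfl⟩ := e.surjective c
      exact (he c x).1 (h c ((he g c).2 hc))
    · intro h c hc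
      exact (he c x).2 (h (e c) ((he g c).1 hc))
  have hcard : Nat.card ZG = Nat.card ZH := by
    apply Nat.card_congr
    exact
      { toFun := fun x => ⟨e x, (hmem x).1 x.2⟩
        invFun := fun y => ⟨e.symm y, (hmem _).2 (by simpa using y.2)⟩
        left_inv := fun x => by simp
        right_inv := fun y => by simp }
  have hgZ : g ∈ ZG := by
    rw [memG]
    intro c hc
    exact hc.symm
  have hdvd : p * q ∣ Nat.card ZG := by
    rw [← hg]
    have : orderOf (⟨g, hgZ⟩ : ZG) = orderOf g := Subgroup.orderOf_mk g hgZ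
    rw [← this]
    exact orderOf_dvd_natCard _
  rw [hcard] at hdvd
  haveI : Fact p.Prime := ⟨hp⟩
  haveI : Fact q.Prime := ⟨hq⟩
  obtain ⟨a, ha⟩ := exists_prime_orderOf_dvd_card' (G := ZH) p (dvd_trans (dvd_mul_right p q) hdvd)
  obtain ⟨b, hb⟩ := exists_prime_orderOf_dvd_card' (G := ZH) q (dvd_trans (dvd_mul_left q p) hdvd)
  have hcomm : Commute (a : H) (b : H) := by
    have hb' := (memH b).1 b.2
    apply hb'
    have ha' := (memH a).1 a.2
    exact (ha' (e g) (Commute.refl _))
  refine ⟨(a : H) * (b : H), ?_⟩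
  have hoa : orderOf (a : H) = p := by rw [Subgroup.orderOf_coe]; exact ha
  have hob : orderOf (b : H) = q := by rw [Subgroup.orderOf_coe]; exact hb
  rw [hcomm.orderOf_mul_eq_mul_orderOf_of_coprime, hoa, hob]
  rw [hoa, hob]
  exact (Nat.coprime_primes hp hq).2 hpq

theorem result {G H : Type*} [Group G] [Finite G] [Group H] [Finite H] (e : G ≃ H)
    (he : ∀ x y : G, Commute x y ↔ Commute (e x) (e y))
    {p q : ℕ} (hp : p.Prime) (hq : q.Prime) (hpq : p ≠ q) :
    (∃ g : G, orderOf g = p * q) ↔ (∃ h : H, orderOf h = p * q) := by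
  constructor
  · exact dir e he hp hq hpq
  · refine dir e.symm ?_ hp hq hpq
    intro x y
    have := he (e.symm x) (e.symm y)
    simp only [Equiv.apply_symm_apply] at this
    exact this.symm

end Cfsg.Agent.S4084
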