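import Cfsg.Statements.S4086
import Mathlib

set_option autoImplicit false
open Cfsg

namespace Cfsg.Agent.S4086

theorem mem_zpowers_of_orderOf_dvd {C : Type*} [Group C] [Finite C] [IsCyclic C] (x y : C)
    (h : orderOf x ∣ orderOf y) : x ∈ Subgroup.zpowers y := by
  classical
  haveI := Fintype.ofFinite C
  have hy0 : 0 < orderOf y := orderOf_pos y
  have hle := IsCyclic.card_pow_eq_one_le (α := C) hy0
  have hsub : (Subgroup.zpowers y : Set C).toFinset ⊆
      (Finset.univ.filter fun a : C => a ^ orderOf y = 1) := by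
    intro a ha
    rw [Set.mem_toFinset] at ha
    rw [Finset.mem_filter]
    refine ⟨Finset.mem_univ _, ?_⟩
    obtain ⟨k, rfl⟩ := ha
    rw [← zpow_natCast, ← zpow_mul, mul_comm, zpow_mul, zpow_natCast, pow_orderOf_eq_one, one_zpow]
  have hcard : ((Subgroup.zpowers y : Set C).toFinset).card = orderOf y := by
    rw [Set.toFinset_card, ← Nat.card_eq_fintype_card]
    exact Nat.card_zpowers y
  have heq : (Subgroup.zpowers y : Set C).toFinset =
      (Finset.univ.filter fun a : C => a ^ orderOf y = 1) :=
    Finset.eq_of_subset_of_card_le hsub (by rw [hcard]; exact hle)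
  have hx : x ∈ (Finset.univ.filter fun a : C => a ^ orderOf y = 1) := by
    rw [Finset.mem_filter]
    exact ⟨Finset.mem_univ _, orderOf_dvd_iff_pow_eq_one.1 h⟩
  rw [← heq, Set.mem_toFinset] at hx
  exact hx

theorem result {G : Type*} [Group G] [Finite G] :
    (∀ g : G, g ≠ 1 → IsPrimePow (orderOf g)) ↔
    (∀ x y : G, IsCyclic ↥(Subgroup.closure ({x, y} : Set G)) → (x ∈ Subgroup.zpowers y ∨ y ∈ Subgroup.zpowers x)) := by
  constructor
  · intro h x y hC
    set C := Subgroup.closure ({x, y} : Set G) with hCdef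
    have hxC : x ∈ C := Subgroup.subset_closure (by simp)
    have hyC : y ∈ C := Subgroup.subset_closure (by simp)
    obtain ⟨z, hz⟩ := IsCyclic.exists_ofOrder_eq_natCard (α := C)
    have key : ∀ a b : C, orderOf a ∣ orderOf b → (a : G) ∈ Subgroup.zpowers (b : G) := by
      intro a b hab
      have := mem_zpowers_of_orderOf_dvd a b hab
      obtain ⟨k, hk⟩ := this
      refine ⟨k, ?_⟩
      have := congrArg (Subtype.val) hk
      simpa using this
    by_cases hz1 : (z : G) = 1
    · have hz1' : z = 1 := Subtype.ext hz1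
      rw [hz1', orderOf_one] at hz
      have hcard : Nat.card C = 1 := hz.symm
      have : Subsingleton C := (Nat.card_eq_one_iff_unique.1 hcard).1
      have hx1 : (⟨x, hxC⟩ : C) = 1 := Subsingleton.elim _ _
      left
      have : x = 1 := congrArg Subtype.val hx1
      rw [this]; exact one_mem _
    · obtain ⟨p, k, hp, hk, hpk⟩ := h (z : G) hz1
      have hzo : orderOf z = p ^ k := by rw [hpk, Subgroup.orderOf_coe]
      have hp' : Nat.Prime p := hp.nat_prime
      have hord : ∀ a : C, ∃ i, orderOf a = p ^ i := by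
        intro a
        have : orderOf a ∣ p ^ k := by rw [← hzo, hz]; exact orderOf_dvd_natCard a
        obtain ⟨i, -, hi⟩ := (Nat.dvd_prime_pow hp').1 this
        exact ⟨i, hi⟩
      obtain ⟨i, hi⟩ := hord ⟨x, hxC⟩
      obtain ⟨j, hj⟩ := hord ⟨y, hyC⟩
      rcases le_total i j with hij | hij
      · left
        exact key ⟨x, hxC⟩ ⟨y, hyC⟩ (by rw [hi, hj]; exact pow_dvd_pow p hij)
      · right
        exact key ⟨y, hyC⟩ ⟨x, hxC⟩ (by rw [hi, hj]; exact pow_dvd_pow p hij)
  · intro h g hg
    by_contra hnp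
    set n := orderOf g with hn
    have hn0 : n ≠ 0 := (orderOf_pos g).ne'
    have hn1 : n ≠ 1 := by
      intro h1
      exact hg (orderOf_eq_one_iff.1 h1)
    set p := n.minFac with hpdef
    have hp : p.Prime := Nat.minFac_prime hn1
    set a := p ^ n.factorization p with hadef
    set b := n / a with hbdef
    have hab : a * b = n := Nat.ordProj_mul_ordCompl_eq_self n p
    have hcop : Nat.Coprime a b := by
      have := Nat.coprime_ordCompl hp hn0
      exact Nat.Coprime.pow_left _ this
    have ha0 : a ≠ 0 := pow_ne_zero _ hp.ne_zero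
    have hb0 : b ≠ 0 := by
      intro hb; rw [hb, mul_zero] at hab; exact hn0 hab.symm
    have hvp : 0 < n.factorization p := hp.factorization_pos_of_dvd hn0 (Nat.minFac_dvd n)
    have ha1 : a ≠ 1 := by
      intro h1
      have : 1 < a := Nat.one_lt_pow hvp.ne' hp.one_lt
      omega
    have hb1 : b ≠ 1 := by
      intro h1
      rw [h1, mul_one] at hab
      apply hnp
      exact ⟨p, n.factorization p, hp.prime, hvp, hab⟩
    have hox : orderOf (g ^ a) = b := by
      rw [orderOf_pow_of_dvd ha0 (by rw [← hn, ← hab]; exact dvd_mul_right _ _), ← hn]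
    have hoy : orderOf (g ^ b) = a := by
      rw [orderOf_pow_of_dvd hb0 (by rw [← hn, ← hab]; exact dvd_mul_left _ _), ← hn, ← hab,
        Nat.mul_div_cancel _ (Nat.pos_of_ne_zero hb0)]
    have hle : Subgroup.closure ({g ^ a, g ^ b} : Set G) ≤ Subgroup.zpowers g := by
      rw [Subgroup.closure_le]
      intro t ht
      rcases ht with rfl | rfl
      · exact ⟨a, by simp⟩
      · exact ⟨b, by simp⟩
    have hcyc : IsCyclic ↥(Subgroup.closure ({g ^ a, g ^ b} : Set G)) := Subgroup.isCyclic_of_le hle
    rcases h (g ^ a) (g ^ b) hcyc with h1 | h1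
    · have := orderOf_dvd_of_mem_zpowers h1
      rw [hox, hoy] at this
      exact hb1 (Nat.Coprime.eq_one_of_dvd hcop.symm this)
    · have := orderOf_dvd_of_mem_zpowers h1
      rw [hox, hoy] at this
      exact ha1 (Nat.Coprime.eq_one_of_dvd hcop this)

end Cfsg.Agent.S4086
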