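import Cfsg.Statements.S4089
import Cfsg.Agent.Lib.helper17.Subn
import Cfsg.Agent.Lib.helper17.Op
import Cfsg.Agent.Lib.Helper1.Cores
import Cfsg.Agent.Lib.Helper13.ConjFamily
import Cfsg.Agent.Lib.Helper18.PCore

set_option autoImplicit false
open Cfsg

namespace Cfsg.Agent.S4089

section Aux

/-- every subgroup of a finite nilpotent group is subnormal -/
theorem isSubnormal_of_isNilpotent {R : Type*} [Group R] [Finite R] [Group.IsNilpotent R] :
    ∀ (n : ℕ) (H : Subgroup R), Nat.card R - Nat.card ↥H = n → H.IsSubnormal := by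
  intro n
  induction n using Nat.strong_induction_on with
  | _ n ih =>
    intro H hn
    by_cases hH : H = ⊤
    · rw [hH]; exact Subgroup.IsSubnormal.top
    · have hlt : H < ⊤ := lt_top_iff_ne_top.2 hH
      have hnc := Group.normalizerCondition_of_isNilpotent (G := R) H hlt
      have hcard : Nat.card ↥H < Nat.card ↥(Subgroup.normalizer (H : Set R)) := by
        apply Set.Finite.card_lt_card (Set.toFinite _) 
        exact hnc
      have hle : Nat.card ↥(Subgroup.normalizer (H : Set R)) ≤ Nat.card R := Subgroup.card_le_card_group _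
      have hN := ih (Nat.card R - Nat.card ↥(Subgroup.normalizer (H : Set R))) (by omega) _ rfl
      exact Subgroup.IsSubnormal.step H _ Subgroup.le_normalizer hN Subgroup.normal_in_normalizer

/-- a `p`-subgroup is subnormal iff it lies in `O_p` -/
theorem isSubnormal_iff_le_pCore {X : Type*} [Group X] [Finite X] {p : ℕ} [Fact p.Prime]
    (H : Subgroup X) (hH : IsPGroup p ↥H) : H.IsSubnormal ↔ H ≤ Cfsg.pCore p X := by
  constructor
  · intro h
    exact Cfsg.Agent.Lib.helper17.le_pCore_of_subnormal_isPGroup h hH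
  · intro h
    have hOn : (Cfsg.pCore p X).Normal := Cfsg.Agent.Lib.Helper18.pCore_normal_h18 p X
    have hOp : IsPGroup p ↥(Cfsg.pCore p X) := Cfsg.Agent.Lib.Helper18.pCore_isPGroup p X
    haveI : Group.IsNilpotent ↥(Cfsg.pCore p X) := hOp.isNilpotent
    apply Subgroup.IsSubnormal.trans h _ hOn.isSubnormal
    exact isSubnormal_of_isNilpotent _ _ rfl

variable {G : Type*} [Group G] [Finite G] {p : ℕ} [Fact p.Prime]

/-- the subnormalizer membership: `H` is subnormal in `⟨H, g⟩` iff `H` lies in a `p`-subgroup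
normalized by `g` -/
theorem subn_iff_exists (H : Subgroup G) (hH : IsPGroup p ↥H) (g : G) :
    (H.subgroupOf (H ⊔ Subgroup.zpowers g)).IsSubnormal ↔
      ∃ R : Subgroup G, IsPGroup p ↥R ∧ H ≤ R ∧ g ∈ Subgroup.normalizer (R : Set G) := by
  set L : Subgroup G := H ⊔ Subgroup.zpowers g with hL
  have hHL : H ≤ L := le_sup_left
  have hgL : g ∈ L := (le_sup_right : Subgroup.zpowers g ≤ L) (Subgroup.mem_zpowers g)
  rw [isSubnormal_iff_le_pCore (H.subgroupOf L) hH.comap_subtype]
  constructor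
  · intro h
    refine ⟨Cfsg.pCoreOf p L, Cfsg.Agent.Lib.helper17.pCoreOf_isPGroup p L, ?_, ?_⟩
    · intro x hx
      exact ⟨⟨x, hHL hx⟩, h (Subgroup.mem_subgroupOf.2 hx), rfl⟩
    · exact Cfsg.Agent.Lib.helper17.le_normalizer_pCoreOf p L hgL
  · rintro ⟨R, hRp, hHR, hgR⟩
    have hLN : L ≤ Subgroup.normalizer (R : Set G) := by
      rw [hL]
      apply sup_le (hHR.trans Subgroup.le_normalizer)
      rw [Subgroup.zpowers_le]; exact hgR
    have hn : (R.subgroupOf L).Normal := by
      rw [Subgroup.normal_subgroupOf_iff_le_normalizer_inf]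
      exact (le_inf hLN (Subgroup.le_normalizer (H := L))).trans
        Subgroup.inf_normalizer_le_normalizer_inf
    have h1 : R.subgroupOf L ≤ Cfsg.pCore p ↥L :=
      Cfsg.Agent.Lib.Helper18.le_pCore hn hRp.comap_subtype
    refine le_trans ?_ h1
    intro x hx
    exact Subgroup.mem_subgroupOf.2 (hHR (Subgroup.mem_subgroupOf.1 hx))

/-- a `p`-subgroup normalized by `g` extends to a radical one still normalized by `g` -/
theorem exists_radical (R₀ : Subgroup G) (hR₀ : IsPGroup p ↥R₀) (g : G)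
    (hg : g ∈ Subgroup.normalizer (R₀ : Set G)) :
    ∃ R : Subgroup G, R₀ ≤ R ∧ Cfsg.pCoreOf p (Subgroup.normalizer (R : Set G)) = R ∧
      g ∈ Subgroup.normalizer (R : Set G) := by
  classical
  -- choose R of maximal order
  have hfin : ∀ n : ℕ, ∀ R : Subgroup G, IsPGroup p ↥R → R₀ ≤ R → g ∈ Subgroup.normalizer (R : Set G) →
      Nat.card G - Nat.card ↥R = n →
      ∃ R' : Subgroup G, R₀ ≤ R' ∧ Cfsg.pCoreOf p (Subgroup.normalizer (R' : Set G)) = R' ∧
        g ∈ Subgroup.normalizer (R' : Set G) := by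
    intro n
    induction n using Nat.strong_induction_on with
    | _ n ih =>
      intro R hRp hR₀R hgR hn
      set R1 : Subgroup G := Cfsg.pCoreOf p (Subgroup.normalizer (R : Set G)) with hR1
      have hRR1 : R ≤ R1 :=
        Cfsg.Agent.Lib.helper17.le_pCoreOf Subgroup.le_normalizer hRp le_rfl
      by_cases heq : R1 = R
      · exact ⟨R, hR₀R, heq, hgR⟩
      · have hR1p : IsPGroup p ↥R1 := Cfsg.Agent.Lib.helper17.pCoreOf_isPGroup p _
        have hgR1 : g ∈ Subgroup.normalizer (R1 : Set G) :=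
          Cfsg.Agent.Lib.helper17.le_normalizer_pCoreOf p _ hgR
        have hlt : R < R1 := lt_of_le_of_ne hRR1 (Ne.symm heq)
        have hcard : Nat.card ↥R < Nat.card ↥R1 := by
          apply Set.Finite.card_lt_card (Set.toFinite _)
          exact hlt
        have hle : Nat.card ↥R1 ≤ Nat.card G := Subgroup.card_le_card_group _
        exact ih (Nat.card G - Nat.card ↥R1) (by omega) R1 hR1p (hR₀R.trans hRR1) hgR1 rfl
  exact hfin _ R₀ hR₀ le_rfl hg rfl

/-- a radical `p`-subgroup is the intersection of the Sylow `p`-subgroups containing it -/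
theorem radical_eq_sInf (R : Subgroup G)
    (hR : Cfsg.pCoreOf p (Subgroup.normalizer (R : Set G)) = R) :
    sInf {K : Subgroup G | ∃ Q : Sylow p G, R ≤ (Q : Subgroup G) ∧ K = (Q : Subgroup G)} ≤ R := by
  set N : Subgroup G := Subgroup.normalizer (R : Set G) with hN
  set I : Subgroup G := sInf {K : Subgroup G | ∃ Q : Sylow p G, R ≤ (Q : Subgroup G) ∧ K = (Q : Subgroup G)} with hI
  have hRp : IsPGroup p ↥R := by
    rw [← hR]; exact Cfsg.Agent.Lib.helper17.pCoreOf_isPGroup p _
  have hRI : R ≤ I := by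
    apply le_sInf
    rintro K ⟨Q, hRQ, rfl⟩
    exact hRQ
  obtain ⟨Q₀, hQ₀⟩ := hRp.exists_le_sylow
  have hIQ₀ : I ≤ (Q₀ : Subgroup G) := sInf_le ⟨Q₀, hQ₀, rfl⟩
  have hIp : IsPGroup p ↥I := Q₀.2.to_le hIQ₀
  -- I ∩ N ≤ R
  have hIN : I ⊓ N ≤ R := by
    intro x hx
    obtain ⟨hxI, hxN⟩ := Subgroup.mem_inf.1 hx
    rw [← hR]
    refine ⟨⟨x, hxN⟩, ?_, rfl⟩
    rw [Cfsg.Agent.Lib.Helper1.pCore_eq_iInf_sylow, SetLike.mem_coe, Subgroup.mem_iInf]
    intro Q'
    -- extend Q' to a Sylow subgroup of G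
    have hQ'p : IsPGroup p ↥((Q' : Subgroup ↥N).map N.subtype) := Q'.2.map _
    obtain ⟨Q, hQ⟩ := hQ'p.exists_le_sylow
    have hRn : (R.subgroupOf N).Normal := Subgroup.normal_in_normalizer
    have hRp' : IsPGroup p ↥(R.subgroupOf N) := hRp.comap_subtype
    have hRQ' : R.subgroupOf N ≤ (Q' : Subgroup ↥N) := hRp'.le_sylow_of_normal Q'
    have hRQ : R ≤ (Q : Subgroup G) := by
      intro r hr
      apply hQ
      exact ⟨⟨r, Subgroup.le_normalizer hr⟩, hRQ' (Subgroup.mem_subgroupOf.2 hr), rfl⟩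
    have hxQ : x ∈ (Q : Subgroup G) := by
      have : I ≤ (Q : Subgroup G) := sInf_le ⟨Q, hRQ, rfl⟩
      exact this hxI
    have hmax : (Q' : Subgroup ↥N) = (Q : Subgroup G).subgroupOf N := by
      apply le_antisymm
      · intro y hy
        rw [Subgroup.mem_subgroupOf]
        exact hQ ⟨y, hy, rfl⟩
      · have := Q'.is_maximal' (Q := (Q : Subgroup G).subgroupOf N) Q.2.comap_subtype (by
          intro y hy
          rw [Subgroup.mem_subgroupOf]
          exact hQ ⟨y, hy, rfl⟩)
        rw [this]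
    rw [hmax, Subgroup.mem_subgroupOf]
    exact hxQ
  by_contra hne
  have hne' : R ≠ I := fun h => hne (h ▸ le_rfl)
  have hlt := Cfsg.Agent.Lib.Helper13.card_lt_card_inf_normalizer hIp hRI hne'
  have hle : Nat.card ↥(I ⊓ Subgroup.normalizer (R : Set G)) ≤ Nat.card ↥R :=
    Subgroup.card_le_of_le hIN
  omega

end Aux


/-- Let G be a finite group, p a prime and H a p-subgroup of G. Then the set of elements g of G such that H is subnormal in the subgroup generated by H and g is the union of the normalizers N_G(R) over the subgroups R of G containing H with R = O_p(N_G(R)); and this set does not change when H is replaced by the intersection of all Sylow p-subgroups of G containing H. -/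
theorem result {G : Type*} [Group G] [Finite G] (p : ℕ) [Fact p.Prime]
    (H : Subgroup G) (hH : IsPGroup p H) :
    {g : G | ((H).subgroupOf (H ⊔ Subgroup.zpowers g)).IsSubnormal} =
      {g : G | ∃ R : Subgroup G, H ≤ R ∧ (Cfsg.pCore p (Subgroup.normalizer (R : Set G))).map (Subgroup.normalizer (R : Set G)).subtype = R ∧ g ∈ Subgroup.normalizer (R : Set G)} ∧
    ∀ g : G, (((H).subgroupOf (H ⊔ Subgroup.zpowers g)).IsSubnormal ↔
      (((sInf {K : Subgroup G | ∃ Q : Sylow p G, H ≤ (Q : Subgroup G) ∧ K = (Q : Subgroup G)})).subgroupOf ((sInf {K : Subgroup G | ∃ Q : Sylow p G, H ≤ (Q : Subgroup G) ∧ K = (Q : Subgroup G)}) ⊔ Subgroup.zpowers g)).IsSubnormal) := by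
  -- radical characterisation for an arbitrary p-subgroup
  have key : ∀ (H : Subgroup G), IsPGroup p ↥H → ∀ g : G,
      (H.subgroupOf (H ⊔ Subgroup.zpowers g)).IsSubnormal ↔
        ∃ R : Subgroup G, H ≤ R ∧ Cfsg.pCoreOf p (Subgroup.normalizer (R : Set G)) = R ∧
          g ∈ Subgroup.normalizer (R : Set G) := by
    intro H hH g
    rw [subn_iff_exists H hH g]
    constructor
    · rintro ⟨R₀, hR₀p, hHR₀, hgR₀⟩
      obtain ⟨R, hR₀R, hR, hgR⟩ := exists_radical R₀ hR₀p g hgR₀
      exact ⟨R, hHR₀.trans hR₀R, hR, hgR⟩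
    · rintro ⟨R, hHR, hR, hgR⟩
      refine ⟨R, ?_, hHR, hgR⟩
      rw [← hR]; exact Cfsg.Agent.Lib.helper17.pCoreOf_isPGroup p _
  refine ⟨?_, ?_⟩
  · ext g
    exact key H hH g
  · intro g
    set I : Subgroup G := sInf {K : Subgroup G | ∃ Q : Sylow p G, H ≤ (Q : Subgroup G) ∧ K = (Q : Subgroup G)} with hI
    have hHI : H ≤ I := by
      apply le_sInf
      rintro K ⟨Q, hHQ, rfl⟩
      exact hHQ
    obtain ⟨Q₀, hQ₀⟩ := hH.exists_le_sylow
    have hIp : IsPGroup p ↥I := Q₀.2.to_le (sInf_le ⟨Q₀, hQ₀, rfl⟩)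
    rw [key H hH g, key I hIp g]
    constructor
    · rintro ⟨R, hHR, hR, hgR⟩
      refine ⟨R, ?_, hR, hgR⟩
      refine le_trans ?_ (radical_eq_sInf R hR)
      apply le_sInf
      rintro K ⟨Q, hRQ, rfl⟩
      exact sInf_le ⟨Q, hHR.trans hRQ, rfl⟩
    · rintro ⟨R, hIR, hR, hgR⟩
      exact ⟨R, hHI.trans hIR, hR, hgR⟩

end Cfsg.Agent.S4089
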