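import Cfsg.Statements.S4088
import Mathlib
import Cfsg.Agent.S4089
import Cfsg.Agent.Lib.Helper22.Sylow
import Cfsg.Agent.Lib.Helper22.Casolo

set_option autoImplicit false
open Cfsg

namespace Cfsg.Agent.S4088

open Cfsg.Agent.Lib.Helper18 Cfsg.Agent.Lib.Helper22.Subnormalizer Cfsg.Agent.Lib.Helper22.Casolo

theorem count_a {G : Type*} [Group G] [Finite G] (H P : Subgroup G) :
    Nat.card {x : G | conjSub x H ≤ P} = Nat.card (Subgroup.normalizer (H : Set G)) *
      Nat.card {K : Subgroup G | K ≤ P ∧ ∃ g : G, K = H.map (MulAut.conj g).toMonoidHom} := by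
  apply card_set_eq_mul (fun x => conjSub x H)
  · intro x hx
    exact ⟨hx, x, rfl⟩
  · rintro K ⟨hKP, g₀, rfl⟩
    apply Nat.card_congr
    refine ⟨fun x => ⟨g₀⁻¹ * x.1, ?_⟩, fun n => ⟨g₀ * n.1, ?_, ?_⟩, ?_, ?_⟩
    · apply mem_normalizer_of_conjSub_le
      rw [← conjSub_mul]
      have := x.2.2
      rw [this]
      change conjSub g₀⁻¹ (conjSub g₀ H) ≤ H
      rw [conjSub_mul, inv_mul_cancel, conjSub_one]
    · show conjSub (g₀ * n.1) H ≤ P
      rw [← conjSub_mul, conjSub_eq_of_mem_normalizer n.2]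
      exact hKP
    · show conjSub (g₀ * n.1) H = H.map (MulAut.conj g₀).toMonoidHom
      rw [← conjSub_mul, conjSub_eq_of_mem_normalizer n.2]
    · intro x
      apply Subtype.ext
      show g₀ * (g₀⁻¹ * x.1) = x.1
      group
    · intro n
      apply Subtype.ext
      show g₀⁻¹ * (g₀ * n.1) = n.1
      group

theorem count_b {G : Type*} [Group G] [Finite G] (p : ℕ) [Fact p.Prime] (H : Subgroup G)
    (P : Sylow p G) :
    Nat.card {x : G | conjSub x H ≤ (P : Subgroup G)} =
      Nat.card (Subgroup.normalizer ((P : Subgroup G) : Set G)) *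
        Nat.card {Q : Sylow p G | H ≤ (Q : Subgroup G)} := by
  have hiff : ∀ x : G, conjSub x H ≤ (P : Subgroup G) ↔ H ≤ ((x⁻¹ • P : Sylow p G) : Subgroup G) := by
    intro x
    constructor
    · intro h y hy
      rw [Cfsg.Agent.Lib.Helper22.mem_smul_sylow_iff, inv_inv]
      exact h (conj_mem_conjSub hy)
    · rintro h _ ⟨y, hy, rfl⟩
      have := h hy
      rw [Cfsg.Agent.Lib.Helper22.mem_smul_sylow_iff, inv_inv] at this
      simpa [MulAut.conj_apply] using this
  apply card_set_eq_mul (fun x => (x⁻¹ • P : Sylow p G))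
  · intro x hx
    exact (hiff x).mp hx
  · intro Q hQ
    obtain ⟨y, hy⟩ := MulAction.exists_smul_eq G P Q
    apply Nat.card_congr
    have key : ∀ n : G, n ∈ Subgroup.normalizer ((P : Subgroup G) : Set G) →
        (n * y⁻¹)⁻¹ • P = Q := by
      intro n hn
      have h2 : n • P = P := Sylow.smul_eq_iff_mem_normalizer.mpr hn
      have h3 : n⁻¹ • P = P := by
        rw [inv_smul_eq_iff]; exact h2.symm
      rw [mul_inv_rev, inv_inv, mul_smul, h3, hy]
    have key2 : ∀ x : G, (x⁻¹ • P : Sylow p G) = Q →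
        x * y ∈ Subgroup.normalizer ((P : Subgroup G) : Set G) := by
      intro x h1
      have h2 : (x * y) • P = P := by
        rw [mul_smul, hy, ← h1, smul_smul, mul_inv_cancel, one_smul]
      exact Sylow.smul_eq_iff_mem_normalizer.mp h2
    refine ⟨fun x => ⟨x.1 * y, key2 x.1 x.2.2⟩, fun n => ⟨n.1 * y⁻¹, ?_, key n.1 n.2⟩, ?_, ?_⟩
    · show conjSub (n.1 * y⁻¹) H ≤ (P : Subgroup G)
      rw [hiff, key n.1 n.2]; exact hQ
    · intro x
      apply Subtype.ext
      show x.1 * y * y⁻¹ = x.1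
      group
    · intro n
      apply Subtype.ext
      show n.1 * y⁻¹ * y = n.1
      group

theorem result {G : Type*} [Group G] [Finite G] (p : ℕ) [Fact p.Prime]
    (hp : p ∣ Nat.card G) (H : Subgroup G) (hH : IsPGroup p H) (P : Sylow p G) :
    Nat.card {g : G // ((H).subgroupOf (H ⊔ Subgroup.zpowers g)).IsSubnormal} =
        Nat.card {Q : Sylow p G // H ≤ (Q : Subgroup G)} * Nat.card (Subgroup.normalizer ((P : Subgroup G) : Set G)) ∧
    Nat.card {g : G // ((H).subgroupOf (H ⊔ Subgroup.zpowers g)).IsSubnormal} =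
        Nat.card {K : Subgroup G // K ≤ (P : Subgroup G) ∧ ∃ g : G, K = H.map (MulAut.conj g).toMonoidHom} *
          Nat.card (Subgroup.normalizer (H : Set G)) := by
  have h1 : Nat.card {g : G // ((H).subgroupOf (H ⊔ Subgroup.zpowers g)).IsSubnormal} =
      Nat.card (Sn p H) :=
    Nat.card_congr (Equiv.subtypeEquivRight (fun g => Cfsg.Agent.S4089.subn_iff_exists H hH g))
  have h2 := casolo p H P
  have ha := count_a H (P : Subgroup G)
  have hb := count_b p H P
  refine ⟨h1.trans h2, ?_⟩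
  rw [h1, h2]
  have e1 : Nat.card {Q : Sylow p G // H ≤ (Q : Subgroup G)} =
      Nat.card {Q : Sylow p G | H ≤ (Q : Subgroup G)} := rfl
  have e2 : Nat.card {K : Subgroup G // K ≤ (P : Subgroup G) ∧
      ∃ g : G, K = H.map (MulAut.conj g).toMonoidHom} =
      Nat.card {K : Subgroup G | K ≤ (P : Subgroup G) ∧
        ∃ g : G, K = H.map (MulAut.conj g).toMonoidHom} := rfl
  rw [e1, e2, mul_comm, ← hb, ha, mul_comm]

end Cfsg.Agent.S4088
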