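import Cfsg.Statements.S4090
import Mathlib
import Cfsg.Agent.S4089
import Cfsg.Agent.Lib.Helper22.Subnormalizer

set_option autoImplicit false
open Cfsg

namespace Cfsg.Agent.S4090

open Cfsg.Agent.Lib.Helper22.Subnormalizer

universe u

theorem mem_map_mk_iff {G : Type*} [Group G] (N K : Subgroup G) [N.Normal] (hNK : N ≤ K) (x : G) :
    (QuotientGroup.mk' N) x ∈ K.map (QuotientGroup.mk' N) ↔ x ∈ K := by
  constructor
  · rintro ⟨y, hy, hyx⟩
    have h1 : y⁻¹ * x ∈ N := by
      rw [← QuotientGroup.ker_mk' N, MonoidHom.mem_ker, map_mul, map_inv, hyx, inv_mul_cancel]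
    have : x = y * (y⁻¹ * x) := by group
    rw [this]
    exact K.mul_mem hy (hNK h1)
  · intro hx
    exact Subgroup.mem_map_of_mem _ hx

theorem card_map_mk {G : Type*} [Group G] [Finite G] (N K : Subgroup G) [N.Normal] (hNK : N ≤ K) :
    Nat.card K = Nat.card N * Nat.card (K.map (QuotientGroup.mk' N)) := by
  have h1 := card_preimage_mk N ((K.map (QuotientGroup.mk' N) : Subgroup (G ⧸ N)) : Set (G ⧸ N))
  have h2 : (QuotientGroup.mk' N) ⁻¹' ((K.map (QuotientGroup.mk' N) : Subgroup (G ⧸ N)) : Set (G ⧸ N)) =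
      (K : Set G) := by
    ext x
    simp only [Set.mem_preimage, SetLike.mem_coe]
    exact mem_map_mk_iff N K hNK x
  rw [h2] at h1
  exact h1

theorem card_cent_quot {G : Type*} [Group G] [Finite G] (N Ka Kb H : Subgroup G) [N.Normal]
    (hNa : N ≤ Ka) (hNb : N ≤ Kb) :
    Nat.card {u : G // u ∈ Kb ∧ ∀ h ∈ H, h * u * h⁻¹ * u⁻¹ ∈ Ka} =
      Nat.card N * Nat.card {v : G ⧸ N // v ∈ Kb.map (QuotientGroup.mk' N) ∧
        ∀ h ∈ H.map (QuotientGroup.mk' N), h * v * h⁻¹ * v⁻¹ ∈ Ka.map (QuotientGroup.mk' N)} := by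
  have h1 := card_preimage_mk N {v : G ⧸ N | v ∈ Kb.map (QuotientGroup.mk' N) ∧
        ∀ h ∈ H.map (QuotientGroup.mk' N), h * v * h⁻¹ * v⁻¹ ∈ Ka.map (QuotientGroup.mk' N)}
  have h2 : (QuotientGroup.mk' N) ⁻¹' {v : G ⧸ N | v ∈ Kb.map (QuotientGroup.mk' N) ∧
        ∀ h ∈ H.map (QuotientGroup.mk' N), h * v * h⁻¹ * v⁻¹ ∈ Ka.map (QuotientGroup.mk' N)} =
      {u : G | u ∈ Kb ∧ ∀ h ∈ H, h * u * h⁻¹ * u⁻¹ ∈ Ka} := by
    ext x
    simp only [Set.mem_preimage, Set.mem_setOf_eq]
    rw [mem_map_mk_iff N Kb hNb x]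
    constructor
    · rintro ⟨hx, hc⟩
      refine ⟨hx, fun h hh => ?_⟩
      have := hc _ (Subgroup.mem_map_of_mem (QuotientGroup.mk' N) hh)
      rw [← map_inv, ← map_inv, ← map_mul, ← map_mul, ← map_mul, mem_map_mk_iff N Ka hNa] at this
      exact this
    · rintro ⟨hx, hc⟩
      refine ⟨hx, ?_⟩
      rintro _ ⟨h, hh, rfl⟩
      rw [← map_inv, ← map_inv, ← map_mul, ← map_mul, ← map_mul, mem_map_mk_iff N Ka hNa]
      exact hc h hh
  rw [h2] at h1
  exact h1

theorem relIndex_map_mk {G : Type*} [Group G] (N Ka Kb : Subgroup G) [N.Normal]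
    (hNa : N ≤ Ka) (hNb : N ≤ Kb) :
    (Ka.map (QuotientGroup.mk' N)).relIndex (Kb.map (QuotientGroup.mk' N)) = Ka.relIndex Kb := by
  rw [Subgroup.relIndex_map_map, QuotientGroup.ker_mk', sup_eq_left.mpr hNa, sup_eq_left.mpr hNb]

theorem chain_formula (p : ℕ) [Fact p.Prime] : ∀ (n : ℕ) (G : Type u) [Group G] [Finite G]
    (H : Subgroup G) (_ : IsPGroup p H) (M : Fin (n + 1) → Subgroup G) (_ : M 0 = ⊥)
    (_ : M (Fin.last n) = ⊤) (_ : Monotone M) (_ : ∀ i, (M i).Normal)
    (_ : ∀ i : Fin n, (∃ m : ℕ, (M i.castSucc).relIndex (M i.succ) = p ^ m) ∨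
      ((M i.castSucc).relIndex (M i.succ)).Coprime p),
    Nat.card (Sn p H) = ∏ i : Fin n, (if ((M i.castSucc).relIndex (M i.succ)).Coprime p then
        Nat.card {u : G // u ∈ M i.succ ∧ ∀ h ∈ H, h * u * h⁻¹ * u⁻¹ ∈ M i.castSucc} /
          Nat.card (M i.castSucc)
        else (M i.castSucc).relIndex (M i.succ)) := by
  intro n
  induction n with
  | zero =>
    intro G _ _ H hH M h0 hn _ _ _
    have htop : (⊥ : Subgroup G) = ⊤ := by rw [← h0, ← hn]; rfl
    have hsub : Subsingleton G := by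
      refine ⟨fun a b => ?_⟩
      have ha : a ∈ (⊥ : Subgroup G) := by rw [htop]; exact Subgroup.mem_top a
      have hb : b ∈ (⊥ : Subgroup G) := by rw [htop]; exact Subgroup.mem_top b
      rw [Subgroup.mem_bot] at ha hb
      rw [ha, hb]
    simp only [Finset.univ_eq_empty, Finset.prod_empty]
    have : Nat.card (Sn p H) = Nat.card G := by
      apply Nat.card_congr
      refine ⟨fun x => x.1, fun x => ⟨x, ?_⟩, fun x => rfl, fun x => rfl⟩
      rw [Subsingleton.elim x 1]
      exact ⟨H, hH, le_rfl, Subgroup.one_mem _⟩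
    rw [this]
    exact Nat.card_unique
  | succ n ih =>
    intro G _ _ H hH M h0 hn hmono hnormal hfac
    set N := M (Fin.succ 0) with hN
    haveI : N.Normal := hnormal _
    set π := QuotientGroup.mk' N with hπ
    have hNle : ∀ i : Fin (n + 1), N ≤ M i.succ := fun i => hmono (Fin.succ_le_succ_iff.mpr (Fin.zero_le i))
    let M' : Fin (n + 1) → Subgroup (G ⧸ N) := fun i => (M i.succ).map π
    have h0' : M' 0 = ⊥ := by
      show N.map π = ⊥
      exact (Subgroup.map_eq_bot_iff _).mpr (QuotientGroup.ker_mk' N).ge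
    have hn' : M' (Fin.last n) = ⊤ := by
      show (M (Fin.last n).succ).map π = ⊤
      rw [Fin.succ_last, hn]
      exact Subgroup.map_top_of_surjective π (QuotientGroup.mk'_surjective N)
    have hmono' : Monotone M' := fun a b hab => Subgroup.map_mono (hmono (Fin.succ_le_succ_iff.mpr hab))
    have hnormal' : ∀ i, (M' i).Normal := fun i =>
      (hnormal i.succ).map π (QuotientGroup.mk'_surjective N)
    have hrel : ∀ i : Fin n, (M' i.castSucc).relIndex (M' i.succ) =
        (M i.succ.castSucc).relIndex (M i.succ.succ) := by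
      intro i
      show ((M i.castSucc.succ).map π).relIndex ((M i.succ.succ).map π) = _
      rw [Fin.succ_castSucc]
      have h1 : N ≤ M i.succ.castSucc := by
        rw [← Fin.succ_castSucc]; exact hNle _
      exact relIndex_map_mk N _ _ h1 (hNle _)
    have hfac' : ∀ i : Fin n, (∃ m : ℕ, (M' i.castSucc).relIndex (M' i.succ) = p ^ m) ∨
        ((M' i.castSucc).relIndex (M' i.succ)).Coprime p := by
      intro i
      rw [hrel i]
      exact hfac i.succ
    have hIH := ih (G ⧸ N) (H.map π) (hH.map π) M' h0' hn' hmono' hnormal' hfac'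
    rw [Fin.prod_univ_succ]
    have hterms : ∀ i : Fin n,
        (if ((M' i.castSucc).relIndex (M' i.succ)).Coprime p then
          Nat.card {u : G ⧸ N // u ∈ M' i.succ ∧ ∀ h ∈ H.map π, h * u * h⁻¹ * u⁻¹ ∈ M' i.castSucc} /
            Nat.card (M' i.castSucc)
          else (M' i.castSucc).relIndex (M' i.succ)) =
        (if ((M i.succ.castSucc).relIndex (M i.succ.succ)).Coprime p then
          Nat.card {u : G // u ∈ M i.succ.succ ∧ ∀ h ∈ H, h * u * h⁻¹ * u⁻¹ ∈ M i.succ.castSucc} /
            Nat.card (M i.succ.castSucc)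
          else (M i.succ.castSucc).relIndex (M i.succ.succ)) := by
      intro i
      rw [hrel i]
      have h1 : N ≤ M i.succ.castSucc := by
        rw [← Fin.succ_castSucc]; exact hNle _
      have e1 := card_cent_quot N (M i.succ.castSucc) (M i.succ.succ) H h1 (hNle _)
      have e2 := card_map_mk N (M i.succ.castSucc) h1
      have e3 : M' i.castSucc = (M i.succ.castSucc).map π := by
        show (M i.castSucc.succ).map π = _
        rw [Fin.succ_castSucc]
      have e4 : M' i.succ = (M i.succ.succ).map π := rfl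
      rw [e3, e4, e1, e2]
      have hNpos : 0 < Nat.card N := Nat.card_pos
      rw [Nat.mul_div_mul_left _ _ hNpos]
    have hM0 : M (Fin.castSucc 0) = ⊥ := by
      rw [Fin.castSucc_zero]; exact h0
    have hstep : Nat.card (Sn p H) =
        (if ((M (Fin.castSucc 0)).relIndex (M (Fin.succ 0))).Coprime p then
          Nat.card {u : G // u ∈ M (Fin.succ 0) ∧ ∀ h ∈ H, h * u * h⁻¹ * u⁻¹ ∈ M (Fin.castSucc 0)} /
            Nat.card (M (Fin.castSucc 0))
          else (M (Fin.castSucc 0)).relIndex (M (Fin.succ 0))) *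
        Nat.card (Sn p (H.map π)) := by
      rw [hM0, ← hN, Subgroup.relIndex_bot_left]
      by_cases hc : (Nat.card N).Coprime p
      · rw [if_pos hc]
        rw [card_Sn_of_coprime N hc H hH, Subgroup.card_bot, Nat.div_one]
        simp only [Subgroup.mem_bot]
        rfl
      · rw [if_neg hc]
        have hpN : IsPGroup p N := by
          rcases hfac 0 with ⟨m, hm⟩ | h
          · rw [hM0, ← hN, Subgroup.relIndex_bot_left] at hm
            exact IsPGroup.of_card hm
          · rw [hM0, ← hN, Subgroup.relIndex_bot_left] at h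
            exact absurd h hc
        exact card_Sn_of_isPGroup N hpN H
    rw [hstep, hIH, Finset.prod_congr rfl (fun i _ => hterms i)]

theorem card_sylow_eq_prod {G : Type*} [Group G] [Finite G] (p : ℕ) [Fact p.Prime] (P : Sylow p G)
    (n : ℕ) (r : Fin n → ℕ) (hr : ∏ i, r i = Nat.card G)
    (hfac : ∀ i : Fin n, (∃ m : ℕ, r i = p ^ m) ∨ (r i).Coprime p) :
    Nat.card (P : Subgroup G) = ∏ i : Fin n, (if (r i).Coprime p then 1 else r i) := by
  have hp : p.Prime := Fact.out
  have hA : ∀ i : Fin n, ∃ m : ℕ, (if (r i).Coprime p then 1 else r i) = p ^ m := by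
    intro i
    by_cases hc : (r i).Coprime p
    · exact ⟨0, by rw [if_pos hc, pow_zero]⟩
    · rcases hfac i with ⟨m, hm⟩ | h
      · exact ⟨m, by rw [if_neg hc, hm]⟩
      · exact absurd h hc
  choose e he using hA
  have ha : ∏ i : Fin n, (if (r i).Coprime p then 1 else r i) = p ^ (∑ i, e i) := by
    rw [← Finset.prod_pow_eq_pow_sum]
    exact Finset.prod_congr rfl (fun i _ => he i)
  have hb : (∏ i : Fin n, (if (r i).Coprime p then r i else 1)).Coprime p := by
    apply Nat.Coprime.prod_left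
    intro i _
    by_cases hc : (r i).Coprime p
    · rw [if_pos hc]; exact hc
    · rw [if_neg hc]; exact Nat.coprime_one_left p
  have hab : (∏ i : Fin n, (if (r i).Coprime p then 1 else r i)) *
      (∏ i : Fin n, (if (r i).Coprime p then r i else 1)) = Nat.card G := by
    rw [← hr, ← Finset.prod_mul_distrib]
    apply Finset.prod_congr rfl
    intro i _
    by_cases hc : (r i).Coprime p
    · rw [if_pos hc, if_pos hc, one_mul]
    · rw [if_neg hc, if_neg hc, mul_one]
  rw [Sylow.card_eq_multiplicity, ← hab, ha]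
  congr 1
  set b := ∏ i : Fin n, (if (r i).Coprime p then r i else 1) with hbdef
  have hb0 : b ≠ 0 := by
    intro h0
    rw [h0] at hb
    rw [Nat.coprime_zero_left] at hb
    exact hp.one_lt.ne' hb
  rw [Nat.factorization_mul (pow_ne_zero _ hp.ne_zero) hb0]
  simp only [Finsupp.coe_add, Pi.add_apply]
  rw [hp.factorization_pow, Finsupp.single_eq_same]
  have : b.factorization p = 0 := by
    apply Nat.factorization_eq_zero_of_not_dvd
    intro hd
    exact hp.one_lt.ne' (Nat.eq_one_of_dvd_coprimes hb hd dvd_rfl)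
  rw [this, add_zero]

theorem result {G : Type*} [Group G] [Finite G] (p : ℕ) [Fact p.Prime]
    (hG : Cfsg.IsPSolvable p G) (H : Subgroup G) (hH : IsPGroup p H) (P : Sylow p G)
    (n : ℕ) (M : Fin (n + 1) → Subgroup G) (h0 : M 0 = ⊥) (hn : M (Fin.last n) = ⊤) (hmono : Monotone M)
    (hnormal : ∀ i, (M i).Normal)
    (hfac : ∀ i : Fin n, (∃ m : ℕ, (M i.castSucc).relIndex (M i.succ) = p ^ m) ∨ ((M i.castSucc).relIndex (M i.succ)).Coprime p) :
    Nat.card {g : G // ((H).subgroupOf (H ⊔ Subgroup.zpowers g)).IsSubnormal} =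
      Nat.card (P : Subgroup G) *
        ∏ i : Fin n, (if ((M i.castSucc).relIndex (M i.succ)).Coprime p then
          Nat.card {u : G // u ∈ M i.succ ∧ ∀ h ∈ H, h * u * h⁻¹ * u⁻¹ ∈ M i.castSucc} / Nat.card (M i.castSucc)
          else 1) := by
  have h1 : Nat.card {g : G // ((H).subgroupOf (H ⊔ Subgroup.zpowers g)).IsSubnormal} =
      Nat.card (Sn p H) :=
    Nat.card_congr (Equiv.subtypeEquivRight (fun g => Cfsg.Agent.S4089.subn_iff_exists H hH g))
  rw [h1, chain_formula p n G H hH M h0 hn hmono hnormal hfac]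
  have hr : ∏ i : Fin n, (M i.castSucc).relIndex (M i.succ) = Nat.card G := by
    rw [prod_relIndex_chain n M hmono, h0, hn, Subgroup.relIndex_bot_left, Subgroup.card_top]
  rw [card_sylow_eq_prod p P n (fun i => (M i.castSucc).relIndex (M i.succ)) hr hfac,
    ← Finset.prod_mul_distrib]
  apply Finset.prod_congr rfl
  intro i _
  by_cases hc : ((M i.castSucc).relIndex (M i.succ)).Coprime p
  · simp only [if_pos hc, one_mul]
  · simp only [if_neg hc, mul_one]

end Cfsg.Agent.S4090
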