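import Cfsg.Statements.S4092
import Cfsg.Agent.Lib.Helper22.Basic
import Cfsg.Agent.Lib.Helper22.Frobenius

set_option autoImplicit false
open Cfsg

namespace Cfsg.Agent.S4092

open Classical in
theorem result {G : Type*} [Group G] [Finite G] (p : ℕ) [Fact p.Prime]
    (P : Sylow p G) (hP : ¬ (P : Subgroup G).Normal) :
    p * Nat.card (P : Subgroup G) ≤ Nat.card {g : G // ∃ k : ℕ, orderOf g = p ^ k} := by
  have hp : p.Prime := Fact.out
  let _ : Fintype G := Fintype.ofFinite G
  set n := (Nat.card G).factorization p with hn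
  have hPcard : Nat.card (P : Subgroup G) = p ^ n := Sylow.card_eq_multiplicity P
  have hpnG : p ^ n ∣ Nat.card G := Nat.ordProj_dvd _ _
  have hiff : ∀ g : G, (∃ k : ℕ, orderOf g = p ^ k) ↔ g ^ (p ^ n) = 1 := by
    intro g
    constructor
    · rintro ⟨k, hk⟩
      rw [← orderOf_dvd_iff_pow_eq_one, hk]
      apply pow_dvd_pow
      have h1 : p ^ k ∣ Nat.card G := by rw [← hk]; exact orderOf_dvd_natCard g
      exact (hp.pow_dvd_iff_le_factorization Nat.card_pos.ne').1 h1
    · intro h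
      have h1 : orderOf g ∣ p ^ n := orderOf_dvd_of_pow_eq_one h
      obtain ⟨k, -, hk⟩ := (Nat.dvd_prime_pow hp).1 h1
      exact ⟨k, hk⟩
  have hXeq : Nat.card {g : G // ∃ k : ℕ, orderOf g = p ^ k} = Nat.card {g : G // g ^ (p ^ n) = 1} :=
    Nat.card_congr (Equiv.subtypeEquivRight hiff)
  obtain ⟨r, hr⟩ := Lib.Helper22.frobenius (G := G) (p ^ n) hpnG
  have hmod : Nat.card {g : G // g ^ (p ^ n) = 1} ≡ 1 [MOD p - 1] := by
    have hsum := sum_card_orderOf_eq_card_pow_eq_one (G := G) (n := p ^ n) (pow_ne_zero n hp.ne_zero)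
    have hcard : Nat.card {g : G // g ^ (p ^ n) = 1} =
        ∑ m ∈ (p ^ n).divisors, (Finset.univ.filter (fun x : G => orderOf x = m)).card := by
      rw [Nat.card_eq_fintype_card, Fintype.card_subtype, hsum]
    rw [hcard, Nat.sum_divisors_prime_pow hp, Finset.sum_range_succ']
    have h0 : (Finset.univ.filter (fun x : G => orderOf x = p ^ 0)).card = 1 := by
      rw [pow_zero]
      have : Finset.univ.filter (fun x : G => orderOf x = 1) = {1} := by
        ext x
        simp [orderOf_eq_one_iff]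
      rw [this, Finset.card_singleton]
    rw [h0]
    have hdvd : p - 1 ∣ ∑ k ∈ Finset.range n, (Finset.univ.filter (fun x : G => orderOf x = p ^ (k + 1))).card := by
      apply Finset.dvd_sum
      intro k _
      have h1 := Lib.Helper22.totient_dvd_card_orderOf_eq (G := G) (p ^ (k + 1))
      rw [Nat.card_eq_fintype_card, Fintype.card_subtype, Nat.totient_prime_pow_succ hp] at h1
      exact dvd_trans (dvd_mul_left _ _) h1
    obtain ⟨s, hs⟩ := hdvd
    rw [hs]
    show ((p - 1) * s + 1) % (p - 1) = 1 % (p - 1)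
    rw [Nat.mul_add_mod]
  have hpn_mod : p ^ n ≡ 1 [MOD p - 1] := by
    have h1 : p ≡ 1 [MOD p - 1] := by
      rw [Nat.ModEq.comm, Nat.modEq_iff_dvd' hp.one_lt.le]
    have := h1.pow n
    rwa [one_pow] at this
  have hrmod : r ≡ 1 [MOD p - 1] := by
    rw [hr] at hmod
    have h1 : p ^ n * r ≡ 1 * r [MOD p - 1] := hpn_mod.mul_right r
    rw [one_mul] at h1
    exact h1.symm.trans hmod
  obtain ⟨x, ⟨k, hxk⟩, hxP⟩ : ∃ x : G, (∃ k : ℕ, orderOf x = p ^ k) ∧ x ∉ (P : Subgroup G) := by
    by_contra hcon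
    push Not at hcon
    apply hP
    constructor
    intro y hy g
    apply hcon
    obtain ⟨k, hk⟩ := Lib.Helper22.orderOf_of_mem_pgroup p (P : Subgroup G) P.2 y hy
    refine ⟨k, ?_⟩
    rw [← hk]
    symm
    apply SemiconjBy.orderOf_eq g
    unfold SemiconjBy
    group
  have hlt : Nat.card (P : Subgroup G) < Nat.card {g : G // ∃ k : ℕ, orderOf g = p ^ k} := by
    have h1 : Nat.card {g : G // ∃ k : ℕ, orderOf g = p ^ k} =
        Set.ncard {g : G | ∃ k : ℕ, orderOf g = p ^ k} := Nat.card_coe_set_eq _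
    have h2 : Nat.card (P : Subgroup G) = Set.ncard ((P : Subgroup G) : Set G) := Nat.card_coe_set_eq _
    rw [h1, h2]
    apply Set.ncard_lt_ncard _ (Set.toFinite _)
    rw [Set.ssubset_iff_of_subset]
    · exact ⟨x, ⟨k, hxk⟩, hxP⟩
    · intro y hy
      exact Lib.Helper22.orderOf_of_mem_pgroup p (P : Subgroup G) P.2 y hy
  rw [hXeq, hr, hPcard] at hlt
  rw [hXeq, hr, hPcard, mul_comm]
  apply Nat.mul_le_mul_left
  have hr2 : 2 ≤ r := by
    by_contra h
    have : r ≤ 1 := by omega
    have hpos : 0 < p ^ n := pow_pos hp.pos n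
    nlinarith
  have h3 : p - 1 ∣ r - 1 := (Nat.modEq_iff_dvd' (by omega)).1 hrmod.symm
  have h4 : p - 1 ≤ r - 1 := Nat.le_of_dvd (by omega) h3
  omega

end Cfsg.Agent.S4092
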