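import Cfsg.Statements.S4093
import Cfsg.Agent.Lib.Helper22.Sylow

set_option autoImplicit false
open Cfsg

namespace Cfsg.Agent.S4093

theorem card_orbit {G : Type*} [Group G] [Finite G] (N : Subgroup G) (x : G) :
    Nat.card {y : G // ∃ n ∈ N, n * x * n⁻¹ = y} =
      Nat.card N / Nat.card ↥(N ⊓ Subgroup.centralizer ({x} : Set G)) := by
  set S : Subgroup G := N ⊓ Subgroup.centralizer ({x} : Set G) with hS
  have hSpos : 0 < Nat.card S := Nat.card_pos
  have hs : ∀ s : S, (s : G) * x * (s : G)⁻¹ = x := by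
    intro s
    have h1 : (s : G) ∈ Subgroup.centralizer ({x} : Set G) := (Subgroup.mem_inf.1 s.2).2
    rw [Subgroup.mem_centralizer_singleton_iff] at h1
    rw [h1]; group
  choose sec hsecN hsec using fun y : {y : G // ∃ n ∈ N, n * x * n⁻¹ = y} => y.2
  have hbij : Function.Bijective
      (fun ys : {y : G // ∃ n ∈ N, n * x * n⁻¹ = y} × S =>
        (⟨sec ys.1 * ys.2, N.mul_mem (hsecN ys.1) (Subgroup.mem_inf.1 ys.2.2).1⟩ : N)) := by
    constructor
    · rintro ⟨y, s⟩ ⟨y', s'⟩ h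
      have h1 : sec y * (s : G) = sec y' * (s' : G) := congrArg Subtype.val h
      have h2 : ∀ (y : {y : G // ∃ n ∈ N, n * x * n⁻¹ = y}) (s : S),
          (sec y * (s : G)) * x * (sec y * (s : G))⁻¹ = (y : G) := by
        intro y s
        calc (sec y * (s : G)) * x * (sec y * (s : G))⁻¹
            = sec y * ((s : G) * x * (s : G)⁻¹) * (sec y)⁻¹ := by group
          _ = (y : G) := by rw [hs, hsec]
      have h3 : (y : G) = (y' : G) := by
        rw [← h2 y s, ← h2 y' s', h1]
      have h4 : y = y' := Subtype.ext h3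
      subst h4
      have h5 : (s : G) = (s' : G) := mul_left_cancel h1
      rw [Subtype.ext h5]
    · intro n
      have hy : ∃ m ∈ N, m * x * m⁻¹ = (n : G) * x * (n : G)⁻¹ := ⟨n, n.2, rfl⟩
      set y : {y : G // ∃ n ∈ N, n * x * n⁻¹ = y} := ⟨(n : G) * x * (n : G)⁻¹, hy⟩ with hydef
      have h1 : sec y * x * (sec y)⁻¹ = (n : G) * x * (n : G)⁻¹ := hsec y
      have h2 : (sec y)⁻¹ * (n : G) ∈ S := by
        refine Subgroup.mem_inf.2 ⟨N.mul_mem (N.inv_mem (hsecN y)) n.2, ?_⟩
        rw [Subgroup.mem_centralizer_singleton_iff]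
        calc (sec y)⁻¹ * (n : G) * x = (sec y)⁻¹ * ((n : G) * x * (n : G)⁻¹) * (n : G) := by group
          _ = (sec y)⁻¹ * (sec y * x * (sec y)⁻¹) * (n : G) := by rw [h1]
          _ = x * ((sec y)⁻¹ * (n : G)) := by group
      refine ⟨(y, ⟨(sec y)⁻¹ * (n : G), h2⟩), ?_⟩
      apply Subtype.ext
      show sec y * ((sec y)⁻¹ * (n : G)) = (n : G)
      group
  have h1 := Nat.card_eq_of_bijective _ hbij
  rw [Nat.card_prod] at h1
  exact (Nat.div_eq_of_eq_mul_left hSpos h1.symm).symm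

theorem result {G : Type*} [Group G] [Finite G] (p : ℕ) [Fact p.Prime]
    (P : Sylow p G) (N : Subgroup G) [N.Normal] (hNP : N.IsComplement' (P : Subgroup G)) :
    Nat.card {g : G // ∃ k : ℕ, orderOf g = p ^ k} =
      ∑ᶠ x : (P : Subgroup G), Nat.card N / Nat.card ↥(N ⊓ Subgroup.centralizer ({(x : G)} : Set G)) := by
  let _ : Fintype (P : Subgroup G) := Fintype.ofFinite _
  rw [finsum_eq_sum_of_fintype]
  have hdisj : ∀ z : G, z ∈ N → z ∈ (P : Subgroup G) → z = 1 := by
    intro z hzN hzP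
    have := hNP.disjoint
    rw [Subgroup.disjoint_def] at this
    exact this hzN hzP
  have hord : ∀ (x : (P : Subgroup G)) (y : {y : G // ∃ n ∈ N, n * (x : G) * n⁻¹ = y}),
      ∃ k : ℕ, orderOf (y : G) = p ^ k := by
    intro x y
    obtain ⟨n, -, hn⟩ := y.2
    obtain ⟨k, hk⟩ := (IsPGroup.iff_orderOf.1 P.2) x
    refine ⟨k, ?_⟩
    rw [← hk, ← Subgroup.orderOf_coe, ← hn]
    symm
    apply SemiconjBy.orderOf_eq n
    unfold SemiconjBy
    group
  have hbij : Function.Bijective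
      (fun xy : (Σ x : (P : Subgroup G), {y : G // ∃ n ∈ N, n * (x : G) * n⁻¹ = y}) =>
        (⟨(xy.2 : G), hord xy.1 xy.2⟩ : {g : G // ∃ k : ℕ, orderOf g = p ^ k})) := by
    constructor
    · rintro ⟨x, y⟩ ⟨x', y'⟩ h
      have h1 : (y : G) = (y' : G) := congrArg Subtype.val h
      obtain ⟨n, hn, hy⟩ := y.2
      obtain ⟨n', hn', hy'⟩ := y'.2
      have h2 : (x : G)⁻¹ * (x' : G) ∈ N := by
        rw [← QuotientGroup.eq]
        have e1 : (QuotientGroup.mk (n * (x : G) * n⁻¹) : G ⧸ N) = QuotientGroup.mk (x : G) := by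
          rw [QuotientGroup.mk_mul, QuotientGroup.mk_mul, QuotientGroup.mk_inv,
            (QuotientGroup.eq_one_iff n).2 hn]
          simp
        have e2 : (QuotientGroup.mk (n' * (x' : G) * n'⁻¹) : G ⧸ N) = QuotientGroup.mk (x' : G) := by
          rw [QuotientGroup.mk_mul, QuotientGroup.mk_mul, QuotientGroup.mk_inv,
            (QuotientGroup.eq_one_iff n').2 hn']
          simp
        rw [← e1, ← e2, hy, hy', h1]
      have h3 := hdisj _ h2 ((P : Subgroup G).mul_mem ((P : Subgroup G).inv_mem x.2) x'.2)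
      have h4 : x = x' := by
        apply Subtype.ext
        have : (x' : G) = (x : G) * ((x : G)⁻¹ * (x' : G)) := by group
        rw [this, h3, mul_one]
      subst h4
      rw [Subtype.ext h1]
    · rintro ⟨g, k, hk⟩
      have hpg : IsPGroup p (Subgroup.zpowers g) := by
        apply IsPGroup.of_card (n := k)
        rw [Nat.card_zpowers, hk]
      obtain ⟨R, hR⟩ := hpg.exists_le_sylow
      obtain ⟨c, hc⟩ := MulAction.exists_smul_eq G P R
      have hgR : g ∈ ((c • P : Sylow p G) : Subgroup G) := by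
        rw [hc]; exact hR (Subgroup.mem_zpowers g)
      rw [Lib.Helper22.mem_smul_sylow_iff] at hgR
      have hc' : c ∈ ((N ⊔ (P : Subgroup G) : Subgroup G) : Set G) := by
        rw [hNP.sup_eq_top]; trivial
      rw [Subgroup.normal_mul, Set.mem_mul] at hc'
      obtain ⟨n, hn, x₀, hx₀, rfl⟩ := hc'
      have hx : n⁻¹ * g * n ∈ (P : Subgroup G) := by
        have : n⁻¹ * g * n = x₀ * ((n * x₀)⁻¹ * g * (n * x₀)) * x₀⁻¹ := by group
        rw [this]
        exact (P : Subgroup G).mul_mem ((P : Subgroup G).mul_mem hx₀ hgR) ((P : Subgroup G).inv_mem hx₀)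
      refine ⟨⟨⟨n⁻¹ * g * n, hx⟩, ⟨g, n, hn, by group⟩⟩, ?_⟩
      rfl
  rw [← Nat.card_eq_of_bijective _ hbij, Nat.card_sigma]
  apply Finset.sum_congr rfl
  intro x _
  exact card_orbit N (x : G)

end Cfsg.Agent.S4093
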