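import Cfsg.Statements.S4106
import Cfsg.Agent.Lib.Helper22.Sylow

set_option autoImplicit false
open Cfsg

namespace Cfsg.Agent.S4106

universe u

open Classical in
theorem core (S : Finset ℕ) : (∀ q ∈ S, q.Prime) → ∀ (G : Type u) [Group G] [Finite G],
    ∃ T : Finset G, T.card ≤ ∏ q ∈ S, q ^ (Nat.card G).factorization q ∧
      ∀ g : G, (∀ q : ℕ, q.Prime → q ∣ orderOf g → q ∈ S) → ∃ t ∈ T, IsConj g t := by
  induction S using Finset.induction_on with
  | empty =>
    intro _ G _ _
    refine ⟨{1}, by simp, ?_⟩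
    intro g hg
    have h1 : orderOf g = 1 := by
      rw [Nat.eq_one_iff_not_exists_prime_dvd]
      intro q hq hqd
      exact absurd (hg q hq hqd) (Finset.notMem_empty q)
    rw [orderOf_eq_one_iff] at h1
    exact ⟨1, Finset.mem_singleton_self 1, by rw [h1]⟩
  | insert p S' hpS' ih =>
    intro hS G _ _
    have hp : p.Prime := hS p (Finset.mem_insert_self p S')
    have : Fact p.Prime := ⟨hp⟩
    have ih' := ih (fun q hq => hS q (Finset.mem_insert_of_mem hq))
    obtain ⟨P⟩ := (inferInstance : Nonempty (Sylow p G))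
    let _ : Fintype (P : Subgroup G) := Fintype.ofFinite _
    choose T hTcard hTcov using fun x : (P : Subgroup G) =>
      ih' (Subgroup.centralizer ({(x : G)} : Set G))
    refine ⟨(Finset.univ : Finset (P : Subgroup G)).biUnion
      (fun x => (T x).image (fun t : Subgroup.centralizer ({(x : G)} : Set G) => (x : G) * (t : G))), ?_, ?_⟩
    · have hbound : ∀ x : (P : Subgroup G), (T x).card ≤ ∏ q ∈ S', q ^ (Nat.card G).factorization q := by
        intro x
        refine le_trans (hTcard x) ?_
        apply Finset.prod_le_prod (fun _ _ => Nat.zero_le _)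
        intro q hq
        have hq' : q.Prime := hS q (Finset.mem_insert_of_mem hq)
        apply Nat.pow_le_pow_right hq'.pos
        have hdvd : Nat.card (Subgroup.centralizer ({(x : G)} : Set G)) ∣ Nat.card G :=
          Subgroup.card_subgroup_dvd_card _
        exact (Nat.factorization_le_iff_dvd Nat.card_pos.ne' Nat.card_pos.ne').2 hdvd q
      calc ((Finset.univ : Finset (P : Subgroup G)).biUnion
            (fun x => (T x).image (fun t : Subgroup.centralizer ({(x : G)} : Set G) => (x : G) * (t : G)))).card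
          ≤ ∑ x : (P : Subgroup G), ((T x).image (fun t : Subgroup.centralizer ({(x : G)} : Set G) => (x : G) * (t : G))).card :=
            Finset.card_biUnion_le
        _ ≤ ∑ x : (P : Subgroup G), (T x).card :=
            Finset.sum_le_sum (fun x _ => Finset.card_image_le)
        _ ≤ ∑ _x : (P : Subgroup G), ∏ q ∈ S', q ^ (Nat.card G).factorization q :=
            Finset.sum_le_sum (fun x _ => hbound x)
        _ = ∏ q ∈ insert p S', q ^ (Nat.card G).factorization q := by
            rw [Finset.sum_const, Finset.card_univ, ← Nat.card_eq_fintype_card, smul_eq_mul,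
              Finset.prod_insert hpS', Sylow.card_eq_multiplicity]
    · intro g hg
      obtain ⟨a, b, hab, hcomm, ⟨k, hk⟩, hbcop, haz, hbz⟩ := Lib.Helper22.exists_p_decomp p g
      have hpg : IsPGroup p (Subgroup.zpowers a) := by
        apply IsPGroup.of_card (n := k)
        rw [Nat.card_zpowers, hk]
      obtain ⟨R, hR⟩ := hpg.exists_le_sylow
      obtain ⟨c, hc⟩ := MulAction.exists_smul_eq G P R
      have haR : a ∈ ((c • P : Sylow p G) : Subgroup G) := by
        rw [hc]; exact hR (Subgroup.mem_zpowers a)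
      rw [Lib.Helper22.mem_smul_sylow_iff] at haR
      set x : (P : Subgroup G) := ⟨c⁻¹ * a * c, haR⟩ with hx
      have hb'C : c⁻¹ * b * c ∈ Subgroup.centralizer ({(x : G)} : Set G) := by
        rw [Subgroup.mem_centralizer_singleton_iff]
        show c⁻¹ * b * c * (c⁻¹ * a * c) = c⁻¹ * a * c * (c⁻¹ * b * c)
        have h1 : c⁻¹ * b * c * (c⁻¹ * a * c) = c⁻¹ * (b * a) * c := by group
        have h2 : c⁻¹ * a * c * (c⁻¹ * b * c) = c⁻¹ * (a * b) * c := by group
        rw [h1, h2, hcomm.eq]
      have hb'ord : orderOf (⟨c⁻¹ * b * c, hb'C⟩ : Subgroup.centralizer ({(x : G)} : Set G)) = orderOf b := by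
        rw [Subgroup.orderOf_mk]
        symm
        apply SemiconjBy.orderOf_eq c⁻¹
        unfold SemiconjBy
        group
      have hb'S : ∀ q : ℕ, q.Prime →
          q ∣ orderOf (⟨c⁻¹ * b * c, hb'C⟩ : Subgroup.centralizer ({(x : G)} : Set G)) → q ∈ S' := by
        intro q hq hqd
        rw [hb'ord] at hqd
        have h1 : q ∣ orderOf g := dvd_trans hqd (orderOf_dvd_of_mem_zpowers hbz)
        have h2 := hg q hq h1
        rcases Finset.mem_insert.1 h2 with rfl | h3
        · exfalso
          have h4 := Nat.Coprime.eq_one_of_dvd hbcop.symm hqd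
          exact hq.one_lt.ne' h4
        · exact h3
      obtain ⟨t, ht, hconj⟩ := hTcov x _ hb'S
      rw [isConj_iff] at hconj
      obtain ⟨d, hd⟩ := hconj
      refine ⟨(x : G) * (t : G), ?_, ?_⟩
      · rw [Finset.mem_biUnion]
        exact ⟨x, Finset.mem_univ x, Finset.mem_image_of_mem _ ht⟩
      · rw [isConj_iff]
        refine ⟨(d : G) * c⁻¹, ?_⟩
        have hd' : (d : G) * (c⁻¹ * b * c) * (d : G)⁻¹ = (t : G) := by
          have := congrArg Subtype.val hd
          simpa using this
        have hdx : (d : G) * (c⁻¹ * a * c) = (c⁻¹ * a * c) * (d : G) :=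
          Subgroup.mem_centralizer_singleton_iff.1 d.2
        calc (d : G) * c⁻¹ * g * ((d : G) * c⁻¹)⁻¹
            = (d : G) * (c⁻¹ * a * c) * (c⁻¹ * b * c) * (d : G)⁻¹ := by rw [hab]; group
          _ = (c⁻¹ * a * c) * ((d : G) * (c⁻¹ * b * c) * (d : G)⁻¹) := by rw [hdx]; group
          _ = (x : G) * (t : G) := by rw [hd']

theorem prod_dvd_of_primes (S : Finset ℕ) (e : ℕ → ℕ) (m : ℕ) (hS : ∀ q ∈ S, q.Prime)
    (hdvd : ∀ q ∈ S, q ^ e q ∣ m) : ∏ q ∈ S, q ^ e q ∣ m := by
  classical
  induction S using Finset.induction_on with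
  | empty => simp
  | insert p S' hpS' ih =>
    rw [Finset.prod_insert hpS']
    apply Nat.Coprime.mul_dvd_of_dvd_of_dvd
    · apply Nat.Coprime.prod_right
      intro q hq
      apply Nat.coprime_pow_primes _ _ (hS p (Finset.mem_insert_self p S'))
        (hS q (Finset.mem_insert_of_mem hq))
      rintro rfl
      exact hpS' hq
    · exact hdvd p (Finset.mem_insert_self p S')
    · exact ih (fun q hq => hS q (Finset.mem_insert_of_mem hq))
        (fun q hq => hdvd q (Finset.mem_insert_of_mem hq))

open Classical in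
theorem result {G : Type*} [Group G] [Finite G]
    (π : Set ℕ) (hπ : ∀ q ∈ π, q.Prime)
    (m : ℕ) (hm : m ∣ Nat.card G) (hmπ : ∀ q : ℕ, q.Prime → q ∣ m → q ∈ π)
    (hm' : ∀ q ∈ π, ¬ q ∣ Nat.card G / m) :
    Nat.card {C : ConjClasses G // ∀ q : ℕ, q.Prime → (∃ g : G, ConjClasses.mk g = C ∧ q ∣ orderOf g) → q ∈ π} ≤ m := by
  set S : Finset ℕ := (Nat.card G).primeFactors.filter (fun q => q ∈ π) with hSdef
  have hSprime : ∀ q ∈ S, q.Prime := fun q hq => hπ q (Finset.mem_filter.1 hq).2
  obtain ⟨T, hTcard, hTcov⟩ := core S hSprime G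
  have hm0 : 0 < m := Nat.pos_of_dvd_of_pos hm Nat.card_pos
  have hBm : ∏ q ∈ S, q ^ (Nat.card G).factorization q ≤ m := by
    apply Nat.le_of_dvd hm0
    apply prod_dvd_of_primes S _ m hSprime
    intro q hq
    have hqπ : q ∈ π := (Finset.mem_filter.1 hq).2
    have hq' : q.Prime := hπ q hqπ
    have h1 : q ^ (Nat.card G).factorization q ∣ m * (Nat.card G / m) := by
      rw [Nat.mul_div_cancel' hm]; exact Nat.ordProj_dvd _ _
    have hcop : (q ^ (Nat.card G).factorization q).Coprime (Nat.card G / m) :=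
      Nat.Coprime.pow_left _ ((Nat.Prime.coprime_iff_not_dvd hq').2 (hm' q hqπ))
    exact hcop.dvd_of_dvd_mul_right h1
  have hrep : ∀ C : {C : ConjClasses G // ∀ q : ℕ, q.Prime →
      (∃ g : G, ConjClasses.mk g = C ∧ q ∣ orderOf g) → q ∈ π}, ∃ t ∈ T, ConjClasses.mk t = C.1 := by
    rintro ⟨C, hC⟩
    obtain ⟨g, rfl⟩ := ConjClasses.exists_rep C
    have hgS : ∀ q : ℕ, q.Prime → q ∣ orderOf g → q ∈ S := by
      intro q hq hqd
      rw [hSdef, Finset.mem_filter, Nat.mem_primeFactors]
      exact ⟨⟨hq, dvd_trans hqd (orderOf_dvd_natCard g), Nat.card_pos.ne'⟩, hC q hq ⟨g, rfl, hqd⟩⟩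
    obtain ⟨t, ht, hconj⟩ := hTcov g hgS
    exact ⟨t, ht, (ConjClasses.mk_eq_mk_iff_isConj.2 hconj).symm⟩
  choose f hfT hf using hrep
  have hinj : Function.Injective (fun C => (⟨f C, hfT C⟩ : T)) := by
    intro C C' h
    have h1 : f C = f C' := congrArg Subtype.val h
    apply Subtype.ext
    rw [← hf C, ← hf C', h1]
  have h1 := Nat.card_le_card_of_injective _ hinj
  have h2 : Nat.card T = T.card := by rw [Nat.card_eq_fintype_card, Fintype.card_coe]
  rw [h2] at h1
  exact le_trans h1 (le_trans hTcard hBm)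

end Cfsg.Agent.S4106
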