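import Cfsg.Statements.S4107
import Cfsg.Agent.Lib.Helper22.Basic

set_option autoImplicit false
open Cfsg

namespace Cfsg.Agent.S4107

open Cfsg.Agent.Lib.Helper22

theorem isPGroup_of_not_le {G : Type*} [Group G] [Finite G] (N : Subgroup G)
    (heq : ∀ x : G, x ∉ N → ∀ n ∈ N, orderOf (x * n) = orderOf x)
    (q : ℕ) [Fact q.Prime] (Q : Subgroup G) [Q.Normal] (hQ : IsPGroup q Q) (hQN : ¬ Q ≤ N) :
    IsPGroup q N := by
  obtain ⟨x, hxQ, hxN⟩ := SetLike.not_le_iff_exists.1 hQN
  obtain ⟨k, hk⟩ := orderOf_of_mem_pgroup q Q hQ x hxQ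
  intro u
  have h1 : orderOf (x * (u : G)) = q ^ k := by rw [heq x hxN u u.2, hk]
  have h2 : (x * (u : G)) ^ (q ^ k) = 1 := by rw [← h1]; exact pow_orderOf_eq_one _
  have h3 : (QuotientGroup.mk' Q) ((u : G) ^ (q ^ k)) = 1 := by
    have : (QuotientGroup.mk' Q) (x * (u : G)) = (QuotientGroup.mk' Q) (u : G) := by
      have hx1 : (QuotientGroup.mk' Q) x = 1 := (QuotientGroup.eq_one_iff x).2 hxQ
      rw [map_mul, hx1, one_mul]
    rw [map_pow, ← this, ← map_pow, h2, map_one]
  have h4 : (u : G) ^ (q ^ k) ∈ Q := (QuotientGroup.eq_one_iff _).1 h3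
  obtain ⟨j, hj⟩ := orderOf_of_mem_pgroup q Q hQ _ h4
  refine ⟨k + j, ?_⟩
  apply Subtype.ext
  have h5 : ((u : G) ^ (q ^ k)) ^ (q ^ j) = 1 := by rw [← hj]; exact pow_orderOf_eq_one _
  rw [← pow_mul, ← pow_add] at h5
  simpa using h5

theorem sylow_map_normal {G : Type*} [Group G] [Finite G] (K : Subgroup G) [K.Normal]
    (hK : Group.IsNilpotent K) (r : ℕ) [Fact r.Prime] (P : Sylow r K) :
    ((P : Subgroup K).map K.subtype).Normal := by
  have h1 : (P : Subgroup K).Normal := inferInstance
  have h2 : (P : Subgroup K).Characteristic := Sylow.characteristic_of_normal P h1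
  exact ConjAct.normal_of_characteristic_of_normal

theorem exists_prime_isPGroup {G : Type*} [Group G] [Finite G] (N : Subgroup G)
    (heq : ∀ x : G, x ∉ N → ∀ n ∈ N, orderOf (x * n) = orderOf x)
    (K : Subgroup G) [K.Normal] (hK : Group.IsNilpotent K) (hKN : ¬ K ≤ N) :
    ∃ (q : ℕ) (_ : Fact q.Prime), IsPGroup q N := by
  by_contra hcon
  push Not at hcon
  apply hKN
  have h1 : N.subgroupOf K = ⊤ := by
    apply eq_top_of_sylow_le
    intro r hr
    obtain ⟨P⟩ : Nonempty (Sylow r K) := inferInstance
    refine ⟨P, ?_⟩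
    by_contra hP
    have hQn := sylow_map_normal K hK r P
    have hQp : IsPGroup r ((P : Subgroup K).map K.subtype) := P.2.map _
    apply hcon r hr
    apply isPGroup_of_not_le N heq r _ hQp
    intro hle
    apply hP
    intro y hy
    rw [Subgroup.mem_subgroupOf]
    exact hle (Subgroup.mem_map_of_mem _ hy)
  intro y hy
  have : (⟨y, hy⟩ : K) ∈ N.subgroupOf K := by rw [h1]; exact Subgroup.mem_top _
  exact Subgroup.mem_subgroupOf.1 this

/-- Let G be a finite group and N a proper non-trivial normal subgroup such that for every x outside N all elements of the coset xN have the same order as x. Then N ≤ F(G) or F(G) ≤ N, where F(G) is the Fitting subgroup; and if N is properly contained in F(G) then F(G) has prime-power order. -/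
theorem result {G : Type*} [Group G] [Finite G] (N : Subgroup G) [N.Normal] (hN1 : N ≠ ⊥) (hN2 : N ≠ ⊤)
    (heq : ∀ x : G, x ∉ N → ∀ n ∈ N, orderOf (x * n) = orderOf x) :
    (N ≤ Cfsg.fittingSubgroup G ∨ Cfsg.fittingSubgroup G ≤ N) ∧
    (N < Cfsg.fittingSubgroup G → IsPrimePow (Nat.card (Cfsg.fittingSubgroup G))) := by
  have hkey : ∀ K : Subgroup G, K.Normal → Group.IsNilpotent K → ¬ K ≤ N →
      ∃ (q : ℕ) (_ : Fact q.Prime), IsPGroup q N := by
    intro K hKn hK hKN
    exact exists_prime_isPGroup N heq K hK hKN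
  have hNF : ∀ (q : ℕ) (_ : Fact q.Prime), IsPGroup q N → N ≤ Cfsg.fittingSubgroup G := by
    intro q hq hqN
    apply le_sSup
    exact ⟨inferInstance, hqN.isNilpotent⟩
  constructor
  · by_cases h : ∀ K : Subgroup G, K.Normal → Group.IsNilpotent K → K ≤ N
    · right
      apply sSup_le
      rintro K ⟨hKn, hK⟩
      exact h K hKn hK
    · left
      push Not at h
      obtain ⟨K, hKn, hK, hKN⟩ := h
      obtain ⟨q, hq, hqN⟩ := hkey K hKn hK hKN
      exact hNF q hq hqN
  · intro hlt
    have h1 : ¬ Cfsg.fittingSubgroup G ≤ N := not_le_of_gt hlt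
    have h2 : ∃ K : Subgroup G, K.Normal ∧ Group.IsNilpotent K ∧ ¬ K ≤ N := by
      by_contra hcon
      push Not at hcon
      apply h1
      apply sSup_le
      rintro K ⟨hKn, hK⟩
      exact hcon K hKn hK
    obtain ⟨K₀, hK₀n, hK₀, hK₀N⟩ := h2
    obtain ⟨q, hq, hqN⟩ := hkey K₀ hK₀n hK₀ hK₀N
    have hqp : q.Prime := hq.out
    obtain ⟨P⟩ : Nonempty (Sylow q G) := inferInstance
    have hall : ∀ K : Subgroup G, K.Normal → Group.IsNilpotent K → K ≤ (P : Subgroup G) := by
      intro K hKn hK
      have hKq : IsPGroup q K := by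
        have hcard : Nat.card K = q ^ (Nat.card K).primeFactorsList.length := by
          apply Nat.eq_prime_pow_of_unique_prime_dvd Nat.card_pos.ne'
          intro r hr hrK
          by_contra hrq
          have : Fact r.Prime := ⟨hr⟩
          obtain ⟨R⟩ : Nonempty (Sylow r K) := inferInstance
          have hRn := sylow_map_normal K hK r R
          have hRp : IsPGroup r ((R : Subgroup K).map K.subtype) := R.2.map _
          have hRN : ¬ (R : Subgroup K).map K.subtype ≤ N := by
            intro hle
            have hRne : (R : Subgroup K) ≠ ⊥ := by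
              intro hbot
              have h3 := R.card_eq_multiplicity
              rw [hbot, Subgroup.card_bot] at h3
              have h4 : (Nat.card K).factorization r = 0 := by
                by_contra h0
                have : 1 < r ^ (Nat.card K).factorization r :=
                  Nat.one_lt_pow h0 hr.one_lt
                omega
              have h5 := (Nat.factorization_eq_zero_iff _ _).1 h4
              rcases h5 with h5 | h5 | h5
              · exact h5 hr
              · exact h5 hrK
              · exact Nat.card_pos.ne' h5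
            obtain ⟨y, hyR, hy1⟩ : ∃ y : K, y ∈ (R : Subgroup K) ∧ y ≠ 1 := by
              obtain ⟨y, hy⟩ := (Subgroup.ne_bot_iff_exists_ne_one (H := (R : Subgroup K))).1 hRne
              exact ⟨(y : K), y.2, fun h => hy (Subtype.ext h)⟩
            have hyN : (y : G) ∈ N := hle (Subgroup.mem_map_of_mem _ hyR)
            obtain ⟨a, ha⟩ := (IsPGroup.iff_orderOf.1 hqN) ⟨(y : G), hyN⟩
            obtain ⟨b, hb⟩ := (IsPGroup.iff_orderOf.1 R.2) ⟨y, hyR⟩
            rw [Subgroup.orderOf_mk] at ha hb
            rw [Subgroup.orderOf_coe] at ha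
            have hco : (orderOf y).Coprime (orderOf y) := by
              nth_rewrite 1 [ha]
              rw [hb]
              exact Nat.Coprime.pow _ _ ((Nat.coprime_primes hqp hr).2 (Ne.symm hrq))
            rw [Nat.coprime_self] at hco
            exact hy1 (orderOf_eq_one_iff.1 hco)
          have hrN := isPGroup_of_not_le N heq r _ hRp hRN
          obtain ⟨u, huN, hu1⟩ : ∃ u : G, u ∈ N ∧ u ≠ 1 := by
            obtain ⟨y, hy⟩ := (Subgroup.ne_bot_iff_exists_ne_one (H := N)).1 hN1
            exact ⟨(y : G), y.2, fun h => hy (Subtype.ext h)⟩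
          obtain ⟨a, ha⟩ := (IsPGroup.iff_orderOf.1 hqN) ⟨u, huN⟩
          obtain ⟨b, hb⟩ := (IsPGroup.iff_orderOf.1 hrN) ⟨u, huN⟩
          rw [Subgroup.orderOf_mk] at ha hb
          have hco : (orderOf u).Coprime (orderOf u) := by
            nth_rewrite 1 [ha]
            rw [hb]
            exact Nat.Coprime.pow _ _ ((Nat.coprime_primes hqp hr).2 (Ne.symm hrq))
          rw [Nat.coprime_self] at hco
          exact hu1 (orderOf_eq_one_iff.1 hco)
        exact IsPGroup.of_card hcard
      have hsup : IsPGroup q (K ⊔ (P : Subgroup G) : Subgroup G) :=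
        IsPGroup.to_sup_of_normal_left' hKq P.2 (by
          intro y _
          rw [Subgroup.normalizer_eq_top_iff.2 hKn]
          exact Subgroup.mem_top _)
      have := P.is_maximal' hsup le_sup_right
      rw [← this]
      exact le_sup_left
    have hFP : Cfsg.fittingSubgroup G ≤ (P : Subgroup G) := by
      apply sSup_le
      rintro K ⟨hKn, hK⟩
      exact hall K hKn hK
    have hFq : IsPGroup q (Cfsg.fittingSubgroup G) := P.2.to_le hFP
    obtain ⟨n, hn⟩ := IsPGroup.iff_card.1 hFq
    rw [hn]
    have hn0 : n ≠ 0 := by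
      rintro rfl
      rw [pow_zero] at hn
      have h3 : Cfsg.fittingSubgroup G = ⊥ := Subgroup.card_eq_one.1 hn
      apply hN1
      rw [eq_bot_iff, ← h3]
      exact hlt.le
    exact (Nat.prime_iff.1 hqp).isPrimePow.pow hn0

end Cfsg.Agent.S4107
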