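import Cfsg.Statements.S4108

set_option autoImplicit false
open Cfsg
open scoped Pointwise

namespace Cfsg.Agent.S4108

theorem mem_conj_smul_iff {M : Type*} [Group M] (g x : M) (S : Subgroup M) :
    x ∈ MulAut.conj g • S ↔ g⁻¹ * x * g ∈ S := by
  rw [Subgroup.mem_pointwise_smul_iff_inv_smul_mem, MulAut.smul_def, MulAut.conj_inv_apply]

theorem result {G : Type*} [Group G] [Finite G] (N : Subgroup G) [N.Normal] (hN1 : N ≠ ⊥) (hN2 : N ≠ ⊤)
    (heq : ∀ x : G, x ∉ N → ∀ n ∈ N, orderOf (x * n) = orderOf x)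
    (p : ℕ) [Fact p.Prime] (hNp : IsPGroup p N) :
    ∀ H : Subgroup G, H ≠ ⊥ → (Nat.card H).Coprime p →
      Cfsg.IsFrobeniusComplement (H.subgroupOf (N ⊔ H)) ∧ Cfsg.frobeniusKernel (H.subgroupOf (N ⊔ H)) = (N.subgroupOf (N ⊔ H) : Set ↥(N ⊔ H)) := by
  intro H hH1 hHp
  have hp : p.Prime := Fact.out
  have hNord : ∀ n ∈ N, ∃ k : ℕ, orderOf n = p ^ k := by
    intro n hn
    obtain ⟨k, hk⟩ := (IsPGroup.iff_orderOf.1 hNp) ⟨n, hn⟩
    exact ⟨k, by rw [← hk, Subgroup.orderOf_mk]⟩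
  have hHord : ∀ h ∈ H, (orderOf h).Coprime p := by
    intro h hh
    have h1 : orderOf h ∣ Nat.card H := by
      have := orderOf_dvd_natCard (⟨h, hh⟩ : H)
      rwa [Subgroup.orderOf_mk] at this
    exact Nat.Coprime.coprime_dvd_left h1 hHp
  have hdisj : ∀ z : G, z ∈ N → z ∈ H → z = 1 := by
    intro z hzN hzH
    obtain ⟨k, hk⟩ := hNord z hzN
    have h1 := hHord z hzH
    rw [hk] at h1
    have h2 : (p ^ k).Coprime (p ^ k) := h1.pow_right k
    rw [Nat.coprime_self] at h2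
    rw [h2] at hk
    exact orderOf_eq_one_iff.1 hk
  have hkey : ∀ h ∈ H, h ≠ 1 → ∀ n ∈ N, n * h = h * n → n = 1 := by
    intro h hh hh1 n hn hcomm
    have hhN : h ∉ N := fun hhN => hh1 (hdisj h hhN hh)
    have h1 := heq h hhN n hn
    obtain ⟨k, hk⟩ := hNord n hn
    have hcop : (orderOf h).Coprime (orderOf n) := by
      rw [hk]; exact (hHord h hh).pow_right k
    have hc : Commute h n := hcomm.symm
    rw [hc.orderOf_mul_eq_mul_orderOf_of_coprime hcop] at h1
    have h2 : orderOf n = 1 := by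
      have hpos := orderOf_pos h
      nlinarith [Nat.eq_of_mul_eq_mul_left hpos (by rw [h1, mul_one] : orderOf h * orderOf n = orderOf h * 1)]
    exact orderOf_eq_one_iff.1 h2
  have hsurj : ∀ h ∈ H, h ≠ 1 → ∀ n ∈ N, ∃ m ∈ N, m * h * m⁻¹ = n * h := by
    intro h hh hh1 n hn
    have hmem : ∀ m : N, (m : G) * h * (m : G)⁻¹ * h⁻¹ ∈ N := by
      intro m
      have h2 : h * (m : G)⁻¹ * h⁻¹ ∈ N := ‹N.Normal›.conj_mem _ (N.inv_mem m.2) h
      have h3 : (m : G) * h * (m : G)⁻¹ * h⁻¹ = (m : G) * (h * (m : G)⁻¹ * h⁻¹) := by group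
      rw [h3]
      exact N.mul_mem m.2 h2
    set f : N → N := fun m => ⟨(m : G) * h * (m : G)⁻¹ * h⁻¹, hmem m⟩ with hf
    have hinj : Function.Injective f := by
      intro m m' hmm
      have h1 : (m : G) * h * (m : G)⁻¹ * h⁻¹ = (m' : G) * h * (m' : G)⁻¹ * h⁻¹ :=
        congrArg Subtype.val hmm
      have h2 : ((m' : G)⁻¹ * (m : G)) * h = h * ((m' : G)⁻¹ * (m : G)) := by
        have h3 : (m : G) * h * (m : G)⁻¹ = (m' : G) * h * (m' : G)⁻¹ := mul_right_cancel h1
        calc ((m' : G)⁻¹ * (m : G)) * h = (m' : G)⁻¹ * ((m : G) * h * (m : G)⁻¹) * (m : G) := by group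
          _ = (m' : G)⁻¹ * ((m' : G) * h * (m' : G)⁻¹) * (m : G) := by rw [h3]
          _ = h * ((m' : G)⁻¹ * (m : G)) := by group
      have h4 := hkey h hh hh1 _ (N.mul_mem (N.inv_mem m'.2) m.2) h2
      apply Subtype.ext
      have h5 : (m : G) = (m' : G) * ((m' : G)⁻¹ * (m : G)) := by group
      rw [h5, h4, mul_one]
    obtain ⟨m, hm⟩ := (Finite.injective_iff_surjective.1 hinj) ⟨n, hn⟩
    refine ⟨m, m.2, ?_⟩
    have h1 : (m : G) * h * (m : G)⁻¹ * h⁻¹ = n := congrArg Subtype.val hm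
    rw [← h1]; group
  have hNH : N ⊓ H = ⊥ := by
    rw [eq_bot_iff]
    intro z hz
    exact hdisj z hz.1 hz.2
  have hmemM : ∀ g : ↥(N ⊔ H), ∃ n ∈ N, ∃ h ∈ H, (g : G) = n * h := by
    intro g
    have h1 : (g : G) ∈ ((N ⊔ H : Subgroup G) : Set G) := g.2
    rw [Subgroup.normal_mul, Set.mem_mul] at h1
    obtain ⟨n, hn, h, hh, hnh⟩ := h1
    exact ⟨n, hn, h, hh, hnh.symm⟩
  refine ⟨⟨?_, ?_, ?_⟩, ?_⟩
  · rw [Ne, Subgroup.subgroupOf_eq_bot]
    intro hd
    apply hH1
    rw [eq_bot_iff]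
    exact hd le_rfl le_sup_right
  · rw [Ne, Subgroup.subgroupOf_eq_top]
    intro hle
    apply hN1
    rw [eq_bot_iff, ← hNH]
    exact le_inf le_rfl (le_trans le_sup_left hle)
  · intro g hg
    rw [eq_bot_iff]
    intro z hz
    rw [Subgroup.mem_bot]
    obtain ⟨hz1, hz2⟩ := Subgroup.mem_inf.1 hz
    rw [mem_conj_smul_iff] at hz2
    rw [Subgroup.mem_subgroupOf] at hz1 hz2 hg
    obtain ⟨n, hn, h₀, hh₀, hg'⟩ := hmemM g
    simp only [Subgroup.coe_mul, Subgroup.coe_inv] at hz2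
    rw [hg'] at hz2 hg
    have h1 : n⁻¹ * (z : G) * n ∈ H := by
      have h2 : n⁻¹ * (z : G) * n = h₀ * ((n * h₀)⁻¹ * (z : G) * (n * h₀)) * h₀⁻¹ := by group
      rw [h2]
      exact H.mul_mem (H.mul_mem hh₀ hz2) (H.inv_mem hh₀)
    have h3 : (z : G)⁻¹ * (n⁻¹ * (z : G) * n) = 1 := by
      apply hdisj
      · have h4 : (z : G)⁻¹ * n⁻¹ * (z : G) ∈ N := by
          have := ‹N.Normal›.conj_mem _ (N.inv_mem hn) (z : G)⁻¹
          simpa using this
        have h5 : (z : G)⁻¹ * (n⁻¹ * (z : G) * n) = ((z : G)⁻¹ * n⁻¹ * (z : G)) * n := by group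
        rw [h5]
        exact N.mul_mem h4 hn
      · exact H.mul_mem (H.inv_mem hz1) h1
    have h6 : n * (z : G) = (z : G) * n := by
      have h7 : n⁻¹ * (z : G) * n = (z : G) := by
        have := congrArg (fun t => (z : G) * t) h3
        simpa using this
      calc n * (z : G) = n * (n⁻¹ * (z : G) * n) := by rw [h7]
        _ = (z : G) * n := by group
    by_contra hz1'
    have hzne : (z : G) ≠ 1 := fun h => hz1' (Subtype.ext h)
    have hn1 := hkey (z : G) hz1 hzne n hn h6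
    apply hg
    rw [hn1, one_mul]
    exact hh₀
  · ext x
    simp only [frobeniusKernel, Set.mem_ofPred_eq, SetLike.mem_coe, Subgroup.mem_subgroupOf]
    constructor
    · rintro (rfl | hx)
      · simp
      · by_contra hxN
        obtain ⟨n, hn, h, hh, hx'⟩ := hmemM x
        have hh1 : h ≠ 1 := by
          rintro rfl
          apply hxN
          rw [hx', mul_one]; exact hn
        obtain ⟨m, hm, hmh⟩ := hsurj h hh hh1 n hn
        apply hx ⟨m, Subgroup.mem_sup_left hm⟩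
        rw [mem_conj_smul_iff, Subgroup.mem_subgroupOf]
        simp only [Subgroup.coe_mul, Subgroup.coe_inv]
        rw [hx', ← hmh]
        have : m⁻¹ * (m * h * m⁻¹) * m = h := by group
        rw [this]; exact hh
    · intro hxN
      by_cases hx1 : x = 1
      · left; exact hx1
      · right
        intro g hg
        rw [mem_conj_smul_iff, Subgroup.mem_subgroupOf] at hg
        simp only [Subgroup.coe_mul, Subgroup.coe_inv] at hg
        have h1 : (g : G)⁻¹ * (x : G) * (g : G) ∈ N := by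
          have := ‹N.Normal›.conj_mem _ hxN (g : G)⁻¹
          simpa using this
        have h2 := hdisj _ h1 hg
        apply hx1
        apply Subtype.ext
        have h3 : (x : G) = (g : G) * ((g : G)⁻¹ * (x : G) * (g : G)) * (g : G)⁻¹ := by group
        rw [h3, h2]; simp
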