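import Cfsg.Statements.S4112
import Mathlib
import Cfsg.Agent.Lib.Helper20.RankThree

set_option autoImplicit false
open Cfsg

namespace Cfsg.Agent.S4112

open Subgroup

theorem coprime_of_cent {G : Type*} [Group G] [Finite G] (N M : Subgroup G) [N.Normal] [M.Normal]
    (h1 : ∀ x ∈ M, x ≠ 1 → centralizer ({x} : Set G) ≤ N) : N.index.Coprime (Nat.card M) := by
  by_contra hnc
  obtain ⟨q, hq, hqN, hqM⟩ := Nat.Prime.not_coprime_iff_dvd.mp hnc
  have : Fact q.Prime := ⟨hq⟩
  obtain ⟨Q⟩ : Nonempty (Sylow q G) := inferInstance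
  have hmod := Cfsg.Agent.Lib.Helper20.card_modEq_card_inf_centralizer q (Q : Subgroup G) M
    Q.isPGroup' (by rw [normalizer_eq_top]; exact le_top)
  have hd : q ∣ Nat.card ↥(M ⊓ centralizer ((Q : Subgroup G) : Set G)) :=
    (Nat.modEq_zero_iff_dvd.mp (hmod.symm.trans (Nat.modEq_zero_iff_dvd.mpr hqM)))
  have hne : (M ⊓ centralizer ((Q : Subgroup G) : Set G)) ≠ ⊥ := by
    intro h0
    rw [h0, Subgroup.card_bot] at hd
    exact hq.one_lt.ne' (Nat.dvd_one.mp hd)
  obtain ⟨x, hx1⟩ := (Subgroup.ne_bot_iff_exists_ne_one).mp hne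
  have hQN : (Q : Subgroup G) ≤ N := by
    intro y hy
    apply h1 x.1 x.2.1 (fun h => hx1 (Subtype.ext h))
    rw [mem_centralizer_singleton_iff]
    exact (mem_centralizer_iff.mp x.2.2 y hy)
  have : N.index ∣ (Q : Subgroup G).index := index_dvd_of_le hQN
  exact Q.not_dvd_index (dvd_trans hqN this)

theorem cent_of_coprime {G : Type*} [Group G] [Finite G] (N M : Subgroup G) [N.Normal] [M.Normal]
    (hcam : ∀ g : G, g ∉ N → ∀ m ∈ M, ∃ x : G, x * g * x⁻¹ = g * m)
    (hcop : N.index.Coprime (Nat.card M)) :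
    ∀ x ∈ M, x ≠ 1 → centralizer ({x} : Set G) ≤ N := by
  intro x hxM hx1
  by_contra hcon
  set C := centralizer ({x} : Set G) with hC
  -- a prime dividing the relative index
  have hrel : N.relIndex C ≠ 1 := by
    intro h
    exact hcon (relIndex_eq_one.mp h)
  obtain ⟨q, hq, hqd⟩ := Nat.exists_prime_and_dvd hrel
  have : Fact q.Prime := ⟨hq⟩
  have hqN : q ∣ N.index := dvd_trans hqd (relIndex_dvd_index_of_normal N C)
  have hqM : Nat.Coprime q (Nat.card M) := by
    rw [Nat.Prime.coprime_iff_not_dvd hq]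
    intro hqM
    have := Nat.dvd_gcd hqN hqM
    rw [hcop] at this
    exact hq.one_lt.ne' (Nat.dvd_one.mp this)
  obtain ⟨Q⟩ : Nonempty (Sylow q C) := inferInstance
  have hQnot : ¬ ((Q : Subgroup C) ≤ N.subgroupOf C) := by
    intro hle
    have : (N.subgroupOf C).index ∣ (Q : Subgroup C).index := index_dvd_of_le hle
    exact Q.not_dvd_index (dvd_trans hqd this)
  obtain ⟨g, hgQ, hgN⟩ := SetLike.not_le_iff_exists.mp hQnot
  rw [mem_subgroupOf] at hgN
  obtain ⟨e, he⟩ := (IsPGroup.iff_orderOf.mp Q.isPGroup') ⟨g, hgQ⟩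
  have hgo : orderOf (g : G) = q ^ e := by
    rw [Subgroup.orderOf_coe]
    have := he
    rwa [Subgroup.orderOf_mk] at this
  have hcomm : Commute (g : G) x := by
    have hg2 : (g : G) ∈ centralizer ({x} : Set G) := g.2
    rw [mem_centralizer_singleton_iff] at hg2
    exact hg2
  have hxo : orderOf x ∣ Nat.card M := by
    have := orderOf_dvd_natCard (⟨x, hxM⟩ : M)
    rwa [Subgroup.orderOf_mk] at this
  have hco : Nat.Coprime (orderOf (g : G)) (orderOf x) := by
    rw [hgo]
    exact Nat.Coprime.pow_left e (Nat.Coprime.coprime_dvd_right hxo hqM)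
  have hmul := hcomm.orderOf_mul_eq_mul_orderOf_of_coprime hco
  obtain ⟨y, hy⟩ := hcam (g : G) hgN x hxM
  have hconj : orderOf (y * (g : G) * y⁻¹) = orderOf (g : G) := by
    rw [← MulAut.conj_apply]
    exact (MulAut.conj y).orderOf_eq (g : G)
  rw [hy, hmul] at hconj
  have hpos : 0 < orderOf (g : G) := by rw [hgo]; exact pow_pos hq.pos e
  have : orderOf x = 1 := by
    have h2 : orderOf (g : G) * orderOf x = orderOf (g : G) * 1 := by rw [hconj, mul_one]
    exact Nat.eq_of_mul_eq_mul_left hpos h2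
  exact hx1 (orderOf_eq_one_iff.mp this)

universe u

theorem exists_supp : ∀ (n : ℕ) (G : Type u) [Group G] [Finite G], Nat.card G = n →
    ∀ (N M : Subgroup G) [N.Normal] [M.Normal], M ≤ N →
    (∀ x ∈ M, x ≠ 1 → centralizer ({x} : Set G) ≤ N) →
    ∃ H : Subgroup G, H ⊔ N = ⊤ ∧ H ⊓ M = ⊥ := by
  intro n
  induction n using Nat.strong_induction_on with
  | _ n ih =>
  intro G _ _ hcard N M _ _ hMN h1
  by_cases hM : M = ⊥
  · exact ⟨⊤, by simp, by rw [hM]; simp⟩
  by_cases hex : ∃ G₁ : Subgroup G, G₁ ≠ ⊤ ∧ G₁ ⊔ N = ⊤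
  · obtain ⟨G₁, hG₁, hsup⟩ := hex
    have hlt : Nat.card G₁ < n := by
      rw [← hcard]
      rcases Nat.lt_or_ge (Nat.card G₁) (Nat.card G) with h | h
      · exact h
      · exact absurd ((Subgroup.card_eq_iff_eq_top G₁).mp
          (le_antisymm (Subgroup.card_le_card_group G₁) h)) hG₁
    have h1' : ∀ x ∈ M.subgroupOf G₁, x ≠ 1 →
        centralizer ({x} : Set G₁) ≤ N.subgroupOf G₁ := by
      intro x hx hx1 y hy
      rw [mem_subgroupOf]
      apply h1 (x : G) (mem_subgroupOf.mp hx) (fun h => hx1 (Subtype.ext h))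
      rw [mem_centralizer_singleton_iff] at hy ⊢
      exact congrArg Subtype.val hy
    obtain ⟨H₁, hH₁, hH₁M⟩ := ih (Nat.card G₁) hlt G₁ rfl (N.subgroupOf G₁) (M.subgroupOf G₁)
      (by intro x hx; rw [mem_subgroupOf] at hx ⊢; exact hMN hx) h1'
    refine ⟨H₁.map G₁.subtype, ?_, ?_⟩
    · have hG₁le : G₁ ≤ H₁.map G₁.subtype ⊔ N := by
        intro z hz
        have hz' : (⟨z, hz⟩ : G₁) ∈ H₁ ⊔ N.subgroupOf G₁ := by rw [hH₁]; trivial
        have : z ∈ (H₁ ⊔ N.subgroupOf G₁).map G₁.subtype := ⟨⟨z, hz⟩, hz', rfl⟩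
        rw [Subgroup.map_sup] at this
        have hle0 : (N.subgroupOf G₁).map G₁.subtype ≤ N := by
          rintro _ ⟨w, hw, rfl⟩
          exact mem_subgroupOf.mp hw
        have hle : H₁.map G₁.subtype ⊔ (N.subgroupOf G₁).map G₁.subtype ≤
            H₁.map G₁.subtype ⊔ N := sup_le_sup_left hle0 _
        exact hle this
      rw [eq_top_iff, ← hsup]
      exact sup_le hG₁le le_sup_right
    · rw [eq_bot_iff]
      rintro z ⟨⟨w, hw, rfl⟩, hzM⟩
      have : w ∈ H₁ ⊓ M.subgroupOf G₁ := ⟨hw, mem_subgroupOf.mpr hzM⟩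
      rw [hH₁M, mem_bot] at this
      rw [this]
      exact one_mem _
  · exfalso
    push Not at hex
    have hnosupp : ∀ G₁ : Subgroup G, G₁ ⊔ N = ⊤ → G₁ = ⊤ := by
      intro G₁ h
      by_contra hne
      exact hex G₁ hne h
    have hcop := coprime_of_cent N M h1
    -- a prime dividing the order of M
    have hMc : Nat.card M ≠ 1 := by
      intro h
      exact hM (Subgroup.card_eq_one.mp h)
    obtain ⟨r, hr, hrM⟩ := Nat.exists_prime_and_dvd hMc
    have : Fact r.Prime := ⟨hr⟩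
    have hrN : ¬ r ∣ N.index := by
      intro h
      have := Nat.dvd_gcd h hrM
      rw [hcop] at this
      exact hr.one_lt.ne' (Nat.dvd_one.mp this)
    obtain ⟨P⟩ : Nonempty (Sylow r N) := inferInstance
    set P' : Subgroup G := (P : Subgroup N).map N.subtype with hP'
    have hnorm : normalizer (P' : Set G) = ⊤ := hnosupp _ (Sylow.normalizer_sup_eq_top P)
    have hP'n : P'.Normal := normalizer_eq_top_iff.mp hnorm
    have hP'c : Nat.card P' = Nat.card (P : Subgroup N) :=
      Nat.card_congr ((P : Subgroup N).equivMapOfInjective _ N.subtype_injective).toEquiv.symm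
    have hP'le : P' ≤ N := by
      rintro _ ⟨w, _, rfl⟩
      exact w.2
    have hidx : P'.index = (P : Subgroup N).index * N.index := by
      have h1 := relIndex_mul_index hP'le
      rw [← h1]
      congr 1
      have : P'.subgroupOf N = (P : Subgroup N) :=
        Subgroup.comap_map_eq_self_of_injective N.subtype_injective _
      rw [relIndex, this]
    have hrP' : ¬ r ∣ P'.index := by
      rw [hidx]
      intro h
      rcases (Nat.Prime.dvd_mul hr).mp h with h | h
      · exact P.not_dvd_index h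
      · exact hrN h
    have hPpow : ∃ k, Nat.card P' = r ^ k := by
      rw [hP'c]
      exact (P.isPGroup'.exists_card_eq)
    obtain ⟨k, hk⟩ := hPpow
    have hcop' : Nat.Coprime (Nat.card P') P'.index := by
      rw [hk]
      exact Nat.Coprime.pow_left k ((Nat.Prime.coprime_iff_not_dvd hr).mpr hrP')
    obtain ⟨K₀, hK₀⟩ := Subgroup.exists_right_complement'_of_coprime hcop'
    have hK₀top : K₀ = ⊤ := by
      apply hnosupp
      rw [eq_top_iff, ← hK₀.sup_eq_top, sup_comm]
      exact sup_le_sup_left hP'le _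
    have hP'bot : P' = ⊥ := by
      have := hK₀.disjoint.eq_bot
      rwa [hK₀top, inf_top_eq] at this
    -- but P is nontrivial
    have hrNc : r ∣ Nat.card N := dvd_trans hrM (Subgroup.card_dvd_of_le hMN)
    have : r ∣ Nat.card (P : Subgroup N) := by
      by_contra hnd
      have h2 := (P : Subgroup N).card_mul_index
      have h3 : r ∣ Nat.card (P : Subgroup N) * (P : Subgroup N).index := by rw [h2]; exact hrNc
      rcases (Nat.Prime.dvd_mul hr).mp h3 with h | h
      · exact hnd h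
      · exact P.not_dvd_index h
    rw [← hP'c, hP'bot, Subgroup.card_bot] at this
    exact hr.one_lt.ne' (Nat.dvd_one.mp this)

theorem result {G : Type*} [Group G] [Finite G] (N M : Subgroup G) [N.Normal] [M.Normal] (hMN : M ≤ N) (hM1 : M ≠ ⊥) (hN2 : N ≠ ⊤)
    (hcam : ∀ g : G, g ∉ N → ∀ m ∈ M, ∃ x : G, x * g * x⁻¹ = g * m) :
    ((∀ x ∈ M, x ≠ 1 → Subgroup.centralizer ({x} : Set G) ≤ N) ↔ N.index.Coprime (Nat.card M)) ∧
    ((∀ x ∈ M, x ≠ 1 → Subgroup.centralizer ({x} : Set G) ≤ N) → ∃ H : Subgroup G, H ⊔ N = ⊤ ∧ H ⊓ M = ⊥) := by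
  refine ⟨⟨fun h1 => coprime_of_cent N M h1, fun hc => cent_of_coprime N M hcam hc⟩, ?_⟩
  intro h1
  exact exists_supp (Nat.card G) G rfl N M hMN h1

end Cfsg.Agent.S4112
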