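import Cfsg.Statements.S4113
import Mathlib

set_option autoImplicit false
open Cfsg

namespace Cfsg.Agent.S4113

theorem mem_cj {G : Type*} [Group G] (H : Subgroup G) (c x : G) :
    x ∈ H.map (MulAut.conj c).toMonoidHom ↔ c⁻¹ * x * c ∈ H := by
  rw [Subgroup.mem_map]
  constructor
  · rintro ⟨h, hh, rfl⟩
    have : c⁻¹ * ((MulAut.conj c).toMonoidHom h) * c = h := by
      simp [MulAut.conj_apply, mul_assoc]
    rw [this]; exact hh
  · intro hx
    refine ⟨c⁻¹ * x * c, hx, ?_⟩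
    simp [MulAut.conj_apply, mul_assoc]

theorem exists_mul_of_sup {G : Type*} [Group G] (H M : Subgroup G) [M.Normal] (hHM : H ⊔ M = ⊤)
    (g : G) : ∃ h ∈ H, ∃ m ∈ M, g = h * m := by
  have hg : g ∈ H ⊔ M := by rw [hHM]; exact Subgroup.mem_top _
  rw [← SetLike.mem_coe, Subgroup.mul_normal] at hg
  obtain ⟨h, hh, m, hm, rfl⟩ := Set.mem_mul.1 hg
  exact ⟨h, hh, m, hm, rfl⟩

theorem forward {G : Type*} [Group G] (N M : Subgroup G) [N.Normal] [M.Normal]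
    (H : Subgroup G) (hHM : H ⊔ M = ⊤) (hHM' : H ⊓ M = ⊥)
    (hC : ∀ x ∈ M, x ≠ 1 → Subgroup.centralizer ({x} : Set G) ≤ N)
    (g : G) (hg : g ∉ H) : H ⊓ H.map (MulAut.conj g).toMonoidHom ≤ N := by
  intro y hy
  obtain ⟨hy1, hy2⟩ := Subgroup.mem_inf.1 hy
  rw [mem_cj] at hy2
  obtain ⟨h, hh, m, hm, rfl⟩ := exists_mul_of_sup H M hHM g
  have hm1 : m ≠ 1 := by
    intro h1
    apply hg
    rw [h1, mul_one]; exact hh
  set y₁ := h⁻¹ * y * h with hy₁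
  have hy₁H : y₁ ∈ H := H.mul_mem (H.mul_mem (H.inv_mem hh) hy1) hh
  have hw : m⁻¹ * y₁ * m ∈ H := by
    have : m⁻¹ * y₁ * m = (h * m)⁻¹ * y * (h * m) := by rw [hy₁]; group
    rw [this]; exact hy2
  have h1 : y₁⁻¹ * (m⁻¹ * y₁ * m) ∈ H := H.mul_mem (H.inv_mem hy₁H) hw
  have h2 : y₁⁻¹ * (m⁻¹ * y₁ * m) ∈ M := by
    have h3 : y₁⁻¹ * m⁻¹ * y₁⁻¹⁻¹ ∈ M := ‹M.Normal›.conj_mem _ (M.inv_mem hm) _
    have : y₁⁻¹ * (m⁻¹ * y₁ * m) = y₁⁻¹ * m⁻¹ * y₁⁻¹⁻¹ * m := by group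
    rw [this]; exact M.mul_mem h3 hm
  have h4 : y₁⁻¹ * (m⁻¹ * y₁ * m) ∈ H ⊓ M := Subgroup.mem_inf.2 ⟨h1, h2⟩
  rw [hHM', Subgroup.mem_bot] at h4
  have h5 : y₁ * m = m * y₁ := by
    have : m⁻¹ * y₁ * m = y₁ := by
      have h6 := congrArg (fun t => y₁ * t) h4
      simpa using h6
    calc y₁ * m = m * (m⁻¹ * y₁ * m) := by group
      _ = m * y₁ := by rw [this]
  have h6 : y₁ ∈ N := hC m hm hm1 (Subgroup.mem_centralizer_singleton_iff.2 h5)
  have h7 : h * y₁ * h⁻¹ ∈ N := ‹N.Normal›.conj_mem _ h6 _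
  have : y = h * y₁ * h⁻¹ := by rw [hy₁]; group
  rw [this]; exact h7

theorem backward {G : Type*} [Group G] [Finite G] (N M : Subgroup G) [N.Normal] [M.Normal]
    (hMN : M ≤ N) (H : Subgroup G) (hHM : H ⊔ M = ⊤) (hHM' : H ⊓ M = ⊥)
    (hg : ∀ g : G, g ∉ H → H ⊓ H.map (MulAut.conj g).toMonoidHom ≤ N)
    (x : G) (hx : x ∈ M) (hx1 : x ≠ 1) : Subgroup.centralizer ({x} : Set G) ≤ N := by
  have stepA : ∀ h ∈ H, ∀ m ∈ M, m ≠ 1 → h * m = m * h → h ∈ N := by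
    intro h hh m hm hm1 hcomm
    have hmH : m ∉ H := by
      intro hmH
      have : m ∈ H ⊓ M := Subgroup.mem_inf.2 ⟨hmH, hm⟩
      rw [hHM', Subgroup.mem_bot] at this
      exact hm1 this
    apply hg m hmH
    refine Subgroup.mem_inf.2 ⟨hh, ?_⟩
    rw [mem_cj]
    have : m⁻¹ * h * m = h := by
      rw [mul_assoc, hcomm, ← mul_assoc, inv_mul_cancel, one_mul]
    rw [this]; exact hh
  intro c hc
  rw [Subgroup.mem_centralizer_singleton_iff] at hc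
  obtain ⟨h, hh, m, hm, rfl⟩ := exists_mul_of_sup H M hHM c
  by_cases hN : h ∈ N
  · exact N.mul_mem hN (hMN hm)
  exfalso
  have hφmem : ∀ y : M, (y : G)⁻¹ * h * (y : G) * h⁻¹ ∈ M := by
    intro y
    have h1 : h * (y : G) * h⁻¹ ∈ M := ‹M.Normal›.conj_mem _ y.2 _
    have : (y : G)⁻¹ * h * (y : G) * h⁻¹ = (y : G)⁻¹ * (h * (y : G) * h⁻¹) := by group
    rw [this]; exact M.mul_mem (M.inv_mem y.2) h1
  let φ : M → M := fun y => ⟨(y : G)⁻¹ * h * (y : G) * h⁻¹, hφmem y⟩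
  have hinj : Function.Injective φ := by
    intro y z hyz
    have h1 : (y : G)⁻¹ * h * (y : G) * h⁻¹ = (z : G)⁻¹ * h * (z : G) * h⁻¹ :=
      congrArg Subtype.val hyz
    have h2 : (y : G)⁻¹ * h * (y : G) = (z : G)⁻¹ * h * (z : G) := mul_right_cancel h1
    by_contra hne
    have hzy : (z : G) * (y : G)⁻¹ ≠ 1 := by
      intro h3
      apply hne
      apply Subtype.ext
      have := mul_inv_eq_one.1 h3
      exact this.symm
    apply hN
    apply stepA h hh ((z : G) * (y : G)⁻¹) (M.mul_mem z.2 (M.inv_mem y.2)) hzy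
    have : h * ((z : G) * (y : G)⁻¹) = (z : G) * ((z : G)⁻¹ * h * (z : G)) * (y : G)⁻¹ := by group
    rw [this, ← h2]; group
  have hsurj : Function.Surjective φ := Finite.injective_iff_surjective.1 hinj
  have hmem : h * m * h⁻¹ ∈ M := ‹M.Normal›.conj_mem _ hm _
  obtain ⟨y, hy⟩ := hsurj ⟨h * m * h⁻¹, hmem⟩
  have hy' : (y : G)⁻¹ * h * (y : G) * h⁻¹ = h * m * h⁻¹ := congrArg Subtype.val hy
  have hy'' : (y : G)⁻¹ * h * (y : G) = h * m := mul_right_cancel hy'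
  rw [← hy''] at hc
  apply hN
  apply stepA h hh ((y : G) * x * (y : G)⁻¹) (‹M.Normal›.conj_mem _ hx _)
  · intro h1
    apply hx1
    have : x = (y : G)⁻¹ * ((y : G) * x * (y : G)⁻¹) * (y : G) := by group
    rw [this, h1]; group
  · have : h * ((y : G) * x * (y : G)⁻¹) = (y : G) * ((y : G)⁻¹ * h * (y : G) * x) * (y : G)⁻¹ := by
      group
    rw [this, hc]; group

/-- Let G be a finite group, M ≤ N non-trivial proper normal subgroups, and H a subgroup with HM = G and H ∩ M = 1. Then every element of G outside N acts fixed-point-freely on M (C_G(x) ≤ N for every x ∈ M, x ≠ 1) if and only if H ∩ gHg⁻¹ ≤ H ∩ N for every g outside H, with H proper and non-trivial and H ∩ N proper in H. -/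
theorem result {G : Type*} [Group G] [Finite G] (N M : Subgroup G) [N.Normal] [M.Normal] (hMN : M ≤ N) (hM1 : M ≠ ⊥) (hN2 : N ≠ ⊤)
    (H : Subgroup G) (hHM : H ⊔ M = ⊤) (hHM' : H ⊓ M = ⊥) :
    (∀ x ∈ M, x ≠ 1 → Subgroup.centralizer ({x} : Set G) ≤ N) ↔
      (H ≠ ⊥ ∧ H ≠ ⊤ ∧ H ⊓ N < H ∧ ∀ g : G, g ∉ H → H ⊓ H.map (MulAut.conj g).toMonoidHom ≤ N) := by
  constructor
  · intro hC
    refine ⟨?_, ?_, ?_, fun g hg => forward N M H hHM hHM' hC g hg⟩
    · intro h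
      rw [h, bot_sup_eq] at hHM
      apply hN2
      rw [hHM] at hMN
      exact top_le_iff.1 hMN
    · intro h
      rw [h, top_inf_eq] at hHM'
      exact hM1 hHM'
    · refine lt_of_le_of_ne inf_le_left ?_
      intro h
      have h1 : H ≤ N := inf_eq_left.1 h
      apply hN2
      have h2 : H ⊔ M ≤ N := sup_le h1 hMN
      rw [hHM] at h2
      exact top_le_iff.1 h2
  · rintro ⟨-, -, -, hg⟩ x hx hx1
    exact backward N M hMN H hHM hHM' hg x hx hx1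

end Cfsg.Agent.S4113
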