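import Cfsg.Statements.S4116
import Cfsg.Agent.S4035
import Cfsg.Agent.Lib.Helper22.Sylow
import Cfsg.Agent.Lib.Helper22.Sylow2
import Cfsg.Agent.Lib.Helper22.Malnormal

set_option autoImplicit false
open Cfsg

namespace Cfsg.Agent.S4116

open Cfsg.Agent.Lib.Helper22

theorem mem_cj {G : Type*} [Group G] (H : Subgroup G) (c x : G) :
    x ∈ H.map (MulAut.conj c).toMonoidHom ↔ c⁻¹ * x * c ∈ H := by
  rw [Subgroup.mem_map]
  constructor
  · rintro ⟨h, hh, rfl⟩
    have : c⁻¹ * ((MulAut.conj c).toMonoidHom h) * c = h := by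
      simp [MulAut.conj_apply, mul_assoc]
    rw [this]; exact hh
  · intro hx
    refine ⟨c⁻¹ * x * c, hx, ?_⟩
    simp [MulAut.conj_apply, mul_assoc]

theorem mem_of_normalizer {G : Type*} [Group G] [Finite G] (H : Subgroup G) (z : G)
    (hz : z ∈ Subgroup.normalizer (H : Set G)) (hco : (orderOf z).Coprime H.index) : z ∈ H := by
  have hle : H ≤ Subgroup.normalizer (H : Set G) := Subgroup.le_normalizer
  have : (H.subgroupOf (Subgroup.normalizer (H : Set G))).Normal := Subgroup.normal_in_normalizer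
  have h1 : (H.subgroupOf (Subgroup.normalizer (H : Set G))).index ∣ H.index :=
    Subgroup.relIndex_dvd_index_of_le hle
  have h2 : (orderOf (⟨z, hz⟩ : Subgroup.normalizer (H : Set G))).Coprime
      (H.subgroupOf (Subgroup.normalizer (H : Set G))).index := by
    rw [Subgroup.orderOf_mk]
    exact Nat.Coprime.coprime_dvd_right h1 hco
  have h3 := Cfsg.Agent.S4035.mem_of_coprime_index _ _ h2
  rwa [Subgroup.mem_subgroupOf] at h3

theorem malnormal_aux {G : Type*} [Group G] [Finite G] (H : Subgroup G)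
    (hTI : Cfsg.IsTISubset (H : Set G)) (z h : G) (hh : h ∈ H) (hne : h ≠ 1)
    (hz : z * h * z⁻¹ ∈ H) (hco : (orderOf z).Coprime H.index) : z ∈ H := by
  apply mem_of_normalizer H z _ hco
  by_contra hn
  exact hne (hTI z hn h hh hz)

theorem orderOf_conj_inv {G : Type*} [Group G] (c y : G) : orderOf (c⁻¹ * y * c) = orderOf y := by
  have h : SemiconjBy c⁻¹ y (c⁻¹ * y * c) := by
    unfold SemiconjBy; group
  exact (h.orderOf_eq).symm

theorem cj_eq {G : Type*} [Group G] [Finite G] (H : Subgroup G)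
    (hTI : Cfsg.IsTISubset (H : Set G)) (c d x : G) (hx : x ≠ 1)
    (hc : x ∈ H.map (MulAut.conj c).toMonoidHom) (hd : x ∈ H.map (MulAut.conj d).toMonoidHom) :
    H.map (MulAut.conj c).toMonoidHom = H.map (MulAut.conj d).toMonoidHom := by
  rw [mem_cj] at hc hd
  have hne : c⁻¹ * x * c ≠ 1 := by
    intro h1
    apply hx
    have : x = c * (c⁻¹ * x * c) * c⁻¹ := by group
    rw [this, h1]; group
  have hg : d⁻¹ * c ∈ Subgroup.normalizer (H : Set G) := by
    by_contra hn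
    apply hne
    apply hTI _ hn _ hc
    have : d⁻¹ * c * (c⁻¹ * x * c) * (d⁻¹ * c)⁻¹ = d⁻¹ * x * d := by group
    rw [this]; exact hd
  ext y
  rw [mem_cj, mem_cj, (Subgroup.mem_normalizer_iff.1 hg) (c⁻¹ * y * c)]
  have : d⁻¹ * c * (c⁻¹ * y * c) * (d⁻¹ * c)⁻¹ = d⁻¹ * y * d := by group
  rw [this]

theorem pi_elem_mem {G : Type*} [Group G] [Finite G] (H : Subgroup G)
    (hHall : (Nat.card H).Coprime H.index) (hTI : Cfsg.IsTISubset (H : Set G))
    (y : G) (hy : ∀ q : ℕ, q.Prime → q ∣ orderOf y → q ∣ Nat.card H) :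
    ∃ c : G, y ∈ H.map (MulAut.conj c).toMonoidHom := by
  by_cases hy1 : y = 1
  · exact ⟨1, by rw [hy1]; exact Subgroup.one_mem _⟩
  have hco : (orderOf y).Coprime H.index := by
    apply Nat.Coprime.symm
    apply Nat.coprime_of_dvd
    intro q hq hq1 hq2
    exact Nat.Prime.not_coprime_iff_dvd.2 ⟨q, hq, hy q hq hq2, hq1⟩ hHall
  have hord : orderOf y ≠ 1 := fun h => hy1 (orderOf_eq_one_iff.1 h)
  obtain ⟨q, hq, hqd⟩ := Nat.exists_prime_and_dvd hord
  have : Fact q.Prime := ⟨hq⟩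
  have hqH : q ∣ Nat.card H := hy q hq hqd
  have hqi : ¬ q ∣ H.index := by
    intro h
    exact Nat.Prime.not_coprime_iff_dvd.2 ⟨q, hq, hqH, h⟩ hHall
  set y₁ := y ^ (orderOf y / q) with hy₁
  have ho : orderOf y₁ = q ^ 1 := by
    rw [pow_one, hy₁, orderOf_pow_of_dvd]
    · exact Nat.div_div_self hqd (orderOf_pos y).ne'
    · intro h0
      have := Nat.div_mul_cancel hqd
      rw [h0, zero_mul] at this
      exact (orderOf_pos y).ne' this.symm
    · exact Nat.div_dvd_of_dvd hqd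
  have hy₁ne : y₁ ≠ 1 := by
    intro h1
    rw [h1, orderOf_one, pow_one] at ho
    exact hq.one_lt.ne ho
  obtain ⟨P⟩ : Nonempty (Sylow q H) := inferInstance
  have hPidx : ¬ q ∣ ((P : Subgroup H).map H.subtype).relIndex ⊤ := by
    rw [Subgroup.relIndex_top_right]
    intro hd
    have h1 : ((P : Subgroup H).map H.subtype).index = (P : Subgroup H).index * H.index := by
      rw [Subgroup.index_map_subtype]
    rw [h1] at hd
    rcases (Nat.Prime.dvd_mul hq).1 hd with h2 | h2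
    · exact P.not_dvd_index h2
    · exact hqi h2
  have hPp : IsPGroup q ((P : Subgroup H).map H.subtype) := P.2.map _
  obtain ⟨c, -, hc⟩ := exists_conj_mem_of_pelement q ⊤ _ hPp hPidx y₁ (Subgroup.mem_top _) 1 ho
  have hcH : c⁻¹ * y₁ * c ∈ H := by
    obtain ⟨w, -, hw⟩ := Subgroup.mem_map.1 hc
    rw [← hw]; exact w.2
  refine ⟨c, ?_⟩
  rw [mem_cj]
  have hne : c⁻¹ * y₁ * c ≠ 1 := by
    intro h1
    apply hy₁ne
    have : y₁ = c * (c⁻¹ * y₁ * c) * c⁻¹ := by group
    rw [this, h1]; group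
  apply malnormal_aux H hTI (c⁻¹ * y * c) (c⁻¹ * y₁ * c) hcH hne
  · have hcomm : y * y₁ * y⁻¹ = y₁ := by
      rw [hy₁, ← pow_succ', pow_succ, mul_inv_cancel_right]
    have : c⁻¹ * y * c * (c⁻¹ * y₁ * c) * (c⁻¹ * y * c)⁻¹ = c⁻¹ * (y * y₁ * y⁻¹) * c := by group
    rw [this, hcomm]; exact hcH
  · rw [orderOf_conj_inv]; exact hco

/-- Let G be a finite group with a subgroup H whose order is coprime to its index (a Hall subgroup) and which meets each of its conjugates by elements outside N_G(H) trivially. Then every subgroup of G whose order is divisible only by primes dividing the order of H lies in a conjugate of H. -/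
theorem result {G : Type*} [Group G] [Finite G] (H : Subgroup G)
    (hHall : (Nat.card H).Coprime H.index) (hTI : Cfsg.IsTISubset (H : Set G))
    (K : Subgroup G) (hK : ∀ q : ℕ, q.Prime → q ∣ Nat.card K → q ∣ Nat.card H) :
    ∃ g : G, K ≤ H.map (MulAut.conj g).toMonoidHom := by
  have hKco : ∀ k : G, k ∈ K → (orderOf k).Coprime H.index := by
    intro k hk
    apply Nat.Coprime.symm
    apply Nat.coprime_of_dvd
    intro q hq hq1 hq2
    have h1 : orderOf k ∣ Nat.card K := by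
      have := orderOf_dvd_natCard (⟨k, hk⟩ : K)
      rwa [Subgroup.orderOf_mk] at this
    exact Nat.Prime.not_coprime_iff_dvd.2 ⟨q, hq, hK q hq (dvd_trans hq2 h1), hq1⟩ hHall
  have hKpi : ∀ k : G, k ∈ K → ∃ c : G, k ∈ H.map (MulAut.conj c).toMonoidHom := by
    intro k hk
    apply pi_elem_mem H hHall hTI
    intro q hq hqd
    apply hK q hq
    have h1 : orderOf k ∣ Nat.card K := by
      have := orderOf_dvd_natCard (⟨k, hk⟩ : K)
      rwa [Subgroup.orderOf_mk] at this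
    exact dvd_trans hqd h1
  have hmal : ∀ c : G, ∀ k : K, ∀ a ∈ (H.map (MulAut.conj c).toMonoidHom).subgroupOf K,
      a ≠ 1 → k * a * k⁻¹ ∈ (H.map (MulAut.conj c).toMonoidHom).subgroupOf K →
      k ∈ (H.map (MulAut.conj c).toMonoidHom).subgroupOf K := by
    intro c k a ha hane hka
    rw [Subgroup.mem_subgroupOf, mem_cj] at ha hka ⊢
    have hne : c⁻¹ * (a : G) * c ≠ 1 := by
      intro h1
      apply hane
      apply Subtype.ext
      have : (a : G) = c * (c⁻¹ * (a : G) * c) * c⁻¹ := by group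
      rw [this, h1]; simp
    apply malnormal_aux H hTI _ _ ha hne
    · have : c⁻¹ * (k : G) * c * (c⁻¹ * (a : G) * c) * (c⁻¹ * (k : G) * c)⁻¹ =
          c⁻¹ * ((k : G) * (a : G) * (k : G)⁻¹) * c := by group
      rw [this]
      simpa using hka
    · rw [orderOf_conj_inv]; exact hKco _ k.2
  by_cases hKbot : K = ⊥
  · exact ⟨1, by rw [hKbot]; exact bot_le⟩
  obtain ⟨y₀, hy₀K, hy₀ne⟩ : ∃ y₀ : G, y₀ ∈ K ∧ y₀ ≠ 1 := by
    obtain ⟨y, hy⟩ := (Subgroup.ne_bot_iff_exists_ne_one (H := K)).1 hKbot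
    exact ⟨(y : G), y.2, fun h => hy (Subtype.ext h)⟩
  obtain ⟨c₀, hc₀⟩ := hKpi y₀ hy₀K
  set A := (H.map (MulAut.conj c₀).toMonoidHom).subgroupOf K with hA
  by_cases hAtop : A = ⊤
  · refine ⟨c₀, ?_⟩
    intro k hk
    have : (⟨k, hk⟩ : K) ∈ A := by rw [hAtop]; exact Subgroup.mem_top _
    rwa [hA, Subgroup.mem_subgroupOf] at this
  have hAbot : A ≠ ⊥ := by
    intro h
    have h1 : (⟨y₀, hy₀K⟩ : K) ∈ A := by rw [hA, Subgroup.mem_subgroupOf]; exact hc₀
    rw [h, Subgroup.mem_bot] at h1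
    exact hy₀ne (congrArg Subtype.val h1)
  have hex : ∃ y₁ : K, ∀ c : K, c⁻¹ * y₁ * c ∉ A := by
    by_contra hcon
    push Not at hcon
    exact hAtop (eq_top_of_conj_cover A hcon)
  obtain ⟨y₁, hy₁⟩ := hex
  obtain ⟨c₁, hc₁⟩ := hKpi (y₁ : G) y₁.2
  set B := (H.map (MulAut.conj c₁).toMonoidHom).subgroupOf K with hB
  by_cases hBtop : B = ⊤
  · refine ⟨c₁, ?_⟩
    intro k hk
    have : (⟨k, hk⟩ : K) ∈ B := by rw [hBtop]; exact Subgroup.mem_top _
    rwa [hB, Subgroup.mem_subgroupOf] at this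
  have hy₁ne : y₁ ≠ 1 := by
    intro h
    apply hy₁ 1
    rw [h]; simp
  have hBbot : B ≠ ⊥ := by
    intro h
    have h1 : y₁ ∈ B := by rw [hB, Subgroup.mem_subgroupOf]; exact hc₁
    rw [h, Subgroup.mem_bot] at h1
    exact hy₁ne h1
  exfalso
  apply two_families A B hAbot hBbot hAtop hBtop (hmal c₀) (hmal c₁)
  intro k a ha hane hkb
  apply hy₁ k
  rw [hA, Subgroup.mem_subgroupOf] at ha ⊢
  rw [hB, Subgroup.mem_subgroupOf] at hkb
  have hane' : (a : G) ≠ 1 := fun h => hane (Subtype.ext h)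
  have h2 : (a : G) ∈ H.map (MulAut.conj ((k : G)⁻¹ * c₁)).toMonoidHom := by
    rw [mem_cj] at hkb ⊢
    have : ((k : G)⁻¹ * c₁)⁻¹ * (a : G) * ((k : G)⁻¹ * c₁) =
        c₁⁻¹ * ((k : G) * (a : G) * (k : G)⁻¹) * c₁ := by group
    rw [this]
    simpa using hkb
  rw [cj_eq H hTI c₀ ((k : G)⁻¹ * c₁) (a : G) hane' ha h2]
  rw [mem_cj] at hc₁ ⊢
  have : ((k : G)⁻¹ * c₁)⁻¹ * ((k⁻¹ * y₁ * k : K) : G) * ((k : G)⁻¹ * c₁) =
      c₁⁻¹ * (y₁ : G) * c₁ := by
    simp only [Subgroup.coe_mul, Subgroup.coe_inv]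
    group
  rw [this]; exact hc₁

end Cfsg.Agent.S4116
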