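import Cfsg.Statements.S4117
import Mathlib
import Cfsg.Agent.Lib.Lead.Coprime
import Cfsg.Agent.Lib.Helper22.Sylow2

set_option autoImplicit false
open Cfsg

namespace Cfsg.Agent.S4117

section
variable {G A : Type*} [Group G] [Group A] [MulDistribMulAction A G]

def cm (A G : Type*) [Group G] [Group A] [MulDistribMulAction A G] : Subgroup G :=
  Subgroup.closure {y : G | ∃ (a : A) (g : G), y = g⁻¹ * a • g}

theorem gen_mem (a : A) (g : G) : g⁻¹ * a • g ∈ cm A G :=
  Subgroup.subset_closure ⟨a, g, rfl⟩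

theorem smul_mem_cm (a : A) {k : G} (hk : k ∈ cm A G) : a • k ∈ cm A G := by
  unfold cm at hk
  induction hk using Subgroup.closure_induction with
  | mem x hx =>
    obtain ⟨b, g, rfl⟩ := hx
    have e : a • (g⁻¹ * b • g) = (a • g)⁻¹ * (a * b * a⁻¹) • (a • g) := by
      rw [smul_mul', smul_inv', mul_smul, mul_smul, inv_smul_smul]
    rw [e]
    exact gen_mem _ _
  | one => rw [smul_one]; exact Subgroup.one_mem _
  | mul x y _ _ hx hy => rw [smul_mul']; exact Subgroup.mul_mem _ hx hy
  | inv x _ hx => rw [smul_inv']; exact Subgroup.inv_mem _ hx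

theorem cm_normal : (cm A G).Normal := by
  constructor
  intro n hn g
  unfold cm at hn
  induction hn using Subgroup.closure_induction with
  | mem x hx =>
    obtain ⟨a, x, rfl⟩ := hx
    have e : g * (x⁻¹ * a • x) * g⁻¹ =
        ((x * g⁻¹)⁻¹ * a • (x * g⁻¹)) * ((g⁻¹)⁻¹ * a • (g⁻¹))⁻¹ := by
      rw [smul_mul']
      group
    rw [e]
    exact Subgroup.mul_mem _ (gen_mem _ _) (Subgroup.inv_mem _ (gen_mem _ _))
  | one => simp
  | mul x y _ _ hx hy =>
    have e : g * (x * y) * g⁻¹ = (g * x * g⁻¹) * (g * y * g⁻¹) := by group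
    rw [e]; exact Subgroup.mul_mem _ hx hy
  | inv x _ hx =>
    have e : g * x⁻¹ * g⁻¹ = (g * x * g⁻¹)⁻¹ := by group
    rw [e]; exact Subgroup.inv_mem _ hx

theorem exists_fixed_in_coset [Finite G] [Finite A]
    (hcop : (Nat.card A).Coprime (Nat.card G))
    (hsolv : Group.IsSolvable G) (K : Subgroup G)
    (hKinv : ∀ (a : A) (k : G), k ∈ K → a • k ∈ K)
    (g : G) (hg : ∀ a : A, g⁻¹ * a • g ∈ K) : ∃ k ∈ K, ∀ a : A, a • (g * k) = g * k := by
  classical
  let φ : A →* MulAut G := MulDistribMulAction.toMulAut A G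
  have hfin : Finite (G ⋊[φ] A) := Finite.of_equiv _ SemidirectProduct.equivProd.symm
  let A' : Subgroup (G ⋊[φ] A) := (SemidirectProduct.inr : A →* G ⋊[φ] A).range
  let D : Subgroup (G ⋊[φ] A) := K.map (SemidirectProduct.inl : G →* G ⋊[φ] A)
  have hconj : ∀ (a : A) (x : G), (SemidirectProduct.inr a : G ⋊[φ] A) * SemidirectProduct.inl x *
      (SemidirectProduct.inr a)⁻¹ = SemidirectProduct.inl (a • x) := by
    intro a x
    rw [← map_inv]
    exact (SemidirectProduct.inl_aut a x).symm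
  have hAD : A' ≤ Subgroup.normalizer (D : Set (G ⋊[φ] A)) := by
    rintro _ ⟨a, rfl⟩
    rw [Subgroup.mem_normalizer_iff]
    intro y
    constructor
    · rintro ⟨k, hk, rfl⟩
      rw [hconj]
      exact ⟨a • k, hKinv a k hk, rfl⟩
    · rintro ⟨k, hk, hk'⟩
      refine ⟨a⁻¹ • k, hKinv _ _ hk, ?_⟩
      have : y = (SemidirectProduct.inr a⁻¹ : G ⋊[φ] A) * SemidirectProduct.inl k *
          (SemidirectProduct.inr a⁻¹)⁻¹ := by
        rw [hk', map_inv]; group
      rw [this, hconj]
  have hcardA : Nat.card A' = Nat.card A :=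
    Nat.card_congr (MonoidHom.ofInjective SemidirectProduct.inr_injective).symm.toEquiv
  have hcardD : Nat.card D = Nat.card K :=
    Nat.card_congr (Subgroup.equivMapOfInjective K _ SemidirectProduct.inl_injective).symm.toEquiv
  have hcop' : (Nat.card A').Coprime (Nat.card D) := by
    rw [hcardA, hcardD]
    exact Nat.Coprime.coprime_dvd_right (Subgroup.card_subgroup_dvd_card K) hcop
  have hsolvD : Group.IsSolvable D :=
    Group.isSolvable_of_isSolvable_injective
      (f := ((Subgroup.equivMapOfInjective K _ SemidirectProduct.inl_injective).symm.toMonoidHom))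
      (Subgroup.equivMapOfInjective K _ SemidirectProduct.inl_injective).symm.injective
  obtain ⟨d, hd, hdc⟩ := Cfsg.Agent.Lib.Lead.coset_fixed A' D hAD hcop' (Or.inr hsolvD)
    (SemidirectProduct.inl g) (by
      rintro _ ⟨a, rfl⟩
      rw [hconj, ← map_inv, ← map_mul]
      exact ⟨_, hg a, rfl⟩)
  obtain ⟨k, hk, rfl⟩ := hd
  refine ⟨k, hk, fun a => ?_⟩
  rw [Subgroup.mem_centralizer_iff] at hdc
  have h1 := hdc (SemidirectProduct.inr a) ⟨a, rfl⟩
  rw [← map_mul] at h1
  have h2 : (SemidirectProduct.inl (a • (g * k)) : G ⋊[φ] A) = SemidirectProduct.inl (g * k) := by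
    rw [← hconj, h1]; group
  exact SemidirectProduct.inl_injective h2

theorem comm_on_cyclic {G : Type*} [Group G] (D : Subgroup G) [IsCyclic D] (f f' : G →* G)
    (hf : ∀ d ∈ D, f d ∈ D) (hf' : ∀ d ∈ D, f' d ∈ D) {d : G} (hd : d ∈ D) :
    f (f' d) = f' (f d) := by
  obtain ⟨⟨d₀, hd₀⟩, hgen⟩ := IsCyclic.exists_generator (α := D)
  have key : ∀ x ∈ D, ∃ i : ℤ, x = d₀ ^ i := by
    intro x hx
    obtain ⟨i, hi⟩ := Subgroup.mem_zpowers_iff.mp (hgen ⟨x, hx⟩)
    refine ⟨i, ?_⟩
    have := congrArg Subtype.val hi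
    simpa using this.symm
  obtain ⟨m, hm⟩ := key _ (hf d₀ hd₀)
  obtain ⟨m', hm'⟩ := key _ (hf' d₀ hd₀)
  obtain ⟨i, rfl⟩ := key d hd
  simp only [map_zpow, hm, hm', ← zpow_mul]
  congr 1
  ring

theorem isCyclic_of_comm_zgroup {H : Type*} [Group H] [Finite H] [IsZGroup H]
    (h : ∀ x y : H, x * y = y * x) : IsCyclic H := by
  let _ : CommGroup H := { (inferInstance : Group H) with mul_comm := h }
  infer_instance

theorem isCyclic_commutator_sub {G : Type*} [Group G] [Finite G] [IsZGroup G] (K : Subgroup G) :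
    IsCyclic (⁅K, K⁆ : Subgroup G) := by
  have h := IsZGroup.isCyclic_commutator K
  let f := Subgroup.equivMapOfInjective (commutator K) _ K.subtype_injective
  rw [Subgroup.map_subtype_commutator] at f
  exact isCyclic_of_surjective f f.surjective


theorem cm_comm [Finite G] [Finite A] [IsZGroup G]
    (hcop : (Nat.card A).Coprime (Nat.card G)) : ∀ x y : cm A G, x * y = y * x := by
  set K := cm A G with hK
  have hsolv : Group.IsSolvable G := inferInstance
  have hKn : K.Normal := cm_normal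
  let D : Subgroup G := ⁅K, K⁆
  have hDcyc : IsCyclic D := isCyclic_commutator_sub K
  have hDn : D.Normal := Subgroup.commutator_normal K K
  have hDinv : ∀ (a : A) (d : G), d ∈ D → a • d ∈ D := by
    intro a d hd
    have h1 : D.map (MulDistribMulAction.toMonoidHom G a) ≤ D := by
      rw [Subgroup.map_commutator]
      apply Subgroup.commutator_mono <;>
      · rintro _ ⟨k, hk, rfl⟩
        exact smul_mem_cm a hk
    exact h1 ⟨d, hd, rfl⟩
  have hgen : ∀ (a : A) (g : G), g⁻¹ * a • g ∈ Subgroup.centralizer (D : Set G) := by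
    intro a g
    obtain ⟨k, hkK, e⟩ : ∃ k ∈ K, g⁻¹ * a • g = k⁻¹ * a • k := by
      obtain ⟨k', hk', hfix⟩ := exists_fixed_in_coset hcop hsolv K
        (fun a k hk => smul_mem_cm a hk) g (fun a => gen_mem a g)
      refine ⟨k'⁻¹, K.inv_mem hk', ?_⟩
      have h1 : a • g = a • ((g * k') * k'⁻¹) := by rw [mul_inv_cancel_right]
      rw [h1, smul_mul', hfix a]
      group
    rw [e]
    rw [Subgroup.mem_centralizer_iff]
    intro d hd
    have hc : ∀ (b : A) (x : G), x ∈ D → k * (b • x) * k⁻¹ = b • (k * x * k⁻¹) := by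
      intro b x hx
      exact comm_on_cyclic D (MulAut.conj k).toMonoidHom (MulDistribMulAction.toMonoidHom G b)
        (fun d hd => hDn.conj_mem d hd k) (fun d hd => hDinv b d hd) hx
    have h2 : (a • k) * d * (a • k)⁻¹ = k * d * k⁻¹ := by
      have : (a • k) * d * (a • k)⁻¹ = a • (k * (a⁻¹ • d) * k⁻¹) := by
        rw [smul_mul', smul_mul', smul_inv_smul, smul_inv']
      rw [this, hc a⁻¹ d hd, smul_inv_smul]
    have h3 : (k⁻¹ * a • k) * d * (k⁻¹ * a • k)⁻¹ = d := by
      have : (k⁻¹ * a • k) * d * (k⁻¹ * a • k)⁻¹ = k⁻¹ * ((a • k) * d * (a • k)⁻¹) * k := by group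
      rw [this, h2]; group
    calc d * (k⁻¹ * a • k) = ((k⁻¹ * a • k) * d * (k⁻¹ * a • k)⁻¹) * (k⁻¹ * a • k) := by rw [h3]
      _ = (k⁻¹ * a • k) * d := by group
  have hKD : K ≤ Subgroup.centralizer (D : Set G) := by
    rw [hK, cm, Subgroup.closure_le]
    rintro _ ⟨a, g, rfl⟩
    exact hgen a g
  have h : commutator K ≤ Subgroup.center K := by
    suffices h : (commutator K).map K.subtype ≤ Subgroup.centralizer K by
      simpa [SetLike.le_def, Subgroup.mem_center_iff, Subgroup.mem_centralizer_iff] using h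
    rw [Subgroup.map_subtype_commutator, Subgroup.le_centralizer_iff]
    exact hKD
  rw [← Abelianization.ker_of K] at h
  let i := commGroupOfCyclicCenterQuotient Abelianization.of h
  intro x y
  exact mul_comm x y


theorem gen_eq [Finite G] [Finite A] [IsZGroup G]
    (hcop : (Nat.card A).Coprime (Nat.card G)) (a : A) (g : G) :
    ∃ k ∈ cm A G, g⁻¹ * a • g = k⁻¹ * a • k := by
  obtain ⟨k', hk', hfix⟩ := exists_fixed_in_coset hcop inferInstance (cm A G)
    (fun a k hk => smul_mem_cm a hk) g (fun a => gen_mem a g)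
  refine ⟨k'⁻¹, (cm A G).inv_mem hk', ?_⟩
  have h1 : a • g = a • ((g * k') * k'⁻¹) := by rw [mul_inv_cancel_right]
  rw [h1, smul_mul', hfix a]
  group

@[reducible] def subAct (K : Subgroup G) (hK : ∀ (a : A) (k : G), k ∈ K → a • k ∈ K) :
    MulDistribMulAction A K where
  smul a k := ⟨a • (k : G), hK a k k.2⟩
  one_smul k := Subtype.ext (one_smul A (k : G))
  mul_smul a b k := Subtype.ext (mul_smul a b (k : G))
  smul_mul a k l := Subtype.ext (smul_mul' a (k : G) (l : G))
  smul_one a := Subtype.ext (smul_one a)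

theorem fix_inter_comm_trivial {M B : Type*} [CommGroup M] [Finite M] [Group B] [Finite B]
    [MulDistribMulAction B M]
    (hcop : (Nat.card B).Coprime (Nat.card M)) (x : M)
    (hx : x ∈ Subgroup.closure {y : M | ∃ (a : B) (m : M), y = m⁻¹ * a • m})
    (hfix : ∀ a : B, a • x = x) : x = 1 := by
  classical
  have := Fintype.ofFinite B
  let N : M →* M := ∏ a : B, MulDistribMulAction.toMonoidHom M a
  have hN : ∀ m, N m = ∏ a : B, a • m := fun m => by
    simp [N]
  have hker : Subgroup.closure {y : M | ∃ (a : B) (m : M), y = m⁻¹ * a • m} ≤ N.ker := by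
    rw [Subgroup.closure_le]
    rintro _ ⟨a, m, rfl⟩
    rw [SetLike.mem_coe, MonoidHom.mem_ker, map_mul, map_inv, hN, hN]
    have : ∏ b : B, b • a • m = ∏ b : B, b • m := by
      simp only [← mul_smul]
      exact Fintype.prod_equiv (Equiv.mulRight a) _ _ (fun b => rfl)
    rw [this, inv_mul_cancel]
  have h1 : N x = 1 := hker hx
  rw [hN] at h1
  simp only [hfix, Finset.prod_const, Finset.card_univ] at h1
  have h2 : orderOf x ∣ Nat.card B := by
    rw [Nat.card_eq_fintype_card]; exact orderOf_dvd_of_pow_eq_one h1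
  have h3 : orderOf x ∣ Nat.card M := orderOf_dvd_natCard x
  have h4 : orderOf x ∣ Nat.gcd (Nat.card B) (Nat.card M) := Nat.dvd_gcd h2 h3
  rw [hcop.gcd_eq_one, Nat.dvd_one] at h4
  exact orderOf_eq_one_iff.mp h4

theorem cm_inf_fix [Finite G] [Finite A] [IsZGroup G]
    (hcop : (Nat.card A).Coprime (Nat.card G)) (x : G) (hx : x ∈ cm A G)
    (hfix : ∀ a : A, a • x = x) : x = 1 := by
  have hcomm := cm_comm hcop
  let iC : CommGroup (cm A G) := { (inferInstance : Group (cm A G)) with mul_comm := hcomm }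
  let iA : MulDistribMulAction A (cm A G) := subAct (cm A G) (fun a k hk => smul_mem_cm a hk)
  have hle : cm A G ≤ (Subgroup.closure
      {y : cm A G | ∃ (a : A) (m : cm A G), y = m⁻¹ * a • m}).map (cm A G).subtype := by
    conv_lhs => rw [cm]
    rw [Subgroup.closure_le]
    rintro _ ⟨a, g, rfl⟩
    obtain ⟨k, hkK, e⟩ := gen_eq hcop a g
    rw [e]
    exact ⟨(⟨k, hkK⟩ : cm A G)⁻¹ * a • (⟨k, hkK⟩ : cm A G),
      Subgroup.subset_closure ⟨a, ⟨k, hkK⟩, rfl⟩, rfl⟩
  obtain ⟨y, hy, hyx⟩ := hle hx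
  have hcop' : (Nat.card A).Coprime (Nat.card (cm A G)) :=
    Nat.Coprime.coprime_dvd_right (Subgroup.card_subgroup_dvd_card _) hcop
  have key := fix_inter_comm_trivial hcop' y hy (fun a => Subtype.ext (by
    change a • (y : G) = y
    have : (y : G) = x := hyx
    rw [this]; exact hfix a))
  rw [← hyx, key]
  rfl

theorem cyc_unique {H : Type*} [Group H] [Finite H] [IsCyclic H] (U V : Subgroup H)
    (h : Nat.card U = Nat.card V) : U = V := by
  classical
  have : Fintype H := Fintype.ofFinite H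
  have key : ∀ C : Subgroup H, (C : Set H) = {x | x ^ Nat.card C = 1} := by
    intro C
    apply Set.eq_of_subset_of_ncard_le
    · intro x hx
      have := pow_card_eq_one' (G := C) (x := ⟨x, hx⟩)
      exact congrArg Subtype.val this
    · rw [Set.ncard_eq_toFinset_card', Set.toFinset_ofPred]
      have h1 := IsCyclic.card_pow_eq_one_le (α := H) (n := Nat.card C) Nat.card_pos
      have h2 : (C : Set H).ncard = Nat.card C := Nat.card_coe_set_eq _ |>.symm
      rw [h2]
      exact h1
    · exact Set.toFinite _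
  apply SetLike.coe_injective
  rw [key U, key V, h]

theorem cyc_unique_sub {H : Type*} [Group H] [Finite H] (P : Subgroup H) [IsCyclic P]
    (U V : Subgroup H) (hU : U ≤ P) (hV : V ≤ P)
    (h : Nat.card U = Nat.card V) : U = V := by
  have h1 : U.subgroupOf P = V.subgroupOf P := by
    apply cyc_unique
    rw [Nat.card_congr (Subgroup.subgroupOfEquivOfLe hU).toEquiv,
      Nat.card_congr (Subgroup.subgroupOfEquivOfLe hV).toEquiv, h]
  rw [Subgroup.subgroupOf_inj, inf_of_le_left hU, inf_of_le_left hV] at h1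
  exact h1

theorem cm_card_coprime_fix [Finite G] [Finite A] [IsZGroup G]
    (hcop : (Nat.card A).Coprime (Nat.card G)) :
    (Nat.card (cm A G)).Coprime (Nat.card (FixedPoints.subgroup A G)) := by
  by_contra hnc
  obtain ⟨p, hp, hpK, hpC⟩ := Nat.Prime.not_coprime_iff_dvd.mp hnc
  have := Fact.mk hp
  obtain ⟨z, hz⟩ := exists_prime_orderOf_dvd_card' p hpK
  obtain ⟨c, hc⟩ := exists_prime_orderOf_dvd_card' p hpC
  have hz' : orderOf (z : G) = p := by rw [Subgroup.orderOf_coe]; exact hz
  have hc' : orderOf (c : G) = p := by rw [Subgroup.orderOf_coe]; exact hc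
  have hpg : IsPGroup p (Subgroup.zpowers (c : G)) :=
    IsPGroup.of_card (n := 1) (by rw [Nat.card_zpowers, hc', pow_one])
  obtain ⟨P, hP⟩ := hpg.exists_le_sylow
  obtain ⟨h, -, hh⟩ := Cfsg.Agent.Lib.Helper22.exists_conj_mem_of_pelement p ⊤ (P : Subgroup G) P.2
    (by rw [Subgroup.relIndex_top_right]; exact P.not_dvd_index) (z : G) (Subgroup.mem_top _) 1
    (by rw [hz', pow_one])
  have hz2K : h⁻¹ * z * h ∈ cm A G := cm_normal.conj_mem' _ z.2 h
  have hz2o : orderOf (h⁻¹ * z * h) = p := by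
    have := MulEquiv.orderOf_eq (MulAut.conj h⁻¹) (z : G)
    rw [MulAut.conj_apply, inv_inv] at this
    rw [this, hz']
  have hPc : IsCyclic (P : Subgroup G) := inferInstance
  have heq : Subgroup.zpowers (c : G) = Subgroup.zpowers (h⁻¹ * z * h) :=
    cyc_unique_sub (P : Subgroup G) _ _ hP (Subgroup.zpowers_le.mpr hh)
      (by rw [Nat.card_zpowers, Nat.card_zpowers, hc', hz2o])
  have hcK : (c : G) ∈ cm A G := by
    have : (c : G) ∈ Subgroup.zpowers (h⁻¹ * z * h) := heq ▸ Subgroup.mem_zpowers _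
    exact (Subgroup.zpowers_le.mpr hz2K) this
  have := cm_inf_fix hcop (c : G) hcK c.2
  rw [this, orderOf_one] at hc'
  exact hp.one_lt.ne hc'

end

theorem result {G A : Type*} [Group G] [Finite G] [Group A] [Finite A]
    [MulDistribMulAction A G] (hcop : (Nat.card A).Coprime (Nat.card G))
    (hcyc : ∀ (p : ℕ) [Fact p.Prime] (P : Sylow p G), IsCyclic (P : Subgroup G)) :
    (Nat.card (MulAction.fixedPoints A G : Set G)).Coprime (Nat.card G / Nat.card (MulAction.fixedPoints A G : Set G)) ∧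
    IsCyclic (Subgroup.closure {y : G | ∃ (a : A) (g : G), y = g⁻¹ * a • g}) ∧
    (Subgroup.closure {y : G | ∃ (a : A) (g : G), y = g⁻¹ * a • g}).Normal ∧
    (Subgroup.closure {y : G | ∃ (a : A) (g : G), y = g⁻¹ * a • g} : Set G) ∩ MulAction.fixedPoints A G = {1} ∧
    Subgroup.closure {y : G | ∃ (a : A) (g : G), y = g⁻¹ * a • g} ⊔ Subgroup.closure (MulAction.fixedPoints A G) = ⊤ := by
  have : IsZGroup G := ⟨fun p hp P => @hcyc p ⟨hp⟩ P⟩
  change (Nat.card (FixedPoints.subgroup A G)).Coprime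
      (Nat.card G / Nat.card (FixedPoints.subgroup A G)) ∧
    IsCyclic (cm A G) ∧ (cm A G).Normal ∧
    ((cm A G : Set G) ∩ (FixedPoints.subgroup A G : Set G) = {1}) ∧
    cm A G ⊔ Subgroup.closure ((FixedPoints.subgroup A G : Subgroup G) : Set G) = ⊤
  rw [Subgroup.closure_eq]
  have hKn : (cm A G).Normal := cm_normal
  have hinf : ∀ x ∈ cm A G, x ∈ FixedPoints.subgroup A G → x = 1 :=
    fun x hx hxc => cm_inf_fix hcop x hx hxc
  have hsup : cm A G ⊔ FixedPoints.subgroup A G = ⊤ := by
    rw [eq_top_iff]; intro g _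
    obtain ⟨k, hk, hfix⟩ := exists_fixed_in_coset hcop inferInstance (cm A G)
      (fun a k hk => smul_mem_cm a hk) g (fun a => gen_mem a g)
    have : g = (g * k) * k⁻¹ := by group
    rw [this]
    exact Subgroup.mul_mem _ (Subgroup.mem_sup_right hfix)
      (Subgroup.mem_sup_left ((cm A G).inv_mem hk))
  have hbot : cm A G ⊓ FixedPoints.subgroup A G = ⊥ := by
    rw [eq_bot_iff]
    rintro x ⟨hx1, hx2⟩
    exact hinf x hx1 hx2
  have hcard : Nat.card G = Nat.card (cm A G) * Nat.card (FixedPoints.subgroup A G) := by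
    have h1 := Cfsg.Agent.Lib.Helper22.card_sup_normal (FixedPoints.subgroup A G) (cm A G)
    rw [sup_comm, hsup, Subgroup.card_top, ← Subgroup.inf_relIndex_right, hbot,
      Subgroup.relIndex_bot_left] at h1
    exact h1
  have hcopKC := cm_card_coprime_fix (A := A) (G := G) hcop
  refine ⟨?_, isCyclic_of_comm_zgroup (cm_comm hcop), hKn, ?_, hsup⟩
  · rw [hcard, Nat.mul_div_cancel _ Nat.card_pos]
    exact hcopKC.symm
  · ext x
    simp only [Set.mem_inter_iff, SetLike.mem_coe, Set.mem_singleton_iff]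
    constructor
    · rintro ⟨h1, h2⟩
      exact hinf x h1 h2
    · rintro rfl
      exact ⟨Subgroup.one_mem _, Subgroup.one_mem _⟩

end Cfsg.Agent.S4117
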