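import Cfsg.Statements.S4127
import Cfsg.Agent.S4035
import Cfsg.Agent.Lib.Helper22.Basic
import Cfsg.Agent.Lib.Helper22.Sylow
import Cfsg.Agent.Lib.Helper22.Sylow2
import Cfsg.Agent.Lib.Helper22.AxB

set_option autoImplicit false
open Cfsg

namespace Cfsg.Agent.S4127

open Cfsg.Agent.Lib.Helper22

theorem centralizer_mul_eq {G : Type*} [Group G] [Finite G] (x y : G) (hxy : x * y = y * x)
    (hco : (orderOf y).Coprime (orderOf x)) :
    Subgroup.centralizer ({x * y} : Set G) =
      Subgroup.centralizer ({x} : Set G) ⊓ Subgroup.centralizer ({y} : Set G) := by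
  ext g
  rw [Subgroup.mem_inf, Subgroup.mem_centralizer_singleton_iff, Subgroup.mem_centralizer_singleton_iff,
    Subgroup.mem_centralizer_singleton_iff]
  constructor
  · intro hg
    have hcomm : Commute g (x * y) := hg
    have h1 : (x * y) ^ orderOf y = x ^ orderOf y := by
      rw [(show Commute x y from hxy).mul_pow, pow_orderOf_eq_one, mul_one]
    obtain ⟨m, hm⟩ := exists_pow_eq_self_of_coprime hco
    have h2 : Commute g x := by
      have : Commute g (((x * y) ^ orderOf y) ^ m) := (hcomm.pow_right _).pow_right _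
      rwa [h1, hm] at this
    refine ⟨h2.eq, ?_⟩
    have h3 : Commute g (x⁻¹ * (x * y)) := h2.inv_right.mul_right hcomm
    rw [inv_mul_cancel_left] at h3
    exact h3.eq
  · rintro ⟨h1, h2⟩
    exact ((show Commute g x from h1).mul_right (show Commute g y from h2)).eq

theorem centralizer_subgroupOf {G : Type*} [Group G] (C : Subgroup G) (y : C) :
    (Subgroup.centralizer ({(y : G)} : Set G)).subgroupOf C = Subgroup.centralizer ({y} : Set C) := by
  ext g
  rw [Subgroup.mem_subgroupOf, Subgroup.mem_centralizer_singleton_iff,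
    Subgroup.mem_centralizer_singleton_iff]
  constructor
  · intro h; exact Subtype.ext h
  · intro h; exact congrArg Subtype.val h

theorem card_sylow_eq {G : Type*} [Group G] [Finite G] (p : ℕ) [Fact p.Prime] (C : Subgroup G)
    (a : ℕ) (hidx : C.index = p ^ a) (P₀ : Sylow p C) (Q : Sylow p G) :
    Nat.card Q = Nat.card P₀ * p ^ a := by
  have hp : p.Prime := Fact.out
  rw [Sylow.card_eq_multiplicity, Sylow.card_eq_multiplicity, ← Subgroup.card_mul_index C, hidx,
    Nat.factorization_mul Nat.card_pos.ne' (pow_ne_zero _ hp.ne_zero), Finsupp.add_apply,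
    hp.factorization_pow, Finsupp.single_eq_same, pow_add]

theorem mem_all_sylow {G : Type*} [Group G] [Finite G] (p : ℕ) [Fact p.Prime] (C : Subgroup G)
    (a : ℕ) (hidx : C.index = p ^ a) (P₀ : Sylow p C) (hP₀ : (P₀ : Subgroup C).Normal)
    (x : G) (hxC : x ∈ C) (hx : (⟨x, hxC⟩ : C) ∈ (P₀ : Subgroup C)) (Q : Sylow p G) :
    x ∈ (Q : Subgroup G) := by
  have hp : p.Prime := Fact.out
  set R := (C ⊓ (Q : Subgroup G)).subgroupOf C with hR
  have hRp : IsPGroup p R := by
    have h1 : IsPGroup p (C ⊓ (Q : Subgroup G) : Subgroup G) := Q.2.to_le inf_le_right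
    exact h1.comap_of_injective _ (Subgroup.subtype_injective C)
  obtain ⟨P', hP'⟩ := hRp.exists_le_sylow
  have huniq := Sylow.unique_of_normal P₀ hP₀
  have hP'eq : P' = P₀ := Subsingleton.elim _ _
  rw [hP'eq] at hP'
  have hcardR : Nat.card R = Nat.card (C ⊓ (Q : Subgroup G) : Subgroup G) :=
    Nat.card_congr (Subgroup.subgroupOfEquivOfLe (inf_le_left : C ⊓ (Q : Subgroup G) ≤ C)).toEquiv
  have h1 : Nat.card (C ⊓ (Q : Subgroup G) : Subgroup G) * (C ⊓ (Q : Subgroup G)).relIndex (Q : Subgroup G) =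
      Nat.card Q := card_mul_relIndex_of_le inf_le_right
  rw [Subgroup.inf_relIndex_right] at h1
  have h2 : C.relIndex (Q : Subgroup G) ≤ p ^ a := by
    have h3 : C.relIndex (Q : Subgroup G) ≤ C.relIndex ⊤ := by
      apply Subgroup.relIndex_le_of_le_right le_top
      rw [Subgroup.relIndex_top_right]
      exact Subgroup.index_ne_zero_of_finite
    rwa [Subgroup.relIndex_top_right, hidx] at h3
  have h4 := card_sylow_eq p C a hidx P₀ Q
  have h5 : Nat.card P₀ ≤ Nat.card R := by
    rw [hcardR]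
    have h6 : Nat.card P₀ * p ^ a ≤ Nat.card (C ⊓ (Q : Subgroup G) : Subgroup G) * p ^ a := by
      rw [← h4, ← h1]
      exact Nat.mul_le_mul_left _ h2
    exact Nat.le_of_mul_le_mul_right h6 (pow_pos hp.pos a)
  have h7 : R = (P₀ : Subgroup C) := Subgroup.eq_of_le_of_card_ge hP' h5
  rw [← h7, hR, Subgroup.mem_subgroupOf] at hx
  exact (Subgroup.mem_inf.1 hx).2

theorem orderOf_conj' {G : Type*} [Group G] (g h : G) : orderOf (g * h * g⁻¹) = orderOf h := by
  have hs : SemiconjBy g h (g * h * g⁻¹) := by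
    unfold SemiconjBy; group
  exact (hs.orderOf_eq).symm

theorem conjClass_ncard {G : Type*} [Group G] (b : G) :
    (ConjClasses.mk b).carrier.ncard = (Subgroup.centralizer ({b} : Set G)).index := by
  rw [index_centralizer_eq_ncard_conj]
  have : (ConjClasses.mk b).carrier = {h : G | IsConj b h} := by
    ext x
    rw [ConjClasses.mem_carrier_iff_mk_eq, ConjClasses.mk_eq_mk_iff_isConj, Set.mem_ofPred_eq,
      isConj_comm]
  rw [this]

/-- Let G be a finite group, p a prime and p^a the largest power of p dividing the size of any conjugacy class of G. If some element of p-power order has a conjugacy class of size exactly p^a, then G has a normal p-complement. -/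
theorem result {G : Type*} [Group G] [Finite G] (p : ℕ) [Fact p.Prime]
    (a : ℕ) (hmax : ∀ y : G, ¬ p ^ (a + 1) ∣ (Subgroup.centralizer ({y} : Set G)).index)
    (hx : ∃ x : G, (∃ k : ℕ, orderOf x = p ^ k) ∧ (Subgroup.centralizer ({x} : Set G)).index = p ^ a) :
    Cfsg.HasNormalPComplement p G := by
  have hp : p.Prime := Fact.out
  obtain ⟨x, ⟨k, hk⟩, hidx⟩ := hx
  set C := Subgroup.centralizer ({x} : Set G) with hC
  have hxC : x ∈ C := by rw [hC, Subgroup.mem_centralizer_singleton_iff]
  have hclass : ∀ y : C, (orderOf y).Coprime p → ¬ p ∣ (ConjClasses.mk y).carrier.ncard := by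
    intro y hy
    rw [conjClass_ncard, ← centralizer_subgroupOf]
    have hyx : x * (y : G) = (y : G) * x := (Subgroup.mem_centralizer_singleton_iff.1 y.2).symm
    have hco : (orderOf (y : G)).Coprime (orderOf x) := by
      rw [hk, ← Subgroup.orderOf_mk (y : G) y.2]
      exact Nat.Coprime.pow_right _ hy
    have h1 := centralizer_mul_eq x (y : G) hyx hco
    have h2 := hmax (x * (y : G))
    rw [h1, ← Subgroup.relIndex_mul_index (inf_le_left : C ⊓ _ ≤ C), hidx, pow_succ,
      Subgroup.inf_relIndex_left] at h2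
    intro h3
    apply h2
    rw [mul_comm]
    exact Nat.mul_dvd_mul_right h3 _
  obtain ⟨P₀⟩ : Nonempty (Sylow p C) := inferInstance
  obtain ⟨hP₀n, H₀, hH₀n, hH₀p, hdis, hsup⟩ := Cfsg.Agent.S4035.result hclass P₀
  have hxP₀ : (⟨x, hxC⟩ : C) ∈ (P₀ : Subgroup C) := by
    apply mem_sylow_of_normal p P₀ hP₀n _ k
    rw [Subgroup.orderOf_mk, hk]
  have hH₀idx : H₀.index = Nat.card P₀ :=
    Cfsg.Agent.S4035.index_eq_card_of_compl (P₀ : Subgroup C) H₀ hdis hsup
  have hcardC : Nat.card P₀ * Nat.card H₀ = Nat.card C := by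
    rw [← hH₀idx]; exact Subgroup.index_mul_card H₀
  obtain ⟨Q₀⟩ : Nonempty (Sylow p G) := inferInstance
  set N := (Q₀ : Subgroup G).normalCore with hN
  have hNp : IsPGroup p N := Q₀.2.to_le (Subgroup.normalCore_le _)
  have hxN : x ∈ N := by
    rw [hN]
    intro b
    have h1 := mem_all_sylow p C a hidx P₀ hP₀n x hxC hxP₀ (b⁻¹ • Q₀)
    rw [mem_smul_sylow_iff, inv_inv] at h1
    exact h1
  set H := H₀.map C.subtype with hH
  have hHcent : ∀ h ∈ H, ∀ n ∈ N, h * n = n * h := by
    intro h hh
    obtain ⟨h₀, hh₀, rfl⟩ := Subgroup.mem_map.1 hh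
    have hordh : (orderOf (h₀ : G)).Coprime p := by
      have h1 : orderOf h₀ ∣ Nat.card H₀ := by
        have := orderOf_dvd_natCard (⟨h₀, hh₀⟩ : H₀)
        rwa [Subgroup.orderOf_mk] at this
      rw [← Subgroup.orderOf_mk (h₀ : G) h₀.2]
      exact Nat.Coprime.coprime_dvd_left h1 ((Nat.Prime.coprime_iff_not_dvd hp).2 hH₀p).symm
    apply thompson_axb p N hNp x hxN (h₀ : G)
    · intro n hn
      exact (inferInstance : N.Normal).conj_mem n hn _
    · exact Subgroup.mem_centralizer_singleton_iff.1 h₀.2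
    · exact hordh
    · intro n hn hnx
      have hnC : n ∈ C := by
        rw [hC, Subgroup.mem_centralizer_singleton_iff]; exact hnx
      obtain ⟨j, hj⟩ := orderOf_of_mem_pgroup p N hNp n hn
      have hnP₀ : (⟨n, hnC⟩ : C) ∈ (P₀ : Subgroup C) := by
        apply mem_sylow_of_normal p P₀ hP₀n _ j
        rw [Subgroup.orderOf_mk, hj]
      have hcm := Subgroup.commute_of_normal_of_disjoint (P₀ : Subgroup C) H₀ hP₀n hH₀n
        (disjoint_iff.2 hdis) _ _ hnP₀ hh₀
      have := congrArg Subtype.val hcm.eq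
      simpa using this.symm
  set D := Subgroup.centralizer (N : Set G) with hD
  have hDn : D.Normal := inferInstance
  have hHD : H ≤ D := by
    intro h hh
    rw [hD, Subgroup.mem_centralizer_iff]
    intro n hn
    exact (hHcent h hh n hn).symm
  have hDC : D ≤ C := by
    intro g hg
    rw [hD, Subgroup.mem_centralizer_iff] at hg
    rw [hC, Subgroup.mem_centralizer_singleton_iff]
    exact (hg x hxN).symm
  have hcardH : Nat.card H = Nat.card H₀ :=
    (Nat.card_congr (H₀.equivMapOfInjective C.subtype C.subtype_injective).toEquiv).symm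
  have hHn : H.Normal := by
    constructor
    intro h hh g
    have h1 : g * h * g⁻¹ ∈ C := hDC (hDn.conj_mem h (hHD hh) g)
    obtain ⟨h₀, hh₀, rfl⟩ := Subgroup.mem_map.1 hh
    have hordh : (orderOf (⟨g * (C.subtype h₀) * g⁻¹, h1⟩ : C)).Coprime H₀.index := by
      rw [Subgroup.orderOf_mk, orderOf_conj', Subgroup.coe_subtype, Subgroup.orderOf_coe, hH₀idx,
        Sylow.card_eq_multiplicity]
      apply Nat.Coprime.pow_right
      have h2 : orderOf h₀ ∣ Nat.card H₀ := by
        have := orderOf_dvd_natCard (⟨h₀, hh₀⟩ : H₀)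
        rwa [Subgroup.orderOf_mk] at this
      exact Nat.Coprime.coprime_dvd_left h2 ((Nat.Prime.coprime_iff_not_dvd hp).2 hH₀p).symm
    have h3 := Cfsg.Agent.S4035.mem_of_coprime_index H₀ _ hordh
    exact Subgroup.mem_map.2 ⟨_, h3, rfl⟩
  refine ⟨Q₀, H, hHn, ?_⟩
  apply Subgroup.isComplement'_of_coprime
  · rw [hcardH, card_sylow_eq p C a hidx P₀ Q₀, ← Subgroup.card_mul_index C, hidx, ← hcardC]
    ring
  · rw [hcardH, Sylow.card_eq_multiplicity]
    apply Nat.Coprime.pow_right
    exact ((Nat.Prime.coprime_iff_not_dvd hp).2 hH₀p).symm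

end Cfsg.Agent.S4127
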