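import Cfsg.Statements.S4134
import Mathlib
import Cfsg.Agent.Lib.Helper22.TwoClass7

set_option autoImplicit false
open Cfsg

namespace Cfsg.Agent.S4134

open Cfsg.Agent.Lib.Helper22.TwoClass

theorem result {G : Type*} [Group G] [Finite G] (n : ℕ) (hn : 1 < n)
    (h : ∀ x : G, (Subgroup.centralizer ({x} : Set G)).index = 1 ∨ (Subgroup.centralizer ({x} : Set G)).index = n) (hex : ∃ x : G, (Subgroup.centralizer ({x} : Set G)).index = n) :
    ∃ (p : ℕ) (_ : Fact p.Prime) (a : ℕ), n = p ^ a ∧ ∀ P : Sylow p G, (P : Subgroup G).Normal ∧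
      (∃ N : Subgroup G, N.Normal ∧ N.IsComplement' (P : Subgroup G) ∧ IsMulCommutative N ∧
        ∀ x ∈ N, ∀ y ∈ (P : Subgroup G), x * y = y * x) ∧
      ∃ A : Subgroup (P : Subgroup G), A.Normal ∧ IsMulCommutative A ∧ ∀ y : (P : Subgroup G), y ^ p ∈ A := by
  have hTC : TC G n := ⟨hn, h⟩
  obtain ⟨x0, hx0⟩ := hex
  have hx0c : x0 ∉ Subgroup.center G := by
    intro hc
    have := index_Cz_eq_one_iff.2 hc
    rw [Cz, hx0] at this
    exact hn.ne' this
  obtain ⟨q, x, hI⟩ := exists_caseI hTC hx0c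
  have hq : Fact q.Prime := ⟨hI.prime⟩
  obtain ⟨a, ha⟩ := hI.n_pow hTC
  refine ⟨q, hq, a, ha, fun P => ⟨hI.sylow_normal hTC P, hI.complement hTC P, ?_⟩⟩
  have htop := hI.sup_top hTC P
  have hZ : ∀ z ∈ (P : Subgroup G), (∀ g ∈ (P : Subgroup G), g * z = z * g) →
      z ∈ Subgroup.center G := by
    intro z _ hz
    rw [← Cz_eq_top_iff, eq_top_iff, ← htop]
    exact sup_le (fun g hg => mem_Cz.2 (hz g hg)) (center_le_Cz z)
  have hnc : ¬ (P : Subgroup G) ≤ Subgroup.center G := by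
    intro hle
    apply hx0c
    have : Subgroup.center G = ⊤ := by
      rw [eq_top_iff, ← htop]
      exact sup_le hle le_rfl
    rw [this]
    exact Subgroup.mem_top _
  obtain ⟨x2, hx2⟩ := exists_z2 q (P : Subgroup G) P.2 hZ hnc
  exact hx2.abelian_normal hTC

end Cfsg.Agent.S4134
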