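import Cfsg.Statements.S4142
import Cfsg.Agent.Lib.Helper22.Basic

set_option autoImplicit false
open Cfsg

namespace Cfsg.Agent.S4142

open Cfsg.Agent.Lib.Helper22

theorem card_class_mul_card_centralizer {G : Type*} [Group G] [Finite G] (g : G) :
    {h : G | IsConj g h}.ncard * Nat.card (Subgroup.centralizer ({g} : Set G)) = Nat.card G := by
  rw [← index_centralizer_eq_ncard_conj]
  exact Subgroup.index_mul_card _

theorem result {G : Type*} [Group G] [Finite G] (N : Subgroup G) [N.Normal] :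
    (∀ g : G, g ∉ N → ∀ n ∈ N, ∃ x : G, x * g * x⁻¹ = g * n) ↔
      ∀ g : G, g ∉ N → Nat.card (Subgroup.centralizer ({g} : Set G)) =
        Nat.card (Subgroup.centralizer ({(QuotientGroup.mk g : G ⧸ N)} : Set (G ⧸ N))) := by
  -- general facts, for every g
  have key : ∀ g : G,
      ({h : G | IsConj g h} ⊆ (QuotientGroup.mk : G → G ⧸ N) ⁻¹' {y : G ⧸ N | IsConj (QuotientGroup.mk g : G ⧸ N) y}) ∧
      (((QuotientGroup.mk : G → G ⧸ N) ⁻¹' {y : G ⧸ N | IsConj (QuotientGroup.mk g : G ⧸ N) y}).ncard *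
        Nat.card (Subgroup.centralizer ({(QuotientGroup.mk g : G ⧸ N)} : Set (G ⧸ N))) = Nat.card G) := by
    intro g
    constructor
    · intro h hh
      rw [Set.mem_ofPred_eq, isConj_iff] at hh
      obtain ⟨c, rfl⟩ := hh
      rw [Set.mem_preimage, Set.mem_ofPred_eq, isConj_iff]
      exact ⟨QuotientGroup.mk c, by simp⟩
    · have e := QuotientGroup.preimageMkEquivSubgroupProdSet N
        {y : G ⧸ N | IsConj (QuotientGroup.mk g : G ⧸ N) y}
      have h1 : ((QuotientGroup.mk : G → G ⧸ N) ⁻¹' {y : G ⧸ N | IsConj (QuotientGroup.mk g : G ⧸ N) y}).ncard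
          = Nat.card N * {y : G ⧸ N | IsConj (QuotientGroup.mk g : G ⧸ N) y}.ncard := by
        rw [← Nat.card_coe_set_eq, Nat.card_congr e, Nat.card_prod, Nat.card_coe_set_eq]
      rw [h1, mul_assoc, card_class_mul_card_centralizer, ← Subgroup.index_eq_card,
        Subgroup.card_mul_index]
  constructor
  · intro hcam g hg
    obtain ⟨hsub, hB⟩ := key g
    have hA := card_class_mul_card_centralizer g
    have hsub' : (QuotientGroup.mk : G → G ⧸ N) ⁻¹' {y : G ⧸ N | IsConj (QuotientGroup.mk g : G ⧸ N) y}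
        ⊆ {h : G | IsConj g h} := by
      intro h hh
      rw [Set.mem_preimage, Set.mem_ofPred_eq, isConj_iff] at hh
      obtain ⟨c, hc⟩ := hh
      obtain ⟨x, rfl⟩ := QuotientGroup.mk_surjective c
      have h2 : (QuotientGroup.mk (x * g * x⁻¹) : G ⧸ N) = QuotientGroup.mk h := by
        rw [← hc]; simp
      rw [QuotientGroup.eq] at h2
      -- h = x g x⁻¹ n'
      set n' := (x * g * x⁻¹)⁻¹ * h with hn'
      have hn'' : x⁻¹ * n' * x ∈ N := by
        have := ‹N.Normal›.conj_mem _ h2 x⁻¹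
        simpa using this
      obtain ⟨z, hz⟩ := hcam g hg _ hn''
      rw [Set.mem_ofPred_eq, isConj_iff]
      refine ⟨x * z, ?_⟩
      have : x * z * g * (x * z)⁻¹ = x * (z * g * z⁻¹) * x⁻¹ := by group
      rw [this, hz, hn']
      group
    have heq : {h : G | IsConj g h} = (QuotientGroup.mk : G → G ⧸ N) ⁻¹' {y : G ⧸ N | IsConj (QuotientGroup.mk g : G ⧸ N) y} :=
      Set.Subset.antisymm hsub hsub'
    rw [← heq] at hB
    have hpos : 0 < {h : G | IsConj g h}.ncard := by
      rw [Set.ncard_pos (Set.toFinite _)]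
      exact ⟨g, IsConj.refl g⟩
    exact Nat.eq_of_mul_eq_mul_left hpos (hA.trans hB.symm)
  · intro hcard g hg n hn
    obtain ⟨hsub, hB⟩ := key g
    have hA := card_class_mul_card_centralizer g
    rw [← hcard g hg] at hB
    have hpos : 0 < Nat.card (Subgroup.centralizer ({g} : Set G)) := Nat.card_pos
    have hcardeq : ((QuotientGroup.mk : G → G ⧸ N) ⁻¹' {y : G ⧸ N | IsConj (QuotientGroup.mk g : G ⧸ N) y}).ncard
        = {h : G | IsConj g h}.ncard :=
      Nat.eq_of_mul_eq_mul_right hpos (hB.trans hA.symm)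
    have heq := Set.eq_of_subset_of_ncard_le hsub hcardeq.le (Set.toFinite _)
    have hmem : g * n ∈ (QuotientGroup.mk : G → G ⧸ N) ⁻¹' {y : G ⧸ N | IsConj (QuotientGroup.mk g : G ⧸ N) y} := by
      rw [Set.mem_preimage, Set.mem_ofPred_eq]
      have : (QuotientGroup.mk (g * n) : G ⧸ N) = QuotientGroup.mk g := by
        rw [QuotientGroup.eq]; simpa using N.inv_mem hn
      rw [this]
    rw [← heq, Set.mem_ofPred_eq, isConj_iff] at hmem
    exact hmem

end Cfsg.Agent.S4142
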