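import Cfsg.Statements.S4143
import Mathlib

set_option autoImplicit false
open Cfsg

namespace Cfsg.Agent.S4143

open Subgroup

theorem card_le_of_conj {X : Type*} [Group X] [Finite X] (D Z : Subgroup X) (b : X)
    (h : ∀ x ∈ D, x * b * x⁻¹ * b⁻¹ ∈ Z) :
    Nat.card D ≤ Nat.card Z * Nat.card (D ⊓ centralizer {b} : Subgroup X) := by
  set E : Subgroup X := D ⊓ centralizer {b} with hE
  have hED : E ≤ D := inf_le_left
  have h1 : Nat.card (E.subgroupOf D) * (E.subgroupOf D).index = Nat.card D :=
    Subgroup.card_mul_index _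
  have h2 : Nat.card (E.subgroupOf D) = Nat.card E :=
    Nat.card_congr (Subgroup.subgroupOfEquivOfLe hED).toEquiv
  have h3 : (E.subgroupOf D).index ≤ Nat.card Z := by
    rw [Subgroup.index_eq_card]
    apply Nat.card_le_card_of_injective
      (fun q : D ⧸ E.subgroupOf D =>
        (⟨(q.out : X) * b * (q.out : X)⁻¹ * b⁻¹, h _ q.out.2⟩ : Z))
    intro q q' hqq
    have e1 : (q.out : X) * b * (q.out : X)⁻¹ * b⁻¹ = (q'.out : X) * b * (q'.out : X)⁻¹ * b⁻¹ :=
      congrArg Subtype.val hqq
    have e2 : (q.out : X) * b * (q.out : X)⁻¹ = (q'.out : X) * b * (q'.out : X)⁻¹ :=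
      mul_right_cancel e1
    have e3 : ((q.out)⁻¹ * q'.out : D) ∈ E.subgroupOf D := by
      rw [Subgroup.mem_subgroupOf]
      refine ⟨(D.mul_mem (D.inv_mem q.out.2) q'.out.2), ?_⟩
      show ((q.out)⁻¹ * q'.out : D).1 ∈ centralizer {b}
      rw [Subgroup.mem_centralizer_iff]
      intro y hy
      rw [Set.mem_singleton_iff] at hy
      subst hy
      push_cast
      have : (q.out : X)⁻¹ * ((q.out : X) * y * (q.out : X)⁻¹) * (q'.out : X) =
          (q.out : X)⁻¹ * ((q'.out : X) * y * (q'.out : X)⁻¹) * (q'.out : X) := by rw [e2]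
      simp only [mul_assoc, inv_mul_cancel_left, inv_mul_cancel, mul_one] at this
      simpa [mul_assoc] using this
    have e4 : (QuotientGroup.mk q.out : D ⧸ E.subgroupOf D) = QuotientGroup.mk q'.out :=
      QuotientGroup.eq.mpr e3
    rwa [QuotientGroup.out_eq', QuotientGroup.out_eq'] at e4
  calc Nat.card D = Nat.card (E.subgroupOf D) * (E.subgroupOf D).index := h1.symm
    _ ≤ Nat.card E * Nat.card Z := by rw [h2]; exact Nat.mul_le_mul_left _ h3
    _ = Nat.card Z * Nat.card E := Nat.mul_comm _ _

theorem mem_comap_centralizer_map {X : Type*} [Group X] (Z : Subgroup X) [Z.Normal]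
    (B : Subgroup X) (x : X) :
    x ∈ (centralizer ((B.map (QuotientGroup.mk' Z) : Subgroup (X ⧸ Z)) : Set (X ⧸ Z))).comap
        (QuotientGroup.mk' Z) ↔ ∀ b ∈ B, x * b * x⁻¹ * b⁻¹ ∈ Z := by
  rw [Subgroup.mem_comap, Subgroup.mem_centralizer_iff]
  constructor
  · intro h b hb
    have h1 := h (QuotientGroup.mk' Z b) (Subgroup.mem_map_of_mem _ hb)
    rw [← QuotientGroup.eq_one_iff]
    have h2 : ((x * b * x⁻¹ * b⁻¹ : X) : X ⧸ Z) =
        (QuotientGroup.mk' Z x) * (QuotientGroup.mk' Z b) * (QuotientGroup.mk' Z x)⁻¹ *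
          (QuotientGroup.mk' Z b)⁻¹ := by
      simp
    rw [h2, ← h1]
    group
  · intro h y hy
    obtain ⟨b, hb, rfl⟩ := Subgroup.mem_map.mp hy
    have h1 := (QuotientGroup.eq_one_iff _).mpr (h b hb)
    have h2 : ((x * b * x⁻¹ * b⁻¹ : X) : X ⧸ Z) =
        (QuotientGroup.mk' Z x) * (QuotientGroup.mk' Z b) * (QuotientGroup.mk' Z x)⁻¹ *
          (QuotientGroup.mk' Z b)⁻¹ := by
      simp
    rw [h2] at h1
    have h3 := mul_inv_eq_one.mp h1
    have h4 := mul_inv_eq_iff_eq_mul.mp h3
    exact h4.symm

theorem card_map_mk {X : Type*} [Group X] [Finite X] (Z : Subgroup X) [Z.Normal] (B : Subgroup X)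
    (hZB : Z ≤ B) :
    Nat.card (B.map (QuotientGroup.mk' Z) : Subgroup (X ⧸ Z)) * Nat.card Z = Nat.card B := by
  let f : B →* X ⧸ Z := (QuotientGroup.mk' Z).comp B.subtype
  have hr : f.range = B.map (QuotientGroup.mk' Z) := by
    rw [MonoidHom.range_comp, Subgroup.range_subtype]
  have hk : f.ker = Z.subgroupOf B := by
    ext x
    rw [MonoidHom.mem_ker, Subgroup.mem_subgroupOf]
    show ((x : X) : X ⧸ Z) = 1 ↔ _
    exact QuotientGroup.eq_one_iff _
  have h1 := Subgroup.card_mul_index f.ker
  rw [Subgroup.index_ker, hr, hk] at h1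
  have h2 : Nat.card (Z.subgroupOf B) = Nat.card Z :=
    Nat.card_congr (Subgroup.subgroupOfEquivOfLe hZB).toEquiv
  rw [h2] at h1
  rw [mul_comm]
  exact h1

theorem card_quot {X : Type*} [Group X] [Finite X] (Z : Subgroup X) [Z.Normal] (p n : ℕ)
    (hp : p.Prime) (hX : Nat.card X = p ^ n) (hZ : Nat.card Z = p) (hn : 1 ≤ n) :
    Nat.card (X ⧸ Z) = p ^ (n - 1) := by
  have h1 := Subgroup.card_eq_card_quotient_mul_card_subgroup Z
  rw [hX, hZ] at h1
  have h2 : p ^ n = p ^ (n - 1) * p := by
    rw [← pow_succ]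
    congr 1
    omega
  rw [h2] at h1
  exact (Nat.eq_of_mul_eq_mul_right hp.pos h1).symm

theorem card_pow_of_dvd {p k m : ℕ} (hp : p.Prime) (h : m ∣ p ^ k) : ∃ j, j ≤ k ∧ m = p ^ j :=
  (Nat.dvd_prime_pow hp).mp h

theorem suzuki.{u} : ∀ (n : ℕ) (G : Type u) [Group G] [Finite G] (p : ℕ) [Fact p.Prime],
    Nat.card G = p ^ n → ∀ A : Subgroup G, Nat.card A = p ^ 2 → centralizer (A : Set G) ≤ A →
    Group.nilpotencyClass G = n - 1 := by
  intro n
  induction n using Nat.strong_induction_on with
  | _ n ih =>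
  intro G _ _ p _ hG A hA hCA
  have hp : p.Prime := Fact.out
  have hPG : IsPGroup p G := IsPGroup.of_card hG
  have hnil : Group.IsNilpotent G := hPG.isNilpotent
  have hn2 : 2 ≤ n := by
    have : p ^ 2 ∣ p ^ n := by rw [← hA, ← hG]; exact Subgroup.card_subgroup_dvd_card A
    exact (Nat.pow_dvd_pow_iff_le_right hp.one_lt).mp this
  have hnt : Nontrivial G := by
    rw [← Finite.one_lt_card_iff_nontrivial, hG]
    exact Nat.one_lt_pow (by omega) hp.one_lt
  have hAab : IsMulCommutative A := IsPGroup.isMulCommutative_of_card_eq_prime_sq hA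
  have hAcomm : ∀ a ∈ A, ∀ b ∈ A, a * b = b * a := by
    intro a ha b hb
    have := hAab.is_comm.comm (⟨a, ha⟩ : A) ⟨b, hb⟩
    exact congrArg Subtype.val this
  rcases Nat.lt_or_ge 2 n with hn3 | hn
  swap
  · have hn' : n = 2 := by omega
    subst hn'
    have hAtop : A = ⊤ := Subgroup.eq_top_of_card_eq A (by rw [hA, hG])
    have hZtop : center G = ⊤ := by
      rw [eq_top_iff]
      intro x _
      rw [Subgroup.mem_center_iff]
      intro y
      exact hAcomm y (by rw [hAtop]; trivial) x (by rw [hAtop]; trivial)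
    rw [Group.nilpotencyClass_eq_quotient_center_plus_one]
    have hss : Subsingleton (G ⧸ center G) := by
      rw [hZtop]
      exact QuotientGroup.subsingleton_quotient_top
    have := Group.nilpotencyClass_zero_iff_subsingleton.mpr hss
    omega
  · have hZA : center G ≤ A := le_trans (Subgroup.center_le_centralizer _) hCA
    have hZnt : Nontrivial (center G) := hPG.center_nontrivial
    have hZbot : center G ≠ ⊥ := (Subgroup.nontrivial_iff_ne_bot _).mp hZnt
    have hZneA : center G ≠ A := by
      intro e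
      have h1 : centralizer (A : Set G) = ⊤ := by
        rw [Subgroup.centralizer_eq_top_iff_subset, ← e]
      have h2 : A = ⊤ := eq_top_iff.mpr (h1 ▸ hCA)
      have h3 : Nat.card A = Nat.card G := by rw [h2]; exact Subgroup.card_top
      rw [hA, hG] at h3
      have := Nat.pow_right_injective hp.two_le h3
      omega
    have hZcard : Nat.card (center G) = p := by
      have h1 : Nat.card (center G) ∣ p ^ 2 := hA ▸ Subgroup.card_dvd_of_le hZA
      obtain ⟨j, hj, hj'⟩ := card_pow_of_dvd hp h1
      have hj0 : j ≠ 0 := by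
        intro e
        rw [e, pow_zero] at hj'
        exact hZbot (Subgroup.eq_bot_of_card_eq _ hj')
      have hj2 : j ≠ 2 := by
        intro e
        rw [e] at hj'
        exact hZneA (Subgroup.eq_of_le_of_card_ge hZA (by rw [hA, hj']))
      have : j = 1 := by omega
      rw [hj', this, pow_one]
    have hQcard : Nat.card (G ⧸ center G) = p ^ (n - 1) :=
      card_quot (center G) p n hp hG hZcard (by omega)
    set Abar : Subgroup (G ⧸ center G) := A.map (QuotientGroup.mk' (center G)) with hAbar
    have hAbarcard : Nat.card Abar = p := by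
      have h1 := card_map_mk (center G) A hZA
      rw [hZcard, hA, pow_two] at h1
      exact Nat.eq_of_mul_eq_mul_right hp.pos h1
    set Cbar : Subgroup (G ⧸ center G) := centralizer (Abar : Set (G ⧸ center G)) with hCbar
    set D : Subgroup G := Cbar.comap (QuotientGroup.mk' (center G)) with hD
    have hDmem : ∀ x, x ∈ D ↔ ∀ a ∈ A, x * a * x⁻¹ * a⁻¹ ∈ center G := fun x =>
      mem_comap_centralizer_map (center G) A x
    have hZD : center G ≤ D := by
      intro z hz
      rw [hDmem]
      intro a ha
      have : z * a * z⁻¹ * a⁻¹ = 1 := by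
        rw [Subgroup.mem_center_iff] at hz
        rw [← hz a]
        group
      rw [this]
      exact Subgroup.one_mem _
    have hDmap : D.map (QuotientGroup.mk' (center G)) = Cbar :=
      Subgroup.map_comap_eq_self_of_surjective (QuotientGroup.mk'_surjective _) Cbar
    have hDcard : Nat.card Cbar * p = Nat.card D := by
      have := card_map_mk (center G) D hZD
      rw [hDmap, hZcard] at this
      exact this
    obtain ⟨a₀, ha₀A, ha₀Z⟩ := SetLike.exists_of_lt (lt_of_le_of_ne hZA hZneA)
    have hcent : centralizer ({a₀} : Set G) ≤ A := by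
      intro c hc
      apply hCA
      set E : Subgroup G := A ⊓ centralizer {c} with hE
      have hZE : center G ≤ E := le_inf hZA (Subgroup.center_le_centralizer _)
      have ha₀E : a₀ ∈ E := by
        refine ⟨ha₀A, ?_⟩
        show a₀ ∈ centralizer {c}
        rw [Subgroup.mem_centralizer_iff]
        intro y hy
        rw [Set.mem_singleton_iff] at hy
        subst hy
        rw [Subgroup.mem_centralizer_iff] at hc
        exact (hc a₀ rfl).symm
      have hZltE : center G < E := lt_of_le_of_ne hZE (fun e => ha₀Z (e ▸ ha₀E))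
      have hEA : E ≤ A := inf_le_left
      have hEcard : Nat.card E = p ^ 2 := by
        have h1 : Nat.card E ∣ p ^ 2 := hA ▸ Subgroup.card_dvd_of_le hEA
        obtain ⟨j, hj, hj'⟩ := card_pow_of_dvd hp h1
        have h2 : p ∣ Nat.card E := hZcard ▸ Subgroup.card_dvd_of_le hZE
        have hj0 : j ≠ 0 := by
          intro e
          rw [e, pow_zero] at hj'
          rw [hj'] at h2
          exact hp.one_lt.ne' (Nat.dvd_one.mp h2)
        have hj1 : j ≠ 1 := by
          intro e
          rw [e, pow_one] at hj'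
          exact hZltE.ne (Subgroup.eq_of_le_of_card_ge hZE (by rw [hZcard, hj']))
        have : j = 2 := by omega
        rw [hj', this]
      have hEeq : E = A := Subgroup.eq_of_le_of_card_ge hEA (by rw [hA, hEcard])
      rw [Subgroup.mem_centralizer_iff]
      intro a ha
      have : a ∈ E := hEeq ▸ ha
      have h2 : a ∈ centralizer {c} := this.2
      rw [Subgroup.mem_centralizer_iff] at h2
      exact (h2 c rfl).symm
    have hDle : Nat.card D ≤ p ^ 3 := by
      have h1 := card_le_of_conj D (center G) a₀ (fun x hx => (hDmem x).mp hx a₀ ha₀A)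
      have h2 : Nat.card (D ⊓ centralizer {a₀} : Subgroup G) ≤ Nat.card A :=
        Subgroup.card_le_of_le (le_trans inf_le_right hcent)
      rw [hZcard] at h1
      calc Nat.card D ≤ p * Nat.card (D ⊓ centralizer {a₀} : Subgroup G) := h1
        _ ≤ p * Nat.card A := Nat.mul_le_mul_left _ h2
        _ = p ^ 3 := by rw [hA]; ring
    have hCle : Nat.card Cbar ≤ p ^ 2 := by
      have : Nat.card Cbar * p ≤ p ^ 2 * p := by
        rw [hDcard]
        calc Nat.card D ≤ p ^ 3 := hDle
          _ = p ^ 2 * p := by ring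
      exact Nat.le_of_mul_le_mul_right this hp.pos
    have hAbarC : Abar ≤ Cbar := by
      intro y hy
      rw [hCbar, Subgroup.mem_centralizer_iff]
      intro y' hy'
      obtain ⟨a, ha, rfl⟩ := Subgroup.mem_map.mp hy
      obtain ⟨a', ha', rfl⟩ := Subgroup.mem_map.mp hy'
      rw [← map_mul, ← map_mul, hAcomm a' ha' a ha]
    have hQP : IsPGroup p (G ⧸ center G) := IsPGroup.of_card hQcard
    have hQnt : Nontrivial (G ⧸ center G) := by
      rw [← Finite.one_lt_card_iff_nontrivial, hQcard]
      exact Nat.one_lt_pow (by omega) hp.one_lt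
    have hCneA : Cbar ≠ Abar := by
      intro e
      have h1 : center (G ⧸ center G) ≤ Abar := e ▸ Subgroup.center_le_centralizer _
      have h2 : Nontrivial (center (G ⧸ center G)) := hQP.center_nontrivial
      have h3 : center (G ⧸ center G) ≠ ⊥ := (Subgroup.nontrivial_iff_ne_bot _).mp h2
      have h4 : Nat.card (center (G ⧸ center G)) ∣ p := hAbarcard ▸ Subgroup.card_dvd_of_le h1
      have h5 : Nat.card (center (G ⧸ center G)) = p := by
        rcases (Nat.dvd_prime hp).mp h4 with e1 | e1
        · exact absurd (Subgroup.eq_bot_of_card_eq _ e1) h3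
        · exact e1
      have h6 : center (G ⧸ center G) = Abar :=
        Subgroup.eq_of_le_of_card_ge h1 (by rw [hAbarcard, h5])
      have h7 : Cbar = ⊤ := by
        rw [hCbar, Subgroup.centralizer_eq_top_iff_subset, ← h6]
      have h8 : Nat.card Abar = Nat.card (G ⧸ center G) := by
        rw [← e, h7]; exact Subgroup.card_top
      rw [hAbarcard, hQcard] at h8
      have h9 : p ^ 1 = p ^ (n - 1) := by rw [pow_one]; exact h8
      have := Nat.pow_right_injective hp.two_le h9
      omega
    have hCcard : Nat.card Cbar = p ^ 2 := by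
      have h1 : Nat.card Cbar ∣ p ^ (n - 1) := hQcard ▸ Subgroup.card_subgroup_dvd_card Cbar
      obtain ⟨j, hj, hj'⟩ := card_pow_of_dvd hp h1
      have h2 : p ∣ Nat.card Cbar := hAbarcard ▸ Subgroup.card_dvd_of_le hAbarC
      have hj0 : j ≠ 0 := by
        intro e
        rw [e, pow_zero] at hj'
        rw [hj'] at h2
        exact hp.one_lt.ne' (Nat.dvd_one.mp h2)
      have hj1 : j ≠ 1 := by
        intro e
        rw [e, pow_one] at hj'
        exact hCneA (Subgroup.eq_of_le_of_card_ge hAbarC (by rw [hAbarcard, hj'])).symm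
      have hj2 : j ≤ 2 := by
        rw [hj'] at hCle
        exact (Nat.pow_le_pow_iff_right hp.one_lt).mp hCle
      have : j = 2 := by omega
      rw [hj', this]
    have hCC : centralizer (Cbar : Set (G ⧸ center G)) ≤ Cbar := by
      rw [hCbar]
      exact Subgroup.centralizer_le hAbarC
    have hcls := ih (n - 1) (by omega) (G ⧸ center G) p hQcard Cbar hCcard hCC
    rw [Group.nilpotencyClass_eq_quotient_center_plus_one, hcls]
    omega

theorem comm_of_card_le_sq {H : Type*} [Group H] {p j : ℕ} [Fact p.Prime]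
    (hcard : Nat.card H = p ^ j) (hj : j ≤ 2) : ∀ a b : H, a * b = b * a := by
  intro a b
  interval_cases j
  · rw [pow_zero] at hcard
    have : Subsingleton H := (Nat.card_eq_one_iff_unique.mp hcard).1
    exact Subsingleton.elim _ _
  · rw [pow_one] at hcard
    have : IsCyclic H := isCyclic_of_prime_card hcard
    exact (IsCyclic.commGroup).mul_comm a b
  · have := IsPGroup.isMulCommutative_of_card_eq_prime_sq hcard
    exact this.is_comm.comm a b

theorem result {X : Type*} [Group X] [Finite X] {p : ℕ} [Fact p.Prime] (n : ℕ) (hX : Nat.card X = p ^ n)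
    (B : Subgroup X) (hB : Nat.card B = p ^ 3) (hBna : ¬ IsMulCommutative B) (hC : Subgroup.centralizer (B : Set X) ≤ B) :
    Group.nilpotencyClass X = n - 1 := by
  have hp : p.Prime := Fact.out
  have hPX : IsPGroup p X := IsPGroup.of_card hX
  have hnil : Group.IsNilpotent X := hPX.isNilpotent
  have hn3 : 3 ≤ n := by
    have : p ^ 3 ∣ p ^ n := by rw [← hB, ← hX]; exact Subgroup.card_subgroup_dvd_card B
    exact (Nat.pow_dvd_pow_iff_le_right hp.one_lt).mp this
  have hnt : Nontrivial X := by
    rw [← Finite.one_lt_card_iff_nontrivial, hX]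
    exact Nat.one_lt_pow (by omega) hp.one_lt
  have hPB : IsPGroup p B := IsPGroup.of_card hB
  have hBnt : Nontrivial B := by
    rw [← Finite.one_lt_card_iff_nontrivial, hB]
    exact Nat.one_lt_pow (by omega) hp.one_lt
  have hcB : Nat.card (center B) = p := by
    have h1 : Nat.card (center B) ∣ p ^ 3 := hB ▸ Subgroup.card_subgroup_dvd_card _
    obtain ⟨j, hj, hj'⟩ := card_pow_of_dvd hp h1
    have h2 : Nontrivial (center B) := hPB.center_nontrivial
    have h3 : center B ≠ ⊥ := (Subgroup.nontrivial_iff_ne_bot _).mp h2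
    have hj0 : j ≠ 0 := by
      intro e
      rw [e, pow_zero] at hj'
      exact h3 (Subgroup.eq_bot_of_card_eq _ hj')
    have hj3 : j ≠ 3 := by
      intro e
      rw [e] at hj'
      have h4 : center B = ⊤ := Subgroup.eq_top_of_card_eq _ (by rw [hj', hB])
      apply hBna
      refine ⟨⟨fun a b => ?_⟩⟩
      have : b ∈ center B := by rw [h4]; trivial
      exact (Subgroup.mem_center_iff.mp this a)
    have hj2 : j ≠ 2 := by
      intro e
      rw [e] at hj'
      have h4 := Subgroup.card_eq_card_quotient_mul_card_subgroup (center B)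
      rw [hB, hj'] at h4
      have h5 : Nat.card (B ⧸ center B) = p := by
        have : p ^ 3 = p * p ^ 2 := by ring
        rw [this] at h4
        exact (Nat.eq_of_mul_eq_mul_right (pow_pos hp.pos 2) h4).symm
      have h6 : IsCyclic (B ⧸ center B) := isCyclic_of_prime_card h5
      exact hBna (MonoidHom.isMulCommutative_of_isCyclic_of_ker_le_center
        (QuotientGroup.mk' (center B)) (by rw [QuotientGroup.ker_mk']))
    have : j = 1 := by omega
    rw [hj', this, pow_one]
  set C : Subgroup X := centralizer (B : Set X) with hCdef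
  have hCsub : C.subgroupOf B = center B := by
    ext b
    rw [Subgroup.mem_subgroupOf, Subgroup.mem_centralizer_iff, Subgroup.mem_center_iff]
    constructor
    · intro h y
      exact Subtype.ext (h y y.2)
    · intro h y hy
      exact congrArg Subtype.val (h ⟨y, hy⟩)
  have hCcard : Nat.card C = p := by
    rw [← hcB, ← hCsub]
    exact (Nat.card_congr (Subgroup.subgroupOfEquivOfLe hC).toEquiv).symm
  have hZC : center X ≤ C := Subgroup.center_le_centralizer _
  have hZnt : Nontrivial (center X) := hPX.center_nontrivial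
  have hZbot : center X ≠ ⊥ := (Subgroup.nontrivial_iff_ne_bot _).mp hZnt
  have hZcard : Nat.card (center X) = p := by
    have h4 : Nat.card (center X) ∣ p := hCcard ▸ Subgroup.card_dvd_of_le hZC
    rcases (Nat.dvd_prime hp).mp h4 with e1 | e1
    · exact absurd (Subgroup.eq_bot_of_card_eq _ e1) hZbot
    · exact e1
  have hZeqC : center X = C := Subgroup.eq_of_le_of_card_ge hZC (by rw [hCcard, hZcard])
  have hZB : center X ≤ B := hZeqC ▸ hC
  have hQcard : Nat.card (X ⧸ center X) = p ^ (n - 1) :=
    card_quot (center X) p n hp hX hZcard (by omega)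
  set Bbar : Subgroup (X ⧸ center X) := B.map (QuotientGroup.mk' (center X)) with hBbar
  have hBbarcard : Nat.card Bbar = p ^ 2 := by
    have h1 := card_map_mk (center X) B hZB
    rw [hZcard, hB] at h1
    have : p ^ 3 = p ^ 2 * p := by ring
    rw [this] at h1
    exact Nat.eq_of_mul_eq_mul_right hp.pos h1
  set D : Subgroup X := (centralizer (Bbar : Set (X ⧸ center X))).comap
    (QuotientGroup.mk' (center X)) with hD
  have hDmem : ∀ x, x ∈ D ↔ ∀ b ∈ B, x * b * x⁻¹ * b⁻¹ ∈ center X := fun x =>
    mem_comap_centralizer_map (center X) B x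
  have hBbarcomm : ∀ a b : Bbar, a * b = b * a := comm_of_card_le_sq hBbarcard le_rfl
  have hBD : B ≤ D := by
    intro b hb
    rw [hD, Subgroup.mem_comap, Subgroup.mem_centralizer_iff]
    intro y hy
    have := hBbarcomm ⟨y, hy⟩ ⟨QuotientGroup.mk' (center X) b, Subgroup.mem_map_of_mem _ hb⟩
    exact congrArg Subtype.val this
  obtain ⟨b₁, b₂, hb12⟩ : ∃ b₁ b₂ : B, b₁ * b₂ ≠ b₂ * b₁ := by
    by_contra hcon
    push Not at hcon
    exact hBna ⟨⟨hcon⟩⟩
  have hgen : closure ({(b₁ : X), (b₂ : X)} : Set X) = B := by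
    set L : Subgroup X := closure ({(b₁ : X), (b₂ : X)} : Set X) with hL
    have hLB : L ≤ B := by
      rw [hL, Subgroup.closure_le]
      intro x hx
      rcases hx with rfl | rfl
      · exact b₁.2
      · exact b₂.2
    have h1 : Nat.card L ∣ p ^ 3 := hB ▸ Subgroup.card_dvd_of_le hLB
    obtain ⟨j, hj, hj'⟩ := card_pow_of_dvd hp h1
    by_cases hj2 : j ≤ 2
    · exfalso
      have hcomm := comm_of_card_le_sq hj' hj2
      have hb₁L : (b₁ : X) ∈ L := Subgroup.subset_closure (by simp)
      have hb₂L : (b₂ : X) ∈ L := Subgroup.subset_closure (by simp)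
      have h5 := hcomm ⟨b₁, hb₁L⟩ ⟨b₂, hb₂L⟩
      have h6 : (b₁ : X) * (b₂ : X) = (b₂ : X) * (b₁ : X) := congrArg Subtype.val h5
      apply hb12
      apply Subtype.ext
      exact h6
    · have : j = 3 := by omega
      rw [this] at hj'
      exact Subgroup.eq_of_le_of_card_ge hLB (by rw [hB, hj'])
  have hDcard : Nat.card D ≤ p ^ 3 := by
    have h1 := card_le_of_conj D (center X) b₁ (fun x hx => (hDmem x).mp hx b₁ b₁.2)
    have h2 := card_le_of_conj (D ⊓ centralizer {(b₁ : X)}) (center X) b₂
      (fun x hx => (hDmem x).mp hx.1 b₂ b₂.2)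
    have h3 : (D ⊓ centralizer {(b₁ : X)} ⊓ centralizer {(b₂ : X)} : Subgroup X) ≤ C := by
      intro x hx
      rw [hCdef, ← hgen, Subgroup.centralizer_closure, Subgroup.mem_centralizer_iff]
      intro y hy
      rcases hy with rfl | rfl
      · have := hx.1.2
        exact (Subgroup.mem_centralizer_iff.mp this) _ rfl
      · have := hx.2
        exact (Subgroup.mem_centralizer_iff.mp this) _ rfl
    have h4 := Subgroup.card_le_of_le h3
    rw [hZcard] at h1 h2
    rw [hCcard] at h4
    calc Nat.card D ≤ p * Nat.card (D ⊓ centralizer {(b₁ : X)} : Subgroup X) := h1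
      _ ≤ p * (p * Nat.card (D ⊓ centralizer {(b₁ : X)} ⊓ centralizer {(b₂ : X)} : Subgroup X)) :=
        Nat.mul_le_mul_left _ h2
      _ ≤ p * (p * p) := Nat.mul_le_mul_left _ (Nat.mul_le_mul_left _ h4)
      _ = p ^ 3 := by ring
  have hDB : B = D := Subgroup.eq_of_le_of_card_ge hBD (by rw [hB]; exact hDcard)
  have hcent : centralizer (Bbar : Set (X ⧸ center X)) ≤ Bbar := by
    have h1 : D.map (QuotientGroup.mk' (center X)) = centralizer (Bbar : Set (X ⧸ center X)) :=
      Subgroup.map_comap_eq_self_of_surjective (QuotientGroup.mk'_surjective _) _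
    rw [← h1, ← hDB]
  have hcls := suzuki (n - 1) (X ⧸ center X) p hQcard Bbar hBbarcard hcent
  rw [Group.nilpotencyClass_eq_quotient_center_plus_one, hcls]
  omega

end Cfsg.Agent.S4143
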