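import Cfsg.Statements.S4145
import Cfsg.Agent.Lib.Helper22.Basic
import Cfsg.Agent.Lib.Helper22.Sylow
import Cfsg.Agent.Lib.Helper22.Sylow2
import Cfsg.Agent.Lib.Helper22.CyclicAut
import Cfsg.Agent.Lib.Helper22.Burnside
import Cfsg.Agent.S3985

set_option autoImplicit false
open Cfsg

namespace Cfsg.Agent.S4145

theorem comm_gen_of_pprime_part {G : Type*} [Group G] [Finite G] (p : ℕ) [Fact p.Prime] (P : Sylow p G)
    (y₀ : G) (hPz : ∀ h : G, h ∈ (P : Subgroup G) ↔ h ∈ Subgroup.zpowers y₀) (g : G)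
    (hg : g ∈ Subgroup.normalizer ((P : Subgroup G) : Set G))
    (hb : ∀ b ∈ Subgroup.zpowers g, (orderOf b).Coprime p → b * y₀ = y₀ * b) : g * y₀ = y₀ * g := by
  obtain ⟨a, b, hab, -, ⟨k, hk⟩, hbcop, haz, hbz⟩ := Lib.Helper22.exists_p_decomp p g
  have hzle : Subgroup.zpowers g ≤ Subgroup.normalizer ((P : Subgroup G) : Set G) :=
    Subgroup.zpowers_le.2 hg
  have haP : a ∈ (P : Subgroup G) := S3985.mem_sylow_of_normalizes p P a k hk (hzle haz)
  have hay : a * y₀ = y₀ * a := by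
    obtain ⟨i, rfl⟩ := (hPz a).1 haP
    exact ((Commute.refl y₀).zpow_left i).eq
  have hby := hb b hbz hbcop
  rw [hab, mul_assoc, hby, ← mul_assoc, hay, mul_assoc]

theorem eq_one_of_coprime_of_ppow {G : Type*} [Group G] (p : ℕ) [Fact p.Prime] (g : G) (k : ℕ)
    (h1 : (orderOf g).Coprime p) (h2 : orderOf g ∣ p ^ k) : g = 1 := by
  have h3 : (orderOf g).Coprime (p ^ k) := h1.pow_right k
  exact orderOf_eq_one_iff.1 (h3.eq_one_of_dvd h2)

theorem not_dvd_card_of_forall_coprime {G : Type*} [Group G] [Finite G] (p : ℕ) [Fact p.Prime]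
    (K : Subgroup G) (hK : ∀ g ∈ K, (orderOf g).Coprime p) : ¬ p ∣ Nat.card K := by
  have hp : p.Prime := Fact.out
  intro hdvd
  obtain ⟨x, hx⟩ := exists_prime_orderOf_dvd_card' p hdvd
  have h1 := hK (x : G) x.2
  rw [Subgroup.orderOf_coe, hx, Nat.coprime_self] at h1
  exact hp.one_lt.ne' h1

theorem result {G : Type*} [Group G] [Finite G] (p : ℕ) [Fact p.Prime]
    (P : Sylow p G) (hP : IsCyclic (P : Subgroup G)) (H : Subgroup G) [H.Normal] (h1 : p ∣ Nat.card H) (h2 : p ∣ H.index) :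
    Cfsg.HasNormalPComplement p H ∧ Cfsg.IsPSolvable p G := by
  have hp : p.Prime := Fact.out
  obtain ⟨y₀', hy₀'⟩ := hP.exists_generator
  obtain ⟨n, hn⟩ := (IsPGroup.iff_orderOf.1 P.2) y₀'
  set y₀ : G := (y₀' : G) with hy₀def
  have hy₀P : y₀ ∈ (P : Subgroup G) := y₀'.2
  have hy₀ : orderOf y₀ = p ^ n := by rw [hy₀def, Subgroup.orderOf_coe, hn]
  have hPz : ∀ h : G, h ∈ (P : Subgroup G) ↔ h ∈ Subgroup.zpowers y₀ := by
    intro h
    constructor
    · intro hh
      obtain ⟨i, hi⟩ := hy₀' ⟨h, hh⟩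
      refine ⟨i, ?_⟩
      have := congrArg Subtype.val hi
      simpa using this
    · intro hh
      exact (Subgroup.zpowers_le.2 hy₀P) hh
  have hPab : ∀ a ∈ (P : Subgroup G), a * y₀ = y₀ * a := by
    intro a ha
    obtain ⟨i, rfl⟩ := (hPz a).1 ha
    exact ((Commute.refl y₀).zpow_left i).eq
  have hcommP : ∀ g : G, g * y₀ = y₀ * g → ∀ y ∈ (P : Subgroup G), g * y = y * g := by
    intro g hg y hy
    obtain ⟨i, rfl⟩ := (hPz y).1 hy
    have hc : Commute g y₀ := hg
    exact (hc.zpow_right i).eq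
  have hPord : ∀ y ∈ (P : Subgroup G), ∃ k : ℕ, orderOf y = p ^ k :=
    fun y hy => Lib.Helper22.orderOf_of_mem_pgroup p (P : Subgroup G) P.2 y hy
  have hy₀H : y₀ ∉ H := by
    intro hy₀H
    have hPH : (P : Subgroup G) ≤ H := by
      intro h hh
      rw [hPz] at hh
      exact (Subgroup.zpowers_le.2 hy₀H) hh
    exact P.not_dvd_index (dvd_trans h2 (Subgroup.index_dvd_of_le hPH))
  obtain ⟨x, hxP, hxH, hx1⟩ : ∃ x : G, x ∈ (P : Subgroup G) ∧ x ∈ H ∧ x ≠ 1 := by
    obtain ⟨h, hh⟩ := exists_prime_orderOf_dvd_card' p h1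
    have hpg : IsPGroup p (Subgroup.zpowers (h : G)) := by
      apply IsPGroup.of_card (n := 1)
      rw [Nat.card_zpowers, Subgroup.orderOf_coe, hh, pow_one]
    obtain ⟨R, hR⟩ := hpg.exists_le_sylow
    obtain ⟨c, hc⟩ := MulAction.exists_smul_eq G P R
    have hhR : (h : G) ∈ ((c • P : Sylow p G) : Subgroup G) := by
      rw [hc]; exact hR (Subgroup.mem_zpowers _)
    rw [Lib.Helper22.mem_smul_sylow_iff] at hhR
    refine ⟨c⁻¹ * (h : G) * c, hhR, ?_, ?_⟩
    · have := ‹H.Normal›.conj_mem (h : G) h.2 c⁻¹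
      simpa using this
    · intro h0
      have h3 : (h : G) = 1 := by
        have : (h : G) = c * (c⁻¹ * (h : G) * c) * c⁻¹ := by group
        rw [this, h0]; group
      have h4 : orderOf (h : G) = 1 := by rw [h3, orderOf_one]
      rw [Subgroup.orderOf_coe, hh] at h4
      exact hp.one_lt.ne' h4
  have hL₁mem : ∀ g ∈ (P : Subgroup G) ⊔ H, ∃ y ∈ (P : Subgroup G), ∃ h ∈ H, g = y * h := by
    intro g hg
    have h3 : g ∈ (((P : Subgroup G) ⊔ H : Subgroup G) : Set G) := hg
    rw [Subgroup.mul_normal, Set.mem_mul] at h3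
    obtain ⟨y, hy, h, hh, hyh⟩ := h3
    exact ⟨y, hy, h, hh, hyh.symm⟩
  have hmkL₁ : ∀ g ∈ (P : Subgroup G) ⊔ H, ∃ y ∈ (P : Subgroup G),
      (QuotientGroup.mk g : G ⧸ H) = QuotientGroup.mk y := by
    intro g hg
    obtain ⟨y, hy, h, hh, rfl⟩ := hL₁mem g hg
    refine ⟨y, hy, ?_⟩
    rw [QuotientGroup.mk_mul, (QuotientGroup.eq_one_iff h).2 hh, mul_one]
  have hNC₁ : ∀ g ∈ (P : Subgroup G) ⊔ H, g ∈ Subgroup.normalizer ((P : Subgroup G) : Set G) →
      ∀ y ∈ (P : Subgroup G), g * y = y * g := by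
    intro g hgL hgN
    apply hcommP
    apply comm_gen_of_pprime_part p P y₀ hPz g hgN
    intro b hbz hbo
    have hbL : b ∈ (P : Subgroup G) ⊔ H := (Subgroup.zpowers_le.2 hgL) hbz
    have hbN : b ∈ Subgroup.normalizer ((P : Subgroup G) : Set G) := (Subgroup.zpowers_le.2 hgN) hbz
    apply Lib.Helper22.comm_of_commutator_mem p y₀ b n hy₀ _ hbo H hy₀H
    · obtain ⟨y, hy, hmk⟩ := hmkL₁ b hbL
      rw [← QuotientGroup.eq_one_iff]
      rw [QuotientGroup.mk_mul, QuotientGroup.mk_mul, QuotientGroup.mk_mul, QuotientGroup.mk_inv,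
        QuotientGroup.mk_inv, hmk, ← QuotientGroup.mk_inv, ← QuotientGroup.mk_inv, ← QuotientGroup.mk_mul,
        ← QuotientGroup.mk_mul, ← QuotientGroup.mk_mul, QuotientGroup.eq_one_iff]
      have : y * y₀ * y⁻¹ * y₀⁻¹ = 1 := by
        rw [hPab y hy]; group
      rw [this]; exact H.one_mem
    · rw [← hPz]
      exact (Subgroup.mem_normalizer_iff.1 hbN y₀).1 hy₀P
  obtain ⟨K, hKL, hKmem, hKcard, hKdec⟩ :=
    Lib.Helper22.burnside_sub p P ((P : Subgroup G) ⊔ H) le_sup_left hNC₁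
  have hKH : K ≤ H := by
    intro g hg
    obtain ⟨hgL, hgo⟩ := (hKmem g).1 hg
    obtain ⟨y, hy, hmk⟩ := hmkL₁ g hgL
    rw [← QuotientGroup.eq_one_iff]
    obtain ⟨k, hk⟩ := hPord y hy
    apply eq_one_of_coprime_of_ppow p _ k
    · exact Nat.Coprime.coprime_dvd_left (orderOf_map_dvd (QuotientGroup.mk' H) g) hgo
    · rw [hmk, ← hk]
      exact orderOf_map_dvd (QuotientGroup.mk' H) y
  have hconj_ord : ∀ a g : G, orderOf (a * g * a⁻¹) = orderOf g := by
    intro a g
    symm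
    apply SemiconjBy.orderOf_eq a
    unfold SemiconjBy
    group
  have hKnormal : K.Normal := by
    constructor
    intro k hk a
    rw [hKmem]
    refine ⟨le_sup_right (a := (P : Subgroup G)) (‹H.Normal›.conj_mem k (hKH hk) a), ?_⟩
    rw [hconj_ord]
    exact ((hKmem k).1 hk).2
  have hpK : ¬ p ∣ Nat.card K :=
    not_dvd_card_of_forall_coprime p K (fun g hg => ((hKmem g).1 hg).2)
  obtain ⟨n', hn'⟩ := P.2.exists_card_eq
  have hKP1 : ∀ g ∈ K, g ∈ (P : Subgroup G) → g = 1 := by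
    intro g hgK hgP
    obtain ⟨k, hk⟩ := hPord g hgP
    exact eq_one_of_coprime_of_ppow p g k ((hKmem g).1 hgK).2 (by rw [hk])
  constructor
  · have hK0 : Nat.card K ≠ 0 := Nat.card_pos.ne'
    have hr : K.relIndex H ∣ p ^ n' := by
      have h3 : Nat.card K * K.relIndex H ∣ Nat.card K * p ^ n' := by
        rw [Lib.Helper22.card_mul_relIndex_of_le hKH, ← hn', hKcard]
        exact Subgroup.card_dvd_of_le le_sup_right
      exact Nat.dvd_of_mul_dvd_mul_left Nat.card_pos h3
    obtain ⟨j, -, hj⟩ := (Nat.dvd_prime_pow hp).1 hr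
    have hHcard : Nat.card H = Nat.card K * p ^ j := by
      rw [← hj, Lib.Helper22.card_mul_relIndex_of_le hKH]
    have hfac : (Nat.card H).factorization p = j := by
      rw [hHcard, Nat.factorization_mul hK0 (pow_ne_zero _ hp.ne_zero), Finsupp.add_apply,
        Nat.factorization_eq_zero_of_not_dvd hpK, hp.factorization_pow, Finsupp.single_eq_same,
        zero_add]
    obtain ⟨S⟩ := (inferInstance : Nonempty (Sylow p H))
    have hScard : Nat.card (S : Subgroup H) = p ^ j := by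
      rw [Sylow.card_eq_multiplicity, hfac]
    have hNcard : Nat.card (K.subgroupOf H) = Nat.card K :=
      Nat.card_congr (Subgroup.subgroupOfEquivOfLe hKH).toEquiv
    refine ⟨S, K.subgroupOf H, Subgroup.normal_subgroupOf, ?_⟩
    apply Subgroup.isComplement'_of_coprime
    · rw [hNcard, hScard, hHcard]
    · rw [hNcard, hScard]
      exact Nat.Coprime.pow_right _ ((Nat.Prime.coprime_iff_not_dvd hp).2 hpK).symm
  · let C : Subgroup G :=
      { carrier := {g | ∀ h ∈ H, g * h * g⁻¹ * h⁻¹ ∈ K}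
        one_mem' := by
          intro h _
          have : (1 : G) * h * 1⁻¹ * h⁻¹ = 1 := by group
          rw [this]; exact K.one_mem
        mul_mem' := by
          intro a b ha hb h hh
          have h3 : a * b * h * (a * b)⁻¹ * h⁻¹ =
              (a * (b * h * b⁻¹ * h⁻¹) * a⁻¹) * (a * h * a⁻¹ * h⁻¹) := by group
          rw [h3]
          exact K.mul_mem (hKnormal.conj_mem _ (hb h hh) a) (ha h hh)
        inv_mem' := by
          intro a ha h hh
          have h3 : a⁻¹ * h * a⁻¹⁻¹ * h⁻¹ = a⁻¹ * (a * h * a⁻¹ * h⁻¹)⁻¹ * a⁻¹⁻¹ := by group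
          rw [h3]
          exact hKnormal.conj_mem _ (K.inv_mem (ha h hh)) a⁻¹ }
    have hCmem : ∀ g : G, g ∈ C ↔ ∀ h ∈ H, g * h * g⁻¹ * h⁻¹ ∈ K := fun g => Iff.rfl
    have hCnormal : C.Normal := by
      constructor
      intro a ha c
      rw [hCmem]
      intro h hh
      have h3 : c * a * c⁻¹ * h * (c * a * c⁻¹)⁻¹ * h⁻¹ =
          c * (a * (c⁻¹ * h * c) * a⁻¹ * (c⁻¹ * h * c)⁻¹) * c⁻¹ := by group
      rw [h3]
      apply hKnormal.conj_mem
      apply (hCmem a).1 ha
      have := ‹H.Normal›.conj_mem h hh c⁻¹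
      simpa using this
    have hPC : (P : Subgroup G) ≤ C := by
      intro y hy
      rw [hCmem]
      intro h hh
      obtain ⟨k, hk, q, hq, rfl⟩ := hKdec h (le_sup_right (a := (P : Subgroup G)) hh)
      have hyq : y * q = q * y := by
        obtain ⟨i, rfl⟩ := (hPz q).1 hq
        obtain ⟨i', rfl⟩ := (hPz y).1 hy
        exact ((Commute.refl y₀).zpow_zpow i' i).eq
      have h3 : y * (k * q) * y⁻¹ * (k * q)⁻¹ = (y * k * y⁻¹) * ((y * q) * y⁻¹ * q⁻¹) * k⁻¹ := by group
      rw [h3, hyq]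
      have h4 : q * y * y⁻¹ * q⁻¹ = 1 := by group
      rw [h4, mul_one]
      exact K.mul_mem (hKnormal.conj_mem k hk y) (K.inv_mem hk)
    have hNC₂ : ∀ g ∈ C, g ∈ Subgroup.normalizer ((P : Subgroup G) : Set G) →
        ∀ y ∈ (P : Subgroup G), g * y = y * g := by
      intro g hgC hgN
      apply hcommP
      apply comm_gen_of_pprime_part p P y₀ hPz g hgN
      intro b hbz hbo
      have hbC : b ∈ C := (Subgroup.zpowers_le.2 hgC) hbz
      have hbN : b ∈ Subgroup.normalizer ((P : Subgroup G) : Set G) := (Subgroup.zpowers_le.2 hgN) hbz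
      apply Lib.Helper22.comm_of_fix_nontrivial p y₀ b x n hy₀ _ hbo ((hPz x).1 hxP) hx1
      · have h3 : b * x * b⁻¹ * x⁻¹ ∈ K := (hCmem b).1 hbC x hxH
        have h4 : b * x * b⁻¹ * x⁻¹ ∈ (P : Subgroup G) :=
          (P : Subgroup G).mul_mem ((Subgroup.mem_normalizer_iff.1 hbN x).1 hxP)
            ((P : Subgroup G).inv_mem hxP)
        have h5 := hKP1 _ h3 h4
        calc b * x = (b * x * b⁻¹ * x⁻¹) * x * b := by group
          _ = x * b := by rw [h5, one_mul]
      · rw [← hPz]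
        exact (Subgroup.mem_normalizer_iff.1 hbN y₀).1 hy₀P
    obtain ⟨M, hMC, hMmem, hMcard, -⟩ := Lib.Helper22.burnside_sub p P C hPC hNC₂
    have hMnormal : M.Normal := by
      constructor
      intro m hm a
      rw [hMmem]
      refine ⟨hCnormal.conj_mem m (hMC hm) a, ?_⟩
      rw [hconj_ord]
      exact ((hMmem m).1 hm).2
    have hpM : ¬ p ∣ Nat.card M :=
      not_dvd_card_of_forall_coprime p M (fun g hg => ((hMmem g).1 hg).2)
    have hrelMC : M.relIndex C = p ^ n' := by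
      have h3 : Nat.card M * M.relIndex C = Nat.card M * p ^ n' := by
        rw [Lib.Helper22.card_mul_relIndex_of_le hMC, ← hn', hMcard]
      exact Nat.eq_of_mul_eq_mul_left Nat.card_pos h3
    have hidxC : C.index.Coprime p := by
      have h3 : ¬ p ∣ C.index := fun h => P.not_dvd_index (dvd_trans h (Subgroup.index_dvd_of_le hPC))
      exact ((Nat.Prime.coprime_iff_not_dvd hp).2 h3).symm
    refine ⟨3, ![⊥, M, C, ⊤], rfl, rfl, ?_, ?_, ?_⟩
    · rw [Fin.monotone_iff_le_succ]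
      intro i
      fin_cases i
      · exact bot_le
      · exact hMC
      · exact le_top
    · intro i
      fin_cases i
      · exact (inferInstance : (⊥ : Subgroup G).Normal)
      · exact hMnormal
      · exact hCnormal
      · exact (inferInstance : (⊤ : Subgroup G).Normal)
    · intro i
      fin_cases i
      · right
        show ((⊥ : Subgroup G).relIndex M).Coprime p
        rw [Subgroup.relIndex_bot_left]
        exact ((Nat.Prime.coprime_iff_not_dvd hp).2 hpM).symm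
      · left
        exact ⟨n', hrelMC⟩
      · right
        show (C.relIndex ⊤).Coprime p
        rw [Subgroup.relIndex_top_right]
        exact hidxC

end Cfsg.Agent.S4145
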