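import Cfsg.Statements.S4151
-- import your own Cfsg.Agent.* helpers here
import Mathlib
import Cfsg.Agent.Lib.Helper22.TiHallF

set_option autoImplicit false
open Cfsg

namespace Cfsg.Agent.S4151

/-- Let G be a finite group and H a non-normal subgroup meeting each of its conjugates by elements outside N_G(H) trivially, with the order of H coprime to its index in N_G(H), such that G is π-separable for π the set of primes dividing the order of H (G has a chain of normal subgroups from 1 to G each of whose factors has order divisible only by primes dividing the order of H or coprime to it). Suppose a Sylow 2-subgroup of H is abelian and Q is a complement of H in N_G(H). Then C_H(Q), the subgroup of elements of H commuting with Q, has order coprime to its index in G and has a normal complement in G. -/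
theorem result {G : Type*} [Group G] [Finite G] (H : Subgroup G)
    (hTI : Cfsg.IsTISubset (H : Set G)) (hnn : ¬ H.Normal)
    (hHall : (Nat.card H).Coprime (H.subgroupOf (Subgroup.normalizer (H : Set G))).index)
    (hsep : ∃ (n : ℕ) (M : Fin (n + 1) → Subgroup G), M 0 = ⊥ ∧ M (Fin.last n) = ⊤ ∧ Monotone M ∧ (∀ i, (M i).Normal) ∧
      ∀ i : Fin n, (∀ q : ℕ, q.Prime → q ∣ (M i.castSucc).relIndex (M i.succ) → q ∣ Nat.card H) ∨
        ((M i.castSucc).relIndex (M i.succ)).Coprime (Nat.card H))
    (h2 : ∀ P : Sylow 2 H, IsMulCommutative (P : Subgroup H))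
    (Q : Subgroup G) (hQ : Q ≤ Subgroup.normalizer (H : Set G)) (hQH : Q ⊓ H = ⊥) (hQH' : Q ⊔ H = Subgroup.normalizer (H : Set G)) :
    (Nat.card ↥(H ⊓ Subgroup.centralizer (Q : Set G))).Coprime (H ⊓ Subgroup.centralizer (Q : Set G)).index ∧
    ∃ N : Subgroup G, N.Normal ∧ N.IsComplement' (H ⊓ Subgroup.centralizer (Q : Set G)) := by
  obtain ⟨n, M, h0, hlast, hmono, hMn, hfac⟩ := hsep
  obtain ⟨O, hO⟩ : ∃ O : Subgroup G,
      O = sSup {K : Subgroup G | K.Normal ∧ (Nat.card K).Coprime (Nat.card H)} := ⟨_, rfl⟩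
  obtain ⟨hOn, hOc, hOmax⟩ := Cfsg.Agent.Lib.Helper22.TiHallA.core_props H O hO
  have hH1 : H ≠ ⊥ := by
    intro e
    apply hnn
    rw [e]
    infer_instance
  obtain ⟨L, hLn, hOL, hne, hπ⟩ := Cfsg.Agent.Lib.Helper22.TiHallA.exists_step H O hOn hOc hOmax
    hH1 n M hlast h0 hmono hMn hfac
  have htop := Cfsg.Agent.Lib.Helper22.TiHallA.sup_normalizer_eq_top H hTI hHall O L hOL hne hπ
  have hFC := Cfsg.Agent.Lib.Helper22.TiHallD.frob_complement H hTI hnn O hOn hOc htop
  obtain ⟨hcyc, hinv, -⟩ := Cfsg.Agent.Lib.Helper22.TiHallB.frob_data (X := H) hFC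
  have hZ : IsZGroup H := Cfsg.Agent.Lib.Helper22.TiHallE.isZGroup_of_data hcyc hinv h2
  have hsol : Group.IsSolvable H := inferInstance
  have hcop : (Nat.card Q).Coprime (Nat.card H) := by
    rw [← Cfsg.Agent.Lib.Helper22.TiHallF.card_complement H Q hQ hQH hQH']
    exact hHall.symm
  have hC1 := Cfsg.Agent.Lib.Helper22.TiHallE.hall_centralizer H Q hQ hcop
  have hHallG := Cfsg.Agent.S4115.hall_in_G H hTI hHall
  have hCH : H ⊓ Subgroup.centralizer (Q : Set G) ≤ H := inf_le_left
  have hHallC : (Nat.card ↥(H ⊓ Subgroup.centralizer (Q : Set G))).Coprime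
      (H ⊓ Subgroup.centralizer (Q : Set G)).index := by
    rw [← Subgroup.relIndex_mul_index hCH]
    exact Nat.Coprime.mul_right hC1
      (Nat.Coprime.coprime_dvd_left (Subgroup.card_dvd_of_le hCH) hHallG)
  refine ⟨hHallC, ?_⟩
  obtain ⟨K, hKn, hsup, hinf⟩ := Cfsg.Agent.S0877.result (H ⊓ Subgroup.centralizer (Q : Set G))
    hHallC (Cfsg.Agent.Lib.Helper22.TiHallF.fusion H Q hTI hQ hQH' hcop)
    (fun E p _ _ hE => Cfsg.Agent.Lib.Helper22.TiHallF.conj_into_hall H hTI hHall _ hCH hC1 E hE)
  refine ⟨K, hKn, ?_⟩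
  apply Subgroup.isComplement'_of_disjoint_and_mul_eq_univ (disjoint_iff.mpr hinf)
  rw [← Subgroup.normal_mul, hsup]
  rfl

end Cfsg.Agent.S4151
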