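import Cfsg.Statements.S4152
import Mathlib

set_option autoImplicit false
open Cfsg

namespace Cfsg.Agent.S4152


def IsPi {X : Type*} [Monoid X] (π : Set ℕ) (x : X) : Prop :=
  ∀ q : ℕ, q.Prime → q ∣ orderOf x → q ∈ π

theorem nat_pi_split (π : Set ℕ) (m : ℕ) (hm : 0 < m) :
    ∃ a b : ℕ, m = a * b ∧ a.Coprime b ∧ (∀ q : ℕ, q.Prime → q ∣ a → q ∈ π) ∧
      (∀ q : ℕ, q.Prime → q ∣ b → q ∈ πᶜ) := by
  classical
  induction m using Nat.recOnPosPrimePosCoprime with
  | prime_pow p n hp hn =>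
    by_cases hpπ : p ∈ π
    · refine ⟨p ^ n, 1, (mul_one _).symm, Nat.coprime_one_right _, ?_, ?_⟩
      · intro q hq hd
        have := (Nat.prime_dvd_prime_iff_eq hq hp).mp (hq.dvd_of_dvd_pow hd)
        rw [this]; exact hpπ
      · intro q hq hd
        exact absurd (Nat.dvd_one.mp hd) hq.ne_one
    · refine ⟨1, p ^ n, (one_mul _).symm, Nat.coprime_one_left _, ?_, ?_⟩
      · intro q hq hd
        exact absurd (Nat.dvd_one.mp hd) hq.ne_one
      · intro q hq hd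
        have := (Nat.prime_dvd_prime_iff_eq hq hp).mp (hq.dvd_of_dvd_pow hd)
        rw [this]; exact hpπ
  | zero => exact absurd hm (lt_irrefl 0)
  | one =>
    refine ⟨1, 1, rfl, Nat.coprime_one_left _, ?_, ?_⟩ <;>
    · intro q hq hd
      exact absurd (Nat.dvd_one.mp hd) hq.ne_one
  | coprime a b ha hb hab iha ihb =>
    obtain ⟨a1, b1, h1, hc1, hπ1, hπ1'⟩ := iha (by omega)
    obtain ⟨a2, b2, h2, hc2, hπ2, hπ2'⟩ := ihb (by omega)
    have ha1 : a1 ∣ a := ⟨b1, h1⟩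
    have hb1 : b1 ∣ a := ⟨a1, by rw [h1, mul_comm]⟩
    have ha2 : a2 ∣ b := ⟨b2, h2⟩
    have hb2 : b2 ∣ b := ⟨a2, by rw [h2, mul_comm]⟩
    refine ⟨a1 * a2, b1 * b2, by rw [h1, h2]; ring, ?_, ?_, ?_⟩
    · apply Nat.Coprime.mul_left
      · exact Nat.Coprime.mul_right hc1 (Nat.Coprime.coprime_dvd_left ha1 (Nat.Coprime.coprime_dvd_right hb2 hab))
      · exact Nat.Coprime.mul_right (Nat.Coprime.coprime_dvd_left ha2 (Nat.Coprime.coprime_dvd_right hb1 hab.symm)) hc2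
    · intro q hq hd
      rcases (Nat.Prime.dvd_mul hq).mp hd with h | h
      · exact hπ1 q hq h
      · exact hπ2 q hq h
    · intro q hq hd
      rcases (Nat.Prime.dvd_mul hq).mp hd with h | h
      · exact hπ1' q hq h
      · exact hπ2' q hq h

theorem coprime_of_isPi {X : Type*} [Monoid X] {π : Set ℕ} {s t : X} (hs : IsPi π s)
    (ht : IsPi πᶜ t) : (orderOf s).Coprime (orderOf t) := by
  by_contra h
  obtain ⟨q, hq, hd⟩ := Nat.exists_prime_and_dvd h
  have h1 : q ∣ orderOf s := hd.trans (Nat.gcd_dvd_left _ _)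
  have h2 : q ∣ orderOf t := hd.trans (Nat.gcd_dvd_right _ _)
  exact ht q hq h2 (hs q hq h1)

theorem pow_eq_of_modEq_one {X : Type*} [Group X] {x : X} {e n : ℕ} (hx : orderOf x ∣ n)
    (he : e ≡ 1 [MOD n]) : x ^ e = x := by
  have h1 : e ≡ 1 [MOD orderOf x] := he.of_dvd hx
  have := (pow_eq_pow_iff_modEq (x := x)).mpr h1
  rw [this, pow_one]

theorem pow_eq_one_of_modEq_zero {X : Type*} [Group X] {x : X} {e n : ℕ} (hx : orderOf x ∣ n)
    (he : e ≡ 0 [MOD n]) : x ^ e = 1 := by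
  have h1 : e ≡ 0 [MOD orderOf x] := he.of_dvd hx
  have := (pow_eq_pow_iff_modEq (x := x)).mpr h1
  rw [this, pow_zero]

theorem pi_unique {X : Type*} [Group X] [Finite X] {π : Set ℕ} {s t s' t' : X}
    (h : s * t = s' * t') (hc : Commute s t) (hc' : Commute s' t')
    (hs : IsPi π s) (ht : IsPi πᶜ t) (hs' : IsPi π s') (ht' : IsPi πᶜ t') : s = s' ∧ t = t' := by
  have hAB : (orderOf s * orderOf s').Coprime (orderOf t * orderOf t') := by
    apply Nat.Coprime.mul_left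
    · exact Nat.Coprime.mul_right (coprime_of_isPi hs ht) (coprime_of_isPi hs ht')
    · exact Nat.Coprime.mul_right (coprime_of_isPi hs' ht) (coprime_of_isPi hs' ht')
  obtain ⟨e, he1, he0⟩ := Nat.chineseRemainder hAB 1 0
  have e1 : (s * t) ^ e = s := by
    rw [hc.mul_pow, pow_eq_of_modEq_one (dvd_mul_right _ _) he1,
      pow_eq_one_of_modEq_zero (dvd_mul_right _ _) he0, mul_one]
  have e2 : (s' * t') ^ e = s' := by
    rw [hc'.mul_pow, pow_eq_of_modEq_one (dvd_mul_left _ _) he1,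
      pow_eq_one_of_modEq_zero (dvd_mul_left _ _) he0, mul_one]
  have hss : s = s' := by rw [← e1, ← e2, h]
  refine ⟨hss, ?_⟩
  rw [hss] at h
  exact mul_left_cancel h

theorem pi_decomp {X : Type*} [Group X] [Finite X] (π : Set ℕ) (n : X) :
    ∃ s t : X, n = s * t ∧ Commute s t ∧ IsPi π s ∧ IsPi πᶜ t ∧
      s ∈ Subgroup.zpowers n ∧ t ∈ Subgroup.zpowers n := by
  obtain ⟨a, b, hab, hcop, ha, hb⟩ := nat_pi_split π (orderOf n) (orderOf_pos n)
  obtain ⟨e, he1, he0⟩ := Nat.chineseRemainder hcop 1 0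
  obtain ⟨e', he0', he1'⟩ := Nat.chineseRemainder hcop 0 1
  refine ⟨n ^ e, n ^ e', ?_, (Commute.refl n).pow_pow _ _, ?_, ?_,
    Subgroup.pow_mem _ (Subgroup.mem_zpowers n) _, Subgroup.pow_mem _ (Subgroup.mem_zpowers n) _⟩
  · rw [← pow_add]
    symm
    apply pow_eq_of_modEq_one (dvd_refl _)
    rw [hab]
    apply (Nat.modEq_and_modEq_iff_modEq_mul hcop).mp
    constructor
    · have := he1.add he0'
      simpa using this
    · have := he0.add he1'
      simpa using this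
  · have hd : orderOf (n ^ e) ∣ a := by
      apply orderOf_dvd_of_pow_eq_one
      rw [← pow_mul]
      apply pow_eq_one_of_modEq_zero (dvd_refl _)
      rw [hab]
      apply (Nat.modEq_and_modEq_iff_modEq_mul hcop).mp
      constructor
      · exact (Nat.modEq_zero_iff_dvd.mpr (dvd_mul_left a e))
      · have := he0.mul_right a
        simpa using this
    intro q hq hqd
    exact ha q hq (hqd.trans hd)
  · have hd : orderOf (n ^ e') ∣ b := by
      apply orderOf_dvd_of_pow_eq_one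
      rw [← pow_mul]
      apply pow_eq_one_of_modEq_zero (dvd_refl _)
      rw [hab]
      apply (Nat.modEq_and_modEq_iff_modEq_mul hcop).mp
      constructor
      · have := he0'.mul_right b
        simpa using this
      · exact (Nat.modEq_zero_iff_dvd.mpr (dvd_mul_left b e'))
    intro q hq hqd
    exact hb q hq (hqd.trans hd)

theorem orderOf_conj' {X : Type*} [Group X] (a x : X) : orderOf (a * x * a⁻¹) = orderOf x := by
  have := MulEquiv.orderOf_eq (MulAut.conj a) x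
  rwa [MulAut.conj_apply] at this

theorem isPi_conj {X : Type*} [Group X] {π : Set ℕ} (a x : X) :
    IsPi π (a * x * a⁻¹) ↔ IsPi π x := by
  unfold IsPi
  rw [orderOf_conj']

theorem classPi_iff {X : Type*} [Group X] (π : Set ℕ) (g : X) :
    (∀ q : ℕ, q.Prime → (∃ g' : X, ConjClasses.mk g' = ConjClasses.mk g ∧ q ∣ orderOf g') → q ∈ π) ↔
      IsPi π g := by
  constructor
  · intro h q hq hd
    exact h q hq ⟨g, rfl, hd⟩
  · rintro h q hq ⟨g', hg', hd⟩
    rw [ConjClasses.mk_eq_mk_iff_isConj, isConj_iff] at hg'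
    obtain ⟨c, hc⟩ := hg'
    rw [← hc, isPi_conj] at h
    exact h q hq hd

theorem card_pairs_eq {X : Type*} [Group X] [Finite X] (π : Set ℕ) :
    Nat.card {pr : X × X // IsPi π pr.1 ∧ Commute pr.1 pr.2} =
      Nat.card {C : ConjClasses X // ∀ q : ℕ, q.Prime →
        (∃ g : X, ConjClasses.mk g = C ∧ q ∣ orderOf g) → q ∈ π} * Nat.card X := by
  classical
  rw [← Nat.card_prod]
  have hrep : ∀ g : X, ∃ u : X, u * (Quotient.out (ConjClasses.mk g)) * u⁻¹ = g := by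
    intro g
    have h1 : ConjClasses.mk (Quotient.out (ConjClasses.mk g)) = ConjClasses.mk g :=
      Quotient.out_eq _
    rw [ConjClasses.mk_eq_mk_iff_isConj, isConj_iff] at h1
    exact h1
  choose u hu using hrep
  have hmk : ∀ (C : ConjClasses X) (w : X), ConjClasses.mk (w * Quotient.out C * w⁻¹) = C := by
    intro C w
    have h1 : ConjClasses.mk (Quotient.out C) = C := Quotient.out_eq _
    rw [← h1, ConjClasses.mk_eq_mk_iff_isConj, isConj_iff]
    exact ⟨w⁻¹, by rw [h1]; group⟩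
  apply Nat.card_congr
  refine ⟨fun x => (⟨ConjClasses.mk x.1.1, (classPi_iff π x.1.1).mpr x.2.1⟩, x.1.2 * u x.1.1),
    fun y => ⟨(y.2 * Quotient.out y.1.1 * y.2⁻¹,
      y.2 * (u (y.2 * Quotient.out y.1.1 * y.2⁻¹))⁻¹), ?_, ?_⟩, ?_, ?_⟩
  · have h1 := hmk y.1.1 y.2
    have h2 := y.1.2
    rw [← h1] at h2
    exact (classPi_iff π _).mp h2
  · have h1 := hmk y.1.1 y.2
    set g := y.2 * Quotient.out y.1.1 * y.2⁻¹ with hg
    have h3 : u g * Quotient.out y.1.1 * (u g)⁻¹ = g := by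
      have := hu g
      rwa [h1] at this
    show g * (y.2 * (u g)⁻¹) = y.2 * (u g)⁻¹ * g
    have e0 : (u g)⁻¹ * g = Quotient.out y.1.1 * (u g)⁻¹ := by
      calc (u g)⁻¹ * g = (u g)⁻¹ * (u g * Quotient.out y.1.1 * (u g)⁻¹) := by rw [h3]
        _ = Quotient.out y.1.1 * (u g)⁻¹ := by group
    have e1 : y.2 * (u g)⁻¹ * g = y.2 * Quotient.out y.1.1 * (u g)⁻¹ := by
      rw [mul_assoc, e0, mul_assoc]
    rw [e1]
    have e2 : g * (y.2 * (u g)⁻¹) = y.2 * Quotient.out y.1.1 * y.2⁻¹ * (y.2 * (u g)⁻¹) := by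
      rw [← hg]
    rw [e2]; group
  · rintro ⟨⟨g, c⟩, hπ, hc⟩
    have e1 : c * u g * Quotient.out (ConjClasses.mk g) * (c * u g)⁻¹ = g := by
      calc c * u g * Quotient.out (ConjClasses.mk g) * (c * u g)⁻¹
          = c * (u g * Quotient.out (ConjClasses.mk g) * (u g)⁻¹) * c⁻¹ := by group
        _ = c * g * c⁻¹ := by rw [hu]
        _ = g := by rw [← hc.eq, mul_inv_cancel_right]
    apply Subtype.ext
    apply Prod.ext
    · exact e1
    · show c * u g * (u (c * u g * Quotient.out (ConjClasses.mk g) * (c * u g)⁻¹))⁻¹ = c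
      rw [e1]; group
  · rintro ⟨⟨C, hC⟩, w⟩
    apply Prod.ext
    · apply Subtype.ext
      exact hmk C w
    · show w * (u (w * Quotient.out C * w⁻¹))⁻¹ * u (w * Quotient.out C * w⁻¹) = w
      group


theorem card_le_mul_of_fibers_le {α β : Type*} [Finite α] [Finite β] (f : α → β) (c : ℕ)
    (h : ∀ b, Nat.card {a // f a = b} ≤ c) : Nat.card α ≤ c * Nat.card β := by
  classical
  haveI := Fintype.ofFinite β
  rw [← Nat.card_congr (Equiv.sigmaFiberEquiv f), Nat.card_sigma]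
  calc ∑ b, Nat.card {a // f a = b} ≤ ∑ _b : β, c := Finset.sum_le_sum (fun b _ => h b)
    _ = c * Nat.card β := by simp [mul_comm]

theorem isPi_map {X Y : Type*} [Group X] [Group Y] [Finite X] {π : Set ℕ} (f : X →* Y) {x : X}
    (hx : IsPi π x) : IsPi π (f x) := by
  intro q hq hd
  exact hx q hq (hd.trans (orderOf_map_dvd f x))

theorem isPi_of_mem_zpowers {X : Type*} [Group X] {π : Set ℕ} {x y : X} (hx : IsPi π x)
    (hy : y ∈ Subgroup.zpowers x) : IsPi π y := by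
  intro q hq hd
  exact hx q hq (hd.trans (orderOf_dvd_of_mem_zpowers hy))

theorem commute_of_mem_zpowers {X : Type*} [Group X] {g n y : X} (h : Commute g n)
    (hy : y ∈ Subgroup.zpowers n) : Commute g y := by
  obtain ⟨k, rfl⟩ := hy
  exact h.zpow_right k

theorem fiber_le {G : Type*} [Group G] [Finite G] (N : Subgroup G) [N.Normal] (π : Set ℕ)
    (a b : G ⧸ N) :
    Set.ncard {x : G × G | (QuotientGroup.mk' N) x.1 = a ∧ (QuotientGroup.mk' N) x.2 = b ∧
      IsPi π x.1 ∧ Commute x.1 x.2} ≤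
    Set.ncard {x : G × G | x.1 ∈ N ∧ x.2 ∈ N ∧ IsPi π x.1 ∧ Commute x.1 x.2} := by
  classical
  set ρ := QuotientGroup.mk' N with hρ
  have hker : ∀ x : G, ρ x = 1 ↔ x ∈ N := by
    intro x
    rw [← MonoidHom.mem_ker, QuotientGroup.ker_mk']
  have hc0 : ∀ g : G, (∃ c : G, ρ c = b ∧ Commute g c) → ∃ c : G, ρ c = b ∧ Commute g c :=
    fun g h => h
  choose! c0 hc0 using hc0
  have hy0 : ∀ s : G, (∃ y : G, ρ y = a ∧ Commute y s) → ∃ y : G, ρ y = a ∧ Commute y s :=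
    fun s h => h
  choose! y0 hy0 using hy0
  choose sπ tπ hdec using (fun n : G => pi_decomp π n)
  apply Set.ncard_le_ncard_of_injOn
    (fun x : G × G => (sπ ((c0 x.1)⁻¹ * x.2),
      (y0 (sπ ((c0 x.1)⁻¹ * x.2)))⁻¹ * (x.1 * tπ ((c0 x.1)⁻¹ * x.2))))
  · rintro ⟨g, c⟩ ⟨hga, hcb, hgπ, hgc⟩
    simp only at hga hcb hgπ hgc
    obtain ⟨h1, h2⟩ := hc0 g ⟨c, hcb, hgc⟩
    set n := (c0 g)⁻¹ * c with hn
    have hnN : n ∈ N := by
      rw [← hker, hn, map_mul, map_inv, h1, hcb, inv_mul_cancel]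
    have hgn : Commute g n := (h2.inv_right).mul_right hgc
    obtain ⟨hst, hcst, hsπ, htπ, hsz, htz⟩ := hdec n
    have hsN : sπ n ∈ N := by
      obtain ⟨k, hk⟩ := hsz
      rw [← hk]; exact N.zpow_mem hnN k
    have htN : tπ n ∈ N := by
      obtain ⟨k, hk⟩ := htz
      rw [← hk]; exact N.zpow_mem hnN k
    have hya : ρ (g * tπ n) = a := by
      rw [map_mul, (hker _).mpr htN, mul_one, hga]
    have hys : Commute (g * tπ n) (sπ n) :=
      (commute_of_mem_zpowers hgn hsz).mul_left hcst.symm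
    obtain ⟨h3, h4⟩ := hy0 (sπ n) ⟨g * tπ n, hya, hys⟩
    refine ⟨hsN, ?_, hsπ, ?_⟩
    · show (y0 (sπ n))⁻¹ * (g * tπ n) ∈ N
      rw [← hker, map_mul, map_inv, h3, hya, inv_mul_cancel]
    · show Commute (sπ n) ((y0 (sπ n))⁻¹ * (g * tπ n))
      exact (h4.symm.inv_right).mul_right hys.symm
  · rintro ⟨g, c⟩ ⟨hga, hcb, hgπ, hgc⟩ ⟨g', c'⟩ ⟨hga', hcb', hgπ', hgc'⟩ heq
    simp only at hga hcb hgπ hgc hga' hcb' hgπ' hgc'
    simp only [Prod.mk.injEq] at heq
    obtain ⟨hs, hz⟩ := heq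
    obtain ⟨h1, h2⟩ := hc0 g ⟨c, hcb, hgc⟩
    obtain ⟨h1', h2'⟩ := hc0 g' ⟨c', hcb', hgc'⟩
    set n := (c0 g)⁻¹ * c with hn
    set n' := (c0 g')⁻¹ * c' with hn'
    have hgn : Commute g n := (h2.inv_right).mul_right hgc
    have hgn' : Commute g' n' := (h2'.inv_right).mul_right hgc'
    obtain ⟨hst, hcst, hsπ, htπ, hsz, htz⟩ := hdec n
    obtain ⟨hst', hcst', hsπ', htπ', hsz', htz'⟩ := hdec n'
    rw [hs] at hz
    have hy : g * tπ n = g' * tπ n' := mul_left_cancel hz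
    have hu := pi_unique hy (commute_of_mem_zpowers hgn htz) (commute_of_mem_zpowers hgn' htz')
      hgπ htπ hgπ' htπ'
    have hnn : n = n' := by rw [hst, hst', hs, hu.2]
    have hgg : g = g' := hu.1
    apply Prod.ext
    · exact hgg
    · show c = c'
      have : c = c0 g * n := by rw [hn]; group
      rw [this, hnn, hgg, hn']; group

theorem card_TN {G : Type*} [Group G] [Finite G] (N : Subgroup G) (π : Set ℕ) :
    Set.ncard {x : G × G | x.1 ∈ N ∧ x.2 ∈ N ∧ IsPi π x.1 ∧ Commute x.1 x.2} =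
      Nat.card {pr : N × N // IsPi π pr.1 ∧ Commute pr.1 pr.2} := by
  rw [← Nat.card_coe_set_eq]
  apply Nat.card_congr
  refine ⟨fun x => ⟨(⟨x.1.1, x.2.1⟩, ⟨x.1.2, x.2.2.1⟩), ?_, ?_⟩,
    fun y => ⟨(y.1.1.1, y.1.2.1), y.1.1.2, y.1.2.2, ?_, ?_⟩, ?_, ?_⟩
  · intro q hq hd
    rw [Subgroup.orderOf_mk] at hd
    exact x.2.2.2.1 q hq hd
  · have := x.2.2.2.2
    exact Subtype.ext this
  · intro q hq hd
    have hd' : q ∣ orderOf ((y.1.1 : N) : G) := hd
    rw [Subgroup.orderOf_coe] at hd'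
    exact y.2.1 q hq hd'
  · have := y.2.2
    exact congrArg Subtype.val this
  · intro x; rfl
  · intro y; rfl

theorem result {G : Type*} [Group G] [Finite G] (N : Subgroup G) [N.Normal] (π : Set ℕ) :
    Nat.card {C : ConjClasses G // ∀ q : ℕ, q.Prime → (∃ g : G, ConjClasses.mk g = C ∧ q ∣ orderOf g) → q ∈ π} ≤ Nat.card {C : ConjClasses N // ∀ q : ℕ, q.Prime → (∃ g : N, ConjClasses.mk g = C ∧ q ∣ orderOf g) → q ∈ π} * Nat.card {C : ConjClasses (G ⧸ N) // ∀ q : ℕ, q.Prime → (∃ g : (G ⧸ N), ConjClasses.mk g = C ∧ q ∣ orderOf g) → q ∈ π} := by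
  have hG := card_pairs_eq (X := G) π
  have hN := card_pairs_eq (X := N) π
  have hQ := card_pairs_eq (X := G ⧸ N) π
  have hmain : Nat.card {pr : G × G // IsPi π pr.1 ∧ Commute pr.1 pr.2} ≤
      Nat.card {pr : N × N // IsPi π pr.1 ∧ Commute pr.1 pr.2} *
        Nat.card {pr : (G ⧸ N) × (G ⧸ N) // IsPi π pr.1 ∧ Commute pr.1 pr.2} := by
    apply card_le_mul_of_fibers_le
      (fun x : {pr : G × G // IsPi π pr.1 ∧ Commute pr.1 pr.2} =>
        (⟨((QuotientGroup.mk' N) x.1.1, (QuotientGroup.mk' N) x.1.2),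
          isPi_map _ x.2.1, x.2.2.map (QuotientGroup.mk' N)⟩ :
          {pr : (G ⧸ N) × (G ⧸ N) // IsPi π pr.1 ∧ Commute pr.1 pr.2}))
    rintro ⟨⟨a, b⟩, hab⟩
    rw [← card_TN N π]
    refine le_trans (le_of_eq ?_) (fiber_le N π a b)
    rw [← Nat.card_coe_set_eq]
    apply Nat.card_congr
    refine ⟨fun x => ⟨x.1.1, ?_, ?_, x.1.2.1, x.1.2.2⟩,
      fun y => ⟨⟨y.1, y.2.2.2.1, y.2.2.2.2⟩, ?_⟩, ?_, ?_⟩
    · have := congrArg (fun z => z.1.1) x.2
      exact this
    · have := congrArg (fun z => z.1.2) x.2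
      exact this
    · apply Subtype.ext
      apply Prod.ext
      · exact y.2.1
      · exact y.2.2.1
    · intro x; rfl
    · intro y; rfl
  rw [hG, hN, hQ] at hmain
  have hcard : Nat.card G = Nat.card N * Nat.card (G ⧸ N) := by
    rw [mul_comm]; exact Subgroup.card_eq_card_quotient_mul_card_subgroup N
  have hpos : 0 < Nat.card G := Nat.card_pos
  have h2 : Nat.card {C : ConjClasses G // ∀ q : ℕ, q.Prime → (∃ g : G, ConjClasses.mk g = C ∧ q ∣ orderOf g) → q ∈ π} * Nat.card G ≤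
      (Nat.card {C : ConjClasses N // ∀ q : ℕ, q.Prime → (∃ g : N, ConjClasses.mk g = C ∧ q ∣ orderOf g) → q ∈ π} * Nat.card {C : ConjClasses (G ⧸ N) // ∀ q : ℕ, q.Prime → (∃ g : (G ⧸ N), ConjClasses.mk g = C ∧ q ∣ orderOf g) → q ∈ π}) * Nat.card G := by
    calc _ ≤ _ := hmain
      _ = _ := by rw [hcard]; ring
  exact Nat.le_of_mul_le_mul_right h2 hpos

end Cfsg.Agent.S4152
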