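import Cfsg.Statements.S4154
import Mathlib

set_option autoImplicit false
open Cfsg

namespace Cfsg.Agent.S4154

/-- the subgroup of fixed points of an automorphism -/
def fixedSub {G : Type*} [Group G] (α : MulAut G) : Subgroup G where
  carrier := {c | α c = c}
  mul_mem' := by
    intro a b ha hb
    simp only [Set.mem_setOf_eq] at ha hb ⊢
    rw [map_mul, ha, hb]
  one_mem' := by simp
  inv_mem' := by
    intro a ha
    simp only [Set.mem_setOf_eq] at ha ⊢
    rw [map_inv, ha]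

/-- the preimage of the fixed points of the induced automorphism on `G ⧸ N` -/
def fixedModSub {G : Type*} [Group G] (α : MulAut G) (N : Subgroup G) [N.Normal]
    (hN : ∀ n ∈ N, α n ∈ N) : Subgroup G where
  carrier := {x | x⁻¹ * α x ∈ N}
  mul_mem' := by
    intro a b ha hb
    simp only [Set.mem_setOf_eq] at ha hb ⊢
    have h1 : (a * b)⁻¹ * α (a * b) = b⁻¹ * (a⁻¹ * α a) * b * (b⁻¹ * α b) := by
      rw [map_mul]; group
    rw [h1]
    refine N.mul_mem ?_ hb
    have := ‹N.Normal›.conj_mem _ ha b⁻¹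
    simpa using this
  one_mem' := by simp
  inv_mem' := by
    intro a ha
    simp only [Set.mem_setOf_eq] at ha ⊢
    have h1 : (a⁻¹)⁻¹ * α a⁻¹ = a * (a⁻¹ * α a)⁻¹ * a⁻¹ := by
      rw [map_inv]; group
    rw [h1]
    exact ‹N.Normal›.conj_mem _ (N.inv_mem ha) a

theorem result {G : Type*} [Group G] [Finite G] (α : MulAut G)
    (hccp : ∀ x : G, ∃ c g : G, α c = c ∧ x = c * (g⁻¹ * α g))
    (N : Subgroup G) [N.Normal] (hN : ∀ n ∈ N, α n ∈ N) :
    (∀ x : G, ∃ c g : G, c⁻¹ * α c ∈ N ∧ x⁻¹ * (c * (g⁻¹ * α g)) ∈ N) ∧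
    (∀ x : G, x⁻¹ * α x ∈ N → ∃ c : G, α c = c ∧ c⁻¹ * x ∈ N) := by
  constructor
  · intro x
    obtain ⟨c, g, hc, hx⟩ := hccp x
    refine ⟨c, g, ?_, ?_⟩
    · rw [hc, inv_mul_cancel]; exact N.one_mem
    · rw [← hx, inv_mul_cancel]; exact N.one_mem
  · set C := fixedSub α with hC
    set D := fixedModSub α N hN with hD
    set E := C ⊔ N with hE
    have hED : E ≤ D := by
      rw [hE]
      apply sup_le
      · intro c hc
        have hc' : α c = c := hc
        show c⁻¹ * α c ∈ N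
        rw [hc', inv_mul_cancel]; exact N.one_mem
      · intro n hn
        show n⁻¹ * α n ∈ N
        exact N.mul_mem (N.inv_mem hn) (hN n hn)
    -- the key surjection
    let κ : G → G := fun g => g⁻¹ * α g
    let Φ : (G ⧸ D) × E → G := fun t => (t.2 : G) * κ ((t.1.out)⁻¹)
    have hΦ : Function.Surjective Φ := by
      intro x
      obtain ⟨c, g, hc, hx⟩ := hccp x
      obtain ⟨d, hd⟩ := QuotientGroup.mk_out_eq_mul D g⁻¹
      set q : G ⧸ D := QuotientGroup.mk g⁻¹ with hq
      -- g = d * (q.out)⁻¹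
      have hg : g = (d : G) * (q.out)⁻¹ := by
        rw [hd]; group
      have hdD : (d : G)⁻¹ * α (d : G) ∈ N := d.2
      have hκ : κ g = ((q.out) * ((d : G)⁻¹ * α (d : G)) * (q.out)⁻¹) * κ ((q.out)⁻¹) := by
        simp only [κ]
        conv_lhs => rw [hg]
        rw [map_mul, map_inv]
        group
      have hn : (q.out) * ((d : G)⁻¹ * α (d : G)) * (q.out)⁻¹ ∈ N :=
        ‹N.Normal›.conj_mem _ hdD _
      have hcE : c * ((q.out) * ((d : G)⁻¹ * α (d : G)) * (q.out)⁻¹) ∈ E := by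
        rw [hE]
        exact Subgroup.mul_mem_sup hc hn
      refine ⟨(q, ⟨_, hcE⟩), ?_⟩
      simp only [Φ]
      rw [hx]
      show c * (q.out * ((d : G)⁻¹ * α (d : G)) * (q.out)⁻¹) * κ (q.out)⁻¹ = c * κ g
      rw [hκ, mul_assoc]
    have hcard1 : Nat.card G ≤ Nat.card (G ⧸ D) * Nat.card E := by
      rw [← Nat.card_prod]
      exact Nat.card_le_card_of_surjective Φ hΦ
    have hcard2 : Nat.card G = Nat.card (G ⧸ D) * Nat.card D :=
      (Subgroup.index_mul_card D).symm
    have hDE : Nat.card D ≤ Nat.card E := by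
      rw [hcard2] at hcard1
      have hpos : 0 < Nat.card (G ⧸ D) := Nat.card_pos
      exact Nat.le_of_mul_le_mul_left hcard1 hpos
    have hEeq : E = D := Subgroup.eq_of_le_of_card_ge hED hDE
    intro x hx
    have hxD : x ∈ D := hx
    rw [← hEeq, hE] at hxD
    rw [← SetLike.mem_coe, Subgroup.mul_normal] at hxD
    obtain ⟨c, hc, n, hn, rfl⟩ := hxD
    refine ⟨c, hc, ?_⟩
    rw [inv_mul_cancel_left]
    exact hn

end Cfsg.Agent.S4154
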