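import Cfsg.Statements.S4156
import Mathlib

set_option autoImplicit false
open Cfsg

namespace Cfsg.Agent.S4156

section
variable {F : Type*} [Field F] {n : ℕ}

def ext : (Fin n → F) →ₗ[F] (Fin (n + 1) → F) where
  toFun u := fun k => Fin.lastCases (-∑ i, u i) (fun j => u j) k
  map_add' := by
    intro u v
    funext k
    refine Fin.lastCases ?_ (fun j => ?_) k
    · simp [Finset.sum_add_distrib]; ring
    · simp
  map_smul' := by
    intro c u
    funext k
    refine Fin.lastCases ?_ (fun j => ?_) k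
    · simp [Finset.mul_sum]
    · simp

theorem ext_castSucc (u : Fin n → F) (j : Fin n) : ext u (Fin.castSucc j) = u j := by
  simp [ext]

theorem ext_last (u : Fin n → F) : ext u (Fin.last n) = -∑ i, u i := by
  simp [ext]

theorem sum_ext (u : Fin n → F) : ∑ k, ext u k = 0 := by
  rw [Fin.sum_univ_castSucc]
  simp only [ext_castSucc, ext_last]
  ring

def T (σ : Equiv.Perm (Fin (n + 1))) : (Fin n → F) →ₗ[F] (Fin n → F) :=
  (LinearMap.funLeft F F (fun j : Fin n => σ.symm (Fin.castSucc j))) ∘ₗ ext

theorem T_apply (σ : Equiv.Perm (Fin (n + 1))) (u : Fin n → F) (j : Fin n) :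
    T σ u j = ext u (σ.symm (Fin.castSucc j)) := rfl

theorem ext_T (σ : Equiv.Perm (Fin (n + 1))) (u : Fin n → F) (k : Fin (n + 1)) :
    ext (T σ u) k = ext u (σ.symm k) := by
  refine Fin.lastCases ?_ (fun j => ?_) k
  · rw [ext_last]
    have h1 : ∑ k, ext u (σ.symm k) = 0 := by
      rw [Equiv.sum_comp σ.symm (ext u)]
      exact sum_ext u
    rw [Fin.sum_univ_castSucc] at h1
    have h2 : ∑ i, T σ u i = ∑ i : Fin n, ext u (σ.symm (Fin.castSucc i)) := rfl
    rw [h2]
    linear_combination (-1 : F) * h1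
  · rw [ext_castSucc, T_apply]

theorem T_mul (σ τ : Equiv.Perm (Fin (n + 1))) : (T (σ * τ) : (Fin n → F) →ₗ[F] (Fin n → F)) = T σ ∘ₗ T τ := by
  apply LinearMap.ext
  intro u
  funext j
  rw [LinearMap.comp_apply, T_apply, T_apply, ext_T]
  rfl

theorem T_one : (T (1 : Equiv.Perm (Fin (n + 1))) : (Fin n → F) →ₗ[F] (Fin n → F)) = LinearMap.id := by
  apply LinearMap.ext
  intro u
  funext j
  rw [T_apply]
  change ext u (Fin.castSucc j) = u j
  exact ext_castSucc u j

def rho (F : Type*) [Field F] (n : ℕ) : Equiv.Perm (Fin (n + 1)) →* Matrix (Fin n) (Fin n) F where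
  toFun σ := LinearMap.toMatrix' (T σ)
  map_one' := by rw [T_one, LinearMap.toMatrix'_id]
  map_mul' := by
    intro σ τ
    rw [T_mul, LinearMap.toMatrix'_comp]

end

/-- Let n ≥ 5 and F a finite field. Then the projective special linear group PSL_n(F) contains a subgroup isomorphic to the alternating group of degree n + 1. -/
theorem result (n : ℕ) (hn : 5 ≤ n) (F : Type*) [Field F] [Finite F] :
    ∃ f : alternatingGroup (Fin (n + 1)) →* Matrix.ProjectiveSpecialLinearGroup (Fin n) F, Function.Injective f := by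
  classical
  have h5 : 5 ≤ Nat.card (Fin (n + 1)) := by
    rw [Nat.card_eq_fintype_card, Fintype.card_fin]; omega
  have hsimple : IsSimpleGroup (alternatingGroup (Fin (n + 1))) := alternatingGroup.isSimpleGroup h5
  have hcomm : commutator (alternatingGroup (Fin (n + 1))) = ⊤ := commutator_alternatingGroup_eq_top h5
  let ρA : alternatingGroup (Fin (n + 1)) →* Matrix (Fin n) (Fin n) F :=
    (rho F n).comp (alternatingGroup (Fin (n + 1))).subtype
  have hdet : ∀ σ : alternatingGroup (Fin (n + 1)), Matrix.det (ρA σ) = 1 := by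
    intro σ
    let d : alternatingGroup (Fin (n + 1)) →* Fˣ := Matrix.GeneralLinearGroup.det.comp ρA.toHomUnits
    have h1 : σ ∈ d.ker := by
      have := Abelianization.commutator_subset_ker d
      rw [hcomm] at this
      exact this (Subgroup.mem_top σ)
    rw [MonoidHom.mem_ker] at h1
    have h2 : ((d σ : Fˣ) : F) = 1 := by rw [h1]; rfl
    have h3 : ((d σ : Fˣ) : F) = Matrix.det (ρA σ) := by
      simp only [d, MonoidHom.comp_apply, Matrix.GeneralLinearGroup.val_det_apply,
        MonoidHom.coe_toHomUnits]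
    rw [← h3, h2]
  let φ : alternatingGroup (Fin (n + 1)) →* Matrix.SpecialLinearGroup (Fin n) F :=
    MonoidHom.mk' (fun σ => (⟨ρA σ, hdet σ⟩ : Matrix.SpecialLinearGroup (Fin n) F)) (by
      intro a b
      apply Subtype.ext
      show ρA (a * b) = ρA a * ρA b
      exact map_mul ρA a b)
  refine ⟨(QuotientGroup.mk' _).comp φ, ?_⟩
  rw [← MonoidHom.ker_eq_bot_iff]
  rcases ((QuotientGroup.mk' (Subgroup.center (Matrix.SpecialLinearGroup (Fin n) F))).comp φ).normal_ker.eq_bot_or_eq_top
    with h | h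
  · exact h
  · exfalso
    let a : Fin (n + 1) := ⟨0, by omega⟩
    let b : Fin (n + 1) := ⟨1, by omega⟩
    let c : Fin (n + 1) := ⟨2, by omega⟩
    let a' : Fin n := ⟨0, by omega⟩
    let b' : Fin n := ⟨1, by omega⟩
    have hab : a ≠ b := by simp [a, b, Fin.ext_iff]
    have hac : a ≠ c := by simp [a, c, Fin.ext_iff]
    have hbc : b ≠ c := by simp [b, c, Fin.ext_iff]
    have hmem : Equiv.swap a b * Equiv.swap b c ∈ alternatingGroup (Fin (n + 1)) := by
      rw [Equiv.Perm.mem_alternatingGroup, map_mul, Equiv.Perm.sign_swap hab, Equiv.Perm.sign_swap hbc]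
      rfl
    set g : alternatingGroup (Fin (n + 1)) := ⟨Equiv.swap a b * Equiv.swap b c, hmem⟩ with hg
    have h1 : g ∈ ((QuotientGroup.mk' (Subgroup.center (Matrix.SpecialLinearGroup (Fin n) F))).comp φ).ker := by
      rw [h]; exact Subgroup.mem_top _
    rw [MonoidHom.mem_ker, MonoidHom.comp_apply, QuotientGroup.mk'_apply, QuotientGroup.eq_one_iff] at h1
    obtain ⟨r, -, hr⟩ := Matrix.SpecialLinearGroup.mem_center_iff.1 h1
    have h2 : (Matrix.scalar (Fin n) r) b' a' = (ρA g) b' a' := by
      rw [hr]; rfl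
    have hne : b' ≠ a' := by simp [a', b', Fin.ext_iff]
    have h3 : (Matrix.scalar (Fin n) r) b' a' = 0 := by
      simp [Matrix.scalar_apply, Matrix.diagonal_apply_ne _ hne]
    have h4 : (ρA g) b' a' = 1 := by
      show LinearMap.toMatrix' (T (Equiv.swap a b * Equiv.swap b c)) b' a' = 1
      rw [LinearMap.toMatrix'_apply, T_apply]
      have h5 : (Equiv.swap a b * Equiv.swap b c).symm (Fin.castSucc b') = Fin.castSucc a' := by
        rw [Equiv.symm_apply_eq]
        show Fin.castSucc b' = Equiv.swap a b (Equiv.swap b c (Fin.castSucc a'))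
        have e1 : Fin.castSucc a' = a := rfl
        have e2 : Fin.castSucc b' = b := rfl
        rw [e1, e2, Equiv.swap_apply_of_ne_of_ne hab hac, Equiv.swap_apply_left]
      rw [h5, ext_castSucc]
      simp
    rw [h3, h4] at h2
    exact zero_ne_one h2

end Cfsg.Agent.S4156
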