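import Cfsg.Statements.S4160
import Cfsg.Agent.Lib.Helper22.Sylow
import Cfsg.Agent.Lib.Helper22.Burnside
import Cfsg.Agent.Lib.Helper22.Cover

set_option autoImplicit false
open Cfsg

namespace Cfsg.Agent.S4160

open Cfsg.Agent.Lib.Helper22

theorem conj_mem_centralizer_sylow {G : Type*} [Group G] [Finite G] (p : ℕ) [Fact p.Prime]
    (P : Sylow p G) (x : G) (hx : ¬ p ∣ (Subgroup.centralizer ({x} : Set G)).index) :
    ∃ g : G, g⁻¹ * x * g ∈ Subgroup.centralizer ((P : Subgroup G) : Set G) := by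
  obtain ⟨R, hR, -⟩ := exists_sylow_le_of_pelement p (Subgroup.centralizer ({x} : Set G)) hx 1
    (Subgroup.one_mem _) 0 (by simp)
  obtain ⟨g, hg⟩ := MulAction.exists_smul_eq G P R
  refine ⟨g, ?_⟩
  rw [Subgroup.mem_centralizer_iff]
  intro y hy
  have h1 : g * y * g⁻¹ ∈ (R : Subgroup G) := by
    rw [← hg, mem_smul_sylow_iff]
    have : g⁻¹ * (g * y * g⁻¹) * g = y := by group
    rw [this]; exact hy
  have h2 := Subgroup.mem_centralizer_singleton_iff.1 (hR h1)
  calc y * (g⁻¹ * x * g) = g⁻¹ * ((g * y * g⁻¹) * x) * g := by group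
    _ = g⁻¹ * (x * (g * y * g⁻¹)) * g := by rw [h2]
    _ = g⁻¹ * x * g * y := by group

theorem normalizer_conj_centralizer {G : Type*} [Group G] (P : Subgroup G) :
    ∀ m ∈ Subgroup.normalizer (P : Set G), ∀ k ∈ Subgroup.centralizer (P : Set G),
      m * k * m⁻¹ ∈ Subgroup.centralizer (P : Set G) := by
  intro m hm k hk
  rw [Subgroup.mem_centralizer_iff] at hk ⊢
  intro y hy
  have hy' : m⁻¹ * y * m ∈ P := by
    have := (Subgroup.mem_normalizer_iff.1 (Subgroup.inv_mem _ hm) y).1 hy
    simpa using this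
  have h1 := hk _ hy'
  calc y * (m * k * m⁻¹) = m * ((m⁻¹ * y * m) * k) * m⁻¹ := by group
    _ = m * (k * (m⁻¹ * y * m)) * m⁻¹ := by rw [h1]
    _ = m * k * m⁻¹ * y := by group

theorem two_mul_le_of_ne {G : Type*} [Group G] [Finite G] (K M : Subgroup G) (hKM : K ≤ M)
    (hne : ¬ M ≤ K) : 2 * (M.index * Nat.card K) ≤ Nat.card G := by
  have h1 : Nat.card K * K.relIndex M = Nat.card M := by
    have h1 : (⊥ : Subgroup G).relIndex K * K.relIndex M = (⊥ : Subgroup G).relIndex M :=
      Subgroup.relIndex_mul_relIndex ⊥ K M bot_le hKM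
    simpa [Subgroup.relIndex_bot_left] using h1
  have h2 : K.relIndex M ≠ 1 := fun h => hne (Subgroup.relIndex_eq_one.1 h)
  have h3 : K.relIndex M ≠ 0 := by
    intro h
    rw [h, mul_zero] at h1
    exact Nat.card_pos.ne' h1.symm
  have h4 : 2 ≤ K.relIndex M := by omega
  have h5 : M.index * Nat.card M = Nat.card G := Subgroup.index_mul_card M
  calc 2 * (M.index * Nat.card K) = M.index * (Nat.card K * 2) := by ring
    _ ≤ M.index * (Nat.card K * K.relIndex M) := by
        exact Nat.mul_le_mul_left _ (Nat.mul_le_mul_left _ h4)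
    _ = Nat.card G := by rw [h1, h5]

/-- Let G be a finite group and p ≠ q primes each dividing the size of some conjugacy class of G, such that no conjugacy class size is divisible by pq. Then G has a normal p-complement or a normal q-complement. -/
theorem result {G : Type*} [Group G] [Finite G] (p q : ℕ) (hp : p.Prime) (hq : q.Prime) (hpq : p ≠ q)
    (hp' : ∃ x : G, p ∣ (Subgroup.centralizer ({x} : Set G)).index) (hq' : ∃ x : G, q ∣ (Subgroup.centralizer ({x} : Set G)).index) (h : ∀ x : G, ¬ p * q ∣ (Subgroup.centralizer ({x} : Set G)).index) :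
    Cfsg.HasNormalPComplement p G ∨ Cfsg.HasNormalPComplement q G := by
  have : Fact p.Prime := ⟨hp⟩
  have : Fact q.Prime := ⟨hq⟩
  obtain ⟨P⟩ : Nonempty (Sylow p G) := inferInstance
  obtain ⟨Q⟩ : Nonempty (Sylow q G) := inferInstance
  by_cases hP : Subgroup.normalizer ((P : Subgroup G) : Set G) ≤ Subgroup.centralizer ((P : Subgroup G) : Set G)
  · left
    obtain ⟨K, hKn, hKc, -⟩ := burnside_type p P hP
    exact ⟨P, K, hKn, hKc⟩
  by_cases hQ : Subgroup.normalizer ((Q : Subgroup G) : Set G) ≤ Subgroup.centralizer ((Q : Subgroup G) : Set G)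
  · right
    obtain ⟨K, hKn, hKc, -⟩ := burnside_type q Q hQ
    exact ⟨Q, K, hKn, hKc⟩
  exfalso
  have hcov : ∀ x : G, ∃ g : G, g⁻¹ * x * g ∈ Subgroup.centralizer ((P : Subgroup G) : Set G) ∨
      g⁻¹ * x * g ∈ Subgroup.centralizer ((Q : Subgroup G) : Set G) := by
    intro x
    by_cases h1 : p ∣ (Subgroup.centralizer ({x} : Set G)).index
    · have h2 : ¬ q ∣ (Subgroup.centralizer ({x} : Set G)).index := by
        intro h2
        apply h x
        exact Nat.Coprime.mul_dvd_of_dvd_of_dvd ((Nat.coprime_primes hp hq).2 hpq) h1 h2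
      obtain ⟨g, hg⟩ := conj_mem_centralizer_sylow q Q x h2
      exact ⟨g, Or.inr hg⟩
    · obtain ⟨g, hg⟩ := conj_mem_centralizer_sylow p P x h1
      exact ⟨g, Or.inl hg⟩
  have hcount := cover_count _ _ _ _ (normalizer_conj_centralizer (P : Subgroup G))
    (normalizer_conj_centralizer (Q : Subgroup G)) hcov
  have h1 := two_mul_le_of_ne _ _ (Subgroup.centralizer_le_normalizer (s := ((P : Subgroup G) : Set G))) hP
  have h2 := two_mul_le_of_ne _ _ (Subgroup.centralizer_le_normalizer (s := ((Q : Subgroup G) : Set G))) hQ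
  have h3 : (Subgroup.normalizer ((P : Subgroup G) : Set G)).index ≠ 0 := Subgroup.index_ne_zero_of_finite
  have h4 : (Subgroup.normalizer ((Q : Subgroup G) : Set G)).index ≠ 0 := Subgroup.index_ne_zero_of_finite
  omega

end Cfsg.Agent.S4160
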