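import Cfsg.Statements.S4168
import Mathlib

set_option autoImplicit false
open Cfsg

namespace Cfsg.Agent.S4168

theorem result {L : Type*} [Group L] [Finite L] (hL : Cfsg.IsQuasisimple L)
    (p : ℕ) (hp : p.Prime) (hdiv : p ∣ Nat.card (Subgroup.center L)) : p ∣ (Subgroup.center L).index := by
  by_contra hnd
  haveI : Fact p.Prime := ⟨hp⟩
  obtain ⟨hperf, -⟩ := hL
  obtain ⟨P⟩ : Nonempty (Sylow p L) := inferInstance
  -- P ≤ center
  have hPZ : (P : Subgroup L) ≤ Subgroup.center L := by
    intro x hx
    obtain ⟨k, hk⟩ := (IsPGroup.iff_orderOf.1 P.isPGroup') ⟨x, hx⟩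
    rw [Subgroup.orderOf_mk] at hk
    have h1 : orderOf (QuotientGroup.mk' (Subgroup.center L) x) ∣ p ^ k := by
      rw [← hk]; exact orderOf_map_dvd _ x
    have h2 : orderOf (QuotientGroup.mk' (Subgroup.center L) x) ∣ (Subgroup.center L).index :=
      orderOf_dvd_natCard _
    have hcop : (p ^ k).Coprime (Subgroup.center L).index :=
      Nat.Coprime.pow_left _ ((Nat.Prime.coprime_iff_not_dvd hp).2 hnd)
    have h3 : orderOf (QuotientGroup.mk' (Subgroup.center L) x) = 1 :=
      Nat.eq_one_of_dvd_coprimes hcop h1 h2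
    rw [orderOf_eq_one_iff] at h3
    exact (QuotientGroup.eq_one_iff x).1 h3
  have hP : Subgroup.normalizer ((P : Subgroup L) : Set L) ≤
      Subgroup.centralizer ((P : Subgroup L) : Set L) := by
    intro g _
    rw [Subgroup.mem_centralizer_iff]
    intro x hx
    exact (Subgroup.mem_center_iff.1 (hPZ hx) g).symm
  set f := MonoidHom.transferSylow P hP with hf
  have hker : f.ker = ⊤ := by
    rw [eq_top_iff, ← hperf.commutator_eq_top, commutator_def, Subgroup.commutator_le]
    intro a _ b _
    rw [MonoidHom.mem_ker, map_commutatorElement]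
    rw [commutatorElement_eq_one_iff_commute]
    have hb := hPZ (f b).2
    have := Subgroup.mem_center_iff.1 hb (f a)
    apply Subtype.ext
    simpa using this
  have hcompl := MonoidHom.ker_transferSylow_isComplement' P hP
  rw [← hf, hker] at hcompl
  have hcard : Nat.card (P : Subgroup L) = 1 := by
    have := hcompl.card_mul
    rw [Subgroup.card_top] at this
    have hpos : 0 < Nat.card L := Nat.card_pos
    exact Nat.eq_of_mul_eq_mul_left hpos (by rw [mul_one]; exact this)
  have hpP : p ∣ Nat.card (P : Subgroup L) :=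
    P.dvd_card_of_dvd_card (dvd_trans hdiv (Subgroup.card_subgroup_dvd_card _))
  rw [hcard] at hpP
  exact hp.one_lt.ne' (Nat.dvd_one.1 hpP)

end Cfsg.Agent.S4168
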