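import Cfsg.Statements.S4169
import Mathlib
import Cfsg.Agent.S4163
import Cfsg.Agent.Lib.Helper1.Nilp

set_option autoImplicit false
open Cfsg

namespace Cfsg.Agent.S4169

theorem exists_max_normal_abelian {P : Type*} [Group P] [Finite P] :
    ∃ A : Subgroup P, A.Normal ∧ IsMulCommutative A ∧
      ∀ M : Subgroup P, M.Normal → IsMulCommutative M → A ≤ M → M = A := by
  let S := {M : Subgroup P // M.Normal ∧ IsMulCommutative M}
  have hne : Nonempty S := ⟨⟨⊥, inferInstance, inferInstance⟩⟩
  obtain ⟨A, hA⟩ := Finite.exists_max (fun M : S => Nat.card (M : Subgroup P))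
  refine ⟨A.1, A.2.1, A.2.2, ?_⟩
  intro M hMn hMc hAM
  have h1 := hA ⟨M, hMn, hMc⟩
  exact (Subgroup.eq_of_le_of_card_ge hAM h1).symm

/-- Let P be a finite p-group whose conjugacy classes have exactly two sizes (1 and one other value). Then P has nilpotency class at most 3. -/
theorem result {P : Type*} [Group P] [Finite P] {p : ℕ} [Fact p.Prime] (hP : IsPGroup p P)
    (m : ℕ) (hm : 1 < m) (h : ∀ x : P, (Subgroup.centralizer ({x} : Set P)).index = 1 ∨ (Subgroup.centralizer ({x} : Set P)).index = m) :
    upperCentralSeries P 3 = ⊤ := by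
  have hnil : Group.IsNilpotent P := hP.isNilpotent
  obtain ⟨A, hAn, hAc, hmax⟩ := exists_max_normal_abelian (P := P)
  have hCA := Cfsg.Agent.Lib.Helper1.centralizer_eq_self_of_max_abelian_normal A hmax
  have hA' : ∀ a ∈ A, ∀ b ∈ A, a * b = b * a := fun a ha b hb => setLike_mul_comm ha hb
  have hmin : ∀ x : P, 1 < (Subgroup.centralizer ({x} : Set P)).index →
      m ≤ (Subgroup.centralizer ({x} : Set P)).index := by
    intro x hx
    rcases h x with h1 | h1
    · omega
    · exact h1.ge
  have h3 := Cfsg.Agent.S4163.lcs_three_eq_bot A hA' hCA m hmin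
  have htop : Subgroup.closure {x : P | (Subgroup.centralizer ({x} : Set P)).index = 1 ∨
      (Subgroup.centralizer ({x} : Set P)).index = m} = ⊤ := by
    rw [eq_top_iff]
    intro x _
    exact Subgroup.subset_closure (h x)
  rw [htop] at h3
  exact Subgroup.lowerCentralSeries_eq_bot_iff_upperCentralSeries_eq_top.mp h3

end Cfsg.Agent.S4169
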