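import Cfsg.Statements.S4172
import Cfsg.Agent.S1265
import Cfsg.Agent.Lib.Helper13.TwoGenG

set_option autoImplicit false
open Cfsg

namespace Cfsg.Agent.S4172

/-- Let p be a prime and G a finite group with a non-commutative Sylow p-subgroup P whose Frattini subgroup has index p² in P (P is generated by two elements). Suppose G has no nontrivial normal subgroup of order prime to p and the Frattini subgroup of P contains no nontrivial normal subgroup of G. Then the generalized Fitting subgroup F*(G) is the unique minimal normal subgroup of G, the image of P in G/F*(G) is cyclic, and if F*(G) is not commutative then P permutes the components of G transitively by conjugation. -/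
theorem result {G : Type*} [Group G] [Finite G] (p : ℕ) [Fact p.Prime] (P : Sylow p G) (hna : ¬ IsMulCommutative (P : Subgroup G)) (hgen : (frattini ↥(P : Subgroup G)).index = p ^ 2) (hcore : Cfsg.pPrimeCore p G = ⊥) (hfrat : ((frattini ↥(P : Subgroup G)).map (P : Subgroup G).subtype).normalCore = ⊥) [hFn : (Cfsg.generalizedFittingSubgroup G).Normal] :
    (Cfsg.generalizedFittingSubgroup G ≠ ⊥ ∧ ∀ K : Subgroup G, K.Normal → K ≠ ⊥ → Cfsg.generalizedFittingSubgroup G ≤ K) ∧
      IsCyclic ↥((P : Subgroup G).map (QuotientGroup.mk' (Cfsg.generalizedFittingSubgroup G))) ∧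
      (¬ IsMulCommutative (Cfsg.generalizedFittingSubgroup G) → ∀ K L : Subgroup G, Cfsg.IsComponent K → Cfsg.IsComponent L → ∃ x ∈ (P : Subgroup G), L = K.map (MulAut.conj x).toMonoidHom) := by
  have h : Cfsg.Agent.Lib.Helper13.TGHyp P := ⟨hna, hgen, hcore, hfrat⟩
  have hFle : Cfsg.generalizedFittingSubgroup G ≤ Cfsg.Agent.Lib.Helper13.tgMin P :=
    sup_le h.layer_le h.fitting_le
  have hFne : Cfsg.generalizedFittingSubgroup G ≠ ⊥ := by
    intro h0
    have h1 := Cfsg.Agent.S1265.result (G := G)
    rw [h0] at h1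
    have h2 : Subgroup.centralizer (((⊥ : Subgroup G) : Subgroup G) : Set G) = ⊤ := by
      rw [eq_top_iff]
      intro x _
      rw [Subgroup.mem_centralizer_iff]
      intro y hy
      have : y = 1 := by simpa using hy
      rw [this, one_mul, mul_one]
    rw [h2] at h1
    apply hna
    refine ⟨⟨?_⟩⟩
    rintro ⟨a, ha⟩ ⟨b, hb⟩
    have ha1 : a = 1 := by simpa using h1 (Subgroup.mem_top a)
    have hb1 : b = 1 := by simpa using h1 (Subgroup.mem_top b)
    apply Subtype.ext
    change a * b = b * a
    rw [ha1, hb1]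
  refine ⟨⟨hFne, fun K hKn hK => ?_⟩, ?_, ?_⟩
  · haveI := hKn
    exact hFle.trans (h.tgMin_le K hK)
  · obtain ⟨g, hgP, hgen'⟩ := Cfsg.Agent.Lib.Helper13.tg_exists_gen P hgen
      (Cfsg.generalizedFittingSubgroup G)
      (by rw [Subgroup.normalizer_eq_top_iff.2 hFn]; exact le_top)
      (h.lemmaA (Cfsg.generalizedFittingSubgroup G) hFne)
    refine ⟨⟨⟨QuotientGroup.mk' (Cfsg.generalizedFittingSubgroup G) g,
      Subgroup.mem_map_of_mem _ hgP⟩, ?_⟩⟩
    rintro ⟨_, x, hx, rfl⟩
    obtain ⟨n, k, hk, rfl⟩ := hgen' x hx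
    refine ⟨n, Subtype.ext ?_⟩
    have hk1 : QuotientGroup.mk' (Cfsg.generalizedFittingSubgroup G) k = 1 :=
      (QuotientGroup.eq_one_iff k).2 hk
    simp only [Subgroup.coe_zpow, map_mul, map_zpow, hk1, mul_one]
  · intro hnc K L hK hL
    have hF : Cfsg.fittingSubgroup G = ⊥ := by
      by_contra hF0
      apply hnc
      haveI hFitn : (Cfsg.fittingSubgroup G).Normal := Cfsg.Agent.Lib.Helper1.fittingSubgroup_normal
      have h1 : Cfsg.Agent.Lib.Helper13.tgMin P ≤ Cfsg.fittingSubgroup G :=
        h.tgMin_le _ hF0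
      have h2 : Cfsg.generalizedFittingSubgroup G ≤ Cfsg.pCore p G := by
        rw [← Cfsg.Agent.Lib.Helper1.fittingSubgroup_eq_pCore_of_pPrimeCore_eq_bot p hcore]
        exact hFle.trans h1
      obtain ⟨hc, _⟩ := h.pCore_elementary
      refine ⟨⟨?_⟩⟩
      rintro ⟨a, ha⟩ ⟨b, hb⟩
      apply Subtype.ext
      exact hc a (h2 ha) b (h2 hb)
    exact h.transitive hF hK hL

end Cfsg.Agent.S4172
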