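import Cfsg.Statements.S4177
import Mathlib
import Cfsg.Agent.Lib.Helper18.CoprimeIndex

set_option autoImplicit false
open Cfsg

namespace Cfsg.Agent.S4177

open Cfsg.Agent.Lib.Helper18 in
theorem main {k V H : Type*} [Field k] [AddCommGroup V] [Module k V] [Group H] [Finite H]
    (hchar : ¬ ringChar k ∣ Nat.card H) (ρ : Representation k H V) (a : V)
    (hspan : Submodule.span k {u : V | ∃ h : H, ρ h a = u} = ⊤) :
    Module.finrank k ρ.invariants ≤ 1 ∧
    ∀ b : V, (Nat.card {u : V | ∃ h : H, ρ h a = u}).Coprime (Nat.card {u : V | ∃ h : H, ρ h b = u}) → ∀ h : H, ρ h b = b := by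
  classical
  haveI : Fintype H := Fintype.ofFinite H
  have hHne : (Nat.card H : k) ≠ 0 := by
    intro h0
    exact hchar ((ringChar.spec k _).mp h0)
  -- the full sum operator
  set P : V →ₗ[k] V := ∑ h : H, ρ h with hP
  have hPapp : ∀ v, P v = ∑ h : H, ρ h v := by
    intro v; rw [hP, LinearMap.sum_apply]
  have hP_right : ∀ (g : H) (v : V), P (ρ g v) = P v := by
    intro g v
    rw [hPapp, hPapp]
    apply Fintype.sum_equiv (Equiv.mulRight g)
    intro h
    simp [map_mul]
  have hP_left : ∀ (g : H) (v : V), ρ g (P v) = P v := by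
    intro g v
    rw [hPapp, map_sum]
    apply Fintype.sum_equiv (Equiv.mulLeft g)
    intro h
    simp [map_mul]
  have hPinv : ∀ v, P v ∈ ρ.invariants := by
    intro v
    rw [Representation.mem_invariants]
    exact fun g => hP_left g v
  have hP_fixed : ∀ v ∈ ρ.invariants, P v = (Nat.card H : k) • v := by
    intro v hv
    rw [Representation.mem_invariants] at hv
    rw [hPapp, Finset.sum_congr rfl (fun h _ => hv h), Finset.sum_const, Finset.card_univ,
      Nat.card_eq_fintype_card, Nat.cast_smul_eq_nsmul]
  -- general principle: a linear map constant on the orbit of a maps into a line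
  have hline : ∀ (T : V →ₗ[k] V), (∀ g : H, T (ρ g a) = T a) →
      ∀ v : V, T v ∈ Submodule.span k ({T a} : Set V) := by
    intro T hT v
    have hv : v ∈ Submodule.span k {u : V | ∃ h : H, ρ h a = u} := by rw [hspan]; trivial
    induction hv using Submodule.span_induction with
    | mem x hx =>
      obtain ⟨g, rfl⟩ := hx
      rw [hT g]
      exact Submodule.subset_span rfl
    | zero => rw [map_zero]; exact Submodule.zero_mem _
    | add x y _ _ hx hy => rw [map_add]; exact Submodule.add_mem _ hx hy
    | smul c x _ hx => rw [map_smul]; exact Submodule.smul_mem _ c hx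
  have hinv_le : ρ.invariants ≤ Submodule.span k ({P a} : Set V) := by
    intro v hv
    have h1 := hline P (fun g => hP_right g a) v
    rw [hP_fixed v hv] at h1
    have := Submodule.smul_mem _ ((Nat.card H : k)⁻¹) h1
    rwa [smul_smul, inv_mul_cancel₀ hHne, one_smul] at this
  refine ⟨?_, ?_⟩
  · have h1 : Module.finrank k (Submodule.span k ({P a} : Set V)) ≤ 1 := by
      by_cases h0 : P a = 0
      · rw [h0, Submodule.span_zero_singleton, finrank_bot]
        exact Nat.zero_le 1
      · rw [finrank_span_singleton h0]
    exact (Submodule.finrank_mono hinv_le).trans h1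
  · intro b hcop
    -- the action of H on V
    letI : MulAction H V := MulAction.compHom V (ρ : H →* Module.End k V)
    have hsmul : ∀ (h : H) (v : V), h • v = ρ h v := fun _ _ => rfl
    have horb : ∀ v : V, {u : V | ∃ h : H, ρ h v = u} = MulAction.orbit H v := by
      intro v; ext u; rfl
    set A := MulAction.stabilizer H a with hA
    set B := MulAction.stabilizer H b with hB
    have hAi : A.index = Nat.card {u : V | ∃ h : H, ρ h a = u} := by
      rw [hA, MulAction.index_stabilizer, horb, Nat.card_coe_set_eq]
    have hBi : B.index = Nat.card {u : V | ∃ h : H, ρ h b = u} := by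
      rw [hB, MulAction.index_stabilizer, horb, Nat.card_coe_set_eq]
    have hcop' : A.index.Coprime B.index := by rw [hAi, hBi]; exact hcop
    have hBne : (Nat.card B : k) ≠ 0 := by
      intro h0
      exact hchar (dvd_trans ((ringChar.spec k _).mp h0) B.card_subgroup_dvd_card)
    haveI : Fintype B := Fintype.ofFinite B
    set T : V →ₗ[k] V := ∑ l : B, ρ (l : H) with hT
    have hTapp : ∀ v, T v = ∑ l : B, ρ (l : H) v := by
      intro v; rw [hT, LinearMap.sum_apply]
    have hTconst : ∀ g : H, T (ρ g a) = T a := by
      intro g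
      obtain ⟨l0, hl0, a0, ha0, rfl⟩ := exists_mul_of_coprime_index A B hcop' g
      have ha0' : ρ a0 a = a := ha0
      rw [map_mul, Module.End.mul_apply, ha0', hTapp, hTapp]
      apply Fintype.sum_equiv (Equiv.mulRight (⟨l0, hl0⟩ : B))
      intro l
      simp [map_mul]
    have hTb : T b = (Nat.card B : k) • b := by
      rw [hTapp]
      have : ∀ l : B, ρ (l : H) b = b := fun l => l.2
      rw [Finset.sum_congr rfl (fun (l : B) _ => this l), Finset.sum_const, Finset.card_univ,
        Nat.card_eq_fintype_card, Nat.cast_smul_eq_nsmul]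
    -- T a is invariant
    have hTPa : T (P a) = (Nat.card B : k) • P a := by
      rw [hTapp]
      rw [Finset.sum_congr rfl (fun (l : B) _ => hP_left (l : H) a), Finset.sum_const, Finset.card_univ,
        Nat.card_eq_fintype_card, Nat.cast_smul_eq_nsmul]
    have hTPa' : T (P a) = (Nat.card H : k) • T a := by
      rw [hPapp, map_sum, Finset.sum_congr rfl (fun h _ => hTconst h), Finset.sum_const,
        Finset.card_univ, Nat.card_eq_fintype_card, Nat.cast_smul_eq_nsmul]
    have hTa : T a ∈ ρ.invariants := by
      have : T a = (Nat.card H : k)⁻¹ • ((Nat.card B : k) • P a) := by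
        rw [← hTPa, hTPa', smul_smul, inv_mul_cancel₀ hHne, one_smul]
      rw [this]
      exact Submodule.smul_mem _ _ (Submodule.smul_mem _ _ (hPinv a))
    have hb1 := hline T hTconst b
    rw [hTb] at hb1
    have hb2 := Submodule.smul_mem _ ((Nat.card B : k)⁻¹) hb1
    rw [smul_smul, inv_mul_cancel₀ hBne, one_smul] at hb2
    have hb3 : b ∈ ρ.invariants := by
      have hle : Submodule.span k ({T a} : Set V) ≤ ρ.invariants := by
        rw [Submodule.span_le]
        intro x hx
        rw [Set.mem_singleton_iff] at hx
        rw [hx]; exact hTa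
      exact hle hb2
    exact (Representation.mem_invariants ρ b).mp hb3

theorem result {k V H : Type*} [Field k] [AddCommGroup V] [Module k V] [Group H] [Finite H]
    (hchar : ¬ ringChar k ∣ Nat.card H) (ρ : Representation k H V) (a : V)
    (hspan : Submodule.span k {u : V | ∃ h : H, ρ h a = u} = ⊤) :
    Module.finrank k ρ.invariants ≤ 1 ∧
    ∀ b : V, (Nat.card {u : V | ∃ h : H, ρ h a = u}).Coprime (Nat.card {u : V | ∃ h : H, ρ h b = u}) → ∀ h : H, ρ h b = b := by
  exact main hchar ρ a hspan

end Cfsg.Agent.S4177
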