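import Cfsg.Statements.S4178

set_option autoImplicit false
open Cfsg

namespace Cfsg.Agent.S4178


theorem index_le_card_of_fiber {G X : Type*} [Group G] [Finite X] (R : Subgroup G) (f : G → X)
    (hf : ∀ a b, f a = f b → a⁻¹ * b ∈ R) : R.index ≤ Nat.card X := by
  classical
  have hinj : Function.Injective (fun q : G ⧸ R => f q.out) := by
    intro q q' h
    have h1 := hf _ _ h
    have h2 : (QuotientGroup.mk q.out : G ⧸ R) = QuotientGroup.mk q'.out := QuotientGroup.eq.mpr h1
    simpa using h2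
  have := Nat.card_le_card_of_injective _ hinj
  simpa [Subgroup.index] using this

theorem card_nonzero {F M : Type*} [Field F] [Fintype F] [AddCommGroup M] [Module F M] [FiniteDimensional F M] :
    Nat.card {y : M // y ≠ 0} = Fintype.card F ^ Module.finrank F M - 1 := by
  classical
  have : Finite M := Module.finite_of_finite F
  have h1 : Nat.card M = Fintype.card F ^ Module.finrank F M := by
    rw [Module.natCard_eq_pow_finrank (K := F), Nat.card_eq_fintype_card]
  have h2 : Nat.card {y : M // y ≠ 0} = ({(0:M)}ᶜ : Set M).ncard := by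
    rw [← Nat.card_coe_set_eq]; rfl
  rw [h2, Set.ncard_compl, Set.ncard_singleton, h1]

section
variable {F V : Type*} [Field F] [Fintype F] [AddCommGroup V] [Module F V] [FiniteDimensional F V]

theorem inv_apply_apply' (a : V ≃ₗ[F] V) (x : V) : (a⁻¹ : V ≃ₗ[F] V) (a x) = x := by
  have : (a⁻¹ * a) x = x := by rw [inv_mul_cancel]; rfl
  simpa using this

theorem lemmaA (H : Subgroup (V ≃ₗ[F] V)) (W : Submodule F V) (hW : W ≠ ⊥)
    (hinv : ∀ h ∈ H, ∀ w ∈ W, h w ∈ W) :
    (Subgroup.closure {h : ↥H | ∃ v : V, v ≠ 0 ∧ (h : V ≃ₗ[F] V) v = v}).index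
      ≤ Fintype.card F ^ Module.finrank F W - 1 := by
  classical
  obtain ⟨w, hwW, hw0⟩ := (Submodule.ne_bot_iff W).mp hW
  have : Finite V := Module.finite_of_finite F
  rw [← card_nonzero (F := F) (M := W)]
  have hne : ∀ h : ↥H, (⟨(h : V ≃ₗ[F] V) w, hinv h h.2 w hwW⟩ : W) ≠ 0 := by
    intro h h0
    have : (h : V ≃ₗ[F] V) w = 0 := congrArg Subtype.val h0
    exact hw0 (by simpa using this)
  refine index_le_card_of_fiber _ (fun h : ↥H => (⟨⟨(h : V ≃ₗ[F] V) w, hinv h h.2 w hwW⟩, hne h⟩ : {y : W // y ≠ 0})) ?_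
  intro a b hab
  apply Subgroup.subset_closure
  refine ⟨w, hw0, ?_⟩
  have h1 : (a : V ≃ₗ[F] V) w = (b : V ≃ₗ[F] V) w := by
    have := congrArg (fun y : {y : W // y ≠ 0} => (y.1 : V)) hab
    exact this
  show ((a⁻¹ * b : ↥H) : V ≃ₗ[F] V) w = w
  rw [Subgroup.coe_mul, Subgroup.coe_inv, LinearEquiv.mul_apply, ← h1, inv_apply_apply']

theorem lemmaB (H : Subgroup (V ≃ₗ[F] V)) (W : Submodule F V) (hW : W ≠ ⊤)
    (hinv : ∀ h ∈ H, ∀ w ∈ W, h w ∈ W) :
    (Subgroup.closure {h : ↥H | ∃ v : V, v ≠ 0 ∧ (h : V ≃ₗ[F] V) v = v}).index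
      ≤ Fintype.card F ^ Module.finrank F (V ⧸ W) - 1 := by
  classical
  obtain ⟨x, hxW⟩ : ∃ x : V, x ∉ W := by
    by_contra hcon
    push Not at hcon
    exact hW (eq_top_iff.mpr fun v _ => hcon v)
  have : Finite V := Module.finite_of_finite F
  have : Finite (V ⧸ W) := Module.finite_of_finite F
  rw [← card_nonzero (F := F) (M := V ⧸ W)]
  have hne : ∀ h : ↥H, (Submodule.Quotient.mk ((h : V ≃ₗ[F] V) x) : V ⧸ W) ≠ 0 := by
    intro h h0
    rw [Submodule.Quotient.mk_eq_zero] at h0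
    have := hinv _ (H.inv_mem h.2) _ h0
    rw [inv_apply_apply'] at this
    exact hxW this
  refine index_le_card_of_fiber _ (fun h : ↥H => (⟨Submodule.Quotient.mk ((h : V ≃ₗ[F] V) x), hne h⟩ : {y : V ⧸ W // y ≠ 0})) ?_
  intro a b hab
  apply Subgroup.subset_closure
  have h1 : (Submodule.Quotient.mk ((a : V ≃ₗ[F] V) x) : V ⧸ W) = Submodule.Quotient.mk ((b : V ≃ₗ[F] V) x) := by
    have := congrArg (fun y : {y : V ⧸ W // y ≠ 0} => (y.1 : V ⧸ W)) hab
    exact this
  rw [Submodule.Quotient.eq] at h1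
  -- h = a⁻¹ b
  set h : V ≃ₗ[F] V := ((a⁻¹ * b : ↥H) : V ≃ₗ[F] V) with hh
  have hhH : h ∈ H := (a⁻¹ * b).2
  have hx : h x - x ∈ W := by
    have h2 := hinv _ (H.inv_mem a.2) _ h1
    rw [map_sub, inv_apply_apply'] at h2
    have h3 : h x = (a : V ≃ₗ[F] V)⁻¹ ((b : V ≃ₗ[F] V) x) := by
      rw [hh, Subgroup.coe_mul, Subgroup.coe_inv, LinearEquiv.mul_apply]
    rw [h3]
    have := W.neg_mem h2
    simpa using this
  show ∃ v : V, v ≠ 0 ∧ h v = v
  by_contra hcon
  push Not at hcon
  -- g = h - id is injective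
  let g : V →ₗ[F] V := (h : V →ₗ[F] V) - LinearMap.id
  have hg : ∀ v, g v = h v - v := fun v => rfl
  have hgW : ∀ w ∈ W, g w ∈ W := fun w hw => by
    rw [hg]; exact W.sub_mem (hinv h hhH w hw) hw
  have hginj : Function.Injective g := by
    rw [← LinearMap.ker_eq_bot, LinearMap.ker_eq_bot']
    intro v hv
    by_contra hv0
    rw [hg, sub_eq_zero] at hv
    exact hcon v hv0 hv
  have hrinj : Function.Injective (g.restrict hgW) := by
    intro u v huv
    have := congrArg Subtype.val huv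
    simp only [LinearMap.restrict_coe_apply] at this
    exact Subtype.ext (hginj this)
  have hrsurj : Function.Surjective (g.restrict hgW) := LinearMap.injective_iff_surjective.mp hrinj
  obtain ⟨u, hu⟩ := hrsurj ⟨g x, by rw [hg]; exact hx⟩
  have := congrArg Subtype.val hu
  simp only [LinearMap.restrict_coe_apply] at this
  have hux := hginj this
  exact hxW (hux ▸ u.2)
end

/-- Let F be a finite field with q elements, V a non-zero finite-dimensional F-space of dimension d, H a group of invertible linear maps of V, and R the subgroup of H generated by the elements of H that fix some non-zero vector (have eigenvalue 1). Then the index of R in H is at most q^d − 1; and if H leaves invariant some proper non-zero subspace, the index is at most q^(d/2) − 1. -/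
theorem result {F V : Type*} [Field F] [Fintype F] [AddCommGroup V] [Module F V] [FiniteDimensional F V] [Nontrivial V]
    (H : Subgroup (V ≃ₗ[F] V)) :
    (Subgroup.closure {h : ↥H | ∃ v : V, v ≠ 0 ∧ (h : V ≃ₗ[F] V) v = v}).index ≤ Fintype.card F ^ Module.finrank F V - 1 ∧
    ((∃ W : Submodule F V, W ≠ ⊥ ∧ W ≠ ⊤ ∧ ∀ h ∈ H, ∀ w ∈ W, h w ∈ W) →
      ((Subgroup.closure {h : ↥H | ∃ v : V, v ≠ 0 ∧ (h : V ≃ₗ[F] V) v = v}).index : ℝ) ≤ Real.sqrt ((Fintype.card F : ℝ) ^ Module.finrank F V) - 1) := by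
  constructor
  · have h := lemmaA H (⊤ : Submodule F V) top_ne_bot (fun _ _ _ _ => Submodule.mem_top)
    rwa [finrank_top] at h
  · rintro ⟨W, hW0, hW1, hinv⟩
    have hA := lemmaA H W hW0 hinv
    have hB := lemmaB H W hW1 hinv
    have hsum := Submodule.finrank_quotient_add_finrank W
    set k := Module.finrank F W
    set m := Module.finrank F (V ⧸ W)
    set d := Module.finrank F V
    set q := Fintype.card F
    have hq : 1 ≤ q := Fintype.card_pos
    have key : ∀ n : ℕ, 2 * n ≤ d →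
        (Subgroup.closure {h : ↥H | ∃ v : V, v ≠ 0 ∧ (h : V ≃ₗ[F] V) v = v}).index ≤ q ^ n - 1 →
        ((Subgroup.closure {h : ↥H | ∃ v : V, v ≠ 0 ∧ (h : V ≃ₗ[F] V) v = v}).index : ℝ)
          ≤ Real.sqrt ((q : ℝ) ^ d) - 1 := by
      intro n hn hidx
      have hqn : 1 ≤ q ^ n := Nat.one_le_pow _ _ hq
      have h1 : ((Subgroup.closure {h : ↥H | ∃ v : V, v ≠ 0 ∧ (h : V ≃ₗ[F] V) v = v}).index : ℝ)
          ≤ ((q ^ n - 1 : ℕ) : ℝ) := by exact_mod_cast hidx
      have h2 : ((q ^ n - 1 : ℕ) : ℝ) = (q : ℝ) ^ n - 1 := by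
        rw [Nat.cast_sub hqn]; push_cast; ring
      have h3 : (q : ℝ) ^ n ≤ Real.sqrt ((q : ℝ) ^ d) := by
        apply Real.le_sqrt_of_sq_le
        rw [← pow_mul]
        have hq' : (1 : ℝ) ≤ (q : ℝ) := by exact_mod_cast hq
        apply pow_le_pow_right₀ hq'
        omega
      linarith
    rcases le_total k m with hkm | hkm
    · exact key k (by omega) hA
    · exact key m (by omega) hB

end Cfsg.Agent.S4178
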