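import Cfsg.Statements.S4186

set_option autoImplicit false
open Cfsg

namespace Cfsg.Agent.S4186

theorem aux {G : Type*} [Group G] (T X : Subgroup G) :
    ∀ (k : ℕ) (t : G), t ∈ T → t ^ (2 ^ k) = 1 → t ∉ Subgroup.centralizer (X : Set G) →
      ∃ s ∈ T, s ∉ Subgroup.centralizer (X : Set G) ∧ s ^ 2 ∈ Subgroup.centralizer (X : Set G) := by
  intro k
  induction k with
  | zero =>
    intro t _ h1 h2
    exfalso
    apply h2
    rw [pow_zero, pow_one] at h1
    rw [h1]
    exact Subgroup.one_mem _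
  | succ k ih =>
    intro t ht h1 h2
    by_cases h3 : t ^ 2 ∈ Subgroup.centralizer (X : Set G)
    · exact ⟨t, ht, h2, h3⟩
    · apply ih (t ^ 2) (T.pow_mem ht 2) _ h3
      rw [← pow_mul, ← pow_succ']
      exact h1

/-- Let T and X be subgroups of a group with T a finite 2-group normalizing X but not centralizing it. Then some element of T inverts some non-identity element of X under conjugation. -/
theorem result {G : Type*} [Group G] (T X : Subgroup G) [Finite ↥T] (hT : IsPGroup 2 ↥T) (hTN : T ≤ Subgroup.normalizer (X : Set G)) (hTC : ¬ T ≤ Subgroup.centralizer (X : Set G)) : ∃ t ∈ T, ∃ x ∈ X, x ≠ 1 ∧ t * x * t⁻¹ = x⁻¹ := by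
  obtain ⟨t, ht, htc⟩ := SetLike.not_le_iff_exists.mp hTC
  obtain ⟨k, hk⟩ := hT ⟨t, ht⟩
  have hk' : t ^ (2 ^ k) = 1 := by
    have := congrArg Subtype.val hk
    simpa using this
  obtain ⟨s, hs, hsc, hs2⟩ := aux T X k t ht hk' htc
  rw [Subgroup.mem_centralizer_iff] at hsc
  push Not at hsc
  obtain ⟨x, hx, hxs⟩ := hsc
  have hsN := hTN hs
  rw [Subgroup.mem_normalizer_iff] at hsN
  refine ⟨s, hs, x⁻¹ * (s * x * s⁻¹), ?_, ?_, ?_⟩
  · exact X.mul_mem (X.inv_mem hx) ((hsN x).mp hx)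
  · intro h
    apply hxs
    have : s * x * s⁻¹ = x := by
      have := congrArg (fun z => x * z) h
      simpa using this
    calc x * s = (s * x * s⁻¹) * s := by rw [this]
      _ = s * x := by group
  · have h2 := (Subgroup.mem_centralizer_iff.mp hs2) x hx
    have h3 : s * s * x = x * (s * s) := by
      rw [pow_two] at h2
      rw [← h2]
    calc s * (x⁻¹ * (s * x * s⁻¹)) * s⁻¹ = (s * x⁻¹ * s⁻¹) * ((s * s * x) * s⁻¹ * s⁻¹) := by group
      _ = (s * x⁻¹ * s⁻¹) * ((x * (s * s)) * s⁻¹ * s⁻¹) := by rw [h3]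
      _ = (x⁻¹ * (s * x * s⁻¹))⁻¹ := by group

end Cfsg.Agent.S4186
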