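import Cfsg.Statements.S4188
import Cfsg.Agent.Lib.Helper5.FqI

set_option autoImplicit false
open Cfsg

namespace Cfsg.Agent.S4188

/-- Let G be a finite group that is the semidirect product of a normal abelian subgroup N of odd order by a 2-subgroup P, and suppose N is the unique minimal normal subgroup of G. Then the index of the Frattini subgroup of P in P is at most #N − 1. -/
theorem result {G : Type*} [Group G] [Finite G] (N P : Subgroup G) (hN : N.Normal) (hNab : IsMulCommutative ↥N) (hNodd : Odd (Nat.card ↥N)) (hP : IsPGroup 2 ↥P) (hdisj : N ⊓ P = ⊥) (hprod : N ⊔ P = ⊤) (hmin : N ≠ ⊥ ∧ ∀ M : Subgroup G, M.Normal → M ≠ ⊥ → N ≤ M) : (frattini ↥P).index ≤ Nat.card ↥N - 1 := by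
  obtain ⟨hNne, hNmin⟩ := hmin
  have hcomm : ∀ a ∈ N, ∀ b ∈ N, a * b = b * a := by
    intro a ha b hb
    exact congrArg Subtype.val (hNab.is_comm.comm ⟨a, ha⟩ ⟨b, hb⟩)
  have hcard1 : Nat.card N ≠ 1 := fun h => hNne (Subgroup.card_eq_one.mp h)
  obtain ⟨q, hq, hqd⟩ := Nat.exists_prime_and_dvd hcard1
  haveI : Fact q.Prime := ⟨hq⟩
  have hqodd : Odd q := by
    rcases hq.eq_two_or_odd' with h | h
    · subst h
      exact absurd (even_iff_two_dvd.mpr hqd) (Nat.not_even_iff_odd.mpr hNodd)
    · exact h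
  let Ω : Subgroup G :=
    { carrier := {a | a ∈ N ∧ a ^ q = 1}
      mul_mem' := by
        rintro a b ⟨ha, ha2⟩ ⟨hb, hb2⟩
        refine ⟨N.mul_mem ha hb, ?_⟩
        rw [(Commute.mul_pow (hcomm a ha b hb) q), ha2, hb2, one_mul]
      one_mem' := ⟨N.one_mem, one_pow q⟩
      inv_mem' := by
        rintro a ⟨ha, ha2⟩
        exact ⟨N.inv_mem ha, by rw [inv_pow, ha2, inv_one]⟩ }
  have hΩn : Ω.Normal := by
    constructor
    rintro a ⟨ha, ha2⟩ g
    refine ⟨hN.conj_mem a ha g, ?_⟩
    rw [conj_pow, ha2, mul_one, mul_inv_cancel]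
  have hΩne : Ω ≠ ⊥ := by
    obtain ⟨g, hg⟩ := exists_prime_orderOf_dvd_card' q hqd
    intro hbot
    have hgΩ : (g : G) ∈ Ω := by
      refine ⟨g.2, ?_⟩
      have := pow_orderOf_eq_one g
      rw [hg] at this
      exact_mod_cast congrArg Subtype.val this
    rw [hbot, Subgroup.mem_bot] at hgΩ
    have : g = 1 := Subtype.ext hgΩ
    rw [this, orderOf_one] at hg
    exact hq.one_lt.ne hg
  have hNΩ : N ≤ Ω := hNmin Ω hΩn hΩne
  have hexp : ∀ v : N, v ^ q = 1 := fun v => Subtype.ext (by rw [Subgroup.coe_pow]; exact (hNΩ v.2).2)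
  have hNp : IsPGroup q N := fun v => ⟨1, by rw [pow_one]; exact hexp v⟩
  obtain ⟨d, hd⟩ := (IsPGroup.iff_card).mp hNp
  have hd1 : 1 ≤ d := by
    rcases Nat.eq_zero_or_pos d with h | h
    · subst h
      exact absurd (by simpa using hd) hcard1
    · exact h
  set K : Subgroup G := P ⊓ Subgroup.centralizer (N : Set G) with hK
  haveI := hN
  have hKn : K.Normal := by
    have hC : (Subgroup.centralizer (N : Set G)).Normal := Subgroup.normal_centralizer
    have hNP : ∀ g : G, (g ∈ N ∨ g ∈ P) → ∀ k ∈ K, g * k * g⁻¹ ∈ K := by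
      rintro g (hg | hg) k hk
      · have h1 := (Subgroup.mem_centralizer_iff.mp hk.2) g hg
        have : g * k * g⁻¹ = k := by rw [h1, mul_inv_cancel_right]
        rw [this]; exact hk
      · exact ⟨P.mul_mem (P.mul_mem hg hk.1) (P.inv_mem hg), hC.conj_mem k hk.2 g⟩
    have hnorm : Subgroup.normalizer (K : Set G) = ⊤ := by
      rw [eq_top_iff, ← hprod, sup_le_iff]
      constructor
      · intro g hg
        rw [Subgroup.mem_normalizer_iff]
        intro k
        constructor
        · exact fun hk => hNP g (Or.inl hg) k hk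
        · intro hk
          have := hNP g⁻¹ (Or.inl (N.inv_mem hg)) _ hk
          simpa [mul_assoc] using this
      · intro g hg
        rw [Subgroup.mem_normalizer_iff]
        intro k
        constructor
        · exact fun hk => hNP g (Or.inr hg) k hk
        · intro hk
          have := hNP g⁻¹ (Or.inr (P.inv_mem hg)) _ hk
          simpa [mul_assoc] using this
    exact Subgroup.normalizer_eq_top_iff.mp hnorm
  have hKbot : K = ⊥ := by
    by_contra hne
    have h1 : N ≤ K := hNmin K hKn hne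
    have h2 : N ≤ N ⊓ P := le_inf le_rfl (h1.trans inf_le_left)
    rw [hdisj] at h2
    exact hNne (le_bot_iff.mp h2)
  letI : CommGroup ↥N :=
    { (inferInstance : Group ↥N) with mul_comm := fun a b => hNab.is_comm.comm a b }
  set φ : ↥P →* MulAut ↥N := (MulAut.conjNormal (H := N)).comp P.subtype with hφ
  have hφinj : Function.Injective φ := by
    rw [injective_iff_map_eq_one]
    intro x hx
    have hxK : (x : G) ∈ K := by
      refine ⟨x.2, ?_⟩
      show (x : G) ∈ Subgroup.centralizer (N : Set G)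
      rw [Subgroup.mem_centralizer_iff]
      intro n hn
      have h1 := congrArg (fun f : MulAut N => ((f ⟨n, hn⟩ : N) : G)) hx
      simp only [hφ, MonoidHom.comp_apply, Subgroup.coe_subtype, MulAut.conjNormal_apply,
        MulAut.one_apply] at h1
      exact (mul_inv_eq_iff_eq_mul.mp h1).symm
    rw [hKbot, Subgroup.mem_bot] at hxK
    exact Subtype.ext hxK
  have := Cfsg.Agent.Lib.Helper5.Fq.faithful_bound q hq hqodd d hd1 ↥N ↥P φ hφinj hP hexp hd
  rw [hd]
  exact this

end Cfsg.Agent.S4188
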