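import Cfsg.Statements.S4189
import Mathlib
import Cfsg.Agent.Lib.Helper18.AbelianIndexP
import Cfsg.Agent.Lib.Helper18.AutTwoGroup
import Cfsg.Agent.Lib.Helper18.Dihedral8
import Cfsg.Agent.Lib.Helper24.Taussky

set_option autoImplicit false
open Cfsg

namespace Cfsg.Agent.S4189

open Subgroup Cfsg.Agent.Lib.Helper18 Cfsg.Agent.Lib.Helper18.ATG

theorem card_quat (n : ℕ) [NeZero n] : Nat.card (QuaternionGroup n) = 4 * n := by
  rw [Nat.card_eq_fintype_card, QuaternionGroup.card]

theorem main {P : Type*} [Group P] [Finite P] (hP : IsPGroup 2 P) (hna : ¬ IsMulCommutative P) (h4 : (commutator P).index = 4) (haut : ¬ IsPGroup 2 (MulAut P)) : Nonempty (P ≃* QuaternionGroup 2) := by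
  haveI : Fact (Nat.Prime 2) := ⟨Nat.prime_two⟩
  obtain ⟨n, hn⟩ := IsPGroup.iff_card.mp hP
  have hn3 : 3 ≤ n := by
    by_contra hlt
    apply hna
    have hn_cases : n = 0 ∨ n = 1 ∨ n = 2 := by omega
    rcases hn_cases with rfl | rfl | rfl
    · have : Subsingleton P := by
        rw [← Finite.card_le_one_iff_subsingleton, hn]; simp
      exact ⟨⟨fun a b => Subsingleton.elim _ _⟩⟩
    · have : IsCyclic P := isCyclic_of_prime_card (p := 2) (by rw [hn, pow_one])
      exact IsCyclic.isMulCommutative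
    · exact IsPGroup.isMulCommutative_of_card_eq_prime_sq hn
  have h8 : 8 ≤ Nat.card P := by
    rw [hn]
    calc 8 = 2 ^ 3 := by norm_num
      _ ≤ 2 ^ n := Nat.pow_le_pow_right (by norm_num) hn3
  obtain ⟨C, hCcyc, hCi⟩ := Cfsg.Agent.Lib.Helper24.tk_exists_cyclic (Nat.card P) P rfl hP h4 h8
  -- an automorphism of odd prime order
  have hex : ∃ α : MulAut P, ∀ k : ℕ, α ^ 2 ^ k ≠ 1 := by
    by_contra h
    push Not at h
    exact haut h
  obtain ⟨α, hα⟩ := hex
  have ho : orderOf α ≠ 0 := (orderOf_pos α).ne'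
  obtain ⟨r, hr, hrd, hrodd⟩ : ∃ r, Nat.Prime r ∧ r ∣ orderOf α ∧ Odd r := by
    rcases Nat.eq_two_pow_or_exists_odd_prime_and_dvd (orderOf α) with ⟨k, hk⟩ | h
    · exact absurd (by rw [← hk]; exact pow_orderOf_eq_one α) (hα k)
    · exact h
  set β := α ^ (orderOf α / r) with hβdef
  have hβo : orderOf β = r := orderOf_pow_orderOf_div ho hrd
  have hβr : β ^ r = 1 := by rw [← hβo]; exact pow_orderOf_eq_one β
  have hβ1 : β ≠ 1 := by
    intro h
    rw [h, orderOf_one] at hβo
    exact hr.one_lt.ne hβo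
  set C' := C.map β.toMonoidHom with hC'
  have hCab : ∀ a ∈ C, ∀ b ∈ C, a * b = b * a := by
    intro a ha b hb
    have hc : IsMulCommutative C := IsCyclic.isMulCommutative
    exact congrArg Subtype.val (hc.is_comm.comm ⟨a, ha⟩ ⟨b, hb⟩)
  have hC'ab : ∀ a ∈ C', ∀ b ∈ C', a * b = b * a := by
    rintro _ ⟨a, ha, rfl⟩ _ ⟨b, hb, rfl⟩
    show β a * β b = β b * β a
    rw [← map_mul, ← map_mul, hCab a ha b hb]
  have hC'i : C'.index = 2 := by
    rw [← hCi]
    exact Subgroup.index_map_equiv C β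
  have hne : C' ≠ C := by
    intro heq
    obtain ⟨a, ha⟩ := (hP.to_subgroup C).exists_card_eq
    have hβC : ∀ c ∈ C, β c ∈ C := by
      intro c hc
      rw [← heq]
      exact ⟨c, hc, rfl⟩
    have hfix := fix_cyclic β r hrodd hβr C hCcyc a ha hβC
    exact hβ1 (eq_one_of_fix hP β r hrodd hβr C hCi hfix)
  have hcle := AIP.card_commutator_le (p := 2) hP hna C hCab hCi C' hC'ab hC'i hne
  -- the order is 8
  have hcne : commutator P ≠ ⊥ := by
    intro h
    exact hna ((_root_.commutator_eq_bot_iff P).mp h)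
  have hcc : Nat.card (commutator P) = 2 := by
    obtain ⟨j, hj⟩ := (hP.to_subgroup (commutator P)).exists_card_eq
    have hj0 : j ≠ 0 := by
      rintro rfl
      rw [pow_zero] at hj
      exact hcne (Subgroup.card_eq_one.mp hj)
    rw [hj] at hcle ⊢
    have : 2 ^ 1 ≤ 2 ^ j := Nat.pow_le_pow_right (by norm_num) (by omega)
    omega
  have hP8 : Nat.card P = 8 := by
    rw [← (commutator P).card_mul_index, hcc, h4]
  have hCc : Nat.card C = 4 := by
    have := C.card_mul_index
    rw [hCi, hP8] at this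
    omega
  have hC'c : Nat.card C' = 4 := by
    have := C'.card_mul_index
    rw [hC'i, hP8] at this
    omega
  have hna' : ∃ a b : P, a * b ≠ b * a := by
    by_contra h
    push Not at h
    exact hna ⟨⟨h⟩⟩
  -- a cyclic subgroup of order 4 is generated by an element of order 4
  have hgen : ∀ K : Subgroup P, IsCyclic K → Nat.card K = 4 →
      ∃ g : P, orderOf g = 4 ∧ K = zpowers g := by
    intro K hK hKc
    obtain ⟨g, hg⟩ := hK.exists_generator
    refine ⟨(g : P), ?_, ?_⟩
    · rw [Subgroup.orderOf_coe, orderOf_eq_card_of_forall_mem_zpowers hg, hKc]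
    · apply le_antisymm
      · intro x hx
        obtain ⟨k, hk⟩ := hg ⟨x, hx⟩
        refine ⟨k, ?_⟩
        have := congrArg Subtype.val hk
        simpa using this
      · rw [zpowers_le]; exact g.2
  have hC'cyc : IsCyclic C' := by
    haveI := hCcyc
    exact isCyclic_of_surjective (C.equivMapOfInjective β.toMonoidHom β.injective)
      (C.equivMapOfInjective β.toMonoidHom β.injective).surjective
  -- unique involution
  have huniq : ∃ z : P, ∀ a : P, orderOf a = 2 → a = z := by
    by_contra hnu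
    obtain ⟨r0, _, _, hall⟩ := order_four_elts hP8 hna' hnu
    obtain ⟨g, hg4, hCg⟩ := hgen C hCcyc hCc
    obtain ⟨g', hg'4, hC'g⟩ := hgen C' hC'cyc hC'c
    have h1 : zpowers g = zpowers r0 := by
      rcases hall g hg4 with h | h
      · rw [h]
      · rw [h, zpowers_inv]
    have h2 : zpowers g' = zpowers r0 := by
      rcases hall g' hg'4 with h | h
      · rw [h]
      · rw [h, zpowers_inv]
    exact hne (by rw [hC'g, hCg, h1, h2])
  obtain ⟨z, hz⟩ := huniq
  rcases Cfsg.Agent.Lib.Helper24.tk_main hP h4 with h | ⟨k, ⟨e⟩⟩ | ⟨k, hk, _⟩ | ⟨k, ⟨e⟩⟩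
  · omega
  · exfalso
    have h0 : orderOf (e.symm (DihedralGroup.sr 0)) = 2 := by
      rw [MulEquiv.orderOf_eq, DihedralGroup.orderOf_sr]
    have h1 : orderOf (e.symm (DihedralGroup.sr 1)) = 2 := by
      rw [MulEquiv.orderOf_eq, DihedralGroup.orderOf_sr]
    have h2 : e.symm (DihedralGroup.sr 0) = e.symm (DihedralGroup.sr 1) := by
      rw [hz _ h0, hz _ h1]
    have h3 := e.symm.injective h2
    rw [DihedralGroup.sr.injEq] at h3
    have h5 : ((1 : ℕ) : ZMod (2 ^ (k + 2))) = 0 := by rw [Nat.cast_one]; exact h3.symm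
    rw [ZMod.natCast_eq_zero_iff] at h5
    have h6 : 2 ^ 2 ≤ 2 ^ (k + 2) := Nat.pow_le_pow_right (by norm_num) (by omega)
    have := Nat.le_of_dvd (by norm_num) h5
    omega
  · exfalso
    rw [hP8] at hk
    have h6 : 2 ^ 4 ≤ 2 ^ (k + 4) := Nat.pow_le_pow_right (by norm_num) (by omega)
    omega
  · have hk0 : k = 0 := by
      have h1 := Nat.card_congr e.toEquiv
      rw [hP8, card_quat] at h1
      by_contra hk
      have h6 : 2 ^ 2 ≤ 2 ^ (k + 1) := Nat.pow_le_pow_right (by norm_num) (by omega)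
      omega
    subst hk0
    exact ⟨e⟩

theorem result {P : Type*} [Group P] [Finite P] (hP : IsPGroup 2 P) (hna : ¬ IsMulCommutative P) (h4 : (commutator P).index = 4) (haut : ¬ IsPGroup 2 (MulAut P)) : Nonempty (P ≃* QuaternionGroup 2) := by
  exact main hP hna h4 haut

end Cfsg.Agent.S4189
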