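import Cfsg.Statements.S4194
import Cfsg.Agent.Lib.Helper1.PCentralG

set_option autoImplicit false
open Cfsg

namespace Cfsg.Agent.S4194

/-- A finite group G has commutative Sylow 2-subgroups if and only if every 2-element of G (element of order a power of 2) is 2-central, that is, its centralizer contains a Sylow 2-subgroup of G. -/
theorem result {G : Type*} [Group G] [Finite G] (P : Sylow 2 G) :
    IsMulCommutative (P : Subgroup G) ↔ ∀ x : G, (∃ k : ℕ, orderOf x = 2 ^ k) → (∃ Q : Sylow 2 G, (Q : Subgroup G) ≤ Subgroup.centralizer ({x} : Set G)) := by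
  have : Fact (Nat.Prime 2) := ⟨Nat.prime_two⟩
  constructor
  · intro hP x hx
    obtain ⟨k, hk⟩ := hx
    obtain ⟨Q, hQ⟩ :=
      (Cfsg.Agent.Lib.Helper1.TwoClasses.isPGroup_zpowers_of_orderOf x k hk).exists_le_sylow
    refine ⟨Q, ?_⟩
    obtain ⟨c, hc⟩ := MulAction.exists_smul_eq G Q P
    have hconj : ∀ w ∈ (Q : Subgroup G), c * w * c⁻¹ ∈ (P : Subgroup G) := by
      intro w hw
      rw [← hc]
      exact Subgroup.smul_mem_pointwise_smul w (MulAut.conj c) (Q : Subgroup G) hw
    intro u hu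
    rw [Subgroup.mem_centralizer_singleton_iff]
    have h1 := hP.is_comm.comm ⟨_, hconj u hu⟩ ⟨_, hconj x (hQ (Subgroup.mem_zpowers x))⟩
    have h2 : c * u * c⁻¹ * (c * x * c⁻¹) = c * x * c⁻¹ * (c * u * c⁻¹) := congrArg Subtype.val h1
    calc u * x = c⁻¹ * (c * u * c⁻¹ * (c * x * c⁻¹)) * c := by group
      _ = c⁻¹ * (c * x * c⁻¹ * (c * u * c⁻¹)) * c := by rw [h2]
      _ = x * u := by group
  · intro h
    have hG : Cfsg.Agent.Lib.Helper1.PCentral.HH 2 G := by
      intro x hx hdvd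
      obtain ⟨Q, hQ⟩ := h x hx
      exact Q.not_dvd_index (hdvd.trans (Subgroup.index_dvd_of_le hQ))
    exact Cfsg.Agent.Lib.Helper1.PCentral.camina_herzog hG P

end Cfsg.Agent.S4194
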