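import Cfsg.Statements.S4195

set_option autoImplicit false
open Cfsg

namespace Cfsg.Agent.S4195

def invStab {G : Type*} [Group G] (x : G) : Subgroup G where
  carrier := {h | h * x * h⁻¹ = x ∨ h * x * h⁻¹ = x⁻¹}
  one_mem' := by left; simp
  mul_mem' := by
    intro a b ha hb
    have e : a * b * x * (a * b)⁻¹ = a * (b * x * b⁻¹) * a⁻¹ := by group
    rcases hb with hb | hb
    · rcases ha with ha | ha
      · left; rw [e, hb, ha]
      · right; rw [e, hb, ha]
    · have e2 : a * x⁻¹ * a⁻¹ = (a * x * a⁻¹)⁻¹ := by group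
      rcases ha with ha | ha
      · right; rw [e, hb, e2, ha]
      · left; rw [e, hb, e2, ha, inv_inv]
  inv_mem' := by
    intro a ha
    rcases ha with ha | ha
    · left
      calc a⁻¹ * x * a⁻¹⁻¹ = a⁻¹ * (a * x * a⁻¹) * a := by rw [ha, inv_inv]
        _ = x := by group
    · right
      have : a * x⁻¹ * a⁻¹ = x := by
        have e2 : a * x⁻¹ * a⁻¹ = (a * x * a⁻¹)⁻¹ := by group
        rw [e2, ha, inv_inv]
      calc a⁻¹ * x * a⁻¹⁻¹ = a⁻¹ * (a * x⁻¹ * a⁻¹) * a := by rw [this, inv_inv]
        _ = x⁻¹ := by group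

theorem key {G : Type*} [Group G] [Finite G] (x : G) (P : Sylow 2 G)
    (hP : (P : Subgroup G) ≤ Subgroup.centralizer ({x} : Set G)) (hreal : IsConj x x⁻¹) :
    x = x⁻¹ := by
  by_contra hne
  obtain ⟨g, hg⟩ := isConj_iff.mp hreal
  have hCN : Subgroup.centralizer ({x} : Set G) ≤ invStab x := by
    intro c hc
    left
    rw [Subgroup.mem_centralizer_singleton_iff] at hc
    calc c * x * c⁻¹ = x * c * c⁻¹ := by rw [hc]
      _ = x := by group
  have hmemC : ∀ b : G, b ∈ Subgroup.centralizer ({x} : Set G) ↔ b * x * b⁻¹ = x := by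
    intro b
    rw [Subgroup.mem_centralizer_singleton_iff]
    constructor
    · intro h
      calc b * x * b⁻¹ = x * b * b⁻¹ := by rw [h]
        _ = x := by group
    · intro h
      calc b * x = (b * x * b⁻¹) * b := by group
        _ = x * b := by rw [h]
  have h2 : (Subgroup.centralizer ({x} : Set G)).relIndex (invStab x) = 2 := by
    rw [Subgroup.relIndex_eq_two_iff]
    refine ⟨g, Or.inr hg, ?_⟩
    intro b hb
    have e : b * g * x * (b * g)⁻¹ = b * (g * x * g⁻¹) * b⁻¹ := by group
    have e2 : b * x⁻¹ * b⁻¹ = (b * x * b⁻¹)⁻¹ := by group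
    rcases hb with hb | hb
    · right
      refine ⟨(hmemC b).mpr hb, ?_⟩
      rw [hmemC, e, hg, e2, hb]
      exact fun h => hne h.symm
    · left
      refine ⟨?_, ?_⟩
      · rw [hmemC, e, hg, e2, hb, inv_inv]
      · rw [hmemC, hb]
        exact fun h => hne h.symm
  have h3 : 2 ∣ (Subgroup.centralizer ({x} : Set G)).index := by
    have := Subgroup.relIndex_dvd_index_of_le hCN
    rwa [h2] at this
  have h4 : 2 ∣ (P : Subgroup G).index := h3.trans (Subgroup.index_dvd_of_le hP)
  exact P.not_dvd_index h4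

/-- Let x be a non-identity element of a finite group G whose centralizer contains a Sylow 2-subgroup of G. If x is conjugate to its inverse, then x has order 2. -/
theorem result {G : Type*} [Group G] [Finite G] (x : G) (hx : x ≠ 1) (P : Sylow 2 G) (hP : (P : Subgroup G) ≤ Subgroup.centralizer ({x} : Set G)) (hreal : IsConj x x⁻¹) : orderOf x = 2 := by
  have h := key x P hP hreal
  apply orderOf_eq_prime
  · rw [pow_two]
    nth_rewrite 2 [h]
    exact mul_inv_cancel x
  · exact hx

end Cfsg.Agent.S4195
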