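import Cfsg.Statements.S4196
import Cfsg.Agent.S4195

set_option autoImplicit false
open Cfsg

namespace Cfsg.Agent.S4196

open scoped Pointwise

theorem mem_conj_sylow {G : Type*} [Group G] {p : ℕ} (g : G) (P : Sylow p G) (y : G) :
    y ∈ ((g • P : Sylow p G) : Subgroup G) ↔ ∃ s ∈ (P : Subgroup G), g * s * g⁻¹ = y := by
  rw [Sylow.coe_subgroup_smul, Subgroup.mem_smul_pointwise_iff_exists]
  simp [MulAut.smul_def]

/-- A finite group G has elementary abelian Sylow 2-subgroups (commutative with every element squaring to the identity) if and only if every 2-element of G has a Sylow 2-subgroup in its centralizer and is conjugate to its inverse. -/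
theorem result {G : Type*} [Group G] [Finite G] (P : Sylow 2 G) :
    (IsMulCommutative (P : Subgroup G) ∧ ∀ x ∈ (P : Subgroup G), x ^ 2 = 1) ↔
      ∀ x : G, (∃ k : ℕ, orderOf x = 2 ^ k) → (∃ Q : Sylow 2 G, (Q : Subgroup G) ≤ Subgroup.centralizer ({x} : Set G)) ∧ IsConj x x⁻¹ := by
  constructor
  · rintro ⟨hc, he⟩ x ⟨k, hk⟩
    have hx : IsPGroup 2 (Subgroup.zpowers x) := by
      rw [IsPGroup.iff_card]
      exact ⟨k, by rw [Nat.card_zpowers, hk]⟩
    obtain ⟨Q, hQ⟩ := hx.exists_le_sylow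
    have hxQ : x ∈ (Q : Subgroup G) := hQ (Subgroup.mem_zpowers x)
    obtain ⟨g, hg⟩ := MulAction.exists_smul_eq G P Q
    have hcomm : ∀ a ∈ (P : Subgroup G), ∀ b ∈ (P : Subgroup G), a * b = b * a := by
      intro a ha b hb
      have := hc.is_comm.comm (⟨a, ha⟩ : (P : Subgroup G)) ⟨b, hb⟩
      exact congrArg Subtype.val this
    rw [← hg, mem_conj_sylow] at hxQ
    obtain ⟨s, hs, rfl⟩ := hxQ
    refine ⟨⟨Q, ?_⟩, ?_⟩
    · intro y hy
      rw [← hg, mem_conj_sylow] at hy
      obtain ⟨t, ht, rfl⟩ := hy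
      rw [Subgroup.mem_centralizer_singleton_iff]
      have := hcomm s hs t ht
      calc g * t * g⁻¹ * (g * s * g⁻¹) = g * (t * s) * g⁻¹ := by group
        _ = g * (s * t) * g⁻¹ := by rw [this]
        _ = g * s * g⁻¹ * (g * t * g⁻¹) := by group
    · have h2 : (g * s * g⁻¹) ^ 2 = 1 := by
        rw [conj_pow, he s hs]
        group
      have : (g * s * g⁻¹)⁻¹ = g * s * g⁻¹ := by
        rw [inv_eq_iff_mul_eq_one, ← pow_two, h2]
      rw [this]
  · intro h
    have he : ∀ x ∈ (P : Subgroup G), x ^ 2 = 1 := by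
      intro x hx
      by_cases hx1 : x = 1
      · rw [hx1, one_pow]
      · obtain ⟨k, hk⟩ := P.isPGroup' ⟨x, hx⟩
        have hk' : x ^ (2 ^ k) = 1 := by
          have := congrArg Subtype.val hk
          simpa using this
        have hd : orderOf x ∣ 2 ^ k := orderOf_dvd_of_pow_eq_one hk'
        obtain ⟨j, -, hj⟩ := (Nat.dvd_prime_pow Nat.prime_two).mp hd
        obtain ⟨⟨Q, hQ⟩, hconj⟩ := h x ⟨j, hj⟩
        have := Cfsg.Agent.S4195.result x hx1 Q hQ hconj
        rw [← this]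
        exact pow_orderOf_eq_one x
    refine ⟨⟨⟨fun a b => ?_⟩⟩, he⟩
    apply Subtype.ext
    have ha := he a a.2
    have hb := he b b.2
    have hab := he (a * b) ((P : Subgroup G).mul_mem a.2 b.2)
    show (a : G) * b = b * a
    have h1 : (a : G)⁻¹ = a := by rw [inv_eq_iff_mul_eq_one, ← pow_two, ha]
    have h2 : (b : G)⁻¹ = b := by rw [inv_eq_iff_mul_eq_one, ← pow_two, hb]
    have h3 : ((a : G) * b)⁻¹ = a * b := by rw [inv_eq_iff_mul_eq_one, ← pow_two, hab]
    calc (a : G) * b = ((a : G) * b)⁻¹ := h3.symm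
      _ = (b : G)⁻¹ * (a : G)⁻¹ := by group
      _ = b * a := by rw [h1, h2]

end Cfsg.Agent.S4196
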