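import Cfsg.Statements.S4200
import Cfsg.Agent.Lib.helper23.ConjClassCount

set_option autoImplicit false
open Cfsg

namespace Cfsg.Agent.S4200

open Cfsg.Agent.Lib.helper23

/-- Let Y be a subgroup of the finite group X, of index m. Then the numbers of conjugacy classes satisfy k(Y) ≤ m·k(X) and k(X) ≤ m·k(Y), and the second inequality is strict unless Y is normal in X. -/
theorem result {X : Type*} [Group X] [Finite X] (Y : Subgroup X) : Nat.card (ConjClasses Y) ≤ Y.index * Nat.card (ConjClasses X) ∧ Nat.card (ConjClasses X) ≤ Y.index * Nat.card (ConjClasses Y) ∧ (¬ Y.Normal → Nat.card (ConjClasses X) < Y.index * Nat.card (ConjClasses Y)) := by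
  obtain ⟨hle, hlt⟩ := conjClasses_bounds Y
  have hXY : Nat.card X = Y.index * Nat.card Y := (Y.index_mul_card).symm
  have hYpos : 0 < Nat.card Y := Nat.card_pos
  have hmpos : 0 < Y.index := Nat.pos_of_ne_zero Y.index_ne_zero_of_finite
  refine ⟨?_, ?_, ?_⟩
  · -- k(Y) |Y| ≤ k(X) |X|
    have h1 : Nat.card {p : Y × Y // Commute p.1 p.2} ≤ Nat.card {p : X × X // Commute p.1 p.2} := by
      refine Nat.card_le_card_of_injective
        (fun p => ⟨((p.1.1 : X), (p.1.2 : X)), congrArg Subtype.val p.2.eq⟩) ?_
      intro p q hpq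
      have h2 := congrArg Subtype.val hpq
      apply Subtype.ext
      apply Prod.ext
      · exact Subtype.ext (congrArg Prod.fst h2)
      · exact Subtype.ext (congrArg Prod.snd h2)
    rw [card_comm_eq_card_conjClasses_mul_card, card_comm_eq_card_conjClasses_mul_card, hXY] at h1
    have h3 : Nat.card (ConjClasses Y) * Nat.card Y ≤ (Y.index * Nat.card (ConjClasses X)) * Nat.card Y := by
      calc Nat.card (ConjClasses Y) * Nat.card Y ≤ Nat.card (ConjClasses X) * (Y.index * Nat.card Y) := h1
        _ = (Y.index * Nat.card (ConjClasses X)) * Nat.card Y := by ring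
    exact Nat.le_of_mul_le_mul_right h3 hYpos
  · rw [hXY] at hle
    have h3 : Nat.card (ConjClasses X) * (Y.index * Nat.card Y) ≤
        (Y.index * Nat.card (ConjClasses Y)) * (Y.index * Nat.card Y) := by
      calc Nat.card (ConjClasses X) * (Y.index * Nat.card Y)
          ≤ Y.index * Y.index * (Nat.card (ConjClasses Y) * Nat.card Y) := hle
        _ = (Y.index * Nat.card (ConjClasses Y)) * (Y.index * Nat.card Y) := by ring
    exact Nat.le_of_mul_le_mul_right h3 (Nat.mul_pos hmpos hYpos)
  · intro hn
    have hlt' := hlt hn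
    rw [hXY] at hlt'
    have h3 : Nat.card (ConjClasses X) * (Y.index * Nat.card Y) <
        (Y.index * Nat.card (ConjClasses Y)) * (Y.index * Nat.card Y) := by
      calc Nat.card (ConjClasses X) * (Y.index * Nat.card Y)
          < Y.index * Y.index * (Nat.card (ConjClasses Y) * Nat.card Y) := hlt'
        _ = (Y.index * Nat.card (ConjClasses Y)) * (Y.index * Nat.card Y) := by ring
    exact Nat.lt_of_mul_lt_mul_right h3

end Cfsg.Agent.S4200
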