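import Cfsg.Statements.S4203
import Cfsg.Agent.Lib.Helper1.MinNormal
import Cfsg.Agent.Lib.helper23.SmallPerm

set_option autoImplicit false
open Cfsg

namespace Cfsg.Agent.S4203


open Cfsg.Agent.Lib.helper23 Cfsg.Agent.Lib.Helper1

theorem index_modEq_one_of_normalizer_le {G : Type*} [Group G] [Finite G] {p : ℕ} [Fact p.Prime]
    (Q : Sylow p G) (H : Subgroup G) (hH : Subgroup.normalizer (Q : Set G) ≤ H) :
    H.index ≡ 1 [MOD p] := by
  have hQH : (Q : Subgroup G) ≤ H := Subgroup.le_normalizer.trans hH
  have h1 : Nat.card (Sylow p G) = (Subgroup.normalizer (Q : Set G)).index :=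
    Sylow.card_eq_index_normalizer Q
  have h2 : Nat.card (Sylow p H) =
      (Subgroup.normalizer ((Q.subtype hQH : Sylow p H) : Set H)).index :=
    Sylow.card_eq_index_normalizer _
  have h3 : (Subgroup.normalizer ((Q.subtype hQH : Sylow p H) : Set H)) =
      (Subgroup.normalizer (Q : Set G)).subgroupOf H := by
    exact (Subgroup.subgroupOf_normalizer_eq hQH).symm
  have h4 : (Subgroup.normalizer (Q : Set G)).relIndex H * H.index =
      (Subgroup.normalizer (Q : Set G)).index := Subgroup.relIndex_mul_index hH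
  have h5 : Nat.card (Sylow p H) = (Subgroup.normalizer (Q : Set G)).relIndex H := by
    rw [h2, h3]; rfl
  have h6 : Nat.card (Sylow p G) ≡ 1 [MOD p] := card_sylow_modEq_one p G
  have h7 : Nat.card (Sylow p H) ≡ 1 [MOD p] := card_sylow_modEq_one p H
  rw [h1, ← h4, ← h5] at h6
  calc H.index = 1 * H.index := (one_mul _).symm
    _ ≡ Nat.card (Sylow p H) * H.index [MOD p] := (h7.symm).mul_right _
    _ ≡ 1 [MOD p] := h6

theorem num1 {p q : ℕ} (hq : q.Prime) (hqp : q ≤ p) (h : q ≡ 1 [MOD p]) : False := by
  have h1 : p ∣ q - 1 := (Nat.modEq_iff_dvd' hq.one_lt.le).mp h.symm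
  have hq2 := hq.two_le
  have h2 := Nat.le_of_dvd (by omega) h1
  omega

theorem num2 {p q : ℕ} (hp : p.Prime) (hq : q.Prime) (hqp : q ≤ p) (h : q ^ 2 ≡ 1 [MOD p]) :
    q = 2 ∧ p = 3 := by
  have hq2 := hq.two_le
  have h0 : 1 ≤ q ^ 2 := Nat.one_le_pow _ _ (by omega)
  have h1 : p ∣ q ^ 2 - 1 := (Nat.modEq_iff_dvd' h0).mp h.symm
  have h2 : q ^ 2 - 1 = (q - 1) * (q + 1) := by
    obtain ⟨k, rfl⟩ : ∃ k, q = k + 1 := ⟨q - 1, by omega⟩
    simp only [Nat.add_sub_cancel]
    have : (k + 1) ^ 2 = k * (k + 1 + 1) + 1 := by ring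
    omega
  rw [h2] at h1
  rcases (Nat.Prime.dvd_mul hp).mp h1 with h3 | h3
  · have := Nat.le_of_dvd (by omega) h3
    omega
  · have h4 := Nat.le_of_dvd (by omega) h3
    have h5 : p = q ∨ p = q + 1 := by omega
    rcases h5 with h5 | h5
    · subst h5
      have : p ∣ 1 := (Nat.dvd_add_right (dvd_refl p)).mp h3
      have := Nat.le_of_dvd one_pos this
      omega
    · rcases hq.eq_two_or_odd with h6 | h6
      · omega
      · rcases hp.eq_two_or_odd with h7 | h7
        · omega
        · omega

theorem isCoatom_comap_mk {G : Type*} [Group G] (N : Subgroup G) [N.Normal]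
    {M' : Subgroup (G ⧸ N)} (hM' : IsCoatom M') :
    IsCoatom (M'.comap (QuotientGroup.mk' N)) := by
  have hsurj : Function.Surjective (QuotientGroup.mk' N) := QuotientGroup.mk'_surjective N
  constructor
  · intro h
    apply hM'.1
    rw [← Subgroup.map_comap_eq_self_of_surjective hsurj M', h]
    exact Subgroup.map_top_of_surjective _ hsurj
  · intro K hK
    have hker : (QuotientGroup.mk' N).ker ≤ K := by
      refine le_trans ?_ hK.le
      intro x hx
      rw [Subgroup.mem_comap]
      rw [MonoidHom.mem_ker] at hx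
      rw [hx]; exact M'.one_mem
    have h1 : M' < K.map (QuotientGroup.mk' N) := by
      refine lt_of_le_of_ne ?_ ?_
      · rw [← Subgroup.map_comap_eq_self_of_surjective hsurj M']
        exact Subgroup.map_mono hK.le
      · intro h
        apply hK.ne
        apply le_antisymm hK.le
        rw [h]
        exact Subgroup.le_comap_map _ _
    have h2 := hM'.2 _ h1
    rw [← Subgroup.comap_map_eq_self hker, h2, Subgroup.comap_top]

theorem index_eq_relIndex_of_sup_eq_top {G : Type*} [Group G] [Finite G] (M N : Subgroup G)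
    [N.Normal] (h : M ⊔ N = ⊤) : M.index = M.relIndex N := by
  have h1 : N.relIndex M = N.index := by
    rw [← Subgroup.relIndex_sup_right M N, h, Subgroup.relIndex_top_right]
  have h2 : (N ⊓ M).relIndex M * M.index = (N ⊓ M).index :=
    Subgroup.relIndex_mul_index inf_le_right
  have h3 : (N ⊓ M).relIndex N * N.index = (N ⊓ M).index :=
    Subgroup.relIndex_mul_index inf_le_left
  rw [Subgroup.inf_relIndex_right, h1] at h2
  rw [Subgroup.inf_relIndex_left] at h3
  have h4 : N.index ≠ 0 := Subgroup.index_ne_zero_of_finite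
  have h5 : N.index * M.index = N.index * M.relIndex N := by
    rw [h2, ← h3, mul_comm]
  exact Nat.eq_of_mul_eq_mul_left (Nat.pos_of_ne_zero h4) h5

theorem main_aux : ∀ (n : ℕ) (G : Type*) [Group G] [Finite G], Nat.card G = n →
    (∀ M : Subgroup G, IsCoatom M → ∃ p : ℕ, p.Prime ∧ (M.index = p ∨ M.index = p ^ 2)) →
    Group.IsSolvable G := by
  intro n
  induction n using Nat.strong_induction_on with
  | _ n ih =>
  intro G _ _ hn h
  rcases subsingleton_or_nontrivial G with hs | hnt
  · infer_instance
  obtain ⟨N, hNn, hN0, hNmin⟩ := exists_minimal_normal (G := G)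
  haveI := hNn
  have hcardN : 1 < Nat.card N := (Subgroup.one_lt_card_iff_ne_bot N).mpr hN0
  -- quotient is solvable
  have hquot : Group.IsSolvable (G ⧸ N) := by
    apply ih (Nat.card (G ⧸ N)) ?_ (G ⧸ N) rfl
    · intro M' hM'
      obtain ⟨p, hp, hpi⟩ := h _ (isCoatom_comap_mk N hM')
      rw [Subgroup.index_comap_of_surjective _ (QuotientGroup.mk'_surjective N)] at hpi
      exact ⟨p, hp, hpi⟩
    · rw [← hn, ← Subgroup.index_eq_card, ← Subgroup.card_mul_index N]
      have h2 : 0 < N.index := Nat.pos_of_ne_zero Subgroup.index_ne_zero_of_finite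
      nlinarith
  have hne : (Nat.card N).primeFactors.Nonempty := by
    rw [Nat.nonempty_primeFactors]; exact hcardN
  obtain ⟨p, hp_def⟩ : ∃ p, p = (Nat.card N).primeFactors.max' hne := ⟨_, rfl⟩
  have hp_mem : p ∈ (Nat.card N).primeFactors := hp_def ▸ Finset.max'_mem _ _
  have hp : p.Prime := Nat.prime_of_mem_primeFactors hp_mem
  have hpN : p ∣ Nat.card N := Nat.dvd_of_mem_primeFactors hp_mem
  have hmax : ∀ q, q.Prime → q ∣ Nat.card N → q ≤ p := fun q hq hqd =>
    hp_def ▸ Finset.le_max' _ _ (Nat.mem_primeFactors.mpr ⟨hq, hqd, by omega⟩)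
  haveI : Fact p.Prime := ⟨hp⟩
  obtain ⟨P⟩ : Nonempty (Sylow p N) := inferInstance
  obtain ⟨P', hP'⟩ : ∃ P' : Subgroup G, P' = (P : Subgroup N).map N.subtype := ⟨_, rfl⟩
  have hfrat : Subgroup.normalizer (P' : Set G) ⊔ N = ⊤ := by
    rw [hP']; exact Sylow.normalizer_sup_eq_top P
  have hP'N : P' ≤ N := by
    rw [hP']; exact Subgroup.map_subtype_le _
  have hPsub : P'.subgroupOf N = (P : Subgroup N) := by
    rw [hP']
    exact Subgroup.comap_map_eq_self_of_injective (Subgroup.subtype_injective N) _
  have hPne : (P : Subgroup N) ≠ ⊥ := by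
    intro h0
    have := P.card_eq_multiplicity
    rw [h0, Subgroup.card_bot] at this
    have h1 : 0 < (Nat.card N).factorization p :=
      hp.factorization_pos_of_dvd (by omega) hpN
    have h2 : 1 < p ^ (Nat.card N).factorization p := Nat.one_lt_pow h1.ne' hp.one_lt
    omega
  by_cases hK : Subgroup.normalizer (P' : Set G) = ⊤
  · have hP'n : P'.Normal := Subgroup.normalizer_eq_top_iff.mp hK
    rcases hNmin P' hP'n hP'N with h0 | h0
    · exfalso
      apply hPne
      rw [← hPsub, h0]
      exact Subgroup.bot_subgroupOf _ 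
    · have hNp : IsPGroup p N := by
        have h1 : (P : Subgroup N) = ⊤ := by
          rw [← hPsub, h0]; exact Subgroup.subgroupOf_self N
        have h2 := P.2
        rw [h1] at h2
        exact IsPGroup.of_equiv h2 Subgroup.topEquiv
      haveI : Group.IsNilpotent N := hNp.isNilpotent
      haveI : Group.IsSolvable N := inferInstance
      exact Group.isSolvable_of_ker_le_range (N.subtype) (QuotientGroup.mk' N) (by simp)
  · obtain ⟨M, hMco, hKM⟩ := (eq_top_or_exists_le_coatom _).resolve_left hK
    have hMN : M ⊔ N = ⊤ := by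
      rw [eq_top_iff, ← hfrat]
      exact sup_le_sup_right hKM N
    have hMrel : M.index = M.relIndex N := index_eq_relIndex_of_sup_eq_top M N hMN
    have hidx : M.index ≡ 1 [MOD p] := by
      rw [hMrel]
      refine index_modEq_one_of_normalizer_le P (M.subgroupOf N) ?_
      intro x hx
      rw [Subgroup.mem_subgroupOf]
      apply hKM
      have h1 : (Subgroup.normalizer (P' : Set G)).subgroupOf N =
          Subgroup.normalizer ((P'.subgroupOf N : Subgroup N) : Set N) :=
        Subgroup.subgroupOf_normalizer_eq hP'N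
      rw [hPsub] at h1
      have : x ∈ (Subgroup.normalizer (P' : Set G)).subgroupOf N := by rw [h1]; exact hx
      exact Subgroup.mem_subgroupOf.mp this
    have hMdvd : M.index ∣ Nat.card N := hMrel ▸ Subgroup.relIndex_dvd_card _ _
    obtain ⟨q, hq, hqi⟩ := h M hMco
    have hqN : q ∣ Nat.card N := by
      refine dvd_trans ?_ hMdvd
      rcases hqi with h1 | h1
      · rw [h1]
      · rw [h1]; exact dvd_pow_self q two_ne_zero
    have hqp : q ≤ p := hmax q hq hqN
    rcases hqi with h1 | h1
    · exfalso
      rw [h1] at hidx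
      exact num1 hq hqp hidx
    · rw [h1] at hidx
      obtain ⟨hq2, hp3⟩ := num2 hp hq hqp hidx
      have hM4 : M.index = 4 := by rw [h1, hq2]; norm_num
      -- the permutation representation on cosets
      have hcard : Nat.card (G ⧸ M) ≤ 4 := by
        rw [← Subgroup.index_eq_card, hM4]
      have hperm : Group.IsSolvable (Equiv.Perm (G ⧸ M)) := by
        rw [Group.isSolvable_def]
        exact ⟨3, derivedSeries_perm_of_card_le_four hcard⟩
      have hker : (MulAction.toPermHom G (G ⧸ M)).ker ⊓ N = ⊥ := by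
        have hCn : ((MulAction.toPermHom G (G ⧸ M)).ker ⊓ N).Normal := inferInstance
        rcases hNmin _ hCn inf_le_right with h0 | h0
        · exact h0
        · exfalso
          have h2 : N ≤ M := by
            rw [← h0, ← Subgroup.normalCore_eq_ker]
            exact inf_le_left.trans (Subgroup.normalCore_le M)
          apply hMco.1
          rw [← hMN]
          exact (sup_eq_left.mpr h2).symm
      have hinj : Function.Injective
          ((MulAction.toPermHom G (G ⧸ M)).prod (QuotientGroup.mk' N)) := by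
        rw [← MonoidHom.ker_eq_bot_iff, MonoidHom.ker_prod, QuotientGroup.ker_mk']
        exact hker
      exact Group.isSolvable_of_isSolvable_injective hinj


/-- A finite group in which every maximal subgroup has index a prime or the square of a prime is solvable. -/
theorem result {G : Type*} [Group G] [Finite G] (h : ∀ M : Subgroup G, IsCoatom M → ∃ p : ℕ, p.Prime ∧ (M.index = p ∨ M.index = p ^ 2)) : Group.IsSolvable G := by
  exact main_aux (Nat.card G) G rfl h

end Cfsg.Agent.S4203
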