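import Cfsg.Statements.S4204

set_option autoImplicit false
open Cfsg
open scoped commutatorElement

namespace Cfsg.Agent.S4204

variable {G : Type*} [Group G]

def cmod (N C : Subgroup G) [hN : N.Normal] : Subgroup G where
  carrier := {g | ∀ c ∈ C, ⁅g, c⁆ ∈ N}
  one_mem' := by
    intro c _
    rw [commutatorElement_one_left]
    exact N.one_mem
  mul_mem' := by
    intro a b ha hb c hc
    rw [commutatorElement_mul_left_eq_conj_mul]
    exact N.mul_mem (hN.conj_mem _ (hb c hc) a) (ha c hc)
  inv_mem' := by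
    intro a ha c hc
    rw [commutatorElement_inv_left]
    have h1 : ⁅c, a⁆ ∈ N := by
      rw [← commutatorElement_inv]
      exact N.inv_mem (ha c hc)
    have := hN.conj_mem _ h1 a⁻¹
    simpa using this

theorem comm_le_iff (A C N : Subgroup G) [N.Normal] : ⁅A, C⁆ ≤ N ↔ A ≤ cmod N C := by
  rw [Subgroup.commutator_le]
  rfl

def hh (H : Subgroup G) : ℕ → Subgroup G
  | 0 => ⊤
  | (a + 1) => H.lowerCentralSeries a

instance hh_normal (H : Subgroup G) [H.Normal] (a : ℕ) : (hh H a).Normal := by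
  cases a with
  | zero => exact Subgroup.normal_top
  | succ a => exact Subgroup.lowerCentralSeries_normal H a

theorem hh_comm_le (H : Subgroup G) [H.Normal] (a : ℕ) : ⁅hh H a, H⁆ ≤ hh H (a + 1) := by
  cases a with
  | zero => exact Subgroup.commutator_le_right ⊤ H
  | succ a => exact le_rfl

theorem hh_antitone (H : Subgroup G) [H.Normal] : Antitone (hh H) := by
  refine antitone_nat_of_succ_le fun n => ?_
  cases n with
  | zero => exact le_top
  | succ a => exact H.lowerCentralSeries_antitone (Nat.le_succ a)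

def JJ (H K : Subgroup G) (n : ℕ) : Subgroup G :=
  ⨆ a : Fin (n + 2), hh H a ⊓ hh K (n + 1 - a)

instance JJ_normal (H K : Subgroup G) [H.Normal] [K.Normal] (n : ℕ) : (JJ H K n).Normal := by
  unfold JJ
  infer_instance

theorem JJ_step_left (H K : Subgroup G) [H.Normal] [K.Normal] (n : ℕ) :
    ⁅JJ H K n, H⁆ ≤ JJ H K (n + 1) := by
  rw [comm_le_iff]
  show (⨆ a : Fin (n + 2), hh H a ⊓ hh K (n + 1 - a)) ≤ _
  apply iSup_le
  intro a
  rw [← comm_le_iff]
  show _ ≤ ⨆ a : Fin (n + 1 + 2), hh H a ⊓ hh K (n + 1 + 1 - a)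
  have h1 : ⁅hh H a ⊓ hh K (n + 1 - a), H⁆ ≤ hh H (a + 1) ⊓ hh K (n + 1 - a) := by
    apply le_inf
    · exact (Subgroup.commutator_mono inf_le_left le_rfl).trans (hh_comm_le H a)
    · exact (Subgroup.commutator_mono inf_le_right le_rfl).trans (Subgroup.commutator_le_left _ _)
  refine h1.trans ?_
  have h2 : (a : ℕ) + 1 < n + 1 + 2 := by omega
  have := le_iSup (fun b : Fin (n + 1 + 2) => hh H b ⊓ hh K (n + 1 + 1 - b)) ⟨(a : ℕ) + 1, h2⟩
  simp only at this
  have h3 : n + 1 + 1 - ((a : ℕ) + 1) = n + 1 - a := by omega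
  rw [h3] at this
  exact this

theorem JJ_step_right (H K : Subgroup G) [H.Normal] [K.Normal] (n : ℕ) :
    ⁅JJ H K n, K⁆ ≤ JJ H K (n + 1) := by
  rw [comm_le_iff]
  show (⨆ a : Fin (n + 2), hh H a ⊓ hh K (n + 1 - a)) ≤ _
  apply iSup_le
  intro a
  rw [← comm_le_iff]
  show _ ≤ ⨆ a : Fin (n + 1 + 2), hh H a ⊓ hh K (n + 1 + 1 - a)
  have h1 : ⁅hh H a ⊓ hh K (n + 1 - a), K⁆ ≤ hh H a ⊓ hh K (n + 1 - a + 1) := by
    apply le_inf
    · exact (Subgroup.commutator_mono inf_le_left le_rfl).trans (Subgroup.commutator_le_left _ _)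
    · exact (Subgroup.commutator_mono inf_le_right le_rfl).trans (hh_comm_le K _)
  refine h1.trans ?_
  have h2 : (a : ℕ) < n + 1 + 2 := by omega
  have := le_iSup (fun b : Fin (n + 1 + 2) => hh H b ⊓ hh K (n + 1 + 1 - b)) ⟨(a : ℕ), h2⟩
  simp only at this
  have h3 : n + 1 + 1 - (a : ℕ) = n + 1 - a + 1 := by omega
  rw [h3] at this
  exact this

theorem JJ_step (H K : Subgroup G) [H.Normal] [K.Normal] (n : ℕ) :
    ⁅JJ H K n, H ⊔ K⁆ ≤ JJ H K (n + 1) := by
  rw [Subgroup.commutator_comm, comm_le_iff]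
  apply sup_le
  · rw [← comm_le_iff, Subgroup.commutator_comm]
    exact JJ_step_left H K n
  · rw [← comm_le_iff, Subgroup.commutator_comm]
    exact JJ_step_right H K n

theorem lcs_le_JJ (H K : Subgroup G) [H.Normal] [K.Normal] (n : ℕ) :
    (H ⊔ K).lowerCentralSeries n ≤ JJ H K n := by
  induction n with
  | zero =>
    rw [Subgroup.lowerCentralSeries_zero]
    apply sup_le
    · have := le_iSup (fun b : Fin (0 + 2) => hh H b ⊓ hh K (0 + 1 - b)) ⟨1, by omega⟩
      simp only [hh] at this
      unfold JJ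
      refine le_trans ?_ this
      simp
    · have := le_iSup (fun b : Fin (0 + 2) => hh H b ⊓ hh K (0 + 1 - b)) ⟨0, by omega⟩
      simp only [hh] at this
      unfold JJ
      refine le_trans ?_ this
      simp
  | succ n ih =>
    rw [Subgroup.lowerCentralSeries_succ]
    exact (Subgroup.commutator_mono ih le_rfl).trans (JJ_step H K n)

theorem fitting (H K : Subgroup G) [H.Normal] [K.Normal] (c d : ℕ)
    (hH : H.lowerCentralSeries c = ⊥) (hK : K.lowerCentralSeries d = ⊥) :
    (H ⊔ K).lowerCentralSeries (c + d) = ⊥ := by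
  rw [eq_bot_iff]
  refine (lcs_le_JJ H K (c + d)).trans ?_
  unfold JJ
  apply iSup_le
  intro a
  by_cases h : c + 1 ≤ (a : ℕ)
  · have : hh H a ≤ hh H (c + 1) := hh_antitone H h
    refine inf_le_left.trans (this.trans ?_)
    show H.lowerCentralSeries c ≤ ⊥
    rw [hH]
  · have h' : d + 1 ≤ c + d + 1 - (a : ℕ) := by omega
    have : hh K (c + d + 1 - a) ≤ hh K (d + 1) := hh_antitone K h'
    refine inf_le_right.trans (this.trans ?_)
    show K.lowerCentralSeries d ≤ ⊥
    rw [hK]

/-- If `H` and `K` are normal subgroups of a finite group with `H` nilpotent of class at most `c` and `K` nilpotent of class at most `d` (the terms with index `c`, respectively `d`, of their lower central series are trivial, indices starting at `0`), then `HK` is nilpotent of class at most `c + d`. -/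
theorem result {G : Type*} [Group G] [Finite G] (H K : Subgroup G) [H.Normal] [K.Normal] (c d : ℕ) (hH : H.lowerCentralSeries c = ⊥) (hK : K.lowerCentralSeries d = ⊥) : (H ⊔ K).lowerCentralSeries (c + d) = ⊥ := by
  exact fitting H K c d hH hK

end Cfsg.Agent.S4204
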