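import Cfsg.Statements.S4211
import Cfsg.Agent.Lib.Helper29.OddCyclic
import Cfsg.Agent.Lib.helper14.Quat

set_option autoImplicit false
open Cfsg

namespace Cfsg.Agent.S4211

open Cfsg.Agent.Lib.Helper29

theorem mem_zpowers_of_cyclic {C : Type*} [Group C] [Finite C] [IsCyclic C] {p : ℕ} (hp : p.Prime)
    {u z : C} (hu : u ^ p = 1) (hz : orderOf z = p) : u ∈ Subgroup.zpowers z := by
  classical
  have := Fintype.ofFinite C
  have h1 : (Finset.univ.filter (fun a : C => a ^ p = 1)).card ≤ p :=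
    IsCyclic.card_pow_eq_one_le (α := C) hp.pos
  have hsub : (Subgroup.zpowers z : Set C) ⊆ {a : C | a ^ p = 1} := by
    rintro _ ⟨k, rfl⟩
    show (z ^ k) ^ p = 1
    rw [← zpow_natCast, ← zpow_mul, mul_comm, zpow_mul, zpow_natCast, ← hz, pow_orderOf_eq_one,
      one_zpow]
  have hcard : Nat.card ({a : C | a ^ p = 1} : Set C) ≤ Nat.card (Subgroup.zpowers z : Set C) := by
    have e1 : Nat.card (Subgroup.zpowers z : Set C) = p := by
      rw [← hz]; exact Nat.card_zpowers z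
    rw [e1, Nat.card_eq_fintype_card]
    have : Fintype.card ({a : C | a ^ p = 1} : Set C) =
        (Finset.univ.filter (fun a : C => a ^ p = 1)).card := by
      rw [← Fintype.card_subtype]; rfl
    rw [this]; exact h1
  have heq : (Subgroup.zpowers z : Set C) = {a : C | a ^ p = 1} := by
    apply Set.eq_of_subset_of_ncard_le hsub _ (Set.toFinite _)
    rw [← Nat.card_coe_set_eq, ← Nat.card_coe_set_eq]
    exact hcard
  have : u ∈ ({a : C | a ^ p = 1} : Set C) := hu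
  rw [← heq] at this
  exact this

/-- inside a cyclic subgroup `zpowers x`: an element `u` with `u^p = 1` is a power of any
element `z` of order `p` -/
theorem mem_zpowers_of_mem_zpowers {G : Type*} [Group G] [Finite G] {p : ℕ} (hp : p.Prime)
    {x u z : G} (hux : u ∈ Subgroup.zpowers x) (hzx : z ∈ Subgroup.zpowers x)
    (hu : u ^ p = 1) (hz : orderOf z = p) : u ∈ Subgroup.zpowers z := by
  have h := mem_zpowers_of_cyclic (C := Subgroup.zpowers x) hp
    (u := ⟨u, hux⟩) (z := ⟨z, hzx⟩) (Subtype.ext hu) (by rw [← Subgroup.orderOf_coe]; exact hz)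
  obtain ⟨k, hk⟩ := h
  exact ⟨k, congrArg Subtype.val hk⟩

/-- natural exponent version of membership in `zpowers` -/
theorem exists_pow_of_mem_zpowers {G : Type*} [Group G] {p : ℕ} (hp : p ≠ 0) {u z : G}
    (hz : orderOf z = p) (h : u ∈ Subgroup.zpowers z) : ∃ k : ℕ, z ^ k = u := by
  obtain ⟨k, hk⟩ := h
  refine ⟨(k % (p : ℤ)).toNat, ?_⟩
  have h1 : ((k % (p : ℤ)).toNat : ℤ) = k % (p : ℤ) :=
    Int.toNat_of_nonneg (Int.emod_nonneg k (by exact_mod_cast hp))
  have h2 := zpow_mod_orderOf z k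
  rw [hz] at h2
  rw [← zpow_natCast, h1, h2]
  exact hk

theorem tri_dvd (p b : ℕ) (hp : p.Prime) (hb : b ≠ 0) (h : ¬ (p = 2 ∧ b = 1)) :
    p ∣ p ^ b * (p ^ b - 1) / 2 := by
  obtain ⟨b', rfl⟩ := Nat.exists_eq_succ_of_ne_zero hb
  by_cases hp2 : p = 2
  · subst hp2
    have hb' : b' ≠ 0 := by
      intro h0; apply h; exact ⟨rfl, by omega⟩
    obtain ⟨b'', rfl⟩ := Nat.exists_eq_succ_of_ne_zero hb'
    have e : 2 ^ (b'' + 1 + 1) * (2 ^ (b'' + 1 + 1) - 1) / 2 =
        2 * (2 ^ b'' * (2 ^ (b'' + 1 + 1) - 1)) := by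
      have : 2 ^ (b'' + 1 + 1) * (2 ^ (b'' + 1 + 1) - 1) =
          2 * (2 * (2 ^ b'' * (2 ^ (b'' + 1 + 1) - 1))) := by
        rw [pow_succ, pow_succ]; ring
      rw [this, Nat.mul_div_cancel_left _ (by norm_num : 0 < 2)]
    rw [e]
    exact dvd_mul_right _ _
  · have hodd : Odd p := hp.odd_of_ne_two hp2
    have hodd' : Odd (p ^ (b' + 1)) := hodd.pow
    obtain ⟨t, ht⟩ := hodd'
    have e : p ^ (b' + 1) * (p ^ (b' + 1) - 1) / 2 = p ^ (b' + 1) * t := by
      have : p ^ (b' + 1) - 1 = 2 * t := by omega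
      rw [this, ← mul_assoc, mul_comm (p ^ (b' + 1)) 2, mul_assoc,
        Nat.mul_div_cancel_left _ (by norm_num : 0 < 2)]
    rw [e, pow_succ]
    exact Dvd.dvd.mul_right (dvd_mul_left _ _) _

theorem dedekind_core {G : Type*} [Group G] [Finite G] (hn : ∀ H : Subgroup G, H.Normal)
    (x y : G) (hxy : x * y ≠ y * x)
    (hmin : ∀ x' y' : G, x' * y' ≠ y' * x' → orderOf x + orderOf y ≤ orderOf x' + orderOf y')
    (hle : orderOf y ≤ orderOf x) :
    orderOf x = 4 ∧ x ^ 2 = y ^ 2 ∧ y * x * y⁻¹ = x⁻¹ := by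
  obtain ⟨c, hcdef⟩ : ∃ c : G, c = x⁻¹ * y⁻¹ * x * y := ⟨_, rfl⟩
  have hxyc : x * y = y * x * c := by rw [hcdef]; group
  have hcx : c ∈ Subgroup.zpowers x := by
    have h1 : y⁻¹ * x * y⁻¹⁻¹ ∈ Subgroup.zpowers x :=
      (hn (Subgroup.zpowers x)).conj_mem x (Subgroup.mem_zpowers x) y⁻¹
    have h2 : c = x⁻¹ * (y⁻¹ * x * y⁻¹⁻¹) := by rw [hcdef]; group
    rw [h2]
    exact mul_mem (inv_mem (Subgroup.mem_zpowers x)) h1
  have hcy : c ∈ Subgroup.zpowers y := by
    have h1 : x⁻¹ * y⁻¹ * x⁻¹⁻¹ ∈ Subgroup.zpowers y :=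
      (hn (Subgroup.zpowers y)).conj_mem y⁻¹ (inv_mem (Subgroup.mem_zpowers y)) x⁻¹
    have h2 : c = (x⁻¹ * y⁻¹ * x⁻¹⁻¹) * y := by rw [hcdef]; group
    rw [h2]
    exact mul_mem h1 (Subgroup.mem_zpowers y)
  have hc_x : Commute c x := by
    obtain ⟨k, hk⟩ := hcx
    rw [← hk]
    exact (Commute.refl x).zpow_left k
  have hc_y : Commute c y := by
    obtain ⟨k, hk⟩ := hcy
    rw [← hk]
    exact (Commute.refl y).zpow_left k
  have hc1 : c ≠ 1 := by
    intro h
    rw [h, mul_one] at hxyc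
    exact hxy hxyc
  have hx_pow : ∀ n : ℕ, x ^ n * y = y * x ^ n * c ^ n :=
    fun n => pow_mul_comm_of_central hxyc hc_x n
  have hyxc : y * x = x * y * c⁻¹ := by rw [hxyc]; group
  have hy_pow : ∀ n : ℕ, y ^ n * x = x * y ^ n * (c⁻¹) ^ n :=
    fun n => pow_mul_comm_of_central hyxc hc_y.inv_left n
  have hx1 : x ≠ 1 := by rintro rfl; exact hxy (by simp)
  have hy1 : y ≠ 1 := by rintro rfl; exact hxy (by simp)
  have hox : 0 < orderOf x := orderOf_pos x
  have hoy : 0 < orderOf y := orderOf_pos y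
  have hprime_x : ∀ q : ℕ, q.Prime → q ∣ orderOf x → c ^ q = 1 := by
    intro q hq hqx
    have h1 : orderOf (x ^ q) = orderOf x / q := orderOf_pow_of_dvd hq.ne_zero hqx
    have h2 : orderOf x / q < orderOf x := Nat.div_lt_self hox hq.one_lt
    have h3 : x ^ q * y = y * x ^ q := by
      by_contra h
      have := hmin (x ^ q) y h
      omega
    have h4 := hx_pow q
    rw [h3] at h4
    exact (mul_eq_left.mp h4.symm)
  have hprime_y : ∀ q : ℕ, q.Prime → q ∣ orderOf y → c ^ q = 1 := by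
    intro q hq hqy
    have h1 : orderOf (y ^ q) = orderOf y / q := orderOf_pow_of_dvd hq.ne_zero hqy
    have h2 : orderOf y / q < orderOf y := Nat.div_lt_self hoy hq.one_lt
    have h3 : y ^ q * x = x * y ^ q := by
      by_contra h
      have := hmin x (y ^ q) (fun h' => h h'.symm)
      omega
    have h4 := hy_pow q
    rw [h3] at h4
    have h5 : (c⁻¹) ^ q = 1 := mul_eq_left.mp h4.symm
    rw [inv_pow, inv_eq_one] at h5
    exact h5
  -- the prime
  have hcq : ∀ q : ℕ, q.Prime → c ^ q = 1 → orderOf c = q := by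
    intro q hq h
    have := orderOf_dvd_of_pow_eq_one h
    rcases (Nat.dvd_prime hq).mp this with h1 | h1
    · exact absurd (orderOf_eq_one_iff.mp h1) hc1
    · exact h1
  obtain ⟨p, hpdef⟩ : ∃ p : ℕ, p = orderOf c := ⟨_, rfl⟩
  have hox1 : orderOf x ≠ 1 := fun h => hx1 (orderOf_eq_one_iff.mp h)
  have hoy1 : orderOf y ≠ 1 := fun h => hy1 (orderOf_eq_one_iff.mp h)
  have hp : p.Prime := by
    obtain ⟨q, hq, hqx⟩ := Nat.exists_prime_and_dvd hox1
    rw [hpdef, hcq q hq (hprime_x q hq hqx)]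
    exact hq
  have hpx : ∀ {q : ℕ}, q.Prime → q ∣ orderOf x → q = p := by
    intro q hq hqx
    rw [hpdef, hcq q hq (hprime_x q hq hqx)]
  have hpy : ∀ {q : ℕ}, q.Prime → q ∣ orderOf y → q = p := by
    intro q hq hqy
    rw [hpdef, hcq q hq (hprime_y q hq hqy)]
  obtain ⟨α, hα⟩ : ∃ α : ℕ, orderOf x = p ^ α :=
    ⟨_, Nat.eq_prime_pow_of_unique_prime_dvd hox.ne' hpx⟩
  obtain ⟨β, hβ⟩ : ∃ β : ℕ, orderOf y = p ^ β :=
    ⟨_, Nat.eq_prime_pow_of_unique_prime_dvd hoy.ne' hpy⟩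
  have hα0 : α ≠ 0 := by rintro rfl; exact hox1 (by rw [hα, pow_zero])
  have hβ0 : β ≠ 0 := by rintro rfl; exact hoy1 (by rw [hβ, pow_zero])
  have hβα : β ≤ α := by
    rw [hα, hβ] at hle
    exact (Nat.pow_le_pow_iff_right hp.one_lt).mp hle
  obtain ⟨a, rfl⟩ := Nat.exists_eq_add_one_of_ne_zero hα0
  obtain ⟨b, rfl⟩ := Nat.exists_eq_add_one_of_ne_zero hβ0
  have hba : b ≤ a := by omega
  have hcp : c ^ p = 1 := by rw [hpdef]; exact pow_orderOf_eq_one c
  -- X and Y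
  have hoX : orderOf (x ^ p ^ a) = p := by
    rw [orderOf_pow_of_dvd (pow_ne_zero _ hp.ne_zero) (by rw [hα]; exact pow_dvd_pow p (by omega)),
      hα, pow_succ, Nat.mul_div_cancel_left _ (pow_pos hp.pos a)]
  have hoY : orderOf (y ^ p ^ b) = p := by
    rw [orderOf_pow_of_dvd (pow_ne_zero _ hp.ne_zero) (by rw [hβ]; exact pow_dvd_pow p (by omega)),
      hβ, pow_succ, Nat.mul_div_cancel_left _ (pow_pos hp.pos b)]
  have hcX : c ∈ Subgroup.zpowers (x ^ p ^ a) :=
    mem_zpowers_of_mem_zpowers hp hcx (Subgroup.pow_mem _ (Subgroup.mem_zpowers x) _) hcp hoX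
  have hYp : (y ^ p ^ b) ^ p = 1 := by
    have := pow_orderOf_eq_one (y ^ p ^ b)
    rwa [hoY] at this
  have hYc : y ^ p ^ b ∈ Subgroup.zpowers c :=
    mem_zpowers_of_mem_zpowers hp (Subgroup.pow_mem _ (Subgroup.mem_zpowers y) _) hcy
      hYp hpdef.symm
  have hYX : y ^ p ^ b ∈ Subgroup.zpowers (x ^ p ^ a) :=
    (Subgroup.zpowers_le.mpr hcX) hYc
  obtain ⟨k, hk⟩ := exists_pow_of_mem_zpowers hp.ne_zero hoX hYX
  -- w
  obtain ⟨N, hN⟩ : ∃ N : ℕ, N = k * p ^ (a - b) := ⟨_, rfl⟩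
  obtain ⟨w, hw⟩ : ∃ w : G, w = x ^ N := ⟨_, rfl⟩
  have hwpow : w ^ p ^ b = y ^ p ^ b := by
    rw [hw, ← pow_mul, hN, ← hk, ← pow_mul]
    congr 1
    have : p ^ (a - b) * p ^ b = p ^ a := by rw [← pow_add]; congr 1; omega
    rw [mul_assoc, this, mul_comm]
  have hwx : Commute w x := by rw [hw]; exact (Commute.refl x).pow_left N
  have hne : x * (w⁻¹ * y) ≠ (w⁻¹ * y) * x := by
    intro h
    apply hxy
    have h1 : x * (w⁻¹ * y) = w⁻¹ * (x * y) := by
      rw [← mul_assoc, ← mul_assoc, (hwx.inv_left).eq]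
    rw [h1, mul_assoc] at h
    exact mul_left_cancel h
  have hord := hmin x (w⁻¹ * y) hne
  have hord' : orderOf y ≤ orderOf (w⁻¹ * y) := by omega
  -- the relation between w⁻¹ and y
  have hrel : y * w⁻¹ = w⁻¹ * y * c ^ N := by
    have h1 := hx_pow N
    rw [← hw] at h1
    have hcw : Commute (c ^ N) w := by
      rw [hw]; exact (hc_x.pow_left N).pow_right N
    calc y * w⁻¹ = w⁻¹ * (w * y) * w⁻¹ := by group
      _ = w⁻¹ * (y * w * c ^ N) * w⁻¹ := by rw [h1]
      _ = w⁻¹ * y * (w * c ^ N) * w⁻¹ := by group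
      _ = w⁻¹ * y * (c ^ N * w) * w⁻¹ := by rw [hcw.eq]
      _ = w⁻¹ * y * c ^ N := by group
  have hcNw : Commute (c ^ N) w⁻¹ := by
    rw [hw]; exact ((hc_x.pow_left N).pow_right N).inv_right
  have hcNy : Commute (c ^ N) y := hc_y.pow_left N
  have hpow := mul_pow_of_central hrel hcNw hcNy (p ^ b)
  have hpow' : (w⁻¹ * y) ^ p ^ b = c ^ (N * (p ^ b * (p ^ b - 1) / 2)) := by
    rw [hpow, inv_pow, hwpow, inv_mul_cancel, one_mul, ← pow_mul]
  have hndvd : ¬ p ∣ N * (p ^ b * (p ^ b - 1) / 2) := by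
    intro hd
    obtain ⟨t, ht⟩ := hd
    have h1 : (w⁻¹ * y) ^ p ^ b = 1 := by
      rw [hpow', ht, pow_mul, hcp, one_pow]
    have h2 : orderOf (w⁻¹ * y) ∣ p ^ b := orderOf_dvd_of_pow_eq_one h1
    have h3 : orderOf (w⁻¹ * y) ≤ p ^ b := Nat.le_of_dvd (pow_pos hp.pos b) h2
    have h4 : p ^ b < p ^ (b + 1) := Nat.pow_lt_pow_right hp.one_lt (by omega)
    rw [hβ] at hord'
    omega
  have hab : a = b := by
    by_contra hab
    apply hndvd
    have : p ∣ p ^ (a - b) := dvd_pow_self p (by omega)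
    rw [hN]
    exact Dvd.dvd.mul_right (Dvd.dvd.mul_left this k) _
  subst hab
  have hb0 : a ≠ 0 := by
    rintro rfl
    apply hndvd
    simp
  have hp2b : p = 2 ∧ a = 1 := by
    by_contra h
    apply hndvd
    exact Dvd.dvd.mul_left (tri_dvd p a hp hb0 h) N
  obtain ⟨rfl, rfl⟩ := hp2b
  have hx4 : orderOf x = 4 := by rw [hα]; norm_num
  have hy4 : orderOf y = 4 := by rw [hβ]; norm_num
  have hx4' : x ^ 4 = 1 := by rw [← hx4]; exact pow_orderOf_eq_one x
  -- c = x^2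
  have hX2 : orderOf (x ^ 2) = 2 := by simpa using hoX
  have hY2 : orderOf (y ^ 2) = 2 := by simpa using hoY
  have hcx2 : c = x ^ 2 := by
    have hcX' : c ∈ Subgroup.zpowers (x ^ 2) := by simpa using hcX
    obtain ⟨j, hj⟩ := Subgroup.mem_zpowers_iff.mp hcX'
    have h2 : (x ^ 2) ^ (j % 2) = (x ^ 2) ^ j := by
      have := zpow_mod_orderOf (x ^ 2) j
      rw [hX2] at this
      exact_mod_cast this
    rcases Int.emod_two_eq_zero_or_one j with h | h
    · exfalso
      rw [h, zpow_zero] at h2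
      apply hc1
      rw [← hj, ← h2]
    · rw [h, zpow_one] at h2
      rw [← hj, ← h2]
  have hcy2 : y ^ 2 = c := by
    have hYc' : y ^ 2 ∈ Subgroup.zpowers c := by simpa using hYc
    obtain ⟨j, hj⟩ := Subgroup.mem_zpowers_iff.mp hYc'
    have h2 : c ^ (j % 2) = c ^ j := by
      have := zpow_mod_orderOf c j
      rw [← hpdef] at this
      exact_mod_cast this
    rcases Int.emod_two_eq_zero_or_one j with h | h
    · exfalso
      rw [h, zpow_zero] at h2
      have : y ^ 2 = 1 := by rw [← hj, ← h2]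
      have h3 := orderOf_dvd_of_pow_eq_one this
      rw [hy4] at h3
      omega
    · rw [h, zpow_one] at h2
      rw [← hj, ← h2]
  refine ⟨hx4, by rw [← hcx2, hcy2], ?_⟩
  -- y x y⁻¹ = x⁻¹
  have h1 : y⁻¹ * x * y = x⁻¹ := by
    have : y⁻¹ * x * y = x * c := by rw [hcdef]; group
    rw [this, hcx2]
    have : x * x ^ 2 = x ^ 4 * x⁻¹ := by group
    rw [this, hx4', one_mul]
  have h2 : x = y * x⁻¹ * y⁻¹ := by rw [← h1]; group
  calc y * x * y⁻¹ = (y * x⁻¹ * y⁻¹)⁻¹ := by group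
    _ = x⁻¹ := by rw [← h2]

theorem dedekind_pair {G : Type*} [Group G] [Finite G] (hn : ∀ H : Subgroup G, H.Normal)
    (hna : ∃ a b : G, a * b ≠ b * a) :
    ∃ x y : G, orderOf x = 4 ∧ x ^ 2 = y ^ 2 ∧ y * x * y⁻¹ = x⁻¹ := by
  obtain ⟨a, b, hab⟩ := hna
  have : Nonempty {q : G × G // q.1 * q.2 ≠ q.2 * q.1} := ⟨⟨(a, b), hab⟩⟩
  obtain ⟨⟨⟨x, y⟩, hxy⟩, hmin⟩ := Finite.exists_min
    (fun q : {q : G × G // q.1 * q.2 ≠ q.2 * q.1} => orderOf q.1.1 + orderOf q.1.2)
  have hmin' : ∀ x' y' : G, x' * y' ≠ y' * x' →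
      orderOf x + orderOf y ≤ orderOf x' + orderOf y' := fun x' y' h => hmin ⟨(x', y'), h⟩
  rcases le_total (orderOf y) (orderOf x) with hle | hle
  · exact ⟨x, y, dedekind_core hn x y hxy hmin' hle⟩
  · have hyx : y * x ≠ x * y := fun h => hxy h.symm
    have hmin'' : ∀ x' y' : G, x' * y' ≠ y' * x' →
        orderOf y + orderOf x ≤ orderOf x' + orderOf y' := fun x' y' h => by
      have := hmin' x' y' h; omega
    exact ⟨y, x, dedekind_core hn y x hyx hmin'' hle⟩

theorem mem_cn {P : Type*} [Group P] {u g : P} :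
    g ∈ Subgroup.centralizer ({u} : Set P) ↔ g * u = u * g :=
  Subgroup.mem_centralizer_singleton_iff

theorem zpow_eq_pow_lt_four {G : Type*} [Group G] (u : G) (hu : u ^ 4 = 1) (k : ℤ) :
    ∃ r : ℕ, r < 4 ∧ u ^ k = u ^ r := by
  refine ⟨(k % 4).toNat, ?_, ?_⟩
  · have h1 : 0 ≤ k % 4 := Int.emod_nonneg k (by norm_num)
    have h2 : k % 4 < 4 := Int.emod_lt_of_pos k (by norm_num)
    omega
  · have h1 : ((k % 4).toNat : ℤ) = k % 4 := Int.toNat_of_nonneg (Int.emod_nonneg k (by norm_num))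
    have h2 : k = 4 * (k / 4) + k % 4 := (Int.mul_ediv_add_emod k 4).symm
    have h3 : u ^ (4 : ℤ) = 1 := by
      rw [show (4 : ℤ) = ((4 : ℕ) : ℤ) from rfl, zpow_natCast]; exact hu
    rw [← zpow_natCast, h1]
    conv_lhs => rw [h2]
    rw [zpow_add, zpow_mul, h3, one_zpow, one_mul]

/-- conjugates of an element of order 4 in a Dedekind group -/
theorem conj_four {G : Type*} [Group G] (hn : ∀ H : Subgroup G, H.Normal) (u g : G)
    (hu4 : u ^ 4 = 1) (hu2 : u ^ 2 ≠ 1) : g * u * g⁻¹ = u ∨ g * u * g⁻¹ = u⁻¹ := by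
  have h1 : g * u * g⁻¹ ∈ Subgroup.zpowers u :=
    (hn (Subgroup.zpowers u)).conj_mem u (Subgroup.mem_zpowers u) g
  obtain ⟨k, hk⟩ := Subgroup.mem_zpowers_iff.mp h1
  obtain ⟨r, hr, hkr⟩ := zpow_eq_pow_lt_four u hu4 k
  rw [hkr] at hk
  have hu1 : u ≠ 1 := by
    rintro rfl
    exact hu2 (one_pow 2)
  interval_cases r
  · exfalso
    rw [pow_zero] at hk
    apply hu1
    have : u = g⁻¹ * (g * u * g⁻¹) * g := by group
    rw [this, ← hk]; group
  · left; rw [← hk, pow_one]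
  · exfalso
    apply hu2
    have h2 : (g * u * g⁻¹) ^ 2 = 1 := by
      rw [← hk, ← pow_mul]; exact hu4
    rw [conj_pow] at h2
    have : u ^ 2 = g⁻¹ * (g * u ^ 2 * g⁻¹) * g := by group
    rw [this, h2]; group
  · right
    rw [← hk]
    have : u ^ 3 * u = 1 := by rw [← pow_succ]; exact hu4
    exact eq_inv_of_mul_eq_one_left this

theorem quat_pow_four : ∀ q : QuaternionGroup 2, q ^ 4 = 1 := by decide

theorem quat_sq_eq_one : ∀ q : QuaternionGroup 2, q ^ 2 = 1 → q = 1 ∨ q = QuaternionGroup.a 2 := by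
  decide

open Cfsg.Agent.Lib.helper14 in
theorem hamiltonian {G : Type*} [Group G] [Finite G] (hna : ¬ IsMulCommutative G)
    (hn : ∀ H : Subgroup G, H.Normal) :
    ∃ Q E A : Subgroup G, Nonempty (Q ≃* QuaternionGroup 2) ∧
      (IsMulCommutative E ∧ ∀ a ∈ E, a ^ 2 = 1) ∧ IsMulCommutative A ∧ Odd (Nat.card A) ∧
      E ⊓ A = ⊥ ∧ Q ⊓ (E ⊔ A) = ⊥ ∧ Q ⊔ (E ⊔ A) = ⊤ := by
  have hna' : ∃ a b : G, a * b ≠ b * a := by
    by_contra h
    push Not at h
    exact hna ⟨⟨h⟩⟩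
  obtain ⟨x, y, hx4, hsq, hinv⟩ := dedekind_pair hn hna'
  obtain ⟨c, hc⟩ : ∃ c : G, c = x ^ 2 := ⟨_, rfl⟩
  have hx4' : x ^ 4 = 1 := by rw [← hx4]; exact pow_orderOf_eq_one x
  have hc1 : c ≠ 1 := by
    intro h
    rw [hc] at h
    have := orderOf_dvd_of_pow_eq_one h
    rw [hx4] at this
    omega
  have hc2 : c ^ 2 = 1 := by rw [hc, ← pow_mul]; exact hx4'
  have hcy : c = y ^ 2 := by rw [hc, hsq]
  have hy4' : y ^ 4 = 1 := by
    have : y ^ 4 = (y ^ 2) ^ 2 := by rw [← pow_mul]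
    rw [this, ← hcy, hc2]
  have hy2 : y ^ 2 ≠ 1 := by rw [← hcy]; exact hc1
  have hx2 : x ^ 2 ≠ 1 := by rw [← hc]; exact hc1
  -- relations
  have hyx : y⁻¹ * x * y = x⁻¹ := by
    have h1 : x = y⁻¹ * x⁻¹ * y := by
      calc x = y⁻¹ * (y * x * y⁻¹) * y := by group
        _ = y⁻¹ * x⁻¹ * y := by rw [hinv]
    have : x⁻¹ = (y⁻¹ * x⁻¹ * y)⁻¹ := by rw [← h1]
    rw [this]; group
  have hxy : x * y * x⁻¹ = y⁻¹ := by
    have h1 : y * x = x⁻¹ * y := by
      have : y * x = (y * x * y⁻¹) * y := by group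
      rw [this, hinv]
    have h2 : x * y * x⁻¹ = y * x⁻¹ ^ 2 := by
      have : x * y = y * x⁻¹ := by
        have : x * y = x * (y * x) * x⁻¹ := by group
        rw [this, h1]; group
      rw [this]; group
    have h3 : x⁻¹ ^ 2 = y ^ 2 := by
      rw [inv_pow, ← hsq]
      have : x ^ 2 * x ^ 2 = 1 := by rw [← pow_add]; exact hx4'
      exact inv_eq_of_mul_eq_one_left this
    rw [h2, h3]
    have : y * y ^ 2 * y = 1 := by
      have : y * y ^ 2 * y = y ^ 4 := by group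
      rw [this, hy4']
    exact eq_inv_of_mul_eq_one_left this
  have hxy' : x⁻¹ * y * x = y⁻¹ := by
    have h1 : y = x⁻¹ * y⁻¹ * x := by
      calc y = x⁻¹ * (x * y * x⁻¹) * x := by group
        _ = x⁻¹ * y⁻¹ * x := by rw [hxy]
    have : y⁻¹ = (x⁻¹ * y⁻¹ * x)⁻¹ := by rw [← h1]
    rw [this]; group
  -- Q
  obtain ⟨hQcard, ⟨eQ⟩⟩ := quaternion_closure 2 (by norm_num) x y (by rw [hx4])
    (by rw [← pow_two, hsq]) hinv
  obtain ⟨Q, hQ⟩ : ∃ Q : Subgroup G, Q = Subgroup.closure ({x, y} : Set G) := ⟨_, rfl⟩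
  rw [← hQ] at eQ hQcard
  have hxQ : x ∈ Q := by rw [hQ]; exact Subgroup.subset_closure (by simp)
  have hyQ : y ∈ Q := by rw [hQ]; exact Subgroup.subset_closure (by simp)
  have hcQ : c ∈ Q := by rw [hc]; exact pow_mem hxQ 2
  have hQ4 : ∀ u ∈ Q, u ^ 4 = 1 := by
    intro u hu
    have := quat_pow_four (eQ ⟨u, hu⟩)
    rw [← map_pow] at this
    have h2 := eQ.injective (this.trans (map_one eQ).symm)
    exact congrArg Subtype.val h2
  have hQinv : ∀ u ∈ Q, u ^ 2 = 1 → u = 1 ∨ u = c := by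
    have hcimg : eQ ⟨c, hcQ⟩ = QuaternionGroup.a 2 := by
      have h1 : (eQ ⟨c, hcQ⟩) ^ 2 = 1 := by
        rw [← map_pow]
        have : (⟨c, hcQ⟩ : Q) ^ 2 = 1 := Subtype.ext hc2
        rw [this, map_one]
      rcases quat_sq_eq_one _ h1 with h | h
      · exfalso
        apply hc1
        have h2 := eQ.injective (h.trans (map_one eQ).symm)
        exact congrArg Subtype.val h2
      · exact h
    intro u hu hu2
    have h1 : (eQ ⟨u, hu⟩) ^ 2 = 1 := by
      rw [← map_pow]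
      have : (⟨u, hu⟩ : Q) ^ 2 = 1 := Subtype.ext hu2
      rw [this, map_one]
    rcases quat_sq_eq_one _ h1 with h | h
    · left
      have h2 := eQ.injective (h.trans (map_one eQ).symm)
      exact congrArg Subtype.val h2
    · right
      have h2 := eQ.injective (h.trans hcimg.symm)
      exact congrArg Subtype.val h2
  -- C
  obtain ⟨C, hC⟩ : ∃ C : Subgroup G, C = Subgroup.centralizer ({x} : Set G) ⊓
      Subgroup.centralizer ({y} : Set G) := ⟨_, rfl⟩
  have memC : ∀ g : G, g ∈ C ↔ g * x = x * g ∧ g * y = y * g := by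
    intro g
    rw [hC, Subgroup.mem_inf, mem_cn, mem_cn]
  -- Claim 1
  have claim1 : ∀ g : G, ∃ q ∈ Q, q⁻¹ * g ∈ C := by
    intro g
    rcases conj_four hn x g hx4' hx2 with h1 | h1 <;>
    rcases conj_four hn y g hy4' hy2 with h2 | h2
    · refine ⟨1, one_mem _, ?_⟩
      rw [memC]
      constructor
      · calc 1⁻¹ * g * x = (g * x * g⁻¹) * g := by group
          _ = x * (1⁻¹ * g) := by rw [h1]; group
      · calc 1⁻¹ * g * y = (g * y * g⁻¹) * g := by group
          _ = y * (1⁻¹ * g) := by rw [h2]; group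
    · refine ⟨x, hxQ, ?_⟩
      rw [memC]
      constructor
      · calc x⁻¹ * g * x = x⁻¹ * (g * x * g⁻¹) * g := by group
          _ = x * (x⁻¹ * g) := by rw [h1]; group
      · calc x⁻¹ * g * y = x⁻¹ * (g * y * g⁻¹) * g := by group
          _ = x⁻¹ * y⁻¹ * g := by rw [h2]
          _ = (x⁻¹ * y * x)⁻¹ * x⁻¹ * g := by group
          _ = y * (x⁻¹ * g) := by rw [hxy']; group
    · refine ⟨y, hyQ, ?_⟩
      rw [memC]
      constructor
      · calc y⁻¹ * g * x = y⁻¹ * (g * x * g⁻¹) * g := by group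
          _ = y⁻¹ * x⁻¹ * g := by rw [h1]
          _ = (y⁻¹ * x * y)⁻¹ * y⁻¹ * g := by group
          _ = x * (y⁻¹ * g) := by rw [hyx]; group
      · calc y⁻¹ * g * y = y⁻¹ * (g * y * g⁻¹) * g := by group
          _ = y * (y⁻¹ * g) := by rw [h2]; group
    · refine ⟨x * y, mul_mem hxQ hyQ, ?_⟩
      rw [memC]
      constructor
      · calc (x * y)⁻¹ * g * x = y⁻¹ * x⁻¹ * (g * x * g⁻¹) * g := by group
          _ = y⁻¹ * x⁻¹ * x⁻¹ * g := by rw [h1]
          _ = (y⁻¹ * x * y)⁻¹ * y⁻¹ * x⁻¹ * g := by group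
          _ = x * ((x * y)⁻¹ * g) := by rw [hyx]; group
      · calc (x * y)⁻¹ * g * y = y⁻¹ * x⁻¹ * (g * y * g⁻¹) * g := by group
          _ = y⁻¹ * x⁻¹ * y⁻¹ * g := by rw [h2]
          _ = y⁻¹ * (x⁻¹ * y * x)⁻¹ * x⁻¹ * g := by group
          _ = y * ((x * y)⁻¹ * g) := by rw [hxy']; group
  -- Claim 2
  have claim2 : ∀ g ∈ C, g ^ 4 = 1 → g ^ 2 = 1 := by
    intro g hg hg4
    obtain ⟨hgx, hgy⟩ := (memC g).mp hg
    have hcomm : Commute g y := hgy
    have hgy4 : (g * y) ^ 4 = 1 := by rw [hcomm.mul_pow, hg4, hy4', one_mul]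
    have h1 : x * (g * y) * x⁻¹ ∈ Subgroup.zpowers (g * y) :=
      (hn (Subgroup.zpowers (g * y))).conj_mem _ (Subgroup.mem_zpowers _) x
    have h2 : x * (g * y) * x⁻¹ = g * y⁻¹ := by
      calc x * (g * y) * x⁻¹ = (x * g) * y * x⁻¹ := by group
        _ = (g * x) * y * x⁻¹ := by rw [hgx]
        _ = g * (x * y * x⁻¹) := by group
        _ = g * y⁻¹ := by rw [hxy]
    rw [h2] at h1
    obtain ⟨k, hk⟩ := Subgroup.mem_zpowers_iff.mp h1
    obtain ⟨r, hr, hkr⟩ := zpow_eq_pow_lt_four (g * y) hgy4 k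
    rw [hkr, hcomm.mul_pow] at hk
    have hynx : ¬ (y * x = x * y) := by
      intro h
      have : y⁻¹ * x * y = x := by rw [mul_assoc, ← h]; group
      rw [hyx] at this
      apply hx2
      have h3 : x * x = 1 := by
        calc x * x = x * x⁻¹⁻¹ := by group
          _ = x * (x⁻¹)⁻¹ := rfl
          _ = 1 := by rw [this]; group
      rw [pow_two]; exact h3
    interval_cases r
    · -- g y⁻¹ = 1
      exfalso
      rw [pow_zero, pow_zero, one_mul] at hk
      have : g = y := by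
        have : g = (g * y⁻¹) * y := by group
        rw [this, ← hk, one_mul]
      rw [this] at hgx
      exact hynx hgx
    · -- g y⁻¹ = g y
      exfalso
      rw [pow_one, pow_one] at hk
      have : y = y⁻¹ := mul_left_cancel hk
      apply hy2
      rw [pow_two]
      calc y * y = y * y⁻¹ := by rw [← this]
        _ = 1 := by group
    · -- g y⁻¹ = g² y²
      exfalso
      have : g = y⁻¹ * (y ^ 2)⁻¹ := by
        have h3 : g * y⁻¹ = g * (g * y ^ 2) := by rw [← hk, pow_two]; group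
        have h4 : y⁻¹ = g * y ^ 2 := mul_left_cancel h3
        rw [h4]; group
      have hy3 : g = y⁻¹ ^ 3 := by rw [this]; group
      rw [hy3] at hgx
      apply hynx
      have h5 : y = (y⁻¹ ^ 3) * y ^ 4 := by group
      rw [hy4', mul_one] at h5
      rw [h5]; exact hgx
    · -- g y⁻¹ = g³ y³
      have hy3 : y ^ 3 = y⁻¹ := by
        have : y ^ 3 * y = 1 := by rw [← pow_succ]; exact hy4'
        exact eq_inv_of_mul_eq_one_left this
      rw [hy3] at hk
      have h3 : g ^ 3 = g := mul_right_cancel hk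
      have h4 : g ^ 3 = g * g ^ 2 := by group
      rw [h4] at h3
      exact mul_eq_left.mp h3
  have claim2' : ∀ j : ℕ, ∀ g ∈ C, g ^ 2 ^ j = 1 → g ^ 2 = 1 := by
    intro j
    induction j with
    | zero =>
      intro g _ hg
      rw [pow_zero, pow_one] at hg
      rw [hg, one_pow]
    | succ j ih =>
      intro g hg hgp
      cases j with
      | zero => simpa using hgp
      | succ j' =>
        have h4 : (g ^ 2 ^ j') ^ 4 = 1 := by
          rw [← pow_mul]
          have : 2 ^ j' * 4 = 2 ^ (j' + 1 + 1) := by rw [pow_succ, pow_succ]; ring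
          rw [this]; exact hgp
        have h2 := claim2 _ (pow_mem hg _) h4
        rw [← pow_mul, ← pow_succ] at h2
        exact ih g hg h2
  -- Claim 3: C abelian
  have claim3 : ∀ g ∈ C, ∀ h ∈ C, g * h = h * g := by
    by_contra hcon
    push Not at hcon
    obtain ⟨g, hg, h, hh, hgh⟩ := hcon
    have hnC : ∀ H : Subgroup C, H.Normal := by
      intro H
      constructor
      intro n hnH g'
      have h1 := (hn (H.map C.subtype)).conj_mem (n : G) ⟨n, hnH, rfl⟩ (g' : G)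
      obtain ⟨n', hn', hn'eq⟩ := h1
      have : n' = g' * n * g'⁻¹ := Subtype.ext (by simpa using hn'eq)
      rw [← this]; exact hn'
    obtain ⟨x', y', hx'4, _, _⟩ := dedekind_pair hnC
      ⟨⟨g, hg⟩, ⟨h, hh⟩, fun e => hgh (congrArg Subtype.val e)⟩
    have h1 : ((x' : C) : G) ^ 4 = 1 := by
      have : x' ^ 4 = 1 := by rw [← hx'4]; exact pow_orderOf_eq_one x'
      exact congrArg Subtype.val this
    have h2 := claim2 _ x'.2 h1
    have h3 : x' ^ 2 = 1 := Subtype.ext h2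
    have := orderOf_dvd_of_pow_eq_one h3
    rw [hx'4] at this
    omega
  -- odd part
  obtain ⟨e, he⟩ : ∃ e : ℕ, e = (Nat.card G).factorization 2 := ⟨_, rfl⟩
  obtain ⟨m, hm⟩ : ∃ m : ℕ, m = Nat.card G / 2 ^ e := ⟨_, rfl⟩
  have hcardG : 2 ^ e * m = Nat.card G := by
    rw [hm, he]; exact Nat.ordProj_mul_ordCompl_eq_self _ 2
  have hmodd : Odd m := by
    have : ¬ 2 ∣ m := by
      rw [hm, he]; exact Nat.not_dvd_ordCompl Nat.prime_two Nat.card_pos.ne'
    exact Nat.odd_iff.mpr (Nat.two_dvd_ne_zero.mp this)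
  have hcop : Nat.Coprime (2 ^ e) m :=
    Nat.Coprime.pow_left _ (Nat.coprime_two_left.mpr hmodd)
  -- D and A
  let D : Subgroup G :=
    { carrier := {g | g ∈ C ∧ g ^ 2 = 1}
      one_mem' := ⟨one_mem _, one_pow _⟩
      mul_mem' := by
        rintro a b ⟨ha, ha2⟩ ⟨hb, hb2⟩
        refine ⟨mul_mem ha hb, ?_⟩
        have : Commute a b := claim3 a ha b hb
        rw [this.mul_pow, ha2, hb2, one_mul]
      inv_mem' := by
        rintro a ⟨ha, ha2⟩
        exact ⟨inv_mem ha, by rw [inv_pow, ha2, inv_one]⟩ }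
  let A : Subgroup G :=
    { carrier := {g | g ∈ C ∧ g ^ m = 1}
      one_mem' := ⟨one_mem _, one_pow _⟩
      mul_mem' := by
        rintro a b ⟨ha, ha2⟩ ⟨hb, hb2⟩
        refine ⟨mul_mem ha hb, ?_⟩
        have : Commute a b := claim3 a ha b hb
        rw [this.mul_pow, ha2, hb2, one_mul]
      inv_mem' := by
        rintro a ⟨ha, ha2⟩
        exact ⟨inv_mem ha, by rw [inv_pow, ha2, inv_one]⟩ }
  have memD : ∀ g : G, g ∈ D ↔ g ∈ C ∧ g ^ 2 = 1 := fun g => Iff.rfl
  have memA : ∀ g : G, g ∈ A ↔ g ∈ C ∧ g ^ m = 1 := fun g => Iff.rfl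
  have hcC : c ∈ C := by
    rw [memC]
    constructor
    · rw [hc]; group
    · rw [hcy]; group
  have hcD : c ∈ D := (memD c).mpr ⟨hcC, hc2⟩
  -- decomposition of C
  have decomp : ∀ g ∈ C, ∃ d ∈ D, ∃ a ∈ A, g = d * a := by
    intro g hg
    obtain ⟨N1, hN1a, hN1b⟩ := Nat.chineseRemainder hcop 1 0
    obtain ⟨N2, hN2a, hN2b⟩ := Nat.chineseRemainder hcop 0 1
    have hgcard : g ^ Nat.card G = 1 := pow_card_eq_one'
    have hd2e : (g ^ N1) ^ 2 ^ e = 1 := by
      obtain ⟨t, ht⟩ := (Nat.modEq_zero_iff_dvd.mp hN1b)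
      have : N1 * 2 ^ e = Nat.card G * t := by rw [ht, ← hcardG]; ring
      rw [← pow_mul, this, pow_mul, hgcard, one_pow]
    have ham : (g ^ N2) ^ m = 1 := by
      obtain ⟨t, ht⟩ := (Nat.modEq_zero_iff_dvd.mp hN2a)
      have : N2 * m = Nat.card G * t := by rw [ht, ← hcardG]; ring
      rw [← pow_mul, this, pow_mul, hgcard, one_pow]
    refine ⟨g ^ N1, (memD _).mpr ⟨pow_mem hg _, claim2' e _ (pow_mem hg _) hd2e⟩,
      g ^ N2, (memA _).mpr ⟨pow_mem hg _, ham⟩, ?_⟩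
    rw [← pow_add]
    have h1 : N1 + N2 ≡ 1 [MOD 2 ^ e] := by
      have := Nat.ModEq.add hN1a hN2a
      simpa using this
    have h2 : N1 + N2 ≡ 1 [MOD m] := by
      have := Nat.ModEq.add hN1b hN2b
      simpa using this
    have h3 : N1 + N2 ≡ 1 [MOD 2 ^ e * m] := (Nat.modEq_and_modEq_iff_modEq_mul hcop).mp ⟨h1, h2⟩
    rw [hcardG] at h3
    have h4 : N1 + N2 ≡ 1 [MOD orderOf g] := h3.of_dvd (orderOf_dvd_natCard g)
    have := (pow_eq_pow_iff_modEq).mpr h4
    rw [this, pow_one]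
  -- E
  obtain ⟨E, _, hEmax⟩ := Finite.exists_le_maximal
    (p := fun M : Subgroup G => M ≤ D ∧ c ∉ M) (a := ⊥)
    ⟨bot_le, fun h => hc1 (Subgroup.mem_bot.mp h)⟩
  obtain ⟨⟨hED, hcE⟩, hEm⟩ := hEmax
  have hEC : E ≤ C := fun g hg => ((memD g).mp (hED hg)).1
  have hAC : A ≤ C := fun g hg => ((memA g).mp hg).1
  have hDE : ∀ d ∈ D, d ∈ E ∨ ∃ e' ∈ E, d = e' * c := by
    intro d hd
    by_cases hdE : d ∈ E
    · left; exact hdE
    · right
      have hlt : E ≤ E ⊔ Subgroup.zpowers d := le_sup_left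
      have hnot : ¬ ((E ⊔ Subgroup.zpowers d) ≤ D ∧ c ∉ E ⊔ Subgroup.zpowers d) := by
        intro hp
        have := hEm hp hlt
        exact hdE (this (Subgroup.mem_sup_right (Subgroup.mem_zpowers d)))
      have hle : E ⊔ Subgroup.zpowers d ≤ D :=
        sup_le hED (Subgroup.zpowers_le.mpr hd)
      have hcin : c ∈ E ⊔ Subgroup.zpowers d := by
        by_contra h
        exact hnot ⟨hle, h⟩
      have := hn (Subgroup.zpowers d)
      obtain ⟨e', he', z, hz, hez⟩ := Subgroup.mem_sup_of_normal_right.mp hcin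
      obtain ⟨k, hk⟩ := Subgroup.mem_zpowers_iff.mp hz
      have hd2 : d ^ 2 = 1 := ((memD d).mp hd).2
      have hdo : orderOf d ∣ 2 := orderOf_dvd_of_pow_eq_one hd2
      have hzd : z = 1 ∨ z = d := by
        rcases Int.emod_two_eq_zero_or_one k with h | h
        · left
          rw [← hk]
          obtain ⟨t, ht⟩ := Int.dvd_of_emod_eq_zero h
          rw [ht, zpow_mul, show (2 : ℤ) = ((2 : ℕ) : ℤ) from rfl, zpow_natCast, hd2, one_zpow]
        · right
          rw [← hk]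
          have : k = 2 * (k / 2) + 1 := by
            have := (Int.mul_ediv_add_emod k 2).symm
            rw [h] at this; exact this
          rw [this, zpow_add, zpow_mul, show (2 : ℤ) = ((2 : ℕ) : ℤ) from rfl, zpow_natCast, hd2,
            one_zpow, one_mul, zpow_one]
      rcases hzd with rfl | rfl
      · exfalso
        rw [mul_one] at hez
        exact hcE (hez ▸ he')
      · refine ⟨e'⁻¹, inv_mem he', ?_⟩
        rw [← hez]; group
  refine ⟨Q, E, A, ⟨eQ⟩, ⟨?_, ?_⟩, ?_, ?_, ?_, ?_, ?_⟩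
  · -- E commutative
    exact ⟨⟨fun a b => Subtype.ext (claim3 a.1 (hEC a.2) b.1 (hEC b.2))⟩⟩
  · intro a ha
    exact ((memD a).mp (hED ha)).2
  · exact ⟨⟨fun a b => Subtype.ext (claim3 a.1 (hAC a.2) b.1 (hAC b.2))⟩⟩
  · -- Odd card A
    by_contra hodd
    rw [Nat.not_odd_iff_even] at hodd
    have h2 : 2 ∣ Nat.card A := hodd.two_dvd
    have : Fact (Nat.Prime 2) := ⟨Nat.prime_two⟩
    obtain ⟨a, ha⟩ := exists_prime_orderOf_dvd_card' 2 h2
    have ham : (a : G) ^ m = 1 := ((memA a.1).mp a.2).2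
    have h3 : orderOf (a : G) = 2 := by rw [Subgroup.orderOf_coe]; exact ha
    have h4 := orderOf_dvd_of_pow_eq_one ham
    rw [h3] at h4
    obtain ⟨t, ht⟩ := hmodd
    omega
  · -- E ⊓ A = ⊥
    rw [eq_bot_iff]
    intro u hu
    obtain ⟨huE, huA⟩ := hu
    have hu2 : u ^ 2 = 1 := ((memD u).mp (hED huE)).2
    have hum : u ^ m = 1 := ((memA u).mp huA).2
    have h1 := orderOf_dvd_of_pow_eq_one hu2
    have h2 := orderOf_dvd_of_pow_eq_one hum
    have h3 : orderOf u ∣ Nat.gcd 2 m := Nat.dvd_gcd h1 h2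
    rw [Nat.coprime_two_left.mpr hmodd] at h3
    exact Subgroup.mem_bot.mpr (orderOf_eq_one_iff.mp (Nat.dvd_one.mp h3))
  · -- Q ⊓ (E ⊔ A) = ⊥
    rw [eq_bot_iff]
    intro u hu
    obtain ⟨huQ, huEA⟩ := hu
    have := hn A
    obtain ⟨e', he', a, ha, hea⟩ := Subgroup.mem_sup_of_normal_right.mp huEA
    have hu4 := hQ4 u huQ
    have he2 : e' ^ 2 = 1 := ((memD e').mp (hED he')).2
    have ham : a ^ m = 1 := ((memA a).mp ha).2
    have hcomm : Commute e' a := claim3 e' (hEC he') a (hAC ha)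
    have ha4 : a ^ 4 = 1 := by
      have : (e' * a) ^ 4 = 1 := by rw [hea]; exact hu4
      rw [hcomm.mul_pow] at this
      have he4 : e' ^ 4 = 1 := by
        have : e' ^ 4 = (e' ^ 2) ^ 2 := by rw [← pow_mul]
        rw [this, he2, one_pow]
      rw [he4, one_mul] at this
      exact this
    have ha1 : a = 1 := by
      have h1 := orderOf_dvd_of_pow_eq_one ha4
      have h2 := orderOf_dvd_of_pow_eq_one ham
      have h3 : orderOf a ∣ Nat.gcd 4 m := Nat.dvd_gcd h1 h2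
      have h4 : Nat.gcd 4 m = 1 := by
        have : Nat.Coprime (2 ^ 2) m := Nat.Coprime.pow_left _ (Nat.coprime_two_left.mpr hmodd)
        simpa using this
      rw [h4] at h3
      exact orderOf_eq_one_iff.mp (Nat.dvd_one.mp h3)
    rw [ha1, mul_one] at hea
    rw [← hea] at huQ ⊢
    rcases hQinv e' huQ he2 with h | h
    · exact Subgroup.mem_bot.mpr h
    · exfalso
      exact hcE (h ▸ he')
  · -- Q ⊔ (E ⊔ A) = ⊤
    rw [eq_top_iff]
    intro g _
    obtain ⟨q, hq, hqg⟩ := claim1 g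
    obtain ⟨d, hd, a, ha, hda⟩ := decomp _ hqg
    have hg : g = q * (d * a) := by rw [← hda]; group
    rcases hDE d hd with hdE | ⟨e', he', hde⟩
    · rw [hg]
      exact Subgroup.mul_mem_sup hq (Subgroup.mul_mem_sup hdE ha)
    · rw [hg, hde]
      have hcomm : e' * c = c * e' := claim3 e' (hEC he') c hcC
      have : q * (e' * c * a) = (q * c) * (e' * a) := by
        rw [hcomm]; group
      rw [this]
      exact Subgroup.mul_mem_sup (mul_mem hq hcQ) (Subgroup.mul_mem_sup he' ha)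


/-- A finite non-abelian group in which every subgroup is normal is the internal direct product of a subgroup isomorphic to the quaternion group of order `8`, an elementary abelian `2`-subgroup and an abelian subgroup of odd order. -/
theorem result {G : Type*} [Group G] [Finite G] (hna : ¬ IsMulCommutative G) (hn : ∀ H : Subgroup G, H.Normal) : ∃ Q E A : Subgroup G, Nonempty (Q ≃* QuaternionGroup 2) ∧ Cfsg.IsElementaryAbelian 2 E ∧ IsMulCommutative A ∧ Odd (Nat.card A) ∧ E ⊓ A = ⊥ ∧ Q ⊓ (E ⊔ A) = ⊥ ∧ Q ⊔ (E ⊔ A) = ⊤ := by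
  exact hamiltonian hna hn

end Cfsg.Agent.S4211
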