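import Cfsg.Statements.S4213
import Cfsg.Agent.Lib.helper23.HallFrob
import Cfsg.Agent.Lib.Helper1.MinNormal
import Cfsg.Agent.Lib.Helper1.Hall

set_option autoImplicit false
open Cfsg

namespace Cfsg.Agent.S4213

open Cfsg.Agent.Lib.helper23 Cfsg.Agent.Lib.Helper1 Cfsg.Agent.Lib.Helper22

/-- the set of solutions -/
def Ln (G : Type*) [Group G] (n : ℕ) : Set G := {x : G | x ^ n = 1}

theorem card_Ln_eq {G : Type*} [Group G] (n : ℕ) : Nat.card (Ln G n) = rootCount G n 1 := rfl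

theorem one_mem_Ln {G : Type*} [Group G] (n : ℕ) : (1 : G) ∈ Ln G n := one_pow n

theorem card_Ln_pos {G : Type*} [Group G] [Finite G] (n : ℕ) : 0 < Nat.card (Ln G n) := by
  have : Nonempty (Ln G n) := ⟨⟨1, one_mem_Ln n⟩⟩
  exact Nat.card_pos

/-- a subset of `Ln` of the same cardinality is everything -/
theorem eq_Ln_of_subset_of_card {G : Type*} [Group G] [Finite G] (n : ℕ) (S : Set G)
    (hS : S ⊆ Ln G n) (hcard : Nat.card (Ln G n) ≤ Nat.card S) : S = Ln G n := by
  apply Set.eq_of_subset_of_ncard_le hS _ (Set.toFinite _)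
  rw [← Nat.card_coe_set_eq, ← Nat.card_coe_set_eq]
  exact hcard

theorem exists_lift {G : Type*} [Group G] (K : Subgroup G) [K.Normal] {p n : ℕ} (hp : p.Prime)
    (hK : ∀ x ∈ K, x ^ p = 1) (hpn : ¬ p ∣ n) (hn : 0 < n) (y : G ⧸ K) (hy : y ^ n = 1) :
    ∃ x : G, (QuotientGroup.mk x : G ⧸ K) = y ∧ x ^ n = 1 := by
  obtain ⟨x₀, rfl⟩ := QuotientGroup.mk_surjective y
  have hx₀ : x₀ ^ n ∈ K := by
    rw [← QuotientGroup.eq_one_iff, QuotientGroup.mk_pow]; exact hy
  have hcop : n.Coprime p := ((Nat.Prime.coprime_iff_not_dvd hp).mpr hpn).symm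
  obtain ⟨s, hs1, hs0⟩ := Nat.chineseRemainder hcop 1 0
  refine ⟨x₀ ^ s, ?_, ?_⟩
  · rw [QuotientGroup.mk_pow]
    have h1 : orderOf (QuotientGroup.mk x₀ : G ⧸ K) ∣ n := orderOf_dvd_of_pow_eq_one hy
    have h2 : s ≡ 1 [MOD orderOf (QuotientGroup.mk x₀ : G ⧸ K)] := hs1.of_dvd h1
    rw [pow_eq_pow_iff_modEq.mpr h2, pow_one]
  · obtain ⟨t, ht⟩ := (Nat.modEq_zero_iff_dvd.mp hs0)
    rw [← pow_mul, mul_comm s n, pow_mul, ht, pow_mul, hK _ hx₀, one_pow]

universe u

theorem main_aux : ∀ (N : ℕ) (G : Type u) [Group G] [Finite G] [Group.IsSolvable G],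
    Nat.card G = N → ∀ n : ℕ, n ∣ Nat.card G → Nat.card (Ln G n) = n →
    ∃ H : Subgroup G, (H : Set G) = Ln G n := by
  intro N
  induction N using Nat.strong_induction_on with
  | _ N ih =>
  intro G _ _ _ hN n hn hcount
  rcases subsingleton_or_nontrivial G with hs | hnt
  · refine ⟨⊤, ?_⟩
    ext x
    simp only [Subgroup.coe_top, Set.mem_univ, true_iff]
    show x ^ n = 1
    rw [Subsingleton.elim x 1, one_pow]
  obtain ⟨K, hKn, hK0, hKmin⟩ := exists_minimal_normal (G := G)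
  have := hKn
  obtain ⟨_, p, hp, hKexp⟩ := minimal_normal_of_solvable K hK0 hKmin
  have : Fact p.Prime := ⟨hp⟩
  have hKp : IsPGroup p K := by
    intro x
    refine ⟨1, ?_⟩
    rw [pow_one]
    exact Subtype.ext (by simpa using hKexp x x.2)
  obtain ⟨i, hi⟩ := hKp.exists_card_eq
  have hi1 : 1 ≤ i := by
    by_contra h
    have h0 : i = 0 := by omega
    rw [h0, pow_zero] at hi
    exact hK0 (Subgroup.card_eq_one.mp hi)
  have hppos : 0 < p ^ i := pow_pos hp.pos i
  have hnpos : 0 < n := Nat.pos_of_dvd_of_pos hn Nat.card_pos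
  have hcardQ : Nat.card (G ⧸ K) * p ^ i = Nat.card G := by
    rw [← hi, ← Subgroup.index_eq_card, mul_comm]
    exact K.card_mul_index
  have hQlt : Nat.card (G ⧸ K) < N := by
    rw [← hN, ← hcardQ]
    have h2 : 2 ≤ p ^ i := by
      calc 2 ≤ p := hp.two_le
        _ = p ^ 1 := (pow_one p).symm
        _ ≤ p ^ i := Nat.pow_le_pow_right hp.pos hi1
    have h3 : 0 < Nat.card (G ⧸ K) := Nat.card_pos
    nlinarith
  have hpre : ∀ T : Set (G ⧸ K),
      Nat.card (QuotientGroup.mk ⁻¹' T : Set G) = p ^ i * Nat.card T := by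
    intro T
    rw [QuotientGroup.card_preimage_mk, hi]
  have hle : ∀ n' : ℕ, (QuotientGroup.mk ⁻¹' (Ln (G ⧸ K) n') : Set G) ⊆ Ln G n →
      p ^ i * Nat.card (Ln (G ⧸ K) n') ≤ n := by
    intro n' hsub
    rw [← hpre, ← hcount]
    exact Nat.card_mono (Set.toFinite _) hsub
  have hmemK : ∀ (x : G) (k : ℕ), (QuotientGroup.mk x : G ⧸ K) ^ k = 1 → x ^ k ∈ K := by
    intro x k hx
    rw [← QuotientGroup.eq_one_iff, QuotientGroup.mk_pow]
    exact hx
  by_cases hpn : p ∣ n
  · by_cases hpin : p ^ i ∣ n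
    · -- Case A
      obtain ⟨n₁, hn₁⟩ := hpin
      have hn₁Q : n₁ ∣ Nat.card (G ⧸ K) := by
        rw [hn₁, ← hcardQ, mul_comm] at hn
        exact (Nat.mul_dvd_mul_iff_right hppos).mp hn
      have hsub : (QuotientGroup.mk ⁻¹' (Ln (G ⧸ K) n₁) : Set G) ⊆ Ln G n := by
        intro x hx
        have hxK : x ^ n₁ ∈ K := hmemK x n₁ hx
        show x ^ n = 1
        rw [hn₁, mul_comm, pow_mul]
        obtain ⟨i', rfl⟩ : ∃ i', i = i' + 1 := ⟨i - 1, by omega⟩
        rw [pow_succ', pow_mul, hKexp _ hxK, one_pow]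
      have h1 := hle n₁ hsub
      have h2 : Nat.card (Ln (G ⧸ K) n₁) ≤ n₁ := by
        rw [hn₁] at h1
        exact Nat.le_of_mul_le_mul_left h1 hppos
      have h3 : n₁ ∣ Nat.card (Ln (G ⧸ K) n₁) := frobenius n₁ hn₁Q
      have h4 : Nat.card (Ln (G ⧸ K) n₁) = n₁ :=
        le_antisymm h2 (Nat.le_of_dvd (card_Ln_pos n₁) h3)
      obtain ⟨Hb, hHb⟩ := ih _ hQlt (G ⧸ K) rfl n₁ hn₁Q h4
      refine ⟨Hb.comap (QuotientGroup.mk' K), ?_⟩
      have hcoe : ((Hb.comap (QuotientGroup.mk' K) : Subgroup G) : Set G) =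
          (QuotientGroup.mk ⁻¹' (Ln (G ⧸ K) n₁) : Set G) := by
        rw [Subgroup.coe_comap, hHb]; rfl
      rw [hcoe]
      apply eq_Ln_of_subset_of_card _ _ hsub
      rw [hpre, h4, hcount, hn₁]
    · -- Case B
      exfalso
      obtain ⟨n', hn'⟩ := hpn
      have hsub : (QuotientGroup.mk ⁻¹' (Ln (G ⧸ K) n') : Set G) ⊆ Ln G n := by
        intro x hx
        have hxK : x ^ n' ∈ K := hmemK x n' hx
        show x ^ n = 1
        rw [hn', mul_comm, pow_mul, hKexp _ hxK]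
      have h1 := hle n' hsub
      have hfac := Nat.ordProj_mul_ordCompl_eq_self n p
      have hmp : ¬ p ∣ n / p ^ n.factorization p := Nat.not_dvd_ordCompl hp hnpos.ne'
      have hmpos : 0 < n / p ^ n.factorization p := Nat.ordCompl_pos p hnpos.ne'
      have hmcop : (n / p ^ n.factorization p).Coprime p :=
        ((Nat.Prime.coprime_iff_not_dvd hp).mpr hmp).symm
      have hm_n' : n / p ^ n.factorization p ∣ n' := by
        have : n / p ^ n.factorization p ∣ p * n' := hn' ▸ Nat.ordCompl_dvd n p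
        exact hmcop.dvd_of_dvd_mul_left this
      have hm_Q : n / p ^ n.factorization p ∣ Nat.card (G ⧸ K) := by
        have : n / p ^ n.factorization p ∣ Nat.card (G ⧸ K) * p ^ i :=
          hcardQ ▸ dvd_trans (Nat.ordCompl_dvd n p) hn
        exact (Nat.Coprime.pow_right i hmcop).dvd_of_dvd_mul_right this
      have h2 : Nat.gcd n' (Nat.card (G ⧸ K)) ∣ Nat.card (Ln (G ⧸ K) n') :=
        gcd_dvd_rootCount_one n'
      have h3 : n / p ^ n.factorization p ≤ Nat.card (Ln (G ⧸ K) n') :=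
        Nat.le_of_dvd (card_Ln_pos n') (dvd_trans (Nat.dvd_gcd hm_n' hm_Q) h2)
      have h4 : p ^ i * (n / p ^ n.factorization p) ≤ p ^ n.factorization p * (n / p ^ n.factorization p) := by
        calc p ^ i * (n / p ^ n.factorization p) ≤ p ^ i * Nat.card (Ln (G ⧸ K) n') :=
              Nat.mul_le_mul_left _ h3
          _ ≤ n := h1
          _ = p ^ n.factorization p * (n / p ^ n.factorization p) := hfac.symm
      have h5 : p ^ i ≤ p ^ n.factorization p := Nat.le_of_mul_le_mul_right h4 hmpos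
      have h6 : i ≤ n.factorization p := (Nat.pow_le_pow_iff_right hp.one_lt).mp h5
      exact hpin (dvd_trans (pow_dvd_pow p h6) (Nat.ordProj_dvd n p))
  · -- Case C
    have hcop : n.Coprime (p ^ i) :=
      Nat.Coprime.pow_right i ((Nat.Prime.coprime_iff_not_dvd hp).mpr hpn).symm
    have hnQ : n ∣ Nat.card (G ⧸ K) := by
      have : n ∣ Nat.card (G ⧸ K) * p ^ i := hcardQ ▸ hn
      exact hcop.dvd_of_dvd_mul_right this
    have h3 : n ∣ Nat.card (Ln (G ⧸ K) n) := frobenius n hnQ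
    have hlift : ∀ y : Ln (G ⧸ K) n, ∃ x : G, (QuotientGroup.mk x : G ⧸ K) = y.1 ∧ x ^ n = 1 :=
      fun y => exists_lift K hp hKexp hpn hnpos y.1 y.2
    have h2 : Nat.card (Ln (G ⧸ K) n) ≤ n := by
      refine le_trans (Nat.card_le_card_of_injective
        (fun y : Ln (G ⧸ K) n => (⟨Classical.choose (hlift y), (Classical.choose_spec (hlift y)).2⟩ : Ln G n)) ?_) (le_of_eq hcount)
      intro y₁ y₂ h
      apply Subtype.ext
      have e := congrArg (fun z : Ln G n => (QuotientGroup.mk z.1 : G ⧸ K)) h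
      simp only at e
      rw [(Classical.choose_spec (hlift y₁)).1, (Classical.choose_spec (hlift y₂)).1] at e
      exact e
    have h4 : Nat.card (Ln (G ⧸ K) n) = n :=
      le_antisymm h2 (Nat.le_of_dvd (card_Ln_pos n) h3)
    obtain ⟨Hb, hHb⟩ := ih _ hQlt (G ⧸ K) rfl n hnQ h4
    obtain ⟨H, hHdef⟩ : ∃ H : Subgroup G, H = Hb.comap (QuotientGroup.mk' K) := ⟨_, rfl⟩
    have hcardH : Nat.card H = n * p ^ i := by
      have hcoe : (H : Set G) = (QuotientGroup.mk ⁻¹' (Ln (G ⧸ K) n) : Set G) := by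
        rw [hHdef, Subgroup.coe_comap, hHb]; rfl
      have : Nat.card H = Nat.card ((H : Set G)) := rfl
      rw [this, hcoe, hpre, h4, mul_comm]
    obtain ⟨Q₀, hQ₀⟩ := hall_exists (G := H) n (p ^ i) hcardH hcop
    refine ⟨Q₀.map H.subtype, ?_⟩
    apply eq_Ln_of_subset_of_card
    · rintro _ ⟨q, hq, rfl⟩
      show ((q : H) : G) ^ n = 1
      have h5 : (⟨q, hq⟩ : Q₀) ^ Nat.card Q₀ = 1 := pow_card_eq_one'
      rw [hQ₀] at h5
      have h6 : q ^ n = 1 := congrArg Subtype.val h5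
      exact congrArg Subtype.val h6
    · rw [hcount]
      show n ≤ Nat.card (Q₀.map H.subtype)
      rw [Subgroup.card_map_of_injective H.subtype_injective, hQ₀]

theorem main {G : Type u} [Group G] [Finite G] [Group.IsSolvable G] (n : ℕ)
    (hn : n ∣ Nat.card G) (hcount : Nat.card {x : G // x ^ n = 1} = n) :
    ∃ H : Subgroup G, H.Normal ∧ (H : Set G) = {x : G | x ^ n = 1} := by
  obtain ⟨H, hH⟩ := main_aux (Nat.card G) G rfl n hn hcount
  refine ⟨H, ⟨fun x hx g => ?_⟩, hH⟩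
  have hx' : x ∈ (H : Set G) := hx
  rw [hH] at hx'
  have : g * x * g⁻¹ ∈ (H : Set G) := by
    rw [hH]
    show (g * x * g⁻¹) ^ n = 1
    have hx'' : x ^ n = 1 := hx'
    rw [conj_pow, hx'', mul_one, mul_inv_cancel]
  exact this


/-- If `G` is a finite solvable group and `n` divides the order of `G` and exactly `n` elements `x` of `G` satisfy `x^n = 1`, then these elements form a normal subgroup. -/
theorem result {G : Type*} [Group G] [Finite G] [Group.IsSolvable G] (n : ℕ) (hn : n ∣ Nat.card G) (hcount : Nat.card {x : G // x ^ n = 1} = n) : ∃ H : Subgroup G, H.Normal ∧ (H : Set G) = {x : G | x ^ n = 1} := by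
  exact main n hn hcount

end Cfsg.Agent.S4213
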