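import Cfsg.Statements.S4217
import Cfsg.Agent.Lib.Helper1.Crossed

set_option autoImplicit false
open Cfsg
open Cfsg.Agent.Lib.Helper1
open scoped IsMulCommutative

namespace Cfsg.Agent.S4217

/-- Let `A` be an abelian normal subgroup of the finite group `G`. Then `A` has a complement in `G` if and only if, for every prime `p` dividing the index of `A`, there are a Sylow `p`-subgroup `S` of `G/A` and a subgroup `K` of `G` with `K ∩ A = 1` and `KA` equal to the preimage of `S` (that is, `A` has a complement in the preimage of a Sylow `p`-subgroup of `G/A`). -/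
theorem result {G : Type*} [Group G] [Finite G] (A : Subgroup G) [A.Normal] (hA : IsMulCommutative A) : (∃ K : Subgroup G, K.IsComplement' A) ↔ ∀ p : ℕ, p.Prime → p ∣ A.index → ∃ (S : Sylow p (G ⧸ A)) (K : Subgroup G), K ⊓ A = ⊥ ∧ K ⊔ A = (S : Subgroup (G ⧸ A)).comap (QuotientGroup.mk' A) := by
  constructor
  · rintro ⟨K, hK⟩ p hp -
    haveI := Fact.mk hp
    have hf : Function.Surjective ((QuotientGroup.mk' A).comp K.subtype) := by
      intro x
      obtain ⟨g, rfl⟩ := QuotientGroup.mk_surjective x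
      obtain ⟨⟨k, a⟩, hka, -⟩ := Subgroup.IsComplement.existsUnique hK g
      refine ⟨k, ?_⟩
      have hka2 : (k : G) * (a : G) = g := hka
      show ((k : G) : G ⧸ A) = ((g : G) : G ⧸ A)
      rw [← hka2, QuotientGroup.mk_mul_of_mem _ a.2]
    let P : Sylow p K := default
    refine ⟨P.mapSurjective hf, (P : Subgroup K).map K.subtype, ?_, ?_⟩
    · refine le_bot_iff.mp ?_
      rw [← hK.disjoint.eq_bot]
      exact inf_le_inf_right _ (Subgroup.map_subtype_le _)
    · rw [Sylow.coe_mapSurjective, ← Subgroup.map_map, Subgroup.comap_map_eq, QuotientGroup.ker_mk']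
  · intro hyp
    let D : AddSubgroup ℤ :=
      { carrier := {d | ∃ δ : G → A, IsCrossedOn A ⊤ δ ∧ ∀ a : A, δ a = a ^ d}
        zero_mem' := ⟨fun _ => 1, isCrossedOn_one, fun a => (zpow_zero a).symm⟩
        add_mem' := by
          rintro d e ⟨δ₁, h₁, h₁2⟩ ⟨δ₂, h₂, h₂2⟩
          exact ⟨_, h₁.mul h₂, fun a => by
            show δ₁ a * δ₂ a = _
            rw [h₁2, h₂2, zpow_add]⟩
        neg_mem' := by
          rintro d ⟨δ, h, h2⟩
          exact ⟨_, h.inv, fun a => by
            show (δ a)⁻¹ = _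
            rw [h2, zpow_neg]⟩ }
    have hidx : ∀ (U K : Subgroup G), K ⊓ A = ⊥ → K ⊔ A = U → (U.index : ℤ) ∈ D := by
      intro U K h1 h2
      have hAU : A ≤ U := h2 ▸ le_sup_right
      obtain ⟨π, hπ, hπ1, -⟩ := exists_crossed_of_complement (K := A) (U := U) K h1
        (by rw [sup_comm]; exact h2)
      have hπK : ∀ k : A, π k = k := fun k => by simpa using hπ1 k 1 K.one_mem
      obtain ⟨δ, hδ, hδK⟩ := exists_corestriction hAU hπ hπK
      exact ⟨δ, hδ, fun a => by rw [hδK, zpow_natCast]⟩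
    have hAidx : (A.index : ℤ) ∈ D := hidx A ⊥ (bot_inf_eq _) (bot_sup_eq _)
    obtain ⟨g, hg⟩ := Int.subgroup_cyclic D
    have h1 : (1 : ℤ) ∈ D := by
      by_contra hne
      have hgn : g.natAbs ≠ 1 := by
        intro h
        apply hne
        rw [hg, AddSubgroup.mem_closure_singleton]
        rcases Int.natAbs_eq g with h2 | h2
        · exact ⟨1, by rw [h2, h]; simp⟩
        · exact ⟨-1, by rw [h2, h]; simp⟩
      obtain ⟨q, hq, hqg⟩ := Nat.exists_prime_and_dvd hgn
      have hqdvd : ∀ d ∈ D, (q : ℤ) ∣ d := by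
        intro d hd
        rw [hg, AddSubgroup.mem_closure_singleton] at hd
        obtain ⟨n, rfl⟩ := hd
        have h3 : (q : ℤ) ∣ g := Int.natCast_dvd.mpr hqg
        rw [smul_eq_mul]
        exact Dvd.dvd.mul_left h3 n
      have hqA : q ∣ A.index := by exact_mod_cast hqdvd _ hAidx
      obtain ⟨S, K, hK1, hK2⟩ := hyp q hq hqA
      have h4 := hqdvd _ (hidx _ K hK1 hK2)
      have hidx2 : ((S : Subgroup (G ⧸ A)).comap (QuotientGroup.mk' A)).index =
          (S : Subgroup (G ⧸ A)).index :=
        Subgroup.index_comap_of_surjective _ (QuotientGroup.mk'_surjective A)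
      haveI := Fact.mk hq
      exact S.not_dvd_index (by rw [← hidx2]; exact_mod_cast h4)
    obtain ⟨δ, hδ, hδK⟩ := h1
    obtain ⟨H, hH, -⟩ := exists_complement_of_crossed hδ (fun k => by rw [hδK, zpow_one])
    exact ⟨H, hH.symm⟩

end Cfsg.Agent.S4217
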