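import Cfsg.Statements.S4218
import Cfsg.Agent.Lib.Helper1.FrattiniFaithful
import Cfsg.Agent.Lib.Helper1.Frat
import Cfsg.Agent.Lib.Helper10.PComp

set_option autoImplicit false
open Cfsg
open scoped commutatorElement

namespace Cfsg.Agent.S4218

/-- Let `G` be a finite `p`-solvable group, `N₀ = O_{p'}(G)`, `P₁ = O_{p',p}(G)`, and let `F ≤ P₁` be the preimage of the Frattini subgroup of `P₁/N₀`. Then an element `g` of `G` induces the identity on `P₁/F` by conjugation (that is, `g x g⁻¹ x⁻¹ ∈ F` for all `x ∈ P₁`) if and only if `g ∈ P₁`: the group `G/P₁` acts faithfully on `P₁/F`. -/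
theorem result {G : Type*} [Group G] [Finite G] {p : ℕ} [Fact p.Prime] (hG : Cfsg.IsPSolvable p G) (g : G) : (∀ x ∈ Cfsg.pPrimePCore p G, g * x * g⁻¹ * x⁻¹ ∈ ((frattini (↥(Cfsg.pPrimePCore p G) ⧸ (Cfsg.pPrimeCore p G).subgroupOf (Cfsg.pPrimePCore p G))).comap (QuotientGroup.mk' ((Cfsg.pPrimeCore p G).subgroupOf (Cfsg.pPrimePCore p G)))).map (Cfsg.pPrimePCore p G).subtype) ↔ g ∈ Cfsg.pPrimePCore p G := by
  have hφker : ∀ x : ↥(Cfsg.pPrimePCore p G),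
      x ∈ (Cfsg.pPrimeCore p G).subgroupOf (Cfsg.pPrimePCore p G) →
      (((QuotientGroup.mk' (Cfsg.pPrimeCore p G)).comp (Cfsg.pPrimePCore p G).subtype).codRestrict
        (Cfsg.pCore p (G ⧸ Cfsg.pPrimeCore p G)) (fun x => x.2)) x = 1 := by
    intro x hx
    apply Subtype.ext
    show (QuotientGroup.mk' (Cfsg.pPrimeCore p G)) (x : G) = 1
    rw [QuotientGroup.mk'_apply, QuotientGroup.eq_one_iff]
    exact Subgroup.mem_subgroupOf.mp hx
  obtain ⟨φ, hφdef⟩ : ∃ φ : ↥(Cfsg.pPrimePCore p G) →* ↥(Cfsg.pCore p (G ⧸ Cfsg.pPrimeCore p G)),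
      φ = ((QuotientGroup.mk' (Cfsg.pPrimeCore p G)).comp (Cfsg.pPrimePCore p G).subtype).codRestrict
        (Cfsg.pCore p (G ⧸ Cfsg.pPrimeCore p G)) (fun x => x.2) := ⟨_, rfl⟩
  rw [← hφdef] at hφker
  have hφval : ∀ x : ↥(Cfsg.pPrimePCore p G), ((φ x : ↥(Cfsg.pCore p (G ⧸ Cfsg.pPrimeCore p G))) : G ⧸ Cfsg.pPrimeCore p G) =
      (QuotientGroup.mk' (Cfsg.pPrimeCore p G)) (x : G) := by
    intro x
    rw [hφdef]
    rfl
  obtain ⟨ψ, hψdef⟩ : ∃ ψ, ψ = QuotientGroup.lift ((Cfsg.pPrimeCore p G).subgroupOf (Cfsg.pPrimePCore p G)) φ hφker := ⟨_, rfl⟩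
  have hψmk : ∀ x : ↥(Cfsg.pPrimePCore p G), ψ (QuotientGroup.mk x) = φ x := by
    intro x
    rw [hψdef]
    rfl
  have hψ : Function.Surjective ψ := by
    rintro ⟨y, hy⟩
    obtain ⟨x, rfl⟩ := QuotientGroup.mk_surjective y
    refine ⟨QuotientGroup.mk ⟨x, hy⟩, ?_⟩
    rw [hψmk]
    apply Subtype.ext
    rw [hφval]
    rfl
  have hψinj : Function.Injective ψ := by
    rw [injective_iff_map_eq_one]
    intro q hq
    obtain ⟨y, rfl⟩ := QuotientGroup.mk_surjective q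
    rw [hψmk] at hq
    have h1 := hφval y
    rw [hq] at h1
    have h2 : (y : G) ∈ Cfsg.pPrimeCore p G := by
      rw [← QuotientGroup.eq_one_iff]
      exact h1.symm
    exact (QuotientGroup.eq_one_iff y).mpr (Subgroup.mem_subgroupOf.mpr h2)
  have hQp : IsPGroup p (↥(Cfsg.pPrimePCore p G) ⧸ (Cfsg.pPrimeCore p G).subgroupOf (Cfsg.pPrimePCore p G)) :=
    IsPGroup.of_injective (Cfsg.Agent.Lib.Helper1.pCore_isPGroup p) ψ hψinj
  constructor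
  · intro hyp
    show (QuotientGroup.mk' (Cfsg.pPrimeCore p G)) g ∈ Cfsg.pCore p (G ⧸ Cfsg.pPrimeCore p G)
    have hsol : Cfsg.IsPSolvable p (G ⧸ Cfsg.pPrimeCore p G) :=
      Cfsg.Agent.Lib.Helper5.h5_isPSolvable_of_surjective _ (QuotientGroup.mk'_surjective _) hG
    have hC := Cfsg.Agent.Lib.Helper5.h5_centralizer_pCore_le hsol
      (Cfsg.Agent.Lib.Helper10.pPrimeCore_quotient_eq_bot (G := G) p)
    apply Cfsg.Agent.Lib.Helper1.mem_pCore_of_trivial_on_frattini_quotient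
      (Cfsg.pCore p (G ⧸ Cfsg.pPrimeCore p G)) (Cfsg.Agent.Lib.Helper1.pCore_isPGroup p) hC
    intro xb hxb
    obtain ⟨x, rfl⟩ := QuotientGroup.mk_surjective xb
    have hx : x ∈ Cfsg.pPrimePCore p G := hxb
    obtain ⟨y, hy, hyeq⟩ := Subgroup.mem_map.mp (hyp x hx)
    have hy2 : (QuotientGroup.mk y : ↥(Cfsg.pPrimePCore p G) ⧸ (Cfsg.pPrimeCore p G).subgroupOf (Cfsg.pPrimePCore p G)) ∈
        frattini _ := hy
    have h3 := frattini_le_comap_frattini_of_surjective hψ hy2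
    rw [Subgroup.mem_comap, hψmk] at h3
    refine Subgroup.mem_map.mpr ⟨φ y, h3, ?_⟩
    show ((φ y : ↥(Cfsg.pCore p (G ⧸ Cfsg.pPrimeCore p G))) : G ⧸ Cfsg.pPrimeCore p G) = _
    rw [hφval]
    have hyeq2 : (y : G) = g * x * g⁻¹ * x⁻¹ := hyeq
    rw [hyeq2]
    simp
  · intro hg x hx
    refine Subgroup.mem_map.mpr ⟨⟨g, hg⟩ * ⟨x, hx⟩ * ⟨g, hg⟩⁻¹ * ⟨x, hx⟩⁻¹, ?_, rfl⟩
    rw [Subgroup.mem_comap]
    apply Cfsg.Agent.Lib.Helper1.pgroup_commutator_le_frattini hQp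
    have h1 : (QuotientGroup.mk' ((Cfsg.pPrimeCore p G).subgroupOf (Cfsg.pPrimePCore p G)))
        (⟨g, hg⟩ * ⟨x, hx⟩ * ⟨g, hg⟩⁻¹ * ⟨x, hx⟩⁻¹) =
        ⁅(QuotientGroup.mk' ((Cfsg.pPrimeCore p G).subgroupOf (Cfsg.pPrimePCore p G))) ⟨g, hg⟩,
          (QuotientGroup.mk' ((Cfsg.pPrimeCore p G).subgroupOf (Cfsg.pPrimePCore p G))) ⟨x, hx⟩⁆ := by
      rw [commutatorElement_def, map_mul, map_mul, map_mul, map_inv, map_inv]
    rw [h1]
    exact Subgroup.commutator_mem_commutator (Subgroup.mem_top _) (Subgroup.mem_top _)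

end Cfsg.Agent.S4218
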