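import Cfsg.Statements.S4231
import Cfsg.Agent.Lib.Helper20.AutAlt5
import Cfsg.Agent.Lib.Helper20.PGroupPerm

set_option autoImplicit false
open Cfsg

namespace Cfsg.Agent.S4231

open Cfsg.Agent.Lib.Helper20 in
theorem sq_le_of_nonabelian_sylow (n : ℕ) (hn : 5 ≤ n)
    (G : Subgroup (MulAut (alternatingGroup (Fin n))))
    (r : ℕ) [hr : Fact r.Prime] (hr2 : r ≠ 2) (R : Sylow r G)
    (hR : ¬ IsMulCommutative (R : Subgroup G)) : r ^ 2 ≤ n := by
  obtain ⟨x, y, hxy⟩ : ∃ x y : (R : Subgroup G), x * y ≠ y * x := by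
    by_contra hcon
    push Not at hcon
    exact hR ⟨⟨hcon⟩⟩
  have hodd : ∀ z : (R : Subgroup G),
      Odd (orderOf (((z : G)) : MulAut (alternatingGroup (Fin n)))) := by
    intro z
    rw [Subgroup.orderOf_coe, Subgroup.orderOf_coe]
    obtain ⟨k, hk⟩ := R.isPGroup' z
    have h1 : orderOf z ∣ r ^ k := orderOf_dvd_of_pow_eq_one hk
    obtain ⟨j, -, hj⟩ := (Nat.dvd_prime_pow hr.out).1 h1
    rw [hj]
    exact (hr.out.odd_of_ne_two hr2).pow
  have hcard : Fintype.card (Fin n) = n := Fintype.card_fin n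
  obtain ⟨σ, hσ⟩ := AutAlt.mem_range_of_pres (X := Fin n) (by rw [hcard]; omega)
    (AutAlt.pres_of_odd_order (by rw [hcard]; exact hn) _ (hodd x))
  obtain ⟨τ, hτ⟩ := AutAlt.mem_range_of_pres (X := Fin n) (by rw [hcard]; omega)
    (AutAlt.pres_of_odd_order (by rw [hcard]; exact hn) _ (hodd y))
  have hP' : IsPGroup r (((R : Subgroup G).map G.subtype).comap
      (MulAut.conjNormal : Equiv.Perm (Fin n) →* MulAut (alternatingGroup (Fin n)))) :=
    (R.isPGroup'.map G.subtype).comap_of_injective _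
      (AutAlt.conjNormal_injective (by rw [hcard]; omega))
  have h2 := PGroupPerm.sq_le_card_of_not_commute r _ hP' σ τ
    (Subgroup.mem_comap.2 (Subgroup.mem_map.2 ⟨(x : G), x.2, hσ.symm⟩))
    (Subgroup.mem_comap.2 (Subgroup.mem_map.2 ⟨(y : G), y.2, hτ.symm⟩))
    (by
      intro e
      apply hxy
      apply Subtype.ext
      apply Subtype.ext
      rw [Subgroup.coe_mul, Subgroup.coe_mul, Subgroup.coe_mul, Subgroup.coe_mul, ← hσ, ← hτ,
        ← map_mul, e, map_mul])
  rwa [hcard] at h2

theorem conj_injective_alt (n : ℕ) (hn : 5 ≤ n) :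
    Function.Injective
      (MulAut.conj : alternatingGroup (Fin n) →* MulAut (alternatingGroup (Fin n))) := by
  rw [injective_iff_map_eq_one]
  intro g hg
  have hc : g ∈ Subgroup.center (alternatingGroup (Fin n)) := by
    rw [Subgroup.mem_center_iff]
    intro k
    have h1 := congrArg (fun f : MulAut (alternatingGroup (Fin n)) => f k) hg
    simp only [MulAut.conj_apply, MulAut.one_apply] at h1
    calc k * g = (g * k * g⁻¹) * g := by rw [h1]
      _ = g * k := by group
  rw [alternatingGroup.center_eq_bot (by rw [Nat.card_eq_fintype_card, Fintype.card_fin]; omega)]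
    at hc
  exact Subgroup.mem_bot.1 hc


/-- Let n ≥ 5 and let G be a group of automorphisms of the alternating group of degree n containing all inner automorphisms. If p ≠ q are primes and G has no element of order pq, then every Sylow p-subgroup of G is abelian or every Sylow q-subgroup of G is abelian. -/
theorem result (n : ℕ) (hn : 5 ≤ n) (G : Subgroup (MulAut (alternatingGroup (Fin n))))
    (hG : (MulAut.conj : alternatingGroup (Fin n) →* MulAut (alternatingGroup (Fin n))).range ≤ G)
    (p q : ℕ) [Fact p.Prime] [Fact q.Prime] (hpq : p ≠ q) (h : ∀ g : G, orderOf g ≠ p * q) :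
    (∀ P : Sylow p G, IsMulCommutative (P : Subgroup G)) ∨ (∀ Q : Sylow q G, IsMulCommutative (Q : Subgroup G)) := by
  by_contra hcon
  push Not at hcon
  obtain ⟨⟨P, hP⟩, ⟨Q, hQ⟩⟩ := hcon
  have hp' : p ≠ 2 → p ^ 2 ≤ n := fun h2 => sq_le_of_nonabelian_sylow n hn G p h2 P hP
  have hq' : q ≠ 2 → q ^ 2 ≤ n := fun h2 => sq_le_of_nonabelian_sylow n hn G q h2 Q hQ
  have hpp : p.Prime := Fact.out
  have hqp : q.Prime := Fact.out
  have hp2 := hpp.two_le
  have hq2 := hqp.two_le
  obtain ⟨g, hg⟩ := Cfsg.Agent.Lib.Helper20.PGroupPerm.exists_alt_orderOf_mul n p q hpp hqp hpq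
    (by
      intro h1 h2
      have := hp' h1
      have := hq' h2
      rcases lt_or_gt_of_ne hpq with hlt | hlt
      · nlinarith
      · nlinarith)
    (by
      intro h1
      have h2 : q ≠ 2 := fun h => hpq (h1.trans h.symm)
      have := hq' h2
      have : 3 ≤ q := by omega
      nlinarith)
    (by
      intro h1
      have h2 : p ≠ 2 := fun h => hpq (h.trans h1.symm)
      have := hp' h2
      have : 3 ≤ p := by omega
      nlinarith)
  apply h ⟨MulAut.conj g, hG ⟨g, rfl⟩⟩
  rw [← Subgroup.orderOf_coe]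
  show orderOf (MulAut.conj g) = p * q
  rw [orderOf_injective _ (conj_injective_alt n hn) g, hg]

end Cfsg.Agent.S4231
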