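import Cfsg.Statements.S4236
import Cfsg.Agent.S4303
import Cfsg.Agent.Lib.helper23.Syl35e

set_option autoImplicit false
open Cfsg

namespace Cfsg.Agent.S4236

theorem not_isPrimePow_35 : ¬ IsPrimePow 35 := by
  intro h
  rw [isPrimePow_iff_unique_prime_dvd] at h
  obtain ⟨p, _, hp⟩ := h
  have h5 := hp 5 ⟨by norm_num, by norm_num⟩
  have h7 := hp 7 ⟨by norm_num, by norm_num⟩
  omega

/-- No finite group has exactly 35 Sylow 17-subgroups. -/
theorem result {G : Type*} [Group G] [Finite G] : Nat.card (Sylow 17 G) ≠ 35 := by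
  intro h
  have : Fact (Nat.Prime 17) := ⟨by norm_num⟩
  obtain ⟨l, hl, hg⟩ := Cfsg.Agent.S4303.result (G := G) 17
  rw [h] at hl
  have hmod : ∀ m ∈ l, m % 17 = 1 := by
    intro m hm
    rcases hg m hm with ⟨_, h1⟩ | ⟨S, _, _, _, h1⟩
    · exact h1
    · rw [h1]
      exact card_sylow_modEq_one 17 S
  have hdvd : ∀ m ∈ l, m ∣ 35 := fun m hm => hl ▸ List.dvd_prod hm
  have hcases : ∀ m ∈ l, m = 1 ∨ m = 35 := by
    intro m hm
    have h1 := hdvd m hm
    have h2 := hmod m hm
    have h3 : m ∈ Nat.divisors 35 := Nat.mem_divisors.mpr ⟨h1, by norm_num⟩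
    have hd : Nat.divisors 35 = {1, 5, 7, 35} := by decide
    rw [hd] at h3
    simp only [Finset.mem_insert, Finset.mem_singleton] at h3
    rcases h3 with rfl | rfl | rfl | rfl
    · left; rfl
    · omega
    · omega
    · right; rfl
  have hex : ∃ m ∈ l, m = 35 := by
    by_contra hne
    push Not at hne
    have h1 : l.prod = 1 :=
      List.prod_eq_one (fun m hm => (hcases m hm).resolve_right (hne m hm))
    omega
  obtain ⟨m, hm, rfl⟩ := hex
  rcases hg 35 hm with ⟨hpp, _⟩ | ⟨S, instG, instF, hs, h1⟩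
  · exact not_isPrimePow_35 hpp
  · exact Cfsg.Agent.Lib.helper23.s35_simple h1.symm

end Cfsg.Agent.S4236
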