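import Cfsg.Statements.S4237
import Cfsg.Agent.Lib.helper23.KulG

set_option autoImplicit false
open Cfsg

namespace Cfsg.Agent.S4237

/-- Let G be a finite group, p a prime and a a natural number such that p^(a+1) divides the order of G. Then the number of subgroups of G of order p^a is congruent to 1 or to 1 + p modulo p². -/
theorem result {G : Type*} [Group G] [Finite G] (p a : ℕ) (hp : p.Prime) (hdvd : p ^ (a + 1) ∣ Nat.card G) :
    Nat.card {H : Subgroup G // Nat.card H = p ^ a} ≡ 1 [MOD p ^ 2] ∨
      Nat.card {H : Subgroup G // Nat.card H = p ^ a} ≡ 1 + p [MOD p ^ 2] := by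
  classical
  have : Fact p.Prime := ⟨hp⟩
  have hfrob := Cfsg.Agent.S3975.result (G := G) p a hp
    (dvd_trans (pow_dvd_pow p (Nat.le_succ a)) hdvd)
  by_cases hp2 : p = 2
  · subst hp2
    -- the count is odd
    have h1 : Nat.card {H : Subgroup G // Nat.card H = 2 ^ a} % 2 = 1 := hfrob
    have h2 : (2 : ℕ) ^ 2 = 4 := by norm_num
    rw [h2]
    unfold Nat.ModEq
    omega
  · obtain ⟨P⟩ : Nonempty (Sylow p G) := inferInstance
    have hPc := P.card_eq_multiplicity
    set n := (Nat.card G).factorization p with hn
    have han : a < n := by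
      have := (hp.pow_dvd_iff_le_factorization Nat.card_pos.ne').mp hdvd
      omega
    have hred := Cfsg.Agent.Lib.helper23.kul_sylow_reduction P n a hPc han
    by_cases hcyc : IsCyclic ↥(P : Subgroup G)
    · left
      have := hcyc
      rw [Cfsg.Agent.Lib.helper23.kul_cyclic_count hPc han.le] at hred
      exact hred
    · rcases Nat.eq_zero_or_pos a with h0 | hpos
      · left
        subst h0
        have : Nat.card {H : Subgroup G // Nat.card H = p ^ 0} = 1 := by
          rw [Nat.card_eq_one_iff_unique]
          refine ⟨⟨?_⟩, ⟨⟨⊥, by simp⟩⟩⟩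
          rintro ⟨A, hA⟩ ⟨B, hB⟩
          apply Subtype.ext
          rw [pow_zero] at hA hB
          exact (Subgroup.card_eq_one.mp hA).trans (Subgroup.card_eq_one.mp hB).symm
        rw [this]
      · right
        exact hred.trans
          (Cfsg.Agent.Lib.helper23.kulakoff p hp2 n ↥(P : Subgroup G) hPc hcyc a hpos han)

end Cfsg.Agent.S4237
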