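import Cfsg.Statements.S4238
import Cfsg.Agent.Lib.helper23.ExpSection
import Cfsg.Agent.Lib.Helper21.FrobeniusNPC
import Cfsg.Agent.Lib.Helper21.OmegaLemma

set_option autoImplicit false
open Cfsg

namespace Cfsg.Agent.S4238

open Cfsg.Agent.Lib.helper23 Cfsg.Agent.Lib.Helper21
open scoped commutatorElement

/-- a finite `p`-group has an element whose order is the exponent -/
theorem exists_orderOf_eq_exponent_of_pgroup {K : Type*} [Group K] [Finite K] (p : ℕ)
    [hp : Fact p.Prime] (hK : IsPGroup p K) : ∃ k : K, orderOf k = Monoid.exponent K := by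
  obtain ⟨k, hk⟩ := Finite.exists_max (fun k : K => orderOf k)
  refine ⟨k, Nat.dvd_antisymm (Monoid.order_dvd_exponent k) ?_⟩
  apply Monoid.exponent_dvd_of_forall_pow_eq_one
  intro g
  obtain ⟨a, ha⟩ := (IsPGroup.iff_orderOf.mp hK) g
  obtain ⟨b, hb⟩ := (IsPGroup.iff_orderOf.mp hK) k
  have hle := hk g
  rw [ha, hb] at hle
  have hab : a ≤ b := (Nat.pow_le_pow_iff_right hp.out.one_lt).mp hle
  apply orderOf_dvd_iff_pow_eq_one.mp
  rw [ha, hb]
  exact pow_dvd_pow p hab

theorem forward {G : Type*} [Group G] [Finite G] (p : ℕ) [hp : Fact p.Prime]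
    (h : Cfsg.HasNormalPComplement p G) (H : Subgroup G) (M : Subgroup H) [M.Normal]
    (hcore : Cfsg.pPrimeCore p (H ⧸ M) = ⊥) :
    ∃ k : H ⧸ M, orderOf k = Monoid.exponent (H ⧸ M) := by
  obtain ⟨P, N, hNn, hc⟩ := h
  have hNcard : (Nat.card N).Coprime p := by
    have h1 : Nat.card N = (P : Subgroup G).index := hc.index_eq_card.symm
    rw [h1]
    exact (Nat.Prime.coprime_iff_not_dvd hp.out).mpr P.not_dvd_index |>.symm
  let π : H →* H ⧸ M := QuotientGroup.mk' M
  have hπs : Function.Surjective π := QuotientGroup.mk'_surjective M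
  have hNH : (N.subgroupOf H).Normal := inferInstance
  let N' : Subgroup (H ⧸ M) := (N.subgroupOf H).map π
  have hN'n : N'.Normal := hNH.map π hπs
  have hN'c : (Nat.card N').Coprime p := by
    have h1 : Nat.card N' ∣ Nat.card (N.subgroupOf H) := Subgroup.card_map_dvd _ _
    have h2 : Nat.card (N.subgroupOf H) ∣ Nat.card N := by
      have h3 : Nat.card ((N.subgroupOf H).map H.subtype) = Nat.card (N.subgroupOf H) :=
        Subgroup.card_map_of_injective H.subtype_injective
      rw [← h3, Subgroup.subgroupOf_map_subtype]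
      exact Subgroup.card_dvd_of_le inf_le_left
    exact Nat.Coprime.coprime_dvd_left (dvd_trans h1 h2) hNcard
  have hN'bot : N' = ⊥ := by
    rw [eq_bot_iff, ← hcore]
    exact le_sSup ⟨hN'n, hN'c⟩
  have hle : N.subgroupOf H ≤ M := by
    intro x hx
    have : π x ∈ N' := ⟨x, hx, rfl⟩
    rw [hN'bot, Subgroup.mem_bot] at this
    exact (QuotientGroup.eq_one_iff x).mp this
  have hpg : IsPGroup p (H ⧸ M) := by
    have hGN : IsPGroup p (G ⧸ N) := by
      have hidx : N.index = Nat.card (P : Subgroup G) := hc.symm.index_eq_card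
      obtain ⟨a, ha⟩ := IsPGroup.iff_card.mp P.isPGroup'
      apply IsPGroup.of_card (n := a)
      rw [← Subgroup.index_eq_card, hidx, ha]
    intro y
    obtain ⟨x, rfl⟩ := hπs y
    obtain ⟨a, ha⟩ := hGN (QuotientGroup.mk (x : G))
    refine ⟨a, ?_⟩
    rw [← map_pow]
    apply (QuotientGroup.eq_one_iff _).mpr
    apply hle
    rw [Subgroup.mem_subgroupOf]
    rw [← QuotientGroup.mk_pow, QuotientGroup.eq_one_iff] at ha
    exact ha
  exact exists_orderOf_eq_exponent_of_pgroup p hpg

theorem backward {G : Type*} [Group G] [Finite G] (p : ℕ) [hp : Fact p.Prime]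
    (hsec : ∀ (H : Subgroup G) (N : Subgroup H) [N.Normal], Cfsg.pPrimeCore p (H ⧸ N) = ⊥ →
        ∃ k : H ⧸ N, orderOf k = Monoid.exponent (H ⧸ N)) :
    Cfsg.HasNormalPComplement p G := by
  classical
  by_contra hnpc
  have hnF : ¬ FrobHyp p G := fun hF => hnpc ⟨default, hF.exists_normal_complement default⟩
  unfold FrobHyp at hnF
  push Not at hnF
  obtain ⟨D₀, hD₀, g₀, hg₀N, hg₀c, hg₀C⟩ := hnF
  let Bad : Subgroup G → G → Prop := fun D g => IsPGroup p D ∧
    g ∈ Subgroup.normalizer (D : Set G) ∧ (orderOf g).Coprime p ∧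
    g ∉ Subgroup.centralizer (D : Set G)
  have hex : ∃ n, ∃ D g, Bad D g ∧ Nat.card D + orderOf g = n :=
    ⟨_, D₀, g₀, ⟨hD₀, hg₀N, hg₀c, hg₀C⟩, rfl⟩
  obtain ⟨D, g, hbad, hn⟩ := Nat.find_spec hex
  have hmin : ∀ D' g', Bad D' g' → Nat.card D + orderOf g ≤ Nat.card D' + orderOf g' := by
    intro D' g' h'
    rw [hn]
    exact Nat.find_min' hex ⟨D', g', h', rfl⟩
  obtain ⟨hD, hgN, hcop, hgC⟩ := hbad
  have hog1 : orderOf g ≠ 1 := by
    intro h
    rw [orderOf_eq_one_iff] at h
    exact hgC (h ▸ Subgroup.one_mem _)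
  obtain ⟨r, hr, hrg⟩ := Nat.exists_prime_and_dvd hog1
  have hrp : r ≠ p := by
    rintro rfl
    have := Nat.Coprime.coprime_dvd_left hrg hcop
    rw [Nat.coprime_self] at this
    exact hr.one_lt.ne' this
  have hog0 : 0 < orderOf g := orderOf_pos g
  -- (a) g^r centralizes D
  have hgrC : g ^ r ∈ Subgroup.centralizer (D : Set G) := by
    by_contra hcon
    have hord : orderOf (g ^ r) = orderOf g / r := orderOf_pow_of_dvd hr.ne_zero hrg
    have hlt : orderOf (g ^ r) < orderOf g := by
      rw [hord]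
      exact Nat.div_lt_self hog0 hr.one_lt
    have hbad' : Bad D (g ^ r) := ⟨hD, Subgroup.pow_mem _ hgN r,
      Nat.Coprime.coprime_dvd_left (orderOf_pow_dvd r) hcop, hcon⟩
    have := hmin D (g ^ r) hbad'
    omega
  -- (b) [D, g] = D
  have hZN : Subgroup.zpowers g ≤ Subgroup.normalizer (D : Set G) :=
    (Subgroup.zpowers_le).mpr hgN
  have hcomm : ⁅D, Subgroup.zpowers g⁆ = D := by
    by_contra hne
    have hle : ⁅D, Subgroup.zpowers g⁆ ≤ D :=
      Cfsg.Agent.Lib.Lead.commutator_le_left_of_le_normalizer D _ hZN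
    have hlt : ⁅D, Subgroup.zpowers g⁆ < D := lt_of_le_of_ne hle hne
    have hcardlt := Cfsg.Agent.Lib.Lead.card_lt_card_of_lt hlt
    have hgN' : g ∈ Subgroup.normalizer ((⁅D, Subgroup.zpowers g⁆ : Subgroup G) : Set G) :=
      Cfsg.Agent.Lib.Lead.right_le_normalizer_commutator D _ hZN (Subgroup.mem_zpowers g)
    have hgC' : g ∈ Subgroup.centralizer ((⁅D, Subgroup.zpowers g⁆ : Subgroup G) : Set G) := by
      by_contra hcon
      have hbad' : Bad ⁅D, Subgroup.zpowers g⁆ g := ⟨hD.to_le hle, hgN', hcop, hcon⟩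
      have := hmin _ g hbad'
      omega
    apply hgC
    rw [Subgroup.mem_centralizer_iff]
    intro d hd
    have hmem : d⁻¹ * (g * d * g⁻¹) ∈ ⁅D, Subgroup.zpowers g⁆ := by
      have h1 : ⁅d⁻¹, g⁆ ∈ ⁅D, Subgroup.zpowers g⁆ :=
        Subgroup.commutator_mem_commutator (D.inv_mem hd) (Subgroup.mem_zpowers g)
      have e : ⁅d⁻¹, g⁆ = d⁻¹ * (g * d * g⁻¹) := by
        rw [commutatorElement_def]; group
      rwa [e] at h1
    have hu : g * (d⁻¹ * (g * d * g⁻¹)) = (d⁻¹ * (g * d * g⁻¹)) * g :=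
      ((Subgroup.mem_centralizer_iff.mp hgC') _ hmem).symm
    exact (comm_of_comm_commutator D hD g hgN hcop d hd hu).symm
  have hD1 : D ≠ ⊥ := by
    rintro rfl
    apply hgC
    rw [Subgroup.mem_centralizer_iff]
    intro d hd
    rw [Subgroup.mem_bot.mp hd, one_mul, mul_one]
  -- pass to H = D ⊔ ⟨g⟩
  let H : Subgroup G := D ⊔ Subgroup.zpowers g
  have hDH : D ≤ H := le_sup_left
  have hgH : g ∈ H := (le_sup_right : Subgroup.zpowers g ≤ H) (Subgroup.mem_zpowers g)
  have hHN : H ≤ Subgroup.normalizer (D : Set G) := sup_le Subgroup.le_normalizer hZN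
  have hDXn : (D.subgroupOf H).Normal :=
    (Subgroup.normal_subgroupOf_iff_le_normalizer hDH).mpr hHN
  have hDXp : IsPGroup p (D.subgroupOf H) := hD.comap_subtype
  let gX : H := ⟨g, hgH⟩
  have hinj : Function.Injective (Subgroup.map H.subtype) :=
    Subgroup.map_injective H.subtype_injective
  have hmapD : (D.subgroupOf H).map H.subtype = D := Subgroup.map_subgroupOf_eq_of_le hDH
  have hmapZ : (Subgroup.zpowers gX).map H.subtype = Subgroup.zpowers g := by
    rw [MonoidHom.map_zpowers]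
    rfl
  have hsupX : D.subgroupOf H ⊔ Subgroup.zpowers gX = ⊤ := by
    apply hinj
    rw [Subgroup.map_sup, hmapD, hmapZ, ← MonoidHom.range_eq_map, Subgroup.range_subtype]
  have hgrX : ∀ d ∈ D.subgroupOf H, gX ^ r * d = d * gX ^ r := by
    intro d hd
    apply Subtype.ext
    have := (Subgroup.mem_centralizer_iff.mp hgrC) (d : G) (Subgroup.mem_subgroupOf.mp hd)
    simp only [Subgroup.coe_mul, Subgroup.coe_pow]
    exact this.symm
  have hcopX : (orderOf gX).Coprime p := by
    rw [Subgroup.orderOf_mk]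
    exact hcop
  have hcommX : ⁅D.subgroupOf H, Subgroup.zpowers gX⁆ = D.subgroupOf H := by
    apply hinj
    rw [Subgroup.map_commutator, hmapD, hmapZ, hcomm]
  have hD1X : D.subgroupOf H ≠ ⊥ := by
    intro h
    apply hD1
    rw [← hmapD, h, Subgroup.map_bot]
  obtain ⟨N, hNn, hcore, hno⟩ := expSection_exists p r hr hrp (D.subgroupOf H) hDXp gX hsupX hgrX
    hcopX hcommX hD1X
  obtain ⟨k, hk⟩ := hsec H N hcore
  exact hno k hk

/-- Let G be a finite group and p a prime. Then G has a normal p-complement if and only if every section K = H/N of G (N a normal subgroup of a subgroup H) whose largest normal subgroup of order prime to p is trivial contains an element whose order equals the exponent of K. -/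
theorem result {G : Type*} [Group G] [Finite G] (p : ℕ) [Fact p.Prime] :
    Cfsg.HasNormalPComplement p G ↔
      ∀ (H : Subgroup G) (N : Subgroup H) [N.Normal], Cfsg.pPrimeCore p (H ⧸ N) = ⊥ →
        ∃ k : H ⧸ N, orderOf k = Monoid.exponent (H ⧸ N) := by
  constructor
  · intro h H N _ hcore
    exact forward p h H N hcore
  · intro hsec
    exact backward p hsec

end Cfsg.Agent.S4238
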