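import Cfsg.Statements.S4242
import Cfsg.Agent.Lib.Helper21.FrobeniusNPC
import Cfsg.Agent.Lib.Lead.Coprime
import Cfsg.Agent.Lib.Helper22.Basic
import Cfsg.Agent.Lib.Helper1.MinNormal
import Cfsg.Agent.Lib.Helper1.Frat

set_option autoImplicit false
open Cfsg

namespace Cfsg.Agent.S4242


/-- In a nilpotent group, elements of coprime (finite) orders commute. -/
theorem commute_of_coprime_of_nilpotent (T : Type*) [Group T] [Group.IsNilpotent T] :
    ∀ (x g : T) (m n : ℕ), x ^ m = 1 → g ^ n = 1 → m.Coprime n → x * g = g * x := by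
  refine Group.nilpotent_center_quotient_ind
    (P := fun T _ _ => ∀ (x g : T) (m n : ℕ), x ^ m = 1 → g ^ n = 1 → m.Coprime n → x * g = g * x)
    T ?_ ?_
  · intro T _ _ x g m n _ _ _
    exact Subsingleton.elim _ _
  · intro T _ _ ih x g m n hx hg hmn
    have h1 := ih (QuotientGroup.mk x) (QuotientGroup.mk g) m n
      (by rw [← QuotientGroup.mk_pow, hx]; rfl) (by rw [← QuotientGroup.mk_pow, hg]; rfl) hmn
    have hc : x * g * x⁻¹ * g⁻¹ ∈ Subgroup.center T := by
      rw [← QuotientGroup.eq_one_iff]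
      simp only [QuotientGroup.mk_mul, QuotientGroup.mk_inv]
      rw [h1]
      group
    obtain ⟨c, hcdef⟩ : ∃ c, c = x * g * x⁻¹ * g⁻¹ := ⟨_, rfl⟩
    rw [← hcdef] at hc
    have hcc : ∀ y : T, Commute c y := fun y => (Subgroup.mem_center_iff.mp hc y).symm
    have e1 : x * g * x⁻¹ = c * g := by rw [hcdef]; group
    have hcn : c ^ n = 1 := by
      have : (c * g) ^ n = 1 := by rw [← e1, conj_pow, hg, mul_one, mul_inv_cancel]
      rwa [(hcc g).mul_pow, hg, mul_one] at this
    have e2 : g * x⁻¹ * g⁻¹ = x⁻¹ * c := by rw [hcdef]; group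
    have hcm : c ^ m = 1 := by
      have : (x⁻¹ * c) ^ m = 1 := by rw [← e2, conj_pow, inv_pow, hx, inv_one, mul_one, mul_inv_cancel]
      rwa [(hcc x⁻¹).symm.mul_pow, inv_pow, hx, inv_one, one_mul] at this
    have hc1 : c = 1 := by
      have h3 : orderOf c ∣ m := orderOf_dvd_of_pow_eq_one hcm
      have h4 : orderOf c ∣ n := orderOf_dvd_of_pow_eq_one hcn
      have h5 : orderOf c ∣ 1 := by
        have := Nat.dvd_gcd h3 h4
        rwa [hmn] at this
      exact orderOf_eq_one_iff.mp (Nat.dvd_one.mp h5)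
    have : x * g = c * (g * x) := by rw [hcdef]; group
    rw [this, hc1, one_mul]

theorem isNilpotent_of_le {G : Type*} [Group G] {A B : Subgroup G} (h : A ≤ B)
    (hB : Group.IsNilpotent B) : Group.IsNilpotent A :=
  Group.nilpotent_of_mulEquiv (Subgroup.subgroupOfEquivOfLe h)

theorem commute_in_nilpotent_subgroup {G : Type*} [Group G] {B : Subgroup G}
    (hB : Group.IsNilpotent B) {x g : G} (hx : x ∈ B) (hg : g ∈ B) {m n : ℕ}
    (hxm : x ^ m = 1) (hgn : g ^ n = 1) (hmn : m.Coprime n) : x * g = g * x := by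
  have := commute_of_coprime_of_nilpotent B ⟨x, hx⟩ ⟨g, hg⟩ m n
    (Subtype.ext (by simpa using hxm)) (Subtype.ext (by simpa using hgn)) hmn
  exact congrArg Subtype.val this

theorem isNilpotent_sup_of_commute {G : Type*} [Group G] (A B : Subgroup G)
    (hA : Group.IsNilpotent A) (hB : Group.IsNilpotent B)
    (h : ∀ a ∈ A, ∀ b ∈ B, a * b = b * a) : Group.IsNilpotent ↥(A ⊔ B) := by
  have hcomm : ∀ (a : A) (b : B), Commute (A.subtype a) (B.subtype b) :=
    fun a b => h a a.2 b b.2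
  obtain ⟨f, hf⟩ : ∃ f : A × B →* G, f = MonoidHom.noncommCoprod A.subtype B.subtype
      hcomm := ⟨_, rfl⟩
  have hr : f.range = A ⊔ B := by
    rw [hf, MonoidHom.noncommCoprod_range, Subgroup.range_subtype, Subgroup.range_subtype]
  have h1 : Group.IsNilpotent f.range :=
    Group.nilpotent_of_surjective f.rangeRestrict f.rangeRestrict_surjective
  rw [hr] at h1
  exact h1

theorem mem_sup_of_le_normalizer {G : Type*} [Group G] {A B : Subgroup G}
    (h : B ≤ Subgroup.normalizer (A : Set G)) {x : G} (hx : x ∈ A ⊔ B) :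
    ∃ a ∈ A, ∃ b ∈ B, a * b = x := by
  rw [Subgroup.sup_eq_closure] at hx
  induction hx using Subgroup.closure_induction with
  | mem x hx =>
    rcases hx with hx | hx
    · exact ⟨x, hx, 1, B.one_mem, mul_one x⟩
    · exact ⟨1, A.one_mem, x, hx, one_mul x⟩
  | one => exact ⟨1, A.one_mem, 1, B.one_mem, mul_one 1⟩
  | mul x y _ _ ihx ihy =>
    obtain ⟨a₁, ha₁, b₁, hb₁, rfl⟩ := ihx
    obtain ⟨a₂, ha₂, b₂, hb₂, rfl⟩ := ihy
    refine ⟨a₁ * (b₁ * a₂ * b₁⁻¹), A.mul_mem ha₁ ?_, b₁ * b₂, B.mul_mem hb₁ hb₂, by group⟩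
    exact (Subgroup.mem_normalizer_iff.mp (h hb₁) a₂).mp ha₂
  | inv x _ ihx =>
    obtain ⟨a, ha, b, hb, rfl⟩ := ihx
    refine ⟨b⁻¹ * a⁻¹ * b⁻¹⁻¹, ?_, b⁻¹, B.inv_mem hb, by group⟩
    exact (Subgroup.mem_normalizer_iff.mp (h (B.inv_mem hb)) a⁻¹).mp (A.inv_mem ha)

theorem le_of_sup_eq_top' {G : Type*} [Group G] {A N P : Subgroup G} (hAN : A ≤ N)
    (hPA : P ≤ Subgroup.normalizer (A : Set G)) (hNP : N ⊓ P = ⊥) (htop : A ⊔ P = ⊤) : N ≤ A := by
  intro n hn
  have hn' : n ∈ A ⊔ P := htop ▸ Subgroup.mem_top n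
  obtain ⟨a, ha, b, hb, hab⟩ := mem_sup_of_le_normalizer hPA hn'
  have hbN : b ∈ N := by
    have : b = a⁻¹ * n := by rw [← hab]; group
    rw [this]
    exact N.mul_mem (N.inv_mem (hAN ha)) hn
  have hb1 : b = 1 := by
    have : b ∈ N ⊓ P := ⟨hbN, hb⟩
    rwa [hNP, Subgroup.mem_bot] at this
  rw [← hab, hb1, mul_one]
  exact ha

theorem backward {G : Type*} [Group G] [Finite G] (p : ℕ) (hp : p.Prime)
    (h : Group.IsNilpotent G ∨ Cfsg.IsMinimalNonNilpotent G ∨
        ∃ Z K : Subgroup G, Z.Normal ∧ K.Normal ∧ Z ⊓ K = ⊥ ∧ Z ⊔ K = ⊤ ∧ Nat.card Z = p ∧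
          Cfsg.IsMinimalNonNilpotent K ∧ ¬ p ∣ Nat.card K) :
    ∀ M : Subgroup G, IsCoatom M → p ∣ Nat.card M → Group.IsNilpotent M := by
  intro M hM hpM
  rcases h with h | h | ⟨Z, K, hZn, hKn, hZK, hsup, hZp, hKmin, hpK⟩
  · infer_instance
  · exact h.2 M hM.1
  · haveI : Fact p.Prime := ⟨hp⟩
    obtain ⟨x, hxo⟩ := exists_prime_orderOf_dvd_card' p hpM
    have hx_top : (x : G) ∈ Z ⊔ K := hsup ▸ Subgroup.mem_top _
    obtain ⟨z, hz, k, hk, hzk⟩ := Subgroup.mem_sup_of_normal_left.mp hx_top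
    have hcomm : ∀ a ∈ Z, ∀ b ∈ K, a * b = b * a := by
      intro a ha b hb
      have h1 : a * b * a⁻¹ * b⁻¹ ∈ Z ⊓ K := by
        refine ⟨?_, ?_⟩
        · have e : a * b * a⁻¹ * b⁻¹ = a * (b * a⁻¹ * b⁻¹) := by group
          rw [e]
          exact Z.mul_mem ha (hZn.conj_mem _ (Z.inv_mem ha) _)
        · exact K.mul_mem (hKn.conj_mem _ hb _) (K.inv_mem hb)
      rw [hZK, Subgroup.mem_bot] at h1
      calc a * b = (a * b * a⁻¹ * b⁻¹) * (b * a) := by group
        _ = b * a := by rw [h1, one_mul]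
    have hxp : (x : G) ^ p = 1 := by
      rw [← Subgroup.coe_pow, ← hxo, pow_orderOf_eq_one]; rfl
    have hzp : z ^ p = 1 := by
      have h1 : (⟨z, hz⟩ : Z) ^ Nat.card Z = 1 := pow_card_eq_one'
      rw [hZp] at h1
      exact congrArg Subtype.val h1
    have hkp : k ^ p = 1 := by
      rw [← hzk, (show Commute z k from hcomm z hz k hk).mul_pow, hzp, one_mul] at hxp
      exact hxp
    have hk1 : k = 1 := by
      have h1 : orderOf (⟨k, hk⟩ : K) ∣ p := orderOf_dvd_of_pow_eq_one (Subtype.ext (by simpa using hkp))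
      have h2 : orderOf (⟨k, hk⟩ : K) ∣ Nat.card K := orderOf_dvd_natCard _
      rcases (Nat.dvd_prime hp).mp h1 with h3 | h3
      · have := orderOf_eq_one_iff.mp h3
        exact congrArg Subtype.val this
      · rw [h3] at h2
        exact absurd h2 hpK
    have hxz : (x : G) = z := by rw [← hzk, hk1, mul_one]
    have hx1 : x ≠ 1 := by
      intro h
      rw [h, orderOf_one] at hxo
      exact hp.one_lt.ne hxo
    have hz1 : (⟨z, hz⟩ : Z) ≠ 1 := by
      intro h
      apply hx1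
      apply Subtype.ext
      rw [hxz]
      exact congrArg Subtype.val h
    have hZM : Z ≤ M := by
      intro y hy
      have h1 : (⟨y, hy⟩ : Z) ∈ Subgroup.zpowers (⟨z, hz⟩ : Z) := mem_zpowers_of_prime_card hZp hz1
      obtain ⟨j, hj⟩ := Subgroup.mem_zpowers_iff.mp h1
      have h2 : z ^ j = y := by
        have := congrArg Subtype.val hj
        simpa using this
      rw [← h2, ← hxz]
      exact M.zpow_mem x.2 j
    have hM_eq : M = Z ⊔ (M ⊓ K) := by
      apply le_antisymm
      · intro m hm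
        have hm_top : m ∈ Z ⊔ K := hsup ▸ Subgroup.mem_top _
        obtain ⟨a, ha, b, hb, hab⟩ := Subgroup.mem_sup_of_normal_left.mp hm_top
        rw [← hab]
        refine Subgroup.mul_mem_sup ha ⟨?_, hb⟩
        have : b = a⁻¹ * m := by rw [← hab]; group
        rw [this]
        exact M.mul_mem (M.inv_mem (hZM ha)) hm
      · exact sup_le hZM inf_le_left
    have hne : (M ⊓ K).subgroupOf K ≠ ⊤ := by
      intro h
      rw [Subgroup.subgroupOf_eq_top] at h
      have hKM : K ≤ M := h.trans inf_le_left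
      exact hM.1 (eq_top_iff.mpr (hsup ▸ sup_le hZM hKM))
    have hnil1 : Group.IsNilpotent ↥((M ⊓ K).subgroupOf K) := hKmin.2 _ hne
    have hnil2 : Group.IsNilpotent ↥(M ⊓ K) :=
      Group.nilpotent_of_mulEquiv (Subgroup.subgroupOfEquivOfLe inf_le_right)
    have hnilZ : Group.IsNilpotent ↥Z := by
      have hZpg : IsPGroup p Z := IsPGroup.of_card (n := 1) (by rw [hZp, pow_one])
      exact hZpg.isNilpotent
    have := isNilpotent_sup_of_commute Z (M ⊓ K) hnilZ hnil2 (fun a ha b hb => hcomm a ha b hb.2)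
    rw [← hM_eq] at this
    exact this

open Cfsg.Agent.Lib.Helper21 Cfsg.Agent.Lib.Lead Cfsg.Agent.Lib.Helper22 in
theorem forward {G : Type*} [Group G] [Finite G] (p : ℕ) (hp : p.Prime) (hpG : p ∣ Nat.card G)
    (H0 : ∀ M : Subgroup G, IsCoatom M → p ∣ Nat.card M → Group.IsNilpotent M)
    (hnil : ¬ Group.IsNilpotent G) (hmin : ¬ Cfsg.IsMinimalNonNilpotent G) :
    ∃ Z K : Subgroup G, Z.Normal ∧ K.Normal ∧ Z ⊓ K = ⊥ ∧ Z ⊔ K = ⊤ ∧ Nat.card Z = p ∧
          Cfsg.IsMinimalNonNilpotent K ∧ ¬ p ∣ Nat.card K := by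
  haveI : Fact p.Prime := ⟨hp⟩
  have Hsub : ∀ T : Subgroup G, T ≠ ⊤ → p ∣ Nat.card T → Group.IsNilpotent T := by
    intro T hT hpT
    obtain ⟨M, hM, hTM⟩ := (eq_top_or_exists_le_coatom T).resolve_left hT
    exact isNilpotent_of_le hTM (H0 M hM (dvd_trans hpT (Subgroup.card_dvd_of_le hTM)))
  obtain ⟨M₀, hM₀, hM₀nil, hpM₀⟩ : ∃ M₀ : Subgroup G, IsCoatom M₀ ∧ ¬ Group.IsNilpotent M₀ ∧
      ¬ p ∣ Nat.card M₀ := by
    have : ∃ H : Subgroup G, H ≠ ⊤ ∧ ¬ Group.IsNilpotent H := by
      by_contra hcon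
      push Not at hcon
      exact hmin ⟨hnil, hcon⟩
    obtain ⟨H, hH, hHnil⟩ := this
    obtain ⟨M, hM, hHM⟩ := (eq_top_or_exists_le_coatom H).resolve_left hH
    have hMnil : ¬ Group.IsNilpotent M := fun h => hHnil (isNilpotent_of_le hHM h)
    exact ⟨M, hM, hMnil, fun hp' => hMnil (H0 M hM hp')⟩
  -- Step 1: Frobenius hypothesis
  have hfrob : FrobHyp p G := by
    intro D hD g hg hcop
    rw [Subgroup.mem_centralizer_iff]
    intro h hh
    by_cases h1 : h = 1
    · rw [h1, one_mul, mul_one]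
    have hDne : D ≠ ⊥ := by
      intro h0
      rw [h0, SetLike.mem_coe, Subgroup.mem_bot] at hh
      exact h1 hh
    have hpD : p ∣ Nat.card D := by
      obtain ⟨k, hk⟩ := hD.exists_card_eq
      rw [hk]
      have hk0 : k ≠ 0 := by
        intro h0
        rw [h0, pow_zero] at hk
        exact hDne (Subgroup.card_eq_one.mp hk)
      exact dvd_pow_self p hk0
    have hhpow : h ^ Nat.card D = 1 := by
      have h2 : (⟨h, hh⟩ : D) ^ Nat.card D = 1 := pow_card_eq_one'
      exact congrArg Subtype.val h2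
    have hcop' : (Nat.card D).Coprime (orderOf g) := by
      obtain ⟨k, hk⟩ := hD.exists_card_eq
      rw [hk]
      exact Nat.Coprime.pow_left k hcop.symm
    by_cases hT : D ⊔ Subgroup.zpowers g = ⊤
    · exfalso
      have hDn : D.Normal := by
        rw [← Subgroup.normalizer_eq_top_iff, eq_top_iff, ← hT]
        exact sup_le Subgroup.le_normalizer ((Subgroup.zpowers_le).mpr hg)
      have key : ∀ x : G, ∃ k : ℤ, (QuotientGroup.mk x : G ⧸ D) = (QuotientGroup.mk g : G ⧸ D) ^ k := by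
        intro x
        have hx : x ∈ D ⊔ Subgroup.zpowers g := hT ▸ Subgroup.mem_top _
        obtain ⟨a, ha, b, hb, hab⟩ := Subgroup.mem_sup_of_normal_left.mp hx
        obtain ⟨k, hk⟩ := Subgroup.mem_zpowers_iff.mp hb
        refine ⟨k, ?_⟩
        rw [← hab, QuotientGroup.mk_mul, (QuotientGroup.eq_one_iff a).mpr ha, one_mul, ← hk,
          QuotientGroup.mk_zpow]
      have hcommQ : ∀ a b : G, a * b * a⁻¹ * b⁻¹ ∈ D := by
        intro a b
        rw [← QuotientGroup.eq_one_iff]
        obtain ⟨i, hi⟩ := key a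
        obtain ⟨j, hj⟩ := key b
        simp only [QuotientGroup.mk_mul, QuotientGroup.mk_inv]
        rw [hi, hj]
        have : Commute ((QuotientGroup.mk g : G ⧸ D) ^ i) ((QuotientGroup.mk g : G ⧸ D) ^ j) :=
          (Commute.refl _).zpow_zpow i j
        rw [this.eq]
        group
      have hinf : D ⊓ M₀ = ⊥ := by
        apply Disjoint.eq_bot
        apply Subgroup.disjoint_of_coprime_natCard
        obtain ⟨k, hk⟩ := hD.exists_card_eq
        rw [hk]
        exact Nat.Coprime.pow_left k ((Nat.Prime.coprime_iff_not_dvd hp).mpr hpM₀)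
      apply hM₀nil
      have hcomm : ∀ a b : M₀, a * b = b * a := by
        intro a b
        have h2 : (a : G) * b * (a : G)⁻¹ * (b : G)⁻¹ ∈ D ⊓ M₀ :=
          ⟨hcommQ a b, M₀.mul_mem (M₀.mul_mem (M₀.mul_mem a.2 b.2) (M₀.inv_mem a.2)) (M₀.inv_mem b.2)⟩
        rw [hinf, Subgroup.mem_bot] at h2
        apply Subtype.ext
        show (a : G) * b = b * a
        calc (a : G) * b = ((a : G) * b * (a : G)⁻¹ * (b : G)⁻¹) * (b * a) := by group
          _ = b * a := by rw [h2, one_mul]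
      letI : CommGroup M₀ := { (inferInstance : Group M₀) with mul_comm := hcomm }
      infer_instance
    · have hpT : p ∣ Nat.card ↥(D ⊔ Subgroup.zpowers g) :=
        dvd_trans hpD (Subgroup.card_dvd_of_le le_sup_left)
      have hTnil := Hsub _ hT hpT
      exact commute_in_nilpotent_subgroup hTnil (le_sup_left (a := D) hh)
        (le_sup_right (a := D) (Subgroup.mem_zpowers g)) hhpow (pow_orderOf_eq_one g) hcop'
  let P : Sylow p G := default
  obtain ⟨N, hNn, hNc⟩ := hfrob.exists_normal_complement P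
  haveI := hNn
  have hcardG : Nat.card N * Nat.card (P : Subgroup G) = Nat.card G := hNc.card_mul_card
  have hNidx : N.index = Nat.card (P : Subgroup G) := by
    have h1 := N.card_mul_index
    rw [← hcardG] at h1
    exact Nat.eq_of_mul_eq_mul_left Nat.card_pos h1
  have hpN : ¬ p ∣ Nat.card N := by
    have h1 : Nat.card N = (P : Subgroup G).index := by
      have h2 := (P : Subgroup G).card_mul_index
      rw [← hcardG] at h2
      exact (Nat.eq_of_mul_eq_mul_left Nat.card_pos (h2.trans (mul_comm _ _))).symm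
    rw [h1]
    exact P.not_dvd_index
  have hNP : N ⊓ (P : Subgroup G) = ⊥ := hNc.disjoint.eq_bot
  have hsup : N ⊔ (P : Subgroup G) = ⊤ := hNc.sup_eq_top
  obtain ⟨k, hk⟩ := P.isPGroup'.exists_card_eq
  have hcopMP : (Nat.card M₀).Coprime (Nat.card (G ⧸ N)) := by
    rw [← Subgroup.index_eq_card, hNidx, hk]
    exact Nat.Coprime.pow_right k ((Nat.Prime.coprime_iff_not_dvd hp).mpr hpM₀).symm
  have hM₀N : M₀ ≤ N := by
    intro x hx
    rw [← QuotientGroup.eq_one_iff]
    have h1 : (QuotientGroup.mk x : G ⧸ N) ^ Nat.card M₀ = 1 := by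
      rw [← QuotientGroup.mk_pow]
      have h2 : x ^ Nat.card M₀ = 1 :=
        congrArg Subtype.val (pow_card_eq_one' (x := (⟨x, hx⟩ : M₀)))
      rw [h2]; rfl
    have h2 : (QuotientGroup.mk x : G ⧸ N) ^ Nat.card (G ⧸ N) = 1 := pow_card_eq_one'
    have h3 : orderOf (QuotientGroup.mk x : G ⧸ N) ∣ 1 := by
      have := Nat.dvd_gcd (orderOf_dvd_of_pow_eq_one h1) (orderOf_dvd_of_pow_eq_one h2)
      rwa [hcopMP] at this
    exact orderOf_eq_one_iff.mp (Nat.dvd_one.mp h3)
  have hN_top : N ≠ ⊤ := by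
    intro h
    apply hpN
    rw [h, Subgroup.card_top]
    exact hpG
  have hM₀eq : M₀ = N := by
    by_contra hne
    exact hN_top (hM₀.2 N (lt_of_le_of_ne hM₀N hne))
  subst hM₀eq
  have hPcard : Nat.card (P : Subgroup G) = p := by
    have hQp : IsPGroup p (G ⧸ M₀) :=
      IsPGroup.of_card (n := k) (by rw [← Subgroup.index_eq_card, hNidx, hk])
    have hco : IsCoatom (M₀.map (QuotientGroup.mk' M₀)) :=
      Cfsg.Agent.Lib.Helper1.isCoatom_map_of_ker_le (QuotientGroup.mk'_surjective M₀) hM₀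
        (by rw [QuotientGroup.ker_mk'])
    rw [QuotientGroup.map_mk'_self] at hco
    have := Cfsg.Agent.Lib.Helper1.pgroup_coatom_index hQp hco
    rw [Subgroup.index_bot, ← Subgroup.index_eq_card, hNidx] at this
    exact this
  have hPsolv : Group.IsSolvable (P : Subgroup G) := by
    have := P.isPGroup'.isNilpotent
    infer_instance
  have hcopPN : (Nat.card (P : Subgroup G)).Coprime (Nat.card M₀) := by
    rw [hPcard]; exact (Nat.Prime.coprime_iff_not_dvd hp).mpr hpN
  have hpP : p ∣ Nat.card (P : Subgroup G) := by rw [hPcard]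
  have hcent : ∀ (q : ℕ) [Fact q.Prime], ∃ S : Sylow q M₀, ∀ s ∈ (S : Subgroup M₀),
      ∀ x ∈ (P : Subgroup G), x * (s : G) = (s : G) * x := by
    intro q _
    obtain ⟨S, hS⟩ := exists_invariant_sylow_ext (P : Subgroup G) M₀ (by rw [sup_comm]; exact hsup)
      hcopPN (Or.inl hPsolv) q
    refine ⟨S, ?_⟩
    obtain ⟨S', hS'⟩ : ∃ S' : Subgroup G, S' = (S : Subgroup M₀).map M₀.subtype := ⟨_, rfl⟩
    rw [← hS'] at hS
    have hS'N : S' ≤ M₀ := by rw [hS']; exact Subgroup.map_subtype_le _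
    have hT' : S' ⊔ (P : Subgroup G) ≠ ⊤ := by
      intro htop
      have hle := le_of_sup_eq_top' hS'N hS hNP htop
      apply hM₀nil
      have hStop : (S : Subgroup M₀) = ⊤ := by
        rw [eq_top_iff]
        intro n _
        have hn : (n : G) ∈ S' := hle n.2
        rw [hS'] at hn
        obtain ⟨m, hm, hmn⟩ := hn
        have : m = n := Subtype.ext hmn
        rwa [← this]
      have h2 := S.isPGroup'
      rw [hStop] at h2
      exact (IsPGroup.of_equiv h2 Subgroup.topEquiv).isNilpotent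
    have hpT' : p ∣ Nat.card ↥(S' ⊔ (P : Subgroup G)) :=
      dvd_trans hpP (Subgroup.card_dvd_of_le le_sup_right)
    have hTnil := Hsub _ hT' hpT'
    intro s hs x hx
    have hsS' : (s : G) ∈ S' := by rw [hS']; exact ⟨s, hs, rfl⟩
    have hspow : (s : G) ^ Nat.card (S : Subgroup M₀) = 1 := by
      have h1 : (⟨s, hs⟩ : (S : Subgroup M₀)) ^ Nat.card (S : Subgroup M₀) = 1 := pow_card_eq_one'
      have h2 : (s : M₀) ^ Nat.card (S : Subgroup M₀) = 1 := congrArg Subtype.val h1
      exact congrArg Subtype.val h2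
    have hxpow : x ^ Nat.card (P : Subgroup G) = 1 :=
      congrArg Subtype.val (pow_card_eq_one' (x := (⟨x, hx⟩ : (P : Subgroup G))))
    have hcop2 : (Nat.card (P : Subgroup G)).Coprime (Nat.card (S : Subgroup M₀)) :=
      Nat.Coprime.coprime_dvd_right (Subgroup.card_subgroup_dvd_card _) hcopPN
    exact commute_in_nilpotent_subgroup hTnil (le_sup_right (a := S') hx)
      (le_sup_left (b := (P : Subgroup G)) hsS') hxpow hspow hcop2
  have hD : (Subgroup.centralizer ((P : Subgroup G) : Set G)).subgroupOf M₀ = ⊤ := by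
    apply eq_top_of_sylow_le
    intro q _
    obtain ⟨S, hS⟩ := hcent q
    refine ⟨S, fun s hs => ?_⟩
    rw [Subgroup.mem_subgroupOf, Subgroup.mem_centralizer_iff]
    intro x hx
    exact hS s hs x hx
  have hNcent : M₀ ≤ Subgroup.centralizer ((P : Subgroup G) : Set G) :=
    Subgroup.subgroupOf_eq_top.mp hD
  have hPn : (P : Subgroup G).Normal := by
    rw [← Subgroup.normalizer_eq_top_iff, eq_top_iff, ← hsup]
    exact sup_le (hNcent.trans (Subgroup.centralizer_le_normalizer _)) Subgroup.le_normalizer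
  refine ⟨(P : Subgroup G), M₀, hPn, hNn, by rw [inf_comm]; exact hNP, by rw [sup_comm]; exact hsup,
    hPcard, ⟨hM₀nil, ?_⟩, hpN⟩
  intro H hH
  obtain ⟨H', hH'⟩ : ∃ H' : Subgroup G, H' = H.map M₀.subtype := ⟨_, rfl⟩
  have hH'N : H' ≤ M₀ := by rw [hH']; exact Subgroup.map_subtype_le _
  have hPH' : (P : Subgroup G) ≤ Subgroup.normalizer (H' : Set G) := by
    intro x hx
    rw [Subgroup.mem_normalizer_iff]
    intro h
    have key : ∀ h ∈ M₀, x * h * x⁻¹ = h := by
      intro h hh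
      have := Subgroup.mem_centralizer_iff.mp (hNcent hh) x hx
      rw [this, mul_inv_cancel_right]
    constructor
    · intro hh
      rw [key h (hH'N hh)]; exact hh
    · intro hh
      have h1 : x * h * x⁻¹ ∈ M₀ := hH'N hh
      have h2 : h ∈ M₀ := by
        have : h = x⁻¹ * (x * h * x⁻¹) * x⁻¹⁻¹ := by group
        rw [this]
        exact hNn.conj_mem _ h1 _
      rw [key h h2] at hh; exact hh
  have hT'' : H' ⊔ (P : Subgroup G) ≠ ⊤ := by
    intro htop
    have hle := le_of_sup_eq_top' hH'N hPH' hNP htop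
    apply hH
    rw [eq_top_iff]
    intro n _
    have hn : (n : G) ∈ H' := hle n.2
    rw [hH'] at hn
    obtain ⟨m, hm, hmn⟩ := hn
    have : m = n := Subtype.ext hmn
    rwa [← this]
  have hpT'' : p ∣ Nat.card ↥(H' ⊔ (P : Subgroup G)) :=
    dvd_trans hpP (Subgroup.card_dvd_of_le le_sup_right)
  have hTnil := Hsub _ hT'' hpT''
  have hH'nil : Group.IsNilpotent H' := isNilpotent_of_le le_sup_left hTnil
  rw [hH'] at hH'nil
  exact Group.nilpotent_of_mulEquiv
    (Subgroup.equivMapOfInjective H M₀.subtype M₀.subtype_injective).symm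



/-- Let G be a finite group and p a prime dividing its order. Every maximal subgroup of G of order divisible by p is nilpotent if and only if G is nilpotent, or G is a minimal non-nilpotent group, or G is the internal direct product of a normal subgroup of order p and a normal minimal non-nilpotent subgroup of order prime to p. -/
theorem result {G : Type*} [Group G] [Finite G] (p : ℕ) (hp : p.Prime) (hpG : p ∣ Nat.card G) :
    (∀ M : Subgroup G, IsCoatom M → p ∣ Nat.card M → Group.IsNilpotent M) ↔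
      (Group.IsNilpotent G ∨ Cfsg.IsMinimalNonNilpotent G ∨
        ∃ Z K : Subgroup G, Z.Normal ∧ K.Normal ∧ Z ⊓ K = ⊥ ∧ Z ⊔ K = ⊤ ∧ Nat.card Z = p ∧
          Cfsg.IsMinimalNonNilpotent K ∧ ¬ p ∣ Nat.card K) := by
  constructor
  · intro H0
    by_cases hnil : Group.IsNilpotent G
    · exact Or.inl hnil
    by_cases hmin : Cfsg.IsMinimalNonNilpotent G
    · exact Or.inr (Or.inl hmin)
    exact Or.inr (Or.inr (forward p hp hpG H0 hnil hmin))
  · intro h
    exact backward p hp h

end Cfsg.Agent.S4242
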