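import Cfsg.Statements.S4251
import Cfsg.Agent.Lib.Helper1.AlperinUse

set_option autoImplicit false
open Cfsg
open Cfsg.Agent.Lib.Helper1 Cfsg.Agent.Lib.Helper13 Cfsg.Agent.S0116

namespace Cfsg.Agent.S4251

/-- Let P be a Sylow p-subgroup of a finite group G. Call an intersection H = P ∩ Q with a Sylow p-subgroup Q tame when N_P(H) and N_Q(H) are Sylow p-subgroups of N_G(H). If N_G(H)/C_G(H) is a p-group for every nontrivial tame intersection H = P ∩ Q, then G has a normal p-complement. -/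
theorem result {G : Type*} [Group G] [Finite G] (p : ℕ) [Fact p.Prime] (P : Sylow p G)
    (h : ∀ Q : Sylow p G, (P : Subgroup G) ⊓ (Q : Subgroup G) ≠ ⊥ → (¬ p ∣ ((P : Subgroup G) ⊓ Subgroup.normalizer (((P : Subgroup G) ⊓ (Q : Subgroup G) : Subgroup G) : Set G)).relIndex (Subgroup.normalizer (((P : Subgroup G) ⊓ (Q : Subgroup G) : Subgroup G) : Set G)) ∧ ¬ p ∣ ((Q : Subgroup G) ⊓ Subgroup.normalizer (((P : Subgroup G) ⊓ (Q : Subgroup G) : Subgroup G) : Set G)).relIndex (Subgroup.normalizer (((P : Subgroup G) ⊓ (Q : Subgroup G) : Subgroup G) : Set G))) →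
      IsPGroup p (Subgroup.normalizer (((P : Subgroup G) ⊓ (Q : Subgroup G) : Subgroup G) : Set G) ⧸
        (Subgroup.centralizer (((P : Subgroup G) ⊓ (Q : Subgroup G) : Subgroup G) : Set G)).subgroupOf
          (Subgroup.normalizer (((P : Subgroup G) ⊓ (Q : Subgroup G) : Subgroup G) : Set G)))) :
    Cfsg.HasNormalPComplement p G := by
  have aux : ∀ T : Subgroup G,
      IsPGroup p (Subgroup.normalizer (T : Set G) ⧸
        (Subgroup.centralizer (T : Set G)).subgroupOf (Subgroup.normalizer (T : Set G))) →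
      ¬ p ∣ ((P : Subgroup G) ⊓ Subgroup.normalizer (T : Set G)).relIndex (Subgroup.normalizer (T : Set G)) →
      ∀ y ∈ Subgroup.normalizer (T : Set G), ∃ v ∈ (P : Subgroup G), ∀ t ∈ T, y⁻¹ * t * y = v⁻¹ * t * v := by
    intro T hq hS y hy
    obtain ⟨c, hc, s, hs, hcs⟩ := exists_mul_of_pgroup_quotient (Subgroup.normalizer (T : Set G))
      (Subgroup.centralizer (T : Set G)) ((P : Subgroup G) ⊓ Subgroup.normalizer (T : Set G))
      (Subgroup.centralizer_le_normalizer _) inf_le_right hq hS y hy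
    refine ⟨s, hs.1, ?_⟩
    intro t ht
    have hct : c⁻¹ * t * c = t := by
      have h1 := Subgroup.mem_centralizer_iff.mp hc t ht
      rw [mul_assoc, h1]
      group
    rw [hcs]
    have e : (c * s)⁻¹ * t * (c * s) = s⁻¹ * (c⁻¹ * t * c) * s := by group
    rw [e, hct]
  have hcf : ControlsFusion (P : Subgroup G) := by
    apply controls_of_tame P
    intro T hT hTne y hy
    obtain ⟨Q, hQp, hQc, hTdef, ht1, ht2⟩ := hT
    have hcard : Nat.card Q = p ^ (Nat.card G).factorization p := by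
      rw [hQc, Sylow.card_eq_multiplicity]
    obtain ⟨Q2, hQ2⟩ : ∃ Q2 : Sylow p G, (Q2 : Subgroup G) = Q := ⟨Sylow.ofCard Q hcard, Sylow.coe_ofCard _ _⟩
    have e : (P : Subgroup G) ⊓ (Q2 : Subgroup G) = T := by rw [hQ2, hTdef]
    have h1 := h Q2
    rw [← hQ2] at ht2
    subst e
    exact aux _ (h1 hTne ⟨ht1, ht2⟩) ht1 y hy
  obtain ⟨N, hN, hcop, k, hk⟩ := controls_npc p _ G rfl (P : Subgroup G) P.2 P.not_dvd_index hcf
  refine ⟨P, N, hN, ?_⟩
  have hG : Nat.card G = Nat.card N * p ^ k := by rw [← hk, Subgroup.card_mul_index]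
  have hnd : ¬ p ∣ Nat.card N := by
    rw [← Nat.Prime.coprime_iff_not_dvd Fact.out, Nat.coprime_comm]
    exact hcop
  have hfac : (Nat.card G).factorization p = k := by
    rw [hG, Nat.factorization_mul Nat.card_pos.ne' (pow_pos (Fact.out : p.Prime).pos k).ne', Nat.factorization_pow]
    simp [Nat.factorization_eq_zero_of_not_dvd hnd, (Fact.out : p.Prime).factorization_self]
  have hP : Nat.card (P : Subgroup G) = p ^ k := by rw [Sylow.card_eq_multiplicity, hfac]
  apply Subgroup.isComplement'_of_coprime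
  · rw [hP, ← hG]
  · rw [hP]
    exact Nat.Coprime.pow_right k hcop

end Cfsg.Agent.S4251
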