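import Cfsg.Statements.S4255
import Cfsg.Agent.Lib.Helper18.ClassGraphC

set_option autoImplicit false
open Cfsg

namespace Cfsg.Agent.S4255

open Cfsg.Agent.Lib.Helper18.ClassGraph Cfsg.Agent.Lib.Helper18.ClassGraphC

theorem result {G : Type*} [Group G] [Finite G] (S : Set ℕ) (hS : ∃ p ∈ S, (p.Prime ∧ ∃ g : G, p ∣ (Subgroup.centralizer ({g} : Set G)).index)) (hS' : ∃ q ∉ S, (q.Prime ∧ ∃ g : G, q ∣ (Subgroup.centralizer ({g} : Set G)).index))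
    (hdisc : ∀ p q : ℕ, (p.Prime ∧ ∃ g : G, p ∣ (Subgroup.centralizer ({g} : Set G)).index) → (q.Prime ∧ ∃ g : G, q ∣ (Subgroup.centralizer ({g} : Set G)).index) → p ∈ S → q ∉ S → ¬ (∃ g : G, p * q ∣ (Subgroup.centralizer ({g} : Set G)).index)) :
    ∃ H : Subgroup (G ⧸ Subgroup.center G), Cfsg.IsFrobeniusComplement H ∧ IsMulCommutative H ∧
      ∀ x ∈ Cfsg.frobeniusKernel H, ∀ y ∈ Cfsg.frobeniusKernel H, x * y = y * x := by
  classical
  have hdich : ∀ g : G, Cfsg.Agent.Lib.Helper18.ClassGraph.SNum S (cs g) ∨ Cfsg.Agent.Lib.Helper18.ClassGraph.SNum Sᶜ (cs g) := by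
    intro g
    by_contra hcon
    push Not at hcon
    obtain ⟨h1, h2⟩ := hcon
    unfold Cfsg.Agent.Lib.Helper18.ClassGraph.SNum at h1 h2
    push Not at h1 h2
    obtain ⟨q, hq, hqd, hqS⟩ := h1
    obtain ⟨p, hp, hpd, hpS⟩ := h2
    have hpS' : p ∈ S := by simpa using hpS
    have hne : p ≠ q := fun h => hqS (h ▸ hpS')
    have hcop : Nat.Coprime p q := (Nat.coprime_primes hp hq).2 hne
    exact hdisc p q ⟨hp, g, hpd⟩ ⟨hq, g, hqd⟩ hpS' hqS ⟨g, hcop.mul_dvd_of_dvd_of_dvd hpd hqd⟩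
  obtain ⟨b, hb⟩ := Finite.exists_max (fun g : G => cs g)
  obtain ⟨p, hpS, hp, g1, hpg⟩ := hS
  obtain ⟨q, hqS, hq, g2, hqg⟩ := hS'
  rcases hdich b with h | h
  · exact main (S1 := Sᶜ) (S2 := S) (fun r h1 h2 => h1 h2) (fun g => (hdich g).symm) b hb h
      q hq hqS g2 hqg
  · exact main (S1 := S) (S2 := Sᶜ) (fun r h1 h2 => h2 h1) hdich b hb h p hp hpS g1 hpg

end Cfsg.Agent.S4255
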