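import Cfsg.Statements.S4261
import Cfsg.Agent.Lib.Helper1.MinNormal
import Cfsg.Agent.Lib.Helper1.Frat

set_option autoImplicit false
open Cfsg

namespace Cfsg.Agent.S4261

/-- Let M be a maximal subgroup of a finite solvable group G such that x^[G : M] lies in M for every x in G. Then M is normal in G. -/
theorem result {G : Type*} [Group G] [Finite G] (hG : Group.IsSolvable G) (M : Subgroup G) (hM : IsCoatom M)
    (hexp : ∀ x : G, x ^ M.index ∈ M) : M.Normal := by
  obtain ⟨p, k, hp, hk, hpk⟩ := Cfsg.Agent.Lib.Helper1.coatom_index_primePow M hM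
  have hp' : p.Prime := hp.nat_prime
  haveI : Fact p.Prime := ⟨hp'⟩
  have hcore : ∀ x : G, x ^ M.index ∈ M.normalCore := by
    intro x
    rw [Subgroup.normalCore]
    intro g
    have h := hexp (g * x * g⁻¹)
    rw [conj_pow] at h
    exact h
  have hNM : M.normalCore ≤ M := Subgroup.normalCore_le M
  let π := QuotientGroup.mk' M.normalCore
  have hπ : Function.Surjective π := QuotientGroup.mk'_surjective _
  have hker : π.ker ≤ M := by rw [QuotientGroup.ker_mk']; exact hNM
  have hPG : IsPGroup p (G ⧸ M.normalCore) := by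
    intro y
    obtain ⟨x, rfl⟩ := hπ y
    refine ⟨k, ?_⟩
    rw [← map_pow, hpk]
    exact (QuotientGroup.eq_one_iff _).mpr (hcore x)
  have hco := Cfsg.Agent.Lib.Helper1.isCoatom_map_of_ker_le hπ hM hker
  have hn : (M.map π).Normal := Cfsg.Agent.Lib.Helper1.pgroup_coatom_normal hPG hco
  have hcm : (M.map π).comap π = M := Subgroup.comap_map_eq_self hker
  rw [← hcm]
  exact hn.comap π

end Cfsg.Agent.S4261
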