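import Cfsg.Statements.S4263
import Cfsg.Agent.Lib.helper23.Fitting

set_option autoImplicit false
open Cfsg

namespace Cfsg.Agent.S4263

open Cfsg.Agent.Lib.helper23

theorem forward {G : Type*} [Group G] [Finite G] (x : G) (hx : x ∈ Cfsg.fittingSubgroup G)
    (H : Subgroup G) : x ^ H.index ∈ H := by
  have hN : (Cfsg.fittingSubgroup G).Normal := fittingSubgroup_normal G
  have hnil : Group.IsNilpotent (Cfsg.fittingSubgroup G) := fittingSubgroup_isNilpotent G
  have h1 := pow_index_mem_of_isNilpotent' (H.subgroupOf (Cfsg.fittingSubgroup G))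
    (⟨x, hx⟩ : Cfsg.fittingSubgroup G)
  rw [Subgroup.mem_subgroupOf] at h1
  have h2 : H.relIndex (Cfsg.fittingSubgroup G) ∣ H.index :=
    relIndex_dvd_index_of_normal_right (Cfsg.fittingSubgroup G) H
  obtain ⟨k, hk⟩ := h2
  rw [hk, pow_mul]
  exact H.pow_mem h1 k

theorem backward {G : Type*} [Group G] [Finite G] (x : G)
    (h : ∀ H : Subgroup G, x ^ H.index ∈ H) : x ∈ Cfsg.fittingSubgroup G := by
  have hN : (Cfsg.fittingSubgroup G).Normal := fittingSubgroup_normal G
  rw [← QuotientGroup.eq_one_iff, ← orderOf_eq_one_iff]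
  by_contra hne
  obtain ⟨q, hq, hqd⟩ := Nat.exists_prime_and_dvd hne
  have : Fact q.Prime := ⟨hq⟩
  obtain ⟨P⟩ : Nonempty (Sylow q G) := inferInstance
  have hcore : x ^ (P : Subgroup G).index ∈ (P : Subgroup G).normalCore := by
    intro b
    have hb := h ((P : Subgroup G).comap (MulAut.conj b).toMonoidHom)
    rw [Subgroup.index_comap_of_surjective _ (MulAut.conj b).surjective] at hb
    simpa [Subgroup.mem_comap] using hb
  have hle : (P : Subgroup G).normalCore ≤ Cfsg.fittingSubgroup G := by
    apply le_sSup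
    refine ⟨inferInstance, ?_⟩
    have hp : IsPGroup q (P : Subgroup G).normalCore :=
      P.isPGroup'.to_le (Subgroup.normalCore_le _)
    exact hp.isNilpotent
  have hmem : x ^ (P : Subgroup G).index ∈ Cfsg.fittingSubgroup G := hle hcore
  have h1 : ((x : G ⧸ Cfsg.fittingSubgroup G)) ^ (P : Subgroup G).index = 1 := by
    rw [← QuotientGroup.mk_pow, QuotientGroup.eq_one_iff]
    exact hmem
  have h2 : q ∣ (P : Subgroup G).index := hqd.trans (orderOf_dvd_of_pow_eq_one h1)
  exact P.not_dvd_index h2

/-- Let G be a finite group. An element x lies in the Fitting subgroup F(G) if and only if, for every subgroup H of G, the power x^[G : H] lies in H. -/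
theorem result {G : Type*} [Group G] [Finite G] (x : G) :
    x ∈ Cfsg.fittingSubgroup G ↔ ∀ H : Subgroup G, x ^ H.index ∈ H := by
  exact ⟨fun hx H => forward x hx H, backward x⟩

end Cfsg.Agent.S4263
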