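import Cfsg.Statements.S4269

set_option autoImplicit false
open Cfsg

namespace Cfsg.Agent.S4269

open scoped commutatorElement

variable {G : Type*} [Group G]

local notation:max "cj(" H ", " g ")" => Subgroup.map (MulEquiv.toMonoidHom (MulAut.conj g)) H

theorem mem_cj (H : Subgroup G) (g y : G) : y ∈ cj(H, g) ↔ g⁻¹ * y * g ∈ H := by
  constructor
  · rintro ⟨h, hh, rfl⟩
    have : g⁻¹ * (MulAut.conj g).toMonoidHom h * g = h := by
      simp [MulAut.conj_apply]; group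
    rw [this]; exact hh
  · intro h
    refine ⟨g⁻¹ * y * g, h, ?_⟩
    simp [MulAut.conj_apply]; group

theorem cj_mul (H : Subgroup G) (a b : G) : cj(H, a * b) = cj(cj(H, b), a) := by
  ext y
  rw [mem_cj, mem_cj, mem_cj]
  have : (a * b)⁻¹ * y * (a * b) = b⁻¹ * (a⁻¹ * y * a) * b := by group
  rw [this]

theorem cj_of_mem (H : Subgroup G) {h : G} (hh : h ∈ H) : cj(H, h) = H := by
  ext y
  rw [mem_cj]
  constructor
  · intro hy
    have := H.mul_mem (H.mul_mem hh hy) (H.inv_mem hh)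
    have e : h * (h⁻¹ * y * h) * h⁻¹ = y := by group
    rw [e] at this; exact this
  · intro hy
    exact H.mul_mem (H.mul_mem (H.inv_mem hh) hy) hh

theorem cj_of_mem_normalizer (H : Subgroup G) {n : G} (hn : n ∈ Subgroup.normalizer (H : Set G)) :
    cj(H, n) = H :=
  Subgroup.mem_normalizer_iff_map_conj_eq.mp hn

/-- if `A` normalizes `B` elementwise then every element of `A ⊔ B` is `b * a` -/
theorem mem_sup_of_normalizes (A B : Subgroup G) (hAB : ∀ a ∈ A, ∀ b ∈ B, a * b * a⁻¹ ∈ B)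
    {x : G} (hx : x ∈ A ⊔ B) : ∃ b ∈ B, ∃ a ∈ A, x = b * a := by
  rw [Subgroup.sup_eq_closure] at hx
  induction hx using Subgroup.closure_induction with
  | mem x hx =>
    rcases hx with h | h
    · exact ⟨1, B.one_mem, x, h, by rw [one_mul]⟩
    · exact ⟨x, h, 1, A.one_mem, by rw [mul_one]⟩
  | one => exact ⟨1, B.one_mem, 1, A.one_mem, by rw [one_mul]⟩
  | mul x y _ _ ihx ihy =>
    obtain ⟨b, hb, a, ha, rfl⟩ := ihx
    obtain ⟨b', hb', a', ha', rfl⟩ := ihy
    refine ⟨b * (a * b' * a⁻¹), B.mul_mem hb (hAB a ha b' hb'), a * a', A.mul_mem ha ha', ?_⟩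
    group
  | inv x _ ih =>
    obtain ⟨b, hb, a, ha, rfl⟩ := ih
    refine ⟨a⁻¹ * b⁻¹ * a⁻¹⁻¹, hAB a⁻¹ (A.inv_mem ha) b⁻¹ (B.inv_mem hb), a⁻¹, A.inv_mem ha, ?_⟩
    group

theorem forward [Finite G]
    (V : Subgroup G) [V.Normal] (H : Subgroup G)
    (hpro : Cfsg.IsPronormal H) (U : Subgroup G) (_hUV : U ≤ V)
    (hinv : ∀ h ∈ H, U.map (MulAut.conj h).toMonoidHom = U) :
    U = (U ⊓ Subgroup.normalizer (H : Set G)) ⊔ ⁅H, U⁆ := by
  have hinv' : ∀ h ∈ H, ∀ u ∈ U, h * u * h⁻¹ ∈ U := by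
    intro h hh u hu
    have : h * u * h⁻¹ ∈ U.map (MulAut.conj h).toMonoidHom := ⟨u, hu, by simp [MulAut.conj_apply]⟩
    rw [hinv h hh] at this
    exact this
  have hcomm_le : ⁅H, U⁆ ≤ U := by
    rw [Subgroup.commutator_le]
    intro h hh u hu
    rw [commutatorElement_def]
    exact U.mul_mem (hinv' h hh u hu) (U.inv_mem hu)
  apply le_antisymm
  · intro u hu
    obtain ⟨x, hx, hxe⟩ := hpro u
    -- H normalizes ⁅H, U⁆
    have hnorm : ∀ a ∈ H, ∀ b ∈ ⁅H, U⁆, a * b * a⁻¹ ∈ ⁅H, U⁆ := by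
      intro a ha b hb
      have hN : (⁅H, U⁆ : Subgroup G).map (MulAut.conj a).toMonoidHom = ⁅H, U⁆ := by
        rw [Subgroup.map_commutator, cj_of_mem H ha, hinv a ha]
      have : a * b * a⁻¹ ∈ (⁅H, U⁆ : Subgroup G).map (MulAut.conj a).toMonoidHom :=
        ⟨b, hb, by simp [MulAut.conj_apply]⟩
      rw [hN] at this
      exact this
    have hle : H ⊔ cj(H, u) ≤ H ⊔ ⁅H, U⁆ := by
      apply sup_le le_sup_left
      rintro y ⟨h, hh, rfl⟩
      have e : (MulAut.conj u).toMonoidHom h = ⁅u, h⁆ * h := by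
        simp [MulAut.conj_apply, commutatorElement_def]
      rw [e]
      apply Subgroup.mul_mem _ _ (Subgroup.mem_sup_left hh)
      apply Subgroup.mem_sup_right
      rw [Subgroup.commutator_comm]
      exact Subgroup.commutator_mem_commutator hu hh
    obtain ⟨k, hk, h, hh, rfl⟩ := mem_sup_of_normalizes H ⁅H, U⁆ hnorm (hle hx)
    have h1 : cj(H, u) = cj(H, k) := by
      have : cj(H, k * h) = cj(H, k) := by rw [cj_mul, cj_of_mem H hh]
      rw [← this]; exact hxe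
    have h2 : k⁻¹ * u ∈ Subgroup.normalizer (H : Set G) := by
      rw [Subgroup.mem_normalizer_iff_map_conj_eq]
      change cj(H, k⁻¹ * u) = H
      rw [cj_mul, h1, ← cj_mul, inv_mul_cancel]
      exact cj_of_mem H H.one_mem
    have h3 : u = k⁻¹⁻¹ * (k⁻¹ * u) := by group
    rw [h3, inv_inv]
    refine Subgroup.mul_mem _ (Subgroup.mem_sup_right hk) (Subgroup.mem_sup_left ⟨?_, h2⟩)
    exact U.mul_mem (U.inv_mem (hcomm_le hk)) hu
  · exact sup_le inf_le_left hcomm_le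

theorem backward [Finite G]
    (V : Subgroup G) [V.Normal] (hV : IsMulCommutative ↥V) (H : Subgroup G) (hHV : H ⊔ V = ⊤)
    (hU : ∀ U : Subgroup G, U ≤ V → (∀ h ∈ H, U.map (MulAut.conj h).toMonoidHom = U) →
        U = (U ⊓ Subgroup.normalizer (H : Set G)) ⊔ ⁅H, U⁆) :
    Cfsg.IsPronormal H := by
  have hVcomm : ∀ a ∈ V, ∀ b ∈ V, a * b = b * a := by
    intro a ha b hb
    have := hV.is_comm.comm ⟨a, ha⟩ ⟨b, hb⟩
    exact congrArg Subtype.val this
  intro g
  -- write g = v * h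
  have hg : g ∈ H ⊔ V := by rw [hHV]; exact Subgroup.mem_top g
  have hnorm0 : ∀ a ∈ H, ∀ b ∈ V, a * b * a⁻¹ ∈ V := fun a _ b hb =>
    (inferInstance : V.Normal).conj_mem b hb a
  obtain ⟨v, hv, h, hh, rfl⟩ := mem_sup_of_normalizes H V hnorm0 hg
  have hcj : cj(H, v * h) = cj(H, v) := by rw [cj_mul, cj_of_mem H hh]
  change ∃ x ∈ H ⊔ cj(H, v * h), cj(H, v * h) = cj(H, x)
  rw [hcj]
  -- the H-invariant subgroup generated by v
  set S : Set G := {y | ∃ h' ∈ H, y = h' * v * h'⁻¹} with hS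
  set U : Subgroup G := Subgroup.closure S with hUdef
  have hSV : S ⊆ V := by
    rintro y ⟨h', _, rfl⟩
    exact (inferInstance : V.Normal).conj_mem v hv h'
  have hUV : U ≤ V := (Subgroup.closure_le V).mpr hSV
  have hUinv : ∀ a ∈ H, U.map (MulAut.conj a).toMonoidHom = U := by
    intro a ha
    rw [hUdef, MonoidHom.map_closure]
    congr 1
    ext y
    constructor
    · rintro ⟨z, ⟨h', hh', rfl⟩, rfl⟩
      refine ⟨a * h', H.mul_mem ha hh', ?_⟩
      simp [MulAut.conj_apply]; group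
    · rintro ⟨h', hh', rfl⟩
      refine ⟨a⁻¹ * h' * v * (a⁻¹ * h')⁻¹, ⟨a⁻¹ * h', H.mul_mem (H.inv_mem ha) hh', rfl⟩, ?_⟩
      simp [MulAut.conj_apply]; group
  have hvU : v ∈ U := Subgroup.subset_closure ⟨1, H.one_mem, by group⟩
  have hdec := hU U hUV hUinv
  -- ⁅H, U⁆ ≤ J
  set J := H ⊔ cj(H, v) with hJ
  have hcommV : ∀ a ∈ H, ∀ u ∈ V, ⁅a, u⁆ ∈ V := by
    intro a _ u hu
    rw [commutatorElement_def]
    exact V.mul_mem ((inferInstance : V.Normal).conj_mem u hu a) (V.inv_mem hu)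
  have hcommJ : ⁅H, U⁆ ≤ J := by
    rw [Subgroup.commutator_le]
    intro a ha u hu
    induction hu using Subgroup.closure_induction with
    | mem u hu =>
      obtain ⟨h', hh', rfl⟩ := hu
      have e : ⁅a, h' * v * h'⁻¹⁆ = (a * h') * (v * (h'⁻¹ * a⁻¹ * h') * v⁻¹) * h'⁻¹ := by
        rw [commutatorElement_def]; group
      rw [e]
      refine Subgroup.mul_mem _ (Subgroup.mul_mem _ (Subgroup.mem_sup_left (H.mul_mem ha hh')) ?_)
        (Subgroup.mem_sup_left (H.inv_mem hh'))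
      apply Subgroup.mem_sup_right
      rw [mem_cj]
      have e2 : v⁻¹ * (v * (h'⁻¹ * a⁻¹ * h') * v⁻¹) * v = h'⁻¹ * a⁻¹ * h' := by group
      rw [e2]
      exact H.mul_mem (H.mul_mem (H.inv_mem hh') (H.inv_mem ha)) hh'
    | one =>
      rw [commutatorElement_def]
      have : a * 1 * a⁻¹ * 1⁻¹ = 1 := by group
      rw [this]; exact Subgroup.one_mem _
    | mul u₁ u₂ hu₁ hu₂ ih₁ ih₂ =>
      have hu₁V : u₁ ∈ V := hUV hu₁
      have hu₂V : u₂ ∈ V := hUV hu₂
      have e : ⁅a, u₁ * u₂⁆ = ⁅a, u₁⁆ * (u₁ * ⁅a, u₂⁆ * u₁⁻¹) := by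
        simp only [commutatorElement_def]; group
      have e2 : u₁ * ⁅a, u₂⁆ * u₁⁻¹ = ⁅a, u₂⁆ := by
        rw [hVcomm u₁ hu₁V _ (hcommV a ha u₂ hu₂V), mul_assoc, mul_inv_cancel, mul_one]
      rw [e, e2]
      exact Subgroup.mul_mem _ ih₁ ih₂
    | inv u hu ih =>
      have huV : u ∈ V := hUV hu
      have e : ⁅a, u⁻¹⁆ = u⁻¹ * ⁅a, u⁆⁻¹ * u := by
        simp only [commutatorElement_def]; group
      have e2 : u⁻¹ * ⁅a, u⁆⁻¹ * u = ⁅a, u⁆⁻¹ := by
        rw [hVcomm u⁻¹ (V.inv_mem huV) _ (V.inv_mem (hcommV a ha u huV)), mul_assoc,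
          inv_mul_cancel, mul_one]
      rw [e, e2]
      exact Subgroup.inv_mem _ ih
  -- decompose v
  have hnorm1 : ∀ a ∈ U ⊓ Subgroup.normalizer (H : Set G), ∀ b ∈ ⁅H, U⁆, a * b * a⁻¹ ∈ ⁅H, U⁆ := by
    intro a ha b hb
    have hbV : b ∈ V := by
      have hle : ⁅H, U⁆ ≤ V := by
        rw [Subgroup.commutator_le]
        intro x hx y hy
        exact hcommV x hx y (hUV hy)
      exact hle hb
    rw [hVcomm a (hUV ha.1) b hbV, mul_assoc, mul_inv_cancel, mul_one]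
    exact hb
  have hvmem : v ∈ (U ⊓ Subgroup.normalizer (H : Set G)) ⊔ ⁅H, U⁆ := by
    rw [← hdec]; exact hvU
  obtain ⟨w, hw, n, hn, rfl⟩ := mem_sup_of_normalizes _ _ hnorm1 hvmem
  refine ⟨w, hcommJ hw, ?_⟩
  rw [cj_mul, cj_of_mem_normalizer H hn.2]

/-- Let G be a finite group, V an abelian normal subgroup and H a subgroup with HV = G. Then H is pronormal in G (H and gHg⁻¹ are conjugate inside the subgroup they generate, for every g) if and only if every H-invariant subgroup U of V satisfies U = N_U(H)·[H, U], that is, U is the join of U ∩ N_G(H) and the commutator subgroup [H, U]. -/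
theorem result {G : Type*} [Group G] [Finite G]
    (V : Subgroup G) [V.Normal] (hV : IsMulCommutative ↥V) (H : Subgroup G) (hHV : H ⊔ V = ⊤) :
    Cfsg.IsPronormal H ↔
      ∀ U : Subgroup G, U ≤ V → (∀ h ∈ H, U.map (MulAut.conj h).toMonoidHom = U) →
        U = (U ⊓ Subgroup.normalizer (H : Set G)) ⊔ ⁅H, U⁆ := by
  constructor
  · intro hpro U hUV hinv
    exact forward V H hpro U hUV hinv
  · intro hU
    exact backward V hV H hHV hU

end Cfsg.Agent.S4269
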