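import Mathlib
import Cfsg.Statements.S4270
import Cfsg.Agent.Lib.Helper5.Pronormal
import Cfsg.Agent.Lib.Helper5.Glauberman
import Cfsg.Agent.Lib.helper23.SylowQuot

set_option autoImplicit false
open Cfsg

namespace Cfsg.Agent.S4270

open Cfsg.Agent.Lib.Helper5
open scoped Pointwise

section
variable {G : Type*} [Group G] [Finite G] {p : ℕ} [hp : Fact p.Prime]

def SylIn (p : ℕ) (Q L : Subgroup G) : Prop :=
  Q ≤ L ∧ Nat.card Q = p ^ (Nat.card L).factorization p

theorem SylIn.isPGroup {Q L : Subgroup G} (h : SylIn p Q L) : IsPGroup p Q :=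
  IsPGroup.of_card h.2

theorem SylIn.of_le {Q L M : Subgroup G} (h : SylIn p Q M) (hQL : Q ≤ L) (hLM : L ≤ M) :
    SylIn p Q L := by
  refine ⟨hQL, ?_⟩
  rw [h.2]
  congr 1
  symm
  have h1 : p ^ (Nat.card M).factorization p ∣ Nat.card L := by
    rw [← h.2]; exact Subgroup.card_dvd_of_le hQL
  have hL0 : Nat.card L ≠ 0 := Nat.card_pos.ne'
  have hM0 : Nat.card M ≠ 0 := Nat.card_pos.ne'
  apply le_antisymm
  · exact (Nat.factorization_le_iff_dvd hL0 hM0).mpr (Subgroup.card_dvd_of_le hLM) p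
  · exact (hp.out.pow_dvd_iff_le_factorization hL0).mp h1

theorem SylIn.eq_of_le {Q L W : Subgroup G} (h : SylIn p Q L) (hW : IsPGroup p W) (hQW : Q ≤ W)
    (hWL : W ≤ L) : W = Q := by
  symm
  apply Subgroup.eq_of_le_of_card_ge hQW
  obtain ⟨k, hk⟩ := IsPGroup.iff_card.mp hW
  rw [hk, h.2]
  apply Nat.pow_le_pow_right hp.out.pos
  apply (hp.out.pow_dvd_iff_le_factorization Nat.card_pos.ne').mp
  rw [← hk]
  exact Subgroup.card_dvd_of_le hWL

theorem SylIn.conj {Q L : Subgroup G} (h : SylIn p Q L) (y : G) :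
    SylIn p (MulAut.conj y • Q) (MulAut.conj y • L) := by
  refine ⟨Subgroup.pointwise_smul_le_pointwise_smul_iff.mpr h.1, ?_⟩
  have e1 : Nat.card (MulAut.conj y • Q : Subgroup G) = Nat.card Q :=
    (Nat.card_congr (Subgroup.equivSMul (MulAut.conj y) Q).toEquiv).symm
  have e2 : Nat.card (MulAut.conj y • L : Subgroup G) = Nat.card L :=
    (Nat.card_congr (Subgroup.equivSMul (MulAut.conj y) L).toEquiv).symm
  rw [e1, e2, h.2]

theorem SylIn.exists_conj {Q₁ Q₂ L : Subgroup G} (h₁ : SylIn p Q₁ L) (h₂ : SylIn p Q₂ L) :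
    ∃ k ∈ L, Q₁ = MulAut.conj k • Q₂ := by
  obtain ⟨k, hk, hiff⟩ := Cfsg.Agent.Lib.helper23.exists_conj_of_card L Q₁ Q₂ h₁.1 h₂.1 h₁.2 h₂.2
  refine ⟨k, hk, ?_⟩
  ext y
  rw [pn_mem_conj]
  exact hiff y

theorem frattini {T L : Subgroup G} (h : SylIn p T L) {y : G}
    (hy : y ∈ Subgroup.normalizer (L : Set G)) :
    ∃ c ∈ L, c⁻¹ * y ∈ Subgroup.normalizer (T : Set G) := by
  have h1 := h.conj y
  rw [pn_conj_eq_of_mem_normalizer hy] at h1
  obtain ⟨k, hk, hke⟩ := h1.exists_conj h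
  refine ⟨k, hk, ?_⟩
  apply pn_mem_normalizer_of_conj_eq
  rw [pn_conj_mul, hke, pn_conj_inv_conj]

theorem sylow_le_normalizer {T A : Subgroup G} [A.Normal] (hT : SylIn p T A) (S : Sylow p G)
    (hTS : T ≤ S) : (S : Subgroup G) ≤ Subgroup.normalizer (T : Set G) := by
  have hW : (S : Subgroup G) ⊓ A = T :=
    hT.eq_of_le (S.isPGroup'.to_le inf_le_left) (le_inf hTS hT.1) inf_le_right
  intro s hs
  apply h5g_mem_normalizer_of_conj_le
  intro t ht
  rw [← hW]
  exact ⟨Subgroup.mul_mem _ (Subgroup.mul_mem _ hs (hTS ht)) (Subgroup.inv_mem _ hs),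
    (inferInstance : A.Normal).conj_mem t (hT.1 ht) s⟩

theorem normalizes_inf_normal (H A : Subgroup G) [A.Normal] :
    H ≤ Subgroup.normalizer ((H ⊓ A : Subgroup G) : Set G) := by
  intro h hh
  apply pn_mem_normalizer_of_conj_eq
  rw [Subgroup.smul_inf, Subgroup.conj_smul_eq_self_of_mem hh, Subgroup.Normal.conj_smul_eq_self]

theorem core (A : Subgroup G) [A.Normal]
    (hA : ∀ K : Subgroup ↥A, (∃ P : Sylow p ↥A, (P : Subgroup ↥A) ≤ K) → Cfsg.IsPronormal K)
    (T : Subgroup G) (PA : Sylow p ↥A) (hPA : (PA : Subgroup ↥A).map A.subtype = T)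
    [hTn : (T.subgroupOf (Subgroup.normalizer (T : Set G))).Normal]
    (hN : ∀ K : Subgroup (↥(Subgroup.normalizer (T : Set G)) ⧸
        T.subgroupOf (Subgroup.normalizer (T : Set G))),
      (∃ P : Sylow p (↥(Subgroup.normalizer (T : Set G)) ⧸
        T.subgroupOf (Subgroup.normalizer (T : Set G))), (P : Subgroup _) ≤ K) →
      Cfsg.IsPronormal K)
    (H : Subgroup G) (S : Sylow p G) (hSH : (S : Subgroup G) ≤ H) (hTS : T ≤ S)
    (a : G) (ha : a ∈ A) : PnAt H a := by
  have hTA : SylIn p T A := by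
    refine ⟨by rw [← hPA]; exact Subgroup.map_subtype_le _, ?_⟩
    rw [← hPA, Subgroup.card_map_of_injective A.subtype_injective, Sylow.card_eq_multiplicity]
  have hTH : T ≤ H := hTS.trans hSH
  have hTD : T ≤ H ⊓ A := le_inf hTH hTA.1
  have hTDs : SylIn p T (H ⊓ A) := hTA.of_le hTD inf_le_right
  have hSN : (S : Subgroup G) ≤ Subgroup.normalizer (T : Set G) := sylow_le_normalizer hTA S hTS
  have hHD : H ≤ Subgroup.normalizer ((H ⊓ A : Subgroup G) : Set G) := normalizes_inf_normal H A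
  have hD1 : Cfsg.IsPronormal ((H ⊓ A).subgroupOf A) := by
    apply hA
    refine ⟨PA, ?_⟩
    intro x hx
    rw [Subgroup.mem_subgroupOf]
    apply hTD
    rw [← hPA]
    exact ⟨x, hx, rfl⟩
  have hD2 : PnAt (H ⊓ A) a := by
    have := pnAt_of_isPronormal_sub hD1 ha
    rwa [Subgroup.map_subgroupOf_eq_of_le inf_le_right] at this
  obtain ⟨u, hu, hue⟩ := hD2
  have hDaA : MulAut.conj a • (H ⊓ A) ≤ A := pn_conj_le_of_mem ha inf_le_right
  have huA : u ∈ A := (sup_le inf_le_right hDaA) hu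
  have hbN : u⁻¹ * a ∈ Subgroup.normalizer ((H ⊓ A : Subgroup G) : Set G) := by
    apply pn_mem_normalizer_of_conj_eq
    rw [pn_conj_mul, hue, pn_conj_inv_conj]
  obtain ⟨c, hc, hm⟩ := frattini hTDs hbN
  have hcN : c ∈ Subgroup.normalizer ((H ⊓ A : Subgroup G) : Set G) := hHD hc.1
  have hmD : c⁻¹ * (u⁻¹ * a) ∈ Subgroup.normalizer ((H ⊓ A : Subgroup G) : Set G) :=
    Subgroup.mul_mem _ (Subgroup.inv_mem _ hcN) hbN
  have hHTle : H ⊓ Subgroup.normalizer (T : Set G) ≤ Subgroup.normalizer (T : Set G) := inf_le_right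
  have hK' : Cfsg.IsPronormal (((H ⊓ Subgroup.normalizer (T : Set G)).subgroupOf
      (Subgroup.normalizer (T : Set G))).map
      (QuotientGroup.mk' (T.subgroupOf (Subgroup.normalizer (T : Set G))))) := by
    apply hN
    refine ⟨(S.subtype hSN).mapSurjective (QuotientGroup.mk'_surjective _), ?_⟩
    rw [Sylow.coe_mapSurjective, Sylow.coe_subtype]
    apply Subgroup.map_mono
    intro x hx
    rw [Subgroup.mem_subgroupOf] at hx ⊢
    exact ⟨hSH hx, x.2⟩
  have hK1 : Cfsg.IsPronormal ((H ⊓ Subgroup.normalizer (T : Set G)).subgroupOf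
      (Subgroup.normalizer (T : Set G))) := by
    have h1 := isPronormal_comap _ (QuotientGroup.mk'_surjective
      (T.subgroupOf (Subgroup.normalizer (T : Set G)))) hK'
    rw [Subgroup.comap_map_eq_self] at h1
    · exact h1
    · rw [QuotientGroup.ker_mk']
      intro x hx
      rw [Subgroup.mem_subgroupOf] at hx ⊢
      exact ⟨hTH hx, x.2⟩
  have hK2 : PnAt (H ⊓ Subgroup.normalizer (T : Set G)) (c⁻¹ * (u⁻¹ * a)) := by
    have := pnAt_of_isPronormal_sub hK1 hm
    rwa [Subgroup.map_subgroupOf_eq_of_le hHTle] at this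
  obtain ⟨v, hv, hve⟩ := hK2
  have hHeq : H = (H ⊓ A) ⊔ (H ⊓ Subgroup.normalizer (T : Set G)) := by
    apply le_antisymm
    · intro h hh
      obtain ⟨c', hc', hm'⟩ := frattini hTDs (hHD hh)
      have h1 : c'⁻¹ * h ∈ H ⊓ Subgroup.normalizer (T : Set G) :=
        ⟨H.mul_mem (H.inv_mem hc'.1) hh, hm'⟩
      have h2 := Subgroup.mul_mem _ (Subgroup.mem_sup_left hc' :
        c' ∈ (H ⊓ A) ⊔ (H ⊓ Subgroup.normalizer (T : Set G))) (Subgroup.mem_sup_right h1)
      rwa [mul_inv_cancel_left] at h2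
    · exact sup_le inf_le_left inf_le_left
  have hHTD : H ⊓ Subgroup.normalizer (T : Set G) ≤
      Subgroup.normalizer ((H ⊓ A : Subgroup G) : Set G) := inf_le_left.trans hHD
  have hvD : v ∈ Subgroup.normalizer ((H ⊓ A : Subgroup G) : Set G) :=
    (sup_le hHTD (pn_conj_le_of_mem hmD hHTD)) hv
  have hmv : MulAut.conj (c⁻¹ * (u⁻¹ * a)) • H = MulAut.conj v • H := by
    conv_lhs => rw [hHeq]
    conv_rhs => rw [hHeq]
    rw [Subgroup.smul_sup, Subgroup.smul_sup, pn_conj_eq_of_mem_normalizer hmD,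
      pn_conj_eq_of_mem_normalizer hvD, hve]
  have hae : a = u * c * (c⁻¹ * (u⁻¹ * a)) := by group
  have hconj : MulAut.conj a • H = MulAut.conj (u * c * v) • H := by
    conv_lhs => rw [hae]
    rw [pn_conj_mul, hmv, ← pn_conj_mul]
  refine ⟨u * c * v, ?_, hconj⟩
  have huJ : u ∈ H ⊔ MulAut.conj a • H :=
    (sup_le (inf_le_left.trans le_sup_left)
      ((Subgroup.pointwise_smul_le_pointwise_smul_iff.mpr inf_le_left).trans le_sup_right)) hu
  have hcJ : c ∈ H ⊔ MulAut.conj a • H := Subgroup.mem_sup_left hc.1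
  have hmJ : MulAut.conj (c⁻¹ * (u⁻¹ * a)) • H ≤ H ⊔ MulAut.conj a • H := by
    rw [pn_conj_mul, pn_conj_mul]
    exact pn_conj_le_of_mem (Subgroup.inv_mem _ hcJ)
      (pn_conj_le_of_mem (Subgroup.inv_mem _ huJ) le_sup_right)
  have hvJ : v ∈ H ⊔ MulAut.conj a • H :=
    (sup_le (inf_le_left.trans le_sup_left)
      ((Subgroup.pointwise_smul_le_pointwise_smul_iff.mpr inf_le_left).trans hmJ)) hv
  exact Subgroup.mul_mem _ (Subgroup.mul_mem _ huJ hcJ) hvJ

theorem backward_aligned (A : Subgroup G) [A.Normal]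
    (hA : ∀ K : Subgroup ↥A, (∃ P : Sylow p ↥A, (P : Subgroup ↥A) ≤ K) → Cfsg.IsPronormal K)
    (hQ : ∀ K : Subgroup (G ⧸ A), (∃ P : Sylow p (G ⧸ A), (P : Subgroup (G ⧸ A)) ≤ K) →
      Cfsg.IsPronormal K)
    (T : Subgroup G) (PA : Sylow p ↥A) (hPA : (PA : Subgroup ↥A).map A.subtype = T)
    [hTn : (T.subgroupOf (Subgroup.normalizer (T : Set G))).Normal]
    (hN : ∀ K : Subgroup (↥(Subgroup.normalizer (T : Set G)) ⧸
        T.subgroupOf (Subgroup.normalizer (T : Set G))),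
      (∃ P : Sylow p (↥(Subgroup.normalizer (T : Set G)) ⧸
        T.subgroupOf (Subgroup.normalizer (T : Set G))), (P : Subgroup _) ≤ K) →
      Cfsg.IsPronormal K)
    (H : Subgroup G) (S : Sylow p G) (hSH : (S : Subgroup G) ≤ H) (hTS : T ≤ S)
    (hii : (Subgroup.normalizer (H : Set G)).map (QuotientGroup.mk' A) =
      Subgroup.normalizer ((H.map (QuotientGroup.mk' A) : Subgroup (G ⧸ A)) : Set (G ⧸ A))) :
    Cfsg.IsPronormal H := by
  intro g
  show PnAt H g
  have hHbar : Cfsg.IsPronormal (H.map (QuotientGroup.mk' A)) := by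
    apply hQ
    refine ⟨S.mapSurjective (QuotientGroup.mk'_surjective A), ?_⟩
    rw [Sylow.coe_mapSurjective]
    exact Subgroup.map_mono hSH
  obtain ⟨xb, hxb, hxbe⟩ := hHbar (QuotientGroup.mk' A g)
  change xb ∈ H.map (QuotientGroup.mk' A) ⊔
    MulAut.conj (QuotientGroup.mk' A g) • H.map (QuotientGroup.mk' A) at hxb
  change MulAut.conj (QuotientGroup.mk' A g) • H.map (QuotientGroup.mk' A) =
    MulAut.conj xb • H.map (QuotientGroup.mk' A) at hxbe
  rw [← pn_map_conj, ← Subgroup.map_sup] at hxb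
  obtain ⟨x, hx, rfl⟩ := hxb
  have hy : QuotientGroup.mk' A (x⁻¹ * g) ∈
      Subgroup.normalizer ((H.map (QuotientGroup.mk' A) : Subgroup (G ⧸ A)) : Set (G ⧸ A)) := by
    apply pn_mem_normalizer_of_conj_eq
    rw [map_mul, pn_conj_mul, hxbe, map_inv, pn_conj_inv_conj]
  rw [← hii] at hy
  obtain ⟨n, hn, hne⟩ := hy
  have haA : x⁻¹ * g * n⁻¹ ∈ A := by
    rw [← QuotientGroup.eq_one_iff, ← QuotientGroup.mk'_apply, map_mul, map_inv, hne,
      mul_inv_cancel]
  have hg : g = x * (x⁻¹ * g * n⁻¹) * n := by group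
  have hgH : MulAut.conj (x * (x⁻¹ * g * n⁻¹)) • H = MulAut.conj g • H := by
    conv_rhs => rw [hg, pn_conj_mul, pn_conj_eq_of_mem_normalizer hn]
  rw [hg]
  apply PnAt.mul_right_normalizer hn
  apply PnAt.trans
  · rw [hgH]; exact hx
  · exact core A hA T PA hPA hN H S hSH hTS _ haA

theorem exists_sylow_ge (T : Subgroup G) (hT : IsPGroup p T) (S₀ : Sylow p G) :
    ∃ (b : G) (S : Sylow p G), T ≤ S ∧ (S : Subgroup G) = MulAut.conj b • (S₀ : Subgroup G) := by
  obtain ⟨S, hS⟩ := hT.exists_le_sylow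
  obtain ⟨b, hb⟩ := MulAction.exists_smul_eq G S₀ S
  exact ⟨b, S, hS, by rw [← hb, Sylow.coe_subgroup_smul]⟩

theorem backward (A : Subgroup G) [A.Normal]
    (hA : ∀ K : Subgroup ↥A, (∃ P : Sylow p ↥A, (P : Subgroup ↥A) ≤ K) → Cfsg.IsPronormal K)
    (hQ : ∀ K : Subgroup (G ⧸ A), (∃ P : Sylow p (G ⧸ A), (P : Subgroup (G ⧸ A)) ≤ K) →
      Cfsg.IsPronormal K)
    (T : Subgroup G) (PA : Sylow p ↥A) (hPA : (PA : Subgroup ↥A).map A.subtype = T)
    [hTn : (T.subgroupOf (Subgroup.normalizer (T : Set G))).Normal]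
    (hN : ∀ K : Subgroup (↥(Subgroup.normalizer (T : Set G)) ⧸
        T.subgroupOf (Subgroup.normalizer (T : Set G))),
      (∃ P : Sylow p (↥(Subgroup.normalizer (T : Set G)) ⧸
        T.subgroupOf (Subgroup.normalizer (T : Set G))), (P : Subgroup _) ≤ K) →
      Cfsg.IsPronormal K)
    (hii : ∀ K : Subgroup G, (∃ P : Sylow p G, (P : Subgroup G) ≤ K) →
      (Subgroup.normalizer (K : Set G)).map (QuotientGroup.mk' A) =
      Subgroup.normalizer ((K.map (QuotientGroup.mk' A) : Subgroup (G ⧸ A)) : Set (G ⧸ A)))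
    (H : Subgroup G) (S₀ : Sylow p G) (hSH : (S₀ : Subgroup G) ≤ H) :
    Cfsg.IsPronormal H := by
  have hTp : IsPGroup p T := by rw [← hPA]; exact PA.isPGroup'.map _
  obtain ⟨b, S, hTS, hSb⟩ := exists_sylow_ge T hTp S₀
  apply isPronormal_of_conj b
  have hSH' : (S : Subgroup G) ≤ MulAut.conj b • H := by
    rw [hSb]; exact Subgroup.pointwise_smul_le_pointwise_smul_iff.mpr hSH
  exact backward_aligned A hA hQ T PA hPA hN _ S hSH' hTS (hii _ ⟨S, hSH'⟩)

theorem forward_i (A : Subgroup G) [A.Normal]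
    (T : Subgroup G) (PA : Sylow p ↥A) (hPA : (PA : Subgroup ↥A).map A.subtype = T)
    [hTn : (T.subgroupOf (Subgroup.normalizer (T : Set G))).Normal]
    (hG : ∀ K : Subgroup G, (∃ P : Sylow p G, (P : Subgroup G) ≤ K) → Cfsg.IsPronormal K)
    (K' : Subgroup (↥(Subgroup.normalizer (T : Set G)) ⧸
        T.subgroupOf (Subgroup.normalizer (T : Set G))))
    (P' : Sylow p (↥(Subgroup.normalizer (T : Set G)) ⧸
        T.subgroupOf (Subgroup.normalizer (T : Set G))))
    (hP' : (P' : Subgroup _) ≤ K') : Cfsg.IsPronormal K' := by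
  have hTA : SylIn p T A := by
    refine ⟨by rw [← hPA]; exact Subgroup.map_subtype_le _, ?_⟩
    rw [← hPA, Subgroup.card_map_of_injective A.subtype_injective, Sylow.card_eq_multiplicity]
  have hTp : IsPGroup p T := hTA.isPGroup
  obtain ⟨S, hTS⟩ := hTp.exists_le_sylow
  have hSN : (S : Subgroup G) ≤ Subgroup.normalizer (T : Set G) := sylow_le_normalizer hTA S hTS
  have hNidx : ¬ p ∣ (Subgroup.normalizer (T : Set G)).index := fun h =>
    S.not_dvd_index (h.trans (Subgroup.index_dvd_of_le hSN))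
  have hsurj := QuotientGroup.mk'_surjective (T.subgroupOf (Subgroup.normalizer (T : Set G)))
  have hP₁p : IsPGroup p ((P' : Subgroup _).comap
      (QuotientGroup.mk' (T.subgroupOf (Subgroup.normalizer (T : Set G))))) := by
    apply P'.isPGroup'.comap_of_ker_isPGroup
    rw [QuotientGroup.ker_mk']
    exact hTp.comap_subtype
  have hP₁i : ¬ p ∣ ((P' : Subgroup _).comap
      (QuotientGroup.mk' (T.subgroupOf (Subgroup.normalizer (T : Set G))))).index := by
    rw [Subgroup.index_comap_of_surjective _ hsurj]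
    exact P'.not_dvd_index
  have hP₂p : IsPGroup p (((P' : Subgroup _).comap
      (QuotientGroup.mk' (T.subgroupOf (Subgroup.normalizer (T : Set G))))).map
      (Subgroup.normalizer (T : Set G)).subtype) := hP₁p.map _
  have hP₂i : ¬ p ∣ (((P' : Subgroup _).comap
      (QuotientGroup.mk' (T.subgroupOf (Subgroup.normalizer (T : Set G))))).map
      (Subgroup.normalizer (T : Set G)).subtype).index := by
    rw [Subgroup.index_map_subtype]
    intro h
    rcases (Nat.Prime.dvd_mul hp.out).mp h with h1 | h1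
    · exact hP₁i h1
    · exact hNidx h1
  have hKG : Cfsg.IsPronormal ((K'.comap
      (QuotientGroup.mk' (T.subgroupOf (Subgroup.normalizer (T : Set G))))).map
      (Subgroup.normalizer (T : Set G)).subtype) := by
    apply hG
    refine ⟨hP₂p.toSylow hP₂i, ?_⟩
    rw [IsPGroup.toSylow_coe]
    exact Subgroup.map_mono (Subgroup.comap_mono hP')
  have h1 := isPronormal_subgroupOf (Subgroup.map_subtype_le _) hKG
  have e1 : ((K'.comap (QuotientGroup.mk' (T.subgroupOf (Subgroup.normalizer (T : Set G))))).map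
      (Subgroup.normalizer (T : Set G)).subtype).subgroupOf (Subgroup.normalizer (T : Set G)) =
      K'.comap (QuotientGroup.mk' (T.subgroupOf (Subgroup.normalizer (T : Set G)))) :=
    Subgroup.comap_map_eq_self_of_injective (Subgroup.normalizer (T : Set G)).subtype_injective _
  rw [e1] at h1
  have h2 := isPronormal_map _ hsurj h1
  rwa [Subgroup.map_comap_eq_self_of_surjective hsurj] at h2

theorem forward_ii (A : Subgroup G) [A.Normal] (K : Subgroup G) (hK : Cfsg.IsPronormal K) :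
    (Subgroup.normalizer (K : Set G)).map (QuotientGroup.mk' A) =
      Subgroup.normalizer ((K.map (QuotientGroup.mk' A) : Subgroup (G ⧸ A)) : Set (G ⧸ A)) := by
  apply le_antisymm (Subgroup.le_normalizer_map _)
  intro gb hgb
  obtain ⟨g, rfl⟩ := QuotientGroup.mk'_surjective A gb
  obtain ⟨x, hx, hxe⟩ := hK g
  change x ∈ K ⊔ MulAut.conj g • K at hx
  change MulAut.conj g • K = MulAut.conj x • K at hxe
  have hgK : MulAut.conj g • K ≤ K ⊔ A := by
    have h1 := pn_conj_eq_of_mem_normalizer hgb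
    rw [← pn_map_conj] at h1
    intro y hy
    have h2 : QuotientGroup.mk' A y ∈ K.map (QuotientGroup.mk' A) := by
      rw [← h1]; exact ⟨y, hy, rfl⟩
    obtain ⟨k, hk, hky⟩ := h2
    have h3 : k⁻¹ * y ∈ A := by
      rw [← QuotientGroup.eq_one_iff, ← QuotientGroup.mk'_apply, map_mul, map_inv, hky,
        inv_mul_cancel]
    have h4 := Subgroup.mul_mem _ (Subgroup.mem_sup_left hk : k ∈ K ⊔ A) (Subgroup.mem_sup_right h3)
    rwa [mul_inv_cancel_left] at h4
  have hxKA : x ∈ K ⊔ A := (sup_le le_sup_left hgK) hx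
  obtain ⟨k, hk, a', ha', rfl⟩ := Subgroup.mem_sup_of_normal_right.mp hxKA
  have hn : (k * a')⁻¹ * g ∈ Subgroup.normalizer (K : Set G) := by
    apply pn_mem_normalizer_of_conj_eq
    rw [pn_conj_mul, hxe, pn_conj_inv_conj]
  refine ⟨k * ((k * a')⁻¹ * g), Subgroup.mul_mem _ (Subgroup.le_normalizer hk) hn, ?_⟩
  have h5 : QuotientGroup.mk' A a' = 1 := by
    rw [QuotientGroup.mk'_apply, QuotientGroup.eq_one_iff]; exact ha'
  rw [map_mul, map_mul, map_inv, map_mul, h5, mul_one, mul_inv_cancel_left]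

end

theorem result {G : Type*} [Group G] [Finite G] {p : ℕ} [Fact p.Prime]
    (A : Subgroup G) [A.Normal] (hA : (∀ K : Subgroup ↥A, (∃ P : Sylow p ↥A, (P : Subgroup ↥A) ≤ K) → Cfsg.IsPronormal K)) (hQ : (∀ K : Subgroup (G ⧸ A), (∃ P : Sylow p (G ⧸ A), (P : Subgroup (G ⧸ A)) ≤ K) → Cfsg.IsPronormal K))
    (T : Subgroup G) (hT : ∃ P : Sylow p ↥A, (P : Subgroup ↥A).map A.subtype = T) [(T.subgroupOf (Subgroup.normalizer (T : Set G))).Normal] :
    (∀ K : Subgroup G, (∃ P : Sylow p G, (P : Subgroup G) ≤ K) → Cfsg.IsPronormal K) ↔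
      ((∀ K : Subgroup (↥(Subgroup.normalizer (T : Set G)) ⧸ T.subgroupOf (Subgroup.normalizer (T : Set G))), (∃ P : Sylow p (↥(Subgroup.normalizer (T : Set G)) ⧸ T.subgroupOf (Subgroup.normalizer (T : Set G))), (P : Subgroup (↥(Subgroup.normalizer (T : Set G)) ⧸ T.subgroupOf (Subgroup.normalizer (T : Set G)))) ≤ K) → Cfsg.IsPronormal K) ∧
        ∀ K : Subgroup G, (∃ P : Sylow p G, (P : Subgroup G) ≤ K) →
          (Subgroup.normalizer (K : Set G)).map (QuotientGroup.mk' A) = Subgroup.normalizer ((K.map (QuotientGroup.mk' A) : Subgroup (G ⧸ A)) : Set (G ⧸ A))) := by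
  obtain ⟨PA, hPA⟩ := hT
  constructor
  · intro hG
    refine ⟨?_, ?_⟩
    · rintro K' ⟨P', hP'⟩
      exact forward_i A T PA hPA hG K' P' hP'
    · intro K hK
      exact forward_ii A K (hG K hK)
  · rintro ⟨hN, hii⟩ K ⟨S₀, hS₀⟩
    exact backward A hA hQ T PA hPA hN hii K S₀ hS₀

end Cfsg.Agent.S4270
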