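import Mathlib
import Cfsg.Statements.S4271
import Cfsg.Agent.S4270

set_option autoImplicit false
open Cfsg

namespace Cfsg.Agent.S4271

open Cfsg.Agent.Lib.Helper5 Cfsg.Agent.S4270
open scoped Pointwise

section
variable {X : Type*} [Group X] [Finite X] {p : ℕ} [hp : Fact p.Prime]

theorem sylIn_of_sylow (P : Sylow p X) (L : Subgroup X) (hPL : (P : Subgroup X) ≤ L) :
    SylIn p (P : Subgroup X) L := by
  have h : SylIn p (P : Subgroup X) ⊤ :=
    ⟨le_top, by rw [Subgroup.card_top]; exact Sylow.card_eq_multiplicity P⟩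
  exact h.of_le hPL le_top

theorem overgroup_self_normalizing (P : Sylow p X)
    (hP : Subgroup.normalizer ((P : Subgroup X) : Set X) = P) (K : Subgroup X)
    (hPK : (P : Subgroup X) ≤ K) : Subgroup.normalizer (K : Set X) = K := by
  apply le_antisymm _ Subgroup.le_normalizer
  intro y hy
  have h1 := (sylIn_of_sylow P K hPK).conj y
  rw [pn_conj_eq_of_mem_normalizer hy] at h1
  obtain ⟨k, hk, hke⟩ := h1.exists_conj (sylIn_of_sylow P K hPK)
  have h2 : k⁻¹ * y ∈ Subgroup.normalizer ((P : Subgroup X) : Set X) := by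
    apply pn_mem_normalizer_of_conj_eq
    rw [pn_conj_mul, hke, pn_conj_inv_conj]
  rw [hP] at h2
  have h3 := K.mul_mem hk (hPK h2)
  rwa [mul_inv_cancel_left] at h3

theorem pronormal_of_self_normalizing (P : Sylow p X)
    (hP : Subgroup.normalizer ((P : Subgroup X) : Set X) = P) (K : Subgroup X)
    (hPK : (P : Subgroup X) ≤ K) : Cfsg.IsPronormal K := by
  intro g
  show PnAt K g
  have h0 : SylIn p (P : Subgroup X) (K ⊔ MulAut.conj g • K) :=
    sylIn_of_sylow P _ (hPK.trans le_sup_left)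
  have h1 : SylIn p (MulAut.conj g • (P : Subgroup X)) (K ⊔ MulAut.conj g • K) := by
    have := (sylIn_of_sylow P ⊤ le_top).conj g
    have et : MulAut.conj g • (⊤ : Subgroup X) = ⊤ := Subgroup.Normal.conj_smul_eq_self g ⊤
    rw [et] at this
    exact this.of_le ((Subgroup.pointwise_smul_le_pointwise_smul_iff.mpr hPK).trans le_sup_right)
      le_top
  obtain ⟨x, hx, hxe⟩ := h1.exists_conj h0
  have h2 : x⁻¹ * g ∈ Subgroup.normalizer ((P : Subgroup X) : Set X) := by
    apply pn_mem_normalizer_of_conj_eq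
    rw [pn_conj_mul, hxe, pn_conj_inv_conj]
  rw [hP] at h2
  refine ⟨x, hx, ?_⟩
  have e : g = x * (x⁻¹ * g) := by group
  conv_lhs => rw [e, pn_conj_mul, Subgroup.conj_smul_eq_self_of_mem (hPK h2)]

end

theorem result {G : Type*} [Group G] [Finite G] {p : ℕ} [Fact p.Prime]
    (A : Subgroup G) [A.Normal] (hA : (∀ K : Subgroup ↥A, (∃ P : Sylow p ↥A, (P : Subgroup ↥A) ≤ K) → Cfsg.IsPronormal K))
    (hQ : ∀ P : Sylow p (G ⧸ A), Subgroup.normalizer ((P : Subgroup (G ⧸ A)) : Set (G ⧸ A)) = P)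
    (T : Subgroup G) (hT : ∃ P : Sylow p ↥A, (P : Subgroup ↥A).map A.subtype = T) [(T.subgroupOf (Subgroup.normalizer (T : Set G))).Normal] :
    (∀ K : Subgroup G, (∃ P : Sylow p G, (P : Subgroup G) ≤ K) → Cfsg.IsPronormal K) ↔ (∀ K : Subgroup (↥(Subgroup.normalizer (T : Set G)) ⧸ T.subgroupOf (Subgroup.normalizer (T : Set G))), (∃ P : Sylow p (↥(Subgroup.normalizer (T : Set G)) ⧸ T.subgroupOf (Subgroup.normalizer (T : Set G))), (P : Subgroup (↥(Subgroup.normalizer (T : Set G)) ⧸ T.subgroupOf (Subgroup.normalizer (T : Set G)))) ≤ K) → Cfsg.IsPronormal K) := by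
  have hQ' : ∀ K : Subgroup (G ⧸ A), (∃ P : Sylow p (G ⧸ A), (P : Subgroup (G ⧸ A)) ≤ K) →
      Cfsg.IsPronormal K := by
    rintro K ⟨P, hPK⟩
    exact pronormal_of_self_normalizing P (hQ P) K hPK
  have key := Cfsg.Agent.S4270.result A hA hQ' T hT
  constructor
  · intro hG
    exact (key.mp hG).1
  · intro hN
    apply key.mpr
    refine ⟨hN, ?_⟩
    rintro K ⟨P, hPK⟩
    have h1 : ((P.mapSurjective (QuotientGroup.mk'_surjective A) : Sylow p (G ⧸ A)) :
        Subgroup (G ⧸ A)) ≤ K.map (QuotientGroup.mk' A) := by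
      rw [Sylow.coe_mapSurjective]
      exact Subgroup.map_mono hPK
    have h2 := overgroup_self_normalizing _ (hQ _) _ h1
    apply le_antisymm (Subgroup.le_normalizer_map _)
    rw [h2]
    exact Subgroup.map_mono Subgroup.le_normalizer


end Cfsg.Agent.S4271
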