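import Cfsg.Statements.S4275

set_option autoImplicit false
open Cfsg

namespace Cfsg.Agent.S4275

/-- Let G be a transitive group of permutations of a finite set Ω, let o ∈ Ω, and let α be an automorphism of G. Then α is induced by conjugation by a permutation of Ω normalizing G if and only if the image under α of the stabilizer of o fixes some point of Ω. -/
theorem result {Ω : Type*} [Fintype Ω] (G : Subgroup (Equiv.Perm Ω)) (htr : MulAction.IsPretransitive G Ω) (o : Ω) (α : G ≃* G) : (∃ σ : Equiv.Perm Ω, σ ∈ Subgroup.normalizer (G : Set (Equiv.Perm Ω)) ∧ ∀ g : G, ((α g : G) : Equiv.Perm Ω) = σ * (g : Equiv.Perm Ω) * σ⁻¹) ↔ ∃ ω : Ω, ∀ g ∈ (MulAction.stabilizer G o).map α.toMonoidHom, g • ω = ω := by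
  constructor
  · rintro ⟨σ, -, hσ⟩
    refine ⟨σ o, ?_⟩
    rintro g ⟨g', hg', rfl⟩
    rw [SetLike.mem_coe, MulAction.mem_stabilizer_iff] at hg'
    change ((α g' : G) : Equiv.Perm Ω) (σ o) = σ o
    rw [hσ g']
    simp only [Equiv.Perm.mul_apply]
    have h1 : σ⁻¹ (σ o) = o := by
      rw [← Equiv.Perm.mul_apply, inv_mul_cancel, Equiv.Perm.one_apply]
    rw [h1]
    congr 1
  · rintro ⟨ω, hω⟩
    have hch : ∀ y : Ω, ∃ g : G, g • o = y := fun y => MulAction.exists_smul_eq G o y
    choose c hc using hch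
    let f : Ω → Ω := fun y => α (c y) • ω
    have key : ∀ g : G, f (g • o) = α g • ω := by
      intro g
      have h1 : (c (g • o))⁻¹ * g ∈ MulAction.stabilizer G o := by
        rw [MulAction.mem_stabilizer_iff, mul_smul, inv_smul_eq_iff, hc (g • o)]
      have h2 := hω (α ((c (g • o))⁻¹ * g)) ⟨_, h1, rfl⟩
      rw [map_mul, map_inv, mul_smul, inv_smul_eq_iff] at h2
      exact h2.symm
    have equiv : ∀ (g : G) (y : Ω), f (g • y) = α g • f y := by
      intro g y
      have : g • y = (g * c y) • o := by rw [mul_smul, hc y]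
      rw [this, key, map_mul, mul_smul]
    have hsurj : Function.Surjective f := by
      intro z
      obtain ⟨k, hk⟩ := MulAction.exists_smul_eq G ω z
      obtain ⟨g, rfl⟩ := α.surjective k
      exact ⟨g • o, by rw [key, hk]⟩
    have hbij : Function.Bijective f := ⟨Finite.injective_iff_surjective.mpr hsurj, hsurj⟩
    let σ : Equiv.Perm Ω := Equiv.ofBijective f hbij
    have hσ : ∀ g : G, ((α g : G) : Equiv.Perm Ω) = σ * (g : Equiv.Perm Ω) * σ⁻¹ := by
      intro g
      ext z
      simp only [Equiv.Perm.mul_apply]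
      have h1 : σ ((g : Equiv.Perm Ω) (σ⁻¹ z)) = f (g • (σ⁻¹ z)) := rfl
      rw [h1, equiv]
      have h2 : f (σ⁻¹ z) = z := by
        change σ (σ⁻¹ z) = z
        simp
      rw [h2]
      rfl
    refine ⟨σ, ?_, hσ⟩
    rw [Subgroup.mem_normalizer_iff]
    intro h
    constructor
    · intro hh
      have := hσ ⟨h, hh⟩
      rw [← this]
      exact (α ⟨h, hh⟩).2
    · intro hh
      have h1 := hσ (α.symm ⟨_, hh⟩)
      rw [α.apply_symm_apply] at h1
      have h2 : h = ((α.symm ⟨_, hh⟩ : G) : Equiv.Perm Ω) := by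
        have h3 : σ * h * σ⁻¹ = σ * ((α.symm ⟨_, hh⟩ : G) : Equiv.Perm Ω) * σ⁻¹ := h1
        have h4 := mul_right_cancel h3
        exact mul_left_cancel h4
      rw [h2]
      exact (α.symm ⟨_, hh⟩).2

end Cfsg.Agent.S4275
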