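import Cfsg.Statements.S4277
import Cfsg.Agent.Lib.helper23.OutSolvB
import Cfsg.Agent.S0675

set_option autoImplicit false
open Cfsg

namespace Cfsg.Agent.S4277

/-- A case of the Schreier conjecture: if a finite simple group G has a subgroup of prime index, then the outer automorphism group of G is solvable. -/
theorem result {G : Type*} [Group G] [Finite G] [IsSimpleGroup G] (H : Subgroup G) (hH : H.index.Prime) : Group.IsSolvable (Cfsg.Out G) := by
  classical
  haveI : Fintype (G ⧸ H) := Fintype.ofFinite _
  have hcard : Fintype.card (G ⧸ H) = H.index := by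
    rw [← Nat.card_eq_fintype_card]; rfl
  have hp : (Fintype.card (G ⧸ H)).Prime := by rw [hcard]; exact hH
  have hker : (MulAction.toPermHom G (G ⧸ H)).ker = ⊥ := by
    rcases (MonoidHom.normal_ker (MulAction.toPermHom G (G ⧸ H))).eq_bot_or_eq_top with h | h
    · exact h
    · exfalso
      rw [← Subgroup.normalCore_eq_ker] at h
      have h1 : H = ⊤ := top_le_iff.mp (h ▸ Subgroup.normalCore_le H)
      rw [h1, Subgroup.index_top] at hH
      exact Nat.not_prime_one hH
  have hinj : Function.Injective (MulAction.toPermHom G (G ⧸ H)) :=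
    (MonoidHom.ker_eq_bot_iff _).mp hker
  haveI : FaithfulSMul G (G ⧸ H) := ⟨fun {g₁ g₂} h => hinj (Equiv.ext h)⟩
  haveI : MulAction.IsPretransitive (MulAction.toPermHom G (G ⧸ H)).range (G ⧸ H) := by
    constructor
    intro x y
    obtain ⟨g, hg⟩ := MulAction.exists_smul_eq G x y
    exact ⟨⟨MulAction.toPermHom G (G ⧸ H) g, ⟨g, rfl⟩⟩, hg⟩
  rcases Cfsg.Agent.S0675.result hp (MulAction.toPermHom G (G ⧸ H)).range with hsolv | h2t
  · haveI := hsolv
    have hGsolv : Group.IsSolvable G :=
      Group.isSolvable_of_isSolvable_injective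
        (f := (MulAction.toPermHom G (G ⧸ H)).rangeRestrict)
        (MonoidHom.rangeRestrict_injective_iff.mpr hinj)
    have hcomm : ∀ a b : G, a * b = b * a := IsSimpleGroup.comm_iff_isSolvable.mpr hGsolv
    haveI : IsCyclic G := by
      letI : CommGroup G := { ‹Group G› with mul_comm := hcomm }
      exact IsSimpleGroup.isCyclic
    have hcommA : ∀ a b : MulAut G, a * b = b * a := by
      intro a b
      apply (IsCyclic.mulAutMulEquiv G).injective
      rw [map_mul, map_mul, mul_comm]
    apply Group.isSolvable_of_comm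
    intro a b
    induction a using QuotientGroup.induction_on with
    | H a =>
      induction b using QuotientGroup.induction_on with
      | H b =>
        rw [← QuotientGroup.mk_mul, ← QuotientGroup.mk_mul, hcommA]
  · have h2 : Cfsg.Agent.Lib.helper23.TwoTrans G (G ⧸ H) := by
      intro x y x' y' hxy hxy'
      obtain ⟨gt, h1, h2⟩ := (MulAction.is_two_pretransitive_iff.mp h2t) hxy hxy'
      obtain ⟨g, hg⟩ := gt.2
      refine ⟨g, ?_, ?_⟩
      · rw [← h1]
        show (MulAction.toPermHom G (G ⧸ H) g) x = (gt : Equiv.Perm (G ⧸ H)) x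
        rw [hg]
      · rw [← h2]
        show (MulAction.toPermHom G (G ⧸ H) g) y = (gt : Equiv.Perm (G ⧸ H)) y
        rw [hg]
    exact Cfsg.Agent.Lib.helper23.os_core hp h2

end Cfsg.Agent.S4277
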