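import Cfsg.Statements.S4282
import Cfsg.Agent.Lib.Helper20.HHModF

set_option autoImplicit false
open Cfsg

namespace Cfsg.Agent.S4282



/-- A critical case behind the Hall–Higman theorem. Let p ≠ q be primes and G a finite group generated by a normal q-subgroup Q and a cyclic p-subgroup generated by x, such that the centralizer of every non-identity element of that cyclic subgroup is its product with the centre of G. Let K be an algebraically closed field of characteristic p and ρ a faithful representation of G on a nonzero finite-dimensional K-space whose restriction to Q is irreducible. If s is the least exponent with (ρ(x) − 1)^s = 0, then |⟨x⟩| − 1 ≤ s ≤ |⟨x⟩|; and if s = |⟨x⟩| − 1 then |⟨x⟩| − 1 is a power of q and Q is non-abelian. -/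
theorem result {G : Type*} [Group G] [Finite G] (p q : ℕ) [Fact p.Prime] [Fact q.Prime] (hpq : p ≠ q) (Q : Subgroup G) [Q.Normal] (hQ : IsPGroup q Q) (x : G) (hx : IsPGroup p (Subgroup.zpowers x)) (hgen : Q ⊔ Subgroup.zpowers x = ⊤) (hC : ∀ y ∈ Subgroup.zpowers x, y ≠ 1 → Subgroup.centralizer ({y} : Set G) = Subgroup.zpowers x ⊔ Subgroup.center G) {K : Type*} [Field K] [IsAlgClosed K] [CharP K p] {V : Type*} [AddCommGroup V] [Module K V] [FiniteDimensional K V] [Nontrivial V] (ρ : Representation K G V) (hfaith : Function.Injective ρ) (hirr : ∀ W : Submodule K V, (∀ g ∈ Q, Submodule.map (ρ g) W ≤ W) → W = ⊥ ∨ W = ⊤) (s : ℕ) (hs : (ρ x - 1) ^ s = 0) (hmin : ∀ k < s, (ρ x - 1) ^ k ≠ 0) : Nat.card (Subgroup.zpowers x) - 1 ≤ s ∧ s ≤ Nat.card (Subgroup.zpowers x) ∧ (s = Nat.card (Subgroup.zpowers x) - 1 → (∃ b : ℕ, Nat.card (Subgroup.zpowers x) - 1 = q ^ b) ∧ ¬ IsMulCommutative Q) := by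
  classical
  obtain ⟨m, hm⟩ := IsPGroup.iff_card.mp hx
  have hord : orderOf x = p ^ m := by rw [← hm, Nat.card_zpowers]
  have hfree : ∀ g ∈ Q, ∀ i, 0 < i → i < p ^ m → x ^ i * g * (x ^ i)⁻¹ = g →
      g ∈ Subgroup.center G := by
    intro g hg i hi0 hiN heq
    have hy1 : x ^ i ≠ 1 := by
      apply pow_ne_one_of_lt_orderOf (by omega)
      rw [hord]
      exact hiN
    have hcen := hC (x ^ i) (Subgroup.npow_mem_zpowers x i) hy1
    have hgc : g ∈ Subgroup.centralizer ({x ^ i} : Set G) := by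
      rw [Subgroup.mem_centralizer_iff]
      intro h hh
      rw [Set.mem_singleton_iff] at hh
      rw [hh]
      have : x ^ i * g = (x ^ i * g * (x ^ i)⁻¹) * x ^ i := by group
      rw [this, heq]
    rw [hcen] at hgc
    have hmem : g ∈ ((Subgroup.zpowers x ⊔ Subgroup.center G : Subgroup G) : Set G) := hgc
    rw [Subgroup.mul_normal] at hmem
    obtain ⟨a, ha, z, hz, rfl⟩ := Set.mem_mul.mp hmem
    rw [SetLike.mem_coe] at ha hz
    -- (a z)^(p^m) = z^(p^m)
    have haN : a ^ (p ^ m) = 1 := by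
      obtain ⟨k, rfl⟩ := Subgroup.mem_zpowers_iff.mp ha
      rw [← zpow_natCast, ← zpow_mul, mul_comm, zpow_mul, zpow_natCast, ← hord, pow_orderOf_eq_one,
        one_zpow]
    have hcomm : Commute a z := (Subgroup.mem_center_iff.mp hz a)
    have hpow : (a * z) ^ (p ^ m) ∈ Subgroup.center G := by
      rw [hcomm.mul_pow, haN, one_mul]
      exact Subgroup.pow_mem _ hz _
    -- a z is a q-element
    obtain ⟨k, hk⟩ := hQ ⟨a * z, hg⟩
    have hk' : (a * z) ^ (q ^ k) = 1 := by
      have := congrArg Subtype.val hk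
      simpa using this
    have hcop : Nat.Coprime (p ^ m) (q ^ k) :=
      Nat.Coprime.pow _ _ ((Nat.coprime_primes (Fact.out : p.Prime) (Fact.out : q.Prime)).mpr hpq)
    have hbez := Nat.gcd_eq_gcd_ab (p ^ m) (q ^ k)
    rw [hcop.gcd_eq_one] at hbez
    have hgz : a * z = ((a * z) ^ (p ^ m)) ^ (Nat.gcdA (p ^ m) (q ^ k)) := by
      have h1 : (a * z) ^ ((1 : ℕ) : ℤ) = a * z := by simp
      have h2 : (a * z) ^ ((1 : ℕ) : ℤ) = ((a * z) ^ (p ^ m)) ^ (Nat.gcdA (p ^ m) (q ^ k)) := by
        rw [hbez, zpow_add, zpow_mul, zpow_mul, zpow_natCast, zpow_natCast, hk', one_zpow,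
          mul_one]
      exact h1.symm.trans h2
    rw [hgz]
    exact Subgroup.zpow_mem _ hpow _
  have key := Cfsg.Agent.Lib.Helper20.HHMod.critical p q hpq Q hQ x m hord hfree ρ hfaith hirr s hs
    hmin
  rw [hm]
  refine ⟨key.1, key.2.1, ?_⟩
  intro hseq
  obtain ⟨h1, h2⟩ := key.2.2 hseq
  refine ⟨h1, ?_⟩
  intro hcomm
  apply h2
  intro g hg g' hg'
  have := hcomm.is_comm.comm (⟨g, hg⟩ : ↥Q) ⟨g', hg'⟩
  exact congrArg Subtype.val this

end Cfsg.Agent.S4282
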