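import Cfsg.Statements.S4283
import Mathlib
import Cfsg.Agent.S0034

set_option autoImplicit false
open Cfsg

namespace Cfsg.Agent.S4283

open Subgroup
open scoped Pointwise

theorem mem_conj_smul {Γ : Type*} [Group Γ] (L : Subgroup Γ) (g x : Γ) :
    x ∈ MulAut.conj g • L ↔ g⁻¹ * x * g ∈ L := by
  rw [Subgroup.mem_pointwise_smul_iff_inv_smul_mem, MulAut.smul_def, ← map_inv, MulAut.conj_apply,
    inv_inv]

/-- the key property of a Frobenius complement, for each of its conjugates -/
theorem frob_comm {Γ : Type*} [Group Γ] (L : Subgroup Γ) (hL : Cfsg.IsFrobeniusComplement L)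
    (g x c : Γ) (hx1 : x ≠ 1) (hx : x ∈ MulAut.conj g • L) (hc : c * x = x * c) :
    c ∈ MulAut.conj g • L := by
  rw [mem_conj_smul] at hx ⊢
  by_contra hcon
  have h := hL.2.2 (g⁻¹ * c * g) hcon
  have hmem : g⁻¹ * x * g ∈ L ⊓ MulAut.conj (g⁻¹ * c * g) • L := by
    refine Subgroup.mem_inf.mpr ⟨hx, ?_⟩
    rw [mem_conj_smul]
    have : (g⁻¹ * c * g)⁻¹ * (g⁻¹ * x * g) * (g⁻¹ * c * g) = g⁻¹ * (c⁻¹ * (x * c)) * g := by group
    rw [this, ← hc]
    have : g⁻¹ * (c⁻¹ * (c * x)) * g = g⁻¹ * x * g := by group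
    rw [this]
    exact hx
  rw [h, mem_bot] at hmem
  apply hx1
  have : x = g * (g⁻¹ * x * g) * g⁻¹ := by group
  rw [this, hmem]
  group

theorem main {G : Type*} [Group G] [Finite G] (K H : Subgroup G) (hZK : Subgroup.center G ≤ K) (hZH : Subgroup.center G ≤ H) (hK : IsMulCommutative K) (hH : IsMulCommutative H) (hFrob : Cfsg.IsFrobeniusComplement (H.map (QuotientGroup.mk' (Subgroup.center G)))) (hker : Cfsg.frobeniusKernel (H.map (QuotientGroup.mk' (Subgroup.center G))) = (K.map (QuotientGroup.mk' (Subgroup.center G)) : Set (G ⧸ Subgroup.center G))) : Set.range (fun x : G => (Subgroup.centralizer ({x} : Set G)).index) = ({1, K.index, H.index} : Set ℕ) ∧ K.index.Coprime H.index := by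
  set Z := Subgroup.center G with hZ
  set π := QuotientGroup.mk' Z with hπ
  set Hb := H.map π with hHb
  set Kb := K.map π with hKb
  have hπs : Function.Surjective π := QuotientGroup.mk'_surjective Z
  have hπker : π.ker = Z := QuotientGroup.ker_mk' Z
  have hπ1 : ∀ x : G, π x = 1 ↔ x ∈ Z := fun x => QuotientGroup.eq_one_iff x
  -- lifting membership
  have hliftK : ∀ c : G, π c ∈ Kb → c ∈ K := by
    rintro c ⟨k, hk, hkc⟩
    have : k⁻¹ * c ∈ Z := by
      rw [← hπ1, map_mul, map_inv, hkc]; group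
    have h2 := K.mul_mem hk (hZK this)
    rwa [mul_inv_cancel_left] at h2
  have hliftH : ∀ (g0 c : G), π c ∈ MulAut.conj (π g0) • Hb → g0⁻¹ * c * g0 ∈ H := by
    intro g0 c hc
    rw [mem_conj_smul] at hc
    obtain ⟨h, hh, hhc⟩ := hc
    have : h⁻¹ * (g0⁻¹ * c * g0) ∈ Z := by
      rw [← hπ1]
      simp only [map_mul, map_inv]
      rw [hhc]; group
    have h2 := H.mul_mem hh (hZH this)
    rwa [mul_inv_cancel_left] at h2
  have hA : ∀ y : G ⧸ Z, y ∉ Kb → y ≠ 1 ∧ ∃ g : G ⧸ Z, y ∈ MulAut.conj g • Hb := by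
    intro y hy
    have : y ∉ Cfsg.frobeniusKernel Hb := by rw [hker]; exact hy
    unfold Cfsg.frobeniusKernel at this
    simp only [Set.mem_setOf_eq, not_or, not_forall, not_not] at this
    exact this
  have hB : ∀ y : G ⧸ Z, y ∈ Kb → y ≠ 1 → ∀ g : G ⧸ Z, y ∉ MulAut.conj g • Hb := by
    intro y hy hy1
    have : y ∈ Cfsg.frobeniusKernel Hb := by rw [hker]; exact hy
    rcases this with h | h
    · exact absurd h hy1
    · exact h
  -- centralizers
  have hcentZ : ∀ x ∈ Z, centralizer ({x} : Set G) = ⊤ := by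
    intro x hx
    rw [eq_top_iff]
    intro c _
    rw [mem_centralizer_singleton_iff]
    exact (mem_center_iff.mp hx c)
  have hcentK : ∀ x ∈ K, x ∉ Z → centralizer ({x} : Set G) = K := by
    intro x hxK hxZ
    apply le_antisymm
    · intro c hc
      rw [mem_centralizer_singleton_iff] at hc
      by_contra hcK
      have hcb : π c ∉ Kb := fun h => hcK (hliftK c h)
      obtain ⟨hc1, g, hg⟩ := hA (π c) hcb
      have hcomm : π x * π c = π c * π x := by rw [← map_mul, ← map_mul, hc]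
      have hxg := frob_comm Hb hFrob g (π c) (π x) hc1 hg hcomm
      have hx1 : π x ≠ 1 := fun h => hxZ ((hπ1 x).mp h)
      exact hB (π x) ⟨x, hxK, rfl⟩ hx1 g hxg
    · intro c hc
      rw [mem_centralizer_singleton_iff]
      have := hK.is_comm.comm ⟨c, hc⟩ ⟨x, hxK⟩
      exact congrArg Subtype.val this
  have hcentH : ∀ x : G, x ∉ K → (centralizer ({x} : Set G)).index = H.index := by
    intro x hxK
    have hxb : π x ∉ Kb := fun h => hxK (hliftK x h)
    obtain ⟨hx1, g, hg⟩ := hA (π x) hxb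
    obtain ⟨g0, rfl⟩ := hπs g
    have heq : centralizer ({x} : Set G) = H.map (MulAut.conj g0).toMonoidHom := by
      apply le_antisymm
      · intro c hc
        rw [mem_centralizer_singleton_iff] at hc
        have hcomm : π c * π x = π x * π c := by rw [← map_mul, ← map_mul, hc]
        have hcg := frob_comm Hb hFrob (π g0) (π x) (π c) hx1 hg hcomm
        have := hliftH g0 c hcg
        refine ⟨g0⁻¹ * c * g0, this, ?_⟩
        simp [mul_assoc]
      · rintro _ ⟨h, hh, rfl⟩
        rw [mem_centralizer_singleton_iff]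
        have hx' := hliftH g0 x hg
        have := hH.is_comm.comm ⟨h, hh⟩ ⟨g0⁻¹ * x * g0, hx'⟩
        have h2 : h * (g0⁻¹ * x * g0) = (g0⁻¹ * x * g0) * h := congrArg Subtype.val this
        show g0 * h * g0⁻¹ * x = x * (g0 * h * g0⁻¹)
        calc g0 * h * g0⁻¹ * x = g0 * (h * (g0⁻¹ * x * g0)) * g0⁻¹ := by group
          _ = g0 * ((g0⁻¹ * x * g0) * h) * g0⁻¹ := by rw [h2]
          _ = x * (g0 * h * g0⁻¹) := by group
    rw [heq]
    exact Subgroup.index_map_equiv H (MulAut.conj g0)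
  -- arithmetic in the quotient
  have hKbi : Kb.index = K.index := Subgroup.index_map_eq K hπs (by rw [hπker]; exact hZK)
  have hHbi : Hb.index = H.index := Subgroup.index_map_eq H hπs (by rw [hπker]; exact hZH)
  obtain ⟨hcardker, hmod⟩ := Cfsg.Agent.S0034.result Hb hFrob
  have hKbc : Nat.card Kb = Hb.index := by
    rw [← hcardker, hker]
    rfl
  have hKbidx : Kb.index = Nat.card Hb := by
    have h1 := Kb.card_mul_index
    have h2 := Hb.card_mul_index
    rw [hKbc, ← h2, mul_comm] at h1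
    exact Nat.eq_of_mul_eq_mul_right (Nat.pos_of_ne_zero index_ne_zero_of_finite) h1
  have hcop : K.index.Coprime H.index := by
    rw [← hKbi, ← hHbi, hKbidx]
    have h1 : Nat.gcd Hb.index (Nat.card Hb) = Nat.gcd 1 (Nat.card Hb) := Nat.ModEq.gcd_eq hmod
    rw [Nat.gcd_one_left] at h1
    exact Nat.Coprime.symm h1
  -- existence of elements
  have hexK : ∃ x ∈ K, x ∉ Z := by
    have hne : Kb ≠ ⊥ := by
      intro h0
      rw [h0, Subgroup.card_bot] at hKbc
      exact hFrob.2.1 (index_eq_one.mp hKbc.symm)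
    obtain ⟨y, hy1⟩ := (Subgroup.ne_bot_iff_exists_ne_one).mp hne
    obtain ⟨x, hxK, hxy⟩ := y.2
    refine ⟨x, hxK, fun hxZ => hy1 ?_⟩
    apply Subtype.ext
    rw [← hxy]
    exact (hπ1 x).mpr hxZ
  have hexH : ∃ x : G, x ∉ K := by
    obtain ⟨y, hy1⟩ := (Subgroup.ne_bot_iff_exists_ne_one).mp hFrob.1
    obtain ⟨x, hxH, hxy⟩ := y.2
    refine ⟨x, fun hxK => ?_⟩
    have hx1 : π x ≠ 1 := by
      intro h
      apply hy1
      apply Subtype.ext
      rw [← hxy]
      exact h
    have := hB (π x) ⟨x, hxK, rfl⟩ hx1 1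
    apply this
    rw [mem_conj_smul]
    have hxb : π x ∈ Hb := ⟨x, hxH, rfl⟩
    have h1 : (1 : G ⧸ Z)⁻¹ * π x * 1 = π x := by group
    rw [h1]
    exact hxb
  refine ⟨?_, hcop⟩
  ext n
  simp only [Set.mem_range, Set.mem_insert_iff, Set.mem_singleton_iff]
  constructor
  · rintro ⟨x, rfl⟩
    by_cases hxK : x ∈ K
    · by_cases hxZ : x ∈ Z
      · left; rw [hcentZ x hxZ, index_top]
      · right; left; rw [hcentK x hxK hxZ]
    · right; right; exact hcentH x hxK
  · rintro (rfl | rfl | rfl)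
    · exact ⟨1, by rw [hcentZ 1 (one_mem _), index_top]⟩
    · obtain ⟨x, hxK, hxZ⟩ := hexK
      exact ⟨x, by rw [hcentK x hxK hxZ]⟩
    · obtain ⟨x, hxK⟩ := hexH
      exact ⟨x, hcentH x hxK⟩

theorem result {G : Type*} [Group G] [Finite G] (K H : Subgroup G) (hZK : Subgroup.center G ≤ K) (hZH : Subgroup.center G ≤ H) (hK : IsMulCommutative K) (hH : IsMulCommutative H) (hFrob : Cfsg.IsFrobeniusComplement (H.map (QuotientGroup.mk' (Subgroup.center G)))) (hker : Cfsg.frobeniusKernel (H.map (QuotientGroup.mk' (Subgroup.center G))) = (K.map (QuotientGroup.mk' (Subgroup.center G)) : Set (G ⧸ Subgroup.center G))) : Set.range (fun x : G => (Subgroup.centralizer ({x} : Set G)).index) = ({1, K.index, H.index} : Set ℕ) ∧ K.index.Coprime H.index := by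
  exact main K H hZK hZH hK hH hFrob hker

end Cfsg.Agent.S4283
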