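import Cfsg.Statements.S4292
import Mathlib
import Cfsg.Agent.Lib.Helper22.ZFormI
import Cfsg.Agent.Lib.Helper22.FrobProdC
import Cfsg.Agent.Lib.Helper22.FrobProdD

set_option autoImplicit false
open Cfsg

namespace Cfsg.Agent.S4292

/-- Let A and B be nontrivial finite groups. Then the direct product A × B occurs as a Frobenius complement if and only if A and B both occur as Frobenius complements and the orders of A and B are coprime. -/
theorem result {A B : Type*} [Group A] [Finite A] [Nontrivial A] [Group B] [Finite B] [Nontrivial B] :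
    (∃ (L : Type) (_ : Group L) (_ : Finite L) (H : Subgroup L), Cfsg.IsFrobeniusComplement H ∧ Nonempty ((A × B) ≃* H)) ↔
    ((∃ (L : Type) (_ : Group L) (_ : Finite L) (H : Subgroup L), Cfsg.IsFrobeniusComplement H ∧ Nonempty (A ≃* H)) ∧
     (∃ (L : Type) (_ : Group L) (_ : Finite L) (H : Subgroup L), Cfsg.IsFrobeniusComplement H ∧ Nonempty (B ≃* H)) ∧
     (Nat.card A).Coprime (Nat.card B)) := by
  constructor
  · intro hAB
    refine ⟨?_, ?_, ?_⟩
    · obtain ⟨L, _, _, H, hH, ⟨e⟩⟩ := hAB
      exact Cfsg.Agent.Lib.Helper22.FrobProdD.complement_of_injective H hH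
        (e.toMonoidHom.comp (MonoidHom.inl A B))
        (e.injective.comp (fun x y h => congrArg Prod.fst h))
    · obtain ⟨L, _, _, H, hH, ⟨e⟩⟩ := hAB
      exact Cfsg.Agent.Lib.Helper22.FrobProdD.complement_of_injective H hH
        (e.toMonoidHom.comp (MonoidHom.inr A B))
        (e.injective.comp (fun x y h => congrArg Prod.snd h))
    · obtain ⟨d, ρ, hd, hρ⟩ :=
        Cfsg.Agent.Lib.Helper22.ZFormI.zform_of_frobenius_complement (G := A × B) hAB
      exact Cfsg.Agent.Lib.Helper22.FrobProdD.coprime_of_zform hd ρ hρ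
  · rintro ⟨hA, hB, hcop⟩
    obtain ⟨a, ρA, ha, hρA⟩ :=
      Cfsg.Agent.Lib.Helper22.ZFormI.zform_of_frobenius_complement (G := A) hA
    obtain ⟨b, ρB, hb, hρB⟩ :=
      Cfsg.Agent.Lib.Helper22.ZFormI.zform_of_frobenius_complement (G := B) hB
    exact Cfsg.Agent.Lib.Helper22.FrobProdC.prod_complement_of_zforms ha hb ρA hρA ρB hρB hcop

end Cfsg.Agent.S4292
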