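import Cfsg.Statements.S4295
import Cfsg.Agent.Lib.helper23.QuatFrob
import Cfsg.Agent.Lib.helper23.QuatFrobEx

set_option autoImplicit false
open Cfsg

namespace Cfsg.Agent.S4295

open Cfsg.Agent.Lib.helper23

/-- For a natural number m the following are equivalent: (a) some finite group has a Frobenius complement isomorphic to the quaternion group of order 8 whose Frobenius kernel (the identity together with the elements lying in no conjugate of the complement) has exactly m elements; (b) m is an odd perfect square greater than 1. -/
theorem result (m : ℕ) :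
    (∃ (L : Type) (_ : Group L) (_ : Finite L) (H : Subgroup L), Cfsg.IsFrobeniusComplement H ∧
        Nonempty (H ≃* QuaternionGroup 2) ∧ Nat.card (Cfsg.frobeniusKernel H) = m) ↔
    (Odd m ∧ IsSquare m ∧ 1 < m) := by
  constructor
  · rintro ⟨L, _, _, H, hF, ⟨e⟩, hm⟩
    let f : QuaternionGroup 2 →* L := H.subtype.comp e.symm.toMonoidHom
    have hf : Function.Injective f := by
      intro x y hxy
      exact e.symm.injective (Subtype.ext hxy)
    have h1 := odd_isSquare_card_kernel_of_quatHom H hF 2 1 rfl one_ne_zero f hf
      (fun x => (e.symm x).2)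
    rw [hm] at h1
    refine ⟨h1.1, h1.2, ?_⟩
    rw [← hm, Cfsg.Agent.Lib.Helper19.card_frobeniusKernel H hF]
    have h2 : H.index ≠ 1 := fun h => hF.2.1 (Subgroup.index_eq_one.mp h)
    have h3 : H.index ≠ 0 := Subgroup.index_ne_zero_of_finite
    omega
  · rintro ⟨hodd, ⟨r, rfl⟩, h1⟩
    have hr : r ≠ 0 := by
      rintro rfl
      omega
    exact exists_frobenius_quat (r * r) hodd h1 (quatGood_sq r hr)

end Cfsg.Agent.S4295
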