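import Cfsg.Statements.S4296
import Cfsg.Agent.S0040
import Cfsg.Agent.Lib.helper23.QuatFrob

set_option autoImplicit false
open Cfsg

namespace Cfsg.Agent.S4296

open Cfsg.Agent.Lib.helper23

/-- Let H be a Frobenius complement in a finite group, and suppose some Sylow subgroup of H is not cyclic. Then the number of elements of the Frobenius kernel (the identity together with the elements lying in no conjugate of H) is an odd perfect square. -/
theorem result {L : Type*} [Group L] [Finite L] (H : Subgroup L) (hF : Cfsg.IsFrobeniusComplement H)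
    (hZ : ∃ (p : ℕ) (_ : Fact p.Prime) (P : Sylow p H), ¬ IsCyclic P) :
    Odd (Nat.card (Cfsg.frobeniusKernel H)) ∧ IsSquare (Nat.card (Cfsg.frobeniusKernel H)) := by
  obtain ⟨p, hp, P, hP⟩ := hZ
  obtain ⟨N, hN, hNn, hc⟩ := Cfsg.Agent.Lib.Helper1.frobenius_theorem H hF
  have hNbot : N ≠ ⊥ := by
    intro h
    rw [h, Subgroup.isComplement'_bot_left] at hc
    exact hF.2.1 hc
  have hfpf := frobenius_fpf_centralizer H hF N hc.disjoint
  rcases Cfsg.Agent.S0040.result N H hc hNbot hfpf p P with hcyc | ⟨n, ⟨e⟩⟩
  · exact absurd hcyc hP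
  · have hn : n ≠ 0 := by
      rintro rfl
      apply hP
      have h1 : IsCyclic (QuaternionGroup (2 ^ 0)) := QuaternionGroup.quaternionGroup_one_isCyclic
      exact isCyclic_of_surjective e.symm e.symm.surjective
    have hm : 2 ^ n = 2 * 2 ^ (n - 1) := by
      rw [← pow_succ']
      congr 1
      omega
    let f : QuaternionGroup (2 ^ n) →* L :=
      H.subtype.comp ((P : Subgroup H).subtype.comp e.symm.toMonoidHom)
    have hf : Function.Injective f := by
      intro x y hxy
      have h1 : ((e.symm x : P) : H) = ((e.symm y : P) : H) := Subtype.ext hxy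
      exact e.symm.injective (Subtype.ext h1)
    exact odd_isSquare_card_kernel_of_quatHom H hF (2 ^ n) (2 ^ (n - 1)) hm (by positivity) f hf
      (fun x => ((e.symm x : P) : H).2)

end Cfsg.Agent.S4296
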