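import Cfsg.Statements.S4297
import Cfsg.Agent.Lib.helper23.DivRingFrob

set_option autoImplicit false
open Cfsg

namespace Cfsg.Agent.S4297

open Quaternion

/-- the quaternion unit `j` -/
def qJ : ℍ[ℝ] := ⟨0, 0, 1, 0⟩

theorem qJ_re : qJ.re = 0 := rfl
theorem qJ_imI : qJ.imI = 0 := rfl
theorem qJ_imJ : qJ.imJ = 1 := rfl
theorem qJ_imK : qJ.imK = 0 := rfl

theorem qJ_mul_qJ : qJ * qJ = -1 := by
  ext <;> simp [qJ_re, qJ_imI, qJ_imJ, qJ_imK]

theorem coe_mul_qJ (z : ℂ) : (z : ℍ[ℝ]) * qJ = qJ * ((starRingEnd ℂ z : ℂ) : ℍ[ℝ]) := by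
  ext <;> simp [qJ_re, qJ_imI, qJ_imJ, qJ_imK]

theorem qJ_mul_coe_re (z : ℂ) : (qJ * (z : ℍ[ℝ])).re = 0 := by
  simp [qJ_re, qJ_imI, qJ_imJ, qJ_imK]

theorem coeComplex_neg' (z : ℂ) : ((-z : ℂ) : ℍ[ℝ]) = -(z : ℍ[ℝ]) := by
  ext <;> simp

section

variable {n : ℕ} (ζ : ℂ)

/-- powers of the root of unity indexed by `ZMod (2n)` -/
noncomputable def zE (n : ℕ) (ζ : ℂ) (k : ZMod (2 * n)) : ℂ := ζ ^ k.val

variable [NeZero n]

theorem zE_add (hζ : ζ ^ (2 * n) = 1) (i j : ZMod (2 * n)) :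
    zE n ζ (i + j) = zE n ζ i * zE n ζ j := by
  unfold zE
  rw [ZMod.val_add, ← pow_add, ← pow_eq_pow_mod _ hζ]

theorem zE_zero : zE n ζ 0 = 1 := by
  unfold zE
  rw [ZMod.val_zero, pow_zero]

theorem zE_ne_zero (hζ : ζ ^ (2 * n) = 1) (i : ZMod (2 * n)) : zE n ζ i ≠ 0 := by
  unfold zE
  apply pow_ne_zero
  intro h
  rw [h, zero_pow (by have := NeZero.ne n; omega)] at hζ
  exact zero_ne_one hζ

theorem zE_sub (hζ : ζ ^ (2 * n) = 1) (i j : ZMod (2 * n)) :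
    zE n ζ (j - i) = zE n ζ j * (zE n ζ i)⁻¹ := by
  have h := zE_add ζ hζ (j - i) i
  rw [sub_add_cancel] at h
  rw [h, mul_assoc, mul_inv_cancel₀ (zE_ne_zero ζ hζ i), mul_one]

theorem zE_conj (hζ : ζ ^ (2 * n) = 1) (i : ZMod (2 * n)) :
    starRingEnd ℂ (zE n ζ i) = (zE n ζ i)⁻¹ := by
  have hnorm : ‖ζ‖ = 1 := Complex.norm_eq_one_of_pow_eq_one hζ (by have := NeZero.ne n; omega)
  unfold zE
  rw [map_pow, ← Complex.inv_eq_conj hnorm, inv_pow]

theorem zE_n (hn : ζ ^ n = -1) : zE n ζ (n : ZMod (2 * n)) = -1 := by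
  unfold zE
  rw [ZMod.val_natCast_of_lt (by have := NeZero.ne n; omega), hn]

/-- the embedding of the dicyclic group into the quaternions -/
noncomputable def qHom (n : ℕ) [NeZero n] (ζ : ℂ) (hζ : ζ ^ (2 * n) = 1) (hn : ζ ^ n = -1) :
    QuaternionGroup n →* ℍ[ℝ] where
  toFun
    | QuaternionGroup.a k => ((zE n ζ k : ℂ) : ℍ[ℝ])
    | QuaternionGroup.xa k => qJ * ((zE n ζ k : ℂ) : ℍ[ℝ])
  map_one' := by
    rw [QuaternionGroup.one_def]
    change ((zE n ζ 0 : ℂ) : ℍ[ℝ]) = 1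
    rw [zE_zero]
    exact coeComplex_one
  map_mul' := by
    rintro (i | i) (j | j)
    · rw [QuaternionGroup.a_mul_a]
      change ((zE n ζ (i + j) : ℂ) : ℍ[ℝ]) = ((zE n ζ i : ℂ) : ℍ[ℝ]) * ((zE n ζ j : ℂ) : ℍ[ℝ])
      rw [zE_add ζ hζ, coeComplex_mul]
    · rw [QuaternionGroup.a_mul_xa]
      change qJ * ((zE n ζ (j - i) : ℂ) : ℍ[ℝ]) =
        ((zE n ζ i : ℂ) : ℍ[ℝ]) * (qJ * ((zE n ζ j : ℂ) : ℍ[ℝ]))
      rw [← mul_assoc, coe_mul_qJ, mul_assoc, ← coeComplex_mul, zE_conj ζ hζ, zE_sub ζ hζ, mul_comm]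
    · rw [QuaternionGroup.xa_mul_a]
      change qJ * ((zE n ζ (i + j) : ℂ) : ℍ[ℝ]) =
        qJ * ((zE n ζ i : ℂ) : ℍ[ℝ]) * ((zE n ζ j : ℂ) : ℍ[ℝ])
      rw [zE_add ζ hζ, coeComplex_mul, mul_assoc]
    · rw [QuaternionGroup.xa_mul_xa]
      change ((zE n ζ ((n : ZMod (2 * n)) + j - i) : ℂ) : ℍ[ℝ]) =
        qJ * ((zE n ζ i : ℂ) : ℍ[ℝ]) * (qJ * ((zE n ζ j : ℂ) : ℍ[ℝ]))
      rw [mul_assoc, ← mul_assoc _ qJ, coe_mul_qJ, mul_assoc, ← mul_assoc qJ qJ, qJ_mul_qJ,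
        ← coeComplex_mul, zE_conj ζ hζ, zE_sub ζ hζ, zE_add ζ hζ, zE_n ζ hn]
      rw [neg_one_mul, neg_one_mul, ← coeComplex_neg']
      congr 1
      ring

theorem qHom_injective (n : ℕ) [NeZero n] (ζ : ℂ) (hprim : IsPrimitiveRoot ζ (2 * n))
    (hn : ζ ^ n = -1) : Function.Injective (qHom n ζ hprim.pow_eq_one hn) := by
  rw [injective_iff_map_eq_one]
  rintro (k | k) hk
  · change ((zE n ζ k : ℂ) : ℍ[ℝ]) = 1 at hk
    have h1 : zE n ζ k = 1 := by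
      have := congrArg (fun q : ℍ[ℝ] => q.re) hk
      have h2 := congrArg (fun q : ℍ[ℝ] => q.imI) hk
      apply Complex.ext
      · simpa using this
      · simpa using h2
    unfold zE at h1
    have h3 := (hprim.pow_eq_one_iff_dvd _).mp h1
    have h4 : k.val < 2 * n := ZMod.val_lt k
    have h5 : k.val = 0 := Nat.eq_zero_of_dvd_of_lt h3 h4
    rw [QuaternionGroup.one_def]
    congr 1
    exact (ZMod.val_eq_zero k).mp h5
  · exfalso
    change qJ * ((zE n ζ k : ℂ) : ℍ[ℝ]) = 1 at hk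
    have := congrArg (fun q : ℍ[ℝ] => q.re) hk
    simp only [qJ_mul_coe_re] at this
    simp at this

end

/-- For every n ≥ 2 the dicyclic group of order 4n (generated by an element a of order 2n and an element x with x² = aⁿ and x a x⁻¹ = a⁻¹) occurs as a Frobenius complement of some finite Frobenius group. -/
theorem result (n : ℕ) (hn : 2 ≤ n) :
    ∃ (L : Type) (_ : Group L) (_ : Finite L) (H : Subgroup L), Cfsg.IsFrobeniusComplement H ∧ Nonempty (H ≃* QuaternionGroup n) := by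
  haveI : NeZero n := ⟨by omega⟩
  have hprim : IsPrimitiveRoot (Complex.exp (2 * Real.pi * Complex.I / ((2 * n : ℕ) : ℂ))) (2 * n) :=
    Complex.isPrimitiveRoot_exp (2 * n) (by omega)
  set ζ := Complex.exp (2 * Real.pi * Complex.I / ((2 * n : ℕ) : ℂ)) with hζdef
  have hζ : ζ ^ (2 * n) = 1 := hprim.pow_eq_one
  have hζn : ζ ^ n = -1 := by
    have h1 : ζ ^ n * ζ ^ n = 1 := by rw [← pow_add, ← two_mul, hζ]
    rcases mul_self_eq_one_iff.mp h1 with h | h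
    · exfalso
      have := (hprim.pow_eq_one_iff_dvd _).mp h
      have := Nat.le_of_dvd (by omega) this
      omega
    · exact h
  have hinj := qHom_injective n ζ hprim hζn
  set f : QuaternionGroup n →* ℍ[ℝ]ˣ := (qHom n ζ hζ hζn).toHomUnits with hf
  have hfinj : Function.Injective f := by
    intro x y hxy
    apply hinj
    have := congrArg (fun u : ℍ[ℝ]ˣ => (u : ℍ[ℝ])) hxy
    simpa [hf] using this
  haveI : Finite f.range := Finite.of_equiv _ (MonoidHom.ofInjective hfinj).toEquiv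
  have hne : f.range ≠ ⊥ := by
    intro h
    have h1 : f (QuaternionGroup.xa 0) ∈ f.range := ⟨_, rfl⟩
    rw [h, Subgroup.mem_bot] at h1
    have h2 : (QuaternionGroup.xa 0 : QuaternionGroup n) = 1 := hfinj (by rw [h1, map_one])
    rw [QuaternionGroup.one_def] at h2
    cases h2
  obtain ⟨L, hg, hfin, C, hC, ⟨e⟩⟩ :=
    Cfsg.Agent.Lib.helper23.exists_frobenius_of_divisionRing f.range hne
  exact ⟨L, hg, hfin, C, hC, ⟨e.symm.trans (MonoidHom.ofInjective hfinj).symm⟩⟩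

end Cfsg.Agent.S4297
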