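import Cfsg.Statements.S4298
import Cfsg.Agent.Lib.helper23.DivRingFrob

set_option autoImplicit false
open Cfsg

namespace Cfsg.Agent.S4298

open Quaternion

/-- the group `SL(2,3)` -/
abbrev SL23 := Matrix.SpecialLinearGroup (Fin 2) (ZMod 3)

/-- twice the quaternion coordinates of the binary tetrahedral element attached to a matrix -/
def qt (A : SL23) : ℤ := if -(A.1 0 0 + A.1 1 1) ≠ 0 ∧ A.1 0 1 - A.1 1 0 ≠ 0 then -1 else 2
def d0 (A : SL23) : ℤ := qt A * (-(A.1 0 0 + A.1 1 1)).valMinAbs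
def d1 (A : SL23) : ℤ := qt A * (A.1 0 1 - A.1 1 0).valMinAbs
def d2 (A : SL23) : ℤ := qt A * (A.1 0 0 + A.1 0 1 + A.1 1 0 - A.1 1 1).valMinAbs
def d3 (A : SL23) : ℤ := qt A * (-A.1 0 0 + A.1 0 1 + A.1 1 0 + A.1 1 1).valMinAbs

set_option maxRecDepth 100000 in
theorem d0_mul : ∀ A B : SL23,
    2 * d0 (A * B) = d0 A * d0 B - d1 A * d1 B - d2 A * d2 B - d3 A * d3 B := by
  decide

set_option maxRecDepth 100000 in
theorem d1_mul : ∀ A B : SL23,
    2 * d1 (A * B) = d0 A * d1 B + d1 A * d0 B + d2 A * d3 B - d3 A * d2 B := by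
  decide

set_option maxRecDepth 100000 in
theorem d2_mul : ∀ A B : SL23,
    2 * d2 (A * B) = d0 A * d2 B - d1 A * d3 B + d2 A * d0 B + d3 A * d1 B := by
  decide

set_option maxRecDepth 100000 in
theorem d3_mul : ∀ A B : SL23,
    2 * d3 (A * B) = d0 A * d3 B + d1 A * d2 B - d2 A * d1 B + d3 A * d0 B := by
  decide

set_option maxRecDepth 100000 in
theorem d_one : d0 (1 : SL23) = 2 ∧ d1 (1 : SL23) = 0 ∧ d2 (1 : SL23) = 0 ∧ d3 (1 : SL23) = 0 := by
  decide

set_option maxRecDepth 100000 in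
theorem d_inj : ∀ A : SL23, d0 A = 2 → d1 A = 0 → d2 A = 0 → d3 A = 0 → A = 1 := by
  decide

/-- the underlying function of the embedding of `SL(2,3)` into the rational quaternions -/
noncomputable def qFun (A : SL23) : ℍ[ℚ] :=
  ⟨(d0 A : ℚ) / 2, (d1 A : ℚ) / 2, (d2 A : ℚ) / 2, (d3 A : ℚ) / 2⟩

theorem qFun_re (A : SL23) : (qFun A).re = (d0 A : ℚ) / 2 := rfl
theorem qFun_imI (A : SL23) : (qFun A).imI = (d1 A : ℚ) / 2 := rfl
theorem qFun_imJ (A : SL23) : (qFun A).imJ = (d2 A : ℚ) / 2 := rfl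
theorem qFun_imK (A : SL23) : (qFun A).imK = (d3 A : ℚ) / 2 := rfl

theorem qFun_one : qFun 1 = 1 := by
  obtain ⟨h0, h1, h2, h3⟩ := d_one
  apply Quaternion.ext
  · rw [qFun_re, h0, Quaternion.re_one]; norm_num
  · rw [qFun_imI, h1, Quaternion.imI_one]; norm_num
  · rw [qFun_imJ, h2, Quaternion.imJ_one]; norm_num
  · rw [qFun_imK, h3, Quaternion.imK_one]; norm_num

theorem qFun_mul (A B : SL23) : qFun (A * B) = qFun A * qFun B := by
  have h0 : (2 * d0 (A * B) : ℚ) = d0 A * d0 B - d1 A * d1 B - d2 A * d2 B - d3 A * d3 B := by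
    exact_mod_cast d0_mul A B
  have h1 : (2 * d1 (A * B) : ℚ) = d0 A * d1 B + d1 A * d0 B + d2 A * d3 B - d3 A * d2 B := by
    exact_mod_cast d1_mul A B
  have h2 : (2 * d2 (A * B) : ℚ) = d0 A * d2 B - d1 A * d3 B + d2 A * d0 B + d3 A * d1 B := by
    exact_mod_cast d2_mul A B
  have h3 : (2 * d3 (A * B) : ℚ) = d0 A * d3 B + d1 A * d2 B - d2 A * d1 B + d3 A * d0 B := by
    exact_mod_cast d3_mul A B
  apply Quaternion.ext
  · rw [Quaternion.re_mul]
    simp only [qFun_re, qFun_imI, qFun_imJ, qFun_imK]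
    linear_combination (1/4 : ℚ) * h0
  · rw [Quaternion.imI_mul]
    simp only [qFun_re, qFun_imI, qFun_imJ, qFun_imK]
    linear_combination (1/4 : ℚ) * h1
  · rw [Quaternion.imJ_mul]
    simp only [qFun_re, qFun_imI, qFun_imJ, qFun_imK]
    linear_combination (1/4 : ℚ) * h2
  · rw [Quaternion.imK_mul]
    simp only [qFun_re, qFun_imI, qFun_imJ, qFun_imK]
    linear_combination (1/4 : ℚ) * h3

/-- the embedding of `SL(2,3)` into the rational quaternions -/
noncomputable def qHom : SL23 →* ℍ[ℚ] where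
  toFun := qFun
  map_one' := qFun_one
  map_mul' := qFun_mul

theorem qHom_injective : Function.Injective qHom := by
  rw [injective_iff_map_eq_one]
  intro A hA
  have hA' : qFun A = 1 := hA
  have e0 := congrArg (fun q : ℍ[ℚ] => q.re) hA'
  have e1 := congrArg (fun q : ℍ[ℚ] => q.imI) hA'
  have e2 := congrArg (fun q : ℍ[ℚ] => q.imJ) hA'
  have e3 := congrArg (fun q : ℍ[ℚ] => q.imK) hA'
  simp only [qFun_re, qFun_imI, qFun_imJ, qFun_imK, Quaternion.re_one, Quaternion.imI_one,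
    Quaternion.imJ_one, Quaternion.imK_one] at e0 e1 e2 e3
  apply d_inj A
  · have : (d0 A : ℚ) = 2 := by linarith
    exact_mod_cast this
  · have : (d1 A : ℚ) = 0 := by linarith
    exact_mod_cast this
  · have : (d2 A : ℚ) = 0 := by linarith
    exact_mod_cast this
  · have : (d3 A : ℚ) = 0 := by linarith
    exact_mod_cast this

/-- The group SL(2,3) of order 24 (the binary tetrahedral group) occurs as a Frobenius complement of some finite Frobenius group. -/
theorem result :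
    ∃ (L : Type) (_ : Group L) (_ : Finite L) (H : Subgroup L), Cfsg.IsFrobeniusComplement H ∧ Nonempty (H ≃* Matrix.SpecialLinearGroup (Fin 2) (ZMod 3)) := by
  set f : SL23 →* ℍ[ℚ]ˣ := qHom.toHomUnits with hf
  have hfinj : Function.Injective f := by
    intro x y hxy
    apply qHom_injective
    have := congrArg (fun u : ℍ[ℚ]ˣ => (u : ℍ[ℚ])) hxy
    simpa [hf] using this
  haveI : Finite f.range := Finite.of_equiv _ (MonoidHom.ofInjective hfinj).toEquiv
  have hne : f.range ≠ ⊥ := by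
    intro h
    have h1 : f (-1 : SL23) ∈ f.range := ⟨_, rfl⟩
    rw [h, Subgroup.mem_bot] at h1
    have h2 : (-1 : SL23) = 1 := hfinj (by rw [h1, map_one])
    revert h2
    decide
  obtain ⟨L, hg, hfin, C, hC, ⟨e⟩⟩ :=
    Cfsg.Agent.Lib.helper23.exists_frobenius_of_divisionRing f.range hne
  exact ⟨L, hg, hfin, C, hC, ⟨e.symm.trans (MonoidHom.ofInjective hfinj).symm⟩⟩

end Cfsg.Agent.S4298
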