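import Cfsg.Statements.S4300

set_option autoImplicit false
open Cfsg

namespace Cfsg.Agent.S4300

/-- Let G act faithfully and primitively on a set X, and suppose the stabilizer of some point is a simple group. Then either G is simple, or G has a normal subgroup, neither trivial nor the whole group, that acts regularly on X (transitively with trivial point stabilizers). -/
theorem result {G : Type*} [Group G] {X : Type*} [MulAction G X] [FaithfulSMul G X]
    (hprim : MulAction.IsPreprimitive G X) (x : X) (hsimple : IsSimpleGroup (MulAction.stabilizer G x)) :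
    IsSimpleGroup G ∨ ∃ N : Subgroup G, N.Normal ∧ N ≠ ⊥ ∧ N ≠ ⊤ ∧
      MulAction.IsPretransitive N X ∧ ∀ y : X, MulAction.stabilizer N y = ⊥ := by
  by_cases hG : IsSimpleGroup G
  · exact Or.inl hG
  right
  have hnt : Nontrivial G := by
    obtain ⟨a, b, hab⟩ := hsimple.toNontrivial
    exact ⟨⟨a, b, fun h => hab (Subtype.ext h)⟩⟩
  have hex : ∃ N : Subgroup G, N.Normal ∧ N ≠ ⊥ ∧ N ≠ ⊤ := by
    by_contra hcon
    push Not at hcon
    apply hG
    exact ⟨fun N hN => by
      by_cases h0 : N = ⊥
      · exact Or.inl h0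
      · exact Or.inr (hcon N hN h0)⟩
  obtain ⟨N, hN, hN0, hN1⟩ := hex
  have hfix : MulAction.fixedPoints N X ≠ Set.univ := by
    intro hall
    apply hN0
    rw [eq_bot_iff]
    intro n hn
    rw [Subgroup.mem_bot]
    apply FaithfulSMul.eq_of_smul_eq_smul (α := X)
    intro y
    have : y ∈ MulAction.fixedPoints N X := by rw [hall]; exact Set.mem_univ y
    rw [MulAction.mem_fixedPoints] at this
    have h2 := this ⟨n, hn⟩
    rw [one_smul]
    exact h2
  have htr : MulAction.IsPretransitive N X :=
    MulAction.IsQuasiPreprimitive.isPretransitive_of_normal hfix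
  refine ⟨N, hN, hN0, hN1, htr, ?_⟩
  have hnorm : (N.subgroupOf (MulAction.stabilizer G x)).Normal := inferInstance
  have hinf : N ⊓ MulAction.stabilizer G x = ⊥ := by
    rcases hnorm.eq_bot_or_eq_top with h0 | h1
    · rw [Subgroup.subgroupOf_eq_bot] at h0
      rw [disjoint_iff] at h0
      exact h0
    · exfalso
      rw [Subgroup.subgroupOf_eq_top] at h1
      apply hN1
      rw [eq_top_iff]
      intro g _
      obtain ⟨n, hn⟩ := MulAction.exists_smul_eq N x (g • x)
      have hmem : (n : G)⁻¹ * g ∈ MulAction.stabilizer G x := by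
        rw [MulAction.mem_stabilizer_iff, mul_smul, ← hn]
        exact inv_smul_smul (n : G) x
      have := N.mul_mem n.2 (h1 hmem)
      simpa using this
  intro y
  rw [eq_bot_iff]
  intro m hm
  rw [Subgroup.mem_bot]
  obtain ⟨n, hn⟩ := MulAction.exists_smul_eq N x y
  rw [MulAction.mem_stabilizer_iff] at hm
  have hmem : (n : G)⁻¹ * (m : G) * (n : G) ∈ N ⊓ MulAction.stabilizer G x := by
    rw [Subgroup.mem_inf]
    refine ⟨N.mul_mem (N.mul_mem (N.inv_mem n.2) m.2) n.2, ?_⟩
    rw [MulAction.mem_stabilizer_iff, mul_smul, mul_smul]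
    have h1 : (n : G) • x = y := hn
    have h2 : (m : G) • y = y := hm
    rw [h1, h2, ← h1, inv_smul_smul]
  rw [hinf, Subgroup.mem_bot] at hmem
  apply Subtype.ext
  have : (m : G) = (n : G) * ((n : G)⁻¹ * (m : G) * (n : G)) * (n : G)⁻¹ := by group
  rw [this, hmem]
  simp

end Cfsg.Agent.S4300
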