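import Cfsg.Statements.S4301
import Mathlib
import Cfsg.Statements.S4301

set_option autoImplicit false
open Cfsg

namespace Cfsg.Agent.S4301

section ext
variable {X : Type*}

theorem exists_extend_emb {m k : ℕ} (hmk : m ≤ k) (e0 : Fin k ↪ X) (e : Fin m ↪ X) :
    ∃ e' : Fin k ↪ X, ∀ i : Fin m, e' (Fin.castLE hmk i) = e i := by
  have hcard : (k : ℕ∞) ≤ ENat.card X := by
    have := ENat.card_le_card_of_injective e0.injective
    rwa [ENat.card_eq_coe_fintype_card, Fintype.card_fin] at this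
  obtain ⟨e', he'⟩ := Fin.Embedding.restrictSurjective_of_le_ENatCard hmk hcard e
  refine ⟨e', fun i => ?_⟩
  have := congrArg (fun f : Fin m ↪ X => f i) he'
  simpa using this

end ext

theorem emb2 {α : Type*} (a b : α) (hab : a ≠ b) : Function.Injective (![a, b] : Fin 2 → α) := by
  intro i j hij
  fin_cases i <;> fin_cases j
  · rfl
  · exact absurd hij hab
  · exact absurd hij.symm hab
  · rfl

theorem main {X : Type*} (G : Subgroup (Equiv.Perm (Option X))) (hfix : ∀ f ∈ G, f none = none)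
    (k : ℕ) (hk : 2 ≤ k) (hkX : Nonempty (Fin k ↪ X))
    (htrans : ∀ a b : Fin k ↪ X, ∃ f ∈ G, ∀ i, f (some (a i)) = some (b i))
    (h g : Equiv.Perm (Option X)) (hg : g ∈ G) (x y : X)
    (h1 : h none = some x) (h2 : h (some x) = none) (h3 : h (some y) = some y)
    (h4 : g (some x) = some y) (h5 : g (some y) = some x)
    (h6 : (g * h) ^ 3 ∈ G) (h7 : h ^ 2 ∈ G)
    (h8 : ∀ f ∈ G, f (some x) = some x → h * f * h ∈ G ∧ (h * f * h) (some x) = some x) :
    (∀ f ∈ Subgroup.closure ((G : Set (Equiv.Perm (Option X))) ∪ {h}), f none = none ↔ f ∈ G) ∧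
      MulAction.IsMultiplyPretransitive (Subgroup.closure ((G : Set (Equiv.Perm (Option X))) ∪ {h})) (Option X) (k + 1) := by
  obtain ⟨e0⟩ := hkX
  have htr : ∀ m (hm : m ≤ k) (u v : Fin m ↪ X), ∃ f ∈ G, ∀ i, f (some (u i)) = some (v i) := by
    intro m hm u v
    obtain ⟨u', hu'⟩ := exists_extend_emb hm e0 u
    obtain ⟨v', hv'⟩ := exists_extend_emb hm e0 v
    obtain ⟨f, hf, hfu⟩ := htrans u' v'
    refine ⟨f, hf, fun i => ?_⟩
    rw [← hu' i, ← hv' i]; exact hfu _
  have hxy : x ≠ y := by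
    rintro rfl
    rw [h2] at h3; exact absurd h3 (by simp)
  have h2t : ∀ z : X, z ≠ x → ∃ a ∈ G, a (some x) = some x ∧ a (some y) = some z := by
    intro z hz
    let u : Fin 2 ↪ X := ⟨![x, y], emb2 x y hxy⟩
    let v : Fin 2 ↪ X := ⟨![x, z], emb2 x z (Ne.symm hz)⟩
    obtain ⟨a, ha, hau⟩ := htr 2 hk u v
    exact ⟨a, ha, hau 0, hau 1⟩
  have h1t : ∀ z : X, ∃ a ∈ G, a (some z) = some x := by
    intro z
    let u : Fin 1 ↪ X := ⟨fun _ => z, fun i j _ => Subsingleton.elim i j⟩
    let v : Fin 1 ↪ X := ⟨fun _ => x, fun i j _ => Subsingleton.elim i j⟩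
    obtain ⟨a, ha, hau⟩ := htr 1 (by omega) u v
    exact ⟨a, ha, hau 0⟩
  have hsome : ∀ f ∈ G, ∀ z : X, ∃ w : X, f (some z) = some w := by
    intro f hf z
    rcases hfz : f (some z) with _ | w
    · exfalso
      have := f.injective (hfz.trans (hfix f hf).symm)
      exact absurd this (by simp)
    · exact ⟨w, rfl⟩
  have hdG : (h ^ 2)⁻¹ ∈ G := G.inv_mem h7
  have hhinv : h⁻¹ = (h ^ 2)⁻¹ * h := by group
  have hhinv' : h⁻¹ = h * (h ^ 2)⁻¹ := by group
  -- the double coset set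
  let D : Equiv.Perm (Option X) → Prop := fun f => f ∈ G ∨ ∃ a ∈ G, ∃ b ∈ G, f = a * h * b
  have K1 : ∀ f ∈ G, f (some x) = some x → h * f * h⁻¹ ∈ G ∧ h⁻¹ * f * h ∈ G := by
    intro f hf hfx
    have := (h8 f hf hfx).1
    constructor
    · have e : h * f * h⁻¹ = (h * f * h) * (h ^ 2)⁻¹ := by group
      rw [e]; exact G.mul_mem this hdG
    · have e : h⁻¹ * f * h = (h ^ 2)⁻¹ * (h * f * h) := by group
      rw [e]; exact G.mul_mem hdG this
  have K2 : ∃ a ∈ G, ∃ b ∈ G, h * g * h = a * h * b := by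
    refine ⟨g⁻¹ * (g * h) ^ 3 * (h ^ 2)⁻¹, G.mul_mem (G.mul_mem (G.inv_mem hg) h6) hdG,
      g⁻¹, G.inv_mem hg, ?_⟩
    rw [pow_three, pow_two]
    group
  have K3 : ∀ f ∈ G, f (some x) = some x ∨ ∃ a ∈ G, ∃ b ∈ G, a (some x) = some x ∧
      b (some x) = some x ∧ f = a * g * b := by
    intro f hf
    obtain ⟨z, hz⟩ := hsome f hf x
    by_cases hzx : z = x
    · left; rw [hz, hzx]
    · right
      obtain ⟨a, ha, hax, hay⟩ := h2t z hzx
      refine ⟨a, ha, (a * g)⁻¹ * f, G.mul_mem (G.inv_mem (G.mul_mem ha hg)) hf, hax, ?_, by group⟩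
      rw [Equiv.Perm.mul_apply, hz, Equiv.Perm.inv_eq_iff_eq, Equiv.Perm.mul_apply, h4, hay]
  have K4 : ∀ f ∈ G, D (h * f * h) := by
    intro f hf
    rcases K3 f hf with hfx | ⟨a, ha, b, hb, hax, hbx, rfl⟩
    · exact Or.inl (h8 f hf hfx).1
    · right
      obtain ⟨a', ha', b', hb', hab⟩ := K2
      refine ⟨(h * a * h⁻¹) * a', G.mul_mem (K1 a ha hax).1 ha', b' * (h⁻¹ * b * h),
        G.mul_mem hb' (K1 b hb hbx).2, ?_⟩
      have e : h * (a * g * b) * h = (h * a * h⁻¹) * (h * g * h) * (h⁻¹ * b * h) := by group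
      rw [e, hab]
      group
  have Dmul : ∀ f₁ f₂, D f₁ → D f₂ → D (f₁ * f₂) := by
    intro f₁ f₂ hf₁ hf₂
    rcases hf₁ with hf₁ | ⟨a₁, ha₁, b₁, hb₁, rfl⟩
    · rcases hf₂ with hf₂ | ⟨a₂, ha₂, b₂, hb₂, rfl⟩
      · exact Or.inl (G.mul_mem hf₁ hf₂)
      · exact Or.inr ⟨f₁ * a₂, G.mul_mem hf₁ ha₂, b₂, hb₂, by group⟩
    · rcases hf₂ with hf₂ | ⟨a₂, ha₂, b₂, hb₂, rfl⟩
      · exact Or.inr ⟨a₁, ha₁, b₁ * f₂, G.mul_mem hb₁ hf₂, by group⟩
      · rcases K4 (b₁ * a₂) (G.mul_mem hb₁ ha₂) with hm | ⟨a₃, ha₃, b₃, hb₃, hm⟩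
        · left
          have e : a₁ * h * b₁ * (a₂ * h * b₂) = a₁ * (h * (b₁ * a₂) * h) * b₂ := by group
          rw [e]
          exact G.mul_mem (G.mul_mem ha₁ hm) hb₂
        · right
          refine ⟨a₁ * a₃, G.mul_mem ha₁ ha₃, b₃ * b₂, G.mul_mem hb₃ hb₂, ?_⟩
          have e : a₁ * h * b₁ * (a₂ * h * b₂) = a₁ * (h * (b₁ * a₂) * h) * b₂ := by group
          rw [e, hm]
          group
  have Dinv : ∀ f, D f → D f⁻¹ := by
    intro f hf
    rcases hf with hf | ⟨a, ha, b, hb, rfl⟩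
    · exact Or.inl (G.inv_mem hf)
    · right
      refine ⟨b⁻¹ * (h ^ 2)⁻¹, G.mul_mem (G.inv_mem hb) hdG, a⁻¹, G.inv_mem ha, ?_⟩
      rw [mul_inv_rev, mul_inv_rev, hhinv]
      group
  let Dsub : Subgroup (Equiv.Perm (Option X)) :=
    { carrier := {f | D f}
      mul_mem' := fun {a b} ha hb => Dmul a b ha hb
      one_mem' := Or.inl G.one_mem
      inv_mem' := fun {a} ha => Dinv a ha }
  have hcl : ∀ f ∈ Subgroup.closure ((G : Set (Equiv.Perm (Option X))) ∪ {h}), D f := by
    intro f hf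
    have hle : Subgroup.closure ((G : Set (Equiv.Perm (Option X))) ∪ {h}) ≤ Dsub := by
      rw [Subgroup.closure_le]
      rintro f (hf | hf)
      · exact Or.inl hf
      · rw [Set.mem_singleton_iff] at hf
        subst hf
        exact Or.inr ⟨1, G.one_mem, 1, G.one_mem, by group⟩
    exact hle hf
  have hGle : ∀ f ∈ G, f ∈ Subgroup.closure ((G : Set (Equiv.Perm (Option X))) ∪ {h}) :=
    fun f hf => Subgroup.subset_closure (Or.inl hf)
  have hhmem : h ∈ Subgroup.closure ((G : Set (Equiv.Perm (Option X))) ∪ {h}) :=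
    Subgroup.subset_closure (Or.inr rfl)
  constructor
  · intro f hf
    constructor
    · intro hnone
      rcases hcl f hf with hfG | ⟨a, ha, b, hb, rfl⟩
      · exact hfG
      · exfalso
        rw [Equiv.Perm.mul_apply, Equiv.Perm.mul_apply, hfix b hb, h1] at hnone
        obtain ⟨w, hw⟩ := hsome a ha x
        rw [hw] at hnone
        exact absurd hnone (by simp)
    · exact hfix f
  · -- transitivity
    have hpt : ∀ p : Option X, ∃ f ∈ Subgroup.closure ((G : Set (Equiv.Perm (Option X))) ∪ {h}),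
        f p = none := by
      intro p
      rcases p with _ | z
      · exact ⟨1, Subgroup.one_mem _, rfl⟩
      · obtain ⟨a, ha, haz⟩ := h1t z
        refine ⟨h * a, Subgroup.mul_mem _ hhmem (hGle a ha), ?_⟩
        rw [Equiv.Perm.mul_apply, haz, h2]
    have hrest : ∀ (u : Fin (k + 1) ↪ Option X) (f : Equiv.Perm (Option X)), f (u 0) = none →
        ∃ a : Fin k ↪ X, ∀ i : Fin k, f (u i.succ) = some (a i) := by
      intro u f hf0
      have hex : ∀ i : Fin k, ∃ z : X, f (u i.succ) = some z := by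
        intro i
        rcases hfz : f (u i.succ) with _ | w
        · exfalso
          have := u.injective (f.injective (hfz.trans hf0.symm))
          exact Fin.succ_ne_zero i this
        · exact ⟨w, rfl⟩
      choose a ha using hex
      refine ⟨⟨a, ?_⟩, ha⟩
      intro i j hij
      have : f (u i.succ) = f (u j.succ) := by rw [ha i, ha j, hij]
      exact Fin.succ_injective _ (u.injective (f.injective this))
    refine ⟨fun u v => ?_⟩
    obtain ⟨fu, hfu, hfu0⟩ := hpt (u 0)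
    obtain ⟨fv, hfv, hfv0⟩ := hpt (v 0)
    obtain ⟨a, ha⟩ := hrest u fu hfu0
    obtain ⟨b, hb⟩ := hrest v fv hfv0
    obtain ⟨f, hf, hfab⟩ := htrans a b
    refine ⟨⟨fv⁻¹ * f * fu, Subgroup.mul_mem _ (Subgroup.mul_mem _ (Subgroup.inv_mem _ hfv)
      (hGle f hf)) hfu⟩, ?_⟩
    apply Function.Embedding.ext
    intro j
    show (fv⁻¹ * f * fu) (u j) = v j
    rw [Equiv.Perm.mul_apply, Equiv.Perm.mul_apply, Equiv.Perm.inv_eq_iff_eq]
    refine Fin.cases ?_ (fun i => ?_) j
    · rw [hfu0, hfix f hf, hfv0]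
    · rw [ha i, hfab i, hb i]


/-- One-point extension of a multiply transitive group. Let X be a set and G a group of permutations of Option X (the set X with one extra point ∗ = none) all of whose elements fix ∗, such that G is k-transitive on the points of X for some k ≥ 2, X having at least k points. Suppose a permutation h of Option X and an element g of G satisfy: h interchanges ∗ with a point x of X and fixes a point y of X; g interchanges x and y; (g h)³ and h² lie in G; and for every f in G fixing x, the product h f h lies in G and fixes x. Then an element of the group generated by G and h fixes ∗ exactly when it lies in G, and that group acts (k+1)-transitively on Option X. -/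
theorem result {X : Type*} (G : Subgroup (Equiv.Perm (Option X))) (hfix : ∀ f ∈ G, f none = none)
    (k : ℕ) (hk : 2 ≤ k) (hkX : Nonempty (Fin k ↪ X))
    (htrans : ∀ a b : Fin k ↪ X, ∃ f ∈ G, ∀ i, f (some (a i)) = some (b i))
    (h g : Equiv.Perm (Option X)) (hg : g ∈ G) (x y : X)
    (h1 : h none = some x) (h2 : h (some x) = none) (h3 : h (some y) = some y)
    (h4 : g (some x) = some y) (h5 : g (some y) = some x)
    (h6 : (g * h) ^ 3 ∈ G) (h7 : h ^ 2 ∈ G)
    (h8 : ∀ f ∈ G, f (some x) = some x → h * f * h ∈ G ∧ (h * f * h) (some x) = some x) :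
    (∀ f ∈ Subgroup.closure ((G : Set (Equiv.Perm (Option X))) ∪ {h}), f none = none ↔ f ∈ G) ∧
      MulAction.IsMultiplyPretransitive (Subgroup.closure ((G : Set (Equiv.Perm (Option X))) ∪ {h})) (Option X) (k + 1) := by
  exact main G hfix k hk hkX htrans h g hg x y h1 h2 h3 h4 h5 h6 h7 h8

end Cfsg.Agent.S4301
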