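import Mathlib
import Cfsg.Statements.S4304
import Cfsg.Agent.Lib.helper3.Syl15B

set_option autoImplicit false
open Cfsg

namespace Cfsg.Agent.S4304

/-- No finite group has exactly 15 Sylow 7-subgroups. -/
theorem result {G : Type*} [Group G] [Finite G] : Nat.card (Sylow 7 G) ≠ 15 := by
  intro h15
  classical
  obtain ⟨P⟩ : Nonempty (Sylow 7 G) := inferInstance
  have hf : Function.Surjective (MulAction.toPermHom G (Sylow 7 G)).rangeRestrict :=
    (MulAction.toPermHom G (Sylow 7 G)).rangeRestrict_surjective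
  have hsmul : ∀ (g : G) (Q : Sylow 7 G),
      ((MulAction.toPermHom G (Sylow 7 G)).rangeRestrict g) • Q = g • Q := fun g Q => rfl
  refine Cfsg.Agent.Lib.helper3.syl15_no_cfg (Ω := Sylow 7 G) _
    (MulAction.toPermHom G (Sylow 7 G)).range (P.mapSurjective hf) P rfl ?_
  refine ⟨h15, ?_, inferInstance, ?_, ?_⟩
  · constructor
    intro Q1 Q2
    obtain ⟨g, hg⟩ := MulAction.exists_smul_eq G Q1 Q2
    exact ⟨(MulAction.toPermHom G (Sylow 7 G)).rangeRestrict g, by rw [hsmul, hg]⟩
  · ext Q
    rw [Set.mem_singleton_iff]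
    constructor
    · intro hQ
      have h1 : Q ∈ MulAction.fixedPoints (P : Subgroup G) (Sylow 7 G) := by
        intro x
        have hx : (MulAction.toPermHom G (Sylow 7 G)).rangeRestrict x.1 ∈
            ((P.mapSurjective hf : Sylow 7 _) : Subgroup _) := by
          rw [Sylow.coe_mapSurjective]
          exact Subgroup.mem_map_of_mem _ x.2
        have := hQ ⟨_, hx⟩
        exact this
      have h2 : (P : Subgroup G) ≤ Q := (P.2.sylow_mem_fixedPoints_iff).mp h1
      exact Sylow.ext (P.is_maximal' Q.2 h2)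
    · rintro rfl
      rintro ⟨σ, hσ⟩
      rw [Sylow.coe_mapSurjective] at hσ
      obtain ⟨x, hx, rfl⟩ := hσ
      show ((MulAction.toPermHom G (Sylow 7 G)).rangeRestrict x) • Q = Q
      rw [hsmul]
      exact Sylow.smul_eq_iff_mem_normalizer.mpr (Subgroup.le_normalizer hx)
  · intro σ hσ
    obtain ⟨g, rfl⟩ := hf σ
    rw [MulAction.mem_stabilizer_iff, hsmul, Sylow.smul_eq_iff_mem_normalizer] at hσ
    rw [Sylow.coe_mapSurjective]
    exact Subgroup.le_normalizer_map _ (Subgroup.mem_map_of_mem _ hσ)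

end Cfsg.Agent.S4304
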