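import Cfsg.Statements.S4305
import Cfsg.Agent.Lib.Helper1.FrobPQ.Assemble
import Cfsg.Agent.Lib.Helper13.FrobElQuotD
import Cfsg.Agent.Lib.Helper19.S3Wrap
import Cfsg.Agent.Lib.Helper20.FrobTower
import Cfsg.Agent.Lib.Helper25.FrobTower2

set_option autoImplicit false
open Cfsg

namespace Cfsg.Agent.S4305

open Cfsg.Agent.Lib.Helper1.FrobPQ

universe u

theorem towerBridge : TowerBridgeProp.{u} :=
  fun _ _ _ _ _ _ _ _ hG hmain hexc _ _ _ hℓ hs hr hℓs hsr _ _ hSG hRG hS hR hAS hAR hRS =>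
    Cfsg.Agent.Lib.Helper20.FrobBridge.GoodF.tower hG hmain hexc hℓ hs hr hℓs hsr hSG hRG hS hR hAS
      hAR hRS

theorem tower2Bridge : Tower2BridgeProp.{u} :=
  fun _ _ _ _ _ _ hG hcore _ _ hℓ hr hℓr _ hRG hR hAR =>
    Cfsg.Agent.Lib.Helper25.FrobTower2.GoodF.tower2 hG hcore hℓ hr hℓr hRG hR hAR

/-- Let the symmetric group of degree 3 act by automorphisms on a finite solvable group `G` of order prime to 6, so that only the identity of `G` is fixed by all of it. Then the derived subgroup of `G` is nilpotent. -/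
theorem result {G : Type*} [Group G] [Finite G] [Group.IsSolvable G]
    [MulDistribMulAction (Equiv.Perm (Fin 3)) G] (hcop : (Nat.card G).Coprime 6)
    (hfpf : ∀ g : G, (∀ a : Equiv.Perm (Fin 3), a • g = g) → g = 1) :
    Group.IsNilpotent ↥(commutator G) :=
  Cfsg.Agent.Lib.Helper19.S3Wrap.s3_wrapper
    (fun _ _ _ A F G hG =>
      goodF32_main towerBridge tower2Bridge Cfsg.Agent.Lib.Helper13.FrobElQuot.elQuotProp A F G hG)
    hcop hfpf

end Cfsg.Agent.S4305
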