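import Cfsg.Statements.S4320
import Mathlib

set_option autoImplicit false
open Cfsg

namespace Cfsg.Agent.S4320

open scoped BigOperators commutatorElement

section helpers


theorem det_smul_eq_zero {R M ι : Type*} [CommRing R] [AddCommGroup M] [Module R M] [Fintype ι]
    [DecidableEq ι] (B : Matrix ι ι R) (y : ι → M) (h : ∀ j, ∑ k, B j k • y k = 0) (k : ι) :
    B.det • y k = 0 := by
  have h1 : ∀ k', (B.adjugate * B) k k' = if k = k' then B.det else 0 := by
    intro k'
    rw [Matrix.adjugate_mul, Matrix.smul_apply, Matrix.one_apply, smul_eq_mul]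
    split_ifs <;> simp
  have h2 : ∑ k', (B.adjugate * B) k k' • y k' = B.det • y k := by
    simp_rw [h1, ite_smul, zero_smul]
    rw [Finset.sum_ite_eq]
    simp
  rw [← h2]
  simp_rw [Matrix.mul_apply, Finset.sum_smul, mul_smul]
  rw [Finset.sum_comm]
  simp_rw [← Finset.smul_sum, h, smul_zero]
  simp

variable {Q : Type*} [CommGroup Q]

/-- augmentation -/
noncomputable def aug : MonoidAlgebra ℤ Q →+* ℤ :=
  (MonoidAlgebra.lift ℤ ℤ Q (1 : Q →* ℤ)).toRingHom

theorem aug_of (q : Q) : aug (MonoidAlgebra.of ℤ Q q) = 1 := by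
  simp [aug]

theorem of_sub_one_mem (q : Q) : MonoidAlgebra.of ℤ Q q - 1 ∈ RingHom.ker (aug (Q := Q)) := by
  rw [RingHom.mem_ker, map_sub, aug_of, map_one, sub_self]

theorem aug_eq_sum [Fintype Q] (μ : MonoidAlgebra ℤ Q) : aug μ = ∑ q, μ.coeff q := by
  change (MonoidAlgebra.lift ℤ ℤ Q (1 : Q →* ℤ)) μ = _
  rw [MonoidAlgebra.lift_apply, Finsupp.sum_fintype]
  · simp
  · simp

/-- norm element -/
noncomputable def normElt [Fintype Q] : MonoidAlgebra ℤ Q := ∑ q, MonoidAlgebra.of ℤ Q q

theorem eq_norm_of_fixed [Fintype Q] (μ : MonoidAlgebra ℤ Q)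
    (h : ∀ q, μ * MonoidAlgebra.of ℤ Q q = μ) (hε : aug μ = Fintype.card Q) : μ = normElt := by
  classical
  have h1 : ∀ p, μ.coeff p = μ.coeff 1 := by
    intro p
    have := congrArg (fun x : MonoidAlgebra ℤ Q => x.coeff 1) (h p⁻¹)
    simp only [MonoidAlgebra.of_apply, MonoidAlgebra.coeff_mul_single_apply, inv_inv, one_mul,
      mul_one] at this
    exact this
  have h2 : μ.coeff 1 = 1 := by
    rw [aug_eq_sum] at hε
    simp_rw [h1] at hε
    rw [Finset.sum_const, Finset.card_univ, nsmul_eq_mul] at hε
    have hc : (Fintype.card Q : ℤ) ≠ 0 := by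
      exact_mod_cast Fintype.card_ne_zero
    exact mul_left_cancel₀ hc (by rw [hε, mul_one])
  ext p
  rw [h1, h2, normElt, MonoidAlgebra.coeff_sum, Finsupp.finsetSum_apply]
  simp only [MonoidAlgebra.of_apply, MonoidAlgebra.coeff_single]
  rw [Finset.sum_eq_single p]
  · simp
  · intro b _ hb
    exact Finsupp.single_eq_of_ne (Ne.symm hb)
  · intro hp
    exact absurd (Finset.mem_univ p) hp



theorem zmod_gen_pow (n : ℕ) : (Multiplicative.ofAdd (1 : ZMod n)) ^ n = 1 := by
  rw [← ofAdd_nsmul, nsmul_eq_mul, mul_one, ZMod.natCast_self, ofAdd_zero]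

theorem exists_cyclic_gens (Q : Type*) [CommGroup Q] [Finite Q] :
    ∃ (ι : Type) (_ : Fintype ι) (n : ι → ℕ) (s : ι → Q),
      (∀ i, s i ^ n i = 1) ∧ Subgroup.closure (Set.range s) = ⊤ ∧ ∏ i, n i = Nat.card Q := by
  classical
  obtain ⟨ι, hι, n, hn, ⟨φ⟩⟩ := CommGroup.equiv_prod_multiplicative_zmod_of_finite Q
  refine ⟨ι, hι, n, fun i => φ.symm (Pi.mulSingle i (Multiplicative.ofAdd 1)), ?_, ?_, ?_⟩
  · intro i
    rw [← map_pow, ← Pi.mulSingle_pow, zmod_gen_pow, Pi.mulSingle_one, map_one]
  · rw [eq_top_iff]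
    intro x _
    have hx : x = φ.symm (∏ i, Pi.mulSingle i (φ x i)) := by
      rw [Finset.univ_prod_mulSingle, MulEquiv.symm_apply_apply]
    rw [hx, map_prod]
    refine Subgroup.prod_mem _ fun i _ => ?_
    have : NeZero (n i) := ⟨by have := hn i; omega⟩
    have h1 : φ x i = (Multiplicative.ofAdd (1 : ZMod (n i))) ^ (Multiplicative.toAdd (φ x i)).val := by
      rw [← ofAdd_nsmul, nsmul_eq_mul, mul_one, ZMod.natCast_zmod_val, ofAdd_toAdd]
    rw [h1, Pi.mulSingle_pow, map_pow]
    exact Subgroup.pow_mem _ (Subgroup.subset_closure (Set.mem_range_self i)) _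
  · rw [Nat.card_congr φ.toEquiv, Nat.card_pi]
    refine Finset.prod_congr rfl fun i _ => ?_
    rw [Nat.card_congr Multiplicative.toAdd, Nat.card_zmod]



/-- functions `Q → C` as a `ℤ[Q]`-module by translation -/
def BMod (Q C : Type*) := Q → C

variable {Q C : Type*} [CommGroup Q] [AddCommGroup C]

instance : AddCommGroup (BMod Q C) := inferInstanceAs (AddCommGroup (Q → C))

/-- translation -/
def transl (q : Q) : Module.End ℤ (BMod Q C) where
  toFun f := fun p => f (q⁻¹ * p)
  map_add' _ _ := rfl
  map_smul' _ _ := rfl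

theorem transl_apply (q : Q) (f : BMod Q C) (p : Q) : transl q f p = f (q⁻¹ * p) := rfl

def translHom : Q →* Module.End ℤ (BMod Q C) where
  toFun := transl
  map_one' := LinearMap.ext fun f => funext fun p => by
    rw [transl_apply]; simp
  map_mul' a b := LinearMap.ext fun f => funext fun p => by
    rw [Module.End.mul_apply, transl_apply, transl_apply, transl_apply, mul_inv_rev, mul_assoc]

noncomputable instance : Module (MonoidAlgebra ℤ Q) (BMod Q C) :=
  Module.compHom _ (MonoidAlgebra.lift ℤ (Module.End ℤ (BMod Q C)) Q translHom).toRingHom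

theorem of_smul (q : Q) (f : BMod Q C) (p : Q) :
    (MonoidAlgebra.of ℤ Q q • f) p = f (q⁻¹ * p) := by
  change (MonoidAlgebra.lift ℤ (Module.End ℤ (BMod Q C)) Q translHom (MonoidAlgebra.of ℤ Q q)) f p = _
  rw [MonoidAlgebra.lift_of]
  rfl

variable {G : Type*} [Group G]

/-- coset representative -/
noncomputable def rep (q : Abelianization G) : G := Quotient.out q

theorem rep_spec (q : Abelianization G) : Abelianization.of (rep q) = q :=
  QuotientGroup.out_eq' q

theorem mem_comm_iff (x : G) : x ∈ commutator G ↔ Abelianization.of x = 1 :=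
  (QuotientGroup.eq_one_iff x).symm

theorem fmem (g : G) (q : Abelianization G) :
    (rep q)⁻¹ * g * rep ((Abelianization.of g)⁻¹ * q) ∈ commutator G := by
  rw [mem_comm_iff, map_mul, map_mul, map_inv, rep_spec, rep_spec]
  group

theorem smul_eq_of_mul (g : G) (q : G ⧸ commutator G) :
    g • q = ((Abelianization.of g * (show Abelianization G from q) : Abelianization G)) := by
  induction q using QuotientGroup.induction_on with
  | H x => rfl

theorem transfer_formula [Finite G] {A : Type*} [CommGroup A] (ϕ : ↥(commutator G) →* A) (g : G)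
    [inst : Fintype (Abelianization G)] :
    MonoidHom.transfer ϕ g =
      ∏ q : Abelianization G, ϕ ⟨(rep q)⁻¹ * g * rep ((Abelianization.of g)⁻¹ * q), fmem g q⟩ := by
  classical
  rw [MonoidHom.transfer_def ϕ (default : (commutator G).LeftTransversal) g]
  unfold Subgroup.leftTransversals.diff
  simp only
  rw [show (commutator G).fintypeQuotientOfFiniteIndex = (inst : Fintype (G ⧸ commutator G)) from
    Subsingleton.elim _ _]
  refine Finset.prod_congr rfl ?_
  intro q _
  congr 1
  rw [Subtype.mk.injEq, Subgroup.smul_apply_eq_smul_apply_inv_smul, smul_eq_mul, mul_assoc]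
  have h1 : ∀ q : G ⧸ commutator G,
      (((default : (commutator G).LeftTransversal).2.leftQuotientEquiv q : G)) = Quotient.out q := by
    intro q
    exact Subgroup.IsComplement.leftQuotientEquiv_apply (Quotient.out_eq') q
  rw [h1, h1, smul_eq_of_mul, map_inv]
  rfl


/-- coordinates of the derivation -/
noncomputable def fcoord (g : G) (q : Abelianization G) :
    Additive (Abelianization ↥(commutator G)) :=
  Additive.ofMul (Abelianization.of
    ⟨(rep q)⁻¹ * g * rep ((Abelianization.of g)⁻¹ * q), fmem g q⟩)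

theorem fcoord_mul (g h : G) (q : Abelianization G) :
    fcoord (g * h) q = fcoord g q + fcoord h ((Abelianization.of g)⁻¹ * q) := by
  unfold fcoord
  rw [← ofMul_mul, ← map_mul]
  congr 2
  rw [Subtype.ext_iff]
  simp only [Subgroup.coe_mul, map_mul, mul_inv_rev]
  rw [mul_assoc ((Abelianization.of h)⁻¹)]
  group

/-- the derivation -/
noncomputable def dd (g : G) :
    BMod (Abelianization G) (Additive (Abelianization ↥(commutator G))) ×
      MonoidAlgebra ℤ (Abelianization G) :=
  ((fun q => fcoord g q : BMod _ _), MonoidAlgebra.of ℤ _ (Abelianization.of g) - 1)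

theorem dd_fst (g : G) (q : Abelianization G) : (dd g).1 q = fcoord g q := rfl

theorem dd_snd (g : G) : (dd g).2 = MonoidAlgebra.of ℤ _ (Abelianization.of g) - 1 := rfl

theorem dd_mul (g h : G) :
    dd (g * h) = dd g + MonoidAlgebra.of ℤ _ (Abelianization.of g) • dd h := by
  refine Prod.ext ?_ ?_
  · rw [Prod.fst_add, Prod.smul_fst]
    funext q
    change (dd (g * h)).1 q = (dd g).1 q + (MonoidAlgebra.of ℤ _ (Abelianization.of g) • (dd h).1) q
    rw [of_smul, dd_fst, dd_fst, dd_fst, fcoord_mul]
  · rw [Prod.snd_add, Prod.smul_snd, dd_snd, dd_snd, dd_snd, map_mul, map_mul, smul_eq_mul]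
    ring

theorem dd_one : dd (1 : G) = 0 := by
  have h := dd_mul (1 : G) 1
  rw [mul_one, map_one, map_one, one_smul] at h
  exact left_eq_add.mp h

theorem dd_inv (g : G) :
    dd g⁻¹ = - (MonoidAlgebra.of ℤ _ (Abelianization.of g⁻¹) • dd g) := by
  have h := dd_mul g⁻¹ g
  rw [inv_mul_cancel, dd_one] at h
  exact eq_neg_of_add_eq_zero_left h.symm


theorem normElt_smul_apply {Q C : Type*} [CommGroup Q] [AddCommGroup C] [Fintype Q]
    (f : BMod Q C) (p : Q) : ((normElt : MonoidAlgebra ℤ Q) • f) p = ∑ q, f q := by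
  let ev : BMod Q C →+ C := { toFun := fun f => f p, map_zero' := rfl, map_add' := fun _ _ => rfl }
  change ev ((normElt : MonoidAlgebra ℤ Q) • f) = _
  rw [show (normElt : MonoidAlgebra ℤ Q) = ∑ q, MonoidAlgebra.of ℤ Q q from rfl, Finset.sum_smul, map_sum]
  change ∑ q, (MonoidAlgebra.of ℤ Q q • f) p = _
  simp_rw [of_smul]
  exact Fintype.sum_equiv ((Equiv.inv Q).trans (Equiv.mulRight p)) _ _ (fun q => rfl)


variable (G) in
/-- the augmentation ideal of `ℤ[G/G']` -/
noncomputable abbrev augI : Ideal (MonoidAlgebra ℤ (Abelianization G)) :=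
  RingHom.ker (aug (Q := Abelianization G))

theorem dd_comm (g h : G) :
    dd ⁅g, h⁆ = (MonoidAlgebra.of ℤ _ (Abelianization.of g) - 1) • dd h -
      (MonoidAlgebra.of ℤ _ (Abelianization.of h) - 1) • dd g := by
  have h1 := dd_mul ⁅g, h⁆ (h * g)
  have h2 : ⁅g, h⁆ * (h * g) = g * h := by
    rw [commutatorElement_def]; group
  have h3 : Abelianization.of ⁅g, h⁆ = 1 := by
    rw [← mem_comm_iff]
    exact Subgroup.commutator_mem_commutator (Subgroup.mem_top g) (Subgroup.mem_top h)
  rw [h2, h3, map_one, one_smul, dd_mul, dd_mul] at h1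
  rw [sub_smul, sub_smul, one_smul, one_smul]
  have h4 : dd ⁅g, h⁆ = dd g + MonoidAlgebra.of ℤ _ (Abelianization.of g) • dd h -
      (dd h + MonoidAlgebra.of ℤ _ (Abelianization.of h) • dd g) :=
    eq_sub_of_add_eq h1.symm
  rw [h4]
  abel

theorem dd_mem_smul_of_mem_commutator
    (D : Submodule (MonoidAlgebra ℤ (Abelianization G)) (BMod (Abelianization G)
      (Additive (Abelianization ↥(commutator G))) × MonoidAlgebra ℤ (Abelianization G)))
    (hD : ∀ x : G, dd x ∈ D) {a : G} (ha : a ∈ commutator G) : dd a ∈ augI G • D := by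
  rw [commutator_eq_closure G] at ha
  induction ha using Subgroup.closure_induction with
  | mem x hx =>
    obtain ⟨g, h, rfl⟩ := hx
    rw [dd_comm]
    exact Submodule.sub_mem _ (Submodule.smul_mem_smul (of_sub_one_mem _) (hD h))
      (Submodule.smul_mem_smul (of_sub_one_mem _) (hD g))
  | one => rw [dd_one]; exact Submodule.zero_mem _
  | mul x y _ _ hx hy =>
    rw [dd_mul]
    exact Submodule.add_mem _ hx (Submodule.smul_mem _ _ hy)
  | inv x _ hx =>
    rw [dd_inv]
    exact Submodule.neg_mem _ (Submodule.smul_mem _ _ hx)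

theorem dd_pow_sub
    (D : Submodule (MonoidAlgebra ℤ (Abelianization G)) (BMod (Abelianization G)
      (Additive (Abelianization ↥(commutator G))) × MonoidAlgebra ℤ (Abelianization G)))
    (hD : ∀ x : G, dd x ∈ D) (x : G) (k : ℕ) :
    dd (x ^ k) - (k : MonoidAlgebra ℤ (Abelianization G)) • dd x ∈ augI G • D := by
  induction k with
  | zero => simp [dd_one]
  | succ k ih =>
    rw [pow_succ', dd_mul]
    have h1 : dd x + MonoidAlgebra.of ℤ _ (Abelianization.of x) • dd (x ^ k) -
        ((k + 1 : ℕ) : MonoidAlgebra ℤ (Abelianization G)) • dd x =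
        (dd (x ^ k) - (k : MonoidAlgebra ℤ (Abelianization G)) • dd x) +
        (MonoidAlgebra.of ℤ _ (Abelianization.of x) - 1) • dd (x ^ k) := by
      rw [Nat.cast_add, Nat.cast_one, add_smul, one_smul, sub_smul, one_smul]
      abel
    rw [h1]
    exact Submodule.add_mem _ ih (Submodule.smul_mem_smul (of_sub_one_mem _) (hD _))


theorem transfer_trivial [Finite G] (g : G) :
    MonoidHom.transfer
      (Abelianization.of : ↥(commutator G) →* Abelianization ↥(commutator G)) g = 1 := by
  classical
  have : Fintype (Abelianization G) := Fintype.ofFinite _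
  have : Fintype ↥(commutator G) := Fintype.ofFinite _
  obtain ⟨ι₀, hι₀, n, s, hs, hgen, hcard⟩ := exists_cyclic_gens (Abelianization G)
  let y : ι₀ ⊕ ↥(commutator G) → BMod (Abelianization G)
      (Additive (Abelianization ↥(commutator G))) × MonoidAlgebra ℤ (Abelianization G) :=
    Sum.elim (fun i => dd (rep (s i))) (fun a => dd (a : G))
  let NN : ι₀ ⊕ ↥(commutator G) → ℕ := Sum.elim n (fun _ => 1)
  let D : Submodule (MonoidAlgebra ℤ (Abelianization G)) (BMod (Abelianization G)
      (Additive (Abelianization ↥(commutator G))) × MonoidAlgebra ℤ (Abelianization G)) :=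
    Submodule.span _ (Set.range y)
  -- every `dd x` lies in `D`
  have hD : ∀ x : G, dd x ∈ D := by
    let S₁ : Subgroup G :=
      { carrier := {x | dd x ∈ D}
        mul_mem' := fun {a b} ha hb => by
          change dd (a * b) ∈ D
          rw [dd_mul]
          exact Submodule.add_mem _ ha (Submodule.smul_mem _ _ hb)
        one_mem' := by
          change dd (1 : G) ∈ D
          rw [dd_one]; exact Submodule.zero_mem _
        inv_mem' := fun {a} ha => by
          change dd a⁻¹ ∈ D
          rw [dd_inv]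
          exact Submodule.neg_mem _ (Submodule.smul_mem _ _ ha) }
    have hc : commutator G ≤ S₁ := fun a ha =>
      Submodule.subset_span ⟨Sum.inr ⟨a, ha⟩, rfl⟩
    have hg : ∀ i, rep (s i) ∈ S₁ := fun i => Submodule.subset_span ⟨Sum.inl i, rfl⟩
    have hmap : Subgroup.map Abelianization.of S₁ = ⊤ := by
      rw [eq_top_iff, ← hgen, Subgroup.closure_le]
      rintro _ ⟨i, rfl⟩
      exact ⟨rep (s i), hg i, rep_spec _⟩
    intro x
    have hx : Abelianization.of x ∈ Subgroup.map Abelianization.of S₁ := hmap ▸ Subgroup.mem_top _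
    obtain ⟨k, hk, hkx⟩ := hx
    have hk2 : k⁻¹ * x ∈ commutator G := by
      rw [mem_comm_iff, map_mul, map_inv, hkx, inv_mul_cancel]
    have hx2 : x = k * (k⁻¹ * x) := by group
    have : x ∈ S₁ := by
      rw [hx2]; exact S₁.mul_mem hk (hc hk2)
    exact this
  -- relations
  have hrel : ∀ j, (NN j : MonoidAlgebra ℤ (Abelianization G)) • y j ∈ augI G • D := by
    rintro (i | a)
    · have h1 := dd_pow_sub D hD (rep (s i)) (n i)
      have h2 : rep (s i) ^ n i ∈ commutator G := by
        rw [mem_comm_iff, map_pow, rep_spec, hs]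
      have h3 := dd_mem_smul_of_mem_commutator D hD h2
      have h4 := Submodule.sub_mem _ h3 h1
      rw [sub_sub_cancel] at h4
      exact h4
    · change ((1 : ℕ) : MonoidAlgebra ℤ (Abelianization G)) • dd (a : G) ∈ augI G • D
      rw [Nat.cast_one, one_smul]
      exact dd_mem_smul_of_mem_commutator D hD a.2
  have hν : ∀ j, ∃ a : (ι₀ ⊕ ↥(commutator G)) →₀ MonoidAlgebra ℤ (Abelianization G),
      (∀ k, a k ∈ augI G) ∧
        ∑ k, a k • y k = (NN j : MonoidAlgebra ℤ (Abelianization G)) • y j := by
    intro j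
    obtain ⟨a, ha, hsum⟩ := (Submodule.mem_ideal_smul_span_iff_exists_sum _ y _).mp (hrel j)
    refine ⟨a, ha, ?_⟩
    rw [← hsum, Finsupp.sum_fintype]
    intro i; exact zero_smul _ _
  choose ν hνI hνsum using hν
  let B : Matrix (ι₀ ⊕ ↥(commutator G)) (ι₀ ⊕ ↥(commutator G))
      (MonoidAlgebra ℤ (Abelianization G)) :=
    Matrix.of fun j k => (if j = k then (NN j : MonoidAlgebra ℤ (Abelianization G)) else 0) - ν j k
  have hB : ∀ j, ∑ k, B j k • y k = 0 := by
    intro j
    simp only [B, Matrix.of_apply, sub_smul, Finset.sum_sub_distrib, ite_smul, zero_smul,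
      Finset.sum_ite_eq, Finset.mem_univ, if_true, hνsum, sub_self]
  have hμ : ∀ k, B.det • y k = 0 := det_smul_eq_zero B y hB
  have hμD : ∀ v ∈ D, B.det • v = 0 := by
    intro v hv
    induction hv using Submodule.span_induction with
    | mem x hx =>
      obtain ⟨k, rfl⟩ := hx
      exact hμ k
    | zero => exact smul_zero _
    | add x y _ _ hx hy => rw [smul_add, hx, hy, add_zero]
    | smul a x _ hx => rw [smul_comm, hx, smul_zero]
  have haug : aug B.det = Fintype.card (Abelianization G) := by
    rw [RingHom.map_det]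
    have h1 : aug.mapMatrix B = Matrix.diagonal (fun j => (NN j : ℤ)) := by
      ext j k
      have h0 : aug (ν j k) = 0 := (hνI j k)
      simp only [B, RingHom.mapMatrix_apply, Matrix.map_apply, Matrix.of_apply, map_sub, h0,
        sub_zero, Matrix.diagonal_apply]
      split_ifs <;> simp
    rw [h1, Matrix.det_diagonal, Fintype.prod_sum_type]
    simp only [NN, Sum.elim_inl, Sum.elim_inr, Nat.cast_one, Finset.prod_const_one, mul_one]
    rw [← Nat.cast_prod, hcard, Nat.card_eq_fintype_card]
  have hfix : ∀ q : Abelianization G, B.det * MonoidAlgebra.of ℤ _ q = B.det := by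
    intro q
    have h1 := hμD _ (hD (rep q))
    have h2 := congrArg Prod.snd h1
    rw [Prod.smul_snd, dd_snd, rep_spec, smul_eq_mul, mul_sub, mul_one] at h2
    exact sub_eq_zero.mp h2
  have hN : B.det = normElt := eq_norm_of_fixed _ hfix haug
  have h1 := hμD _ (hD g)
  rw [hN] at h1
  have h2 := congrFun (congrArg Prod.fst h1) 1
  rw [Prod.smul_fst, normElt_smul_apply] at h2
  simp_rw [dd_fst] at h2
  rw [transfer_formula]
  have h3 : (∏ q : Abelianization G, (Abelianization.of : ↥(commutator G) →* _)
      ⟨(rep q)⁻¹ * g * rep ((Abelianization.of g)⁻¹ * q), fmem g q⟩) =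
      Additive.toMul (∑ q, fcoord g q) := by
    rw [toMul_sum]
    rfl
  rw [h3, h2]
  rfl

end helpers


/-- The Principal Ideal Theorem of class field theory in its group-theoretic form: for every finite group `G`, the transfer homomorphism from `G` into the abelianization `G'/G''` of its derived subgroup `G'` is the trivial homomorphism. -/
theorem result {G : Type*} [Group G] [Finite G] :
    MonoidHom.transfer (Abelianization.of : ↥(commutator G) →* Abelianization ↥(commutator G)) =
      (1 : G →* Abelianization ↥(commutator G)) := by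
  ext g
  exact transfer_trivial g

end Cfsg.Agent.S4320
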