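import Cfsg.Statements.S4325
import Cfsg.Agent.Lib.helper23.SwapOrbit

set_option autoImplicit false
open Cfsg

namespace Cfsg.Agent.S4325

open Cfsg.Agent.Lib.helper23

/-- Let r be a prime and m a natural number with m + 1 < r, and let π be a set of primes containing every prime below r but not r itself. Then in the symmetric group of degree r any m transpositions generate a π-subgroup, while O_π of the symmetric group is trivial. (So no bound on the number of conjugates that works for all π exists in the π-radical analogue of the Baer–Suzuki Theorem.) -/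
theorem result (r m : ℕ) (hr : r.Prime)
    (hm : m + 1 < r) (π : Set ℕ) (hπ : ∀ q : ℕ, q.Prime → q < r → q ∈ π) (hrπ : r ∉ π)
    (t : Fin m → Equiv.Perm (Fin r)) (ht : ∀ i, (t i).IsSwap) :
    Cfsg.IsPiSubgroup π (Subgroup.closure (Set.range t)) ∧ Cfsg.piCore π (Equiv.Perm (Fin r)) = ⊥ := by
  constructor
  · intro q hq hqd
    apply hπ q hq
    by_contra hqr
    push Not at hqr
    haveI : Fact q.Prime := ⟨hq⟩
    set K := Subgroup.closure (Set.range t) with hK
    obtain ⟨k, hk⟩ := exists_prime_orderOf_dvd_card' q hqd
    have hk1 : k ≠ 1 := by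
      intro h
      rw [h, orderOf_one] at hk
      exact hq.one_lt.ne hk
    have hex : ∃ x : Fin r, k • x ≠ x := by
      by_contra hall
      push Not at hall
      apply hk1
      apply Subtype.ext
      apply Equiv.Perm.ext
      intro x
      exact hall x
    obtain ⟨x, hx⟩ := hex
    -- the stabilizer of x in zpowers k is trivial
    have hcardZ : Nat.card (Subgroup.zpowers k) = q := by rw [Nat.card_zpowers, hk]
    have hstab : MulAction.stabilizer (Subgroup.zpowers k) x = ⊥ := by
      have hfact : Fact (Nat.card (Subgroup.zpowers k)).Prime := ⟨by rw [hcardZ]; exact hq⟩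
      rcases Subgroup.eq_bot_or_eq_top_of_prime_card (MulAction.stabilizer (Subgroup.zpowers k) x) with h | h
      · exact h
      · exfalso
        have : (⟨k, Subgroup.mem_zpowers k⟩ : Subgroup.zpowers k) ∈ MulAction.stabilizer (Subgroup.zpowers k) x := by
          rw [h]; exact Subgroup.mem_top _
        rw [MulAction.mem_stabilizer_iff] at this
        exact hx this
    have hidx := MulAction.index_stabilizer (Subgroup.zpowers k) x
    rw [hstab, Subgroup.index_bot, hcardZ] at hidx
    have hsub : MulAction.orbit (Subgroup.zpowers k) x ⊆ MulAction.orbit K x := by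
      rintro y ⟨z, rfl⟩
      exact ⟨z.1, rfl⟩
    have hle : (MulAction.orbit (Subgroup.zpowers k) x).ncard ≤ (MulAction.orbit K x).ncard :=
      Set.ncard_le_ncard hsub (Set.toFinite _)
    have hbound : Nat.card (MulAction.orbit K x) ≤ m + 1 := card_orbit_closure_swaps_le t ht x
    rw [Nat.card_coe_set_eq] at hbound
    omega
  · rw [Cfsg.piCore, sSup_eq_bot]
    rintro N ⟨hN, hNπ⟩
    by_contra hNbot
    haveI := hN
    have hfix : MulAction.fixedPoints N (Fin r) ≠ Set.univ := by
      intro h
      apply hNbot
      rw [eq_bot_iff]
      intro n hn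
      rw [Subgroup.mem_bot]
      apply Equiv.Perm.ext
      intro x
      have hx : x ∈ MulAction.fixedPoints N (Fin r) := by rw [h]; exact Set.mem_univ x
      exact hx ⟨n, hn⟩
    haveI := MulAction.IsQuasiPreprimitive.isPretransitive_of_normal (G := Equiv.Perm (Fin r))
      (X := Fin r) (N := N) hfix
    haveI : NeZero r := ⟨hr.ne_zero⟩
    have hidx := MulAction.index_stabilizer_of_transitive N (0 : Fin r)
    rw [Nat.card_eq_fintype_card, Fintype.card_fin] at hidx
    have hdvd : r ∣ Nat.card N := by
      have h1 := Subgroup.index_dvd_card (MulAction.stabilizer N (0 : Fin r))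
      rw [hidx] at h1
      exact h1
    exact hrπ (hNπ r hr hdvd)

end Cfsg.Agent.S4325
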