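import Cfsg.Statements.S4326

set_option autoImplicit false
open Cfsg

namespace Cfsg.Agent.S4326

open scoped Pointwise

theorem mem_conj_smul {G : Type*} [Group G] (g : G) (M : Subgroup G) (y : G) :
    y ∈ MulAut.conj g • M ↔ g⁻¹ * y * g ∈ M := by
  rw [Subgroup.mem_pointwise_smul_iff_inv_smul_mem]
  simp [MulAut.smul_def]

theorem zpowers_fix {G : Type*} [Group G] (x : MulAut G) (M : Subgroup G)
    (hM : ∀ g : G, g ∈ M ↔ x g = g) (z : MulAut G) (hz : z ∈ Subgroup.zpowers x) (m : G)
    (hm : m ∈ M) : z m = m := by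
  have hx : x ∈ MulAction.stabilizer (MulAut G) m := by
    rw [MulAction.mem_stabilizer_iff]
    exact (hM m).mp hm
  have : z ∈ MulAction.stabilizer (MulAut G) m :=
    (Subgroup.zpowers_le.mpr hx) hz
  rw [MulAction.mem_stabilizer_iff] at this
  exact this

theorem quotAct {G : Type*} [Group G] (x : MulAut G) (M : Subgroup G)
    (hM : ∀ g : G, g ∈ M ↔ x g = g) :
    MulAction.QuotientAction (Subgroup.zpowers x) M := by
  constructor
  intro b a a' h
  have h1 : (b • a)⁻¹ * b • a' = (b : MulAut G) (a⁻¹ * a') := by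
    show ((b : MulAut G) a)⁻¹ * (b : MulAut G) a' = _
    rw [map_mul, map_inv]
  rw [h1, zpowers_fix x M hM b b.2 _ h]
  exact h

/-- Let G be a finite group, p a prime, x an automorphism of G of p-power order and M the subgroup of fixed points of x. Suppose that p divides the index of M and that either M is self-normalizing or M has trivial center. Then some conjugate of M is mapped onto itself by x but is not fixed elementwise by x. -/
theorem result {G : Type*} [Group G] [Finite G]
    (p : ℕ) [Fact p.Prime] (x : MulAut G) (hx : ∃ k : ℕ, orderOf x = p ^ k) (M : Subgroup G)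
    (hM : ∀ g : G, g ∈ M ↔ x g = g) (hp : p ∣ M.index)
    (hself : Subgroup.normalizer (M : Set G) = M ∨ Subgroup.center M = ⊥) :
    ∃ g : G, (∀ y ∈ MulAut.conj g • M, x y ∈ MulAut.conj g • M) ∧ ∃ y ∈ MulAut.conj g • M, x y ≠ y := by
  obtain ⟨k, hk⟩ := hx
  have hZ : IsPGroup p (Subgroup.zpowers x) := by
    rw [IsPGroup.iff_card]
    exact ⟨k, by rw [Nat.card_zpowers, hk]⟩
  haveI := quotAct x M hM
  have hcount := hZ.card_modEq_card_fixedPoints (G ⧸ M)
  have hdvd : p ∣ Nat.card (MulAction.fixedPoints (Subgroup.zpowers x) (G ⧸ M)) := by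
    have h0 : Nat.card (G ⧸ M) ≡ 0 [MOD p] := (Nat.modEq_zero_iff_dvd).mpr hp
    exact (Nat.modEq_zero_iff_dvd).mp (hcount.symm.trans h0)
  have h1mem : ((1 : G) : G ⧸ M) ∈ MulAction.fixedPoints (Subgroup.zpowers x) (G ⧸ M) := by
    intro z
    rw [MulAction.Quotient.smul_coe]
    congr 1
    exact map_one (z : MulAut G)
  have hcard : 1 < Nat.card (MulAction.fixedPoints (Subgroup.zpowers x) (G ⧸ M)) := by
    have hpos : 0 < Nat.card (MulAction.fixedPoints (Subgroup.zpowers x) (G ⧸ M)) := by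
      haveI : Nonempty (MulAction.fixedPoints (Subgroup.zpowers x) (G ⧸ M)) := ⟨⟨_, h1mem⟩⟩
      exact Nat.card_pos
    have := Nat.le_of_dvd hpos hdvd
    have h2 : 2 ≤ p := (Fact.out : p.Prime).two_le
    omega
  rw [Finite.one_lt_card_iff_nontrivial] at hcard
  obtain ⟨q, hq⟩ := exists_ne (⟨_, h1mem⟩ : MulAction.fixedPoints (Subgroup.zpowers x) (G ⧸ M))
  obtain ⟨q, hqfix⟩ := q
  obtain ⟨g, rfl⟩ := QuotientGroup.mk_surjective q
  have hgM : g ∉ M := by
    intro hg
    apply hq
    apply Subtype.ext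
    show (g : G ⧸ M) = ((1 : G) : G ⧸ M)
    rw [QuotientGroup.eq]
    simpa using hg
  have hm' : g⁻¹ * x g ∈ M := by
    have := hqfix ⟨x, Subgroup.mem_zpowers x⟩
    rw [MulAction.Quotient.smul_coe] at this
    have h2 : (((x g : G)) : G ⧸ M) = (g : G ⧸ M) := this
    rw [QuotientGroup.eq] at h2
    have e : g⁻¹ * x g = ((x g)⁻¹ * g)⁻¹ := by group
    rw [e]
    exact M.inv_mem h2
  have hxconj : ∀ m ∈ M, x (g * m * g⁻¹) = g * ((g⁻¹ * x g) * m * (g⁻¹ * x g)⁻¹) * g⁻¹ := by
    intro m hm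
    rw [map_mul, map_mul, map_inv, (hM m).mp hm]
    group
  refine ⟨g, ?_, ?_⟩
  · intro y hy
    rw [mem_conj_smul] at hy ⊢
    have hy' : y = g * (g⁻¹ * y * g) * g⁻¹ := by group
    rw [hy', hxconj _ hy]
    have e : g⁻¹ * (g * ((g⁻¹ * x g) * (g⁻¹ * y * g) * (g⁻¹ * x g)⁻¹) * g⁻¹) * g =
        (g⁻¹ * x g) * (g⁻¹ * y * g) * (g⁻¹ * x g)⁻¹ := by group
    rw [e]
    exact M.mul_mem (M.mul_mem hm' hy) (M.inv_mem hm')
  · by_contra hcon
    push Not at hcon
    have hall : ∀ m ∈ M, (g⁻¹ * x g) * m = m * (g⁻¹ * x g) := by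
      intro m hm
      have hmem : g * m * g⁻¹ ∈ MulAut.conj g • M := by
        rw [mem_conj_smul]
        have e : g⁻¹ * (g * m * g⁻¹) * g = m := by group
        rw [e]; exact hm
      have h1 := hcon _ hmem
      rw [hxconj m hm] at h1
      have h2 : (g⁻¹ * x g) * m * (g⁻¹ * x g)⁻¹ = m := by
        have := congrArg (fun z => g⁻¹ * z * g) h1
        have e1 : g⁻¹ * (g * ((g⁻¹ * x g) * m * (g⁻¹ * x g)⁻¹) * g⁻¹) * g =
            (g⁻¹ * x g) * m * (g⁻¹ * x g)⁻¹ := by group
        have e2 : g⁻¹ * (g * m * g⁻¹) * g = m := by group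
        change g⁻¹ * (g * ((g⁻¹ * x g) * m * (g⁻¹ * x g)⁻¹) * g⁻¹) * g = g⁻¹ * (g * m * g⁻¹) * g at this
        rw [e1, e2] at this
        exact this
      calc (g⁻¹ * x g) * m = ((g⁻¹ * x g) * m * (g⁻¹ * x g)⁻¹) * (g⁻¹ * x g) := by group
        _ = m * (g⁻¹ * x g) := by rw [h2]
    rcases hself with hN | hC
    · apply hgM
      rw [← hN, Subgroup.mem_normalizer_iff]
      have hle : MulAut.conj g • M ≤ M := by
        intro y hy
        rw [hM]
        exact hcon y hy
      have hcardeq : Nat.card (MulAut.conj g • M : Subgroup G) = Nat.card M := by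
        exact Nat.card_congr (Subgroup.equivSMul (MulAut.conj g) M).symm.toEquiv
      have heq : MulAut.conj g • M = M :=
        Subgroup.eq_of_le_of_card_ge hle (le_of_eq hcardeq.symm)
      intro h
      constructor
      · intro hh
        rw [← heq, mem_conj_smul]
        have e : g⁻¹ * (g * h * g⁻¹) * g = h := by group
        rw [e]; exact hh
      · intro hh
        rw [← heq, mem_conj_smul] at hh
        have e : g⁻¹ * (g * h * g⁻¹) * g = h := by group
        rwa [e] at hh
    · have hcen : (⟨g⁻¹ * x g, hm'⟩ : M) ∈ Subgroup.center M := by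
        rw [Subgroup.mem_center_iff]
        intro m
        apply Subtype.ext
        exact (hall m m.2).symm
      rw [hC, Subgroup.mem_bot] at hcen
      have h1 : g⁻¹ * x g = 1 := congrArg Subtype.val hcen
      apply hgM
      rw [hM]
      have : x g = g * (g⁻¹ * x g) := by group
      rw [this, h1, mul_one]

end Cfsg.Agent.S4326
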