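import Cfsg.Statements.S4331
import Cfsg.Agent.Lib.Helper18.AGammaL19

set_option autoImplicit false
open Cfsg

namespace Cfsg.Agent.S4331

theorem result :
    ∃ (G : Type) (_ : Group G) (_ : Finite G) (A : Subgroup G), Group.IsSolvable G ∧ Nat.card A = 2 ∧
      (∀ c : G, ∃ g : G, IsConj c g ∧ (A.subgroupOf (A ⊔ Subgroup.zpowers g)).IsSubnormal) ∧
      ¬ A ≤ Cfsg.pCore 2 G := by
  exact Cfsg.Agent.Lib.Helper18.AGL19.example_main

end Cfsg.Agent.S4331
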