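import Cfsg.Statements.S4332
import Cfsg.Agent.Lib.helper23.ThreeSubset

set_option autoImplicit false
open Cfsg

namespace Cfsg.Agent.S4332

open Cfsg.Agent.Lib.helper23
open scoped Pointwise

theorem conj_smul_zpowers {G : Type*} [Group G] (g x : G) :
    MulAut.conj g • Subgroup.zpowers x = Subgroup.zpowers (g * x * g⁻¹) := by
  show Subgroup.map (MulAut.conj g).toMonoidHom (Subgroup.zpowers x) = _
  rw [MonoidHom.map_zpowers]
  rfl

/-- In the symmetric group of degree 8, let A be the subgroup generated by a 3-cycle. Then every conjugacy class contains an element g for which A is subnormal in the subgroup generated by A and its conjugate by g, although O_3 of the symmetric group of degree 8 is trivial. -/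
theorem result
    (σ : Equiv.Perm (Fin 8)) (hσ : σ.IsThreeCycle) :
    (∀ c : Equiv.Perm (Fin 8), ∃ g : Equiv.Perm (Fin 8), IsConj c g ∧
      ((Subgroup.zpowers σ).subgroupOf (Subgroup.zpowers σ ⊔ MulAut.conj g • Subgroup.zpowers σ)).IsSubnormal) ∧
    Cfsg.pCore 3 (Equiv.Perm (Fin 8)) = ⊥ := by
  classical
  constructor
  · intro c
    obtain ⟨T, hT3, hT⟩ := exists_three_subset c
    set S := σ.support with hS
    have hS3 : S.card = 3 := hσ.card_support
    let e : {x // x ∈ T} ≃ {x // x ∈ S} := Finset.equivOfCardEq (hT3.trans hS3.symm)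
    let τ : Equiv.Perm (Fin 8) := e.extendSubtype
    have hτ : ∀ x, τ x ∈ S ↔ x ∈ T := by
      intro x
      constructor
      · intro h
        by_contra hx
        exact e.extendSubtype_not_mem x hx h
      · intro h
        exact e.extendSubtype_mem x h
    set g : Equiv.Perm (Fin 8) := τ * c * τ⁻¹ with hg
    have hconj : IsConj c g := isConj_iff.mpr ⟨τ, rfl⟩
    refine ⟨g, hconj, ?_⟩
    rw [conj_smul_zpowers]
    set σ' := g * σ * g⁻¹ with hσ'
    have hσ'3 : σ'.IsThreeCycle := by
      have : σ'.cycleType = σ.cycleType := Equiv.Perm.cycleType_conj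
      unfold Equiv.Perm.IsThreeCycle at hσ ⊢
      rw [this]; exact hσ
    have hsupp : σ'.support = S.map g.toEmbedding := Equiv.Perm.support_conj
    have hτinv : ∀ s, s ∈ S ↔ τ⁻¹ s ∈ T := by
      intro s
      rw [← hτ (τ⁻¹ s)]
      simp
    rcases hT with hT | hT
    · -- image c T = T
      have hsub : σ'.support ⊆ S := by
        rw [hsupp]
        intro y hy
        rw [Finset.mem_map] at hy
        obtain ⟨s, hs, rfl⟩ := hy
        show g s ∈ S
        rw [hg, Equiv.Perm.mul_apply, Equiv.Perm.mul_apply, hτ, ← hT]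
        exact Finset.mem_image_of_mem c ((hτinv s).mp hs)
      have heq : σ'.support = σ.support :=
        Finset.eq_of_subset_of_card_le hsub (by rw [hσ'3.card_support]; exact hS3.le)
      have hmem := threeCycle_mem_zpowers_of_support_eq hσ hσ'3 heq
      have hle : Subgroup.zpowers σ' ≤ Subgroup.zpowers σ := by
        rw [Subgroup.zpowers_le]; exact hmem
      rw [sup_eq_left.mpr hle, Subgroup.subgroupOf_self]
      exact Subgroup.normal_top.isSubnormal
    · -- disjoint
      have hdisj : Disjoint σ.support σ'.support := by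
        rw [Finset.disjoint_left]
        intro y hy hy'
        rw [hsupp, Finset.mem_map] at hy'
        obtain ⟨s, hs, rfl⟩ := hy'
        have h1 : τ⁻¹ s ∈ T := (hτinv s).mp hs
        have h2 : g s ∈ S := hy
        rw [hg, Equiv.Perm.mul_apply, Equiv.Perm.mul_apply, hτ] at h2
        exact (Finset.disjoint_left.mp hT) (Finset.mem_image_of_mem c h1) h2
      have hcomm : Commute σ σ' := (Equiv.Perm.disjoint_iff_disjoint_support.mpr hdisj).commute
      apply Subgroup.Normal.isSubnormal
      apply Subgroup.normal_subgroupOf_of_le_normalizer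
      apply sup_le Subgroup.le_normalizer
      rw [Subgroup.zpowers_le, Subgroup.mem_normalizer_iff]
      intro h
      have hc : ∀ h ∈ Subgroup.zpowers σ, σ' * h * σ'⁻¹ = h := by
        intro h hh
        obtain ⟨k, rfl⟩ := Subgroup.mem_zpowers_iff.mp hh
        have : Commute σ' (σ ^ k) := (hcomm.symm).zpow_right k
        rw [this.eq, mul_inv_cancel_right]
      constructor
      · intro hh; rw [hc h hh]; exact hh
      · intro hh
        have : h = σ'⁻¹ * (σ' * h * σ'⁻¹) * σ' := by group
        rw [this]
        obtain ⟨k, hk⟩ := Subgroup.mem_zpowers_iff.mp hh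
        rw [← hk]
        have hc2 : Commute σ'⁻¹ (σ ^ k) := ((hcomm.symm).zpow_right k).inv_left
        rw [hc2.eq, inv_mul_cancel_right]
        exact Subgroup.zpow_mem _ (Subgroup.mem_zpowers σ) k
  · rw [Cfsg.pCore, sSup_eq_bot]
    rintro N ⟨hN, hN3⟩
    by_contra hNbot
    haveI := hN
    have hfix : MulAction.fixedPoints N (Fin 8) ≠ Set.univ := by
      intro h
      apply hNbot
      rw [eq_bot_iff]
      intro n hn
      rw [Subgroup.mem_bot]
      apply Equiv.Perm.ext
      intro x
      have hx : x ∈ MulAction.fixedPoints N (Fin 8) := by rw [h]; exact Set.mem_univ x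
      exact hx ⟨n, hn⟩
    haveI := MulAction.IsQuasiPreprimitive.isPretransitive_of_normal (G := Equiv.Perm (Fin 8))
      (X := Fin 8) (N := N) hfix
    have hidx := MulAction.index_stabilizer_of_transitive N (0 : Fin 8)
    rw [Nat.card_eq_fintype_card, Fintype.card_fin] at hidx
    have hdvd : 8 ∣ Nat.card N := by
      have h1 := Subgroup.index_dvd_card (MulAction.stabilizer N (0 : Fin 8))
      rw [hidx] at h1
      exact h1
    haveI : Fact (Nat.Prime 3) := ⟨by norm_num⟩
    obtain ⟨k, hk⟩ := IsPGroup.iff_card.mp hN3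
    rw [hk] at hdvd
    have h2 : 2 ∣ 3 ^ k := Dvd.dvd.trans (by norm_num) hdvd
    have := (Nat.Prime.dvd_of_dvd_pow Nat.prime_two h2)
    omega

end Cfsg.Agent.S4332
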