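import Mathlib
import Cfsg.Statements.S4334
import Cfsg.Agent.S0581
import Cfsg.Agent.S0132
import Cfsg.Agent.Lib.Helper1.TNPC.Basic

set_option autoImplicit false
open Cfsg
open scoped Pointwise

namespace Cfsg.Agent.S4334

universe u

section
variable {G : Type u} [Group G] [Finite G]

theorem comm_of_le {p q : ℕ} [Fact p.Prime] [Fact q.Prime] (P : Sylow p G) (R : Sylow q G)
    (hPR : ∀ a ∈ P, ∀ b ∈ R, a * b = b * a) (X Y : Subgroup G) (hX : X ≤ P)
    (hY : IsPGroup q Y) (hYX : Y ≤ Subgroup.normalizer (X : Set G)) :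
    ∀ x ∈ X, ∀ y ∈ Y, x * y = y * x := by
  have hRL : (R : Subgroup G) ≤ Subgroup.normalizer (X : Set G) := by
    intro r hr
    apply Subgroup.centralizer_le_normalizer
    rw [Subgroup.mem_centralizer_iff]
    intro x hx
    exact hPR x (hX hx) r hr
  have hq : q.Prime := Fact.out
  have hcard : Nat.card (R : Subgroup G) =
      q ^ (Nat.card (Subgroup.normalizer (X : Set G))).factorization q := by
    rw [Sylow.card_eq_multiplicity]
    congr 1
    symm
    apply Cfsg.Agent.S0582.factorization_eq_of_dvd_of_dvd hq _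
      (Subgroup.card_subgroup_dvd_card _) Nat.card_pos.ne' rfl
    rw [← Sylow.card_eq_multiplicity R]
    exact Subgroup.card_dvd_of_le hRL
  obtain ⟨n, hn, hnY⟩ := Cfsg.Agent.S0581.conj_into (Subgroup.normalizer (X : Set G)) Y
    (R : Subgroup G) hYX hRL hY hcard
  intro x hx y hy
  have h1 : n * x * n⁻¹ ∈ X := (Subgroup.mem_normalizer_iff.mp hn x).mp hx
  have h2 := hPR _ (hX h1) _ (hnY y hy)
  have h3 : n * (x * y) * n⁻¹ = n * (y * x) * n⁻¹ := by
    calc n * (x * y) * n⁻¹ = (n * x * n⁻¹) * (n * y * n⁻¹) := by group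
      _ = (n * y * n⁻¹) * (n * x * n⁻¹) := h2
      _ = n * (y * x) * n⁻¹ := by group
  exact mul_left_cancel (mul_right_cancel h3)

theorem comm_of_normalizes {p q : ℕ} [Fact p.Prime] [Fact q.Prime] (P : Sylow p G) (R : Sylow q G)
    (hPR : ∀ a ∈ P, ∀ b ∈ R, a * b = b * a) (X Y : Subgroup G) (hX : IsPGroup p X)
    (hY : IsPGroup q Y) (hYX : Y ≤ Subgroup.normalizer (X : Set G)) :
    ∀ x ∈ X, ∀ y ∈ Y, x * y = y * x := by
  obtain ⟨Q, hQ⟩ := hX.exists_le_sylow
  obtain ⟨g, hg⟩ := MulAction.exists_smul_eq G P Q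
  apply comm_of_le Q (g • R) _ X Y hQ hY hYX
  intro a ha b hb
  rw [← hg] at ha
  have ha' : a ∈ MulAut.conj g • (P : Subgroup G) := by
    rw [← Sylow.coe_subgroup_smul]; exact ha
  have hb' : b ∈ MulAut.conj g • (R : Subgroup G) := by
    rw [← Sylow.coe_subgroup_smul]; exact hb
  rw [Cfsg.Agent.S0582.mem_conj] at ha' hb'
  have h := hPR _ ha' _ hb'
  have h3 : g⁻¹ * (a * b) * g = g⁻¹ * (b * a) * g := by
    calc g⁻¹ * (a * b) * g = (g⁻¹ * a * g) * (g⁻¹ * b * g) := by group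
      _ = (g⁻¹ * b * g) * (g⁻¹ * a * g) := h
      _ = g⁻¹ * (b * a) * g := by group
  exact mul_left_cancel (mul_right_cancel h3)

theorem eq_top_of_forall_sylow_le {Q : Type*} [Group Q] [Finite Q] (D : Subgroup Q)
    (h : ∀ (q : ℕ) [Fact q.Prime], ∃ Y : Sylow q Q, (Y : Subgroup Q) ≤ D) : D = ⊤ := by
  rw [← Subgroup.index_eq_one]
  by_contra hne
  obtain ⟨q, hq, hqd⟩ := Nat.exists_prime_and_dvd hne
  haveI : Fact q.Prime := ⟨hq⟩
  obtain ⟨Y, hY⟩ := h q
  exact Y.not_dvd_index (hqd.trans (Subgroup.index_dvd_of_le hY))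

theorem val_eq {a b h i g p : ℕ} (hp : p.Prime) (hg : h * i = g) (hg0 : g ≠ 0)
    (hdvd : h ∣ a * b) (ha : a ∣ g) (hb : ¬ p ∣ b) (hi : ¬ p ∣ i) (hab0 : a * b ≠ 0) :
    a.factorization p = g.factorization p := by
  have ha0 : a ≠ 0 := fun h0 => hab0 (by rw [h0, zero_mul])
  have hb0 : b ≠ 0 := fun h0 => hab0 (by rw [h0, mul_zero])
  have hh0 : h ≠ 0 := fun h0 => hg0 (by rw [← hg, h0, zero_mul])
  have hi0 : i ≠ 0 := fun h0 => hg0 (by rw [← hg, h0, mul_zero])
  apply le_antisymm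
  · exact (Nat.factorization_le_iff_dvd ha0 hg0).mpr ha p
  · have h1 : g.factorization p = h.factorization p := by
      rw [← hg, Nat.factorization_mul hh0 hi0, Finsupp.add_apply,
        Nat.factorization_eq_zero_of_not_dvd hi, add_zero]
    have h2 : h.factorization p ≤ (a * b).factorization p :=
      (Nat.factorization_le_iff_dvd hh0 hab0).mpr hdvd p
    rw [Nat.factorization_mul ha0 hb0, Finsupp.add_apply,
      Nat.factorization_eq_zero_of_not_dvd hb, add_zero] at h2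
    rw [h1]; exact h2

structure Hyp (σ τ π : Set ℕ) (H Hs Ht : Subgroup G) : Prop where
  hπ : π = σ ∪ τ
  hd : Disjoint σ τ
  hH : Cfsg.IsPiHall π H
  hs : Cfsg.IsPiSubgroup σ Hs
  ht : Cfsg.IsPiSubgroup τ Ht
  hsn : Group.IsNilpotent Hs
  hjoin : Hs ⊔ Ht = H
  hcomm : ∀ a ∈ Hs, ∀ b ∈ Ht, a * b = b * a

variable {σ τ π : Set ℕ} {H Hs Ht : Subgroup G}

theorem Hyp.card_dvd (h : Hyp σ τ π H Hs Ht) : Nat.card H ∣ Nat.card Hs * Nat.card Ht := by
  have hc : ∀ (m : Hs) (n : Ht), Commute (Hs.subtype m) (Ht.subtype n) :=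
    fun m n => h.hcomm m m.2 n n.2
  let f : Hs × Ht →* G := MonoidHom.noncommCoprod Hs.subtype Ht.subtype hc
  have hr : f.range = H := by
    show (MonoidHom.noncommCoprod Hs.subtype Ht.subtype hc).range = H
    rw [MonoidHom.noncommCoprod_range, Subgroup.range_subtype, Subgroup.range_subtype, h.hjoin]
  have h1 := Subgroup.card_dvd_of_surjective f.rangeRestrict f.rangeRestrict_surjective
  rw [hr, Nat.card_prod] at h1
  exact h1

theorem Hyp.not_mem_tau (h : Hyp σ τ π H Hs Ht) {p : ℕ} (hp : p ∈ σ) : p ∉ τ :=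
  fun ht => (Set.disjoint_left.mp h.hd) hp ht

theorem Hyp.val_s (h : Hyp σ τ π H Hs Ht) {p : ℕ} (hp : p.Prime) (hpσ : p ∈ σ) :
    (Nat.card Hs).factorization p = (Nat.card G).factorization p := by
  apply val_eq hp (Subgroup.card_mul_index H) Nat.card_pos.ne' h.card_dvd
    (Subgroup.card_subgroup_dvd_card Hs)
  · intro hd
    exact h.not_mem_tau hpσ (h.ht p hp hd)
  · exact h.hH.2 p hp (by rw [h.hπ]; exact Or.inl hpσ)
  · exact (Nat.mul_pos Nat.card_pos Nat.card_pos).ne'

theorem Hyp.val_t (h : Hyp σ τ π H Hs Ht) {q : ℕ} (hq : q.Prime) (hqτ : q ∈ τ) :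
    (Nat.card Ht).factorization q = (Nat.card G).factorization q := by
  apply val_eq hq (Subgroup.card_mul_index H) Nat.card_pos.ne' (by rw [mul_comm]; exact h.card_dvd)
    (Subgroup.card_subgroup_dvd_card Ht)
  · intro hd
    exact h.not_mem_tau (h.hs q hq hd) hqτ
  · exact h.hH.2 q hq (by rw [h.hπ]; exact Or.inr hqτ)
  · exact (Nat.mul_pos Nat.card_pos Nat.card_pos).ne'

theorem exists_sylow_le (A : Subgroup G) {p : ℕ} [Fact p.Prime]
    (hv : (Nat.card A).factorization p = (Nat.card G).factorization p) :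
    ∃ P : Sylow p G, (P : Subgroup G) ≤ A := by
  obtain ⟨S⟩ := (inferInstance : Nonempty (Sylow p A))
  have hc : Nat.card ((S : Subgroup A).map A.subtype : Subgroup G) =
      p ^ (Nat.card G).factorization p := by
    rw [Subgroup.card_map_of_injective A.subtype_injective, Sylow.card_eq_multiplicity, hv]
  exact ⟨Sylow.ofCard _ hc, Subgroup.map_subtype_le _⟩

theorem Hyp.exists_comm_sylows (h : Hyp σ τ π H Hs Ht) {p q : ℕ} [hp : Fact p.Prime]
    [hq : Fact q.Prime] (hpσ : p ∈ σ) (hqπ : q ∈ π) (hpq : p ≠ q) :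
    ∃ (P : Sylow p G) (R : Sylow q G), ∀ a ∈ P, ∀ b ∈ R, a * b = b * a := by
  obtain ⟨P, hP⟩ := exists_sylow_le Hs (h.val_s hp.out hpσ)
  rw [h.hπ] at hqπ
  rcases hqπ with hqσ | hqτ
  · obtain ⟨R, hR⟩ := exists_sylow_le Hs (h.val_s hq.out hqσ)
    refine ⟨P, R, ?_⟩
    haveI := h.hsn
    have t := (Group.isNilpotent_of_finite_tfae (G := Hs)).out 0 3
    have hn := t.mp h.hsn
    have hPc : Nat.card ((P : Subgroup G).subgroupOf Hs) = p ^ (Nat.card Hs).factorization p := by
      rw [Nat.card_congr (Subgroup.subgroupOfEquivOfLe hP).toEquiv, Sylow.card_eq_multiplicity,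
        h.val_s hp.out hpσ]
    have hRc : Nat.card ((R : Subgroup G).subgroupOf Hs) = q ^ (Nat.card Hs).factorization q := by
      rw [Nat.card_congr (Subgroup.subgroupOfEquivOfLe hR).toEquiv, Sylow.card_eq_multiplicity,
        h.val_s hq.out hqσ]
    have hPn : ((P : Subgroup G).subgroupOf Hs).Normal := hn p hp (Sylow.ofCard _ hPc)
    have hRn : ((R : Subgroup G).subgroupOf Hs).Normal := hn q hq (Sylow.ofCard _ hRc)
    have hdis : Disjoint ((P : Subgroup G).subgroupOf Hs) ((R : Subgroup G).subgroupOf Hs) :=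
      IsPGroup.disjoint_of_ne p q hpq _ _ (Sylow.ofCard _ hPc).isPGroup' (Sylow.ofCard _ hRc).isPGroup'
    intro a ha b hb
    have := Subgroup.commute_of_normal_of_disjoint _ _ hPn hRn hdis
      (⟨a, hP ha⟩ : Hs) (⟨b, hR hb⟩ : Hs) (by rw [Subgroup.mem_subgroupOf]; exact ha)
      (by rw [Subgroup.mem_subgroupOf]; exact hb)
    exact congrArg Subtype.val this.eq
  · obtain ⟨R, hR⟩ := exists_sylow_le Ht (h.val_t hq.out hqτ)
    exact ⟨P, R, fun a ha b hb => h.hcomm a (hP ha) b (hR hb)⟩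

theorem sylow_eq_bot_of_not_dvd {Q : Type*} [Group Q] [Finite Q] {q : ℕ} [Fact q.Prime]
    (Y : Sylow q Q) (h : ¬ q ∣ Nat.card Q) : (Y : Subgroup Q) = ⊥ := by
  rw [← Subgroup.card_eq_one, Sylow.card_eq_multiplicity,
    Nat.factorization_eq_zero_of_not_dvd h, pow_zero]

theorem Hyp.npc_aux (h : Hyp σ τ π H Hs Ht) {p : ℕ} [hp : Fact p.Prime] (hpσ : p ∈ σ) (n : ℕ) :
    ∀ K : Subgroup G, Nat.card K = n → Cfsg.IsPiSubgroup π K →
      Cfsg.HasNormalPComplement p ↥K := by
  induction n using Nat.strong_induction_on with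
  | _ n ih =>
    intro K hKn hKπ
    by_contra h1
    have h2 : ∀ M : Subgroup K, M ≠ ⊤ → Cfsg.HasNormalPComplement p ↥M := by
      intro M hM
      have hMc : Nat.card (M.map K.subtype : Subgroup G) = Nat.card M :=
        Subgroup.card_map_of_injective K.subtype_injective
      have hlt : Nat.card (M.map K.subtype : Subgroup G) < n := by
        rw [hMc, ← hKn]
        apply lt_of_le_of_ne (Subgroup.card_le_card_group M)
        intro hh
        exact hM ((Subgroup.card_eq_iff_eq_top M).mp hh)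
      have h3 := ih _ hlt (M.map K.subtype) rfl
        (fun r hr hrd => hKπ r hr (hrd.trans (Subgroup.card_dvd_of_le (Subgroup.map_subtype_le _))))
      exact Cfsg.Agent.Lib.Helper1.TNPC.npc_of_map_injective K.subtype K.subtype_injective M h3
    obtain ⟨_, _, hsyl⟩ := Cfsg.Agent.S0132.result h1 h2
    let P₁ : Sylow p K := default
    haveI hPn : (P₁ : Subgroup K).Normal := hsyl P₁
    obtain ⟨Q, hQ⟩ := Subgroup.exists_right_complement'_of_coprime (Sylow.card_coprime_index P₁)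
    have hQc : Nat.card Q = (P₁ : Subgroup K).index := hQ.symm.index_eq_card.symm
    have hpQ : ¬ p ∣ Nat.card Q := by rw [hQc]; exact P₁.not_dvd_index
    have hKN : K ≤ Subgroup.normalizer (((P₁ : Subgroup K).map K.subtype : Subgroup G) : Set G) :=
      Cfsg.Agent.S0582.le_normalizer_map_subtype K (P₁ : Subgroup K)
    have hD : (Subgroup.centralizer ((P₁ : Subgroup K) : Set K)).subgroupOf Q = ⊤ := by
      apply eq_top_of_forall_sylow_le
      intro q hq
      let Y : Sylow q Q := default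
      refine ⟨Y, ?_⟩
      by_cases hqQ : q ∣ Nat.card Q
      · have hqp : p ≠ q := by
          rintro rfl
          exact hpQ hqQ
        have hqK : q ∣ Nat.card K := hqQ.trans (Subgroup.card_subgroup_dvd_card Q)
        have hqπ : q ∈ π := hKπ q hq.out hqK
        obtain ⟨P, R, hPR⟩ := h.exists_comm_sylows hpσ hqπ hqp
        have hYK : ((Y : Subgroup Q).map Q.subtype).map K.subtype ≤ K := Subgroup.map_subtype_le _
        have key := comm_of_normalizes P R hPR ((P₁ : Subgroup K).map K.subtype)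
          (((Y : Subgroup Q).map Q.subtype).map K.subtype) (P₁.isPGroup'.map _)
          ((Y.isPGroup'.map _).map _) (hYK.trans hKN)
        intro y hy
        rw [Subgroup.mem_subgroupOf, Subgroup.mem_centralizer_iff]
        intro a ha
        have := key (a : G) ⟨a, ha, rfl⟩ ((y : K) : G) ⟨(y : K), ⟨y, hy, rfl⟩, rfl⟩
        exact Subtype.ext this
      · rw [sylow_eq_bot_of_not_dvd Y hqQ]
        exact bot_le
    have hcent : ∀ a ∈ (P₁ : Subgroup K), ∀ b ∈ Q, a * b = b * a := by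
      intro a ha b hb
      have h3 : (⟨b, hb⟩ : Q) ∈ (Subgroup.centralizer ((P₁ : Subgroup K) : Set K)).subgroupOf Q := by
        rw [hD]; trivial
      rw [Subgroup.mem_subgroupOf, Subgroup.mem_centralizer_iff] at h3
      exact h3 a ha
    have hQn : Q.Normal := by
      rw [← Subgroup.normalizer_eq_top_iff, eq_top_iff, ← hQ.sup_eq_top]
      apply sup_le
      · intro a ha
        apply Cfsg.Agent.Lib.Helper5.h5g_mem_normalizer_of_conj_le
        intro b hb
        rw [hcent a ha b hb, mul_inv_cancel_right]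
        exact hb
      · exact Subgroup.le_normalizer
    exact h1 ⟨P₁, Q, hQn, hQ.symm⟩

theorem Hyp.npc (h : Hyp σ τ π H Hs Ht) {p : ℕ} [hp : Fact p.Prime] (hpσ : p ∈ σ)
    (K : Subgroup G) (hK : Cfsg.IsPiSubgroup π K) : Cfsg.HasNormalPComplement p ↥K :=
  h.npc_aux hpσ _ K rfl hK

theorem mem_of_order_coprime (T Γ : Subgroup G) (hT : T ≤ Γ)
    (hΓ : Γ ≤ Subgroup.normalizer (T : Set G)) (u : G) (hu : u ∈ Γ)
    (hco : (orderOf u).Coprime (T.relIndex Γ)) : u ∈ T := by
  haveI hn : (T.subgroupOf Γ).Normal := (Subgroup.normal_subgroupOf_iff_le_normalizer hT).mpr hΓ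
  have h1 : orderOf (QuotientGroup.mk (s := T.subgroupOf Γ) (⟨u, hu⟩ : Γ)) ∣ orderOf u := by
    have := orderOf_map_dvd (QuotientGroup.mk' (T.subgroupOf Γ)) (⟨u, hu⟩ : Γ)
    rw [← Subgroup.orderOf_coe (⟨u, hu⟩ : Γ)] at this
    exact this
  have h2 : orderOf (QuotientGroup.mk (s := T.subgroupOf Γ) (⟨u, hu⟩ : Γ)) ∣ T.relIndex Γ := by
    have := _root_.orderOf_dvd_natCard (QuotientGroup.mk (s := T.subgroupOf Γ) (⟨u, hu⟩ : Γ))
    rw [← Subgroup.index_eq_card] at this
    exact this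
  have h3 : orderOf (QuotientGroup.mk (s := T.subgroupOf Γ) (⟨u, hu⟩ : Γ)) = 1 :=
    Nat.eq_one_of_dvd_coprimes hco h1 h2
  rw [orderOf_eq_one_iff, QuotientGroup.eq_one_iff, Subgroup.mem_subgroupOf] at h3
  exact h3

theorem Hyp.mem_tau_of_not_sigma (h : Hyp σ τ π H Hs Ht) {r : ℕ} (hr : r ∈ π) (hrs : r ∉ σ) :
    r ∈ τ := by
  rw [h.hπ] at hr
  rcases hr with h1 | h1
  · exact absurd h1 hrs
  · exact h1

theorem Hyp.exists_tau_aux (h : Hyp σ τ π H Hs Ht) (n : ℕ) :
    ∀ K : Subgroup G, Nat.card K = n → Cfsg.IsPiSubgroup π K →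
      ∃ T : Subgroup G, T ≤ K ∧ K ≤ Subgroup.normalizer (T : Set G) ∧ Cfsg.IsPiSubgroup τ T ∧
        ∀ r : ℕ, r.Prime → r ∣ T.relIndex K → r ∈ σ := by
  induction n using Nat.strong_induction_on with
  | _ n ih =>
    intro K hKn hKπ
    by_cases hex : ∃ p : ℕ, p.Prime ∧ p ∈ σ ∧ p ∣ Nat.card K
    · obtain ⟨p, hp, hpσ, hpK⟩ := hex
      haveI : Fact p.Prime := ⟨hp⟩
      obtain ⟨N, hNn, hNc, k, hk⟩ := Cfsg.Agent.Lib.Helper1.TNPC.npc_iff.mp (h.npc hpσ K hKπ)
      haveI := hNn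
      have hN'K : N.map K.subtype ≤ K := Subgroup.map_subtype_le _
      have hN'c : Nat.card (N.map K.subtype : Subgroup G) = Nat.card N :=
        Subgroup.card_map_of_injective K.subtype_injective
      have hlt : Nat.card (N.map K.subtype : Subgroup G) < n := by
        rw [hN'c, ← hKn]
        apply lt_of_le_of_ne (Subgroup.card_le_card_group N)
        intro hh
        rw [hh] at hNc
        exact (Nat.Prime.coprime_iff_not_dvd hp).mp hNc.symm hpK
      obtain ⟨T, hTN, hNT, hTτ, hTσ⟩ := ih _ hlt (N.map K.subtype) rfl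
        (fun r hr hrd => hKπ r hr (hrd.trans (Subgroup.card_dvd_of_le hN'K)))
      have hKN' : K ≤ Subgroup.normalizer ((N.map K.subtype : Subgroup G) : Set G) :=
        Cfsg.Agent.S0582.le_normalizer_map_subtype K N
      refine ⟨T, hTN.trans hN'K, ?_, hTτ, ?_⟩
      · intro k hk
        apply Cfsg.Agent.Lib.Helper5.h5g_mem_normalizer_of_conj_le
        intro t ht
        apply mem_of_order_coprime T (N.map K.subtype) hTN hNT
        · exact (Subgroup.mem_normalizer_iff.mp (hKN' hk) t).mp (hTN ht)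
        · have e : orderOf (k * t * k⁻¹) = orderOf t := by
            have := (MulAut.conj k).orderOf_eq t
            rwa [MulAut.conj_apply] at this
          rw [e]
          apply Nat.coprime_of_dvd
          intro r hr hr1 hr2
          have h1 : r ∈ τ := hTτ r hr (hr1.trans (Subgroup.orderOf_dvd_natCard T ht))
          exact h.not_mem_tau (hTσ r hr hr2) h1
      · intro r hr hrd
        rw [← Subgroup.relIndex_mul_relIndex T (N.map K.subtype) K hTN hN'K] at hrd
        rcases (Nat.Prime.dvd_mul hr).mp hrd with h1 | h1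
        · exact hTσ r hr h1
        · have e : (N.map K.subtype).relIndex K = N.index := by
            unfold Subgroup.relIndex
            congr 1
            ext x
            rw [Subgroup.mem_subgroupOf]
            constructor
            · rintro ⟨y, hy, hyx⟩
              have : y = x := Subtype.ext hyx
              rw [← this]; exact hy
            · intro hx
              exact ⟨x, hx, rfl⟩
          rw [e, hk] at h1
          have := (Nat.prime_dvd_prime_iff_eq hr hp).mp (hr.dvd_of_dvd_pow h1)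
          rw [this]; exact hpσ
    · push Not at hex
      refine ⟨K, le_rfl, Subgroup.le_normalizer, ?_, ?_⟩
      · intro r hr hrd
        exact h.mem_tau_of_not_sigma (hKπ r hr hrd) (fun hrs => hex r hr hrs hrd)
      · intro r hr hrd
        rw [Subgroup.relIndex_self] at hrd
        exact absurd (Nat.dvd_one.mp hrd) hr.one_lt.ne'

theorem Hyp.exists_tau_compl (h : Hyp σ τ π H Hs Ht) (K : Subgroup G)
    (hK : Cfsg.IsPiSubgroup π K) :
    ∃ T C : Subgroup G, T ≤ K ∧ C ≤ K ∧ K ≤ Subgroup.normalizer (T : Set G) ∧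
      Cfsg.IsPiSubgroup τ T ∧ Cfsg.IsPiSubgroup σ C ∧ K ≤ T ⊔ C := by
  obtain ⟨T, hTK, hKT, hTτ, hTσ⟩ := h.exists_tau_aux _ K rfl hK
  haveI hn : (T.subgroupOf K).Normal := (Subgroup.normal_subgroupOf_iff_le_normalizer hTK).mpr hKT
  have hcT : Nat.card (T.subgroupOf K) = Nat.card T :=
    Nat.card_congr (Subgroup.subgroupOfEquivOfLe hTK).toEquiv
  have hco : (Nat.card (T.subgroupOf K)).Coprime (T.subgroupOf K).index := by
    apply Nat.coprime_of_dvd
    intro r hr hr1 hr2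
    rw [hcT] at hr1
    exact h.not_mem_tau (hTσ r hr hr2) (hTτ r hr hr1)
  obtain ⟨C₁, hC₁⟩ := Subgroup.exists_right_complement'_of_coprime hco
  refine ⟨T, C₁.map K.subtype, hTK, Subgroup.map_subtype_le _, hKT, hTτ, ?_, ?_⟩
  · intro r hr hrd
    rw [Subgroup.card_map_of_injective K.subtype_injective, ← hC₁.symm.index_eq_card] at hrd
    exact hTσ r hr hrd
  · have h1 : (T.subgroupOf K ⊔ C₁).map K.subtype = K := by
      rw [hC₁.sup_eq_top, ← MonoidHom.range_eq_map, Subgroup.range_subtype]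
    rw [Subgroup.map_sup, Subgroup.map_subgroupOf_eq_of_le hTK] at h1
    exact le_of_eq h1.symm

theorem Hyp.ht_maximal (h : Hyp σ τ π H Hs Ht) : Maximal (Cfsg.IsPiSubgroup τ) Ht := by
  refine ⟨h.ht, fun Y hY hle => ?_⟩
  have hdvd : Nat.card Y ∣ Nat.card Ht := by
    rw [← Nat.factorization_prime_le_iff_dvd Nat.card_pos.ne' Nat.card_pos.ne']
    intro r hr
    by_cases hrd : r ∣ Nat.card Y
    · rw [h.val_t hr (hY r hr hrd)]
      exact (Nat.factorization_le_iff_dvd Nat.card_pos.ne' Nat.card_pos.ne').mpr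
        (Subgroup.card_subgroup_dvd_card Y) r
    · rw [Nat.factorization_eq_zero_of_not_dvd hrd]; exact Nat.zero_le _
  exact le_of_eq (Subgroup.eq_of_le_of_card_ge hle (Nat.le_of_dvd Nat.card_pos hdvd)).symm

theorem Hyp.tau_conj (h : Hyp σ τ π H Hs Ht) (hD : Cfsg.IsDPiGroup τ G) (T : Subgroup G)
    (hT : Cfsg.IsPiSubgroup τ T) : ∃ g : G, T ≤ MulAut.conj g • Ht := by
  obtain ⟨Y, hTY, hY⟩ := Finite.exists_le_maximal (p := Cfsg.IsPiSubgroup (G := G) τ) hT
  obtain ⟨g, hg⟩ := hD Ht Y h.ht_maximal hY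
  refine ⟨g, ?_⟩
  rw [hg] at hTY
  exact hTY

theorem Hyp.conj_aligned (h : Hyp σ τ π H Hs Ht) (K T C : Subgroup G) (hCK : C ≤ K)
    (hKT : K ≤ Subgroup.normalizer (T : Set G)) (hTHt : T ≤ Ht) (hC : Cfsg.IsPiSubgroup σ C)
    (hKTC : K ≤ T ⊔ C) : ∃ x : G, K ≤ MulAut.conj x • H := by
  have hHsL : Hs ≤ Subgroup.normalizer (T : Set G) := by
    intro a ha
    apply Subgroup.centralizer_le_normalizer
    rw [Subgroup.mem_centralizer_iff]
    intro t ht
    exact (h.hcomm a ha t (hTHt ht)).symm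
  have hHall : (Nat.card Hs).Coprime (Hs.relIndex (Subgroup.normalizer (T : Set G))) := by
    apply Nat.coprime_of_dvd
    intro r hr hr1 hr2
    have hrσ := h.hs r hr hr1
    have h2 : r ∣ Hs.index := hr2.trans (Subgroup.relIndex_dvd_index_of_le hHsL)
    have h3 := h.val_s hr hrσ
    have h4 := Subgroup.card_mul_index Hs
    have h6 : (Nat.card G).factorization r =
        (Nat.card Hs).factorization r + (Hs.index).factorization r := by
      rw [← h4, Nat.factorization_mul Nat.card_pos.ne' Subgroup.index_ne_zero_of_finite]; rfl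
    have h5 : 0 < (Hs.index).factorization r :=
      hr.factorization_pos_of_dvd Subgroup.index_ne_zero_of_finite h2
    omega
  have hCπ : ∀ q : ℕ, q.Prime → q ∣ Nat.card C → q ∣ Nat.card Hs := by
    intro q hq hqC
    have hqσ := hC q hq hqC
    have hqG : q ∣ Nat.card G := hqC.trans (Subgroup.card_subgroup_dvd_card C)
    have h3 := h.val_s hq hqσ
    have h5 : 0 < (Nat.card G).factorization q :=
      hq.factorization_pos_of_dvd Nat.card_pos.ne' hqG
    rw [← h3] at h5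
    exact Nat.dvd_of_factorization_pos h5.ne'
  obtain ⟨x, hxL, hx⟩ := Cfsg.Agent.S0581.main_aux (Nat.card Hs)
    (Subgroup.normalizer (T : Set G)) Hs rfl hHsL h.hsn hHall C (hCK.trans hKT) hCπ
  refine ⟨x, hKTC.trans (sup_le ?_ ?_)⟩
  · have h1 : MulAut.conj x • T = T :=
      (Cfsg.Agent.Lib.Helper21.conj_smul_eq_iff_mem_normalizer T x).mpr hxL
    rw [← h1]
    exact Subgroup.pointwise_smul_le_pointwise_smul_iff.mpr
      (hTHt.trans (by rw [← h.hjoin]; exact le_sup_right))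
  · exact hx.trans (Subgroup.pointwise_smul_le_pointwise_smul_iff.mpr
      (by rw [← h.hjoin]; exact le_sup_left))

theorem Hyp.conj_into (h : Hyp σ τ π H Hs Ht) (hD : Cfsg.IsDPiGroup τ G) (K : Subgroup G)
    (hK : Cfsg.IsPiSubgroup π K) : ∃ x : G, K ≤ MulAut.conj x • H := by
  obtain ⟨T, C, hTK, hCK, hKT, hTτ, hCσ, hKTC⟩ := h.exists_tau_compl K hK
  obtain ⟨g, hg⟩ := h.tau_conj hD T hTτ
  have e : MulAut.conj g⁻¹ • (MulAut.conj g • Ht) = Ht := by
    rw [smul_smul, ← map_mul, inv_mul_cancel, map_one, one_smul]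
  have hal : MulAut.conj g⁻¹ • T ≤ Ht := by
    rw [← e]
    exact Subgroup.pointwise_smul_le_pointwise_smul_iff.mpr hg
  obtain ⟨x, hx⟩ := h.conj_aligned (MulAut.conj g⁻¹ • K) (MulAut.conj g⁻¹ • T)
    (MulAut.conj g⁻¹ • C) (Subgroup.pointwise_smul_le_pointwise_smul_iff.mpr hCK)
    (Cfsg.Agent.S0582.conj_le_normalizer_conj g⁻¹ K T hKT) hal
    (fun r hr hrd => hCσ r hr (by rwa [Cfsg.Agent.Lib.Helper21.card_conj_smul] at hrd))
    (by rw [← Subgroup.smul_sup]; exact Subgroup.pointwise_smul_le_pointwise_smul_iff.mpr hKTC)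
  refine ⟨g * x, ?_⟩
  have h1 : MulAut.conj g • (MulAut.conj g⁻¹ • K) ≤ MulAut.conj g • (MulAut.conj x • H) :=
    Subgroup.pointwise_smul_le_pointwise_smul_iff.mpr hx
  rw [smul_smul, ← map_mul, mul_inv_cancel, map_one, one_smul, smul_smul, ← map_mul] at h1
  exact h1

end

theorem result {G : Type*} [Group G] [Finite G]
    (σ τ π : Set ℕ) (hπ : π = σ ∪ τ) (hd : Disjoint σ τ) (H Hs Ht : Subgroup G) (hH : Cfsg.IsPiHall π H)
    (hs : Cfsg.IsPiSubgroup σ Hs) (ht : Cfsg.IsPiSubgroup τ Ht) (hsn : Group.IsNilpotent Hs)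
    (hjoin : Hs ⊔ Ht = H) (hcomm : ∀ a ∈ Hs, ∀ b ∈ Ht, a * b = b * a) (hD : Cfsg.IsDPiGroup τ G) :
    Cfsg.IsDPiGroup π G := by
  have h : Hyp σ τ π H Hs Ht := ⟨hπ, hd, hH, hs, ht, hsn, hjoin, hcomm⟩
  have key : ∀ M : Subgroup G, Maximal (Cfsg.IsPiSubgroup π) M →
      ∃ x : G, M = MulAut.conj x • H := by
    intro M hM
    obtain ⟨x, hx⟩ := h.conj_into hD M hM.1
    refine ⟨x, le_antisymm hx (hM.2 ?_ hx)⟩
    intro r hr hrd
    rw [Cfsg.Agent.Lib.Helper21.card_conj_smul] at hrd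
    exact hH.1 r hr hrd
  intro M₁ M₂ hM₁ hM₂
  obtain ⟨x₁, h₁⟩ := key M₁ hM₁
  obtain ⟨x₂, h₂⟩ := key M₂ hM₂
  refine ⟨x₂ * x₁⁻¹, ?_⟩
  show M₂ = MulAut.conj (x₂ * x₁⁻¹) • M₁
  rw [h₁, h₂, smul_smul, ← map_mul, inv_mul_cancel_right]

end Cfsg.Agent.S4334
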