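import Cfsg.Statements.S4337
import Cfsg.Agent.Lib.helper23.SwapOrbit
import Cfsg.Agent.Lib.helper23.SmallPerm

set_option autoImplicit false
open Cfsg

namespace Cfsg.Agent.S4337

open Cfsg.Agent.Lib.helper23

/-- In a finite symmetric group, any three transpositions generate a solvable subgroup. -/
theorem result (n : ℕ) (a b c : Equiv.Perm (Fin n))
    (ha : a.IsSwap) (hb : b.IsSwap) (hc : c.IsSwap) :
    Group.IsSolvable (Subgroup.closure ({a, b, c} : Set (Equiv.Perm (Fin n)))) := by
  have hrange : Set.range ![a, b, c] = ({a, b, c} : Set (Equiv.Perm (Fin n))) := by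
    ext y
    simp only [Set.mem_range, Set.mem_insert_iff, Set.mem_singleton_iff, Fin.exists_fin_succ,
      Matrix.cons_val_zero, Matrix.cons_val_succ]
    constructor
    · rintro (h | h | h | ⟨i, _⟩)
      · exact Or.inl h.symm
      · exact Or.inr (Or.inl h.symm)
      · exact Or.inr (Or.inr h.symm)
      · exact i.elim0
    · rintro (h | h | h)
      · exact Or.inl h.symm
      · exact Or.inr (Or.inl h.symm)
      · exact Or.inr (Or.inr (Or.inl h.symm))
  have ht : ∀ i, (![a, b, c] i).IsSwap := by
    intro i
    fin_cases i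
    · exact ha
    · exact hb
    · exact hc
  rw [← hrange]
  set K := Subgroup.closure (Set.range ![a, b, c]) with hK
  rw [Group.isSolvable_def]
  refine ⟨3, ?_⟩
  rw [eq_bot_iff]
  intro k hk
  rw [Subgroup.mem_bot]
  apply Subtype.ext
  apply Equiv.Perm.ext
  intro x
  have hcard : Nat.card (MulAction.orbit K x) ≤ 4 := card_orbit_closure_swaps_le _ ht x
  have h1 := map_derivedSeries_le_derivedSeries (MulAction.toPermHom K (MulAction.orbit K x)) 3
  rw [derivedSeries_perm_of_card_le_four hcard, le_bot_iff] at h1
  have h2 : MulAction.toPermHom K (MulAction.orbit K x) k = 1 := by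
    have : MulAction.toPermHom K (MulAction.orbit K x) k ∈
        (derivedSeries K 3).map (MulAction.toPermHom K (MulAction.orbit K x)) :=
      Subgroup.mem_map_of_mem _ hk
    rw [h1, Subgroup.mem_bot] at this
    exact this
  have h3 := congrArg (fun f => ((f ⟨x, MulAction.mem_orbit_self x⟩ : MulAction.orbit K x) : Fin n)) h2
  simp at h3
  exact h3

end Cfsg.Agent.S4337
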