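import Cfsg.Statements.S4343
import Cfsg.Agent.Lib.Helper1.Brodkey

set_option autoImplicit false
open Cfsg

namespace Cfsg.Agent.S4343

open Cfsg.Agent.Lib.Helper1
open scoped Pointwise

variable {G : Type*} [Group G]

theorem inf_le_of_min [Finite G] {p : ℕ} [Fact p.Prime] (P Q : Sylow p G)
    (hPN : (P : Subgroup G) ≤ Subgroup.normalizer (((P : Subgroup G) ⊓ Q : Subgroup G) : Set G))
    (hQN : (Q : Subgroup G) ≤ Subgroup.normalizer (((P : Subgroup G) ⊓ Q : Subgroup G) : Set G))
    (hmin : ∀ P' Q' : Sylow p G, Nat.card ((P : Subgroup G) ⊓ Q : Subgroup G) ≤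
      Nat.card ((P' : Subgroup G) ⊓ Q' : Subgroup G))
    (R : Sylow p G) : (P : Subgroup G) ⊓ Q ≤ R := by
  obtain ⟨D, hD⟩ : ∃ D : Subgroup G, D = (P : Subgroup G) ⊓ Q := ⟨_, rfl⟩
  obtain ⟨N, hN⟩ : ∃ N : Subgroup G, N = Subgroup.normalizer (D : Set G) := ⟨_, rfl⟩
  rw [← hD] at hPN hQN hmin ⊢
  rw [← hN] at hPN hQN
  have hRN : IsPGroup p ((R : Subgroup G) ⊓ N : Subgroup G) := R.2.to_le inf_le_left
  obtain ⟨c, hcN, hc⟩ := exists_conj_mem_sylow_of_le P ((R : Subgroup G) ⊓ N) N hPN hRN inf_le_right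
  have h1 : ((c • R : Sylow p G) : Subgroup G) ⊓ Q ≤ D := by
    intro x hx
    obtain ⟨hxR, hxQ⟩ := hx
    rw [hD]
    refine ⟨?_, hxQ⟩
    have hxR' : x ∈ (c • R : Sylow p G) := hxR
    rw [mem_sylow_smul_iff] at hxR'
    have hxN : x ∈ N := hQN hxQ
    have hcxN : c⁻¹ * x * c ∈ N := N.mul_mem (N.mul_mem (N.inv_mem hcN) hxN) hcN
    have := hc (c⁻¹ * x * c) ⟨hxR', hcxN⟩
    have e : c * (c⁻¹ * x * c) * c⁻¹ = x := by group
    rwa [e] at this
  have h2 : ((c • R : Sylow p G) : Subgroup G) ⊓ Q = D :=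
    Subgroup.eq_of_le_of_card_ge h1 (hmin (c • R) Q)
  have h3 : D ≤ ((c • R : Sylow p G) : Subgroup G) := by
    rw [← h2]; exact inf_le_left
  intro d hd
  have hcN' : c ∈ Subgroup.normalizer (D : Set G) := hN ▸ hcN
  have hcd : c * d * c⁻¹ ∈ D := (Subgroup.mem_normalizer_iff.mp hcN' d).mp hd
  have h4 := h3 hcd
  have h5 : c * d * c⁻¹ ∈ (c • R : Sylow p G) := h4
  rw [mem_sylow_smul_iff] at h5
  have e : c⁻¹ * (c * d * c⁻¹) * c = d := by group
  rwa [e] at h5

theorem relIndex_succ_le [Finite G] {p : ℕ} [Fact p.Prime] (P Q : Sylow p G) (hne : Q ≠ P) :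
    (Q : Subgroup G).relIndex P + 1 ≤ Nat.card (Sylow p G) := by
  have hc : Nat.card (Option (↥(P : Subgroup G) ⧸ (Q : Subgroup G).subgroupOf P)) =
      (Q : Subgroup G).relIndex P + 1 := by
    rw [Finite.card_option]; rfl
  rw [← hc]
  apply Nat.card_le_card_of_injective
    (fun o : Option (↥(P : Subgroup G) ⧸ (Q : Subgroup G).subgroupOf P) =>
      o.elim P (fun q => ((q.out : ↥(P : Subgroup G)) : G) • Q))
  intro o₁ o₂ h
  have key : ∀ q : ↥(P : Subgroup G) ⧸ (Q : Subgroup G).subgroupOf P,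
      ((q.out : ↥(P : Subgroup G)) : G) • Q ≠ P := by
    intro q hq
    apply hne
    have hP : ((q.out : ↥(P : Subgroup G)) : G)⁻¹ • P = P :=
      Sylow.smul_eq_iff_mem_normalizer.mpr (Subgroup.le_normalizer (inv_mem q.out.2))
    calc Q = ((q.out : ↥(P : Subgroup G)) : G)⁻¹ • (((q.out : ↥(P : Subgroup G)) : G) • Q) :=
          (inv_smul_smul _ _).symm
      _ = ((q.out : ↥(P : Subgroup G)) : G)⁻¹ • P :=
          congrArg (fun R => ((q.out : ↥(P : Subgroup G)) : G)⁻¹ • R) hq
      _ = P := hP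
  cases o₁ with
  | none =>
    cases o₂ with
    | none => rfl
    | some q => exact absurd h.symm (key q)
  | some q₁ =>
    cases o₂ with
    | none => exact absurd h (key q₁)
    | some q₂ =>
      have h' : ((q₁.out : ↥(P : Subgroup G)) : G) • Q = ((q₂.out : ↥(P : Subgroup G)) : G) • Q := h
      have h2 : (((q₂.out : ↥(P : Subgroup G)) : G)⁻¹ * ((q₁.out : ↥(P : Subgroup G)) : G)) • Q = Q := by
        rw [mul_smul, h', inv_smul_smul]
      have h3 := Sylow.smul_eq_iff_mem_normalizer.mp h2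
      have h4 : ((q₂.out : ↥(P : Subgroup G)) : G)⁻¹ * ((q₁.out : ↥(P : Subgroup G)) : G) ∈
          (P : Subgroup G) ⊓ Subgroup.normalizer (Q : Set G) :=
        Subgroup.mem_inf.mpr
          ⟨(P : Subgroup G).mul_mem ((P : Subgroup G).inv_mem q₂.out.2) q₁.out.2, h3⟩
      rw [P.2.inf_normalizer_sylow Q] at h4
      have h5 : (QuotientGroup.mk q₂.out : ↥(P : Subgroup G) ⧸ (Q : Subgroup G).subgroupOf P) =
          QuotientGroup.mk q₁.out := by
        rw [QuotientGroup.eq, Subgroup.mem_subgroupOf]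
        exact h4.2
      rw [QuotientGroup.out_eq', QuotientGroup.out_eq'] at h5
      rw [h5]

theorem relIndex_eq_one_or [Finite G] {p : ℕ} [Fact p.Prime]
    (hn : Nat.card (Sylow p G) < p ^ 2) (P Q : Sylow p G) :
    (Q : Subgroup G).relIndex P = 1 ∨ (Q : Subgroup G).relIndex P = p := by
  by_cases hne : Q = P
  · left; rw [hne]; exact Subgroup.relIndex_self _
  · have h1 := relIndex_succ_le P Q hne
    have h2 : (Q : Subgroup G).relIndex P ∣ Nat.card (P : Subgroup G) :=
      Subgroup.relIndex_dvd_card _ _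
    obtain ⟨k, hk⟩ := IsPGroup.iff_card.mp P.2
    rw [hk] at h2
    obtain ⟨j, _, hj'⟩ := (Nat.dvd_prime_pow Fact.out).mp h2
    rw [hj'] at h1 ⊢
    have hj2 : j < 2 := by
      by_contra hj2
      push Not at hj2
      have := Nat.pow_le_pow_right (Fact.out : p.Prime).pos hj2
      omega
    interval_cases j
    · left; simp
    · right; simp

theorem le_normalizer_inf [Finite G] {p : ℕ} [Fact p.Prime]
    (hn : Nat.card (Sylow p G) < p ^ 2) (P Q : Sylow p G) :
    (P : Subgroup G) ≤ Subgroup.normalizer (((Q : Subgroup G) ⊓ P : Subgroup G) : Set G) := by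
  rw [← Subgroup.normal_subgroupOf_iff_le_normalizer_inf]
  rcases relIndex_eq_one_or hn P Q with h | h
  · have : (Q : Subgroup G).subgroupOf P = ⊤ := Subgroup.index_eq_one.mp h
    rw [this]; infer_instance
  · apply Subgroup.normal_of_index_eq_minFac_card
    obtain ⟨k, hk⟩ := IsPGroup.iff_card.mp P.2
    have hk0 : k ≠ 0 := by
      rintro rfl
      have h2 : (Q : Subgroup G).relIndex P ∣ Nat.card (P : Subgroup G) :=
        Subgroup.relIndex_dvd_card _ _
      rw [hk, h, pow_zero] at h2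
      exact (Fact.out : p.Prime).one_lt.ne' (Nat.dvd_one.mp h2)
    have hc : Nat.card ↥(P : Subgroup G) = p ^ k := hk
    rw [hc, Nat.pow_minFac hk0, (Fact.out : p.Prime).minFac_eq]
    exact h

/-- Let S be a finite non-abelian simple group and p a prime dividing its order. If S has fewer than p² Sylow p-subgroups, then its Sylow p-subgroups have order p. -/
theorem result {S : Type*} [Group S] [Finite S]
    [IsSimpleGroup S] (hS : ¬ IsMulCommutative S) (p : ℕ) [Fact p.Prime] (hp : p ∣ Nat.card S)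
    (hn : Nat.card (Sylow p S) < p ^ 2) (P : Sylow p S) : Nat.card P = p := by
  obtain ⟨⟨S₁, T⟩, hmin⟩ := Finite.exists_min
    (fun PQ : Sylow p S × Sylow p S => Nat.card ((PQ.1 : Subgroup S) ⊓ PQ.2 : Subgroup S))
  have hmin' : ∀ P' Q' : Sylow p S, Nat.card ((S₁ : Subgroup S) ⊓ T : Subgroup S) ≤
      Nat.card ((P' : Subgroup S) ⊓ Q' : Subgroup S) := fun P' Q' => hmin (P', Q')
  have hN1 : (S₁ : Subgroup S) ≤ Subgroup.normalizer (((S₁ : Subgroup S) ⊓ T : Subgroup S) : Set S) := by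
    have := le_normalizer_inf hn S₁ T
    rwa [inf_comm] at this
  have hN2 : (T : Subgroup S) ≤ Subgroup.normalizer (((S₁ : Subgroup S) ⊓ T : Subgroup S) : Set S) :=
    le_normalizer_inf hn T S₁
  have hD : (S₁ : Subgroup S) ⊓ T = ⊥ := by
    have hle : (S₁ : Subgroup S) ⊓ T ≤ Cfsg.pCore p S := by
      rw [pCore_eq_iInf_sylow]
      exact le_iInf (fun R => inf_le_of_min S₁ T hN1 hN2 hmin' R)
    have hnorm := pCore_normal (G := S) p
    rcases hnorm.eq_bot_or_eq_top with h | h
    · rw [h] at hle; exact le_bot_iff.mp hle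
    · exfalso
      have hpg : IsPGroup p S := by
        intro g
        obtain ⟨k, hk⟩ := (pCore_isPGroup (G := S) p) ⟨g, h ▸ Subgroup.mem_top g⟩
        exact ⟨k, congrArg Subtype.val hk⟩
      have hcn : Nontrivial (Subgroup.center S) := hpg.center_nontrivial
      have hcz : Subgroup.center S = ⊤ := by
        rcases (Subgroup.center S).normal_of_characteristic.eq_bot_or_eq_top with h' | h'
        · exfalso
          rw [Subgroup.nontrivial_iff_ne_bot] at hcn
          exact hcn h'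
        · exact h'
      apply hS
      refine ⟨⟨fun a b => ?_⟩⟩
      have : b ∈ Subgroup.center S := hcz ▸ Subgroup.mem_top b
      exact (Subgroup.mem_center_iff.mp this a)
  have hcard : Nat.card (S₁ : Subgroup S) = (T : Subgroup S).relIndex S₁ := by
    have h1 : (T : Subgroup S).subgroupOf S₁ = ⊥ := by
      rw [← Subgroup.inf_subgroupOf_right, inf_comm, hD, Subgroup.bot_subgroupOf]
    rw [Subgroup.relIndex, h1, Subgroup.index_bot]
  have hS1 : Nat.card (S₁ : Subgroup S) = p := by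
    rcases relIndex_eq_one_or hn S₁ T with h | h
    · exfalso
      rw [h] at hcard
      exact S₁.ne_bot_of_dvd_card hp (Subgroup.card_eq_one.mp hcard)
    · rw [hcard, h]
  have h1 := P.card_eq_multiplicity
  have h2 := S₁.card_eq_multiplicity
  have : Nat.card (P : Subgroup S) = Nat.card (S₁ : Subgroup S) := by rw [h1, h2]
  exact this.trans hS1

end Cfsg.Agent.S4343
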