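import Cfsg.Statements.S4344

set_option autoImplicit false
open Cfsg

namespace Cfsg.Agent.S4344

/-- Let S be a finite non-abelian simple group, M a maximal subgroup of S and C a cyclic normal subgroup of M. If a Sylow p-subgroup P of S (for a prime p dividing the order of S) is contained in C, then the number of Sylow p-subgroups of S equals the index of M. -/
theorem result {S : Type*} [Group S] [Finite S]
    [IsSimpleGroup S] (hS : ¬ IsMulCommutative S) (p : ℕ) [Fact p.Prime] (hp : p ∣ Nat.card S)
    (M : Subgroup S) (hM : IsCoatom M) (C : Subgroup S) (hCM : C ≤ M) (hCn : (C.subgroupOf M).Normal)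
    (hC : IsCyclic C) (P : Sylow p S) (hP : (P : Subgroup S) ≤ C) :
    Nat.card (Sylow p S) = M.index := by
  have hcomm : ∀ a ∈ C, ∀ b ∈ C, a * b = b * a := by
    intro a ha b hb
    letI := hC.commGroup
    have := mul_comm (⟨a, ha⟩ : C) ⟨b, hb⟩
    exact congrArg Subtype.val this
  have hMle : M ≤ Subgroup.normalizer ((P : Subgroup S) : Set S) := by
    have key : ∀ m ∈ M, ∀ y ∈ (P : Subgroup S), m * y * m⁻¹ ∈ (P : Subgroup S) := by
      intro m hm y hy
      have hyC : m * y * m⁻¹ ∈ C := by
        have := hCn.conj_mem ⟨y, hCM (hP hy)⟩ (by rw [Subgroup.mem_subgroupOf]; exact hP hy) ⟨m, hm⟩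
        rw [Subgroup.mem_subgroupOf] at this
        simpa using this
      have hz : IsPGroup p (Subgroup.zpowers (m * y * m⁻¹)) := by
        have h1 : IsPGroup p (Subgroup.zpowers y) :=
          P.isPGroup'.to_le (by rw [Subgroup.zpowers_le]; exact hy)
        have h2 : (Subgroup.zpowers y).map (MulAut.conj m).toMonoidHom =
            Subgroup.zpowers (m * y * m⁻¹) := by
          rw [MonoidHom.map_zpowers]
          rfl
        rw [← h2]
        exact h1.map _
      have hnorm : Subgroup.zpowers (m * y * m⁻¹) ≤
          Subgroup.normalizer ((P : Subgroup S) : Set S) := by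
        rw [Subgroup.zpowers_le, Subgroup.mem_normalizer_iff]
        intro h
        constructor
        · intro hh
          have : m * y * m⁻¹ * h * (m * y * m⁻¹)⁻¹ = h := by
            rw [hcomm _ hyC _ (hP hh)]
            group
          rw [this]; exact hh
        · intro hh
          have h3 := hcomm _ hyC _ (hP hh)
          have h4 : h = (m * y * m⁻¹)⁻¹ * (m * y * m⁻¹ * h * (m * y * m⁻¹)⁻¹) * (m * y * m⁻¹) := by
            group
          have h5 : (m * y * m⁻¹)⁻¹ * (m * y * m⁻¹ * h * (m * y * m⁻¹)⁻¹) * (m * y * m⁻¹) =
              m * y * m⁻¹ * h * (m * y * m⁻¹)⁻¹ := by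
            rw [mul_assoc ((m * y * m⁻¹)⁻¹), ← h3]
            group
          rw [h4, h5]
          exact hh
      have hsup := hz.to_sup_of_normal_right' P.isPGroup' hnorm
      have heq := P.is_maximal' hsup le_sup_right
      have : Subgroup.zpowers (m * y * m⁻¹) ≤ (P : Subgroup S) := by
        rw [← heq]; exact le_sup_left
      exact this (Subgroup.mem_zpowers _)
    intro m hm
    rw [Subgroup.mem_normalizer_iff]
    intro h
    constructor
    · exact key m hm h
    · intro hh
      have := key m⁻¹ (M.inv_mem hm) _ hh
      have e : m⁻¹ * (m * h * m⁻¹) * m⁻¹⁻¹ = h := by group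
      rwa [e] at this
  have hne : Subgroup.normalizer ((P : Subgroup S) : Set S) ≠ ⊤ := by
    intro htop
    rw [Subgroup.normalizer_eq_top_iff] at htop
    rcases htop.eq_bot_or_eq_top with h0 | h1
    · exact P.ne_bot_of_dvd_card hp h0
    · apply hS
      constructor
      constructor
      intro a b
      have ha : a ∈ C := hP (by rw [h1]; exact Subgroup.mem_top a)
      have hb : b ∈ C := hP (by rw [h1]; exact Subgroup.mem_top b)
      exact hcomm a ha b hb
  have heq : Subgroup.normalizer ((P : Subgroup S) : Set S) = M := by
    by_contra hneq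
    have hlt : M < Subgroup.normalizer ((P : Subgroup S) : Set S) :=
      lt_of_le_of_ne hMle (fun h => hneq h.symm)
    exact hne (hM.2 _ hlt)
  rw [P.card_eq_index_normalizer]
  change (Subgroup.normalizer ((P : Subgroup S) : Set S)).index = M.index
  rw [heq]

end Cfsg.Agent.S4344
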