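import Cfsg.Statements.S4345
import Cfsg.Agent.Lib.helper23.SylowQuot
import Cfsg.Agent.Lib.Helper1.MinNormal

set_option autoImplicit false
open Cfsg

namespace Cfsg.Agent.S4345

open Cfsg.Agent.Lib.helper23

universe u

theorem aux (p ℓ : ℕ) [Fact p.Prime] (hℓ : ℓ.Prime) : ∀ (n : ℕ) (G : Type u) [Group G] [Finite G]
    [Group.IsSolvable G], Nat.card G = n →
    ℓ ^ (Nat.card (Sylow p G)).factorization ℓ ≡ 1 [MOD p] := by
  intro n
  induction n using Nat.strong_induction_on with
  | _ n ih =>
    intro G _ _ _ hn
    by_cases hnt : Nontrivial G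
    · obtain ⟨K, hKn, hK0, hKmin⟩ := Cfsg.Agent.Lib.Helper1.exists_minimal_normal (G := G)
      haveI := hKn
      obtain ⟨_, q, hq, hqK⟩ := Cfsg.Agent.Lib.Helper1.minimal_normal_of_solvable K hK0 hKmin
      haveI : Fact q.Prime := ⟨hq⟩
      have hKpg : IsPGroup q K := by
        intro x
        refine ⟨1, ?_⟩
        rw [pow_one]
        exact Subtype.ext (hqK x x.2)
      obtain ⟨t, ht⟩ := IsPGroup.iff_card.mp hKpg
      obtain ⟨P⟩ : Nonempty (Sylow p G) := inferInstance
      have hmul := card_sylow_eq_mul K P
      set c := (Subgroup.normalizer ((P : Subgroup G) : Set G)).relIndex ((P : Subgroup G) ⊔ K)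
        with hc
      have hc1 : c ≡ 1 [MOD p] := by
        rw [hc, relIndex_eq_card_sylow_sup K P]
        exact card_sylow_modEq_one p _
      have hcdvd : c ∣ q ^ t := by
        have h1 : c ∣ (P : Subgroup G).relIndex ((P : Subgroup G) ⊔ K) :=
          Subgroup.relIndex_dvd_of_le_left _ Subgroup.le_normalizer
        have h2 : (P : Subgroup G).relIndex (K ⊔ (P : Subgroup G)) = (P : Subgroup G).relIndex K :=
          relIndex_sup_of_normal K (P : Subgroup G)
        rw [sup_comm, h2] at h1
        rw [← ht]
        exact h1.trans (Subgroup.relIndex_dvd_card _ _)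
      obtain ⟨s, -, hs⟩ := (Nat.dvd_prime_pow hq).mp hcdvd
      have hlt : Nat.card (G ⧸ K) < n := by
        rw [← hn, ← K.card_mul_index]
        have h1 : 1 < Nat.card K := by
          rw [Subgroup.one_lt_card_iff_ne_bot]; exact hK0
        have h2 : 0 < K.index := Nat.pos_of_ne_zero Subgroup.index_ne_zero_of_finite
        change K.index < _
        nlinarith
      have hih := ih _ hlt (G ⧸ K) rfl
      have hne1 : Nat.card (Sylow p (G ⧸ K)) ≠ 0 := Nat.card_pos.ne'
      have hne2 : c ≠ 0 := by
        rw [hs]; exact pow_ne_zero _ hq.ne_zero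
      rw [hmul, Nat.factorization_mul hne1 hne2, Finsupp.add_apply, pow_add]
      have hpart : ℓ ^ c.factorization ℓ ≡ 1 [MOD p] := by
        rw [hs, Nat.factorization_pow, Finsupp.smul_apply, hq.factorization]
        by_cases hql : q = ℓ
        · subst hql
          rw [Finsupp.single_eq_same, smul_eq_mul, mul_one, ← hs]
          exact hc1
        · rw [Finsupp.single_eq_of_ne (Ne.symm hql), smul_zero, pow_zero]
      have := Nat.ModEq.mul hih hpart
      rw [mul_one] at this
      exact this
    · rw [not_nontrivial_iff_subsingleton] at hnt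
      have : Nat.card (Sylow p G) = 1 := by
        haveI : Subsingleton (Sylow p G) := by
          constructor
          intro P Q
          apply Sylow.ext
          exact Subsingleton.elim _ _
        exact Nat.card_unique
      rw [this, Nat.factorization_one, Finsupp.zero_apply, pow_zero]

/-- Let G be a finite solvable group and p, ℓ primes. Then the largest power of ℓ dividing the number of Sylow p-subgroups of G is congruent to 1 modulo p. -/
theorem result {G : Type*} [Group G] [Finite G]
    (hG : Group.IsSolvable G) (p ℓ : ℕ) [Fact p.Prime] (hℓ : ℓ.Prime) :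
    ℓ ^ (Nat.card (Sylow p G)).factorization ℓ ≡ 1 [MOD p] := by
  exact aux p ℓ hℓ _ G rfl

end Cfsg.Agent.S4345
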