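import Cfsg.Statements.S4347
import Cfsg.Agent.Lib.helper23.SylowBasic

set_option autoImplicit false
open Cfsg

namespace Cfsg.Agent.S4347

open Cfsg.Agent.Lib.helper23

/-- Let G be a finite group and p a prime. Say a Sylow p-subgroup Q is redundant when every element of p-power order lies in some Sylow p-subgroup other than Q. Then G has no redundant Sylow p-subgroup if and only if some element of p-power order lies in exactly one Sylow p-subgroup. -/
theorem result {G : Type*} [Group G] [Finite G]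
    (p : ℕ) [Fact p.Prime] :
    (¬ ∃ Q : Sylow p G, ∀ x : G, (∃ k : ℕ, orderOf x = p ^ k) → ∃ P : Sylow p G, P ≠ Q ∧ x ∈ P) ↔
      ∃ x : G, (∃ k : ℕ, orderOf x = p ^ k) ∧ ∃! P : Sylow p G, x ∈ P := by
  constructor
  · intro h
    by_contra hcon
    apply h
    obtain ⟨Q⟩ : Nonempty (Sylow p G) := inferInstance
    refine ⟨Q, ?_⟩
    intro x hx
    obtain ⟨k, hk⟩ := hx
    obtain ⟨P₁, hP₁⟩ := exists_sylow_mem_of_orderOf hk
    by_cases hPQ : P₁ = Q
    · by_contra hno
      apply hcon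
      refine ⟨x, ⟨k, hk⟩, P₁, hP₁, ?_⟩
      intro P₂ hP₂
      by_contra hne
      apply hno
      exact ⟨P₂, fun h => hne (h.trans hPQ.symm), hP₂⟩
    · exact ⟨P₁, hPQ, hP₁⟩
  · rintro ⟨x, ⟨k, hk⟩, P₀, hP₀, huniq⟩ ⟨Q, hQ⟩
    obtain ⟨g, hg⟩ := MulAction.exists_smul_eq G P₀ Q
    have hy : ∃ k : ℕ, orderOf (g * x * g⁻¹) = p ^ k := ⟨k, by rw [orderOf_conj_eq, hk]⟩
    obtain ⟨P, hPQ, hyP⟩ := hQ _ hy
    have h1 : x ∈ (g⁻¹ • P : Sylow p G) := by
      have := (mem_smul_sylow_iff g⁻¹ P x).mpr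
      apply this
      rw [inv_inv]
      exact hyP
    have h2 := huniq _ h1
    apply hPQ
    rw [← hg, ← h2, smul_inv_smul]

end Cfsg.Agent.S4347
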