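import Cfsg.Statements.S4349
import Cfsg.Agent.Lib.Helper20.UniqSylF

set_option autoImplicit false
open Cfsg

namespace Cfsg.Agent.S4349



/-- Let n ≥ 2 and let x be an element of 2-power order of the symmetric group of degree n. Then x lies in exactly one Sylow 2-subgroup if and only if x has at most two fixed points and the nontrivial cycles of x have pairwise different lengths. -/
theorem result (n : ℕ) (hn : 2 ≤ n)
    (x : Equiv.Perm (Fin n)) (hx : ∃ k : ℕ, orderOf x = 2 ^ k) :
    (∃! P : Sylow 2 (Equiv.Perm (Fin n)), x ∈ P) ↔ (n ≤ x.support.card + 2 ∧ x.cycleType.Nodup) := by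
  classical
  haveI : Fact (Nat.Prime 2) := ⟨Nat.prime_two⟩
  constructor
  · rintro ⟨P, hxP, huniq⟩
    have hR : ∀ R : Subgroup (Equiv.Perm (Fin n)), IsPGroup 2 R → x ∈ R →
        R ≤ (P : Subgroup (Equiv.Perm (Fin n))) := by
      intro R hR hxR
      obtain ⟨Q, hQ⟩ := hR.exists_le_sylow
      have := huniq Q (hQ hxR)
      rw [← this]; exact hQ
    have := Cfsg.Agent.Lib.Helper20.UniqSyl.cond_of_unique hx P.2 hR
    simpa using this
  · rintro ⟨h1, h2⟩
    have hC := Cfsg.Agent.Lib.Helper20.UniqSyl.cond_univ_of (x := x) (by simpa using h1) h2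
    obtain ⟨k, hk⟩ := hx
    have hz : IsPGroup 2 (Subgroup.zpowers x) :=
      IsPGroup.of_card (n := k) (by rw [Nat.card_zpowers, hk])
    obtain ⟨P, hP⟩ := hz.exists_le_sylow
    refine ⟨P, hP (Subgroup.mem_zpowers x), ?_⟩
    intro Q hQ
    exact Cfsg.Agent.Lib.Helper20.UniqSyl.sylow_unique_of_cond hC Q P hQ (hP (Subgroup.mem_zpowers x))

end Cfsg.Agent.S4349
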