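import Cfsg.Statements.S4356

import Cfsg.Agent.S4357
set_option autoImplicit false
open Cfsg

namespace Cfsg.Agent.S4356


open Cfsg.Agent.Lib.helper15 Cfsg.Agent.S2508

section Transfer

variable {G : Type*} [Group G] [Finite G] {p : ℕ} [Fact p.Prime]

def Red (p : ℕ) [Fact p.Prime] (G : Type*) [Group G] : Prop :=
  ∃ Q : Sylow p G, ∀ x : G, (∃ k : ℕ, orderOf x = p ^ k) → ∃ P : Sylow p G, P ≠ Q ∧ x ∈ P

theorem pelt_of_mem_sylow {H : Type*} [Group H] (P : Sylow p H) (y : H) (hy : y ∈ P) :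
    ∃ k : ℕ, orderOf y = p ^ k := by
  obtain ⟨k, hk⟩ := P.isPGroup' ⟨y, hy⟩
  have hk' : y ^ p ^ k = 1 := by
    have := congrArg Subtype.val hk
    simpa using this
  have hd := orderOf_dvd_of_pow_eq_one hk'
  obtain ⟨j, _, hj⟩ := (Nat.dvd_prime_pow Fact.out).mp hd
  exact ⟨j, hj⟩

theorem normal_le_sylow (N : Subgroup G) [N.Normal] (hN : IsPGroup p N) (P : Sylow p G) :
    N ≤ P := by
  have hsup : IsPGroup p ((P : Subgroup G) ⊔ N : Subgroup G) :=
    IsPGroup.to_sup_of_normal_right P.isPGroup' hN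
  have h1 : ((P : Subgroup G) ⊔ N) = P := P.is_maximal' hsup le_sup_left
  rw [← h1]
  exact le_sup_right

theorem key_mem (N : Subgroup G) [N.Normal] (hNc : N ≤ Subgroup.center G)
    (hN : IsPGroup p N ∨ ∀ n ∈ N, ∀ m : ℕ, n ^ (p ^ m) = 1 → n = 1)
    (P : Sylow p G) (x : G) (hx : ∃ k : ℕ, orderOf x = p ^ k)
    (h : (QuotientGroup.mk' N) x ∈ (P : Subgroup G).map (QuotientGroup.mk' N)) : x ∈ P := by
  obtain ⟨y, hy, hyx⟩ := Subgroup.mem_map.mp h
  have hn : y⁻¹ * x ∈ N := by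
    rw [← QuotientGroup.eq]
    exact hyx
  have hxy : x = y * (y⁻¹ * x) := by group
  rcases hN with hN | hN
  · rw [hxy]
    exact Subgroup.mul_mem _ hy (normal_le_sylow N hN P hn)
  · obtain ⟨k, hk⟩ := hx
    obtain ⟨j, hj⟩ := pelt_of_mem_sylow P y hy
    have hcomm : Commute y (y⁻¹ * x) := by
      have := Subgroup.mem_center_iff.mp (hNc hn) y
      exact this
    have hpow : (y⁻¹ * x) ^ (p ^ (k + j)) = 1 := by
      have h1 : x ^ (p ^ (k + j)) = 1 := by
        rw [pow_add, pow_mul, ← hk, pow_orderOf_eq_one, one_pow]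
      have h2 : y ^ (p ^ (k + j)) = 1 := by
        rw [pow_add, mul_comm, pow_mul, ← hj, pow_orderOf_eq_one, one_pow]
      have h3 : x ^ (p ^ (k + j)) = y ^ (p ^ (k + j)) * (y⁻¹ * x) ^ (p ^ (k + j)) := by
        rw [← hcomm.mul_pow, ← hxy]
      rw [h1, h2, one_mul] at h3
      exact h3.symm
    have := hN _ hn _ hpow
    rw [hxy, this, mul_one]
    exact hy

theorem red_iff (N : Subgroup G) [N.Normal] (hNc : N ≤ Subgroup.center G)
    (hN : IsPGroup p N ∨ ∀ n ∈ N, ∀ m : ℕ, n ^ (p ^ m) = 1 → n = 1) :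
    Red p G ↔ Red p (G ⧸ N) := by
  have hf : Function.Surjective (QuotientGroup.mk' N) := QuotientGroup.mk'_surjective N
  constructor
  · rintro ⟨Q, hQ⟩
    refine ⟨Q.mapSurjective hf, fun y hy => ?_⟩
    obtain ⟨k, hk⟩ := hy
    have hz : IsPGroup p (Subgroup.zpowers y) := by
      apply IsPGroup.of_card (n := k)
      rw [Nat.card_zpowers, hk]
    obtain ⟨P₀', hP₀'⟩ := hz.exists_le_sylow
    obtain ⟨P₀, rfl⟩ := Sylow.mapSurjective_surjective hf p P₀'
    have hy0 : y ∈ (P₀ : Subgroup G).map (QuotientGroup.mk' N) :=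
      hP₀' (Subgroup.mem_zpowers y)
    obtain ⟨x, hx, rfl⟩ := Subgroup.mem_map.mp hy0
    obtain ⟨P, hPQ, hxP⟩ := hQ x (pelt_of_mem_sylow P₀ x hx)
    refine ⟨P.mapSurjective hf, ?_, ?_⟩
    · intro heq
      apply hPQ
      have heq' : (P : Subgroup G).map (QuotientGroup.mk' N) =
          (Q : Subgroup G).map (QuotientGroup.mk' N) := by
        have := congrArg (fun R : Sylow p (G ⧸ N) => (R : Subgroup (G ⧸ N))) heq
        simpa using this
      have hle : (P : Subgroup G) ≤ Q := by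
        intro a ha
        apply key_mem N hNc hN Q a (pelt_of_mem_sylow P a ha)
        rw [← heq']
        exact Subgroup.mem_map_of_mem _ ha
      exact Sylow.ext (P.is_maximal' Q.isPGroup' hle).symm
    · show (QuotientGroup.mk' N) x ∈ (P : Subgroup G).map (QuotientGroup.mk' N)
      exact Subgroup.mem_map_of_mem _ hxP
  · rintro ⟨Q', hQ'⟩
    obtain ⟨Q, rfl⟩ := Sylow.mapSurjective_surjective hf p Q'
    refine ⟨Q, fun x hx => ?_⟩
    obtain ⟨k, hk⟩ := hx
    have hpx : ∃ j : ℕ, orderOf ((QuotientGroup.mk' N) x) = p ^ j := by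
      have hd : orderOf ((QuotientGroup.mk' N) x) ∣ p ^ k := by
        rw [← hk]
        exact orderOf_map_dvd _ x
      obtain ⟨j, _, hj⟩ := (Nat.dvd_prime_pow Fact.out).mp hd
      exact ⟨j, hj⟩
    obtain ⟨P', hPQ', hxP'⟩ := hQ' _ hpx
    obtain ⟨P, rfl⟩ := Sylow.mapSurjective_surjective hf p P'
    refine ⟨P, ?_, ?_⟩
    · rintro rfl
      exact hPQ' rfl
    · exact key_mem N hNc hN P x ⟨k, hk⟩ hxP'

end Transfer

section Center

variable {F : Type*} [Field F] [Fintype F]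

theorem center_cases (n : Matrix.SpecialLinearGroup (Fin 2) F)
    (hn : n ∈ Subgroup.center (Matrix.SpecialLinearGroup (Fin 2) F)) : n = 1 ∨ n = -1 := by
  obtain ⟨c, _, hc⟩ := (mem_center_iff' n).mp hn
  exact scalar_cases n c hc

theorem center_hyp (p : ℕ) [Fact p.Prime] :
    IsPGroup p (Subgroup.center (Matrix.SpecialLinearGroup (Fin 2) F)) ∨
      ∀ n ∈ Subgroup.center (Matrix.SpecialLinearGroup (Fin 2) F), ∀ m : ℕ,
        n ^ (p ^ m) = 1 → n = 1 := by
  by_cases hp : p = 2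
  · left
    subst hp
    intro g
    refine ⟨1, ?_⟩
    apply Subtype.ext
    rcases center_cases g.1 g.2 with h | h
    · simp [h]
    · simp [h]
  · right
    intro n hn m hm
    rcases center_cases n hn with h | h
    · exact h
    · have hodd : Odd (p ^ m) := by
        apply Odd.pow
        exact (Nat.Prime.eq_two_or_odd' Fact.out).resolve_left hp
      rw [h, hodd.neg_one_pow] at hm
      rw [h, hm]

end Center

/-- Let F be a finite field with q elements, p a prime and G = PSL(2, F). Say a Sylow p-subgroup Q of G is redundant when every element of p-power order lies in some Sylow p-subgroup other than Q. Then G has a redundant Sylow p-subgroup if and only if p = 2 and q is not of any of the forms 2ᵏ - 1, 2ᵏ, 2ᵏ + 1. -/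
theorem result {F : Type*} [Field F] [Fintype F] (p : ℕ) [Fact p.Prime] :
    (∃ Q : Sylow p (Matrix.ProjectiveSpecialLinearGroup (Fin 2) F), ∀ x : Matrix.ProjectiveSpecialLinearGroup (Fin 2) F,
        (∃ k : ℕ, orderOf x = p ^ k) → ∃ P : Sylow p (Matrix.ProjectiveSpecialLinearGroup (Fin 2) F), P ≠ Q ∧ x ∈ P) ↔
      (p = 2 ∧ (¬ ∃ k : ℕ, Fintype.card F + 1 = 2 ^ k) ∧ (¬ ∃ k : ℕ, Fintype.card F = 2 ^ k) ∧
        ¬ ∃ k : ℕ, Fintype.card F = 2 ^ k + 1) := by
  have h1 := red_iff (p := p) (Subgroup.center (Matrix.SpecialLinearGroup (Fin 2) F)) le_rfl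
    (center_hyp p)
  have h2 := Cfsg.Agent.S4357.result (F := F) p
  exact h1.symm.trans h2

end Cfsg.Agent.S4356
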