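import Cfsg.Statements.S4365
import Mathlib

set_option autoImplicit false
open Cfsg

namespace Cfsg.Agent.S4365

variable {P : Type*} [Group P]

theorem mem_cn {u g : P} : g ∈ Subgroup.centralizer ({u} : Set P) ↔ g * u = u * g :=
  Subgroup.mem_centralizer_singleton_iff

theorem center_le_cn (u : P) : Subgroup.center P ≤ Subgroup.centralizer ({u} : Set P) := by
  intro g hg
  rw [mem_cn]
  exact ((Subgroup.mem_center_iff.mp hg) u).symm

theorem cn_mul_central (u : P) {c : P} (hc : c ∈ Subgroup.center P) :
    Subgroup.centralizer ({u * c} : Set P) = Subgroup.centralizer ({u} : Set P) := by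
  have hc' := Subgroup.mem_center_iff.mp hc
  ext g
  rw [mem_cn, mem_cn]
  constructor
  · intro h
    have : g * u * c = u * g * c := by
      calc g * u * c = g * (u * c) := by group
        _ = u * c * g := h
        _ = u * (c * g) := by group
        _ = u * (g * c) := by rw [hc' g]
        _ = u * g * c := by group
    exact mul_right_cancel this
  · intro h
    calc g * (u * c) = g * u * c := by group
      _ = u * g * c := by rw [h]
      _ = u * (g * c) := by group
      _ = u * (c * g) := by rw [hc' g]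
      _ = u * c * g := by group

theorem cn_eq_of_le [Finite P] {m : ℕ}
    (hm : ∀ u : P, u ∉ Subgroup.center P → (Subgroup.centralizer ({u} : Set P)).index = m)
    {u v : P} (hu : u ∉ Subgroup.center P) (hv : v ∉ Subgroup.center P)
    (hle : Subgroup.centralizer ({u} : Set P) ≤ Subgroup.centralizer ({v} : Set P)) :
    Subgroup.centralizer ({u} : Set P) = Subgroup.centralizer ({v} : Set P) := by
  apply le_antisymm hle
  rw [← Subgroup.relIndex_eq_one]
  have h := Subgroup.relIndex_mul_index hle
  rw [hm u hu, hm v hv] at h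
  have hm0 : m ≠ 0 := by
    rw [← hm u hu]; exact Subgroup.index_ne_zero_of_finite
  exact Nat.eq_of_mul_eq_mul_right (Nat.pos_of_ne_zero hm0) (by rw [h, one_mul])

theorem cn_pow_eq [Finite P] {m : ℕ}
    (hm : ∀ u : P, u ∉ Subgroup.center P → (Subgroup.centralizer ({u} : Set P)).index = m)
    {y : P} {k : ℕ} (hy : y ^ k ∉ Subgroup.center P) :
    Subgroup.centralizer ({y} : Set P) = Subgroup.centralizer ({y ^ k} : Set P) := by
  have hy0 : y ∉ Subgroup.center P := fun h => hy (pow_mem h k)
  apply cn_eq_of_le hm hy0 hy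
  intro g hg
  rw [mem_cn] at hg ⊢
  exact (Commute.pow_right (show Commute g y from hg) k)

/-- every element with non-central `p`-th power has the same centralizer as `z` -/
theorem cn_eq_cn_z [Finite P] {m p : ℕ}
    (hm : ∀ u : P, u ∉ Subgroup.center P → (Subgroup.centralizer ({u} : Set P)).index = m)
    {z : P} (hz : z ∉ Subgroup.center P)
    (hzp : (QuotientGroup.mk z : P ⧸ Subgroup.center P) ^ p = 1)
    (hzc : ∀ t : P, Commute (QuotientGroup.mk t : P ⧸ Subgroup.center P) (QuotientGroup.mk z))
    {y : P} (hy : y ^ p ∉ Subgroup.center P) :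
    Subgroup.centralizer ({y} : Set P) = Subgroup.centralizer ({z} : Set P) := by
  have hy0 : y ∉ Subgroup.center P := fun h => hy (pow_mem h p)
  have h1 := cn_pow_eq hm hy
  -- the p-th power of y*z
  have hq : (QuotientGroup.mk ((y * z) ^ p) : P ⧸ Subgroup.center P) = QuotientGroup.mk (y ^ p) := by
    rw [QuotientGroup.mk_pow, QuotientGroup.mk_mul, (hzc y).mul_pow, hzp, mul_one, QuotientGroup.mk_pow]
  have hz' : (y ^ p)⁻¹ * (y * z) ^ p ∈ Subgroup.center P := QuotientGroup.eq.mp hq.symm
  have heq : (y * z) ^ p = y ^ p * ((y ^ p)⁻¹ * (y * z) ^ p) := by group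
  have hyz : (y * z) ^ p ∉ Subgroup.center P := by
    intro h
    apply hy
    have : y ^ p = (y * z) ^ p * ((y ^ p)⁻¹ * (y * z) ^ p)⁻¹ := by group
    rw [this]
    exact mul_mem h (inv_mem hz')
  have h2 := cn_pow_eq hm hyz
  have h3 : Subgroup.centralizer ({(y * z) ^ p} : Set P) = Subgroup.centralizer ({y ^ p} : Set P) := by
    rw [heq]; exact cn_mul_central _ hz'
  have h4 : Subgroup.centralizer ({y * z} : Set P) = Subgroup.centralizer ({y} : Set P) := by
    rw [h2, h3, ← h1]
  apply cn_eq_of_le hm hy0 hz
  intro g hg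
  have hg2 : g ∈ Subgroup.centralizer ({y * z} : Set P) := h4 ▸ hg
  rw [mem_cn] at hg hg2 ⊢
  have : y * (g * z) = y * (z * g) := by
    calc y * (g * z) = (y * g) * z := by group
      _ = g * y * z := by rw [hg]
      _ = g * (y * z) := by group
      _ = y * z * g := hg2
      _ = y * (z * g) := by group
  exact mul_left_cancel this

theorem main [Finite P] {m p : ℕ}
    (hm : ∀ u : P, u ∉ Subgroup.center P → (Subgroup.centralizer ({u} : Set P)).index = m)
    {z : P} (hz : z ∉ Subgroup.center P)
    (hzp : (QuotientGroup.mk z : P ⧸ Subgroup.center P) ^ p = 1)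
    (hzc : ∀ t : P, Commute (QuotientGroup.mk t : P ⧸ Subgroup.center P) (QuotientGroup.mk z))
    (x : P) : x ^ p ∈ Subgroup.center P := by
  by_contra hx
  have hx0 : x ∉ Subgroup.center P := fun h => hx (pow_mem h p)
  have F3 : ∀ {y : P}, y ^ p ∉ Subgroup.center P →
      Subgroup.centralizer ({y} : Set P) = Subgroup.centralizer ({z} : Set P) :=
    fun {y} hy => cn_eq_cn_z hm hz hzp hzc hy
  have hCx := F3 hx
  have hm0 : 0 < m := by
    rw [← hm x hx0]; exact Nat.pos_of_ne_zero Subgroup.index_ne_zero_of_finite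
  have memC : ∀ {y : P}, y ^ p ∉ Subgroup.center P → y ∈ Subgroup.centralizer ({z} : Set P) := by
    intro y hy
    rw [← F3 hy, mem_cn]
  have hxC : x ∈ Subgroup.centralizer ({z} : Set P) := memC hx
  -- F6
  have F6 : ∀ g : P, g ∉ Subgroup.centralizer ({z} : Set P) → g ^ p ∈ Subgroup.center P := by
    intro g hg
    by_contra h
    exact hg (memC h)
  -- F4: abelian
  have F4 : ∀ c ∈ Subgroup.centralizer ({z} : Set P), ∀ d ∈ Subgroup.centralizer ({z} : Set P),
      d * c = c * d := by
    intro c hc d hd
    by_contra hcd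
    have hcp : c ^ p ∈ Subgroup.center P := by
      by_contra h
      apply hcd
      have : d ∈ Subgroup.centralizer ({c} : Set P) := by rw [F3 h]; exact hd
      exact mem_cn.mp this
    have hcx : Commute c x := by
      have : c ∈ Subgroup.centralizer ({x} : Set P) := by rw [hCx]; exact hc
      exact mem_cn.mp this
    have hdx : d * x = x * d := by
      have : d ∈ Subgroup.centralizer ({x} : Set P) := by rw [hCx]; exact hd
      exact mem_cn.mp this
    have hcxp : (c * x) ^ p ∈ Subgroup.center P := by
      by_contra h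
      apply hcd
      have : d ∈ Subgroup.centralizer ({c * x} : Set P) := by rw [F3 h]; exact hd
      have h' : d * (c * x) = c * x * d := mem_cn.mp this
      have : d * c * x = c * d * x := by
        calc d * c * x = d * (c * x) := by group
          _ = c * x * d := h'
          _ = c * (x * d) := by group
          _ = c * (d * x) := by rw [hdx]
          _ = c * d * x := by group
      exact mul_right_cancel this
    apply hx
    have : x ^ p = (c ^ p)⁻¹ * (c * x) ^ p := by
      rw [hcx.mul_pow]; group
    rw [this]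
    exact mul_mem (inv_mem hcp) hcxp
  -- F7
  have F7 : ∀ u ∈ Subgroup.centralizer ({z} : Set P), u ∉ Subgroup.center P →
      Subgroup.centralizer ({u} : Set P) = Subgroup.centralizer ({z} : Set P) := by
    intro u hu hu0
    refine (cn_eq_of_le hm hz hu0 ?_).symm
    intro d hd
    rw [mem_cn]
    exact F4 u hu d hd
  -- a g outside C
  obtain ⟨g, hg⟩ : ∃ g : P, g ∉ Subgroup.centralizer ({z} : Set P) := by
    by_contra h
    push Not at h
    apply hz
    rw [Subgroup.mem_center_iff]
    intro t
    exact mem_cn.mp (h t)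
  have hg0 : g ∉ Subgroup.center P := fun h => hg (center_le_cn z h)
  -- F8
  have hinf : Subgroup.centralizer ({g} : Set P) ⊓ Subgroup.centralizer ({z} : Set P) = Subgroup.center P := by
    apply le_antisymm
    · intro u hu
      by_contra hu0
      apply hg
      rw [← F7 u hu.2 hu0, mem_cn]
      exact (mem_cn.mp hu.1).symm
    · exact le_inf (center_le_cn g) (center_le_cn z)
  have hidx : (Subgroup.center P).index ≤ m * m := by
    have := Subgroup.index_inf_le (H := Subgroup.centralizer ({g} : Set P)) (K := Subgroup.centralizer ({z} : Set P))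
    rw [hinf, hm g hg0, hm z hz] at this
    exact this
  have hcardC : Nat.card (Subgroup.centralizer ({z} : Set P)) ≤ m * Nat.card (Subgroup.center P) := by
    have h1 : Nat.card (Subgroup.centralizer ({z} : Set P)) * m = Nat.card P := by
      rw [← hm z hz]; exact Subgroup.card_mul_index _
    have h2 : Nat.card (Subgroup.center P) * (Subgroup.center P).index = Nat.card P :=
      Subgroup.card_mul_index _
    have h3 : Nat.card (Subgroup.centralizer ({z} : Set P)) * m ≤ (m * Nat.card (Subgroup.center P)) * m := by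
      rw [h1, ← h2]
      calc Nat.card (Subgroup.center P) * (Subgroup.center P).index
          ≤ Nat.card (Subgroup.center P) * (m * m) := Nat.mul_le_mul_left _ hidx
        _ = (m * Nat.card (Subgroup.center P)) * m := by ring
    exact Nat.le_of_mul_le_mul_right h3 hm0
  -- conjugates of x lie in C
  have hconj : ∀ t : P, t * x * t⁻¹ ∈ Subgroup.centralizer ({z} : Set P) := by
    intro t
    apply memC
    intro h
    apply hx
    have h' : (t * x * t⁻¹) ^ p = t * x ^ p * t⁻¹ := conj_pow
    rw [h'] at h
    have := (Subgroup.center P).normal_of_characteristic.conj_mem _ h t⁻¹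
    simpa [mul_assoc] using this
  -- the map
  let Φ : (P ⧸ Subgroup.centralizer ({z} : Set P)) × Subgroup.center P →
      Subgroup.centralizer ({z} : Set P) := fun qc =>
    ⟨x⁻¹ * (qc.1.out * x * qc.1.out⁻¹) * qc.2.1,
      mul_mem (mul_mem (inv_mem hxC) (hconj _)) (center_le_cn z qc.2.2)⟩
  have hΦinj : Function.Injective Φ := by
    rintro ⟨q₁, c₁⟩ ⟨q₂, c₂⟩ h
    have h' : x⁻¹ * (q₁.out * x * q₁.out⁻¹) * c₁.1 = x⁻¹ * (q₂.out * x * q₂.out⁻¹) * c₂.1 :=
      congrArg Subtype.val h
    obtain ⟨t, ht⟩ : ∃ t : P, t = q₁.out := ⟨_, rfl⟩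
    obtain ⟨s, hs⟩ : ∃ s : P, s = q₂.out := ⟨_, rfl⟩
    rw [← ht, ← hs] at h'
    have hc1 := Subgroup.mem_center_iff.mp c₁.2
    have hc2 := Subgroup.mem_center_iff.mp c₂.2
    obtain ⟨e, he⟩ : ∃ e : P, e = c₂.1 * c₁.1⁻¹ := ⟨_, rfl⟩
    have heZ : e ∈ Subgroup.center P := he ▸ mul_mem c₂.2 (inv_mem c₁.2)
    have hec := Subgroup.mem_center_iff.mp heZ
    -- r x r⁻¹ = x e
    have hr : (s⁻¹ * t) * x * (s⁻¹ * t)⁻¹ = x * e := by
      have h1 : t * x * t⁻¹ = s * x * s⁻¹ * e := by
        have : t * x * t⁻¹ * c₁.1 = s * x * s⁻¹ * c₂.1 := by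
          have := congrArg (fun w => x * w) h'
          simpa [mul_assoc] using this
        rw [he]
        calc t * x * t⁻¹ = t * x * t⁻¹ * c₁.1 * c₁.1⁻¹ := by group
          _ = s * x * s⁻¹ * c₂.1 * c₁.1⁻¹ := by rw [this]
          _ = s * x * s⁻¹ * (c₂.1 * c₁.1⁻¹) := by group
      calc (s⁻¹ * t) * x * (s⁻¹ * t)⁻¹ = s⁻¹ * (t * x * t⁻¹) * s := by group
        _ = s⁻¹ * (s * x * s⁻¹ * e) * s := by rw [h1]
        _ = x * (s⁻¹ * (e * s)) := by group
        _ = x * (s⁻¹ * (s * e)) := by rw [← hec s]
        _ = x * e := by group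
    obtain ⟨r, hr0⟩ : ∃ r : P, r = s⁻¹ * t := ⟨_, rfl⟩
    rw [← hr0] at hr
    have hrC : r ∈ Subgroup.centralizer ({z} : Set P) := by
      by_contra hrC
      have hrp := F6 r hrC
      have hpow : ∀ k : ℕ, r ^ k * x * (r ^ k)⁻¹ = x * e ^ k := by
        intro k
        induction k with
        | zero => simp
        | succ k ih =>
          calc r ^ (k + 1) * x * (r ^ (k + 1))⁻¹ = r * (r ^ k * x * (r ^ k)⁻¹) * r⁻¹ := by
                rw [pow_succ']; group
            _ = r * (x * e ^ k) * r⁻¹ := by rw [ih]
            _ = (r * x * r⁻¹) * (r * e ^ k * r⁻¹) := by group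
            _ = (x * e) * (r * e ^ k * r⁻¹) := by rw [hr]
            _ = (x * e) * (e ^ k) := by
                have : r * e ^ k = e ^ k * r := Subgroup.mem_center_iff.mp (pow_mem heZ k) r
                rw [this]; group
            _ = x * e ^ (k + 1) := by rw [pow_succ']; group
      have hep : e ^ p = 1 := by
        have h1 := hpow p
        have h2 : r ^ p * x = x * r ^ p := Subgroup.mem_center_iff.mp hrp x |>.symm
        rw [h2] at h1
        have : x = x * e ^ p := by
          calc x = x * r ^ p * (r ^ p)⁻¹ := by group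
            _ = x * e ^ p := h1
        exact (mul_eq_left.mp this.symm)
      have hxe : Commute x e := hec x
      have h3 : r * x ^ p * r⁻¹ = x ^ p := by
        have : r * x ^ p * r⁻¹ = (r * x * r⁻¹) ^ p := conj_pow.symm
        rw [this, hr, hxe.mul_pow, hep, mul_one]
      have hxpC : x ^ p ∈ Subgroup.centralizer ({z} : Set P) := pow_mem hxC p
      apply hrC
      rw [← F7 (x ^ p) hxpC hx, mem_cn]
      calc r * x ^ p = (r * x ^ p * r⁻¹) * r := by group
        _ = x ^ p * r := by rw [h3]
    -- so r commutes with x, e = 1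
    have hrx : r * x = x * r := by
      have : r ∈ Subgroup.centralizer ({x} : Set P) := by rw [hCx]; exact hrC
      exact mem_cn.mp this
    have he1 : e = 1 := by
      have : x * e = x := by
        rw [← hr, hrx]; group
      exact mul_eq_left.mp this
    have hq : q₂ = q₁ := by
      have h1 : (QuotientGroup.mk s : P ⧸ Subgroup.centralizer ({z} : Set P)) = QuotientGroup.mk t := by
        rw [QuotientGroup.eq, ← hr0]; exact hrC
      rw [hs, ht, QuotientGroup.out_eq', QuotientGroup.out_eq'] at h1
      exact h1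
    have hc : c₁ = c₂ := by
      apply Subtype.ext
      have : c₂.1 * c₁.1⁻¹ = 1 := he ▸ he1
      exact (mul_inv_eq_one.mp this).symm
    rw [hq, hc]
  have hcard : Nat.card (Subgroup.centralizer ({z} : Set P)) ≤
      Nat.card ((P ⧸ Subgroup.centralizer ({z} : Set P)) × Subgroup.center P) := by
    rw [Nat.card_prod]
    have : Nat.card (P ⧸ Subgroup.centralizer ({z} : Set P)) = m := by
      rw [← hm z hz]; rfl
    rw [this]
    exact hcardC
  have hbij := hΦinj.bijective_of_nat_card_le hcard
  obtain ⟨⟨q, c⟩, hqc⟩ := hbij.2 ⟨x⁻¹, inv_mem hxC⟩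
  have h' : x⁻¹ * (q.out * x * q.out⁻¹) * c.1 = x⁻¹ := congrArg Subtype.val hqc
  apply hx0
  have hcZ := Subgroup.mem_center_iff.mp c.2
  have h1 : q.out * x * q.out⁻¹ * c.1 = 1 := by
    have := congrArg (fun w => x * w) h'
    simpa [mul_assoc] using this
  have h2 : x = c.1⁻¹ := by
    have h3 : q.out * x * q.out⁻¹ = c.1⁻¹ := eq_inv_of_mul_eq_one_left h1
    calc x = q.out⁻¹ * (q.out * x * q.out⁻¹) * q.out := by group
      _ = q.out⁻¹ * c.1⁻¹ * q.out := by rw [h3]
      _ = q.out⁻¹ * (c.1⁻¹ * q.out) := by group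
      _ = q.out⁻¹ * (q.out * c.1⁻¹) := by
          rw [Subgroup.mem_center_iff.mp (inv_mem c.2) q.out]
      _ = c.1⁻¹ := by group
  rw [h2]
  exact inv_mem c.2


/-- Let P be a finite p-group whose conjugacy class sizes are exactly 1 and pᵃ for some a ≥ 1. Then every element of P has its p-th power in the center of P (P/Z(P) has exponent p). -/
theorem result {P : Type*} [Group P] [Finite P] (p : ℕ) [Fact p.Prime]
    (hP : IsPGroup p P) (a : ℕ) (ha : 1 ≤ a)
    (hcs : {k : ℕ | ∃ x : P, (Subgroup.centralizer ({x} : Set P)).index = k} = {1, p ^ a}) (x : P) :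
    x ^ p ∈ Subgroup.center P := by
  have hm : ∀ u : P, u ∉ Subgroup.center P →
      (Subgroup.centralizer ({u} : Set P)).index = p ^ a := by
    intro u hu
    have hmem : (Subgroup.centralizer ({u} : Set P)).index ∈ ({1, p ^ a} : Set ℕ) := by
      rw [← hcs]; exact ⟨u, rfl⟩
    rcases hmem with h | h
    · exfalso
      apply hu
      rw [Subgroup.index_eq_one] at h
      rw [Subgroup.mem_center_iff]
      intro g
      have : g ∈ Subgroup.centralizer ({u} : Set P) := h ▸ Subgroup.mem_top g
      exact mem_cn.mp this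
    · exact h
  by_cases hab : Subgroup.center P = ⊤
  · rw [hab]; trivial
  have hnt : Nontrivial (P ⧸ Subgroup.center P) := by
    by_contra hnt
    rw [not_nontrivial_iff_subsingleton] at hnt
    apply hab
    rw [eq_top_iff]
    intro g _
    have : (QuotientGroup.mk g : P ⧸ Subgroup.center P) = 1 := Subsingleton.elim _ _
    exact (QuotientGroup.eq_one_iff g).mp this
  have hQ : IsPGroup p (P ⧸ Subgroup.center P) := hP.to_quotient _
  have hcn : Nontrivial (Subgroup.center (P ⧸ Subgroup.center P)) := hQ.center_nontrivial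
  have hdvd : p ∣ Nat.card (Subgroup.center (P ⧸ Subgroup.center P)) := by
    rcases (hQ.to_subgroup (Subgroup.center (P ⧸ Subgroup.center P))).card_eq_or_dvd with h | h
    · exfalso
      have := Finite.one_lt_card (α := Subgroup.center (P ⧸ Subgroup.center P))
      omega
    · exact h
  obtain ⟨zb, hzb⟩ := exists_prime_orderOf_dvd_card' p hdvd
  obtain ⟨z, hz⟩ := QuotientGroup.mk_surjective zb.1
  have hzb1 : zb ≠ 1 := by
    intro h
    rw [h, orderOf_one] at hzb
    exact (Fact.out : p.Prime).one_lt.ne hzb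
  have hzbp : zb.1 ^ p = 1 := by
    have : zb ^ p = 1 := by rw [← hzb]; exact pow_orderOf_eq_one zb
    exact congrArg Subtype.val this
  apply main hm (z := z)
  · intro h
    apply hzb1
    apply Subtype.ext
    rw [← hz]
    exact (QuotientGroup.eq_one_iff z).mpr h
  · rw [hz]; exact hzbp
  · intro t
    rw [hz]
    exact Subgroup.mem_center_iff.mp zb.2 _

end Cfsg.Agent.S4365
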