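import Cfsg.Statements.S4377

set_option autoImplicit false
open Cfsg

namespace Cfsg.Agent.S4377

open Finset

theorem sol_eq_sum (G : Type*) [Group G] [Finite G] (n : ℕ) (hn : n ≠ 0) :
    Nat.card {g : G // g ^ n = 1} = ∑ d ∈ n.divisors, Nat.card {g : G // orderOf g = d} := by
  classical
  have : Fintype G := Fintype.ofFinite G
  have h := sum_card_orderOf_eq_card_pow_eq_one (G := G) hn
  rw [Nat.card_eq_fintype_card, Fintype.card_subtype, ← h]
  apply Finset.sum_congr rfl
  intro d _
  rw [Nat.card_eq_fintype_card, Fintype.card_subtype]

theorem ord_zero (G : Type*) [Group G] [Finite G] : Nat.card {g : G // orderOf g = 0} = 0 := by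
  have : IsEmpty {g : G // orderOf g = 0} := by
    constructor
    rintro ⟨g, hg⟩
    exact (orderOf_pos g).ne' hg
  exact Nat.card_of_isEmpty

theorem sol_card (G : Type*) [Group G] [Finite G] (n : ℕ) (hn : ∀ g : G, g ^ n = 1) :
    Nat.card {g : G // g ^ n = 1} = Nat.card G := by
  apply Nat.card_congr
  exact Equiv.subtypeUnivEquiv hn

/-- Two finite groups have the same number of elements of each order if and only if, for every n, they have the same number of elements g with gⁿ = 1. -/
theorem result {G H : Type*} [Group G] [Finite G] [Group H] [Finite H] :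
    (∀ n : ℕ, Nat.card {g : G // orderOf g = n} = Nat.card {h : H // orderOf h = n}) ↔
      ∀ n : ℕ, Nat.card {g : G // g ^ n = 1} = Nat.card {h : H // h ^ n = 1} := by
  constructor
  · intro h
    have hpos : ∀ n : ℕ, n ≠ 0 →
        Nat.card {g : G // g ^ n = 1} = Nat.card {h : H // h ^ n = 1} := by
      intro n hn
      rw [sol_eq_sum G n hn, sol_eq_sum H n hn]
      exact Finset.sum_congr rfl (fun d _ => h d)
    have hcard : Nat.card G = Nat.card H := by
      have hN : Nat.card G * Nat.card H ≠ 0 :=
        Nat.mul_ne_zero Nat.card_pos.ne' Nat.card_pos.ne'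
      have h1 := sol_card G (Nat.card G * Nat.card H) (fun g => by
        rw [pow_mul, pow_card_eq_one', one_pow])
      have h2 := sol_card H (Nat.card G * Nat.card H) (fun g => by
        rw [mul_comm, pow_mul, pow_card_eq_one', one_pow])
      exact h1.symm.trans ((hpos _ hN).trans h2)
    intro n
    by_cases hn : n = 0
    · subst hn
      rw [sol_card G 0 (fun g => pow_zero g), sol_card H 0 (fun g => pow_zero g)]
      exact hcard
    · exact hpos n hn
  · intro h n
    induction n using Nat.strong_induction_on with
    | _ n ih =>
      by_cases hn : n = 0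
      · subst hn
        rw [ord_zero G, ord_zero H]
      · have h1 := sol_eq_sum G n hn
        have h2 := sol_eq_sum H n hn
        rw [← Nat.cons_self_properDivisors hn, Finset.sum_cons] at h1 h2
        have h3 : ∑ d ∈ n.properDivisors, Nat.card {g : G // orderOf g = d} =
            ∑ d ∈ n.properDivisors, Nat.card {g : H // orderOf g = d} := by
          apply Finset.sum_congr rfl
          intro d hd
          exact ih d (Nat.mem_properDivisors.mp hd).2
        have h4 := h n
        rw [h1, h2, h3] at h4
        exact Nat.add_right_cancel h4

end Cfsg.Agent.S4377
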