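import Cfsg.Statements.S4381
import Cfsg.Agent.Lib.helper23.MaschkeGrp
import Cfsg.Agent.Lib.helper23.ExtSylow
import Cfsg.Agent.Lib.Helper1.Frat

set_option autoImplicit false
open Cfsg

namespace Cfsg.Agent.S4381

open Cfsg.Agent.Lib.helper23
open scoped Pointwise commutatorElement

section

variable (A : Type*) {G : Type*} [Group A] [Group G] [MulDistribMulAction A G]

/-- invariance of a subgroup -/
def Inv (L : Subgroup G) : Prop := ∀ a : A, ∀ x ∈ L, a • x ∈ L

/-- maximal invariant subgroups -/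
def MaxInv (M : Subgroup G) : Prop :=
  M ≠ ⊤ ∧ (∀ a : A, ∀ x ∈ M, a • x ∈ M) ∧
    ∀ L : Subgroup G, M < L → (∀ a : A, ∀ x ∈ L, a • x ∈ L) → L = ⊤

theorem inv_iff_map_le (L : Subgroup G) :
    Inv A L ↔ ∀ a : A, L.map (MulDistribMulAction.toMulAut A G a).toMonoidHom ≤ L := by
  constructor
  · rintro h a _ ⟨x, hx, rfl⟩
    exact h a x hx
  · intro h a x hx
    exact h a ⟨x, hx, rfl⟩

theorem inv_sup {L₁ L₂ : Subgroup G} (h₁ : Inv A L₁) (h₂ : Inv A L₂) : Inv A (L₁ ⊔ L₂) := by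
  rw [inv_iff_map_le] at h₁ h₂ ⊢
  intro a
  rw [Subgroup.map_sup]
  exact sup_le_sup (h₁ a) (h₂ a)

theorem inv_frattini : Inv A (frattini G) := by
  rw [inv_iff_map_le]
  intro a
  exact Subgroup.characteristic_iff_map_le.mp (frattini_characteristic) _

theorem inv_bot : Inv A (⊥ : Subgroup G) := by
  intro a x hx
  rw [Subgroup.mem_bot] at hx ⊢
  rw [hx, smul_one]

theorem exists_maxInv_ge [Finite G] (L : Subgroup G) (hL : L ≠ ⊤) (hinv : Inv A L) :
    ∃ M : Subgroup G, MaxInv A M ∧ L ≤ M := by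
  obtain ⟨M, hLM, hM⟩ := Finite.exists_le_maximal (p := fun M : Subgroup G => M ≠ ⊤ ∧ Inv A M)
    (a := L) ⟨hL, hinv⟩
  refine ⟨M, ⟨hM.prop.1, hM.prop.2, ?_⟩, hLM⟩
  intro L' hlt hL'inv
  by_contra hne
  exact (lt_of_lt_of_le hlt (hM.le_of_ge ⟨hne, hL'inv⟩ hlt.le)).false

theorem frattini_le_of_maxInv [Finite G] {M : Subgroup G} (hM : MaxInv A M) : frattini G ≤ M := by
  obtain ⟨hne, hinv, hmax⟩ := hM
  have h1 : Inv A (M ⊔ frattini G) := inv_sup A hinv (inv_frattini A)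
  have h2 : M ⊔ frattini G ≠ ⊤ := fun h => hne (frattini_nongenerating h)
  have h3 : ¬ M < M ⊔ frattini G := fun h => h2 (hmax _ h h1)
  have h4 : M ⊔ frattini G ≤ M := by
    by_contra hcon
    exact h3 (lt_of_le_of_ne le_sup_left (fun h => hcon (h ▸ le_rfl)))
  exact le_trans le_sup_right h4

theorem maxInv_iff_of_irr [Finite G]
    (hirr : ∀ L : Subgroup G, frattini G < L → (∀ a : A, ∀ x ∈ L, a • x ∈ L) → L = ⊤)
    (M : Subgroup G) : MaxInv A M ↔ (M = frattini G ∧ M ≠ ⊤) := by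
  constructor
  · intro hM
    have hle := frattini_le_of_maxInv A hM
    refine ⟨?_, hM.1⟩
    by_contra hne
    have hlt : frattini G < M := lt_of_le_of_ne hle (fun h => hne h.symm)
    exact hM.1 (hirr M hlt hM.2.1)
  · rintro ⟨rfl, hne⟩
    exact ⟨hne, inv_frattini A, hirr⟩

end

section main

variable {A G : Type*} [Group A] [Finite A] [Group G] [Finite G] [MulDistribMulAction A G]

theorem isPGroup_of_conj (hcop : (Nat.card A).Coprime (Nat.card G))
    (hsol : Group.IsSolvable A ∨ Group.IsSolvable G)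
    (hconj : ∀ M N : Subgroup G, MaxInv A M → MaxInv A N → ∃ c : G, N = MulAut.conj c • M) :
    ∃ p : ℕ, p.Prime ∧ IsPGroup p G := by
  by_contra hcon
  push Not at hcon
  -- invariant Sylow subgroups are proper
  have hproper : ∀ (q : ℕ) [Fact q.Prime] (Q : Sylow q G), (Q : Subgroup G) ≠ ⊤ := by
    intro q hq Q hQ
    apply hcon q hq.out
    intro g
    obtain ⟨k, hk⟩ := Q.isPGroup' ⟨g, by rw [hQ]; exact Subgroup.mem_top g⟩
    exact ⟨k, congrArg Subtype.val hk⟩
  have hbot : (⊥ : Subgroup G) ≠ ⊤ := by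
    intro h
    apply hcon 2 Nat.prime_two
    intro g
    have : g ∈ (⊥ : Subgroup G) := by rw [h]; exact Subgroup.mem_top g
    rw [Subgroup.mem_bot] at this
    exact ⟨0, by rw [this, one_pow]⟩
  obtain ⟨M₁, hM₁, -⟩ := exists_maxInv_ge A ⊥ hbot (inv_bot A)
  have hcard0 : Nat.card G ≠ 0 := Nat.card_pos.ne'
  have hM0 : Nat.card M₁ ≠ 0 := Nat.card_pos.ne'
  have hdvd : Nat.card G ∣ Nat.card M₁ := by
    rw [← Nat.factorization_prime_le_iff_dvd hcard0 hM0]
    intro q hq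
    have : Fact q.Prime := ⟨hq⟩
    obtain ⟨Q, hQ⟩ := exists_smul_invariant_sylow (A := A) hcop hsol q
    obtain ⟨Mq, hMq, hQM⟩ := exists_maxInv_ge A (Q : Subgroup G) (hproper q Q) hQ
    obtain ⟨c, hc⟩ := hconj M₁ Mq hM₁ hMq
    have h1 : Nat.card Mq = Nat.card M₁ := by
      rw [hc]
      exact Nat.card_congr (Subgroup.equivSMul (MulAut.conj c) M₁).toEquiv.symm
    have h2 : Nat.card (Q : Subgroup G) ∣ Nat.card Mq := Subgroup.card_dvd_of_le hQM
    rw [Sylow.card_eq_multiplicity, h1] at h2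
    exact (Nat.Prime.pow_dvd_iff_le_factorization hq hM0).mp h2
  have hle : Nat.card M₁ ≤ Nat.card G := Subgroup.card_le_card_group M₁
  have heq : Nat.card M₁ = Nat.card G :=
    le_antisymm hle (Nat.le_of_dvd (Nat.pos_of_ne_zero hM0) hdvd)
  exact hM₁.1 ((Subgroup.card_eq_iff_eq_top M₁).mp heq)

theorem irr_of_conj (hcop : (Nat.card A).Coprime (Nat.card G)) (p : ℕ) [hp : Fact p.Prime]
    (hG : IsPGroup p G)
    (hconj : ∀ M N : Subgroup G, MaxInv A M → MaxInv A N → ∃ c : G, N = MulAut.conj c • M)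
    (L : Subgroup G) (hL : frattini G < L) (hLinv : ∀ a : A, ∀ x ∈ L, a • x ∈ L) : L = ⊤ := by
  by_contra hLtop
  obtain ⟨M₀, hM₀, hLM₀⟩ := exists_maxInv_ge A L hLtop hLinv
  have hcomm : ∀ x y : G, (x * y)⁻¹ * (y * x) ∈ frattini G := by
    intro x y
    apply Cfsg.Agent.Lib.Helper1.pgroup_commutator_le_frattini hG
    have : (x * y)⁻¹ * (y * x) = ⁅y⁻¹, x⁻¹⁆ := by
      rw [commutatorElement_def]; group
    rw [this]
    exact Subgroup.commutator_mem_commutator (Subgroup.mem_top _) (Subgroup.mem_top _)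
  have hexp : ∀ x : G, x ^ p ∈ frattini G :=
    fun x => Cfsg.Agent.Lib.Helper1.pgroup_pow_mem_frattini hG x
  -- p divides |G|
  have hpdvd : p ∣ Nat.card G := by
    obtain ⟨k, hk⟩ := IsPGroup.iff_card.mp hG
    rcases Nat.eq_zero_or_pos k with h0 | h0
    · exfalso
      rw [h0, pow_zero] at hk
      have : Subsingleton G := (Nat.card_eq_one_iff_unique.mp hk).1
      exact hL.ne (Subsingleton.elim _ _)
    · rw [hk]
      exact dvd_pow_self p h0.ne'
  have hcop' : (Nat.card A).Coprime p := Nat.Coprime.coprime_dvd_right hpdvd hcop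
  obtain ⟨W, hΦW, hWinv, hLW, hsup⟩ := exists_invariant_supplement (frattini G) (inv_frattini A) p
    hcomm hexp hcop' L hLinv
  have hWtop : W ≠ ⊤ := by
    intro h
    rw [h, inf_top_eq] at hLW
    exact (lt_of_lt_of_le hL hLW).false
  obtain ⟨M₁, hM₁, hWM₁⟩ := exists_maxInv_ge A W hWtop hWinv
  obtain ⟨c, hc⟩ := hconj M₀ M₁ hM₀ hM₁
  have hΦM₀ := frattini_le_of_maxInv A hM₀
  have hM₀n : M₀.Normal := by
    constructor
    intro x hx g
    have h1 : (g⁻¹ * x)⁻¹ * (x * g⁻¹) ∈ M₀ := hΦM₀ (hcomm g⁻¹ x)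
    have h2 : g * x * g⁻¹ = x * ((g⁻¹ * x)⁻¹ * (x * g⁻¹)) := by group
    rw [h2]
    exact M₀.mul_mem hx h1
  rw [Subgroup.Normal.conj_smul_eq_self c M₀] at hc
  have : (⊤ : Subgroup G) ≤ M₀ := by
    rw [← hsup]
    exact sup_le hLM₀ (hc ▸ hWM₁)
  exact hM₀.1 (top_le_iff.mp this)

end main

/-- Let the finite group A act by automorphisms on the finite group G with the orders of A and G coprime, and assume that A or G is solvable. Call a proper A-invariant subgroup of G maximal A-invariant when no A-invariant subgroup lies strictly between it and G. Then all maximal A-invariant subgroups of G are conjugate under elements of the fixed-point subgroup C_G(A) if and only if G is a p-group for some prime p and A leaves invariant no subgroup strictly between the Frattini subgroup of G and G. In that case, if G is nontrivial, the Frattini subgroup is the only maximal A-invariant subgroup (a trivial G has none). -/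
theorem result {A G : Type*} [Group A] [Finite A]
    [Group G] [Finite G] [MulDistribMulAction A G] (hcop : (Nat.card A).Coprime (Nat.card G)) (hsol : Group.IsSolvable A ∨ Group.IsSolvable G) :
    ((∀ M N : Subgroup G, (M ≠ ⊤ ∧ (∀ a : A, ∀ x ∈ M, a • x ∈ M) ∧ ∀ L : Subgroup G, M < L → (∀ a : A, ∀ x ∈ L, a • x ∈ L) → L = ⊤) → (N ≠ ⊤ ∧ (∀ a : A, ∀ x ∈ N, a • x ∈ N) ∧ ∀ L : Subgroup G, N < L → (∀ a : A, ∀ x ∈ L, a • x ∈ L) → L = ⊤) →
        ∃ c : G, (∀ a : A, a • c = c) ∧ N = MulAut.conj c • M) ↔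
      ((∃ p : ℕ, p.Prime ∧ IsPGroup p G) ∧ ∀ L : Subgroup G, frattini G < L → (∀ a : A, ∀ x ∈ L, a • x ∈ L) → L = ⊤)) ∧
    (((∃ p : ℕ, p.Prime ∧ IsPGroup p G) ∧ ∀ L : Subgroup G, frattini G < L → (∀ a : A, ∀ x ∈ L, a • x ∈ L) → L = ⊤) →
      ∀ M : Subgroup G, (M ≠ ⊤ ∧ (∀ a : A, ∀ x ∈ M, a • x ∈ M) ∧ ∀ L : Subgroup G, M < L → (∀ a : A, ∀ x ∈ L, a • x ∈ L) → L = ⊤) ↔ (M = frattini G ∧ M ≠ ⊤)) := by
  refine ⟨⟨?_, ?_⟩, ?_⟩
  · intro hconj
    have hconj' : ∀ M N : Subgroup G, MaxInv A M → MaxInv A N → ∃ c : G, N = MulAut.conj c • M := by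
      intro M N hM hN
      obtain ⟨c, -, hc⟩ := hconj M N hM hN
      exact ⟨c, hc⟩
    obtain ⟨p, hp, hG⟩ := isPGroup_of_conj hcop hsol hconj'
    refine ⟨⟨p, hp, hG⟩, ?_⟩
    have : Fact p.Prime := ⟨hp⟩
    exact irr_of_conj hcop p hG hconj'
  · rintro ⟨-, hirr⟩ M N hM hN
    have h1 := (maxInv_iff_of_irr A hirr M).mp hM
    have h2 := (maxInv_iff_of_irr A hirr N).mp hN
    refine ⟨1, fun a => smul_one a, ?_⟩
    rw [h1.1, h2.1, map_one, one_smul]
  · rintro ⟨-, hirr⟩ M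
    exact maxInv_iff_of_irr A hirr M

end Cfsg.Agent.S4381
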