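import Cfsg.Statements.S4387
import Cfsg.Agent.Lib.helper23.ConjCover

set_option autoImplicit false
open Cfsg

namespace Cfsg.Agent.S4387

open Cfsg.Agent.Lib.helper23
open scoped Pointwise

theorem mem_conj_smul {G : Type*} [Group G] (g : G) (M : Subgroup G) (y : G) :
    y ∈ MulAut.conj g • M ↔ g⁻¹ * y * g ∈ M := by
  rw [Subgroup.mem_pointwise_smul_iff_inv_smul_mem]
  simp [MulAut.smul_def]

theorem cyclic_of_conj {G : Type*} [Group G] [Finite G] [Nontrivial G]
    (h : ∀ M N : Subgroup G, IsCoatom M → IsCoatom N → ∃ g : G, N = MulAut.conj g • M) :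
    IsCyclic G := by
  by_contra hnc
  obtain ⟨M, hM⟩ : ∃ M : Subgroup G, IsCoatom M := by
    rcases eq_top_or_exists_le_coatom (⊥ : Subgroup G) with h0 | ⟨M, hM, -⟩
    · exact absurd h0 bot_ne_top
    · exact ⟨M, hM⟩
  obtain ⟨g, hg⟩ := exists_forall_conj_notMem M hM.1
  have hz : Subgroup.zpowers g ≠ ⊤ := by
    intro htop
    apply hnc
    exact ⟨⟨g, fun x => by rw [← Subgroup.mem_zpowers_iff]; rw [htop]; exact Subgroup.mem_top x⟩⟩
  rcases eq_top_or_exists_le_coatom (Subgroup.zpowers g) with h0 | ⟨N, hN, hle⟩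
  · exact hz h0
  · obtain ⟨x, hx⟩ := h M N hM hN
    have : g ∈ MulAut.conj x • M := by
      rw [← hx]
      exact hle (Subgroup.mem_zpowers g)
    rw [mem_conj_smul] at this
    exact hg x this

/-- Let G be a non-trivial finite group in which any two maximal subgroups are conjugate. Then G is cyclic of prime-power order. -/
theorem result {G : Type*} [Group G] [Finite G] [Nontrivial G]
    (h : ∀ M N : Subgroup G, IsCoatom M → IsCoatom N → ∃ g : G, N = MulAut.conj g • M) :
    IsCyclic G ∧ IsPrimePow (Nat.card G) := by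
  have hcyc := cyclic_of_conj h
  refine ⟨hcyc, ?_⟩
  have hcomm : ∀ a b : G, a * b = b * a := fun a b => by
    letI := hcyc.commGroup
    exact mul_comm a b
  obtain ⟨M, hM⟩ : ∃ M : Subgroup G, IsCoatom M := by
    rcases eq_top_or_exists_le_coatom (⊥ : Subgroup G) with h0 | ⟨M, hM, -⟩
    · exact absurd h0 bot_ne_top
    · exact ⟨M, hM⟩
  have huniq : ∀ N : Subgroup G, IsCoatom N → N = M := by
    intro N hN
    obtain ⟨g, hg⟩ := h M N hM hN
    rw [hg]
    ext y
    rw [mem_conj_smul]
    have : g⁻¹ * y * g = y := by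
      rw [mul_assoc, hcomm y g, ← mul_assoc, inv_mul_cancel, one_mul]
    rw [this]
  have hidx : M.index ≠ 1 := fun h1 => hM.1 (Subgroup.index_eq_one.mp h1)
  obtain ⟨p, hp, hpd⟩ := Nat.exists_prime_and_dvd hidx
  haveI : Fact p.Prime := ⟨hp⟩
  obtain ⟨P⟩ : Nonempty (Sylow p G) := inferInstance
  have hPtop : (P : Subgroup G) = ⊤ := by
    rcases eq_top_or_exists_le_coatom (P : Subgroup G) with h0 | ⟨N, hN, hle⟩
    · exact h0
    · exfalso
      rw [huniq N hN] at hle
      exact P.not_dvd_index (hpd.trans (Subgroup.index_dvd_of_le hle))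
  have hpg : IsPGroup p G := by
    have := P.isPGroup'
    rw [hPtop] at this
    exact IsPGroup.of_equiv this Subgroup.topEquiv
  obtain ⟨n, hn⟩ := IsPGroup.iff_card.mp hpg
  rw [hn]
  refine hp.isPrimePow.pow ?_
  intro h0
  rw [h0, pow_zero] at hn
  have : 1 < Nat.card G := Finite.one_lt_card
  omega

end Cfsg.Agent.S4387
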