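import Cfsg.Statements.S4394
import Cfsg.Agent.Lib.Helper1.SCHD5core
import Cfsg.Agent.Lib.Helper20.SCHD3core
import Cfsg.Agent.Lib.Helper9.SCHC17core
import Cfsg.Agent.Lib.Helper9.SCHC18core
import Cfsg.Agent.Lib.Helper20.SCHC6
import Cfsg.Agent.Lib.Helper20.SCHC13
import Cfsg.Agent.Lib.Helper25.SCHC15
import Cfsg.Agent.Lib.helper15.SCHC16
import Cfsg.Agent.Lib.helper15.SCHD1

set_option autoImplicit false
open Cfsg

namespace Cfsg.Agent.S4394

open Cfsg.Agent.Lib.Helper24.SCH

theorem s4394_core_free {G : Type*} [Group G] [Finite G] {p : ℕ} [Fact p.Prime]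
    (hsolv : Cfsg.IsPSolvable p G) (hO : Cfsg.pPrimeCore p G = ⊥) (Q : Sylow p G)
    (hS : (∀ x y : ↥(Q : Subgroup G), x * y = y * x) ∨ SchP p ↥(Q : Subgroup G)) :
    (Q : Subgroup G) = Cfsg.pCore p G :=
  schc18_core hsolv hO Q hS (fun h => idx_le hsolv hO Q h)
    (fun h => schc17_core hsolv hO Q h (fun hC => gam_core hC)
      (fun hC hidx => card_sA hC Q h hidx) (fun hC hidx => pCore_abelian hC Q h hidx))

/-- Let X be a finite minimal non-nilpotent group (not nilpotent, every proper subgroup nilpotent) with a nontrivial normal Sylow p-subgroup P. If G is a finite p-solvable group whose Sylow p-subgroups are isomorphic to P, then G has p-length at most 1. -/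
theorem result {G X : Type*} [Group G] [Finite G] [Group X] [Finite X] (p : ℕ) [Fact p.Prime]
    (hX : Cfsg.IsMinimalNonNilpotent X) (P : Sylow p X) (hPn : (P : Subgroup X).Normal) (hP1 : (P : Subgroup X) ≠ ⊥)
    (hG : Cfsg.IsPSolvable p G) (Q : Sylow p G) (hQ : Nonempty (↥(Q : Subgroup G) ≃* ↥(P : Subgroup X))) : Cfsg.PLengthLE p 1 G := by
  exact schd5_core p hX P hPn hP1 hG Q hQ (fun e h => schP_equiv e h)
    (fun hsolv Q' hS => schd3_core hsolv Q' hS
      (fun h1 h2 Qb h3 => s4394_core_free h1 h2 Qb h3))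

end Cfsg.Agent.S4394
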