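import Mathlib
import Cfsg.Statements.S4398
import Cfsg.Agent.Lib.Helper21.SecRank2
import Cfsg.Agent.Lib.Helper24.Taussky

set_option autoImplicit false
open Cfsg

namespace Cfsg.Agent.S4398

open Cfsg.Agent.Lib.Helper21.SecRank2

/-- Let S be a finite 2-group of sectional 2-rank at most 2 that contains a subgroup isomorphic to the dihedral group of order 8 or to the quaternion group of order 8. Then S is dihedral of order at least 8, semidihedral of order at least 16 (order 2^(k+4) with an element a of order 2^(k+3) and an involution b with b a b⁻¹ = a^(2^(k+2)−1)), or generalized quaternion of order at least 8. -/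
theorem result {S : Type*} [Group S] [Finite S] (h2 : IsPGroup 2 S) (hr : Cfsg.SectionalPRankLE 2 2 S)
    (hsub : ∃ H : Subgroup S, Nonempty (↥H ≃* DihedralGroup 4) ∨ Nonempty (↥H ≃* QuaternionGroup 2)) :
    ((∃ k : ℕ, Nonempty (S ≃* DihedralGroup (2 ^ (k + 2)))) ∨
      (∃ k : ℕ, Nat.card S = 2 ^ (k + 4) ∧ ∃ a b : S, orderOf a = 2 ^ (k + 3) ∧ orderOf b = 2 ∧ b * a * b⁻¹ = a ^ (2 ^ (k + 2) - 1)) ∨
      (∃ k : ℕ, Nonempty (S ≃* QuaternionGroup (2 ^ (k + 1))))) := by
  obtain ⟨H, hH⟩ := hsub
  have hQ : Nat.card H = 8 ∧ ∃ x ∈ H, ∃ y ∈ H, x * y ≠ y * x := by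
    rcases hH with ⟨⟨e⟩⟩ | ⟨⟨e⟩⟩
    · refine ⟨by rw [Nat.card_congr e.toEquiv, DihedralGroup.nat_card], ?_⟩
      refine ⟨e.symm (DihedralGroup.r 1), (e.symm _).2, e.symm (DihedralGroup.sr 0),
        (e.symm _).2, ?_⟩
      intro h
      have h' : e.symm (DihedralGroup.r 1) * e.symm (DihedralGroup.sr 0) =
          e.symm (DihedralGroup.sr 0) * e.symm (DihedralGroup.r 1) := Subtype.ext h
      rw [← map_mul, ← map_mul] at h'
      have := e.symm.injective h'
      revert this; decide
    · refine ⟨by rw [Nat.card_congr e.toEquiv, Nat.card_eq_fintype_card, QuaternionGroup.card], ?_⟩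
      refine ⟨e.symm (QuaternionGroup.a 1), (e.symm _).2, e.symm (QuaternionGroup.xa 0),
        (e.symm _).2, ?_⟩
      intro h
      have h' : e.symm (QuaternionGroup.a 1) * e.symm (QuaternionGroup.xa 0) =
          e.symm (QuaternionGroup.xa 0) * e.symm (QuaternionGroup.a 1) := Subtype.ext h
      rw [← map_mul, ← map_mul] at h'
      have := e.symm.injective h'
      revert this; decide
  have hidx := index_commutator_eq_four (Nat.card S) S rfl h2 (SR.of_sectional hr)
    ⟨H, hQ.1, hQ.2⟩
  rcases Cfsg.Agent.Lib.Helper24.tk_main h2 hidx with h4 | h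
  · exfalso
    have := Subgroup.card_le_card_group H
    rw [hQ.1, h4] at this
    omega
  · exact h

end Cfsg.Agent.S4398
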