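import Mathlib
import Cfsg.Statements.S4401
import Cfsg.Agent.Lib.Helper21.SecFourD

set_option autoImplicit false
open Cfsg

namespace Cfsg.Agent.S4401

open Cfsg.Agent.Lib.Helper21.SecFour

/-- Let S be a finite 2-group of sectional 2-rank at most 4 and P a proper non-abelian subgroup whose centre has order 2. Let S₀ be the centralizer in S of Z(P) and suppose P is normal in S₀. Then either S₀ = S, or P has sectional 2-rank at most 2 and S₀ has index 2 in S. -/
theorem result {S : Type*} [Group S] [Finite S] (h2 : IsPGroup 2 S) (hr : Cfsg.SectionalPRankLE 2 4 S)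
    (P : Subgroup S) (hPlt : P ≠ ⊤) (hP : ¬ IsMulCommutative ↥P) (hZP : Nat.card ↥(Subgroup.center ↥P) = 2)
    (S₀ : Subgroup S) (hS₀ : S₀ = Subgroup.centralizer (((Subgroup.center ↥P).map P.subtype : Subgroup S) : Set S))
    (hPn : ∀ s ∈ S₀, ∀ x ∈ P, s * x * s⁻¹ ∈ P) :
    S₀ = ⊤ ∨ (Cfsg.SectionalPRankLE 2 2 ↥P ∧ S₀.index = 2) := by
  haveI : Fact (Nat.Prime 2) := ⟨Nat.prime_two⟩
  have hnc : NC P := ⟨hP, hZP⟩
  obtain ⟨z, hz⟩ := hnc.exists_cg
  have hmem : ∀ s, s ∈ S₀ ↔ s * z = z * s := by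
    intro s
    rw [hS₀, Subgroup.mem_centralizer_iff]
    constructor
    · intro h
      exact (h z ((hz.center_map z).mpr (Or.inr rfl))).symm
    · intro h x hx
      rcases (hz.center_map x).mp hx with rfl | rfl
      · simp
      · exact h.symm
  have hs : Setup P S₀ z := ⟨hnc, hz, hmem, hPn⟩
  by_cases htop : S₀ = ⊤
  · left; exact htop
  right
  haveI : Group.IsNilpotent S := h2.isNilpotent
  have hnorm : S₀ < Subgroup.normalizer (S₀ : Set S) :=
    Group.normalizerCondition_of_isNilpotent S₀ (lt_top_iff_ne_top.mpr htop)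
  obtain ⟨t, ht, htS⟩ := SetLike.exists_of_lt hnorm
  obtain ⟨hs2, hne, hinf, hc, hcen⟩ := stage1 h2 hr P S₀ z hs t ht htS
  refine ⟨sec_two hr P t hinf hc, ?_⟩
  have hidx := stage2_index h2 hr P S₀ z hs t ht htS
  have hpair : Pair S₀ (Subgroup.normalizer (S₀ : Set S)) P (cj t P) z (t * z * t⁻¹) := by
    refine ⟨hs, hs2, hne.symm, hinf, hc, hcen, ?_, ?_, ?_, ?_, hidx, hnorm.le, ⟨t, ht, htS⟩⟩
    · intro x hx hxS a ha
      rw [mem_cj']
      have h1 := stage2 h2 hr P S₀ z hs t ht htS x hx hxS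
      have := hs.norm _ h1 a ha
      have e : t⁻¹ * (x * a * x⁻¹) * t = t⁻¹ * x * a * (t⁻¹ * x)⁻¹ := by group
      rw [e]; exact this
    · intro x hx hxS b hb
      obtain ⟨a, ha, rfl⟩ := mem_cj.mp hb
      have h1 := stage2' h2 hr P S₀ z hs x hx hxS t ht htS
      have := hs.norm _ h1 a ha
      have e : x * (t * a * t⁻¹) * x⁻¹ = x * t * a * (x * t)⁻¹ := by group
      rw [e]; exact this
    · intro x hx hxS
      have h1 := (hs.mem _).mp (stage2 h2 hr P S₀ z hs t ht htS x hx hxS)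
      calc x * z * x⁻¹ = t * ((t⁻¹ * x) * z) * x⁻¹ := by group
        _ = t * (z * (t⁻¹ * x)) * x⁻¹ := by rw [h1]
        _ = t * z * t⁻¹ := by group
    · intro x hx hxS
      have h1 := (hs.mem _).mp (stage2' h2 hr P S₀ z hs x hx hxS t ht htS)
      calc x * (t * z * t⁻¹) * x⁻¹ = ((x * t) * z) * t⁻¹ * x⁻¹ := by group
        _ = (z * (x * t)) * t⁻¹ * x⁻¹ := by rw [h1]
        _ = z := by group
  have hT : Subgroup.normalizer (S₀ : Set S) = ⊤ := by
    by_contra hT
    have h1 : Subgroup.normalizer (S₀ : Set S) <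
        Subgroup.normalizer ((Subgroup.normalizer (S₀ : Set S) : Subgroup S) : Set S) :=
      Group.normalizerCondition_of_isNilpotent _ (lt_top_iff_ne_top.mpr hT)
    obtain ⟨u, hu, huT⟩ := SetLike.exists_of_lt h1
    exact hpair.main h2 hr u hu huT
  rw [hT, Subgroup.relIndex_top_right] at hidx
  exact hidx

end Cfsg.Agent.S4401
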