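import Cfsg.Statements.S4403
import Cfsg.Agent.Lib.Helper24.CycSylowA2
import Cfsg.Agent.Lib.Helper24.CycSylowB4

set_option autoImplicit false
open Cfsg

namespace Cfsg.Agent.S4403

open Cfsg.Agent.Lib.Helper24

theorem result {K : Type*} [Group K] [Finite K] (p : ℕ) [Fact p.Prime] (hp : p ∣ Nat.card K) (hO : Cfsg.pPrimeCore p K = ⊥)
    (P : Sylow p K) (hP : IsCyclic ↥(P : Subgroup K)) :
    ((P : Subgroup K).Normal ∧ Subgroup.centralizer ((P : Subgroup K) : Set K) = (P : Subgroup K) ∧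
      (∀ (_ : (P : Subgroup K).Normal), IsCyclic (K ⧸ (P : Subgroup K))) ∧ (P : Subgroup K).index ∣ p - 1) ∨
    (IsSimpleGroup ↥(Cfsg.generalizedFittingSubgroup K) ∧ ¬ IsMulCommutative ↥(Cfsg.generalizedFittingSubgroup K) ∧
      ¬ p ∣ (Cfsg.generalizedFittingSubgroup K).index) := by
  by_cases hR : Cfsg.pCore p K = ⊥
  · right
    exact cs_caseB p hp P hP hO hR
  · left
    exact cs_caseA p P hP hO hR

end Cfsg.Agent.S4403
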