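import Mathlib
import Cfsg.Statements.S4405
import Cfsg.Agent.Lib.helper17.E32
import Cfsg.Agent.Lib.helper17.E32W
import Cfsg.Agent.Lib.helper17.PIrr

set_option autoImplicit false
open Cfsg

namespace Cfsg.Agent.S4405

open Cfsg.Agent.Lib.helper17.ExtraGroup Cfsg.Agent.Lib.helper17.E32 Cfsg.Agent.Lib.helper17.E32W

/-- Let G be a finite group of order 320 = 64·5 whose largest normal 2-subgroup H = O₂(G) equals the Fitting subgroup F(G) and is extraspecial of order 32 containing no elementary abelian subgroup of order 8 (so H is the central product of a quaternion group and a dihedral group of order 8). If T is an involution of G outside H whose centralizer in H contains an elementary abelian subgroup of order 4, then C_H(T) itself is elementary abelian of order 4. -/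
theorem result {G : Type*} [Group G] [Finite G]
    (hG : Nat.card G = 320) (hHF : Cfsg.pCore 2 G = Cfsg.fittingSubgroup G)
    (hex : Cfsg.IsExtraspecial 2 ↥(Cfsg.pCore 2 G)) (h32 : Nat.card ↥(Cfsg.pCore 2 G) = 32)
    (hminus : ∀ A : Subgroup G, A ≤ Cfsg.pCore 2 G → Cfsg.IsElementaryAbelian 2 A → Nat.card ↥A ≤ 4)
    (T : G) (hT : orderOf T = 2) (hTH : T ∉ Cfsg.pCore 2 G)
    (V : Subgroup G) (hV : V ≤ Cfsg.pCore 2 G ⊓ Subgroup.centralizer ({T} : Set G)) (hV4 : Nat.card ↥V = 4) (hVe : Cfsg.IsElementaryAbelian 2 V) :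
    Nat.card ↥(Cfsg.pCore 2 G ⊓ Subgroup.centralizer ({T} : Set G)) = 4 ∧
      Cfsg.IsElementaryAbelian 2 (Cfsg.pCore 2 G ⊓ Subgroup.centralizer ({T} : Set G)) := by
  have hp : Fact (Nat.Prime 2) := ⟨Nat.prime_two⟩
  have hp5 : Fact (Nat.Prime 5) := ⟨by norm_num⟩
  set H := Cfsg.pCore 2 G with hHdef
  have hHn : H.Normal := Cfsg.Agent.Lib.helper17.pCore_normal 2 G
  have hH2 : IsPGroup 2 ↥H := IsPGroup.of_card (n := 5) (by rw [h32]; norm_num)
  have hidx : H.index = 10 := by
    have := Subgroup.card_mul_index H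
    rw [h32, hG] at this
    omega
  have hFit : ∀ N : Subgroup G, N.Normal → Group.IsNilpotent ↥N → N ≤ H := by
    intro N hN hNn
    rw [hHF]
    unfold Cfsg.fittingSubgroup
    exact le_sSup ⟨hN, hNn⟩
  -- a generator of the centre
  obtain ⟨⟨_, _, hcomm⟩, hcen⟩ := hex
  have hcyc : IsCyclic ↥(Subgroup.center ↥H) := isCyclic_of_prime_card hcen
  obtain ⟨z₀, hz₀⟩ := hcyc.exists_generator
  obtain ⟨z, hzc⟩ := z₀
  have hzp : z ^ 2 = 1 := by
    have h1 : (⟨z, hzc⟩ : ↥(Subgroup.center ↥H)) ^ 2 = 1 := by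
      rw [← hcen]; exact pow_card_eq_one'
    have := congrArg Subtype.val h1
    simpa using this
  have hcz : ∀ c ∈ Subgroup.center ↥H, c ∈ Subgroup.zpowers z := by
    intro c hc
    obtain ⟨k, hk⟩ := Subgroup.mem_zpowers_iff.mp (hz₀ ⟨c, hc⟩)
    refine Subgroup.mem_zpowers_iff.mpr ⟨k, ?_⟩
    have := congrArg Subtype.val hk
    simpa using this
  have hzcomm : ∀ g : ↥H, g * z = z * g := fun g => Subgroup.mem_center_iff.mp hzc g
  have hX : XCond 2 (⊤ : Subgroup ↥H) z := by
    refine ⟨Subgroup.mem_top _, fun g _ => hzcomm g, hzp, fun g _ hg => ?_, fun g _ h _ => ?_⟩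
    · apply hcz
      rw [Subgroup.mem_center_iff]
      intro h
      exact (hg h (Subgroup.mem_top _)).symm
    · apply hcz
      rw [← hcomm, commutator_def]
      have := Subgroup.commutator_mem_commutator (Subgroup.mem_top g) (Subgroup.mem_top h)
      rwa [commutatorElement_def] at this
  have hz1 : z ≠ 1 := by
    intro hz
    have h1 : ∀ c : ↥(Subgroup.center ↥H), c = 1 := by
      intro c
      have := hcz c.1 c.2
      rw [hz, Subgroup.zpowers_one_eq_bot, Subgroup.mem_bot] at this
      exact Subtype.ext this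
    have h2 : Nat.card ↥(Subgroup.center ↥H) = 1 := by
      rw [Nat.card_eq_one_iff_unique]
      exact ⟨⟨fun a b => (h1 a).trans (h1 b).symm⟩, ⟨1⟩⟩
    rw [hcen] at h2
    norm_num at h2
  -- an element of order 5
  obtain ⟨f, hf⟩ := exists_prime_orderOf_dvd_card' (G := G) 5 (by rw [hG]; norm_num)
  have hfH : f ∉ H := not_mem_of_order5 H hH2 f hf
  have hf5 : f ^ 5 = 1 := by rw [← hf]; exact pow_orderOf_eq_one f
  have hTT : T * T = 1 := by rw [← pow_two, ← hT]; exact pow_orderOf_eq_one T
  -- the quotient of order 10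
  have hcardK : Nat.card (G ⧸ H) = 10 := by rw [← Subgroup.index_eq_card]; exact hidx
  set a : G ⧸ H := QuotientGroup.mk' H f with ha
  set b : G ⧸ H := QuotientGroup.mk' H T with hb
  have ha5 : orderOf a = 5 := by
    have h1 : a ^ 5 = 1 := by rw [ha, ← map_pow, hf5, map_one]
    have h2 : a ≠ 1 := fun h => hfH ((QuotientGroup.eq_one_iff f).mp h)
    exact orderOf_eq_prime h1 h2
  have hb2 : orderOf b = 2 := by
    have h1 : b ^ 2 = 1 := by rw [hb, ← map_pow, pow_two, hTT, map_one]
    have h2 : b ≠ 1 := fun h => hTH ((QuotientGroup.eq_one_iff T).mp h)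
    exact orderOf_eq_prime h1 h2
  have hrelG : T * f * T * f ∈ H := by
    rcases order10 hcardK a b ha5 hb2 with h | h
    · exfalso
      have hn := central10 hcardK a b ha5 hb2 h
      have hK2 : IsPGroup 2 ↥((Subgroup.zpowers b).comap (QuotientGroup.mk' H)) := by
        apply IsPGroup.comap_of_ker_isPGroup
        · exact IsPGroup.of_card (n := 1) (by rw [Nat.card_zpowers, hb2, pow_one])
        · rw [QuotientGroup.ker_mk']; exact hH2
      have hKn : ((Subgroup.zpowers b).comap (QuotientGroup.mk' H)).Normal := inferInstance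
      have hle := Cfsg.Agent.Lib.helper17.le_pCore hKn hK2
      exact hTH (hle (Subgroup.mem_comap.mpr (Subgroup.mem_zpowers b)))
    · rw [← QuotientGroup.eq_one_iff, ← QuotientGroup.mk'_apply, map_mul, map_mul, map_mul]
      exact h
  -- the automorphisms
  let φ : MulAut ↥H := MulAut.conjNormal f
  let t : MulAut ↥H := MulAut.conjNormal T
  have hφ : ∀ h : ↥H, ((φ h : ↥H) : G) = f * h * f⁻¹ := fun h => MulAut.conjNormal_apply f h
  have ht : ∀ h : ↥H, ((t h : ↥H) : G) = T * h * T⁻¹ := fun h => MulAut.conjNormal_apply T h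
  have hS : Setup z φ t := by
    refine ⟨hX, hz1, h32, ?_, ?_, ?_, ?_⟩
    · show (MulAut.conjNormal f : MulAut ↥H) ^ 5 = 1
      rw [← map_pow, hf5, map_one]
    · intro h1
      obtain ⟨h, hh, hne⟩ := not_centralize H hH2 hidx hFit f hf
      apply hne
      have := congrArg (fun α : MulAut ↥H => ((α ⟨h, hh⟩ : ↥H) : G)) h1
      simp only [MulAut.one_apply] at this
      rw [hφ] at this
      exact this
    · show (MulAut.conjNormal T : MulAut ↥H) * MulAut.conjNormal T = 1
      rw [← map_mul, hTT, map_one]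
    · intro h
      have e : t (φ (t (φ h))) = (MulAut.conjNormal (T * f * T * f) : MulAut ↥H) h := by
        rw [map_mul, map_mul, map_mul]
        rfl
      rw [e]
      set h₀ : ↥H := ⟨T * f * T * f, hrelG⟩ with hh₀
      have e2 : (MulAut.conjNormal (T * f * T * f) : MulAut ↥H) h = h₀ * h * h₀⁻¹ := by
        apply Subtype.ext
        rw [MulAut.conjNormal_apply]
        rfl
      rw [e2]
      unfold Cong
      exact hX.comm h₀ (Subgroup.mem_top _) h (Subgroup.mem_top _)
  -- apply the main theorem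
  set C := H ⊓ Subgroup.centralizer ({T} : Set G) with hC
  have hCH : C ≤ H := inf_le_left
  have hFfix : ∀ h ∈ C.subgroupOf H, t h = h := by
    intro h hh
    rw [Subgroup.mem_subgroupOf] at hh
    have h1 := (Subgroup.mem_inf.mp hh).2
    rw [Subgroup.mem_centralizer_singleton_iff] at h1
    apply Subtype.ext
    rw [ht]
    rw [← h1, mul_inv_cancel_right]
  have hlt := hS.main (C.subgroupOf H) hFfix
  have hcardC : Nat.card ↥(C.subgroupOf H) = Nat.card C :=
    Nat.card_congr (Subgroup.subgroupOfEquivOfLe hCH).toEquiv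
  rw [hcardC] at hlt
  have h4dvd : 4 ∣ Nat.card C := by rw [← hV4]; exact Subgroup.card_dvd_of_le hV
  have hCdvd : Nat.card C ∣ 32 := by rw [← h32]; exact Subgroup.card_dvd_of_le hCH
  have hC4 : Nat.card C = 4 := by
    obtain ⟨k, hk⟩ := h4dvd
    have hpos : 0 < Nat.card C := Nat.card_pos
    rw [hk] at hlt hpos
    have : k = 1 := by omega
    rw [hk, this]
  have hVC : V = C := Subgroup.eq_of_le_of_card_ge hV (by rw [hC4, hV4])
  exact ⟨hC4, hVC ▸ hVe⟩

end Cfsg.Agent.S4405
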