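import Cfsg.Statements.S4406

set_option autoImplicit false
open Cfsg

namespace Cfsg.Agent.S4406

open scoped Pointwise

abbrev A4 := ↥(alternatingGroup (Fin 4))

set_option maxRecDepth 100000 in
theorem d0 : ∀ v : A4, v ^ 12 = 1 := by decide

set_option maxRecDepth 100000 in
theorem d1 : ∀ v : A4, v ^ 4 = 1 → v ^ 2 = 1 := by decide

set_option maxRecDepth 100000 in
theorem d2 : ∀ a v : A4, a ^ 3 = 1 → a ≠ 1 → v ^ 2 = 1 → v ≠ 1 →
    a * v * a⁻¹ ≠ v ∧ a⁻¹ * v * a = v * (a * v * a⁻¹) ∧ (a * v * a⁻¹) ^ 2 = 1 ∧ a * v * a⁻¹ ≠ 1 := by decide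

set_option maxRecDepth 100000 in
theorem d3 : ∀ v w x : A4, v ^ 2 = 1 → v ≠ 1 → w ^ 2 = 1 → w ≠ 1 → v ≠ w →
    x ^ 2 = 1 → x ≠ 1 → x = v ∨ x = w ∨ x = v * w := by decide

set_option maxRecDepth 100000 in
theorem d4 : ∃ c : A4, c ^ 3 = 1 ∧ c ≠ 1 := by decide

set_option maxRecDepth 100000 in
theorem d5 : ∀ v w : A4, v ^ 2 = 1 → w ^ 2 = 1 → v * w = w * v := by decide

theorem pow_four_of_two_pow (v : A4) (k : ℕ) (h : v ^ (2 ^ k) = 1) : v ^ 4 = 1 := by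
  have h1 : orderOf v ∣ 2 ^ k := orderOf_dvd_of_pow_eq_one h
  have h2 : orderOf v ∣ 12 := orderOf_dvd_of_pow_eq_one (d0 v)
  obtain ⟨j, _, hj⟩ := (Nat.dvd_prime_pow Nat.prime_two).mp h1
  have hj2 : j ≤ 2 := by
    by_contra hlt
    have h3 : 2 ^ 3 ∣ 2 ^ j := pow_dvd_pow 2 (by omega)
    rw [hj] at h2
    have : 2 ^ 3 ∣ 12 := dvd_trans h3 h2
    omega
  have : orderOf v ∣ 4 := by
    rw [hj]
    calc 2 ^ j ∣ 2 ^ 2 := pow_dvd_pow 2 hj2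
      _ = 4 := by norm_num
  exact orderOf_dvd_iff_pow_eq_one.mp this

theorem exists_conj_mem (Q : Sylow 3 (A4 × A4)) (y : A4 × A4) (hy : y ^ 3 = 1) :
    ∃ g : A4 × A4, g * y * g⁻¹ ∈ (Q : Subgroup (A4 × A4)) := by
  have hP : IsPGroup 3 (Subgroup.zpowers y) := by
    intro z
    refine ⟨1, ?_⟩
    obtain ⟨z, hz⟩ := z
    obtain ⟨k, rfl⟩ := Subgroup.mem_zpowers_iff.mp hz
    apply Subtype.ext
    show (y ^ k) ^ 3 ^ 1 = 1
    rw [pow_one, ← zpow_natCast, ← zpow_mul, mul_comm, zpow_mul, zpow_natCast, hy, one_zpow]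
  obtain ⟨Q', hQ'⟩ := hP.exists_le_sylow
  obtain ⟨g, hg⟩ := MulAction.exists_smul_eq (A4 × A4) Q' Q
  refine ⟨g, ?_⟩
  rw [← hg]
  have : (g • Q' : Sylow 3 (A4 × A4)).toSubgroup = MulAut.conj g • (Q' : Subgroup (A4 × A4)) :=
    Sylow.coe_subgroup_smul
  show g * y * g⁻¹ ∈ (g • Q' : Sylow 3 (A4 × A4)).toSubgroup
  rw [this]
  exact ⟨y, hQ' (Subgroup.mem_zpowers y), by simp [MulAut.conj_apply]⟩

theorem inv_conj_of_cube {a : A4} (ha : a ^ 3 = 1) (v : A4) : a * (a * v * a⁻¹) * a⁻¹ = a⁻¹ * v * a := by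
  have h1 : a * a = a⁻¹ := by
    have : a * a * a = 1 := by rw [← ha, pow_succ, pow_two]
    exact eq_inv_of_mul_eq_one_left this
  have h2 : a⁻¹ * a⁻¹ = a := by
    have h3 : a * a * a = 1 := by rw [← ha, pow_succ, pow_two]
    calc a⁻¹ * a⁻¹ = a⁻¹ * a⁻¹ * (a * a * a) := by rw [h3, mul_one]
      _ = a := by group
  calc a * (a * v * a⁻¹) * a⁻¹ = (a * a) * v * (a⁻¹ * a⁻¹) := by group
    _ = a⁻¹ * v * a := by rw [h1, h2]

theorem key (B : Subgroup (A4 × A4)) (hB4 : Nat.card B = 4)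
    (hsq : ∀ b ∈ B, b.1 ^ 2 = 1 ∧ b.2 ^ 2 = 1)
    (h1 : ∀ b ∈ B, b.2 = 1 → b = 1) (h2 : ∀ b ∈ B, b.1 = 1 → b = 1)
    (a b : A4) (ha : a ^ 3 = 1) (ha1 : a ≠ 1) (hb : b ^ 3 = 1) (hb1 : b ≠ 1) :
    ∃ b' : A4, (b' = b ∨ b' = b⁻¹) ∧
      ((a, b') : A4 × A4) ∈ Subgroup.normalizer (B : Set (A4 × A4)) := by
  have hBne : B ≠ ⊥ := by
    intro h
    rw [h, Subgroup.card_bot] at hB4
    omega
  obtain ⟨⟨β, hβB⟩, hβ1'⟩ := (Subgroup.ne_bot_iff_exists_ne_one).mp hBne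
  have hβ1 : β ≠ 1 := fun h => hβ1' (Subtype.ext h)
  have hsqB : ∀ c ∈ B, c ^ 2 = 1 := by
    intro c hc
    exact Prod.ext (by rw [Prod.pow_fst]; exact (hsq c hc).1) (by rw [Prod.pow_snd]; exact (hsq c hc).2)
  have hβ2 : β ^ 2 = 1 := hsqB β hβB
  have hoβ : orderOf β = 2 := orderOf_eq_prime hβ2 hβ1
  have hzle : Subgroup.zpowers β ≤ B := by rwa [Subgroup.zpowers_le]
  have hzcard : Nat.card (Subgroup.zpowers β) = 2 := by rw [Nat.card_zpowers, hoβ]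
  have hex : ∃ β' ∈ B, β' ∉ Subgroup.zpowers β := by
    by_contra h
    have hle : B ≤ Subgroup.zpowers β := by
      intro c hc
      by_contra hcz
      exact h ⟨c, hc, hcz⟩
    have := Subgroup.card_le_of_le hle
    omega
  obtain ⟨β', hβ'B, hβ'z⟩ := hex
  have hβ'1 : β' ≠ 1 := fun h => hβ'z (h ▸ Subgroup.one_mem _)
  have hβ'β : β' ≠ β := fun h => hβ'z (h ▸ Subgroup.mem_zpowers β)
  have hfst_inj : ∀ c ∈ B, ∀ d ∈ B, c.1 = d.1 → c = d := by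
    intro c hc d hd hcd
    have h3 : (c⁻¹ * d).1 = 1 := by
      rw [Prod.fst_mul, Prod.fst_inv, hcd, inv_mul_cancel]
    have := h2 _ (mul_mem (inv_mem hc) hd) h3
    exact inv_mul_eq_one.mp this
  have hsnd_inj : ∀ c ∈ B, ∀ d ∈ B, c.2 = d.2 → c = d := by
    intro c hc d hd hcd
    have h3 : (c⁻¹ * d).2 = 1 := by
      rw [Prod.snd_mul, Prod.snd_inv, hcd, inv_mul_cancel]
    have := h1 _ (mul_mem (inv_mem hc) hd) h3
    exact inv_mul_eq_one.mp this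
  have hu1 : β.1 ≠ 1 := fun h => hβ1 (h2 β hβB h)
  have hw1 : β.2 ≠ 1 := fun h => hβ1 (h1 β hβB h)
  have hu'1 : β'.1 ≠ 1 := fun h => hβ'1 (h2 β' hβ'B h)
  have huu' : β.1 ≠ β'.1 := fun h => hβ'β (hfst_inj β hβB β' hβ'B h).symm
  obtain ⟨hd2a, hd2b, hd2c, hd2d⟩ := d2 a β.1 ha ha1 (hsq β hβB).1 hu1
  have hγ : ∃ γ ∈ B, γ ≠ 1 ∧ γ ≠ β ∧ γ.1 = a * β.1 * a⁻¹ := by
    rcases d3 β.1 β'.1 (a * β.1 * a⁻¹) (hsq β hβB).1 hu1 (hsq β' hβ'B).1 hu'1 huu' hd2c hd2d with h | h | h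
    · exact absurd h hd2a
    · exact ⟨β', hβ'B, hβ'1, hβ'β, h.symm⟩
    · refine ⟨β * β', mul_mem hβB hβ'B, ?_, ?_, ?_⟩
      · intro h3
        apply hβ'z
        have : β' = β⁻¹ := eq_inv_of_mul_eq_one_right h3
        rw [this]
        exact inv_mem (Subgroup.mem_zpowers β)
      · intro h3
        apply hβ'1
        exact mul_eq_left.mp h3
      · rw [Prod.fst_mul]; exact h.symm
  obtain ⟨γ, hγB, hγ1, hγβ, hγfst⟩ := hγ
  have hx1 : γ.2 ≠ 1 := fun h => hγ1 (h1 γ hγB h)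
  have hwx : β.2 ≠ γ.2 := fun h => hγβ (hsnd_inj β hβB γ hγB h).symm
  have hb' : ∃ b' : A4, (b' = b ∨ b' = b⁻¹) ∧ b' ^ 3 = 1 ∧ b' ≠ 1 ∧ b' * β.2 * b'⁻¹ = γ.2 := by
    obtain ⟨he2a, he2b, he2c, he2d⟩ := d2 b β.2 hb hb1 (hsq β hβB).2 hw1
    rcases d3 β.2 γ.2 (b * β.2 * b⁻¹) (hsq β hβB).2 hw1 (hsq γ hγB).2 hx1 hwx he2c he2d with h | h | h
    · exact absurd h he2a
    · exact ⟨b, Or.inl rfl, hb, hb1, h⟩
    · refine ⟨b⁻¹, Or.inr rfl, ?_, ?_, ?_⟩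
      · rw [inv_pow, hb, inv_one]
      · intro h3; exact hb1 (inv_eq_one.mp h3)
      · rw [inv_inv, he2b, h, ← mul_assoc]
        have : β.2 * β.2 = 1 := by rw [← pow_two]; exact (hsq β hβB).2
        rw [this, one_mul]
  obtain ⟨b', hb'or, hb'3, hb'1, hb'w⟩ := hb'
  refine ⟨b', hb'or, ?_⟩
  have hrβ : ((a, b') : A4 × A4) * β * ((a, b') : A4 × A4)⁻¹ = γ := by
    apply Prod.ext
    · simp only [Prod.fst_mul, Prod.fst_inv]; exact hγfst.symm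
    · simp only [Prod.snd_mul, Prod.snd_inv]; exact hb'w
  have hrγ : ((a, b') : A4 × A4) * γ * ((a, b') : A4 × A4)⁻¹ = β * γ := by
    apply Prod.ext
    · simp only [Prod.fst_mul, Prod.fst_inv]
      rw [hγfst, inv_conj_of_cube ha, hd2b]
    · simp only [Prod.snd_mul, Prod.snd_inv]
      obtain ⟨_, he2b, _, _⟩ := d2 b' β.2 hb'3 hb'1 (hsq β hβB).2 hw1
      rw [← hb'w, inv_conj_of_cube hb'3, he2b]
  have hKB : Subgroup.closure ({β, γ} : Set (A4 × A4)) = B := by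
    have hle : Subgroup.closure ({β, γ} : Set (A4 × A4)) ≤ B := by
      rw [Subgroup.closure_le]
      intro c hc
      rcases hc with rfl | rfl
      · exact hβB
      · exact hγB
    have hzK : Subgroup.zpowers β ≤ Subgroup.closure ({β, γ} : Set (A4 × A4)) := by
      rw [Subgroup.zpowers_le]
      exact Subgroup.subset_closure (Set.mem_insert _ _)
    have hγK : γ ∈ Subgroup.closure ({β, γ} : Set (A4 × A4)) :=
      Subgroup.subset_closure (Set.mem_insert_of_mem _ rfl)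
    have hd1 : Nat.card (Subgroup.closure ({β, γ} : Set (A4 × A4))) ∣ 2 ^ 2 := by
      have := Subgroup.card_dvd_of_le hle
      rw [hB4] at this
      exact this
    obtain ⟨k, hk2, hk⟩ := (Nat.dvd_prime_pow Nat.prime_two).mp hd1
    have hd2 : 2 ∣ Nat.card (Subgroup.closure ({β, γ} : Set (A4 × A4))) := by
      rw [← hzcard]; exact Subgroup.card_dvd_of_le hzK
    have hk0 : k ≠ 0 := by
      intro h0
      rw [hk, h0, pow_zero] at hd2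
      omega
    have hk1 : k ≠ 1 := by
      intro h1'
      rw [h1', pow_one] at hk
      have : Subgroup.zpowers β = Subgroup.closure ({β, γ} : Set (A4 × A4)) :=
        Subgroup.eq_of_le_of_card_ge hzK (by rw [hk, hzcard])
      rw [← this] at hγK
      obtain ⟨j, hj⟩ := Subgroup.mem_zpowers_iff.mp hγK
      rcases Int.emod_two_eq_zero_or_one j with hj0 | hj1
      · apply hγ1
        rw [← hj, ← Int.emod_add_mul_ediv j 2, hj0, zero_add, zpow_mul, zpow_ofNat, hβ2, one_zpow]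
      · apply hγβ
        rw [← hj, ← Int.emod_add_mul_ediv j 2, hj1, zpow_add, zpow_one, zpow_mul, zpow_ofNat, hβ2,
          one_zpow, mul_one]
    have hk2' : k = 2 := by omega
    apply Subgroup.eq_of_le_of_card_ge hle
    rw [hk, hk2', hB4]
    norm_num
  have hfin : Finite (B : Set (A4 × A4)) := Set.toFinite _
  apply Subgroup.mem_normalizer_fintype
  intro n hn
  have hn' : n ∈ Subgroup.closure ({β, γ} : Set (A4 × A4)) := by rw [hKB]; exact hn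
  have hcl : Subgroup.closure ({β, γ} : Set (A4 × A4)) ≤
      B.comap (MulAut.conj ((a, b') : A4 × A4)).toMonoidHom := by
    rw [Subgroup.closure_le]
    intro c hc
    rcases hc with rfl | rfl
    · show ((a, b') : A4 × A4) * c * ((a, b') : A4 × A4)⁻¹ ∈ B
      rw [hrβ]; exact hγB
    · show ((a, b') : A4 × A4) * c * ((a, b') : A4 × A4)⁻¹ ∈ B
      rw [hrγ]; exact mul_mem hβB hγB
  exact hcl hn'

theorem conj_cube {c : A4} (hc3 : c ^ 3 = 1) (hc1 : c ≠ 1) (h : A4) :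
    (h * c * h⁻¹) ^ 3 = 1 ∧ h * c * h⁻¹ ≠ 1 := by
  constructor
  · rw [conj_pow, hc3, mul_one, mul_inv_cancel]
  · intro h1
    apply hc1
    have : c = h⁻¹ * (h * c * h⁻¹) * h := by group
    rw [this, h1]
    group

theorem result
    (X : Sylow 2 (↥(alternatingGroup (Fin 4)) × ↥(alternatingGroup (Fin 4))))
    (Q : Sylow 3 (↥(alternatingGroup (Fin 4)) × ↥(alternatingGroup (Fin 4))))
    (B : Subgroup (↥(alternatingGroup (Fin 4)) × ↥(alternatingGroup (Fin 4)))) (hBX : B ≤ (X : Subgroup _)) (hB4 : Nat.card ↥B = 4) :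
    B ⊓ ((X : Subgroup _) ⊓ Subgroup.prod ⊤ ⊥) ≠ ⊥ ∨ B ⊓ ((X : Subgroup _) ⊓ Subgroup.prod ⊥ ⊤) ≠ ⊥ ∨
      ∃ R : Subgroup (↥(alternatingGroup (Fin 4)) × ↥(alternatingGroup (Fin 4))), R ≤ (Q : Subgroup _) ∧ Nat.card ↥R = 3 ∧
        R ≠ (Q : Subgroup _) ⊓ Subgroup.prod ⊤ ⊥ ∧ R ≠ (Q : Subgroup _) ⊓ Subgroup.prod ⊥ ⊤ ∧ R ≤ Subgroup.normalizer (B : Set _) := by
  by_cases h1 : B ⊓ ((X : Subgroup _) ⊓ Subgroup.prod ⊤ ⊥) ≠ ⊥
  · left; exact h1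
  by_cases h2 : B ⊓ ((X : Subgroup _) ⊓ Subgroup.prod ⊥ ⊤) ≠ ⊥
  · right; left; exact h2
  right; right
  rw [not_not] at h1 h2
  have hsq : ∀ b ∈ B, b.1 ^ 2 = 1 ∧ b.2 ^ 2 = 1 := by
    intro b hb
    obtain ⟨k, hk⟩ := X.isPGroup' ⟨b, hBX hb⟩
    have hk' : b ^ 2 ^ k = 1 := congrArg Subtype.val hk
    constructor
    · apply d1
      apply pow_four_of_two_pow _ k
      rw [← Prod.pow_fst, hk']
      rfl
    · apply d1
      apply pow_four_of_two_pow _ k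
      rw [← Prod.pow_snd, hk']
      rfl
  have h1' : ∀ b ∈ B, b.2 = 1 → b = 1 := by
    intro b hb hb2
    have : b ∈ B ⊓ ((X : Subgroup _) ⊓ Subgroup.prod ⊤ ⊥) :=
      Subgroup.mem_inf.mpr ⟨hb, Subgroup.mem_inf.mpr ⟨hBX hb,
        Subgroup.mem_prod.mpr ⟨Subgroup.mem_top _, Subgroup.mem_bot.mpr hb2⟩⟩⟩
    rw [h1] at this
    exact Subgroup.mem_bot.mp this
  have h2' : ∀ b ∈ B, b.1 = 1 → b = 1 := by
    intro b hb hb2
    have : b ∈ B ⊓ ((X : Subgroup _) ⊓ Subgroup.prod ⊥ ⊤) :=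
      Subgroup.mem_inf.mpr ⟨hb, Subgroup.mem_inf.mpr ⟨hBX hb,
        Subgroup.mem_prod.mpr ⟨Subgroup.mem_bot.mpr hb2, Subgroup.mem_top _⟩⟩⟩
    rw [h2] at this
    exact Subgroup.mem_bot.mp this
  obtain ⟨c, hc3, hc1⟩ := d4
  obtain ⟨g, hg⟩ := exists_conj_mem Q ((c, 1) : A4 × A4)
    (Prod.ext (by rw [Prod.pow_fst]; exact hc3) (by rw [Prod.pow_snd]; exact one_pow 3))
  obtain ⟨g', hg'⟩ := exists_conj_mem Q ((1, c) : A4 × A4)
    (Prod.ext (by rw [Prod.pow_fst]; exact one_pow 3) (by rw [Prod.pow_snd]; exact hc3))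
  obtain ⟨ha3, ha1⟩ := conj_cube hc3 hc1 g.1
  obtain ⟨hb3, hb1⟩ := conj_cube hc3 hc1 g'.2
  have haQ : ((g.1 * c * g.1⁻¹, 1) : A4 × A4) ∈ (Q : Subgroup (A4 × A4)) := by
    have : ((g.1 * c * g.1⁻¹, 1) : A4 × A4) = g * ((c, 1) : A4 × A4) * g⁻¹ := by
      apply Prod.ext
      · simp
      · simp
    rw [this]; exact hg
  have hbQ : ((1, g'.2 * c * g'.2⁻¹) : A4 × A4) ∈ (Q : Subgroup (A4 × A4)) := by
    have : ((1, g'.2 * c * g'.2⁻¹) : A4 × A4) = g' * ((1, c) : A4 × A4) * g'⁻¹ := by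
      apply Prod.ext
      · simp
      · simp
    rw [this]; exact hg'
  obtain ⟨b', hb'or, hnorm⟩ := key B hB4 hsq h1' h2' (g.1 * c * g.1⁻¹) (g'.2 * c * g'.2⁻¹) ha3 ha1 hb3 hb1
  have hb'3 : b' ^ 3 = 1 ∧ b' ≠ 1 := by
    rcases hb'or with h | h
    · rw [h]; exact ⟨hb3, hb1⟩
    · rw [h]
      refine ⟨by rw [inv_pow, hb3, inv_one], fun h3 => hb1 (inv_eq_one.mp h3)⟩
  have hrQ : ((g.1 * c * g.1⁻¹, b') : A4 × A4) ∈ (Q : Subgroup (A4 × A4)) := by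
    rcases hb'or with h | h
    · have : ((g.1 * c * g.1⁻¹, b') : A4 × A4) =
          ((g.1 * c * g.1⁻¹, 1) : A4 × A4) * ((1, g'.2 * c * g'.2⁻¹) : A4 × A4) := by
        rw [h]; apply Prod.ext <;> simp
      rw [this]; exact mul_mem haQ hbQ
    · have : ((g.1 * c * g.1⁻¹, b') : A4 × A4) =
          ((g.1 * c * g.1⁻¹, 1) : A4 × A4) * ((1, g'.2 * c * g'.2⁻¹) : A4 × A4)⁻¹ := by
        rw [h]; apply Prod.ext <;> simp
      rw [this]; exact mul_mem haQ (inv_mem hbQ)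
  have hr3 : ((g.1 * c * g.1⁻¹, b') : A4 × A4) ^ 3 = 1 :=
    Prod.ext (by rw [Prod.pow_fst]; exact ha3) (by rw [Prod.pow_snd]; exact hb'3.1)
  have hr1 : ((g.1 * c * g.1⁻¹, b') : A4 × A4) ≠ 1 := by
    intro h
    exact ha1 (congrArg Prod.fst h)
  refine ⟨Subgroup.zpowers ((g.1 * c * g.1⁻¹, b') : A4 × A4), ?_, ?_, ?_, ?_, ?_⟩
  · rw [Subgroup.zpowers_le]; exact hrQ
  · rw [Nat.card_zpowers]
    have : Fact (Nat.Prime 3) := ⟨Nat.prime_three⟩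
    exact orderOf_eq_prime hr3 hr1
  · intro h
    have hmem : ((g.1 * c * g.1⁻¹, b') : A4 × A4) ∈ (Q : Subgroup (A4 × A4)) ⊓ Subgroup.prod ⊤ ⊥ := by
      rw [← h]; exact Subgroup.mem_zpowers _
    have := (Subgroup.mem_prod.mp (Subgroup.mem_inf.mp hmem).2).2
    exact hb'3.2 (Subgroup.mem_bot.mp this)
  · intro h
    have hmem : ((g.1 * c * g.1⁻¹, b') : A4 × A4) ∈ (Q : Subgroup (A4 × A4)) ⊓ Subgroup.prod ⊥ ⊤ := by
      rw [← h]; exact Subgroup.mem_zpowers _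
    have := (Subgroup.mem_prod.mp (Subgroup.mem_inf.mp hmem).2).1
    exact ha1 (Subgroup.mem_bot.mp this)
  · rw [Subgroup.zpowers_le]; exact hnorm

end Cfsg.Agent.S4406
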