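-- Statement S4407.
import Cfsg.Statements.S4407
import Cfsg.Agent.Lib.Helper29.D8ModCore
import Cfsg.Agent.Lib.Helper29.D8ModGroup

set_option autoImplicit false
open Cfsg

namespace Cfsg.Agent.S4407

open Cfsg.Agent.Lib.Helper29.D8Mod DihedralGroup

set_option maxHeartbeats 800000 in
/-- Let S be a finite group with a normal elementary abelian subgroup A of order 9 that is self-centralizing (C_S(A) = A), and a dihedral subgroup X of order 8 with S = AX. Let M be a finite-dimensional module for S over the field with two elements that is faithful and irreducible. Then M has 16 elements, and X contains exactly one subgroup B of order 4 and exponent 2 whose fixed points on M form a subspace with exactly 2 elements (equivalently, M is free of rank one over the group algebra of B). -/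
theorem result {S : Type*} [Group S] [Finite S]
    (A : Subgroup S) [A.Normal] (hA : Cfsg.IsElementaryAbelian 3 A) (hA9 : Nat.card ↥A = 9)
    (hAC : Subgroup.centralizer (A : Set S) = A) (X : Subgroup S) (hX : Nonempty (↥X ≃* DihedralGroup 4)) (hAX : A ⊔ X = ⊤)
    {M : Type*} [AddCommGroup M] [Module (ZMod 2) M] [Finite M] (ρ : Representation (ZMod 2) S M)
    (hfaith : Function.Injective ρ)
    (hirr : ∀ N : Submodule (ZMod 2) M, (∀ s : S, ∀ m ∈ N, ρ s m ∈ N) → N = ⊥ ∨ N = ⊤) (hM : Nontrivial M) :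
    Nat.card M = 16 ∧
      ∃! B : Subgroup S, B ≤ X ∧ Nat.card ↥B = 4 ∧ (∀ b ∈ B, b ^ 2 = 1) ∧
        Nat.card {m : M // ∀ b ∈ B, ρ b m = m} = 2 := by
  classical
  obtain ⟨e⟩ := hX
  obtain ⟨hAcomm, hAexp⟩ := hA
  -- basic facts in D8
  have hr4 : (r 1 : DihedralGroup 4) ^ 4 = 1 := by decide
  have hs2 : (sr 0 : DihedralGroup 4) ^ 2 = 1 := by decide
  have hsr : (sr 0 : DihedralGroup 4) * r 1 * (sr 0)⁻¹ = (r 1)⁻¹ := by decide
  have hr2 : (r 1 : DihedralGroup 4) ^ 2 ≠ 1 := by decide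
  have henumD : ∀ d : DihedralGroup 4, ∃ k : Fin 4, ∃ l : Fin 2,
      d = (r 1) ^ (k : ℕ) * (sr 0) ^ (l : ℕ) := by decide
  set c0 : ↥X := e.symm (r 1) with hc0
  set t0 : ↥X := e.symm (sr 0) with ht0
  set c : S := (c0 : S) with hc
  set t : S := (t0 : S) with ht
  have hcX : c ∈ X := c0.2
  have htX : t ∈ X := t0.2
  have hc4 : c ^ 4 = 1 := by
    have h : c0 ^ 4 = 1 := by rw [hc0, ← map_pow, hr4, map_one]
    have := congrArg Subtype.val h
    simpa using this
  have ht2 : t ^ 2 = 1 := by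
    have h : t0 ^ 2 = 1 := by rw [ht0, ← map_pow, hs2, map_one]
    have := congrArg Subtype.val h
    simpa using this
  have htc : t * c * t⁻¹ = c⁻¹ := by
    have h : t0 * c0 * t0⁻¹ = c0⁻¹ := by
      rw [hc0, ht0, ← map_mul, ← map_inv, ← map_mul, hsr, map_inv]
    have := congrArg Subtype.val h
    simpa using this
  have hc2 : c ^ 2 ≠ 1 := by
    intro h
    apply hr2
    have h' : c0 ^ 2 = 1 := Subtype.ext (by simpa using h)
    rw [hc0, ← map_pow] at h'
    exact (map_eq_one_iff e.symm e.symm.injective).1 h'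
  have henumX : ∀ x ∈ X, ∃ k l : ℕ, x = c ^ k * t ^ l := by
    intro x hx
    obtain ⟨k, l, hkl⟩ := henumD (e ⟨x, hx⟩)
    refine ⟨k, l, ?_⟩
    have h : (⟨x, hx⟩ : ↥X) = c0 ^ (k : ℕ) * t0 ^ (l : ℕ) := by
      rw [hc0, ht0, ← map_pow, ← map_pow, ← map_mul, ← hkl]; simp
    have := congrArg Subtype.val h
    simpa using this
  have hcardX : Nat.card ↥X = 8 := by
    rw [Nat.card_congr e.toEquiv, DihedralGroup.nat_card]
  have hfaithX : ∀ x ∈ X, (∀ u ∈ A, x * u * x⁻¹ = u) → x = 1 := by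
    intro x hx h
    have hxA : x ∈ A := by
      rw [← hAC, Subgroup.mem_centralizer_iff]
      intro u hu
      have := h u hu
      rw [mul_inv_eq_iff_eq_mul] at this
      exact this.symm
    have h1 : orderOf x ∣ 9 := hA9 ▸ Subgroup.orderOf_dvd_natCard A hxA
    have h2 : orderOf x ∣ 8 := hcardX ▸ Subgroup.orderOf_dvd_natCard X hx
    have h3 : orderOf x ∣ Nat.gcd 9 8 := Nat.dvd_gcd h1 h2
    have h4 : orderOf x = 1 := Nat.dvd_one.1 (by simpa using h3)
    exact orderOf_eq_one_iff.1 h4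
  -- the action on A
  have := hAcomm
  let instC : CommGroup ↥A :=
    { (inferInstance : Group ↥A) with mul_comm := fun x y => mul_comm' x y }
  have h3A : ∀ x : ↥A, x ^ 3 = 1 := fun x => Subtype.ext (by simpa using hAexp x x.2)
  have hconj1 : ∀ g : S, g ∈ X → (MulAut.conjNormal g : MulAut ↥A) = 1 → g = 1 := by
    intro g hg h
    apply hfaithX g hg
    intro u hu
    have := DFunLike.congr_fun h ⟨u, hu⟩
    have := congrArg Subtype.val this
    simpa [MulAut.conjNormal_apply] using this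
  have hγ4 : (MulAut.conjNormal c : MulAut ↥A) ^ 4 = 1 := by
    rw [← map_pow, hc4, map_one]
  have hγ2 : (MulAut.conjNormal c : MulAut ↥A) ^ 2 ≠ 1 := by
    rw [← map_pow]
    intro h
    exact hc2 (hconj1 _ (X.pow_mem hcX 2) h)
  have hτ2 : (MulAut.conjNormal t : MulAut ↥A) ^ 2 = 1 := by
    rw [← map_pow, ht2, map_one]
  have hτγ : (MulAut.conjNormal t : MulAut ↥A) * MulAut.conjNormal c * (MulAut.conjNormal t)⁻¹
      = (MulAut.conjNormal c)⁻¹ := by
    rw [← map_inv, ← map_mul, ← map_mul, htc, map_inv]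
  obtain ⟨a0, ha01, haτ, hbτ, hγγ, henumA0⟩ :=
    groupSide h3A hA9 (MulAut.conjNormal c) (MulAut.conjNormal t) hγ4 hγ2 hτ2 hτγ
  set a : S := (a0 : S) with ha
  set b : S := c * a * c⁻¹ with hb
  have haA : a ∈ A := a0.2
  have hbA : b ∈ A := ‹A.Normal›.conj_mem a haA c
  have ha1 : a ≠ 1 := by
    intro h; apply ha01; exact Subtype.ext h
  have hat : t * a * t⁻¹ = a := by
    have := congrArg Subtype.val haτ
    simpa [MulAut.conjNormal_apply] using this
  have hbt : t * b * t⁻¹ = b⁻¹ := by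
    have h1 : ((MulAut.conjNormal t (MulAut.conjNormal c a0) : ↥A) : S) = t * (c * a * c⁻¹) * t⁻¹ := by
      rw [MulAut.conjNormal_apply, MulAut.conjNormal_apply]
    have h2 : (((MulAut.conjNormal c a0)⁻¹ : ↥A) : S) = (c * a * c⁻¹)⁻¹ := by
      rw [Subgroup.coe_inv, MulAut.conjNormal_apply]
    rw [hb, ← h1, hbτ, h2]
  have hcb : c * b * c⁻¹ = a⁻¹ := by
    have := congrArg Subtype.val hγγ
    simpa [MulAut.conjNormal_apply] using this
  have henumA : ∀ x ∈ A, ∃ i j : ℕ, x = a ^ i * b ^ j := by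
    intro x hx
    obtain ⟨i, j, hij⟩ := henumA0 ⟨x, hx⟩
    refine ⟨i, j, ?_⟩
    have := congrArg Subtype.val hij
    rw [Subgroup.coe_mul, Subgroup.coe_pow, Subgroup.coe_pow, MulAut.conjNormal_apply] at this
    exact this
  -- group identities
  have ha3 : a * (a * a) = 1 := by
    have := hAexp a haA
    rw [pow_succ, pow_two, mul_assoc] at this; exact this
  have hb3 : b * (b * b) = 1 := by
    have := hAexp b hbA
    rw [pow_succ, pow_two, mul_assoc] at this; exact this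
  have hab : a * b = b * a := by
    have := mul_comm' (⟨a, haA⟩ : ↥A) ⟨b, hbA⟩
    exact congrArg Subtype.val this
  have htt : t * t = 1 := by rw [← pow_two, ht2]
  have hcccc : c * (c * (c * c)) = 1 := by
    rw [← hc4]; simp only [pow_succ, pow_zero, one_mul, mul_assoc]
  have hta : t * a = a * t := mul_inv_eq_iff_eq_mul.1 hat
  have hbinv : b⁻¹ = b * b := inv_eq_iff_mul_eq_one.2 hb3
  have hainv : a⁻¹ = a * a := inv_eq_iff_mul_eq_one.2 ha3
  have hcinv : c⁻¹ = c * (c * c) := inv_eq_iff_mul_eq_one.2 hcccc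
  have htb : t * b = b * (b * t) := by
    have := mul_inv_eq_iff_eq_mul.1 hbt
    rw [this, hbinv, mul_assoc]
  have hca : c * a = b * c := by
    rw [hb]; group
  have hcb' : c * b = a * (a * c) := by
    have := mul_inv_eq_iff_eq_mul.1 hcb
    rw [this, hainv, mul_assoc]
  have htc' : t * c = c * (c * (c * t)) := by
    have := mul_inv_eq_iff_eq_mul.1 htc
    rw [this, hcinv, mul_assoc, mul_assoc]
  -- module side
  have hρ : ∀ (g h : S) (m : M), ρ g (ρ h m) = ρ (g * h) m := by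
    intro g h m; rw [map_mul]; rfl
  have hρ1 : ∀ m : M, ρ 1 m = m := by
    intro m; rw [map_one]; rfl
  have hpow_inv : ∀ (N : Submodule (ZMod 2) M) (g : S), (∀ m ∈ N, ρ g m ∈ N) →
      ∀ (n : ℕ), ∀ m ∈ N, ρ (g ^ n) m ∈ N := by
    intro N g hg n
    induction n with
    | zero => intro m hm; rw [pow_zero, hρ1]; exact hm
    | succ n ih => intro m hm; rw [pow_succ, ← hρ]; exact ih _ (hg m hm)
  have hgen : ∀ N : Submodule (ZMod 2) M, (∀ m ∈ N, ρ a m ∈ N) → (∀ m ∈ N, ρ b m ∈ N) →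
      (∀ m ∈ N, ρ t m ∈ N) → (∀ m ∈ N, ρ c m ∈ N) → N = ⊥ ∨ N = ⊤ := by
    intro N h1 h2 h3 h4
    apply hirr
    intro s m hm
    have hs : s ∈ ((A ⊔ X : Subgroup S) : Set S) := by rw [hAX]; trivial
    rw [Subgroup.normal_mul] at hs
    obtain ⟨u, hu, x, hx, rfl⟩ := Set.mem_mul.1 hs
    obtain ⟨i, j, rfl⟩ := henumA u hu
    obtain ⟨k, l, rfl⟩ := henumX x hx
    rw [← hρ, ← hρ, ← hρ]
    exact hpow_inv N a h1 i _ (hpow_inv N b h2 j _ (hpow_inv N c h4 k _ (hpow_inv N t h3 l _ hm)))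
  have hCMA : ∀ m : M, (∀ u ∈ A, ρ u m = m) → m = 0 := by
    let N0 : Submodule (ZMod 2) M :=
      { carrier := {m | ∀ u ∈ A, ρ u m = m}
        add_mem' := by
          intro x y hx hy u hu
          rw [map_add, hx u hu, hy u hu]
        zero_mem' := by intro u _; rw [map_zero]
        smul_mem' := by
          intro r x hx u hu
          rw [map_smul, hx u hu] }
    have hN0 : ∀ m, m ∈ N0 ↔ ∀ u ∈ A, ρ u m = m := fun m => Iff.rfl
    have hinv : ∀ s : S, ∀ m ∈ N0, ρ s m ∈ N0 := by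
      intro s m hm
      rw [hN0] at hm ⊢
      intro u hu
      have h1 : s⁻¹ * u * s ∈ A := by
        have := ‹A.Normal›.conj_mem u hu s⁻¹
        rwa [inv_inv] at this
      have h2 : u * s = s * (s⁻¹ * u * s) := by group
      rw [hρ, h2, ← hρ, hm _ h1]
    rcases hirr N0 hinv with h | h
    · intro m hm
      have : m ∈ N0 := (hN0 m).2 hm
      rw [h] at this
      simpa using this
    · exfalso
      apply ha1
      apply hfaith
      rw [map_one]
      ext m
      have : m ∈ N0 := by rw [h]; trivial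
      exact (hN0 m).1 this a haA
  have hfix0 : ∀ m : M, ρ a m = m → ρ b m = m → m = 0 := by
    intro m h1 h2
    apply hCMA
    intro u hu
    obtain ⟨i, j, rfl⟩ := henumA u hu
    have hpa : ∀ n : ℕ, ρ (a ^ n) m = m := by
      intro n
      induction n with
      | zero => rw [pow_zero, hρ1]
      | succ n ih => rw [pow_succ, ← hρ, h1, ih]
    have hpb : ∀ n : ℕ, ρ (b ^ n) m = m := by
      intro n
      induction n with
      | zero => rw [pow_zero, hρ1]
      | succ n ih => rw [pow_succ, ← hρ, h2, ih]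
    rw [← hρ, hpb, hpa]
  have hrel : ∀ (g h : S), g = h → ∀ m : M, ρ g m = ρ h m := by
    intro g h e m; rw [e]
  let R : Rel M :=
    { α := ρ a
      β := ρ b
      τ := ρ t
      γ := ρ c
      α3 := by
        intro m; rw [hρ, hρ, hrel (a * a * a) 1 (by rw [mul_assoc]; exact ha3), hρ1]
      β3 := by
        intro m; rw [hρ, hρ, hrel (b * b * b) 1 (by rw [mul_assoc]; exact hb3), hρ1]
      αβ := by intro m; rw [hρ, hρ, hrel _ _ hab]
      τ2 := by intro m; rw [hρ, hrel _ _ htt, hρ1]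
      γ4 := by
        intro m
        rw [hρ, hρ, hρ, hrel (c * c * c * c) 1 (by rw [mul_assoc, mul_assoc]; exact hcccc), hρ1]
      τα := by intro m; rw [hρ, hρ, hrel _ _ hta]
      τβ := by
        intro m; rw [hρ, hρ, hρ, hrel (t * b) (b * b * t) (by rw [mul_assoc]; exact htb)]
      γα := by intro m; rw [hρ, hρ, hrel _ _ hca]
      γβ := by
        intro m; rw [hρ, hρ, hρ, hrel (c * b) (a * a * c) (by rw [mul_assoc]; exact hcb')]
      τγ := by
        intro m
        rw [hρ, hρ, hρ, hρ,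
          hrel (t * c) (c * c * c * t) (by rw [mul_assoc, mul_assoc]; exact htc')]
      fix0 := hfix0
      irr := hgen }
  obtain ⟨hcard, hcounts⟩ := R.final
  refine ⟨hcard, ?_⟩
  -- the two four-subgroups
  have hd_r2 : (r 2 : DihedralGroup 4) = r 1 * r 1 := by decide
  have hd_sr2 : (sr 2 : DihedralGroup 4) = r 1 * r 1 * sr 0 := by decide
  have hd_sr3 : (sr 3 : DihedralGroup 4) = r 1 * sr 0 := by decide
  have hd_sr1 : (sr 1 : DihedralGroup 4) = r 1 * r 1 * (r 1 * sr 0) := by decide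
  have he1 : ((e.symm 1 : ↥X) : S) = 1 := by rw [map_one]; rfl
  have he_r2 : ((e.symm (r 2) : ↥X) : S) = c * c := by
    rw [hd_r2, map_mul]; rfl
  have he_sr0 : ((e.symm (sr 0) : ↥X) : S) = t := rfl
  have he_sr2 : ((e.symm (sr 2) : ↥X) : S) = c * c * t := by
    rw [hd_sr2, map_mul, map_mul]; rfl
  have he_sr3 : ((e.symm (sr 3) : ↥X) : S) = c * t := by
    rw [hd_sr3, map_mul]; rfl
  have he_sr1 : ((e.symm (sr 1) : ↥X) : S) = c * c * (c * t) := by
    rw [hd_sr1, map_mul, map_mul, map_mul]; rfl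
  have hexpD1 : ∀ d ∈ D1, d ^ 2 = 1 := by
    intro d hd
    rcases (mem_D1 d).1 hd with rfl | rfl | rfl | rfl <;> decide
  have hexpD2 : ∀ d ∈ D2, d ^ 2 = 1 := by
    intro d hd
    rcases (mem_D2 d).1 hd with rfl | rfl | rfl | rfl <;> decide
  have hexpV : ∀ D : Subgroup (DihedralGroup 4), (∀ d ∈ D, d ^ 2 = 1) →
      ∀ b ∈ liftD X e D, b ^ 2 = 1 := by
    intro D hD b hb
    obtain ⟨d, hd, rfl⟩ := (mem_liftD X e).1 hb
    have : (e.symm d) ^ 2 = 1 := by rw [← map_pow, hD d hd, map_one]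
    have := congrArg Subtype.val this
    simpa using this
  have hfix1 : ∀ m : M, (∀ b ∈ liftD X e D1, ρ b m = m) ↔ (R.γ (R.γ m) = m ∧ R.τ m = m) := by
    intro m
    show _ ↔ (ρ c (ρ c m) = m ∧ ρ t m = m)
    constructor
    · intro h
      refine ⟨?_, ?_⟩
      · rw [hρ, ← he_r2]
        exact h _ ((mem_liftD X e).2 ⟨r 2, (mem_D1 _).2 (Or.inr (Or.inl rfl)), rfl⟩)
      · rw [← he_sr0]
        exact h _ ((mem_liftD X e).2 ⟨sr 0, (mem_D1 _).2 (Or.inr (Or.inr (Or.inl rfl))), rfl⟩)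
    · rintro ⟨h1, h2⟩ b hb
      obtain ⟨d, hd, rfl⟩ := (mem_liftD X e).1 hb
      rcases (mem_D1 d).1 hd with rfl | rfl | rfl | rfl
      · rw [he1, hρ1]
      · rw [he_r2, ← hρ, h1]
      · rw [he_sr0, h2]
      · rw [he_sr2, ← hρ, h2, ← hρ, h1]
  have hfix2 : ∀ m : M, (∀ b ∈ liftD X e D2, ρ b m = m) ↔
      (R.γ (R.γ m) = m ∧ R.γ (R.τ m) = m) := by
    intro m
    show _ ↔ (ρ c (ρ c m) = m ∧ ρ c (ρ t m) = m)
    constructor
    · intro h
      refine ⟨?_, ?_⟩
      · rw [hρ, ← he_r2]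
        exact h _ ((mem_liftD X e).2 ⟨r 2, (mem_D2 _).2 (Or.inr (Or.inl rfl)), rfl⟩)
      · rw [hρ, ← he_sr3]
        exact h _ ((mem_liftD X e).2 ⟨sr 3, (mem_D2 _).2 (Or.inr (Or.inr (Or.inr rfl))), rfl⟩)
    · rintro ⟨h1, h2⟩ b hb
      obtain ⟨d, hd, rfl⟩ := (mem_liftD X e).1 hb
      rcases (mem_D2 d).1 hd with rfl | rfl | rfl | rfl
      · rw [he1, hρ1]
      · rw [he_r2, ← hρ, h1]
      · rw [he_sr1, ← hρ, ← hρ, ← hρ, h2, h1]
      · rw [he_sr3, ← hρ, h2]
  have hcnt1 : Nat.card {m : M // ∀ b ∈ liftD X e D1, ρ b m = m} =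
      Nat.card {m : M // R.γ (R.γ m) = m ∧ R.τ m = m} :=
    Nat.card_congr (Equiv.subtypeEquivRight hfix1)
  have hcnt2 : Nat.card {m : M // ∀ b ∈ liftD X e D2, ρ b m = m} =
      Nat.card {m : M // R.γ (R.γ m) = m ∧ R.γ (R.τ m) = m} :=
    Nat.card_congr (Equiv.subtypeEquivRight hfix2)
  have hV1 : liftD X e D1 ≤ X ∧ Nat.card ↥(liftD X e D1) = 4 ∧ ∀ b ∈ liftD X e D1, b ^ 2 = 1 :=
    ⟨liftD_le X e D1, by rw [card_liftD, card_D1], hexpV D1 hexpD1⟩
  have hV2 : liftD X e D2 ≤ X ∧ Nat.card ↥(liftD X e D2) = 4 ∧ ∀ b ∈ liftD X e D2, b ^ 2 = 1 :=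
    ⟨liftD_le X e D2, by rw [card_liftD, card_D2], hexpV D2 hexpD2⟩
  rcases hcounts with ⟨h4, h2⟩ | ⟨h2, h4⟩
  · refine ⟨liftD X e D2, ⟨hV2.1, hV2.2.1, hV2.2.2, hcnt2.trans h2⟩, ?_⟩
    rintro B ⟨hle, hcard4, hexp, hcnt⟩
    rcases four_cases X e B hle hcard4 hexp with h | h
    · exfalso
      rw [h, hcnt1, h4] at hcnt
      omega
    · exact h
  · refine ⟨liftD X e D1, ⟨hV1.1, hV1.2.1, hV1.2.2, hcnt1.trans h2⟩, ?_⟩
    rintro B ⟨hle, hcard4, hexp, hcnt⟩
    rcases four_cases X e B hle hcard4 hexp with h | h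
    · exact h
    · exfalso
      rw [h, hcnt2, h4] at hcnt
      omega

end Cfsg.Agent.S4407
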