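import Cfsg.Statements.S4408
import Cfsg.Agent.Lib.helper23.ElemTwoAct

set_option autoImplicit false
open Cfsg

namespace Cfsg.Agent.S4408

open Cfsg.Agent.Lib.helper23 in
/-- Let S be a finite solvable group whose Fitting subgroup F(S) has odd order, and let I be an elementary abelian 2-subgroup of S of order 2ⁿ with n ≥ 1. Then F(S) contains subgroups A₁, …, Aₙ of prime order, each normalized by I, pairwise commuting and generating a subgroup A of order |A₁|⋯|Aₙ| (their internal direct product), such that no non-identity element of I centralizes A. -/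
theorem result {S : Type*} [Group S] [Finite S]
    [Group.IsSolvable S] (hF : Odd (Nat.card ↥(Cfsg.fittingSubgroup S)))
    (I : Subgroup S) (hI : Cfsg.IsElementaryAbelian 2 I) (n : ℕ) (hn : 1 ≤ n) (hIn : Nat.card ↥I = 2 ^ n) :
    ∃ f : Fin n → Subgroup S, (∀ i, (Nat.card ↥(f i)).Prime) ∧ (∀ i, f i ≤ Cfsg.fittingSubgroup S) ∧
      (∀ i, I ≤ Subgroup.normalizer ((f i) : Set S)) ∧ (∀ i j, i ≠ j → ∀ a ∈ f i, ∀ b ∈ f j, a * b = b * a) ∧
      Nat.card ↥(⨆ i, f i) = ∏ i, Nat.card ↥(f i) ∧ I ⊓ Subgroup.centralizer ((⨆ i, f i : Subgroup S) : Set S) = ⊥ := by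
  obtain ⟨hIcomm, hIexp⟩ := hI
  have hIc : ∀ a ∈ I, ∀ b ∈ I, a * b = b * a := by
    intro a ha b hb
    have := (isMulCommutative_iff.1 hIcomm) (⟨a, ha⟩ : I) ⟨b, hb⟩
    exact congrArg Subtype.val this
  have hI2 : ∀ a ∈ I, a * a = 1 := by
    intro a ha
    have := hIexp a ha
    rwa [pow_two] at this
  obtain ⟨f, hfp, hfF, hfinv, hfcomm, hfcard, hfJ⟩ := eta_main hF I hIc hI2 n hIn n le_rfl
  refine ⟨f, hfp, hfF, ?_, hfcomm, hfcard, ?_⟩
  · intro i s hs
    rw [Subgroup.mem_normalizer_iff]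
    intro h
    constructor
    · intro hh
      exact hfinv i s hs h hh
    · intro hh
      have := hfinv i s⁻¹ (I.inv_mem hs) _ hh
      have e : s⁻¹ * (s * h * s⁻¹) * s⁻¹⁻¹ = h := by group
      rwa [e] at this
  · have h1 : Nat.card ↥(I ⊓ Subgroup.centralizer ((⨆ i, f i : Subgroup S) : Set S)) = 1 := by
      have hpos : 0 < 2 ^ n := by positivity
      exact Nat.eq_of_mul_eq_mul_right hpos (by rw [hfJ, one_mul])
    exact Subgroup.card_eq_one.1 h1

end Cfsg.Agent.S4408
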