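import Cfsg.Statements.S4410
import Cfsg.Agent.Lib.Helper20.HHThmH
import Cfsg.Agent.Lib.Helper5.SolvPSolv

set_option autoImplicit false
open Cfsg

namespace Cfsg.Agent.S4410



/-- Let V be a finite-dimensional vector space over the field with two elements and S a solvable group of linear automorphisms of V with O₂(S) = 1. If P ∈ S has order 4 and (P − 1)³ = 0 on V, then the image of (P − 1)² has at least 4 elements; equivalently, in the decomposition of V into indecomposable modules for the cyclic group generated by P, at least two summands have dimension 3. -/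
theorem result
    {V : Type*} [AddCommGroup V] [Module (ZMod 2) V] [Finite V]
    (S : Subgroup (V ≃ₗ[ZMod 2] V)) (hS : Group.IsSolvable ↥S) (hO2 : Cfsg.pCore 2 ↥S = ⊥)
    (P : V ≃ₗ[ZMod 2] V) (hPS : P ∈ S) (hP4 : orderOf P = 4)
    (hcub : ((P : V →ₗ[ZMod 2] V) - LinearMap.id) ^ 3 = 0) :
    4 ≤ Nat.card ↥(LinearMap.range (((P : V →ₗ[ZMod 2] V) - LinearMap.id) ^ 2)) := by
  classical
  haveI : Module.Finite (ZMod 2) V := Module.Finite.of_finite
  haveI : Finite (V ≃ₗ[ZMod 2] V) :=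
    Finite.of_injective (fun e : V ≃ₗ[ZMod 2] V => (e : V → V)) DFunLike.coe_injective
  have hsol2 : Cfsg.IsPSolvable 2 ↥S :=
    Cfsg.Agent.Lib.Helper5.isPSolvable_of_isSolvable 2 ↥S hS
  have hP4 : P ^ 4 = 1 := by rw [← hP4]; exact pow_orderOf_eq_one P
  obtain ⟨xH, hxH⟩ : ∃ xH : ↥S, xH = ⟨P, hPS⟩ := ⟨_, rfl⟩
  have hxpow : xH ^ 2 ^ 2 = 1 := by
    rw [hxH]
    apply Subtype.ext
    rw [Subgroup.coe_pow]
    exact hP4
  have hy : xH ^ 2 ^ (2 - 1) ≠ 1 := by
    intro h1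
    have h2 : P ^ 2 = 1 := by
      have := congrArg Subtype.val h1
      rw [hxH, Subgroup.coe_pow] at this
      exact this
    have h3 := orderOf_dvd_of_pow_eq_one h2
    rw [‹orderOf P = 4›] at h3
    omega
  obtain ⟨q, hq, hq2, Q, hQ, hxQ, z, hz, hzne⟩ :=
    Cfsg.Agent.Lib.Helper20.HHThm.exists_moved hsol2 hO2 xH (le_refl 1 |>.trans (by norm_num))
      hxpow hy
  haveI : Fact q.Prime := ⟨hq⟩
  obtain ⟨ρ₀, hρ₀⟩ : ∃ ρ₀ : ↥S →* Module.End (ZMod 2) V,
      ρ₀ = (LinearEquiv.automorphismGroup.toLinearMapMonoidHom (R := ZMod 2) (M := V)).comp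
        S.subtype := ⟨_, rfl⟩
  have hρ₀a : ∀ g : ↥S, ρ₀ g = (g : V ≃ₗ[ZMod 2] V).toLinearMap := by
    intro g
    rw [hρ₀]
    rfl
  have hinj : Function.Injective ρ₀ := by
    intro a b hab
    rw [hρ₀a, hρ₀a] at hab
    apply Subtype.ext
    exact LinearEquiv.toLinearMap_injective hab
  obtain ⟨y, hydef⟩ : ∃ y : ↥S, y = xH ^ 2 ^ (2 - 1) := ⟨_, rfl⟩
  rw [← hydef] at hzne hy
  have hnt : ∃ g ∈ Q, y * g ≠ g * y := by
    refine ⟨z, hz, ?_⟩
    intro h
    apply hzne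
    rw [h]
    group
  obtain ⟨Q₁, hQ₁Q, hM⟩ := Cfsg.Agent.Lib.Helper20.HHThm.exists_minAct2 xH y ⟨_, hydef⟩
    (Nat.card Q) Q rfl hxQ hnt
  have hQ₁ : IsPGroup q Q₁ := hQ.to_le hQ₁Q
  have hq2' : (2 : ℕ) ≠ q := Ne.symm hq2
  have hcub' : (ρ₀ xH - 1) ^ 3 = 0 := by
    rw [hρ₀a, hxH]
    exact hcub
  -- `Q₁` is non-abelian by Theorem B
  have hnab : ¬ ∀ g ∈ Q₁, ∀ g' ∈ Q₁, g * g' = g' * g := by
    obtain ⟨g, hg, hgy⟩ := hM.nontriv
    have hconcl := Cfsg.Agent.Lib.Helper20.HHThm.main_field (k := ZMod 2) (p := 2) (q := q)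
      hq2' ρ₀ Q₁ hQ₁ xH hM.norm 2 (by norm_num) hxpow
      ⟨g, hg, fun h => hgy (by
        have h1 := hinj h
        rw [← hydef] at h1
        calc y * g = (y * g * y⁻¹) * y := by group
          _ = g * y := by rw [h1])⟩ 3 hcub'
    rcases hconcl with h | ⟨n₀, m, _, _, _, _, h5, _⟩
    · norm_num at h
    · exact h5
  -- the involution `y` acts as `(P - 1) ^ 2`
  have hyr : y ^ 2 = 1 := by
    rw [hydef]
    exact Cfsg.Agent.Lib.Helper20.HHThm.pow_top_pow xH 2 (by norm_num) hxpow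
  have hqr : q.Coprime 2 := (Nat.coprime_primes hq Nat.prime_two).mpr hq2
  obtain ⟨Y, hY⟩ : ∃ Y : Module.End (ZMod 2) V, Y = ρ₀ y := ⟨_, rfl⟩
  have hYsq : ((P : V →ₗ[ZMod 2] V) - LinearMap.id) ^ 2 = Y - 1 := by
    have h1 := (Cfsg.Agent.Lib.Helper20.HHMod.geom_char (K := ZMod 2) 2 (ρ₀ xH) 1).1
    rw [pow_one, ← map_pow] at h1
    have h2 : xH ^ 2 = y := by rw [hydef]; norm_num
    rw [h2, hρ₀a, hxH] at h1
    rw [hY]
    exact h1
  have hYY : Y * Y = 1 := by
    rw [hY, ← map_mul, ← pow_two, hyr, map_one]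
  -- a commutator on whose commutator space `y` acts non-trivially
  have hex : ∃ a ∈ Q₁, ∃ b ∈ Q₁, (Y - 1) * (ρ₀ (a * b * a⁻¹ * b⁻¹) - 1) ≠ 0 := by
    by_contra hcon
    push Not at hcon
    apply hnab
    intro a ha b hb
    obtain ⟨hcen, hyz⟩ := hM.comm_central hQ₁ hqr hyr a b ha hb
    set z₀ := a * b * a⁻¹ * b⁻¹ with hz₀
    have hz₀Q : z₀ ∈ Q₁ := Q₁.mul_mem (Q₁.mul_mem (Q₁.mul_mem ha hb) (Q₁.inv_mem ha)) (Q₁.inv_mem hb)
    have h0 := hcon a ha b hb
    rw [← hz₀] at h0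
    -- every element of `Q₁` acts trivially on the commutator space of `z₀`
    have hYfix : ∀ w ∈ LinearMap.range (ρ₀ z₀ - 1), Y w = w := by
      rintro _ ⟨v, rfl⟩
      have := congrArg (fun f : Module.End (ZMod 2) V => f v) h0
      simp only [Module.End.mul_apply, LinearMap.zero_apply, LinearMap.sub_apply,
        Module.End.one_apply] at this
      exact sub_eq_zero.mp this
    have hYinv : ∀ w ∈ LinearMap.range (ρ₀ z₀ - 1), ρ₀ y⁻¹ w = w := by
      intro w hw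
      have h1 := hYfix w hw
      rw [hY] at h1
      calc ρ₀ y⁻¹ w = ρ₀ y⁻¹ (ρ₀ y w) := by rw [h1]
        _ = w := by
          rw [← Module.End.mul_apply, Cfsg.Agent.Lib.Helper20.HHExt.rho_inv',
            Module.End.one_apply]
    have hginv : ∀ g ∈ Q₁, ∀ w ∈ LinearMap.range (ρ₀ z₀ - 1),
        ρ₀ g w ∈ LinearMap.range (ρ₀ z₀ - 1) := by
      rintro g hg _ ⟨v, rfl⟩
      refine ⟨ρ₀ g v, ?_⟩
      rw [LinearMap.sub_apply, LinearMap.sub_apply, Module.End.one_apply, Module.End.one_apply,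
        map_sub, ← Module.End.mul_apply, ← Module.End.mul_apply, ← map_mul, ← map_mul,
        hcen g hg]
    have htriv : ∀ g ∈ Q₁, ∀ w ∈ LinearMap.range (ρ₀ z₀ - 1), ρ₀ g w = w := by
      intro g hg
      rw [← hM.closure_commSet_eq hQ₁ hqr hyr] at hg
      induction hg using Subgroup.closure_induction with
      | mem c hc =>
        obtain ⟨g, hg, rfl⟩ := hc
        intro w hw
        rw [map_mul, map_mul, map_mul, Module.End.mul_apply, Module.End.mul_apply,
          Module.End.mul_apply, hYinv w hw, ← hY, hYfix _ (hginv g hg w hw),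
          ← Module.End.mul_apply, Cfsg.Agent.Lib.Helper20.HHExt.rho_inv', Module.End.one_apply]
      | one =>
        intro w _
        rw [map_one, Module.End.one_apply]
      | mul a b _ _ iha ihb =>
        intro w hw
        rw [map_mul, Module.End.mul_apply, ihb w hw, iha w hw]
      | inv a _ iha =>
        intro w hw
        have := iha w hw
        calc ρ₀ a⁻¹ w = ρ₀ a⁻¹ (ρ₀ a w) := by rw [this]
          _ = w := by
            rw [← Module.End.mul_apply, Cfsg.Agent.Lib.Helper20.HHExt.rho_inv',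
              Module.End.one_apply]
    have hsq : (ρ₀ z₀ - 1) ^ 2 = 0 := by
      apply LinearMap.ext
      intro v
      rw [pow_two, Module.End.mul_apply, LinearMap.sub_apply (ρ₀ z₀) 1 ((ρ₀ z₀ - 1) v),
        Module.End.one_apply, htriv z₀ hz₀Q _ ⟨v, rfl⟩, sub_self, LinearMap.zero_apply]
    obtain ⟨e, he⟩ := hQ₁ ⟨z₀, hz₀Q⟩
    have he' : z₀ ^ q ^ e = 1 := congrArg Subtype.val he
    have h1 : ρ₀ z₀ = 1 := Cfsg.Agent.Lib.Helper20.HHThm.eq_one_of_unipotent (K := ZMod 2)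
      (p := 2) (q := q) hq2' (ρ₀ z₀) e (by rw [← map_pow, he', map_one]) 2 hsq
    rw [← map_one ρ₀] at h1
    have h2 : z₀ = 1 := hinj h1
    calc a * b = (a * b * a⁻¹ * b⁻¹) * (b * a) := by group
      _ = b * a := by rw [← hz₀, h2, one_mul]
  obtain ⟨a, ha, b, hb, hne⟩ := hex
  obtain ⟨hcen, hyz⟩ := hM.comm_central hQ₁ hqr hyr a b ha hb
  set z₀ := a * b * a⁻¹ * b⁻¹ with hz₀
  have hz₀Q : z₀ ∈ Q₁ := Q₁.mul_mem (Q₁.mul_mem (Q₁.mul_mem ha hb) (Q₁.inv_mem ha)) (Q₁.inv_mem hb)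
  obtain ⟨Zc, hZc⟩ : ∃ Zc : Module.End (ZMod 2) V, Zc = ρ₀ z₀ := ⟨_, rfl⟩
  rw [← hZc] at hne
  have hcommYZ : Y * Zc = Zc * Y := by
    rw [hY, hZc, ← map_mul, ← map_mul, hyz]
  obtain ⟨v₀, hv₀⟩ : ∃ v₀ : V, ((Y - 1) * (Zc - 1)) v₀ ≠ 0 := by
    by_contra hcon
    push Not at hcon
    apply hne
    apply LinearMap.ext
    intro v
    rw [hcon v, LinearMap.zero_apply]
  set w := ((Y - 1) * (Zc - 1)) v₀ with hw
  have hcY1 : Commute (Y - 1) Zc :=
    (show Commute Y Zc from hcommYZ).sub_left (Commute.one_left _)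
  have hcomm2 : (Y - 1) * (Zc - 1) = (Zc - 1) * (Y - 1) :=
    (hcY1.sub_right (Commute.one_right _)).eq
  -- `Zc` has odd order and no fixed point on `w`
  obtain ⟨e, he⟩ := hQ₁ ⟨z₀, hz₀Q⟩
  have he' : z₀ ^ q ^ e = 1 := congrArg Subtype.val he
  have hZN : Zc ^ q ^ e = 1 := by rw [hZc, ← map_pow, he', map_one]
  have hZw : Zc w ≠ w := by
    intro hfix
    have hpow : ∀ i : ℕ, (Zc ^ i) w = w := by
      intro i
      induction i with
      | zero => simp
      | succ k ih => rw [pow_succ, Module.End.mul_apply, hfix, ih]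
    have h1 : (∑ i ∈ Finset.range (q ^ e), Zc ^ i) * (Zc - 1) = 0 := by
      rw [geom_sum_mul, hZN, sub_self]
    have h2 : (∑ i ∈ Finset.range (q ^ e), Zc ^ i) w = 0 := by
      rw [hw, hcomm2, ← Module.End.mul_apply, ← mul_assoc, h1, zero_mul, LinearMap.zero_apply]
    rw [LinearMap.sum_apply, Finset.sum_congr rfl (fun i _ => hpow i), Finset.sum_const,
      Finset.card_range] at h2
    have hodd : ¬ 2 ∣ q ^ e := by
      intro h
      have := (Nat.prime_dvd_prime_iff_eq Nat.prime_two hq).mp (Nat.prime_two.dvd_of_dvd_pow h)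
      exact hq2 this.symm
    have h3 : ((q ^ e : ℕ) : ZMod 2) = 1 := by
      have h4 : (q ^ e) % 2 = 1 := by omega
      have : ((q ^ e : ℕ) : ZMod 2) = ((q ^ e % 2 : ℕ) : ZMod 2) := by
        rw [ZMod.natCast_mod]
      rw [this, h4, Nat.cast_one]
    rw [← Nat.cast_smul_eq_nsmul (ZMod 2), h3, one_smul] at h2
    exact hv₀ h2
  -- four distinct elements in the image
  have hwR : w ∈ LinearMap.range (Y - 1) := ⟨(Zc - 1) v₀, rfl⟩
  have hZwR : Zc w ∈ LinearMap.range (Y - 1) := by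
    refine ⟨Zc ((Zc - 1) v₀), ?_⟩
    rw [hw, Module.End.mul_apply, ← Module.End.mul_apply (Y - 1) Zc, hcY1.eq,
      Module.End.mul_apply]
  have hZw0 : Zc w ≠ 0 := by
    intro h0
    have h1 : (Zc ^ (q ^ e - 1) * Zc) w = 0 := by
      rw [Module.End.mul_apply, h0, map_zero]
    have hpos : 1 ≤ q ^ e := Nat.one_le_pow _ _ hq.pos
    rw [← pow_succ, Nat.sub_add_cancel hpos, hZN, Module.End.one_apply] at h1
    exact hv₀ h1
  rw [hYsq]
  obtain ⟨a₁, ha₁⟩ : ∃ a₁ : ↥(LinearMap.range (Y - 1)), a₁ = ⟨w, hwR⟩ := ⟨_, rfl⟩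
  obtain ⟨a₂, ha₂⟩ : ∃ a₂ : ↥(LinearMap.range (Y - 1)), a₂ = ⟨Zc w, hZwR⟩ := ⟨_, rfl⟩
  have e1 : a₁ ≠ 0 := fun h => hv₀ (by rw [ha₁] at h; exact congrArg Subtype.val h)
  have e2 : a₂ ≠ 0 := fun h => hZw0 (by rw [ha₂] at h; exact congrArg Subtype.val h)
  have e3 : a₂ ≠ a₁ := fun h => hZw (by rw [ha₁, ha₂] at h; exact congrArg Subtype.val h)
  have hdouble : a₁ + a₁ = 0 := by
    rw [← two_smul (ZMod 2)]
    have : (2 : ZMod 2) = 0 := by decide
    rw [this, zero_smul]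
  have e4 : a₁ + a₂ ≠ 0 := by
    intro h
    apply e3
    exact add_left_cancel (h.trans hdouble.symm)
  have e5 : a₁ + a₂ ≠ a₁ := by
    intro h
    exact e2 (add_left_cancel (h.trans (add_zero _).symm))
  have e6 : a₁ + a₂ ≠ a₂ := by
    intro h
    exact e1 (add_right_cancel (h.trans (zero_add _).symm))
  have hs : ({0, a₁, a₂, a₁ + a₂} : Finset ↥(LinearMap.range (Y - 1))).card = 4 := by
    rw [Finset.card_insert_of_notMem, Finset.card_insert_of_notMem,
      Finset.card_insert_of_notMem, Finset.card_singleton]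
    · rw [Finset.mem_singleton]
      exact fun h => e6 h.symm
    · rw [Finset.mem_insert, Finset.mem_singleton]
      rintro (h | h)
      · exact e3 h.symm
      · exact e5 h.symm
    · rw [Finset.mem_insert, Finset.mem_insert, Finset.mem_singleton]
      rintro (h | h | h)
      · exact e1 h.symm
      · exact e2 h.symm
      · exact e4 h.symm
  haveI : Fintype ↥(LinearMap.range (Y - 1)) := Fintype.ofFinite _
  have h1 := Finset.card_le_univ ({0, a₁, a₂, a₁ + a₂} : Finset ↥(LinearMap.range (Y - 1)))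
  rw [hs] at h1
  rw [Nat.card_eq_fintype_card]
  exact h1

end Cfsg.Agent.S4410
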