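import Cfsg.Statements.S4412
import Cfsg.Agent.Lib.Helper5.E8E

set_option autoImplicit false
open Cfsg

namespace Cfsg.Agent.S4412

open Cfsg.Agent.Lib.Helper5

/-- Let p be an odd prime, P a finite p-group and I an elementary abelian subgroup of order 8 of Aut(P). Call T ∈ I, T ≠ 1, broad when its fixed-point subgroup C_P(T) is not cyclic. Suppose I has a proper subgroup I₀ containing no broad element such that the product of any two broad elements lies in I₀. Then P is abelian of rank exactly 3 (generated by three elements but not by two), there are exactly three broad elements and they generate I, and I₀ is exactly the set of products of two broad elements. -/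
theorem result
    {P : Type*} [Group P] [Finite P] (p : ℕ) (hp : p.Prime) (hp2 : p ≠ 2) (hP : IsPGroup p P)
    (I : Subgroup (MulAut P)) (hI : Cfsg.IsElementaryAbelian 2 I) (hI8 : Nat.card ↥I = 8)
    (I₀ : Subgroup (MulAut P)) (hI₀ : I₀ < I)
    (hdisj : ∀ T ∈ I₀, T ≠ 1 → ∃ g : P, ∀ x : P, (T x = x ↔ x ∈ Subgroup.zpowers g))
    (hprod : ∀ T ∈ I, ∀ T' ∈ I, T ≠ 1 → T' ≠ 1 → (¬ ∃ g : P, ∀ x : P, (T x = x ↔ x ∈ Subgroup.zpowers g)) →
      (¬ ∃ g : P, ∀ x : P, (T' x = x ↔ x ∈ Subgroup.zpowers g)) → T * T' ∈ I₀) :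
    IsMulCommutative P ∧ (∃ a b c : P, Subgroup.closure {a, b, c} = ⊤) ∧ (¬ ∃ a b : P, Subgroup.closure {a, b} = ⊤) ∧
      Nat.card {T : MulAut P // T ∈ I ∧ T ≠ 1 ∧ ¬ ∃ g : P, ∀ x : P, (T x = x ↔ x ∈ Subgroup.zpowers g)} = 3 ∧
      Subgroup.closure {T : MulAut P | T ∈ I ∧ T ≠ 1 ∧ ¬ ∃ g : P, ∀ x : P, (T x = x ↔ x ∈ Subgroup.zpowers g)} = I ∧
      (I₀ : Set (MulAut P)) = {S : MulAut P | ∃ T T' : MulAut P, T ∈ I ∧ T' ∈ I ∧ T ≠ 1 ∧ T' ≠ 1 ∧
        (¬ ∃ g : P, ∀ x : P, (T x = x ↔ x ∈ Subgroup.zpowers g)) ∧ (¬ ∃ g : P, ∀ x : P, (T' x = x ↔ x ∈ Subgroup.zpowers g)) ∧ S = T * T'} := by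
  classical
  have c : E8.Ctx p I I₀ :=
    { hp := hp
      hp2 := hp2
      hP := hP
      hcomm := by
        intro a ha b hb
        have := hI.1.is_comm.comm (⟨a, ha⟩ : ↥I) ⟨b, hb⟩
        exact congrArg Subtype.val this
      hsq := by
        intro a ha
        have := hI.2 a ha
        rwa [pow_two] at this
      h8 := hI8
      hle := hI₀.le
      hdisj := hdisj
      hprod := hprod }
  obtain ⟨e₁, e₂, e₃, g₁, g₂, g₃, b⟩ := c.stage2
  have n12 : E8.NB (e₁ * e₂) := c.hdisj _ b.p12 (c.mul_ne_one b.he₂ (b.ne12 c))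
  have n13 : E8.NB (e₁ * e₃) := c.hdisj _ b.p13 (c.mul_ne_one b.he₃ (b.ne13 c))
  have n23 : E8.NB (e₂ * e₃) := c.hdisj _ b.p23 (c.mul_ne_one b.he₃ (b.ne23 c))
  have hbroad : ∀ T : MulAut P, (T ∈ I ∧ T ≠ 1 ∧ ¬ E8.NB T) ↔ T ∈ ({e₁, e₂, e₃} : Finset (MulAut P)) := by
    intro T
    simp only [Finset.mem_insert, Finset.mem_singleton]
    constructor
    · rintro ⟨hT, hT1, hTb⟩
      rcases b.classify c hT with h | h | h | h | h | h | h | h
      · exact absurd h hT1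
      · exact Or.inl h
      · exact Or.inr (Or.inl h)
      · exact Or.inr (Or.inr h)
      · rw [h] at hTb; exact absurd n12 hTb
      · rw [h] at hTb; exact absurd n13 hTb
      · rw [h] at hTb; exact absurd n23 hTb
      · rw [h] at hTb; exact absurd (b.nb_z c) hTb
    · rintro (h | h | h)
      · rw [h]; exact ⟨b.he₁, b.ne1 c, b.b1⟩
      · rw [h]; exact ⟨b.he₂, b.ne2 c, b.b2⟩
      · rw [h]; exact ⟨b.he₃, b.ne3 c, b.b3⟩
  refine ⟨⟨⟨b.comm c⟩⟩, ⟨g₁, g₂, g₃, b.three_gen⟩, b.not_two_gen c, ?_, ?_, ?_⟩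
  · have h1 := Nat.subtype_card ({e₁, e₂, e₃} : Finset (MulAut P)) (fun T => (hbroad T).symm)
    have h2 : ({e₁, e₂, e₃} : Finset (MulAut P)).card = 3 := by
      rw [Finset.card_insert_of_notMem, Finset.card_insert_of_notMem, Finset.card_singleton]
      · rw [Finset.mem_singleton]; exact b.ne23 c
      · rw [Finset.mem_insert, Finset.mem_singleton, not_or]; exact ⟨b.ne12 c, b.ne13 c⟩
    rw [h2] at h1
    exact h1
  · apply le_antisymm
    · rw [Subgroup.closure_le]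
      intro T hT
      exact hT.1
    · intro T hT
      have m1 : e₁ ∈ Subgroup.closure {T : MulAut P | T ∈ I ∧ T ≠ 1 ∧ ¬ E8.NB T} :=
        Subgroup.subset_closure ⟨b.he₁, b.ne1 c, b.b1⟩
      have m2 : e₂ ∈ Subgroup.closure {T : MulAut P | T ∈ I ∧ T ≠ 1 ∧ ¬ E8.NB T} :=
        Subgroup.subset_closure ⟨b.he₂, b.ne2 c, b.b2⟩
      have m3 : e₃ ∈ Subgroup.closure {T : MulAut P | T ∈ I ∧ T ≠ 1 ∧ ¬ E8.NB T} :=
        Subgroup.subset_closure ⟨b.he₃, b.ne3 c, b.b3⟩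
      show T ∈ Subgroup.closure {T : MulAut P | T ∈ I ∧ T ≠ 1 ∧ ¬ E8.NB T}
      rcases b.classify c hT with h | h | h | h | h | h | h | h <;> rw [h]
      · exact Subgroup.one_mem _
      · exact m1
      · exact m2
      · exact m3
      · exact Subgroup.mul_mem _ m1 m2
      · exact Subgroup.mul_mem _ m1 m3
      · exact Subgroup.mul_mem _ m2 m3
      · exact Subgroup.mul_mem _ (Subgroup.mul_mem _ m1 m2) m3
  · ext S
    constructor
    · intro hS
      have hS' : S ∈ I₀ := hS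
      have hSI : S ∈ I := hI₀.le hS'
      rcases b.classify c hSI with h | h | h | h | h | h | h | h
      · exact ⟨e₁, e₁, b.he₁, b.he₁, b.ne1 c, b.ne1 c, b.b1, b.b1, by rw [h, c.hsq e₁ b.he₁]⟩
      · rw [h] at hS'; exact absurd (c.hdisj _ hS' (b.ne1 c)) b.b1
      · rw [h] at hS'; exact absurd (c.hdisj _ hS' (b.ne2 c)) b.b2
      · rw [h] at hS'; exact absurd (c.hdisj _ hS' (b.ne3 c)) b.b3
      · exact ⟨e₁, e₂, b.he₁, b.he₂, b.ne1 c, b.ne2 c, b.b1, b.b2, h⟩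
      · exact ⟨e₁, e₃, b.he₁, b.he₃, b.ne1 c, b.ne3 c, b.b1, b.b3, h⟩
      · exact ⟨e₂, e₃, b.he₂, b.he₃, b.ne2 c, b.ne3 c, b.b2, b.b3, h⟩
      · rw [h] at hS'
        have h3 : e₃ ∈ I₀ := by
          have := I₀.mul_mem (I₀.inv_mem b.p12) hS'
          rwa [inv_mul_cancel_left] at this
        exact absurd (c.hdisj _ h3 (b.ne3 c)) b.b3
    · rintro ⟨T, T', hT, hT', hT1, hT'1, hb, hb', rfl⟩
      exact hprod T hT T' hT' hT1 hT'1 hb hb'

end Cfsg.Agent.S4412
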