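import Cfsg.Statements.S4413
import Cfsg.Agent.Lib.Helper28.XsOE
import Cfsg.Agent.Lib.Helper28.O4m

set_option autoImplicit false
open Cfsg

namespace Cfsg.Agent.S4413

open Cfsg.Agent.Lib.Helper28.XsO Cfsg.Agent.Lib.Helper28 Cfsg.Agent.Lib.Helper21

/-- Let P be an extraspecial 2-group of order 32 with no elementary abelian subgroup of order 8 (the central product of a dihedral and a quaternion group of order 8). Then the inner automorphism group of P has order 16 and the outer automorphism group Aut(P)/Inn(P) is isomorphic to the symmetric group of degree 5; in particular Aut(P) has order 1920. -/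
theorem result {P : Type*} [Group P] [Finite P]
    (hex : Cfsg.IsExtraspecial 2 P) (h32 : Nat.card P = 32)
    (hminus : ∀ A : Subgroup P, Cfsg.IsElementaryAbelian 2 A → Nat.card ↥A ≤ 4)
    [(MulAut.conj : P →* MulAut P).range.Normal] :
    Nat.card ↥(MulAut.conj : P →* MulAut P).range = 16 ∧ Nat.card (MulAut P) = 1920 ∧
      Nonempty ((MulAut P ⧸ (MulAut.conj : P →* MulAut P).range) ≃* Equiv.Perm (Fin 5)) := by
  have hcard : Nat.card P = 2 ^ (2 * 2 + 1) := by rw [h32]; norm_num
  obtain ⟨z, h, hC | hC⟩ := exists_coord_std hex 2 (by norm_num) hcard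
  · exfalso
    obtain ⟨C⟩ := hC
    obtain ⟨A, hA, hAc⟩ := C.exists_elementary_of_plus h 2 hcard
    have := hminus A hA
    rw [hAc] at this
    norm_num at this
  · obtain ⟨C⟩ := hC
    have C' : Coord P z (Cfsg.quadFormMinus 1 (ZMod 2) 1 1) := C
    have e : (MulAut P ⧸ (MulAut.conj : P →* MulAut P).range) ≃* Equiv.Perm (Fin 5) :=
      (C'.outEquiv h).trans O4m.equivS5
    have hker : (MulAut.conj : P →* MulAut P).ker = Subgroup.center P := by
      ext x
      rw [MonoidHom.mem_ker, Subgroup.mem_center_iff]
      constructor
      · intro hx y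
        have := congrArg (fun α : MulAut P => α y) hx
        simp only [MulAut.conj_apply, MulAut.one_apply] at this
        calc y * x = (x * y * x⁻¹) * x := by rw [this]
          _ = x * y := by group
      · intro hx
        ext y
        rw [MulAut.conj_apply, MulAut.one_apply, ← hx y]
        group
    have hinn : Nat.card ↥(MulAut.conj : P →* MulAut P).range = 16 := by
      have h1 := Subgroup.card_eq_card_quotient_mul_card_subgroup (MulAut.conj : P →* MulAut P).ker
      rw [Nat.card_congr (QuotientGroup.quotientKerEquivRange (MulAut.conj : P →* MulAut P)).toEquiv,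
        hker, h.center_eq, h.card_zpowers, h32] at h1
      omega
    refine ⟨hinn, ?_, ⟨e⟩⟩
    have h2 := Subgroup.card_eq_card_quotient_mul_card_subgroup (MulAut.conj : P →* MulAut P).range
    have h3 : Nat.card (Equiv.Perm (Fin 5)) = 120 := by
      rw [Nat.card_eq_fintype_card, Fintype.card_perm, Fintype.card_fin]
      rfl
    rw [hinn, Nat.card_congr e.toEquiv, h3] at h2
    rw [h2]

end Cfsg.Agent.S4413
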