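import Mathlib
import Cfsg.Statements.S4416
import Cfsg.Agent.Lib.Helper21.XS2C

set_option autoImplicit false
open Cfsg

namespace Cfsg.Agent.S4416

open Cfsg.Agent.Lib.Helper21

/-- Classification of extraspecial 2-groups in intrinsic form. -/
theorem result (E : Type*) [Group E] [Finite E] (hE : Cfsg.IsExtraspecial 2 E) :
    (∃ m : ℕ, 1 ≤ m ∧ Nat.card E = 2 ^ (2 * m + 1) ∧
      (Nat.card {x : E // x ^ 2 = 1} = 2 ^ (2 * m) + 2 ^ m ∨ Nat.card {x : E // x ^ 2 = 1} = 2 ^ (2 * m) - 2 ^ m)) ∧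
    ∀ (E' : Type*) [Group E'] [Finite E'], Cfsg.IsExtraspecial 2 E' → Nat.card E' = Nat.card E →
      Nat.card {x : E' // x ^ 2 = 1} = Nat.card {x : E // x ^ 2 = 1} → Nonempty (E ≃* E') := by
  obtain ⟨z, h⟩ := XS2.exists_of_isExtraspecial hE
  constructor
  · haveI : Fact (Nat.Prime 2) := ⟨Nat.prime_two⟩
    obtain ⟨k, hk⟩ := IsPGroup.iff_card.mp h.isPGroup
    have h8 := h.eight_le_card
    have hsq := h.xsS_sq
    have hsq' : xsS E * xsS E = 2 ^ (k + 1) := by
      rw [hsq, hk]; push_cast; ring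
    obtain ⟨m', hm', hS⟩ := Cfsg.Agent.Lib.Helper20.sq_pow_two_arith _ _ hsq'
    have hk3 : 3 ≤ k := by
      by_contra hlt
      push_neg at hlt
      have : 2 ^ k ≤ 2 ^ 2 := Nat.pow_le_pow_right (by norm_num) (by omega)
      omega
    obtain ⟨m, rfl⟩ : ∃ m, m' = m + 1 := ⟨m' - 1, by omega⟩
    have hkm : k = 2 * m + 1 := by omega
    subst hkm
    refine ⟨m, by omega, hk, ?_⟩
    have hdef : xsS E = 2 * (Nat.card {x : E // x ^ 2 = 1} : ℤ) - (Nat.card E : ℤ) := rfl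
    rw [hk] at hdef
    push_cast at hdef
    have p1 : (2 : ℤ) ^ (2 * m + 1) = 2 * 2 ^ (2 * m) := by rw [pow_succ]; ring
    have p2 : (2 : ℤ) ^ (m + 1) = 2 * 2 ^ m := by rw [pow_succ]; ring
    rcases hS with hS | hS
    · left
      have : (Nat.card {x : E // x ^ 2 = 1} : ℤ) = 2 ^ (2 * m) + 2 ^ m := by
        rw [hS, p1, p2] at hdef; linarith
      exact_mod_cast this
    · right
      have : (Nat.card {x : E // x ^ 2 = 1} : ℤ) + 2 ^ m = 2 ^ (2 * m) := by
        rw [hS, p1, p2] at hdef; linarith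
      have h2 : Nat.card {x : E // x ^ 2 = 1} + 2 ^ m = 2 ^ (2 * m) := by exact_mod_cast this
      omega
  · intro E' _ _ hE' hcard hcount
    obtain ⟨z', h'⟩ := XS2.exists_of_isExtraspecial hE'
    apply xs2_unique h h' hcard.symm
    unfold xsS
    rw [hcard, hcount]

end Cfsg.Agent.S4416
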