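import Cfsg.Statements.S4417
import Mathlib
import Cfsg.Agent.Lib.Helper22.LinDLB
import Cfsg.Agent.Lib.Helper22.LinDLC

set_option autoImplicit false
open Cfsg

namespace Cfsg.Agent.S4417

open Cfsg.Agent.Lib.Helper22

/-- Let F be a field with q elements, p a prime not dividing q, and e the multiplicative order of q modulo p; assume e ≤ n. Then every p-subgroup of GL_n(F) has derived length at most ⌊log₂(n/e)⌋ + 1: that term of its derived series is trivial (n/e is the integer quotient). -/
theorem result {F : Type*} [Field F] [Fintype F] (q : ℕ) (hF : Fintype.card F = q) (p : ℕ) [Fact p.Prime] (hpq : ¬ p ∣ q) (n e : ℕ) (he : e = orderOf (q : ZMod p)) (hen : e ≤ n) (P : Subgroup (GL (Fin n) F)) (hP : IsPGroup p P) : derivedSeries ↥P (Nat.log 2 (n / e) + 1) = ⊥ := by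
  classical
  subst hF
  subst he
  rw [eq_bot_iff]
  intro g hg
  rw [Subgroup.mem_bot]
  have : Finite (GL (Fin n) F) := inferInstance
  set ρ : Representation F P (Fin n → F) :=
    ((Matrix.toLinAlgEquiv' : Matrix (Fin n) (Fin n) F ≃ₐ[F] _) : Matrix (Fin n) (Fin n) F →* _).comp
      ((Units.coeHom _).comp P.subtype) with hρ
  have hρa : ∀ a : P, ρ a = Matrix.toLinAlgEquiv' ((a : GL (Fin n) F) : Matrix (Fin n) (Fin n) F) :=
    fun a => rfl
  have hdim : Module.finrank F (Fin n → F) = n := Module.finrank_fin_fun _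
  have h1 : ρ g = 1 :=
    LinDLC.goodF_all F p hpq n (Fin n → F) P hP ρ hdim g hg
  rw [hρa] at h1
  have h2 : ((g : GL (Fin n) F) : Matrix (Fin n) (Fin n) F) = 1 := by
    apply (Matrix.toLinAlgEquiv' : Matrix (Fin n) (Fin n) F ≃ₐ[F] _).injective
    rw [h1, map_one]
  apply Subtype.ext
  apply Units.ext
  exact h2

end Cfsg.Agent.S4417
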