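import Cfsg.Statements.S4419
import Mathlib
import Cfsg.Agent.Lib.Helper24.MetaNPC2

set_option autoImplicit false
open Cfsg

namespace Cfsg.Agent.S4419

open Cfsg.Agent.Lib.Helper24

theorem result {G : Type*} [Group G] [Finite G] (p : ℕ) [Fact p.Prime] (S : Sylow p G) (hS : Cfsg.IsMetacyclic ↥(S : Subgroup G)) : Cfsg.HasNormalPComplement p G ↔ Nat.Coprime (Nat.card (G ⧸ Cfsg.pPrimePCore p G)) (p ^ 2 - 1) := by
  constructor
  · intro h
    rw [mn_top_of_npc h]
    have : Nat.card (G ⧸ (⊤ : Subgroup G)) = 1 := by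
      rw [← Subgroup.index_eq_card, Subgroup.index_top]
    rw [this]
    exact Nat.coprime_one_left _
  · intro h
    rw [← Subgroup.index_eq_card] at h
    have hF := mn_frobHyp S hS h
    obtain ⟨N, hNn, hN⟩ := Cfsg.Agent.Lib.Helper21.FrobHyp.exists_normal_complement hF S
    exact ⟨S, N, hNn, hN⟩

end Cfsg.Agent.S4419
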