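import Cfsg.Statements.S4420

set_option autoImplicit false
open Cfsg

namespace Cfsg.Agent.S4420

theorem case2 {H : Type*} [Group H] [Finite H] (A : Subgroup H) (hA : A ≠ ⊤) (hD : ∀ x : H, x ∉ A → x ^ 2 = 1)
    (h : H) (hh : h ^ 2 ≠ 1) :
    A.Normal ∧ IsMulCommutative ↥A ∧ A.index = 2 ∧
      (∀ x : H, x ∉ A → x ^ 2 = 1 ∧ ∀ b ∈ A, x * b * x⁻¹ = b⁻¹) ∧
      (∀ B' : Subgroup H, B'.Normal → IsMulCommutative ↥B' → B'.index = 2 →
          (∀ x : H, x ∉ B' → x ^ 2 = 1 ∧ ∀ b ∈ B', x * b * x⁻¹ = b⁻¹) → B' = A) := by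
  have hhA : h ∈ A := by
    by_contra hc
    exact hh (hD h hc)
  obtain ⟨t, htA⟩ : ∃ t : H, t ∉ A := by
    by_contra hc
    push Not at hc
    exact hA (Subgroup.eq_top_iff' A |>.mpr hc)
  have hinv : ∀ x : H, x ∉ A → ∀ a ∈ A, x * a * x⁻¹ = a⁻¹ := by
    intro x hx a ha
    have hxa : x * a ∉ A := fun hc => hx ((Subgroup.mul_mem_cancel_right A ha).mp hc)
    have h1 : (x * a) ^ 2 = 1 := hD _ hxa
    have h2 : x ^ 2 = 1 := hD _ hx
    have hxinv : x⁻¹ = x := by
      rw [inv_eq_iff_mul_eq_one, ← pow_two]; exact h2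
    rw [hxinv]
    rw [pow_two] at h1
    have : x * a * x * a = 1 := by simpa [mul_assoc] using h1
    exact eq_inv_of_mul_eq_one_left this
  have hcomm : ∀ a ∈ A, ∀ b ∈ A, a * b = b * a := by
    intro a ha b hb
    have h1 := hinv t htA (a * b) (mul_mem ha hb)
    have h2 := hinv t htA a ha
    have h3 := hinv t htA b hb
    have h4 : t * (a * b) * t⁻¹ = (t * a * t⁻¹) * (t * b * t⁻¹) := by group
    rw [h1, h2, h3, mul_inv_rev] at h4
    have h5 := congrArg (fun z => z⁻¹) h4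
    simpa using h5
  have hnormal : A.Normal := by
    constructor
    intro a ha g
    by_cases hg : g ∈ A
    · exact mul_mem (mul_mem hg ha) (inv_mem hg)
    · rw [hinv g hg a ha]; exact inv_mem ha
  have hprod : ∀ s : H, s ∉ A → ∀ u : H, u ∉ A → s * u ∈ A := by
    intro s hs u hu
    by_contra hsu
    have hall : ∀ a ∈ A, a ^ 2 = 1 := by
      intro a ha
      have h1 := hinv (s * u) hsu a ha
      have h2 : s * u * a * (s * u)⁻¹ = s * (u * a * u⁻¹) * s⁻¹ := by group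
      rw [h2, hinv u hu a ha, hinv s hs _ (inv_mem ha), inv_inv] at h1
      rw [pow_two]
      nth_rewrite 1 [h1]
      exact inv_mul_cancel a
    by_cases hc : h ∈ A
    · exact hh (hall h hc)
    · exact hc hhA
  have hindex : A.index = 2 := by
    rw [Subgroup.index_eq_two_iff]
    refine ⟨t, fun b => ?_⟩
    by_cases hb : b ∈ A
    · right
      exact ⟨hb, fun hc => htA ((Subgroup.mul_mem_cancel_left A hb).mp hc)⟩
    · left
      exact ⟨hprod b hb t htA, hb⟩
  refine ⟨hnormal, ?_, hindex, fun x hx => ⟨hD x hx, hinv x hx⟩, ?_⟩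
  · exact IsMulCommutative.of_comm (fun a b => Subtype.ext (hcomm a a.2 b b.2))
  · intro B' _ hB'comm hB'idx hB'
    have hhB' : h ∈ B' := by
      by_contra hc
      exact hh (hB' h hc).1
    have hle : A ≤ B' := by
      intro x hxA
      by_contra hxB'
      have h1 := (hB' x hxB').2 h hhB'
      have h2 : x * h * x⁻¹ = h := by
        rw [hcomm x hxA h hhA]; group
      rw [h2] at h1
      apply hh
      rw [pow_two]
      nth_rewrite 1 [h1]
      exact inv_mul_cancel h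
    symm
    apply Subgroup.eq_of_le_of_card_ge hle
    have e1 := Subgroup.card_mul_index A
    have e2 := Subgroup.card_mul_index B'
    rw [hindex] at e1
    rw [hB'idx] at e2
    omega

theorem case1 {H : Type*} [Group H] [Finite H] (A : Subgroup H) (hA : A ≠ ⊤)
    (hall : ∀ x : H, x ^ 2 = 1) :
    ∃ B : Subgroup H, B.Normal ∧ IsMulCommutative ↥B ∧ B.index = 2 ∧
      (∀ x : H, x ∉ B → x ^ 2 = 1 ∧ ∀ b ∈ B, x * b * x⁻¹ = b⁻¹) ∧ IsMulCommutative H := by
  have hinv : ∀ x : H, x⁻¹ = x := by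
    intro x
    rw [inv_eq_iff_mul_eq_one, ← pow_two]; exact hall x
  have hcomm : ∀ a b : H, a * b = b * a := by
    intro a b
    have h1 := hinv (a * b)
    rw [mul_inv_rev, hinv a, hinv b] at h1
    exact h1.symm
  have hP : IsPGroup 2 H := by
    intro x
    exact ⟨1, by simpa using hall x⟩
  have : Fact (Nat.Prime 2) := ⟨Nat.prime_two⟩
  obtain ⟨n, hn⟩ := IsPGroup.iff_card.mp hP
  have hn0 : n ≠ 0 := by
    rintro rfl
    rw [pow_zero] at hn
    apply hA
    have : Subsingleton H := (Nat.card_eq_one_iff_unique.mp hn).1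
    exact Subsingleton.elim _ _
  obtain ⟨m, rfl⟩ := Nat.exists_eq_succ_of_ne_zero hn0
  obtain ⟨B, hB⟩ := Sylow.exists_subgroup_card_pow_prime (G := H) 2 (n := m)
    (by rw [hn]; exact pow_dvd_pow 2 (Nat.le_succ m))
  refine ⟨B, ?_, ?_, ?_, ?_, IsMulCommutative.of_comm hcomm⟩
  · constructor
    intro b hb g
    rw [hcomm g b, mul_assoc, mul_inv_cancel, mul_one]; exact hb
  · exact IsMulCommutative.of_comm (fun a b => Subtype.ext (hcomm a b))
  · have e1 := Subgroup.card_mul_index B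
    rw [hB, hn, pow_succ] at e1
    have hpos : 0 < 2 ^ m := by positivity
    exact Nat.eq_of_mul_eq_mul_left hpos e1
  · intro x _
    refine ⟨hall x, fun b _ => ?_⟩
    rw [hcomm x b, mul_assoc, mul_inv_cancel, mul_one, hinv b]

theorem result {H : Type*} [Group H] [Finite H] (A : Subgroup H) (hA : A ≠ ⊤) (hD : ∀ x : H, x ∉ A → x ^ 2 = 1) :
    ∃ B : Subgroup H, B.Normal ∧ IsMulCommutative ↥B ∧ B.index = 2 ∧
      (∀ x : H, x ∉ B → x ^ 2 = 1 ∧ ∀ b ∈ B, x * b * x⁻¹ = b⁻¹) ∧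
      (¬ (IsMulCommutative H ∧ ∀ x : H, x ^ 2 = 1) →
        ∀ B' : Subgroup H, B'.Normal → IsMulCommutative ↥B' → B'.index = 2 →
          (∀ x : H, x ∉ B' → x ^ 2 = 1 ∧ ∀ b ∈ B', x * b * x⁻¹ = b⁻¹) → B' = B) := by
  by_cases hall : ∀ x : H, x ^ 2 = 1
  · obtain ⟨B, h1, h2, h3, h4, h5⟩ := case1 A hA hall
    exact ⟨B, h1, h2, h3, h4, fun hn => absurd ⟨h5, hall⟩ hn⟩
  · push Not at hall
    obtain ⟨h, hh⟩ := hall
    obtain ⟨h1, h2, h3, h4, h5⟩ := case2 A hA hD h hh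
    exact ⟨A, h1, h2, h3, h4, fun _ => h5⟩

end Cfsg.Agent.S4420
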