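import Cfsg.Statements.S4421

set_option autoImplicit false
open Cfsg

namespace Cfsg.Agent.S4421

theorem mem_map_conj {G : Type*} [Group G] (K : Subgroup G) (g a : G) :
    a ∈ K.map (MulAut.conj g).toMonoidHom ↔ g⁻¹ * a * g ∈ K := by
  constructor
  · rintro ⟨b, hb, rfl⟩
    simpa [MulAut.conj_apply, mul_assoc] using hb
  · intro h
    refine ⟨g⁻¹ * a * g, h, ?_⟩
    simp [MulAut.conj_apply, mul_assoc]

theorem mem_normalizer_of_map_conj_eq {G : Type*} [Group G] [Finite G] (K : Subgroup G) (g : G)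
    (h : K.map (MulAut.conj g).toMonoidHom = K) : g ∈ Subgroup.normalizer (K : Set G) := by
  rw [Subgroup.mem_normalizer_iff]
  intro k
  constructor
  · intro hk
    rw [← h]
    exact ⟨k, hk, by simp [MulAut.conj_apply]⟩
  · intro hk
    rw [← h, mem_map_conj] at hk
    simpa [mul_assoc] using hk

theorem map_conj_eq_of_mem_normalizer {G : Type*} [Group G] (K : Subgroup G) (g : G)
    (h : g ∈ Subgroup.normalizer (K : Set G)) : K.map (MulAut.conj g).toMonoidHom = K := by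
  ext a
  rw [mem_map_conj]
  have hg : g⁻¹ ∈ Subgroup.normalizer (K : Set G) := inv_mem h
  rw [Subgroup.mem_normalizer_iff] at hg
  rw [hg a]
  simp

theorem map_conj_mul {G : Type*} [Group G] (K : Subgroup G) (g h : G) :
    K.map (MulAut.conj (g * h)).toMonoidHom =
      (K.map (MulAut.conj h).toMonoidHom).map (MulAut.conj g).toMonoidHom := by
  ext a
  simp only [mem_map_conj]
  simp [mul_assoc]

theorem map_conj_one {G : Type*} [Group G] (K : Subgroup G) :
    K.map (MulAut.conj (1 : G)).toMonoidHom = K := by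
  ext a
  rw [mem_map_conj]
  simp

theorem result {G : Type*} [Group G] [Finite G] (A S H : Subgroup G)
    (hAS : A ≤ S) (hSH : S ≤ H)
    (h1 : ∀ g : G, A.map (MulAut.conj g).toMonoidHom ≤ S → ∃ s ∈ S, A.map (MulAut.conj g).toMonoidHom = A.map (MulAut.conj s).toMonoidHom)
    (h2 : ∀ g : G, S.map (MulAut.conj g).toMonoidHom ≤ H → ∃ y ∈ H, S.map (MulAut.conj g).toMonoidHom = S.map (MulAut.conj y).toMonoidHom)
    (h3 : ∀ x ∈ Subgroup.normalizer (A : Set G), S.map (MulAut.conj x).toMonoidHom ≤ H) :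
    ∀ x ∈ Subgroup.normalizer (A : Set G), ∃ y ∈ H ⊓ Subgroup.normalizer (A : Set G),
      ∃ z ∈ Subgroup.normalizer (S : Set G) ⊓ Subgroup.normalizer (A : Set G), x = y * z := by
  intro x hx
  obtain ⟨y, hyH, hy⟩ := h2 x (h3 x hx)
  have hwS : S.map (MulAut.conj (y⁻¹ * x)).toMonoidHom = S := by
    rw [map_conj_mul, hy, ← map_conj_mul, inv_mul_cancel, map_conj_one]
  have hwN : y⁻¹ * x ∈ Subgroup.normalizer (S : Set G) := mem_normalizer_of_map_conj_eq S _ hwS
  have hwA : A.map (MulAut.conj (y⁻¹ * x)).toMonoidHom ≤ S := by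
    calc A.map (MulAut.conj (y⁻¹ * x)).toMonoidHom
        ≤ S.map (MulAut.conj (y⁻¹ * x)).toMonoidHom := Subgroup.map_mono hAS
      _ = S := hwS
  obtain ⟨s, hsS, hs⟩ := h1 _ hwA
  have hzA : A.map (MulAut.conj (s⁻¹ * (y⁻¹ * x))).toMonoidHom = A := by
    rw [map_conj_mul, hs, ← map_conj_mul, inv_mul_cancel, map_conj_one]
  have hzNA : s⁻¹ * (y⁻¹ * x) ∈ Subgroup.normalizer (A : Set G) :=
    mem_normalizer_of_map_conj_eq A _ hzA
  have hsN : s ∈ Subgroup.normalizer (S : Set G) := Subgroup.le_normalizer hsS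
  have hzNS : s⁻¹ * (y⁻¹ * x) ∈ Subgroup.normalizer (S : Set G) :=
    mul_mem (inv_mem hsN) hwN
  have hysA : y * s ∈ Subgroup.normalizer (A : Set G) := by
    have : y * s = x * (s⁻¹ * (y⁻¹ * x))⁻¹ := by group
    rw [this]
    exact mul_mem hx (inv_mem hzNA)
  exact ⟨y * s, Subgroup.mem_inf.mpr ⟨mul_mem hyH (hSH hsS), hysA⟩, s⁻¹ * (y⁻¹ * x),
    Subgroup.mem_inf.mpr ⟨hzNS, hzNA⟩, by group⟩

end Cfsg.Agent.S4421
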