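import Cfsg.Statements.S4424
import Cfsg.Agent.Lib.Helper24.BlockOrthRow
import Cfsg.Agent.S4425

set_option autoImplicit false
open Cfsg

namespace Cfsg.Agent.S4424

open Cfsg.Agent.Lib.Helper24 Cfsg.Agent.Lib.helper2 Cfsg.Agent.Lib.Helper11 Cfsg.Agent.Lib.Helper25

theorem result {G : Type*} [Group G] [Finite G] (p : ℕ) [Fact p.Prime] (M : Ideal Cfsg.AlgInt) (hM : Cfsg.IsPModular p M) (B : Set (Cfsg.IrrCharacter G)) (hB : Cfsg.IsPBlock M B) (χ : Cfsg.IrrCharacter G) (hχ : χ ∈ B) : ∃ a : Cfsg.IrrCharacter G → ℤ, (∀ ψ, ψ ∉ B → a ψ = 0) ∧ (fun x : G => if p ∣ orderOf x then (0 : ℂ) else ((p ^ (Nat.card G).factorization p : ℕ) : ℂ) * (χ : G → ℂ) x) = fun x => ∑ᶠ ψ : Cfsg.IrrCharacter G, (a ψ : ℂ) * (ψ : G → ℂ) x := by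
  classical
  haveI : Fintype G := Fintype.ofFinite G
  haveI : Fintype (Cfsg.IrrCharacter G) := Fintype.ofFinite _
  have hp : p.Prime := Fact.out
  obtain ⟨χ₀, rfl⟩ := hB
  obtain ⟨n, hnpos, hn1, hndvd⟩ := irr_degree_dvd_card χ
  have hdeg : Cfsg.charDegree (χ : G → ℂ) = n := by
    unfold Cfsg.charDegree
    rw [hn1]
    simp
  have hble : n.factorization p ≤ (Nat.card G).factorization p :=
    (Nat.factorization_le_iff_dvd hnpos.ne' Nat.card_pos.ne').mpr hndvd p
  have h1 := (Cfsg.Agent.S4425.result p χ).1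
  rw [hdeg] at h1
  set η : G → ℂ := fun x : G => if p ∣ orderOf x then (0 : ℂ) else
    ((p ^ (Nat.card G).factorization p : ℕ) : ℂ) * (χ : G → ℂ) x with hη
  have hgen : Cfsg.IsGeneralizedCharacter G η := by
    obtain ⟨α, β, hα, hβ, hαβ⟩ := h1
    refine ⟨((p ^ n.factorization p : ℕ) : ℂ) • α, ((p ^ n.factorization p : ℕ) : ℂ) • β,
      isCharacter_natCast_smul hα _, isCharacter_natCast_smul hβ _, ?_⟩
    rw [← smul_sub, ← hαβ]
    funext x
    simp only [hη, Pi.smul_apply, smul_eq_mul]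
    by_cases hx : p ∣ orderOf x
    · simp [hx]
    · simp only [hx, if_false]
      rw [← mul_assoc, ← Nat.cast_mul, ← pow_add]
      congr 3
      omega
  choose z hz using genChar_inner_int η hgen
  have hcl := genChar_classFunction η hgen
  have hexp := classFunction_expansion η hcl
  refine ⟨z, ?_, ?_⟩
  · intro ψ hψ
    have h2 : Cfsg.classInner η (ψ : G → ℂ) = 0 := by
      unfold Cfsg.classInner
      have h3 : ∑ g : G, η g * (starRingEnd ℂ) ((ψ : G → ℂ) g) =
          ((p ^ (Nat.card G).factorization p : ℕ) : ℂ) *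
            ∑ y : G, (if p ∣ orderOf y then 0 else
              (χ : G → ℂ) y * (starRingEnd ℂ) ((ψ : G → ℂ) y)) := by
        rw [Finset.mul_sum]
        refine Finset.sum_congr rfl fun y _ => ?_
        by_cases hy : p ∣ orderOf y
        · simp [hη, hy]
        · simp only [hη, hy, if_false]
          ring
      rw [h3, bo_row hM χ₀ χ ψ hχ hψ, mul_zero, mul_zero]
    have h4 : ((z ψ : ℤ) : ℂ) = 0 := by rw [← hz ψ, h2]
    exact_mod_cast h4
  · funext x
    rw [finsum_eq_sum_of_fintype]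
    have h5 := congrFun hexp x
    rw [h5]
    simp only [Finset.sum_apply, Pi.smul_apply, smul_eq_mul]
    refine Finset.sum_congr rfl fun ψ _ => ?_
    rw [hz ψ]

end Cfsg.Agent.S4424
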