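import Cfsg.Statements.S4442
import Cfsg.Agent.Lib.helper7.BD.RootMain

set_option autoImplicit false
open Cfsg

namespace Cfsg.Agent.S4442

/-- Blocks of defect one. Let p be an odd prime and G a finite group whose Sylow p-subgroup P has order p; let C = C_G(P) and N = N_G(P), and fix a maximal ideal M of the algebraic integers containing p. Let B be a block of G with defect group P, b a block of C inducing B, and θ the member of b having P in its kernel (there is exactly one). Let T be the stabilizer of θ in N (the elements g ∈ N with θ(g c g⁻¹) = θ(c) for all c ∈ C) and e the index of C in T. Then e divides p − 1 and B contains exactly e + (p − 1)/e irreducible characters. Moreover B is the disjoint union of a set X of e characters and a set Y of (p − 1)/e characters such that, with f the index of C in N: every χ ∈ X has χ(1) ≡ ±(f/e)·θ(1) (mod p), there is one sign ε with ψ(1) ≡ ε f θ(1) (mod p) for all ψ ∈ Y, and all members of Y agree on the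 p-regular elements of G. -/
theorem result {G : Type*} [Group G] [Finite G] (p : ℕ) [Fact p.Prime] (M : Ideal Cfsg.AlgInt) (hM : Cfsg.IsPModular p M) (hodd : p ≠ 2) (P : Sylow p G) (hP : Nat.card P = p) (B : Set (Cfsg.IrrCharacter G)) (hB : Cfsg.IsPBlock M B) (hBP : Cfsg.IsDefectGroup p M B P) (b : Set (Cfsg.IrrCharacter (Subgroup.centralizer ((P : Subgroup G) : Set G)))) (hind : Cfsg.IsInducedBlock M (Subgroup.centralizer ((P : Subgroup G) : Set G)) b B) (θ : Cfsg.IrrCharacter (Subgroup.centralizer ((P : Subgroup G) : Set G))) (hθ : θ ∈ b) (hθP : ∀ x : Subgroup.centralizer ((P : Subgroup G) : Set G), (x : G) ∈ (P : Subgroup G) → (θ : Subgroup.centralizer ((P : Subgroup G) : Set G) → ℂ) x = (θ : Subgroup.centralizer ((P : Subgroup G) : Set G) → ℂ) 1) (T : Subgroup G) (hT : ∀ g : G, g ∈ T ↔ (g ∈ Subgroup.normalizer ((P : Subgroup G) : Set G) ∧ ∀ c c' : Subgroup.centralizer ((P : Subgroup G) : Set G), (c' : G) = g * c * g⁻¹ → (θ : Subgroup.centralizer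 ((P : Subgroup G) : Set G) → ℂ) c' = (θ : Subgroup.centralizer ((P : Subgroup G) : Set G) → ℂ) c)) (e f : ℕ) (he : (Subgroup.centralizer ((P : Subgroup G) : Set G)).relIndex T = e) (hf : (Subgroup.centralizer ((P : Subgroup G) : Set G)).relIndex (Subgroup.normalizer ((P : Subgroup G) : Set G)) = f) : e ∣ p - 1 ∧ Nat.card B = e + (p - 1) / e ∧ ∃ X Y : Set (Cfsg.IrrCharacter G), B = X ∪ Y ∧ Disjoint X Y ∧ Nat.card X = e ∧ Nat.card Y = (p - 1) / e ∧ (∀ χ ∈ X, (Cfsg.charDegree (χ : G → ℂ) : ℤ) ≡ ((f / e * Cfsg.charDegree (θ : Subgroup.centralizer ((P : Subgroup G) : Set G) → ℂ) : ℕ) : ℤ) [ZMOD p] ∨ (Cfsg.charDegree (χ : G → ℂ) : ℤ) ≡ -((f / e * Cfsg.charDegree (θ : Subgroup.centralizer ((P : Subgroup G) : Set G) → ℂ) : ℕ) : ℤ) [ZMOD p]) ∧ (∃ ε : ℤ, (ε = 1 ∨ ε = -1) ∧ ∀ ψ ∈ Y, (Cfsg.charDegree (ψ : G → ℂ) : ℤ) ≡ ε * ((f * Cfsg.charDegree (θ : Subgroup.centralizer ((P : Subgroup G) : Set G) → ℂ) : ℕ) : ℤ) [ZMOD p]) ∧ ∀ ψ ∈ Y, ∀ ψ' ∈ Y, ∀ g : G, ¬ p ∣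 orderOf g → (ψ : G → ℂ) g = (ψ' : G → ℂ) g := by
  classical
  haveI : Fintype G := Fintype.ofFinite G
  haveI : Fintype ↥(Subgroup.centralizer ((P : Subgroup G) : Set G)) := Fintype.ofFinite _
  haveI : Fintype ↥(Subgroup.normalizer ((P : Subgroup G) : Set G)) := Fintype.ofFinite _
  have hp := (Fact.out : p.Prime)
  have hroot : Cfsg.Agent.Lib.helper7.BD.RootHyp p M P B b θ T :=
    ⟨hM, hP, hB, hBP, hind, hθ, hθP, hT⟩
  obtain ⟨t, r, X, y, ε, hr, hBXY, hdisj, hXcard, hyinj, hBcard, hεpm, hεY, hmX, hmY, hdX, hdY, hreg⟩ :=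
    Cfsg.Agent.Lib.helper7.BD.root_main hroot
  obtain ⟨hCT, hTN⟩ := Cfsg.Agent.Lib.helper7.BD.root_C_le_T hroot
  have hfe := Subgroup.relIndex_mul_relIndex _ _ _ hCT hTN
  rw [he] at hr hXcard hBcard hfe
  rw [hf] at hdY hfe
  have het := hr.et
  have hp2 : 2 ≤ p := hp.two_le
  have he1 : 1 ≤ e := by
    rcases Nat.eq_zero_or_pos e with h0 | h0
    · rw [h0, zero_mul] at het
      omega
    · exact h0
  have ht1 : 1 ≤ t := by
    rcases Nat.eq_zero_or_pos t with h0 | h0
    · rw [h0, mul_zero] at het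
      omega
    · exact h0
  have htdiv : (p - 1) / e = t := by
    rw [← het]
    exact Nat.mul_div_cancel_left t he1
  have hfdiv : f / e = T.relIndex (Subgroup.normalizer ((P : Subgroup G) : Set G)) := by
    rw [← hfe]
    exact Nat.mul_div_cancel_left _ he1
  refine ⟨Dvd.intro t het, ?_, X, Set.range y, hBXY, hdisj, hXcard, ?_, ?_, ?_, ?_⟩
  · rw [htdiv]
    exact hBcard
  · rw [htdiv, Nat.card_range_of_injective hyinj, Nat.card_fin]
  · intro χ hχ
    have h1 := hdX χ hχ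
    rw [hfdiv]
    rcases hεpm χ with h2 | h2
    · right
      rw [h2] at h1
      simpa using h1
    · left
      rw [h2] at h1
      simpa using h1
  · refine ⟨ε (y ⟨0, ht1⟩), hεpm _, ?_⟩
    rintro ψ ⟨j, rfl⟩
    rw [hεY ⟨0, ht1⟩ j]
    exact hdY j
  · rintro ψ ⟨j, rfl⟩ ψ' ⟨j', rfl⟩ g hg
    have h1 := hreg j g hg
    have h2 := hreg j' g hg
    rw [hεY j' j] at h2
    have h3 : ((ε (y j) : ℤ) : ℂ) * ((y j : G → ℂ) g - (y j' : G → ℂ) g) = 0 := by
      linear_combination h1 - h2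
    rcases mul_eq_zero.mp h3 with h4 | h4
    · exfalso
      rcases hεpm (y j) with h5 | h5 <;> rw [h5] at h4 <;> norm_num at h4
    · exact sub_eq_zero.mp h4

end Cfsg.Agent.S4442
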