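import Cfsg.Statements.S4446
import Cfsg.Agent.Lib.helper2.GlaubCyc6

set_option autoImplicit false
open Cfsg

namespace Cfsg.Agent.S4446

open Cfsg
open scoped ComplexConjugate
open Cfsg.Agent.Lib.helper2 Cfsg.Agent.Lib.helper7 Cfsg.Agent.Lib.Helper11 Cfsg.Agent.Lib.Helper25



/-- Let the finite group Γ be generated by a normal subgroup G and a cyclic subgroup S of coprime orders, C = G ⊓ C(S), and let χ be an S-invariant irreducible character of G with canonical extension χ̂ to Γ (the extension whose determinantal order is coprime to the order of S). Then there are exactly one irreducible character β of C and one sign ε such that χ̂(c s) = ε β(c) for every c ∈ C and every generator s of S; this β is a constituent of the restriction of χ to C; distinct S-invariant χ give distinct β; and every irreducible character of C arises in this way. -/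
theorem result {Γ : Type*} [Group Γ] [Fintype Γ] (G S : Subgroup Γ) [Fintype G] (hnorm : ∀ s ∈ S, ∀ g ∈ G, s * g * s⁻¹ ∈ G) (hcop : (Nat.card G).Coprime (Nat.card S)) (htop : G ⊔ S = ⊤) (hcyc : IsCyclic S) (C : Subgroup Γ) [Fintype C] (hC : C = G ⊓ Subgroup.centralizer (S : Set Γ)) (hCG : C ≤ G) : (∀ (χ : Cfsg.IrrCharacter G) (χh : Cfsg.IrrCharacter Γ), (∀ s ∈ S, ∀ g g' : G, (g' : Γ) = s * g * s⁻¹ → (χ : G → ℂ) g' = (χ : G → ℂ) g) → (∀ g : G, (χh : Γ → ℂ) g = (χ : G → ℂ) g) → (Cfsg.detOrder (χh : Γ → ℂ)).Coprime (Nat.card S) → (∃! βε : Cfsg.IrrCharacter C × ℤ, (βε.2 = 1 ∨ βε.2 = -1) ∧ ∀ c : C, ∀ s : Γ, Subgroup.zpowers s = S → (χh : Γ → ℂ) ((c : Γ) * s) = (βε.2 : ℂ) * (βε.1 : C → ℂ) c) ∧ ∀ β : Cfsg.IrrCharacter C, ∀ ε : ℤ, (ε = 1 ∨ ε = -1) → (∀ c : C, ∀ s : Γ, Subgroup.zpowers s = S → (χh : Γ → ℂ) ((c : Γ) * s) = (ε : ℂ) * (β : C → ℂ) c) → Cfsg.classInner (fun c : C => (χ : G → ℂ) ⟨c, hCG c.2⟩)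 (β : C → ℂ) ≠ 0) ∧ (∀ (χ χ' : Cfsg.IrrCharacter G) (χh χh' : Cfsg.IrrCharacter Γ), (∀ s ∈ S, ∀ g g' : G, (g' : Γ) = s * g * s⁻¹ → (χ : G → ℂ) g' = (χ : G → ℂ) g) → (∀ s ∈ S, ∀ g g' : G, (g' : Γ) = s * g * s⁻¹ → (χ' : G → ℂ) g' = (χ' : G → ℂ) g) → (∀ g : G, (χh : Γ → ℂ) g = (χ : G → ℂ) g) → (∀ g : G, (χh' : Γ → ℂ) g = (χ' : G → ℂ) g) → (Cfsg.detOrder (χh : Γ → ℂ)).Coprime (Nat.card S) → (Cfsg.detOrder (χh' : Γ → ℂ)).Coprime (Nat.card S) → ∀ β : Cfsg.IrrCharacter C, ∀ ε ε' : ℤ, (ε = 1 ∨ ε = -1) → (ε' = 1 ∨ ε' = -1) → (∀ c : C, ∀ s : Γ, Subgroup.zpowers s = S → (χh : Γ → ℂ) ((c : Γ) * s) = (ε : ℂ) * (β : C → ℂ) c) → (∀ c : C, ∀ s : Γ, Subgroup.zpowers s = S → (χh' : Γ → ℂ) ((c : Γ) * s) = (ε' : ℂ) * (β : C → ℂ) c) → χ = χ') ∧ (∀ β : Cfsg.IrrCharacter C, ∃ (χ : Cfsg.IrrCharacter G) (χh : Cfsg.IrrCharacter Γ) (ε : ℤ), (∀ s ∈ S, ∀ g g' : G, (g' : Γ) = s * g * s⁻¹ → (χ : G → ℂ) g' = (χ : G → ℂ) g) ∧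 (∀ g : G, (χh : Γ → ℂ) g = (χ : G → ℂ) g) ∧ (Cfsg.detOrder (χh : Γ → ℂ)).Coprime (Nat.card S) ∧ (ε = 1 ∨ ε = -1) ∧ ∀ c : C, ∀ s : Γ, Subgroup.zpowers s = S → (χh : Γ → ℂ) ((c : Γ) * s) = (ε : ℂ) * (β : C → ℂ) c) := by
  classical
  subst hC
  haveI hG : G.Normal := gc_normal G S hnorm htop
  obtain ⟨s, hs⟩ := gc_exists_gen S hcyc
  have hsS : s ∈ S := hs ▸ Subgroup.mem_zpowers s
  have hScomm : ∀ a ∈ S, ∀ b ∈ S, a * b = b * a := by
    intro a ha b hb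
    rw [← hs] at ha hb
    exact gc_zpowers_comm s a b ha hb
  have hdeg : ∀ β : Cfsg.IrrCharacter ↥(G ⊓ Subgroup.centralizer (S : Set Γ)),
      ∃ n : ℕ, 0 < n ∧ (β : ↥(G ⊓ Subgroup.centralizer (S : Set Γ)) → ℂ) 1 = (n : ℂ) := by
    intro β
    obtain ⟨n, hn, h1, -⟩ := irr_degree_dvd_card β
    exact ⟨n, hn, h1⟩
  refine ⟨?_, ?_, ?_⟩
  · -- P1
    intro χ χh hχinv hext hdet
    have hfun : (fun g : G => (χh : Γ → ℂ) g) = (χ : G → ℂ) := funext hext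
    have hres : Cfsg.IsIrrCharacter G (fun g : G => (χh : Γ → ℂ) g) := by
      rw [hfun]; exact χ.2
    obtain ⟨β, ε, hε, hval⟩ := gc_exists G S hcop htop hcyc (χh : Γ → ℂ) χh.2 hres hdet
    constructor
    · refine ⟨(β, ε), ⟨hε, hval⟩, ?_⟩
      rintro ⟨β', ε'⟩ ⟨hε', hval'⟩
      simp only at hε' hval'
      have heq : ∀ c : ↥(G ⊓ Subgroup.centralizer (S : Set Γ)),
          (ε' : ℂ) * (β' : ↥(G ⊓ Subgroup.centralizer (S : Set Γ)) → ℂ) c =
          (ε : ℂ) * (β : ↥(G ⊓ Subgroup.centralizer (S : Set Γ)) → ℂ) c := by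
        intro c
        rw [← hval c s hs, ← hval' c s hs]
      obtain ⟨n, hn, hn1⟩ := hdeg β
      obtain ⟨n', hn', hn1'⟩ := hdeg β'
      have h1 := heq 1
      rw [hn1, hn1'] at h1
      have h2 : ε' * (n' : ℤ) = ε * (n : ℤ) := by exact_mod_cast h1
      have hεε : ε' = ε := by
        rcases hε with h | h <;> rcases hε' with h' | h'
        · rw [h, h']
        · exfalso; rw [h, h'] at h2; omega
        · exfalso; rw [h, h'] at h2; omega
        · rw [h, h']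
      have hββ : β' = β := by
        apply Subtype.ext
        funext c
        have h3 := heq c
        rw [hεε] at h3
        have hεne : (ε : ℂ) ≠ 0 := by
          rcases hε with h | h <;> rw [h] <;> norm_num
        exact mul_left_cancel₀ hεne h3
      rw [hεε, hββ]
    · intro β' ε' hε' hval'
      have hεne : ((ε' : ℤ) : ℂ) ≠ 0 := by
        rcases hε' with h | h <;> rw [h] <;> norm_num
      have h1 := gc_constituent (G ⊓ Subgroup.centralizer (S : Set Γ)) S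
        (fun c hc t ht => (Subgroup.mem_centralizer_iff.mp hc.2 t ht).symm)
        (fun a b => Subtype.ext (hScomm a a.2 b b.2)) s hsS (χh : Γ → ℂ)
        (Cfsg.Agent.Lib.helper2.isCharacter_of_irr χh)
        (β' : ↥(G ⊓ Subgroup.centralizer (S : Set Γ)) → ℂ) β'.2 (ε' : ℂ) hεne
        (fun c => hval' c s hs)
      have h2 : (fun c : ↥(G ⊓ Subgroup.centralizer (S : Set Γ)) => (χ : G → ℂ) ⟨c, hCG c.2⟩) =
          fun c : ↥(G ⊓ Subgroup.centralizer (S : Set Γ)) => (χh : Γ → ℂ) c := by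
        funext c
        exact (hext ⟨c, hCG c.2⟩).symm
      rw [h2]
      exact h1
  · -- P2
    intro χ χ' χh χh' hχinv hχinv' hext hext' hdet hdet' β ε ε' hε hε' hval hval'
    by_contra hne
    have hne' : (fun g : G => (χh : Γ → ℂ) g) ≠ (fun g : G => (χh' : Γ → ℂ) g) := by
      intro h
      apply hne
      apply Subtype.ext
      funext g
      rw [← hext g, ← hext' g]
      exact congrFun h g
    have hεne : ((ε : ℤ) : ℂ) ≠ 0 := by
      rcases hε with h | h <;> rw [h] <;> norm_num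
    have hεne' : ((ε' : ℤ) : ℂ) ≠ 0 := by
      rcases hε' with h | h <;> rw [h] <;> norm_num
    exact gc_inj G S hcop htop s hs (χh : Γ → ℂ) (χh' : Γ → ℂ) χh.2 χh'.2 hne'
      (β : ↥(G ⊓ Subgroup.centralizer (S : Set Γ)) → ℂ) β.2 (ε : ℂ) (ε' : ℂ) hεne hεne'
      (fun c => hval c s hs) (fun c => hval' c s hs)
  · -- P3
    intro β
    obtain ⟨ψ, hψ, hres, hdet, ε, hε, hval⟩ := gc_surj G S hcop htop hcyc β
    have hcl := isCharacter_isClassFunction (h7_irr_isCharacter hψ)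
    refine ⟨⟨fun g : G => ψ g, hres⟩, ⟨ψ, hψ⟩, ε, ?_, fun g => rfl, hdet, hε, hval⟩
    intro t ht g g' hgg'
    simp only
    rw [hgg']
    exact hcl g t

end Cfsg.Agent.S4446
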