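import Cfsg.Statements.S4450
import Cfsg.Agent.Lib.helper2.Triple1
import Cfsg.Agent.Lib.helper2.Triple5

set_option autoImplicit false
open Cfsg

namespace Cfsg.Agent.S4450

open Cfsg.Agent.Lib.helper2 Cfsg.Agent.Lib.helper7 Cfsg.Agent.Lib.Helper25

/-- Let N ≤ G be normal subgroups of the finite group Γ with the index of G in Γ coprime to the index of N in G, and Γ/G or G/N solvable. Then for every irreducible character ϑ of N invariant under conjugation by Γ, the induced character ϑ^G has an irreducible constituent invariant under conjugation by Γ. -/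
theorem result {Γ : Type*} [Group Γ] [Fintype Γ] (G N : Subgroup Γ) [hG : G.Normal] [hN : N.Normal] [Fintype G] [Fintype N] (hNG : N ≤ G) (hcop : (G.index).Coprime (N.relIndex G)) (hsolv : Group.IsSolvable (Γ ⧸ G) ∨ Group.IsSolvable (G ⧸ N.subgroupOf G)) (θ : Cfsg.IrrCharacter N) (hinv : ∀ (x : Γ) (n : N), (θ : N → ℂ) ⟨x * n * x⁻¹, hN.conj_mem n n.2 x⟩ = (θ : N → ℂ) n) : ∃ χ : Cfsg.IrrCharacter G, Cfsg.classInner (fun n : N => (χ : G → ℂ) ⟨n, hNG n.2⟩) (θ : N → ℂ) ≠ 0 ∧ ∀ (x : Γ) (g : G), (χ : G → ℂ) ⟨x * g * x⁻¹, hG.conj_mem g g.2 x⟩ = (χ : G → ℂ) g := by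
  classical
  obtain ⟨d, ρ, hρ, hθ⟩ := θ.2
  haveI := hρ
  have hinv' : ∀ (g : Γ) (n : N), ρ.character (MulAut.conjNormal g n) = ρ.character n := by
    intro g n
    rw [hθ]
    have e : MulAut.conjNormal g n = ⟨g * n * g⁻¹, hN.conj_mem n n.2 g⟩ := by
      apply Subtype.ext
      rw [MulAut.conjNormal_apply]
    rw [e]
    exact hinv g n
  haveI : Finite (ctE N ρ) := ct_finite N ρ
  obtain ⟨χ, ⟨c, hc0, hc⟩, hχinv⟩ := ct_assemble G N hNG hcop hsolv ρ (ctπ N ρ)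
    (ct_surj N ρ hinv') (ct_ker_le_center N ρ) (ctι N ρ) (ctπ_ι N ρ) (ctτ N ρ) (ctτ_ι N ρ)
    (ctLam N ρ) (ctτ_ker N ρ)
  refine ⟨χ, ?_, fun x g => hχinv x g _⟩
  have h1 : (fun n : N => (χ : G → ℂ) ⟨n, hNG n.2⟩) = c • (θ : N → ℂ) := by
    funext n
    rw [hc n, hθ]
    rfl
  rw [h1, classInner_smul_left, h7_irr_norm θ.2, mul_one]
  exact hc0

end Cfsg.Agent.S4450
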