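import Cfsg.Statements.S4454
import Mathlib
import Cfsg.Agent.Lib.helper2.FrobRam4

set_option autoImplicit false
open Cfsg

namespace Cfsg.Agent.S4454

open Cfsg

open Cfsg.Agent.Lib.helper2 Cfsg.Agent.Lib.helper7 Cfsg.Agent.Lib.Helper11 Cfsg.Agent.Lib.Helper25



/-- Let N ≤ G be normal subgroups of the finite group Γ with Γ/G cyclic and Γ/N a Frobenius group with kernel G/N: G ≠ Γ, N ≠ G, and no element of Γ outside G fixes a non-identity coset of N in G under conjugation. Let ϑ be an irreducible character of N invariant under conjugation by Γ and suppose ϑ is fully ramified in G: the character of G induced from ϑ equals e·χ for an irreducible character χ of G and a natural number e. Then the index of G in Γ divides e − 1 or e + 1. -/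
theorem result {Γ : Type*} [Group Γ] [Fintype Γ] (G N : Subgroup Γ) [hG : G.Normal] [hN : N.Normal] [Fintype G] [Fintype N] (hNG : N ≤ G) (hGlt : G ≠ ⊤) (hNlt : N ≠ G) (hcyc : IsCyclic (Γ ⧸ G)) (hfrob : ∀ x : Γ, x ∉ G → ∀ g : Γ, g ∈ G → x * g * x⁻¹ * g⁻¹ ∈ N → g ∈ N) (θ : Cfsg.IrrCharacter N) (hinv : ∀ (x : Γ) (n : N), (θ : N → ℂ) ⟨x * n * x⁻¹, hN.conj_mem n n.2 x⟩ = (θ : N → ℂ) n) (χ : Cfsg.IrrCharacter G) (e : ℕ) (hram : Cfsg.indFun (N.subgroupOf G) (fun n : N.subgroupOf G => (θ : N → ℂ) ⟨(n : G), n.2⟩) = fun g => (e : ℂ) * (χ : G → ℂ) g) : (G.index : ℤ) ∣ (e : ℤ) - 1 ∨ (G.index : ℤ) ∣ (e : ℤ) + 1 := by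
  classical
  obtain ⟨q₀, hq₀⟩ := hcyc.exists_generator
  obtain ⟨x₀, rfl⟩ := QuotientGroup.mk_surjective q₀
  have hx₀ : x₀ ∉ G := by
    intro h
    apply hGlt
    rw [eq_top_iff]
    intro y _
    obtain ⟨i, hi⟩ := Subgroup.mem_zpowers_iff.mp (hq₀ (QuotientGroup.mk y))
    have h1 : (QuotientGroup.mk x₀ : Γ ⧸ G) = 1 := (QuotientGroup.eq_one_iff _).mpr h
    rw [h1, one_zpow] at hi
    exact (QuotientGroup.eq_one_iff _).mp hi.symm
  obtain ⟨hSG, hcycS, hidx⟩ := fr_S_facts G N hNG hfrob x₀ hx₀ hq₀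
  set S : Subgroup Γ := N ⊔ Subgroup.zpowers x₀ with hSdef
  have hNS : N ≤ S := le_sup_left
  haveI : Fintype S := Fintype.ofFinite _
  have hn2 : 2 ≤ G.index := by
    have h0 : G.index ≠ 0 := Subgroup.index_ne_zero_of_finite
    have h1 : G.index ≠ 1 := fun h => hGlt (Subgroup.index_eq_one.mp h)
    omega
  -- restriction of χ
  let EG : N.subgroupOf G ≃* N := Subgroup.subgroupOfEquivOfLe hNG
  have hθ' : Cfsg.IsIrrCharacter (N.subgroupOf G)
      (fun n : N.subgroupOf G => (θ : N → ℂ) ⟨(n : G), n.2⟩) :=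
    h7_isIrr_comp_equiv EG (θ : N → ℂ) θ.2
  haveI : Fintype (N.subgroupOf G) := Fintype.ofFinite _
  have hinvG : ∀ g : G, cj (N.subgroupOf G)
      (fun n : N.subgroupOf G => (θ : N → ℂ) ⟨(n : G), n.2⟩) g =
      (fun n : N.subgroupOf G => (θ : N → ℂ) ⟨(n : G), n.2⟩) := by
    intro g
    funext n
    exact hinv (g : Γ) ⟨((n : G) : Γ), n.2⟩
  obtain ⟨he, hχN⟩ := fr_restrict (N.subgroupOf G) _ hθ' hinvG (χ : G → ℂ) χ.2 e hram
  have heC : (e : ℂ) ≠ 0 := by exact_mod_cast he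
  have hχinv : ∀ (x : Γ) (g : G),
      (χ : G → ℂ) ⟨x * g * x⁻¹, hG.conj_mem g g.2 x⟩ = (χ : G → ℂ) g := by
    intro x g
    have h1 := fr_ind_conj G N (θ : N → ℂ) hinv x g
    rw [hram] at h1
    exact mul_left_cancel₀ heC h1
  -- extension of χ
  obtain ⟨k, ρ, hρ, hρχ⟩ := χ.2
  haveI := hρ
  obtain ⟨σ, hσ, hσρ⟩ := h7_extend_cyclic G hcyc ρ (by
    intro g n
    rw [hρχ]
    exact hχinv g n)
  have hX : Cfsg.IsIrrCharacter Γ σ.character := ⟨k, σ, hσ, rfl⟩
  have hXχ : ∀ g : G, σ.character (g : Γ) = (χ : G → ℂ) g := by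
    intro g
    rw [← hρχ]
    show LinearMap.trace ℂ _ (σ (g : Γ)) = LinearMap.trace ℂ _ (ρ g)
    rw [hσρ g]
  have hXG : Cfsg.IsIrrCharacter G (fun g : G => σ.character (g : Γ)) := by
    have : (fun g : G => σ.character (g : Γ)) = (χ : G → ℂ) := funext hXχ
    rw [this]
    exact χ.2
  -- extension of θ
  obtain ⟨k', ρ', hρ', hρθ⟩ := θ.2
  haveI := hρ'
  let ES : N.subgroupOf S ≃* N := Subgroup.subgroupOfEquivOfLe hNS
  haveI hirrM : Representation.IsIrreducible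
      (ρ'.comp ES.toMonoidHom : Representation ℂ (N.subgroupOf S) (Fin k' → ℂ)) :=
    isIrreducible_comp_equiv ρ' ES
  obtain ⟨τ, hτ, hτρ⟩ := h7_extend_cyclic (N.subgroupOf S) hcycS
    (ρ'.comp ES.toMonoidHom : Representation ℂ (N.subgroupOf S) (Fin k' → ℂ)) (by
    intro g m
    show ρ'.character (ES (MulAut.conjNormal g m)) = ρ'.character (ES m)
    rw [hρθ]
    exact hinv ((g : S) : Γ) (ES m))
  have hT : Cfsg.IsIrrCharacter S τ.character := ⟨k', τ, hτ, rfl⟩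
  have hTθ : ∀ m : N.subgroupOf S, τ.character (m : S) = (θ : N → ℂ) (ES m) := by
    intro m
    rw [← hρθ]
    show LinearMap.trace ℂ _ (τ (m : S)) = LinearMap.trace ℂ _ (ρ' (ES m))
    rw [hτρ m]
    rfl
  have hTM : Cfsg.IsIrrCharacter (N.subgroupOf S)
      (fun m : N.subgroupOf S => τ.character (m : S)) := by
    have : (fun m : N.subgroupOf S => τ.character (m : S)) =
        fun m => (θ : N → ℂ) (ES m) := funext hTθ
    rw [this]
    exact h7_isIrr_comp_equiv ES (θ : N → ℂ) θ.2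
  have hXN : ∀ m : N.subgroupOf S,
      σ.character ((m : S) : Γ) = (e : ℂ) * τ.character (m : S) := by
    intro m
    have hmN : ((m : S) : Γ) ∈ N := m.2
    have h1 := hXχ ⟨((m : S) : Γ), hNG hmN⟩
    have h2 := hχN ⟨⟨((m : S) : Γ), hNG hmN⟩, hmN⟩
    rw [hTθ m]
    exact h1.trans h2
  rw [← hidx]
  rw [← hidx] at hn2
  exact fr_core G N S hNG hNS hSG (fr_comm_of_cyclic G hcyc)
    (fr_comm_of_cyclic _ hcycS) hfrob σ.character hX hXG τ.character hT hTM e hXN _ rfl hn2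

end Cfsg.Agent.S4454
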