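import Cfsg.Statements.S4455
import Cfsg.Agent.Lib.Helper24.PResChar2
import Cfsg.Agent.Lib.Helper1.Residual

set_option autoImplicit false
open Cfsg

namespace Cfsg.Agent.S4455

open Cfsg.Agent.Lib.Helper24

theorem result {G : Type*} [Group G] [Finite G] (p : ℕ) (hp : p.Prime) : (Nat.card (Cfsg.pResidual p G) : ℤ) ≡ (∑ᶠ χ ∈ {χ : Cfsg.IrrCharacter G | ¬ p ∣ Cfsg.charDegree (χ : G → ℂ) ∧ ¬ p ∣ Cfsg.detOrder (χ : G → ℂ)}, (Cfsg.charDegree (χ : G → ℂ) : ℤ) ^ 2) [ZMOD p] := by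
  classical
  haveI : Fact p.Prime := ⟨hp⟩
  haveI : Fintype G := Fintype.ofFinite G
  haveI : Fintype (Cfsg.IrrCharacter G) := Fintype.ofFinite _
  haveI hK := Cfsg.Agent.Lib.Helper1.pResidual_normal (G := G) p
  have hKidx : ∃ k, (Cfsg.pResidual p G).index = p ^ k := by
    have h1 := Cfsg.Agent.Lib.Helper1.quotient_pResidual_isPGroup (G := G) p
    obtain ⟨k, hk⟩ := IsPGroup.exists_card_eq h1
    exact ⟨k, by rw [Subgroup.index_eq_card]; exact hk⟩
  have hmin : ∀ M : Subgroup G, M.Normal → M ≤ Cfsg.pResidual p G → (∃ k, M.index = p ^ k) →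
      M = Cfsg.pResidual p G := by
    intro M hM hMK hidx
    obtain ⟨k, hk⟩ := hidx
    haveI := hM
    apply le_antisymm hMK
    apply Cfsg.Agent.Lib.Helper1.pResidual_le_of_isPGroup_quotient
    exact IsPGroup.of_card (n := k) (by rw [← Subgroup.index_eq_card]; exact hk)
  have main := prc_main p (Cfsg.pResidual p G) hKidx hmin
  have hset : {χ : Cfsg.IrrCharacter G | ¬ p ∣ Cfsg.charDegree (χ : G → ℂ) ∧
      ¬ p ∣ Cfsg.detOrder (χ : G → ℂ)} =
      ((Finset.univ.filter (fun χ : Cfsg.IrrCharacter G =>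
        ¬ p ∣ Cfsg.charDegree (χ : G → ℂ) ∧ ¬ p ∣ Cfsg.detOrder (χ : G → ℂ)) :
        Finset (Cfsg.IrrCharacter G)) : Set (Cfsg.IrrCharacter G)) := by
    ext χ
    simp
  rw [hset, finsum_mem_coe_finset, ← ZMod.intCast_eq_intCast_iff]
  push_cast
  exact main

end Cfsg.Agent.S4455
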