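import Cfsg.Statements.S4464
import Cfsg.Agent.Lib.Helper24.BLT5

set_option autoImplicit false
open Cfsg

namespace Cfsg.Agent.S4464

theorem result {G : Type*} [Group G] [Finite G] (p : ℕ) (hp : p.Prime) (hb : ∀ χ : Cfsg.IrrCharacter G, Cfsg.charDegree (χ : G → ℂ) < p) : ∃ P : Subgroup G, P.Normal ∧ (∀ x ∈ P, ∀ y ∈ P, x * y = y * x) ∧ IsPGroup p P ∧ ¬ p ∣ P.index := by
  have : Fact p.Prime := ⟨hp⟩
  let P : Sylow p G := default
  have hbl : Cfsg.Agent.Lib.Helper24.BLt G p := hb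
  refine ⟨(P : Subgroup G), ?_, ?_, P.isPGroup', P.not_dvd_index⟩
  · exact Cfsg.Agent.Lib.Helper24.blt_sylow_normal p _ G rfl hbl P
  · intro x hx y hy
    have := Cfsg.Agent.Lib.Helper24.blt_comm_of_pgroup hp P.isPGroup'
      (Cfsg.Agent.Lib.Helper24.blt_subgroup (P : Subgroup G) hbl) ⟨x, hx⟩ ⟨y, hy⟩
    exact congrArg Subtype.val this

end Cfsg.Agent.S4464
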