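import Cfsg.Statements.S4468
import Cfsg.Agent.Lib.Helper29.ItoGroupA
import Cfsg.Agent.Lib.Helper29.ItoMain
import Cfsg.Agent.Lib.helper2.BergerLib

set_option autoImplicit false
open Cfsg

namespace Cfsg.Agent.S4468

open Cfsg.Agent.Lib.Helper29.Ito

/-- Let the finite p-solvable group G have a faithful character χ of degree n ≤ p − 1 and suppose that a Sylow p-subgroup of G is not normal. Then n = p − 1, n is a power of 2, and χ is irreducible. -/
theorem result {G : Type*} [Group G] [Finite G] (χ : G → ℂ) (hχ : Cfsg.IsCharacter G χ) (hfaith : ∀ g : G, χ g = χ 1 → g = 1) (n : ℕ) (hn : Cfsg.charDegree χ = n) (p : ℕ) (hp : p.Prime) (hsolv : Cfsg.IsPSolvable p G) (hnp : n + 1 ≤ p) (P : Sylow p G) (hP : ¬ (P : Subgroup G).Normal) : n + 1 = p ∧ (∃ k : ℕ, n = 2 ^ k) ∧ Cfsg.IsIrrCharacter G χ := by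
  classical
  have : Fact p.Prime := ⟨hp⟩
  let _ := Fintype.ofFinite G
  obtain ⟨q, hq, hqp, Q₀, y, hQ₀q, hyp, hyn, hyc, hym⟩ := exists_pair hsolv P hP
  have hmp₀ : MovedPair p q Q₀ y := ⟨hQ₀q, hyp, hyn, hyc, hym⟩
  obtain ⟨Q, _, hmp, hmin⟩ := exists_minPair hmp₀
  have hzc := cent_central hp hq hqp hmp hmin
  -- the group Γ
  set Γ : Subgroup G := Q ⊔ Subgroup.zpowers y with hΓ
  have hQΓ : Q ≤ Γ := le_sup_left
  have hyΓ : y ∈ Γ := (le_sup_right : Subgroup.zpowers y ≤ Γ) (Subgroup.mem_zpowers y)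
  have hzn : Subgroup.zpowers y ≤ Subgroup.normalizer (Q : Set G) :=
    Subgroup.zpowers_le.mpr hmp.norm
  have hΓn : Γ ≤ Subgroup.normalizer (Q : Set G) := sup_le Subgroup.le_normalizer hzn
  have hQsn : (Q.subgroupOf Γ).Normal := Subgroup.normal_subgroupOf_of_le_normalizer hΓn
  obtain ⟨a, ha⟩ := hmp.ppow
  have hsetup : Setup p q (Q.subgroupOf Γ) (⟨y, hyΓ⟩ : Γ) := by
    refine ⟨hp, hq, hqp, hmp.pgroup.comap_subtype, ⟨a, Subtype.ext (by simpa using ha)⟩, ?_, ?_, ?_, ?_⟩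
    · intro g
      have hg : (g : G) ∈ ((Q ⊔ Subgroup.zpowers y : Subgroup G) : Set G) := g.2
      rw [Subgroup.coe_mul_of_right_le_normalizer_left Q (Subgroup.zpowers y) hzn] at hg
      obtain ⟨z, hz, w, hw, hzw⟩ := hg
      have hw' : w ∈ Submonoid.powers y := mem_powers_iff_mem_zpowers.mpr hw
      obtain ⟨i, hi⟩ := (Submonoid.mem_powers_iff w y).mp hw'
      refine ⟨⟨z, hQΓ hz⟩, Subgroup.mem_subgroupOf.mpr hz, i, ?_⟩
      apply Subtype.ext
      simp only [Subgroup.coe_mul, Subgroup.coe_pow]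
      rw [hi]; exact hzw.symm
    · intro z hz
      apply Subtype.ext
      simp only [Subgroup.coe_mul, Subgroup.coe_pow]
      exact hmp.cent z (Subgroup.mem_subgroupOf.mp hz)
    · obtain ⟨z, hz, hzm⟩ := hmp.moved
      refine ⟨⟨z, hQΓ hz⟩, Subgroup.mem_subgroupOf.mpr hz, ?_⟩
      intro h
      apply hzm
      have := congrArg Subtype.val h
      simpa using this
    · intro c hc hcy u hu
      apply Subtype.ext
      simp only [Subgroup.coe_mul]
      apply hzc c (Subgroup.mem_subgroupOf.mp hc) _ u (Subgroup.mem_subgroupOf.mp hu)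
      have := congrArg Subtype.val hcy
      simpa using this
  -- the restricted character
  have hχs : Cfsg.IsCharacter Γ (fun g : Γ => χ g) :=
    Cfsg.Agent.Lib.helper2.isCharacter_restrict hχ Γ
  have hfs : ∀ g : Γ, (fun g : Γ => χ g) g = (fun g : Γ => χ g) 1 → g = 1 := by
    intro g hg
    apply Subtype.ext
    exact hfaith g hg
  have hns : Cfsg.charDegree (fun g : Γ => χ g) = n := by
    rw [← hn]; rfl
  obtain ⟨h1, h2, h3⟩ := hsetup.main (fun g : Γ => χ g) hχs hfs n hns hnp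
  exact ⟨h1, h2, Cfsg.Agent.Lib.helper2.irr_of_restrict_irr Γ χ hχ h3⟩

end Cfsg.Agent.S4468
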