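import Cfsg.Statements.S4473
import Cfsg.Agent.Lib.helper2.Kl3
import Cfsg.Agent.Lib.helper2.Kl4

set_option autoImplicit false
open Cfsg

namespace Cfsg.Agent.S4473

/-- Let the finite group G have a faithful irreducible character χ of degree 2 that is primitive: χ is not induced from a character of any proper subgroup. Then the centre of G has index 12, 24 or 60. -/
theorem result {G : Type*} [Group G] [Fintype G] (χ : Cfsg.IrrCharacter G) (hfaith : ∀ g : G, (χ : G → ℂ) g = (χ : G → ℂ) 1 → g = 1) (h2 : Cfsg.charDegree (χ : G → ℂ) = 2) (hprim : ∀ H : Subgroup G, H ≠ ⊤ → ∀ θ : H → ℂ, Cfsg.IsCharacter H θ → (χ : G → ℂ) ≠ Cfsg.indFun H θ) : (Subgroup.center G).index = 12 ∨ (Subgroup.center G).index = 24 ∨ (Subgroup.center G).index = 60 := by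
  classical
  obtain ⟨n, ρ, hirr, hρ⟩ := χ.2
  have hn : n = 2 := by
    have h1 : (χ : G → ℂ) 1 = (n : ℂ) := by
      rw [← hρ, Representation.char_one]
      simp
    unfold Cfsg.charDegree at h2
    rw [h1] at h2
    simpa using h2
  subst hn
  haveI : ρ.IsIrreducible := hirr
  have hV : Module.finrank ℂ (Fin 2 → ℂ) = 2 := by simp
  have hf : ∀ g : G, ρ.character g = ρ.character 1 → g = 1 := by rw [hρ]; exact hfaith
  have hprim' : ∀ H : Subgroup G, H ≠ ⊤ → ∀ θ : H → ℂ, Cfsg.IsCharacter H θ →
      ρ.character ≠ Cfsg.indFun H θ := by rw [hρ]; exact hprim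
  have hirrc : Cfsg.IsIrrCharacter G ρ.character := by rw [hρ]; exact χ.2
  obtain ⟨k, S, hS, hsum⟩ := Cfsg.Agent.Lib.helper2.kl_count ρ hV hf
  have hZ0 : (Subgroup.center G).index ≠ 0 := Subgroup.index_ne_zero_of_finite
  apply Cfsg.Agent.Lib.helper2.kl_arith k (fun i => (S i).index)
    (fun i => (Subgroup.center G).relIndex (S i)) (Subgroup.center G).index
  · intro i
    obtain ⟨v, hv, hfix, hle, x, hxS, hxZ⟩ := hS i
    exact Subgroup.relIndex_mul_index hle
  · intro i
    obtain ⟨v, hv, hfix, hle, x, hxS, hxZ⟩ := hS i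
    have h0 : (Subgroup.center G).relIndex (S i) ≠ 0 := by
      intro h0
      have := Subgroup.relIndex_mul_index hle
      rw [h0, zero_mul] at this
      exact hZ0 this.symm
    have h1 : (Subgroup.center G).relIndex (S i) ≠ 1 := by
      intro h1
      rw [Subgroup.relIndex_eq_one] at h1
      exact hxZ (h1 hxS)
    show 2 ≤ (Subgroup.center G).relIndex (S i)
    omega
  · intro i
    obtain ⟨v, hv, hfix, hle, x, hxS, hxZ⟩ := hS i
    have h0 : (S i).index ≠ 0 := Subgroup.index_ne_zero_of_finite
    have h1 : (S i).index ≠ 1 := by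
      intro h1
      rw [Subgroup.index_eq_one] at h1
      apply Cfsg.Agent.Lib.helper2.kl_no_fixed_line ρ hV v hv
      intro g
      exact hfix g (by rw [h1]; trivial)
    have h2' : (S i).index ≠ 2 :=
      Cfsg.Agent.Lib.helper2.kl_index_ne_two ρ hirrc hV hprim' (S i) v hv hfix
    show 3 ≤ (S i).index
    omega
  · exact hsum
  · have h1 : (Subgroup.center G).index ≠ 1 := by
      intro h1
      rw [Subgroup.index_eq_one] at h1
      have hv : (fun _ => 1 : Fin 2 → ℂ) ≠ 0 := by
        intro h
        have := congrFun h 0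
        simp at this
      apply Cfsg.Agent.Lib.helper2.kl_no_fixed_line ρ hV _ hv
      intro g
      obtain ⟨c, hc⟩ := Cfsg.Agent.Lib.helper2.kl_scalar_of_central ρ g (by rw [h1]; trivial)
      exact ⟨c, by rw [hc]; simp⟩
    omega

end Cfsg.Agent.S4473
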