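import Cfsg.Statements.S4476
import Cfsg.Agent.Lib.Helper24.FSCount

set_option autoImplicit false
open Cfsg

namespace Cfsg.Agent.S4476

open Cfsg.Agent.Lib.Helper24 Cfsg.Agent.Lib.Helper25

theorem result {G : Type*} [Group G] [Fintype G] (heven : Even (Nat.card G)) (t : ℕ) (ht : Nat.card {x : G // orderOf x = 2} = t) : (∃ x : G, x ≠ 1 ∧ ((Subgroup.centralizer ({x} : Set G)).index : ℚ) ≤ (((Nat.card G : ℚ) - 1) / t) ^ 2) ∧ ∃ χ : Cfsg.IrrCharacter G, (χ : G → ℂ) ≠ (fun _ => 1) ∧ (∀ g : G, ((χ : G → ℂ) g).im = 0) ∧ (Cfsg.charDegree (χ : G → ℂ) : ℚ) ≤ ((Nat.card G : ℚ) - 1) / t := by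
  classical
  haveI : Finite (Cfsg.IrrCharacter G) := by
    have h := Cfsg.Agent.S0133.result (G := G)
    apply Nat.finite_of_card_ne_zero
    rw [h]
    exact Nat.card_pos.ne'
  haveI : Fintype (Cfsg.IrrCharacter G) := Fintype.ofFinite _
  have h2dvd : 2 ∣ Nat.card G := heven.two_dvd
  have hg2 : 2 ≤ Nat.card G := Nat.le_of_dvd Nat.card_pos h2dvd
  have htpos : 0 < Nat.card {x : G // orderOf x = 2} := by
    haveI : Fact (Nat.Prime 2) := ⟨Nat.prime_two⟩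
    obtain ⟨x, hx⟩ := exists_prime_orderOf_dvd_card' (G := G) 2 h2dvd
    exact Nat.card_pos_iff.mpr ⟨⟨⟨x, hx⟩⟩, inferInstance⟩
  have htQ : (0 : ℚ) < (t : ℚ) := by
    rw [← ht]; exact_mod_cast htpos
  refine ⟨?_, ?_⟩
  · obtain ⟨x, hx1, hx⟩ := fs_exists_small_class (G := G) htpos hg2
    refine ⟨x, hx1, ?_⟩
    rw [div_pow, le_div_iff₀ (pow_pos htQ 2)]
    rw [ht] at hx
    have : ((((Subgroup.centralizer ({x} : Set G)).index : ℤ) * (t : ℤ) ^ 2 : ℤ) : ℚ) ≤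
        ((((Nat.card G : ℤ) - 1) ^ 2 : ℤ) : ℚ) := by exact_mod_cast hx
    push_cast at this
    exact this
  · obtain ⟨χ, hne, hreal, hle⟩ := fs_exists_real_small (G := G) htpos
    refine ⟨χ, ?_, hreal, ?_⟩
    · intro h
      apply hne
      apply Subtype.ext
      rw [h]
      funext g
      rw [trivIrr_apply]
    · rw [le_div_iff₀ htQ]
      rw [ht] at hle
      have : (((Cfsg.charDegree (χ : G → ℂ) : ℤ) * (t : ℤ) : ℤ) : ℚ) ≤
          ((((Nat.card G : ℤ) - 1) : ℤ) : ℚ) := by exact_mod_cast hle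
      push_cast at this
      exact this

end Cfsg.Agent.S4476
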