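import Cfsg.Statements.S4477
import Mathlib
import Cfsg.Agent.Lib.Helper24.AFT3

set_option autoImplicit false
open Cfsg

namespace Cfsg.Agent.S4477

open Cfsg.Agent.Lib.Helper24

theorem result {G : Type*} [Group G] [Finite G] (hG : IsPGroup 2 G) (ht : Nat.card {x : G // orderOf x = 2} % 4 = 1) : IsCyclic G ∨ (commutator G).index = 4 := by
  by_cases hc : IsCyclic G
  · left; exact hc
  · right; exact af_main hG ht hc

end Cfsg.Agent.S4477
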