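import Cfsg.Statements.S4482
import Cfsg.Agent.Lib.Helper24.DO13

set_option autoImplicit false
open Cfsg

namespace Cfsg.Agent.S4482

theorem result {G : Type*} [Group G] [Finite G] (M : Ideal Cfsg.AlgInt) (hM : Cfsg.IsPModular 2 M) (n : ℕ) (hn : 3 ≤ n) (P : Sylow 2 G) (σ τ : G) (hσ : σ ∈ (P : Subgroup G)) (hτ : τ ∈ (P : Subgroup G)) (hσo : orderOf σ = 2 ^ (n - 1)) (hτo : orderOf τ = 2) (hrel : τ * σ * τ⁻¹ = σ⁻¹) (hgen : Subgroup.closure ({σ, τ} : Set G) = (P : Subgroup G)) (hconj : IsConj (σ ^ (2 ^ (n - 2))) τ ∧ IsConj (σ ^ (2 ^ (n - 2))) (σ * τ)) (χ₁ : Cfsg.IrrCharacter G) (hχ₁ : χ₁ ∈ Cfsg.principalBlock M G) (h1 : (χ₁ : G → ℂ) ≠ (fun _ => 1)) (δ₁ : ℤ) (hδ₁ : δ₁ = 1 ∨ δ₁ = -1) (hval : ∀ l : ℕ, 0 < l → l < 2 ^ (n - 1) → (χ₁ : G → ℂ) (σ ^ l) = δ₁) : (Cfsg.charDegree (χ₁ : G → ℂ) :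 ℤ) ≠ δ₁ ∧ (Nat.card G : ℚ) * ((Cfsg.charDegree (χ₁ : G → ℂ) : ℚ) - δ₁) ^ 2 = 2 * (Cfsg.charDegree (χ₁ : G → ℂ) : ℚ) * ((Cfsg.charDegree (χ₁ : G → ℂ) : ℚ) + δ₁) * (Nat.card (Subgroup.centralizer ({σ ^ (2 ^ (n - 2))} : Set G)) : ℚ) ^ 3 * (1 / (Nat.card (Subgroup.centralizer ({σ ^ (2 ^ (n - 2)), τ} : Set G)) : ℚ) + 1 / (Nat.card (Subgroup.centralizer ({σ ^ (2 ^ (n - 2)), σ * τ} : Set G)) : ℚ)) ^ 2 := by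
  have hmh : 2 ^ (n - 1) = 2 * 2 ^ (n - 2) := by
    have : n - 1 = (n - 2) + 1 := by omega
    rw [this, pow_succ]
    ring
  have hh : 2 ≤ 2 ^ (n - 2) := by
    have : n - 2 = (n - 3) + 1 := by omega
    rw [this, pow_succ]
    have : 1 ≤ 2 ^ (n - 3) := Nat.one_le_two_pow
    omega
  have hh3 : 2 ^ (n - 2) ≠ 3 := by
    intro h
    have h2 : 2 ∣ 2 ^ (n - 2) := dvd_pow_self 2 (by omega)
    rw [h] at h2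
    omega
  have D : Cfsg.Agent.Lib.Helper24.DOCtx G M P σ τ (2 ^ (n - 1)) (2 ^ (n - 2)) :=
    ⟨hmh, hh, hh3, hM, hσ, hτ, hσo, hτo, hrel, hgen, hconj.1, hconj.2⟩
  exact Cfsg.Agent.Lib.Helper24.do_order_formula D χ₁ hχ₁ h1 δ₁ hδ₁ hval

end Cfsg.Agent.S4482
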