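import Cfsg.Statements.S4486
import Cfsg.Agent.Lib.Helper29.LeoConcrete2

set_option autoImplicit false
open Cfsg

namespace Cfsg.Agent.S4486

/-- Let G be a finite group and p a prime dividing its order such that every non-identity element of a Sylow p-subgroup P has the same centralizer as P; let p^n be the order of P. If G has a non-principal irreducible character χ of degree x with x² < p^n − 1, then either G has a proper normal subgroup containing P, or G has a normal subgroup of index p^n and x = 1. -/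
theorem result {G : Type*} [Group G] [Finite G] (p : ℕ) (hp : p.Prime) (hpG : p ∣ Nat.card G) (P : Sylow p G) (hstar : ∀ x ∈ (P : Subgroup G), x ≠ 1 → Subgroup.centralizer ({x} : Set G) = Subgroup.centralizer ((P : Subgroup G) : Set G)) (n : ℕ) (hn : Nat.card P = p ^ n) (χ : Cfsg.IrrCharacter G) (h1 : (χ : G → ℂ) ≠ fun _ => 1) (hdeg : Cfsg.charDegree (χ : G → ℂ) ^ 2 + 1 < p ^ n) : (∃ K : Subgroup G, K.Normal ∧ K ≠ ⊤ ∧ (P : Subgroup G) ≤ K) ∨ ((∃ N : Subgroup G, N.Normal ∧ N.index = p ^ n) ∧ Cfsg.charDegree (χ : G → ℂ) = 1) := by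
  classical
  haveI : Fact p.Prime := ⟨hp⟩
  by_cases hK : ∃ K : Subgroup G, K.Normal ∧ K ≠ ⊤ ∧ (P : Subgroup G) ≤ K
  · left
    exact hK
  · right
    push Not at hK
    have hnoK : ∀ K : Subgroup G, K.Normal → (P : Subgroup G) ≤ K → K = ⊤ :=
      fun K hKn hle => by_contra fun hne => hK K hKn hne hle
    haveI : Fintype G := Fintype.ofFinite G
    have hstar' : Cfsg.Agent.Lib.Helper29.LeoStar P := hstar
    obtain ⟨π, hπ⟩ := Cfsg.Agent.Lib.Helper29.leoc_exists_pi hstar'
    have hsetup := Cfsg.Agent.Lib.Helper29.leoc_setup hstar' π hπ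
    haveI : Finite (↥(P : Subgroup G) →* ℂˣ) := Nat.finite_of_card_ne_zero (by
      rw [Cfsg.Agent.Lib.Helper29.afd_card_dual (Cfsg.Agent.Lib.Helper29.leo_comm hsetup)]
      exact Nat.card_pos.ne')
    haveI : Fintype (↥(P : Subgroup G) →* ℂˣ) := Fintype.ofFinite _
    have hχne : χ ≠ Cfsg.Agent.Lib.Helper25.trivIrr G := by
      intro h
      apply h1
      rw [h]
      rfl
    have hdegeq : Cfsg.Agent.Lib.Helper29.leoDeg χ = Cfsg.charDegree (χ : G → ℂ) := by
      have h2 := (Cfsg.Agent.Lib.Helper25.charDegree_irr χ).1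
      have h3 := Cfsg.Agent.Lib.Helper29.leoDeg_spec χ
      rw [h3] at h2
      exact_mod_cast h2.symm
    obtain ⟨hcard, hd1⟩ := Cfsg.Agent.Lib.Helper29.leo_main hsetup hnoK χ hχne (by
      rw [hdegeq, hn]
      omega)
    refine ⟨?_, by rw [← hdegeq]; exact hd1⟩
    have hNC : Subgroup.normalizer ((P : Subgroup G) : Set G) ≤
        Subgroup.centralizer ((P : Subgroup G) : Set G) := by
      have heq : Subgroup.centralizer ((P : Subgroup G) : Set G) =
          Subgroup.normalizer ((P : Subgroup G) : Set G) :=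
        Subgroup.eq_of_le_of_card_ge (Subgroup.centralizer_le_normalizer _) (by rw [hcard])
      rw [heq]
    refine ⟨(MonoidHom.transferSylow P hNC).ker, inferInstance, ?_⟩
    have := (MonoidHom.ker_transferSylow_isComplement' P hNC).symm.index_eq_card
    rw [this, hn]

end Cfsg.Agent.S4486
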