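import Cfsg.Statements.S4488
import Cfsg.Agent.Lib.helper2.SchurBound1
import Cfsg.Agent.Lib.helper2.SchurBound2

set_option autoImplicit false
open Cfsg

namespace Cfsg.Agent.S4488

open Cfsg

open Cfsg.Agent.Lib.helper2 in


/-- Let the finite group G have a faithful p-rational character χ of degree n (all values of χ lie in the field generated over ℚ by a root of unity of order prime to p), and let p^a be the order of a Sylow p-subgroup of G. Then a ≤ Σ_{i ≥ 0} ⌊n / ((p − 1)·p^i)⌋ (a finite sum; the terms vanish once (p − 1)p^i > n). -/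
theorem result {G : Type*} [Group G] [Finite G] (p : ℕ) (hp : p.Prime) (χ : G → ℂ) (hχ : Cfsg.IsCharacter G χ) (hfaith : ∀ g : G, χ g = χ 1 → g = 1) (hrat : (∃ r : ℕ, 0 < r ∧ ¬ p ∣ r ∧ ∀ g : G, χ g ∈ IntermediateField.adjoin ℚ ({Complex.exp (2 * Real.pi * Complex.I / r)} : Set ℂ))) (n : ℕ) (hn : Cfsg.charDegree χ = n) : (Nat.card G).factorization p ≤ ∑ i ∈ Finset.range (n + 1), n / ((p - 1) * p ^ i) := by
  classical
  haveI : Fact p.Prime := ⟨hp⟩
  obtain ⟨r, hr, hpr, hrat⟩ := hrat
  set a := (Nat.card G).factorization p with ha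
  let P : Sylow p G := default
  have hPcard : Nat.card ↥(P : Subgroup G) = p ^ a := Sylow.card_eq_multiplicity P
  set ψ : ↥(P : Subgroup G) → ℂ := fun x => χ x with hψdef
  have hψ : Cfsg.IsCharacter ↥(P : Subgroup G) ψ := isCharacter_restrict hχ _
  obtain ⟨n', hn'⟩ := isCharacter_one_eq_nat hχ
  have hnn : n' = n := by
    rw [← hn]
    unfold Cfsg.charDegree
    rw [hn', Complex.natCast_re, Nat.floor_natCast]
  subst hnn
  have hψ1 : ψ 1 = (n' : ℂ) := hn'
  have hinv : ∀ (x : ↥(P : Subgroup G)) (m : ℕ), m.Coprime p → ψ (x ^ m) = ψ x := by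
    intro x m hm
    have hx : (x : G) ^ (p ^ a) = 1 := by
      have h1 : x ^ Nat.card ↥(P : Subgroup G) = 1 := pow_card_eq_one'
      rw [hPcard] at h1
      have h2 := congrArg Subtype.val h1
      simpa using h2
    have h3 := sb_pow_invariant p hp χ hχ r hr hpr hrat (x : G) a hx m hm
    simpa [hψdef] using h3
  haveI : Fintype ↥(P : Subgroup G) := Fintype.ofFinite _
  choose v hv hvle hvdvd hvlow using sb_values p a hPcard ψ hψ n' hψ1 hinv
  set T : Finset ℤ :=
    (Finset.univ.filter (fun x : ↥(P : Subgroup G) => x ≠ 1)).image v with hT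
  have hbl := sb_blichfeldt ψ hψ v hv T
    (fun x hx => Finset.mem_image.mpr ⟨x, Finset.mem_filter.mpr ⟨Finset.mem_univ _, hx⟩, rfl⟩)
  have hv1 : v 1 = (n' : ℤ) := by
    have h1 := hv 1
    rw [hψ1] at h1
    exact_mod_cast h1.symm
  rw [hv1, hPcard] at hbl
  apply sb_arith p n' a T _ _ _ (by exact_mod_cast hbl)
  · intro t ht
    obtain ⟨x, _, rfl⟩ := Finset.mem_image.mp ht
    exact hvdvd x
  · intro t ht
    obtain ⟨x, hx, rfl⟩ := Finset.mem_image.mp ht
    have hx1 : x ≠ 1 := (Finset.mem_filter.mp hx).2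
    apply lt_of_le_of_ne (hvle x)
    intro heq
    apply hx1
    have h1 : χ (x : G) = χ 1 := by
      have h2 := hv x
      rw [heq] at h2
      have h3 : ψ x = χ (x : G) := rfl
      rw [← h3, h2, hn']
      simp
    exact Subtype.ext (hfaith _ h1)
  · intro t ht
    obtain ⟨x, _, rfl⟩ := Finset.mem_image.mp ht
    exact hvlow x

end Cfsg.Agent.S4488
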