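import Cfsg.Statements.S4490
import Cfsg.Agent.Lib.Helper24.RealBlock2

set_option autoImplicit false
open Cfsg

namespace Cfsg.Agent.S4490

open Cfsg.Agent.Lib.Helper24 Cfsg.Agent.Lib.helper7 Cfsg.Agent.Lib.Helper25

theorem result {G : Type*} [Group G] [Finite G] (M : Ideal Cfsg.AlgInt) (hM : Cfsg.IsPModular 2 M) (B : Set (Cfsg.IrrCharacter G)) (hB : Cfsg.IsPBlock M B) (P : Sylow 2 G) (hfull : Cfsg.IsDefectGroup 2 M B (P : Subgroup G)) (hnp : B ≠ Cfsg.principalBlock M G) : {ψ : Cfsg.IrrCharacter G | ∃ χ ∈ B, (ψ : G → ℂ) = fun g => (starRingEnd ℂ) ((χ : G → ℂ) g)} ≠ B := by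
  classical
  haveI : Fintype G := Fintype.ofFinite G
  haveI : Fintype (Cfsg.IrrCharacter G) := Fintype.ofFinite _
  haveI : Fact (Nat.Prime 2) := ⟨Nat.prime_two⟩
  have hMp := hM.2.1.isPrime
  obtain ⟨χ₀, hBχ⟩ := hB
  intro hbar
  have hcl1 : ∀ χ : Cfsg.IrrCharacter G, χ ∈ B → irrConj χ ∈ B := by
    intro χ hχ
    rw [← hbar]
    exact ⟨χ, hχ, rfl⟩
  have hcl : ∀ χ : Cfsg.IrrCharacter G, irrConj χ ∈ B ↔ χ ∈ B := by
    intro χ
    constructor
    · intro h
      have h2 := hcl1 _ h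
      rw [irrConj_irrConj] at h2
      exact h2
    · exact hcl1 χ
  have hχ₀B : χ₀ ∈ B := by
    rw [hBχ]
    exact h7_sameBlock_refl hMp _
  have hinv := rb_blockCoeff_inv B hcl
  have hdef : Cfsg.blockDefect 2 B = (Nat.card G).factorization 2 := by
    obtain ⟨g, hg, Q, hQ⟩ := hfull
    have h1 : Nat.card (P : Subgroup G) = 2 ^ (Nat.card G).factorization 2 :=
      Sylow.card_eq_multiplicity P
    have h2 : Nat.card (Q : Subgroup (Subgroup.centralizer ({g} : Set G))) =
        2 ^ (Nat.card (Subgroup.centralizer ({g} : Set G))).factorization 2 :=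
      Sylow.card_eq_multiplicity Q
    have h3 : Nat.card (P : Subgroup G) =
        Nat.card (Q : Subgroup (Subgroup.centralizer ({g} : Set G))) := by
      rw [hQ]
      exact Subgroup.card_map_of_injective (Subgroup.subtype_injective _)
    have h4 : (Nat.card G).factorization 2 =
        (Nat.card (Subgroup.centralizer ({g} : Set G))).factorization 2 := by
      rw [h1, h2] at h3
      exact Nat.pow_right_injective (le_refl 2) h3
    have h5 := hg.2.1
    rw [hBχ] at h5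
    have h6 := (bd_upper 2 M hM χ₀ g h5).2
    rw [← hBχ, ← h4] at h6
    refine le_antisymm ?_ h6
    unfold Cfsg.blockDefect
    exact Nat.sub_le _ _
  have htriv : Cfsg.blockDefect 2 (Cfsg.blockOf M ((trivIrr G : Cfsg.IrrCharacter G) : G → ℂ)) =
      (Nat.card G).factorization 2 := by
    obtain ⟨h₀, _, hle, _, hd⟩ := bd_min 2 M hMp (trivIrr G)
    have h1 := hle (trivIrr G) (h7_sameBlock_refl hMp _)
    have h2 : Cfsg.charDegree ((trivIrr G : Cfsg.IrrCharacter G) : G → ℂ) = 1 := by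
      unfold Cfsg.charDegree
      rw [trivIrr_apply]
      simp
    rw [h2, Nat.factorization_one] at h1
    have h3 : h₀ = 0 := Nat.le_zero.mp h1
    rw [hd, h3, Nat.sub_zero]
  have htrivB : trivIrr G ∉ B := by
    intro h
    apply hnp
    rw [hBχ] at h
    rw [hBχ, bd_blockOf_eq M hMp χ₀ (trivIrr G) h]
    rfl
  have hconjtriv : irrConj (trivIrr G) = trivIrr G := by
    apply Subtype.ext
    funext g
    rw [irrConj_apply, trivIrr_apply, map_one]
  rw [hBχ] at hdef hinv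
  have k1 := rb_key M hM χ₀ χ₀ hdef hdef hinv (by
    intro x
    rw [rb_centralChar_inv]
    have h1 : irrConj χ₀ ∈ Cfsg.blockOf M (χ₀ : G → ℂ) := by
      rw [← hBχ]
      exact hcl1 χ₀ hχ₀B
    exact h7_sameBlock_symm h1 x)
  have k2 := rb_key M hM χ₀ (trivIrr G) hdef htriv hinv (by
    intro x
    rw [rb_centralChar_inv, hconjtriv, sub_self]
    exact h7_memLocalIdeal_zero hMp)
  rw [hBχ] at hχ₀B htrivB
  rw [if_pos hχ₀B] at k1
  rw [if_neg htrivB] at k2
  have k3 := h7_memLocalIdeal_sub hMp k1 k2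
  have e : (1 : ℂ) - Cfsg.blockCoeff (Cfsg.blockOf M (χ₀ : G → ℂ)) 1 -
      (0 - Cfsg.blockCoeff (Cfsg.blockOf M (χ₀ : G → ℂ)) 1) = 1 := by ring
  rw [e] at k3
  exact h7_not_memLocalIdeal_one hMp k3

end Cfsg.Agent.S4490
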