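import Cfsg.Statements.S4491
import Cfsg.Agent.Lib.helper7.DegSqSum

set_option autoImplicit false
open Cfsg

namespace Cfsg.Agent.S4491

/-- Let B be a p-block of defect d of the finite group G (relative to a maximal ideal M of the algebraic integers containing p), and let p^a be the p-part of the order of G. Then the exact power of p dividing the sum of the squares of the degrees of the irreducible characters in B is p^(2a − d). -/
theorem result {G : Type*} [Group G] [Finite G] (p : ℕ) [Fact p.Prime] (M : Ideal Cfsg.AlgInt) (hM : Cfsg.IsPModular p M) (B : Set (Cfsg.IrrCharacter G)) (hB : Cfsg.IsPBlock M B) : (∑ᶠ χ ∈ B, Cfsg.charDegree (χ : G → ℂ) ^ 2).factorization p = 2 * (Nat.card G).factorization p - Cfsg.blockDefect p B := by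
  classical
  haveI : Fintype G := Fintype.ofFinite G
  haveI : Fintype (Cfsg.IrrCharacter G) := Fintype.ofFinite _
  have hp : p.Prime := Fact.out
  obtain ⟨χ₁, rfl⟩ := hB
  obtain ⟨hνa, q, hq, hS⟩ := Cfsg.Agent.Lib.helper7.h7_dss_main p M hM χ₁
  rw [Cfsg.Agent.Lib.helper7.h7_finsum_mem_fintype, hS]
  have hq0 : q ≠ 0 := by
    intro h0
    apply hq
    rw [h0]
    exact dvd_zero p
  rw [Nat.factorization_mul (pow_ne_zero _ hp.ne_zero) hq0, Finsupp.coe_add, Pi.add_apply,
    Nat.Prime.factorization_pow hp, Nat.factorization_eq_zero_of_not_dvd hq]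
  simp only [Finsupp.smul_single, smul_eq_mul, mul_one, Finsupp.single_eq_same, add_zero]
  have hd : Cfsg.blockDefect p (Cfsg.blockOf M (χ₁ : G → ℂ)) =
      (Nat.card G).factorization p -
        sInf ((fun ψ : Cfsg.IrrCharacter G => (Cfsg.charDegree (ψ : G → ℂ)).factorization p) ''
          Cfsg.blockOf M (χ₁ : G → ℂ)) := rfl
  rw [hd]
  omega

end Cfsg.Agent.S4491
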