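import Cfsg.Statements.S4495
import Cfsg.Agent.Lib.Helper24.SelfCentCount

set_option autoImplicit false
open Cfsg

namespace Cfsg.Agent.S4495

open Cfsg.Agent.Lib.Helper24 in
theorem result {G : Type*} [Group G] [Finite G] (p : ℕ) (hp : p.Prime) (x : G) (hx : orderOf x = p) (hC : Subgroup.centralizer ({x} : Set G) = Subgroup.zpowers x) (t : ℕ) (ht : Nat.card {C : ConjClasses G // ∃ g ∈ C.carrier, orderOf g = p} = t) : (t ≠ p - 1 → (commutator G).index * t ≤ p - 1) ∧ (t = p - 1 → (commutator G).index = p) := by
  have : Fact p.Prime := ⟨hp⟩
  have hcount := sc_count hx hC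
  rw [ht] at hcount
  have hp1 : 0 < p - 1 := by have := hp.two_le; omega
  constructor
  · intro hne
    have hN : ¬ Subgroup.normalizer ((Subgroup.zpowers x : Subgroup G) : Set G) ≤ Subgroup.zpowers x := by
      intro hle
      apply hne
      rw [Subgroup.relIndex_eq_one.mpr hle, mul_one] at hcount
      exact hcount
    have hdvd := sc_index_commutator_dvd hx hC hN
    have hepos : 0 < (Subgroup.zpowers x).relIndex
        (Subgroup.normalizer ((Subgroup.zpowers x : Subgroup G) : Set G)) := by
      rcases Nat.eq_zero_or_pos ((Subgroup.zpowers x).relIndex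
        (Subgroup.normalizer ((Subgroup.zpowers x : Subgroup G) : Set G))) with h | h
      · rw [h, mul_zero] at hcount; omega
      · exact h
    have hle := Nat.le_of_dvd hepos hdvd
    calc (commutator G).index * t ≤ (Subgroup.zpowers x).relIndex
          (Subgroup.normalizer ((Subgroup.zpowers x : Subgroup G) : Set G)) * t :=
          Nat.mul_le_mul_right t hle
      _ = p - 1 := by rw [mul_comm]; exact hcount
  · intro heq
    rw [heq] at hcount
    have he : (Subgroup.zpowers x).relIndex
        (Subgroup.normalizer ((Subgroup.zpowers x : Subgroup G) : Set G)) = 1 := by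
      have := Nat.eq_of_mul_eq_mul_left hp1 (hcount.trans (mul_one _).symm)
      exact this
    exact sc_index_commutator_of_normalizer_eq hx hC (Subgroup.relIndex_eq_one.mp he)

end Cfsg.Agent.S4495
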