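import Cfsg.Statements.S4497
import Cfsg.Agent.Lib.Helper24.SelfCentCore

set_option autoImplicit false
open Cfsg

namespace Cfsg.Agent.S4497

open Cfsg.Agent.Lib.Helper24 Cfsg.Agent.Lib.Helper1 in
theorem result {G : Type*} [Group G] [Finite G] (p : ℕ) (hp : p.Prime) (x : G) (hx : orderOf x = p) (hC : Subgroup.centralizer ({x} : Set G) = Subgroup.zpowers x) (t : ℕ) (ht : Nat.card {C : ConjClasses G // ∃ g ∈ C.carrier, orderOf g = p} = t) : Cfsg.pPrimeCore p G ≤ commutator G ∧ (t ≠ p - 1 → ∀ h : ((Cfsg.pPrimeCore p G).subgroupOf (commutator G)).Normal, IsSimpleGroup (↥(commutator G) ⧸ (Cfsg.pPrimeCore p G).subgroupOf (commutator G))) ∧ (t = p - 1 → commutator G = Cfsg.pPrimeCore p G) := by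
  have : Fact p.Prime := ⟨hp⟩
  have hcount := sc_count hx hC
  rw [ht] at hcount
  have hSn : (Cfsg.pPrimeCore p G).Normal := pPrimeCore_normal p
  have hSc : (Nat.card (Cfsg.pPrimeCore p G)).Coprime p := pPrimeCore_card_coprime p
  have hSp : ¬ p ∣ Nat.card (Cfsg.pPrimeCore p G) :=
    (Nat.Prime.coprime_iff_not_dvd hp).mp hSc.symm
  have hA : Cfsg.pPrimeCore p G ≤ commutator G := sc_core_le_commutator hx hC _ hSp
  refine ⟨hA, ?_, ?_⟩
  · intro hne hnorm
    have hN : ¬ Subgroup.normalizer ((Subgroup.zpowers x : Subgroup G) : Set G) ≤ Subgroup.zpowers x := by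
      intro hle
      rw [Subgroup.relIndex_eq_one.mpr hle, mul_one] at hcount
      exact hne hcount
    have hpc : p ∣ Nat.card (commutator G) := sc_dvd_card_commutator hx hC hN
    have hxH : x ∈ commutator G :=
      sc_le_of_dvd_card hx hC (commutator G) hpc (Subgroup.mem_zpowers x)
    have hxS : x ∉ Cfsg.pPrimeCore p G := by
      intro hxS
      have h1 : x ∈ Cfsg.pPrimeCore p G ⊓ Subgroup.zpowers x :=
        Subgroup.mem_inf.mpr ⟨hxS, Subgroup.mem_zpowers x⟩
      rw [sc_inf_eq_bot hx _ hSp, Subgroup.mem_bot] at h1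
      rw [h1, orderOf_one] at hx
      exact hp.one_lt.ne hx
    have hnt : Nontrivial (↥(commutator G) ⧸ (Cfsg.pPrimeCore p G).subgroupOf (commutator G)) := by
      refine nontrivial_of_ne (QuotientGroup.mk (⟨x, hxH⟩ : commutator G)) 1 ?_
      intro h1
      rw [QuotientGroup.eq_one_iff, Subgroup.mem_subgroupOf] at h1
      exact hxS h1
    refine { toNontrivial := hnt, eq_bot_or_eq_top_of_normal := ?_ }
    intro K hK
    set π := QuotientGroup.mk' ((Cfsg.pPrimeCore p G).subgroupOf (commutator G)) with hπ
    have hMn : (K.comap π).Normal := hK.comap π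
    by_cases hM : p ∣ Nat.card (K.comap π)
    · right
      have htop := sc_normal_sub_eq_top hx hC (K.comap π) hM
      rw [eq_top_iff]
      intro k _
      obtain ⟨h, rfl⟩ := QuotientGroup.mk_surjective k
      have : h ∈ K.comap π := by rw [htop]; exact Subgroup.mem_top h
      exact this
    · left
      have hle := sc_normal_sub_le_core (K.comap π) hM
      rw [eq_bot_iff]
      intro k hk
      obtain ⟨h, rfl⟩ := QuotientGroup.mk_surjective k
      have h1 : h ∈ K.comap π := hk
      have h2 := hle h1
      rw [Subgroup.mem_bot]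
      exact (QuotientGroup.eq_one_iff h).mpr h2
  · intro heq
    rw [heq] at hcount
    have hp1 : 0 < p - 1 := by have := hp.two_le; omega
    have he := Nat.eq_of_mul_eq_mul_left hp1 (hcount.trans (mul_one _).symm)
    have hNle := Subgroup.relIndex_eq_one.mp he
    have hidx := sc_index_commutator_of_normalizer_eq hx hC hNle
    have hfac := sc_factorization hx hC
    have hcard : Nat.card (commutator G) * p = Nat.card G := by
      rw [← hidx]; exact Subgroup.card_mul_index _
    have hnd : ¬ p ∣ Nat.card (commutator G) := by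
      intro hd
      have h2 : p ^ 2 ∣ Nat.card G := by
        rw [← hcard, pow_two]; exact Nat.mul_dvd_mul_right hd p
      have := (Nat.Prime.pow_dvd_iff_le_factorization hp Nat.card_pos.ne').mp h2
      omega
    apply le_antisymm _ hA
    exact le_pPrimeCore inferInstance ((Nat.Prime.coprime_iff_not_dvd hp).mpr hnd).symm

end Cfsg.Agent.S4497
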