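import Cfsg.Statements.S4506
import Cfsg.Agent.Lib.Helper24.PConj

set_option autoImplicit false
open Cfsg

namespace Cfsg.Agent.S4506

open Cfsg.Agent.Lib.Helper24

theorem result {G : Type*} [Group G] [Finite G] (p : ℕ) (hp : p.Prime) (χ : Cfsg.IrrCharacter G) (r : ℕ) (hr : Nat.card {ψ : Cfsg.IrrCharacter G // ∃ σ : ℂ ≃+* ℂ, σ (Complex.exp (2 * Real.pi * Complex.I / ((Nat.card G / p ^ (Nat.card G).factorization p) : ℕ))) = Complex.exp (2 * Real.pi * Complex.I / ((Nat.card G / p ^ (Nat.card G).factorization p) : ℕ)) ∧ (ψ : G → ℂ) = fun g => σ ((χ : G → ℂ) g)} = r) : (r * Cfsg.charDegree (χ : G → ℂ)).factorization p ≤ (Nat.card G).factorization p ∧ (p ^ (Nat.card G).factorization p ∣ r * Cfsg.charDegree (χ : G → ℂ) → p ^ (Nat.card G).factorization p ∣ Cfsg.charDegree (χ : G → ℂ)) := by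
  classical
  haveI : Fintype G := Fintype.ofFinite G
  haveI : Fintype (Cfsg.IrrCharacter G) := Fintype.ofFinite _
  haveI : Fact p.Prime := ⟨hp⟩
  have hGpos : 0 < Nat.card G := Nat.card_pos
  have hm0 : Nat.card G / p ^ (Nat.card G).factorization p ≠ 0 :=
    (Nat.ordCompl_pos p hGpos.ne').ne'
  have hsplit : p ^ (Nat.card G).factorization p * (Nat.card G / p ^ (Nat.card G).factorization p) =
      Nat.card G := Nat.ordProj_mul_ordCompl_eq_self _ _
  let S : Finset (Cfsg.IrrCharacter G) := Finset.univ.filter (fun ψ : Cfsg.IrrCharacter G =>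
    ∃ σ : ℂ ≃+* ℂ, σ (Complex.exp (2 * Real.pi * Complex.I /
      ((Nat.card G / p ^ (Nat.card G).factorization p) : ℕ))) =
      Complex.exp (2 * Real.pi * Complex.I /
        ((Nat.card G / p ^ (Nat.card G).factorization p) : ℕ)) ∧
      (ψ : G → ℂ) = fun g => σ ((χ : G → ℂ) g))
  have hcard : S.card = r := by
    rw [← hr, Nat.card_eq_fintype_card, Fintype.card_subtype]
  have hχS : χ ∈ S := by
    refine Finset.mem_filter.mpr ⟨Finset.mem_univ _, RingEquiv.refl ℂ, rfl, rfl⟩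
  have hχc : Cfsg.IsCharacter G (χ : G → ℂ) := Cfsg.Agent.Lib.helper2.isCharacter_of_irr χ
  have hreg : ∀ ψ ∈ S, ∀ x : G, ¬ p ∣ orderOf x → (ψ : G → ℂ) x = (χ : G → ℂ) x := by
    intro ψ hψ x hx
    obtain ⟨σ, hσ, hψσ⟩ := (Finset.mem_filter.mp hψ).2
    rw [hψσ]
    apply pc_agree _ σ (pc_root_fix _ hm0 σ hσ) hχc x
    have h1 : orderOf x ∣ Nat.card G := orderOf_dvd_natCard x
    rw [← hsplit] at h1
    have hcop : Nat.Coprime (orderOf x) (p ^ (Nat.card G).factorization p) :=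
      Nat.Coprime.pow_right _ ((Nat.Prime.coprime_iff_not_dvd hp).mpr hx).symm
    exact hcop.dvd_of_dvd_mul_left h1
  let P : Sylow p G := default
  haveI : Fintype (P : Subgroup G) := Fintype.ofFinite _
  have hsyl : ∀ ψ ∈ S, ∑ y : (P : Subgroup G), (ψ : G → ℂ) y =
      ∑ y : (P : Subgroup G), (χ : G → ℂ) y := by
    intro ψ hψ
    obtain ⟨σ, hσ, hψσ⟩ := (Finset.mem_filter.mp hψ).2
    rw [hψσ]
    exact pc_sylow_sum_fixed σ hχc (P : Subgroup G)
  have main := pc_core p hp χ S hχS hreg P hsyl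
  rw [hcard] at main
  exact main

end Cfsg.Agent.S4506
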