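import Cfsg.Statements.S4507
import Cfsg.Agent.Lib.helper7.BD.RootMain
import Cfsg.Agent.Lib.helper14.BD4GAL1
import Cfsg.Agent.Lib.helper14.BD4GAL2
import Cfsg.Agent.Lib.helper17.BD4GAL3
import Cfsg.Agent.Lib.helper17.BD4GP
import Cfsg.Agent.Lib.Helper16.BD4ROOTEX
import Cfsg.Agent.Lib.Helper29.BD4REPSCOV
import Cfsg.Agent.Lib.Helper13.BD3CJ
import Cfsg.Agent.Lib.Lead.BD4BPOW
import Cfsg.Agent.Lib.Lead.BD4BTRANS
import Cfsg.Agent.Lib.Helper22.BD4XRAT
import Cfsg.Agent.Lib.Helper13.BD4YCORE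

set_option autoImplicit false
open Cfsg

namespace Cfsg.Agent.S4507

/-- Let G be a finite group whose order g is divisible by the prime p exactly once, g′ = g/p, and fix a maximal ideal M of the algebraic integers containing p. Call two irreducible characters p-conjugate when a field automorphism of ℂ fixing the g′-th roots of unity carries one to the other. Let B be a p-block of positive defect (its defect group is a Sylow p-subgroup). Then B contains a subset Y (the exceptional family) such that: Y is a full p-conjugacy class (its members are pairwise p-conjugate and every p-conjugate of a member of Y lies in Y); every member of B outside Y is p-conjugate only to itself; the size t of Y divides p − 1 and B has exactly t + (p − 1)/t members; and there are signs δ_χ = ±1 (χ ∈ B) such that for every p-regular element x and every θ ∈ Y, Σ_{χ ∈ B ∖ Y} δ_χ χ(x) + δ_θ θ(x) = 0. -/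
theorem result {G : Type*} [Group G] [Finite G] (p : ℕ) [Fact p.Prime] (M : Ideal Cfsg.AlgInt) (hM : Cfsg.IsPModular p M) (hdiv : p ∣ Nat.card G) (hsq : ¬ p ^ 2 ∣ Nat.card G) (B : Set (Cfsg.IrrCharacter G)) (hB : Cfsg.IsPBlock M B) (hd : 0 < Cfsg.blockDefect p B) : ∃ Y : Set (Cfsg.IrrCharacter G), Y ⊆ B ∧ Y.Nonempty ∧ (∀ θ ∈ Y, ∀ ψ : Cfsg.IrrCharacter G, (∃ σ : ℂ ≃+* ℂ, σ (Complex.exp (2 * Real.pi * Complex.I / ((Nat.card G / p ^ (Nat.card G).factorization p) : ℕ))) = Complex.exp (2 * Real.pi * Complex.I / ((Nat.card G / p ^ (Nat.card G).factorization p) : ℕ)) ∧ (ψ : G → ℂ) = fun g => σ ((θ : G → ℂ) g)) ↔ ψ ∈ Y) ∧ (∀ χ ∈ B, χ ∉ Y → ∀ ψ : Cfsg.IrrCharacter G, (∃ σ : ℂ ≃+* ℂ, σ (Complex.exp (2 * Real.pi * Complex.I / ((Nat.card G / p ^ (Nat.card G).factorization p) : ℕ))) = Complex.exp (2 * Real.pi * Complex.I / ((Nat.card G / p ^ (Nat.card G).factorization p) : ℕ)) ∧ (ψ : G → ℂ) = fun g => σ ((χ : G → ℂ) g)) → ψ = χ) ∧ Nat.card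 Y ∣ p - 1 ∧ Nat.card B = Nat.card Y + (p - 1) / Nat.card Y ∧ ∃ δ : Cfsg.IrrCharacter G → ℤ, (∀ χ ∈ B, δ χ = 1 ∨ δ χ = -1) ∧ ∀ x : G, ¬ p ∣ orderOf x → ∀ θ ∈ Y, (∑ᶠ χ ∈ B \ Y, (δ χ : ℂ) * (χ : G → ℂ) x) + (δ θ : ℂ) * (θ : G → ℂ) x = 0 := by
  classical
  haveI : Fintype G := Fintype.ofFinite G
  have hp := (Fact.out : p.Prime)
  obtain ⟨P, b, θ, T, h⟩ := Cfsg.Agent.Lib.helper7.BD.root_exists hM hdiv hsq B hB hd
  haveI : Fintype ↥(Subgroup.centralizer ((P : Subgroup G) : Set G)) := Fintype.ofFinite _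
  haveI : Fintype ↥(Subgroup.normalizer ((P : Subgroup G) : Set G)) := Fintype.ofFinite _
  obtain ⟨t, r, X, y, ε, hr, hBXY, hdisj, hXcard, hyinj, hBcard, hεpm, hεY, hmX, hmY, hdX, hdY, hreg⟩ :=
    Cfsg.Agent.Lib.helper7.BD.root_main h
  obtain ⟨hGp, hcop⟩ := Cfsg.Agent.Lib.helper7.BD.pprime_part_spec hp hdiv hsq
  set g' := Nat.card G / p ^ (Nat.card G).factorization p with hg'
  have hg'dvd : g' ∣ Nat.card G := ⟨p, by rw [mul_comm]; exact hGp⟩
  have hGpos : 0 < Nat.card G := Nat.card_pos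
  have het := hr.et
  have hp2 : 2 ≤ p := hp.two_le
  have he1 : 1 ≤ (Subgroup.centralizer ((P : Subgroup G) : Set G)).relIndex T := by
    rcases Nat.eq_zero_or_pos ((Subgroup.centralizer ((P : Subgroup G) : Set G)).relIndex T) with h0 | h0
    · rw [h0, zero_mul] at het
      omega
    · exact h0
  have ht1 : 1 ≤ t := by
    rcases Nat.eq_zero_or_pos t with h0 | h0
    · rw [h0, mul_zero] at het
      omega
    · exact h0
  have hYB : ∀ j, y j ∈ B := by
    intro j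
    rw [hBXY]
    exact Or.inr ⟨j, rfl⟩
  have hYcard : Nat.card (Set.range y) = t := by
    rw [Nat.card_range_of_injective hyinj, Nat.card_fin]
  -- the members of `Y` agree on `p`-regular elements
  have hYreg : ∀ j j' : Fin t, ∀ g : G, ¬ p ∣ orderOf g → (y j : G → ℂ) g = (y j' : G → ℂ) g := by
    intro j j' g hg
    have h1 := hreg j g hg
    have h2 := hreg j' g hg
    rw [hεY j' j] at h2
    have h3 : ((ε (y j) : ℤ) : ℂ) * ((y j : G → ℂ) g - (y j' : G → ℂ) g) = 0 := by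
      linear_combination h1 - h2
    rcases mul_eq_zero.mp h3 with h4 | h4
    · exfalso
      rcases hεpm (y j) with h5 | h5 <;> rw [h5] at h4 <;> norm_num at h4
    · exact sub_eq_zero.mp h4
  -- the multiplicity pattern of `y j` with the common sign
  have hmY' : ∀ j i : Fin t,
      Cfsg.classInner (r i : ↥(Subgroup.centralizer ((P : Subgroup G) : Set G)) → ℂ)
          (fun c : ↥(Subgroup.centralizer ((P : Subgroup G) : Set G)) => (y j : G → ℂ) (c : G)) -
        Cfsg.classInner (θ : ↥(Subgroup.centralizer ((P : Subgroup G) : Set G)) → ℂ)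
          (fun c : ↥(Subgroup.centralizer ((P : Subgroup G) : Set G)) => (y j : G → ℂ) (c : G)) =
        if j = i then ((ε (y ⟨0, ht1⟩) : ℤ) : ℂ) else 0 := by
    intro j i
    rw [hmY j i, hεY j ⟨0, ht1⟩]
  -- power maps permute `Y`
  have hYperm : ∀ (m : ℕ), m.Coprime (Nat.card G) → m ≡ 1 [MOD g'] → ∀ j : Fin t,
      ∃ j' : Fin t, ∀ g : G, (y j : G → ℂ) (g ^ m) = (y j' : G → ℂ) g := by
    intro m hm hm1 j
    obtain ⟨ξ', hξ'b, hξ'θ, hξ'pow⟩ :=
      Cfsg.Agent.Lib.helper7.BD.root_block_pow h m hm hm1 (r j) (hr.mem j)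
    have hξ'ne : ξ' ≠ θ := fun hcon => hr.ne j (hξ'θ.mpr hcon)
    obtain ⟨j', s, hs, hsj⟩ := Cfsg.Agent.Lib.helper7.BD.root_reps_cover h r hr ξ' hξ'b hξ'ne
    refine ⟨j', fun g => ?_⟩
    exact Cfsg.Agent.Lib.helper7.BD.root_Y_core h r hr (y j) (y j') (hYB j) (hYB j')
      (ε (y ⟨0, ht1⟩)) (hεpm _) j j' (hmY' j) (hmY' j') (hYreg j j') m hm hm1 s hs
      (fun d => by rw [hsj]; exact hξ'pow d) g
  -- power maps are transitive on `Y`
  have hYtrans : ∀ j j' : Fin t, ∃ m : ℕ, m.Coprime (Nat.card G) ∧ m ≡ 1 [MOD g'] ∧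
      ∀ g : G, (y j : G → ℂ) (g ^ m) = (y j' : G → ℂ) g := by
    intro j j'
    obtain ⟨m, hm, hm1, hpow⟩ := Cfsg.Agent.Lib.helper7.BD.root_block_trans h (r j) (r j')
      (hr.mem j) (hr.mem j') (hr.ne j) (hr.ne j')
    refine ⟨m, hm, hm1, fun g => ?_⟩
    have h1T : (1 : G) ∈ T := T.one_mem
    exact Cfsg.Agent.Lib.helper7.BD.root_Y_core h r hr (y j) (y j') (hYB j) (hYB j')
      (ε (y ⟨0, ht1⟩)) (hεpm _) j j' (hmY' j) (hmY' j') (hYreg j j') m hm hm1 1 h1T
      (fun d => by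
        rw [Cfsg.Agent.Lib.helper7.BD.cjIrr_of_mem_self _
          (Subgroup.one_mem (Subgroup.centralizer ((P : Subgroup G) : Set G))) (r j')]
        exact hpow d) g
  refine ⟨Set.range y, ?_, ⟨y ⟨0, ht1⟩, ⟨0, ht1⟩, rfl⟩, ?_, ?_, ?_, ?_, ?_⟩
  · rintro ψ ⟨j, rfl⟩
    exact hYB j
  · -- `Y` is a full `p`-conjugacy class
    rintro θ' ⟨j, rfl⟩ ψ
    constructor
    · rintro ⟨σ, hσ, hψ⟩
      obtain ⟨m, hm, hm1, hσm⟩ := Cfsg.Agent.Lib.helper7.BD.ringAut_pow_of_fix σ (Nat.card G) g'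
        hGpos hg'dvd hσ
      obtain ⟨j', hj'⟩ := hYperm m hm hm1 j
      refine ⟨j', ?_⟩
      apply Subtype.ext
      rw [hψ]
      funext g
      rw [Cfsg.Agent.Lib.helper7.BD.irr_ringAut_apply σ m hσm (y j) g, hj' g]
    · rintro ⟨j', rfl⟩
      obtain ⟨m, hm, hm1, hpow⟩ := hYtrans j j'
      obtain ⟨τ, hτfix, hτm⟩ := Cfsg.Agent.Lib.helper7.BD.exists_ringAut_fix (Nat.card G) g' m
        hGpos hg'dvd hm hm1
      refine ⟨τ, hτfix, ?_⟩
      funext g
      rw [Cfsg.Agent.Lib.helper7.BD.irr_ringAut_apply τ m hτm (y j) g, hpow g]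
  · -- the others are `p`-rational
    intro χ hχB hχY ψ hψ
    obtain ⟨σ, hσ, hψ⟩ := hψ
    have hχX : χ ∈ X := by
      rw [hBXY] at hχB
      rcases hχB with h1 | h1
      · exact h1
      · exact absurd h1 hχY
    obtain ⟨m, hm, hm1, hσm⟩ := Cfsg.Agent.Lib.helper7.BD.ringAut_pow_of_fix σ (Nat.card G) g'
      hGpos hg'dvd hσ
    apply Subtype.ext
    rw [hψ]
    funext g
    rw [Cfsg.Agent.Lib.helper7.BD.irr_ringAut_apply σ m hσm χ g]
    exact Cfsg.Agent.Lib.helper7.BD.root_X_rational h r hr χ (by rw [hBXY]; exact Or.inl hχX) (ε χ)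
      (hmX χ hχX) m hm hm1 g
  · rw [hYcard]
    exact Dvd.intro_left _ het
  · rw [hYcard, hBcard]
    have : (p - 1) / t = (Subgroup.centralizer ((P : Subgroup G) : Set G)).relIndex T := by
      rw [← het]
      exact Nat.mul_div_cancel _ ht1
    rw [this, add_comm]
  · refine ⟨ε, fun χ _ => hεpm χ, ?_⟩
    rintro x hx θ' ⟨j, rfl⟩
    have hBY : B \ Set.range y = X := by
      rw [hBXY]
      ext χ
      constructor
      · rintro ⟨h1 | h1, h2⟩
        · exact h1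
        · exact absurd h1 h2
      · intro h1
        exact ⟨Or.inl h1, fun h2 => (Set.disjoint_left.mp hdisj) h1 h2⟩
    rw [hBY]
    exact hreg j x hx

end Cfsg.Agent.S4507
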