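import Cfsg.Statements.S4509
import Cfsg.Agent.Lib.Helper24.SelfCentDer

set_option autoImplicit false
open Cfsg

namespace Cfsg.Agent.S4509

open Cfsg.Agent.Lib.Helper24 in
theorem result {G : Type*} [Group G] [Finite G] (p : ℕ) (hp : p.Prime) (x : G) (hx : orderOf x = p) (hC : Subgroup.centralizer ({x} : Set G) = Subgroup.zpowers x) (t : ℕ) (ht : Nat.card {C : ConjClasses G // ∃ g ∈ C.carrier, orderOf g = p} = t) (n : ℕ) (hn : Nat.card {H : Subgroup G // Nat.card H = p} = 1 + n * p) : ((∃ S : Subgroup G, S.Normal ∧ Nat.card S = 1 + n * p) ↔ (t = p - 1 ∨ (t < p - 1 ∧ derivedSeries G 2 ≠ derivedSeries G 1))) ∧ (t = p - 1 → Nat.card (commutator G) = 1 + n * p ∧ IsCyclic (G ⧸ commutator G) ∧ (commutator G).index = p) ∧ (t < p - 1 → derivedSeries G 2 ≠ derivedSeries G 1 → Nat.card (derivedSeries G 2) = 1 + n * p ∧ Nat.card (commutator G) = p * (1 + n * p)) := by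
  have : Fact p.Prime := ⟨hp⟩
  have hcount := sc_count hx hC
  rw [ht] at hcount
  have hp1 : 0 < p - 1 := by have := hp.two_le; omega
  have hNle : t = p - 1 → Subgroup.normalizer ((Subgroup.zpowers x : Subgroup G) : Set G) ≤ Subgroup.zpowers x := by
    intro heq
    rw [heq] at hcount
    have he := Nat.eq_of_mul_eq_mul_left hp1 (hcount.trans (mul_one _).symm)
    exact Subgroup.relIndex_eq_one.mp he
  have hNnle : t < p - 1 → ¬ Subgroup.normalizer ((Subgroup.zpowers x : Subgroup G) : Set G) ≤ Subgroup.zpowers x := by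
    intro hlt hle
    rw [Subgroup.relIndex_eq_one.mpr hle, mul_one] at hcount
    omega
  have htle : t ≤ p - 1 := by
    rcases Nat.eq_zero_or_pos ((Subgroup.zpowers x).relIndex
        (Subgroup.normalizer ((Subgroup.zpowers x : Subgroup G) : Set G))) with h | h
    · rw [h, mul_zero] at hcount; omega
    · calc t = t * 1 := (mul_one t).symm
        _ ≤ t * _ := Nat.mul_le_mul_left t h
        _ = p - 1 := hcount
  have part2 : t = p - 1 → Nat.card (commutator G) = 1 + n * p ∧ IsCyclic (G ⧸ commutator G) ∧ (commutator G).index = p :=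
    fun heq => sc_part2 hx hC n hn (hNle heq)
  have part3 : t < p - 1 → derivedSeries G 2 ≠ derivedSeries G 1 → Nat.card (derivedSeries G 2) = 1 + n * p ∧ Nat.card (commutator G) = p * (1 + n * p) :=
    fun hlt hder => sc_part3 hx hC n hn (hNnle hlt) hder
  refine ⟨⟨?_, ?_⟩, part2, part3⟩
  · rintro ⟨S, hSn, hScard⟩
    rcases Nat.lt_or_ge t (p - 1) with hlt | hge
    · right
      exact ⟨hlt, sc_part1 hx hC n hn (hNnle hlt) S hSn hScard⟩
    · left
      omega
  · rintro (heq | ⟨hlt, hder⟩)
    · exact ⟨commutator G, inferInstance, (part2 heq).1⟩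
    · exact ⟨derivedSeries G 2, derivedSeries_normal G 2, (part3 hlt hder).1⟩

end Cfsg.Agent.S4509
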