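import Cfsg.Statements.S4517
import Cfsg.Agent.Lib.Helper24.RealBlock3

set_option autoImplicit false
open Cfsg

namespace Cfsg.Agent.S4517

open Cfsg.Agent.Lib.Helper24 Cfsg.Agent.Lib.helper7 Cfsg.Agent.Lib.Helper25

theorem result {G : Type*} [Group G] [Finite G] (M : Ideal Cfsg.AlgInt) (hM : Cfsg.IsPModular 2 M) (k : ℕ) (hk : Nat.Coprime k (Nat.card G)) (hk₂ : ∀ g : G, Odd (orderOf g) → g ^ k = g⁻¹) (B : Set (Cfsg.IrrCharacter G)) (hB : Cfsg.IsPBlock M B) (hdef : Cfsg.blockDefect 2 B = (Nat.card G).factorization 2) (hstab : ∀ χ ∈ B, ∃ ψ ∈ B, ∀ g : G, (ψ : G → ℂ) g = (χ : G → ℂ) (g ^ k)) : B = Cfsg.principalBlock M G := by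
  classical
  haveI : Fintype G := Fintype.ofFinite G
  haveI : Fintype (Cfsg.IrrCharacter G) := Fintype.ofFinite _
  haveI : Fact (Nat.Prime 2) := ⟨Nat.prime_two⟩
  have hMp := hM.2.1.isPrime
  obtain ⟨χ₀, hBχ⟩ := hB
  have hoddx : ∀ x : G, ¬ 2 ∣ orderOf x → x ^ k = x⁻¹ := by
    intro x hx
    exact hk₂ x (Nat.not_even_iff_odd.mp (fun h => hx (even_iff_two_dvd.mp h)))
  have hsurj : Function.Surjective (fun g : G => g ^ k) :=
    (Nat.Coprime.pow_left_bijective hk.symm).2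
  choose s hsB hs using hstab
  let t : B → B := fun χ => ⟨s χ.1 χ.2, hsB χ.1 χ.2⟩
  have ht : ∀ (χ : B) (g : G), ((t χ).1 : G → ℂ) g = (χ.1 : G → ℂ) (g ^ k) :=
    fun χ g => hs χ.1 χ.2 g
  have htinj : Function.Injective t := by
    intro χ₁ χ₂ h
    apply Subtype.ext
    apply Subtype.ext
    funext g
    obtain ⟨y, hy⟩ := hsurj g
    have hy' : y ^ k = g := hy
    rw [← hy', ← ht χ₁ y, ← ht χ₂ y, h]
  have htbij : Function.Bijective t := Finite.injective_iff_bijective.mp htinj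
  have hinv : ∀ x : G, ¬ 2 ∣ orderOf x → Cfsg.blockCoeff B x⁻¹ = Cfsg.blockCoeff B x := by
    intro x hx
    unfold Cfsg.blockCoeff
    congr 1
    haveI : Fintype B := Fintype.ofFinite _
    rw [← finsum_set_coe_eq_finsum_mem, ← finsum_set_coe_eq_finsum_mem,
      finsum_eq_sum_of_fintype, finsum_eq_sum_of_fintype]
    refine Fintype.sum_equiv (Equiv.ofBijective t htbij) _ _ ?_
    intro χ
    have he : Equiv.ofBijective t htbij χ = t χ := rfl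
    rw [he, ht χ x, ht χ 1, one_pow, hoddx x hx]
  rw [hBχ] at hinv hdef
  rw [hBχ]
  apply rb_principal M hM χ₀ hdef hinv
  intro x hx
  have hχ₀B : χ₀ ∈ B := by
    rw [hBχ]
    exact h7_sameBlock_refl hMp _
  have h1 : (t ⟨χ₀, hχ₀B⟩).1 ∈ Cfsg.blockOf M (χ₀ : G → ℂ) := by
    rw [← hBχ]
    exact (t ⟨χ₀, hχ₀B⟩).2
  have h2 : Cfsg.centralChar (χ₀ : G → ℂ) x⁻¹ =
      Cfsg.centralChar ((t ⟨χ₀, hχ₀B⟩).1 : G → ℂ) x := by
    unfold Cfsg.centralChar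
    rw [rb_centralizer_inv, ht ⟨χ₀, hχ₀B⟩ x, ht ⟨χ₀, hχ₀B⟩ 1, one_pow, hoddx x hx]
  rw [h2]
  exact h7_sameBlock_symm h1 x

end Cfsg.Agent.S4517
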