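import Cfsg.Statements.S4521
import Cfsg.Agent.Lib.Helper24.CentralProd3
import Cfsg.Agent.Lib.Helper25.PrincipalDefect

set_option autoImplicit false
open Cfsg

namespace Cfsg.Agent.S4521

open Cfsg.Agent.Lib.Helper24 Cfsg.Agent.Lib.helper7 Cfsg.Agent.Lib.Helper25

theorem result {G : Type*} [Group G] [Fintype G] (p : ℕ) [Fact p.Prime] (M : Ideal Cfsg.AlgInt) (hM : Cfsg.IsPModular p M) (U₁ U₂ : Subgroup G) [Fintype U₁] [Fintype U₂] (hcomm : ∀ u ∈ U₁, ∀ v ∈ U₂, u * v = v * u) (hgen : U₁ ⊔ U₂ = ⊤) (hZ : IsPGroup p ↥(U₁ ⊓ U₂)) (χ : Cfsg.IrrCharacter G) (ψ₁ : Cfsg.IrrCharacter U₁) (ψ₂ : Cfsg.IrrCharacter U₂) (h₁ : Cfsg.classInner (fun u : U₁ => (χ : G → ℂ) u) (ψ₁ : U₁ → ℂ) ≠ 0) (h₂ : Cfsg.classInner (fun u : U₂ => (χ : G → ℂ) u) (ψ₂ : U₂ → ℂ) ≠ 0) : χ ∈ Cfsg.principalBlock M G ↔ (ψ₁ ∈ Cfsg.principalBlock M U₁ ∧ ψ₂ ∈ Cfsg.principalBlock M U₂) := by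
  classical
  haveI : Fintype (Cfsg.IrrCharacter G) := Fintype.ofFinite _
  haveI : Fintype (Cfsg.IrrCharacter U₁) := Fintype.ofFinite _
  haveI : Fintype (Cfsg.IrrCharacter U₂) := Fintype.ofFinite _
  have hMp := hM.2.1.isPrime
  have hval := cp_char_prod U₁ U₂ hcomm hgen χ ψ₁ ψ₂ h₁ h₂
  have hcomm' : ∀ u ∈ U₂, ∀ v ∈ U₁, u * v = v * u := fun u hu v hv => (hcomm v hv u hu).symm
  have hgen' : U₂ ⊔ U₁ = ⊤ := by rw [sup_comm]; exact hgen
  have hψ₁1 := irr_one_ne_zero ψ₁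
  have hψ₂1 := irr_one_ne_zero ψ₂
  have hχ1 : (χ : G → ℂ) 1 = (ψ₁ : U₁ → ℂ) 1 * (ψ₂ : U₂ → ℂ) 1 := by
    have := hval 1 1
    simpa using this
  have hω₁ : ∀ u : U₁, Cfsg.centralChar (χ : G → ℂ) (u : G) =
      Cfsg.centralChar (ψ₁ : U₁ → ℂ) u := by
    intro u
    unfold Cfsg.centralChar
    rw [cp_index_left U₁ U₂ hcomm hgen u, hχ1]
    have := hval u 1
    rw [OneMemClass.coe_one, mul_one] at this
    rw [this]
    field_simp
  have hω₂ : ∀ u : U₂, Cfsg.centralChar (χ : G → ℂ) (u : G) =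
      Cfsg.centralChar (ψ₂ : U₂ → ℂ) u := by
    intro u
    unfold Cfsg.centralChar
    rw [cp_index_left U₂ U₁ hcomm' hgen' u, hχ1]
    have := hval 1 u
    rw [OneMemClass.coe_one, one_mul] at this
    rw [this]
    field_simp
  have hτ₁ : ∀ u : U₁, Cfsg.centralChar (fun _ : G => (1 : ℂ)) (u : G) =
      Cfsg.centralChar (fun _ : U₁ => (1 : ℂ)) u := by
    intro u
    unfold Cfsg.centralChar
    rw [cp_index_left U₁ U₂ hcomm hgen u]
  have hτ₂ : ∀ u : U₂, Cfsg.centralChar (fun _ : G => (1 : ℂ)) (u : G) =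
      Cfsg.centralChar (fun _ : U₂ => (1 : ℂ)) u := by
    intro u
    unfold Cfsg.centralChar
    rw [cp_index_left U₂ U₁ hcomm' hgen' u]
  constructor
  · intro hχ
    constructor
    · intro u
      have := hχ (u : G)
      rw [hω₁, hτ₁] at this
      exact this
    · intro u
      have := hχ (u : G)
      rw [hω₂, hτ₂] at this
      exact this
  · rintro ⟨hp₁, hp₂⟩
    rw [pb_principal_eq]
    refine cp_block_congr p M hM (trivIrr G) (trivIrr G) χ ?_ (h7_sameBlock_refl hMp _)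
    intro x hx
    obtain ⟨t₁, t₂, hxt, ht₁, ht₂⟩ := cp_regular_decomp p U₁ U₂ hcomm hgen x hx
    have e1 : Cfsg.centralChar (χ : G → ℂ) x =
        Cfsg.centralChar (ψ₁ : U₁ → ℂ) t₁ * Cfsg.centralChar (ψ₂ : U₂ → ℂ) t₂ := by
      unfold Cfsg.centralChar
      rw [hxt, cp_index_prod p U₁ U₂ hcomm hgen hZ t₁ t₂ ht₁, hval, hχ1]
      push_cast
      field_simp
    have e2 : Cfsg.centralChar ((trivIrr G : Cfsg.IrrCharacter G) : G → ℂ) x =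
        Cfsg.centralChar (fun _ : U₁ => (1 : ℂ)) t₁ *
          Cfsg.centralChar (fun _ : U₂ => (1 : ℂ)) t₂ := by
      unfold Cfsg.centralChar
      rw [hxt, cp_index_prod p U₁ U₂ hcomm hgen hZ t₁ t₂ ht₁]
      push_cast
      simp
    rw [e1, e2]
    have e3 : Cfsg.centralChar (ψ₁ : U₁ → ℂ) t₁ * Cfsg.centralChar (ψ₂ : U₂ → ℂ) t₂ -
        Cfsg.centralChar (fun _ : U₁ => (1 : ℂ)) t₁ *
          Cfsg.centralChar (fun _ : U₂ => (1 : ℂ)) t₂ =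
        Cfsg.centralChar (ψ₁ : U₁ → ℂ) t₁ *
          (Cfsg.centralChar (ψ₂ : U₂ → ℂ) t₂ - Cfsg.centralChar (fun _ : U₂ => (1 : ℂ)) t₂) +
        (Cfsg.centralChar (ψ₁ : U₁ → ℂ) t₁ - Cfsg.centralChar (fun _ : U₁ => (1 : ℂ)) t₁) *
          Cfsg.centralChar (fun _ : U₂ => (1 : ℂ)) t₂ := by ring
    rw [e3]
    refine h7_memLocalIdeal_add hMp ?_ ?_
    · exact h7_memLocalIdeal_mul_left hMp (h7_memLocalRing_centralChar hMp ψ₁ t₁)
        (h7_sameBlock_symm hp₂ t₂)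
    · refine h7_memLocalIdeal_mul_right hMp (h7_sameBlock_symm hp₁ t₁) ?_
      exact h7_memLocalRing_centralChar hMp (trivIrr U₂) t₂

end Cfsg.Agent.S4521
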