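import Cfsg.Statements.S4540
import Cfsg.Agent.Lib.helper7.HKS8

set_option autoImplicit false
open Cfsg

namespace Cfsg.Agent.S4540

/-- Let B be a 2-block of the finite group G (relative to a maximal ideal M of the algebraic integers containing 2) of defect d with defect group D. Let z be an element of D commuting with every element of D, and let b be a block of the centralizer C of z with defect group D that induces B (a major subsection (z, b)). If b has 2-regular rank at most three, then 3·k(B) ≤ 3·k₀(B) + 2·Σ 2 ^ h(χ), where k(B) is the number of members of B, k₀(B) the number of members of height zero, and the sum runs over the members χ of B of positive height h(χ); this bound is at most 3·2 ^ d, so in particular B contains at most 2 ^ d irreducible characters. -/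
theorem result {G : Type*} [Group G] [Finite G] (M : Ideal Cfsg.AlgInt) (hM : Cfsg.IsPModular 2 M) (B : Set (Cfsg.IrrCharacter G)) (hB : Cfsg.IsPBlock M B) (D : Subgroup G) (hD : Cfsg.IsDefectGroup 2 M B D) (z : G) (hzD : z ∈ D) (hzc : ∀ d ∈ D, d * z = z * d) (b : Set (Cfsg.IrrCharacter ↥(Subgroup.centralizer ({z} : Set G)))) (hb : Cfsg.IsInducedBlock M (Subgroup.centralizer ({z} : Set G)) b B) (hbD : Cfsg.IsDefectGroup 2 M b (D.subgroupOf (Subgroup.centralizer ({z} : Set G)))) (hl : Cfsg.blockRank 2 b ≤ 3) : 3 * Nat.card B ≤ 3 * Nat.card {χ : Cfsg.IrrCharacter G // χ ∈ B ∧ Cfsg.blockHeight 2 B (χ : G → ℂ) = 0} + 2 * (∑ᶠ χ ∈ {χ : Cfsg.IrrCharacter G | χ ∈ B ∧ 1 ≤ Cfsg.blockHeight 2 B (χ : G → ℂ)}, 2 ^ Cfsg.blockHeight 2 B (χ : G → ℂ)) ∧ 3 * Nat.card {χ : Cfsg.IrrCharacter G // χ ∈ B ∧ Cfsg.blockHeight 2 B (χ : G → ℂ) = 0} + 2 * (∑ᶠ χ ∈ {χ : Cfsg.IrrCharacter G | χ ∈ B ∧ 1 ≤ Cfsg.blockHeight 2 B (χ : G → ℂ)}, 2 ^ Cfsg.blockHeight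 2 B (χ : G → ℂ)) ≤ 3 * 2 ^ Cfsg.blockDefect 2 B := by
  classical
  haveI : Fintype G := Fintype.ofFinite _
  haveI : Fintype (Cfsg.IrrCharacter G) := Fintype.ofFinite _
  set Bf : Finset (Cfsg.IrrCharacter G) := Finset.univ.filter (· ∈ B) with hBfdef
  have hBf : ∀ χ, χ ∈ Bf ↔ χ ∈ B := fun χ => by simp [hBfdef]
  have hmain := Cfsg.Agent.Lib.helper7.h7_hk_major_final M hM B hB D hD z hzD hzc b hb hbD hl Bf hBf
  set A := Bf.filter (fun χ : Cfsg.IrrCharacter G =>
    Cfsg.blockHeight 2 B (χ : G → ℂ) = 0) with hA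
  set C := Bf.filter (fun χ : Cfsg.IrrCharacter G =>
    1 ≤ Cfsg.blockHeight 2 B (χ : G → ℂ)) with hC
  have hk0 : Nat.card {χ : Cfsg.IrrCharacter G // χ ∈ B ∧
      Cfsg.blockHeight 2 B (χ : G → ℂ) = 0} = A.card := by
    rw [Nat.card_eq_fintype_card, Fintype.card_subtype]
    congr 1
    ext χ
    simp [hA, hBf]
  have hsum : (∑ᶠ χ ∈ {χ : Cfsg.IrrCharacter G | χ ∈ B ∧
      1 ≤ Cfsg.blockHeight 2 B (χ : G → ℂ)}, 2 ^ Cfsg.blockHeight 2 B (χ : G → ℂ)) =
      ∑ χ ∈ C, 2 ^ Cfsg.blockHeight 2 B (χ : G → ℂ) := by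
    rw [Cfsg.Agent.Lib.helper7.h7_finsum_mem_fintype, ← Finset.sum_filter]
    apply Finset.sum_congr _ (fun _ _ => rfl)
    ext χ
    simp [hC, hBf]
  have hcardB : Nat.card B = A.card + C.card := by
    have h1 : Nat.card B = Bf.card := by
      rw [Nat.card_eq_fintype_card, Fintype.card_subtype]
    rw [h1, ← Finset.card_filter_add_card_filter_not (s := Bf)
      (fun χ : Cfsg.IrrCharacter G => Cfsg.blockHeight 2 B (χ : G → ℂ) = 0)]
    congr 2
    apply Finset.filter_congr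
    intro χ _
    omega
  rw [hk0, hsum, hcardB]
  refine ⟨?_, hmain⟩
  have h3 : 3 * C.card ≤ 2 * ∑ χ ∈ C, 2 ^ Cfsg.blockHeight 2 B (χ : G → ℂ) := by
    rw [Finset.mul_sum]
    have : 3 * C.card = ∑ χ ∈ C, 3 := by
      rw [Finset.sum_const, smul_eq_mul, mul_comm]
    rw [this]
    apply Finset.sum_le_sum
    intro χ hχ
    have h1 : 1 ≤ Cfsg.blockHeight 2 B (χ : G → ℂ) := (Finset.mem_filter.mp hχ).2
    have h2 : 2 ^ 1 ≤ 2 ^ Cfsg.blockHeight 2 B (χ : G → ℂ) :=
      Nat.pow_le_pow_right (by norm_num) h1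
    omega
  omega

end Cfsg.Agent.S4540
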