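import Cfsg.Statements.S4558
import Mathlib

set_option autoImplicit false
open Cfsg

namespace Cfsg.Agent.S4558

open Polynomial in
theorem key {V : Type*} [AddCommGroup V] [Module ℂ V] [FiniteDimensional ℂ V]
    (f : Module.End ℂ V) (p j : ℕ) [Fact p.Prime] (hf : f ^ (p ^ (j + 1)) = 1)
    (htr : LinearMap.trace ℂ V f = 0) : p ∣ Module.finrank ℂ V := by
  classical
  have hp : p.Prime := Fact.out
  set q := p ^ (j + 1) with hq
  have hq0 : q ≠ 0 := pow_ne_zero _ hp.ne_zero
  have : NeZero q := ⟨hq0⟩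
  set ω := Complex.exp (2 * Real.pi * Complex.I / q) with hω
  have hprim : IsPrimitiveRoot ω q := Complex.isPrimitiveRoot_exp q hq0
  have hsplits : f.charpoly.Splits := IsAlgClosed.splits _
  have hroots : ∀ μ ∈ f.charpoly.roots, μ ^ q = 1 := by
    intro μ hμ
    have hroot : f.charpoly.IsRoot μ := (Polynomial.mem_roots'.mp hμ).2
    have hev : f.HasEigenvalue μ := (Module.End.hasEigenvalue_iff_isRoot_charpoly f μ).mpr hroot
    obtain ⟨v, hv⟩ := hev.exists_hasEigenvector
    have h1 := hv.pow_apply q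
    rw [hf] at h1
    have h2 : ((1 : ℂ) - μ ^ q) • v = 0 := by
      rw [sub_smul, one_smul, ← h1]; simp
    rcases smul_eq_zero.mp h2 with h3 | h3
    · exact (sub_eq_zero.mp h3).symm
    · exact absurd h3 hv.2
  let k : ℂ → ℕ := fun μ => if h : μ ^ q = 1 then Classical.choose (hprim.eq_pow_of_pow_eq_one h) else 0
  have hk : ∀ μ ∈ f.charpoly.roots, ω ^ k μ = μ := by
    intro μ hμ
    have h := hroots μ hμ
    simp only [k, dif_pos h]
    exact (Classical.choose_spec (hprim.eq_pow_of_pow_eq_one h)).2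
  let M : ℤ[X] := (f.charpoly.roots.map (fun μ => (X : ℤ[X]) ^ k μ)).sum
  have hMω : aeval ω M = 0 := by
    simp only [M, map_multiset_sum, Multiset.map_map, Function.comp, map_pow, aeval_X]
    rw [Multiset.map_congr rfl hk, Multiset.map_id']
    rw [← Module.End.trace_eq_sum_roots_charpoly_of_splits hsplits]
    exact htr
  have hM1 : eval 1 M = (Module.finrank ℂ V : ℤ) := by
    have hev : eval 1 M = (evalRingHom (1 : ℤ)) M := rfl
    rw [hev]
    simp only [M, map_multiset_sum, Multiset.map_map, Function.comp, map_pow, coe_evalRingHom,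
      eval_X, one_pow, eval_pow]
    rw [Multiset.map_const', Multiset.sum_replicate, nsmul_eq_mul, mul_one]
    rw [Polynomial.splits_iff_card_roots.mp hsplits, LinearMap.charpoly_natDegree]
  have hint : IsIntegral ℤ ω := hprim.isIntegral (Nat.pos_of_ne_zero hq0)
  have hdvd : cyclotomic q ℤ ∣ M := by
    rw [cyclotomic_eq_minpoly hprim (Nat.pos_of_ne_zero hq0)]
    exact minpoly.isIntegrallyClosed_dvd hint hMω
  have h1 := Polynomial.eval_dvd (x := (1 : ℤ)) hdvd
  rw [hq, eval_one_cyclotomic_prime_pow, hM1] at h1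
  exact_mod_cast h1

theorem result {G : Type*} [Group G] [Finite G] (p : ℕ) [Fact p.Prime] (χ : G → ℂ) (hχ : Cfsg.IsCharacter G χ) (g : G) (hg : ∃ j : ℕ, orderOf g = p ^ j) (h0 : χ g = 0) : p ∣ Cfsg.charDegree χ := by
  obtain ⟨n, ρ, rfl⟩ := hχ
  have hdeg : Cfsg.charDegree ρ.character = n := by
    unfold Cfsg.charDegree
    rw [Representation.char_one]
    simp
  rw [hdeg]
  obtain ⟨j, hj⟩ := hg
  rcases j with _ | j
  · rw [pow_zero, orderOf_eq_one_iff] at hj
    rw [hj, Representation.char_one] at h0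
    have : (n : ℂ) = 0 := by simpa using h0
    have hn : n = 0 := by exact_mod_cast this
    rw [hn]; exact dvd_zero p
  · have hf : (ρ g) ^ (p ^ (j + 1)) = 1 := by
      rw [← map_pow, ← hj, pow_orderOf_eq_one, map_one]
    have := key (ρ g) p j hf h0
    simpa using this

end Cfsg.Agent.S4558
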