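import Cfsg.Statements.S4560
import Cfsg.Agent.Lib.Helper24.AltChar8

set_option autoImplicit false
open Cfsg

namespace Cfsg.Agent.S4560

theorem result (n : ℕ) (hn : 7 ≤ n) : (∃ χ : Cfsg.IrrCharacter (alternatingGroup (Fin n)), (∃ x : alternatingGroup (Fin n), (∃ j : ℕ, orderOf x = 2 ^ j) ∧ (χ : alternatingGroup (Fin n) → ℂ) x = 0) ∧ ∃ ψ : Cfsg.IrrCharacter (Equiv.Perm (Fin n)), ∀ x : alternatingGroup (Fin n), (ψ : Equiv.Perm (Fin n) → ℂ) x = (χ : alternatingGroup (Fin n) → ℂ) x) ∧ (∃ χ : Cfsg.IrrCharacter (alternatingGroup (Fin n)), (∃ y : alternatingGroup (Fin n), orderOf y = 3 ∧ (χ : alternatingGroup (Fin n) → ℂ) y = 0) ∧ ∃ ψ : Cfsg.IrrCharacter (Equiv.Perm (Fin n)), ∀ x : alternatingGroup (Fin n), (ψ : Equiv.Perm (Fin n) → ℂ) x = (χ : alternatingGroup (Fin n) → ℂ) x) := by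
  constructor
  · obtain ⟨σ, hσ, ⟨j, hj⟩, hf, hsq⟩ := Cfsg.Agent.Lib.Helper24.ac_two_elt n hn
    obtain ⟨χ, h0, ψ, hψ⟩ := Cfsg.Agent.Lib.Helper24.ac_main n hn σ hσ hf hsq
    refine ⟨χ, ⟨⟨σ, hσ⟩, ⟨j, ?_⟩, h0⟩, ψ, hψ⟩
    rw [← hj]
    exact Subgroup.orderOf_mk σ hσ
  · obtain ⟨σ, hσ, h3, hf, hsq⟩ := Cfsg.Agent.Lib.Helper24.ac_three_elt n hn
    obtain ⟨χ, h0, ψ, hψ⟩ := Cfsg.Agent.Lib.Helper24.ac_main n hn σ hσ hf (Or.inr hsq)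
    refine ⟨χ, ⟨⟨σ, hσ⟩, ?_, h0⟩, ψ, hψ⟩
    rw [← h3]
    exact Subgroup.orderOf_mk σ hσ

end Cfsg.Agent.S4560
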