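import Cfsg.Statements.S4566
import Cfsg.Agent.Lib.Helper25.CharBasic

set_option autoImplicit false
open Cfsg

namespace Cfsg.Agent.S4566

open scoped ComplexConjugate

theorem irr_central_mul {G : Type*} [Group G] (χ : Cfsg.IrrCharacter G) (z : G)
    (hz : z ∈ Subgroup.center G) : ∃ c : ℂ, ∀ h : G, (χ : G → ℂ) (h * z) = c * (χ : G → ℂ) h := by
  obtain ⟨n, ρ, hirr, hχ⟩ := χ.2
  have := hirr
  have hcomm : ∀ g : G, ρ z ∘ₗ ρ g = ρ g ∘ₗ ρ z := by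
    intro g
    rw [← Module.End.mul_eq_comp, ← Module.End.mul_eq_comp, ← map_mul, ← map_mul,
      (Subgroup.mem_center_iff.mp hz g)]
  obtain ⟨c, hc⟩ := Cfsg.Agent.Lib.Helper25.commuting_end_scalar ρ (ρ z) hcomm
  refine ⟨c, fun h => ?_⟩
  have e : (χ : G → ℂ) = ρ.character := hχ.symm
  rw [e]
  show LinearMap.trace ℂ _ (ρ (h * z)) = c * LinearMap.trace ℂ _ (ρ h)
  rw [map_mul, hc, Module.End.mul_eq_comp, LinearMap.comp_smul, LinearMap.comp_id, map_smul, smul_eq_mul]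

theorem irr_conj {G : Type*} [Group G] (χ : Cfsg.IrrCharacter G) (g y : G) :
    (χ : G → ℂ) (y * g * y⁻¹) = (χ : G → ℂ) g := by
  obtain ⟨n, ρ, hirr, hχ⟩ := χ.2
  have e : (χ : G → ℂ) = ρ.character := hχ.symm
  rw [e]
  exact Representation.char_conj ρ g y

theorem result {G : Type*} [Group G] [Fintype G] (N : Subgroup G) [Fintype N] (hN : N ≤ Subgroup.center G) (ψ : Cfsg.IrrCharacter ↥N) (hfaith : ∀ n : ↥N, (ψ : ↥N → ℂ) n = (ψ : ↥N → ℂ) 1 → n = 1) (χ : Cfsg.IrrCharacter G) (hover : Cfsg.classInner (fun n : ↥N => (χ : G → ℂ) n) (ψ : ↥N → ℂ) ≠ 0) (g x : G) (hcomm : x⁻¹ * g⁻¹ * x * g ∈ N) (hne : x⁻¹ * g⁻¹ * x * g ≠ 1) : (χ : G → ℂ) g = 0 := by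
  by_contra hχg
  set w : G := (x⁻¹ * g⁻¹ * x * g)⁻¹ with hw
  have hwN : w ∈ N := inv_mem hcomm
  have hconj : x⁻¹ * g * x⁻¹⁻¹ = g * w := by rw [hw]; group
  obtain ⟨c, hc⟩ := irr_central_mul χ w (hN hwN)
  have h1 : (χ : G → ℂ) (g * w) = (χ : G → ℂ) g := by
    rw [← hconj]; exact irr_conj χ g x⁻¹
  have hc1 : c = 1 := by
    have := hc g
    rw [h1] at this
    have h2 : (c - 1) * (χ : G → ℂ) g = 0 := by rw [sub_mul, one_mul, ← this, sub_self]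
    rcases mul_eq_zero.mp h2 with h | h
    · exact sub_eq_zero.mp h
    · exact absurd h hχg
  have hχw : ∀ h : G, (χ : G → ℂ) (h * w) = (χ : G → ℂ) h := by
    intro h; rw [hc h, hc1, one_mul]
  have hw'c : (⟨w, hwN⟩ : N) ∈ Subgroup.center N := by
    rw [Subgroup.mem_center_iff]
    intro n
    apply Subtype.ext
    exact Subgroup.mem_center_iff.mp (hN hwN) n
  obtain ⟨c', hc'⟩ := irr_central_mul ψ ⟨w, hwN⟩ hw'c
  have hsum : ∑ n : N, (χ : G → ℂ) n * conj ((ψ : ↥N → ℂ) n) ≠ 0 := by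
    intro h
    apply hover
    unfold Cfsg.classInner
    rw [h, mul_zero]
  have hre : ∑ n : N, (χ : G → ℂ) n * conj ((ψ : ↥N → ℂ) n) =
      conj c' * ∑ n : N, (χ : G → ℂ) n * conj ((ψ : ↥N → ℂ) n) := by
    rw [Finset.mul_sum]
    rw [← Equiv.sum_comp (Equiv.mulRight (⟨w, hwN⟩ : N))
      (fun n : N => (χ : G → ℂ) n * conj ((ψ : ↥N → ℂ) n))]
    apply Finset.sum_congr rfl
    intro n _
    show (χ : G → ℂ) ((n : G) * w) * conj ((ψ : ↥N → ℂ) (n * ⟨w, hwN⟩)) =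
      conj c' * ((χ : G → ℂ) n * conj ((ψ : ↥N → ℂ) n))
    rw [hc' n, hχw, map_mul]
    ring
  have hc'1 : c' = 1 := by
    have h2 : (conj c' - 1) * ∑ n : N, (χ : G → ℂ) n * conj ((ψ : ↥N → ℂ) n) = 0 := by
      rw [sub_mul, one_mul, ← hre, sub_self]
    rcases mul_eq_zero.mp h2 with h | h
    · have h3 : conj c' = 1 := sub_eq_zero.mp h
      have := congrArg conj h3
      rwa [Complex.conj_conj, map_one] at this
    · exact absurd h hsum
  have hψw : (ψ : ↥N → ℂ) ⟨w, hwN⟩ = (ψ : ↥N → ℂ) 1 := by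
    have := hc' 1
    rwa [one_mul, hc'1, one_mul] at this
  have hw1 := hfaith _ hψw
  have hw1' : w = 1 := congrArg Subtype.val hw1
  apply hne
  rw [hw, inv_eq_one] at hw1'
  exact hw1'

end Cfsg.Agent.S4566
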