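import Cfsg.Statements.S4580
import Cfsg.Agent.Lib.Helper24.RealBlock6

set_option autoImplicit false
open Cfsg

namespace Cfsg.Agent.S4580

open Cfsg.Agent.Lib.Helper24

theorem result {G : Type*} [Group G] [Finite G] (N : Subgroup G) [N.Normal] (M : Ideal Cfsg.AlgInt) (hM : Cfsg.IsPModular 2 M) (θ : Cfsg.IrrCharacter N) (hreal : ∀ n : N, ((θ : N → ℂ) n).im = 0) (hodd : Odd (Cfsg.charDegree (θ : N → ℂ))) (hext : ∃ η : Cfsg.IrrCharacter G, ∀ n : N, (η : G → ℂ) n = (θ : N → ℂ) n) :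
    ∃ η : Cfsg.IrrCharacter G, (∀ n : N, (η : G → ℂ) n = (θ : N → ℂ) n) ∧ η ∈ Cfsg.principalBlock M G := by
  classical
  haveI : Fintype G := Fintype.ofFinite G
  haveI : Fintype (Cfsg.IrrCharacter G) := Fintype.ofFinite _
  obtain ⟨η₀, hη₀⟩ := hext
  obtain ⟨η, hη, hηreal⟩ := rb_extension N θ hreal η₀ hη₀
  refine ⟨η, hη, rb_regreal_principal M hM η hηreal ?_⟩
  have h1 : Cfsg.charDegree (η : G → ℂ) = Cfsg.charDegree (θ : N → ℂ) := by
    unfold Cfsg.charDegree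
    have h2 := hη 1
    rw [OneMemClass.coe_one] at h2
    rw [h2]
  rw [h1]
  exact hodd

end Cfsg.Agent.S4580
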