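import Cfsg.Statements.S4584
import Cfsg.Agent.Lib.Helper24.POrderFour

set_option autoImplicit false
open Cfsg

namespace Cfsg.Agent.S4584

open Cfsg.Agent.Lib.Helper24 in
theorem result {P : Type*} [Group P] [Finite P] (p : ℕ) [Fact p.Prime] (hP : Nat.card P = p ^ 4) :
    Nat.card (commutator P) = p ↔ (Subgroup.center P).index = p ^ 2 := by
  have hp : p.Prime := Fact.out
  rw [pf_index_iff_card (a := 2) (b := 2) hp (Subgroup.center P) hP]
  exact ⟨pf_card_center_of_card_comm hP, pf_card_comm_of_card_center hP⟩

end Cfsg.Agent.S4584
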