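import Cfsg.Statements.S4585
import Cfsg.Agent.Lib.Helper24.POrderFourClass

set_option autoImplicit false
open Cfsg

namespace Cfsg.Agent.S4585

open Cfsg.Agent.Lib.Helper24 in
theorem result {P : Type*} [Group P] [Finite P] (p : ℕ) [Fact p.Prime] (hP : Nat.card P = p ^ 4) :
    (commutator P).index = p ^ 2 ↔ Group.nilpotencyClass P = 3 := by
  have hnil : Group.IsNilpotent P := (IsPGroup.of_card hP).isNilpotent
  rw [pf_class_eq_three_iff]
  constructor
  · intro h
    exact pf_class_three_of_index hP h
  · rintro ⟨_, h3⟩
    exact pf_index_of_class_three hP h3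

end Cfsg.Agent.S4585
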