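import Cfsg.Statements.S4586
import Cfsg.Agent.Lib.Helper24.CommIndex

set_option autoImplicit false
open Cfsg

namespace Cfsg.Agent.S4586

open Cfsg.Agent.Lib.Helper24 in
theorem result {P : Type*} [Group P] [Finite P] (p : ℕ) [Fact p.Prime] (hP : IsPGroup p P) (N : Subgroup P) [N.Normal] (hN : N.index = p) :
    ((commutator P).index = p ^ 2 ↔ ∀ x : P, x ∉ N →
        Nat.card {n : N // x * n * x⁻¹ * (n : P)⁻¹ ∈ (commutator N).map N.subtype} = p * Nat.card (commutator N)) ∧
    ((commutator P).index = p ^ 2 ↔ ∃ x : P, x ∉ N ∧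
        Nat.card {n : N // x * n * x⁻¹ * (n : P)⁻¹ ∈ (commutator N).map N.subtype} = p * Nat.card (commutator N)) := by
  have hp : p.Prime := Fact.out
  have hex : ∃ x : P, x ∉ N := by
    by_contra h
    have hall : ∀ x : P, x ∈ N := by
      intro x
      by_contra hx
      exact h ⟨x, hx⟩
    have : N = ⊤ := by
      rw [eq_top_iff]
      intro x _
      exact hall x
    rw [this, Subgroup.index_top] at hN
    exact hp.one_lt.ne hN
  refine ⟨⟨?_, ?_⟩, ⟨?_, ?_⟩⟩
  · intro h x hx
    exact (cx_index_commutator hp N hN hx).mp h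
  · intro h
    obtain ⟨x, hx⟩ := hex
    exact (cx_index_commutator hp N hN hx).mpr (h x hx)
  · intro h
    obtain ⟨x, hx⟩ := hex
    exact ⟨x, hx, (cx_index_commutator hp N hN hx).mp h⟩
  · rintro ⟨x, hx, h⟩
    exact (cx_index_commutator hp N hN hx).mpr h

end Cfsg.Agent.S4586
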