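import Cfsg.Statements.S4587
import Cfsg.Agent.Lib.Helper24.PSq14

set_option autoImplicit false
open Cfsg

namespace Cfsg.Agent.S4587

theorem result {G : Type*} [Group G] [Finite G] (p : ℕ) [Fact p.Prime] (P : Sylow p G) (hbig : p ^ 2 ∣ Nat.card G) (hcore : Cfsg.pPrimeCore p G = ⊥)
    (hcore' : (⁅(P : Subgroup G), (P : Subgroup G)⁆).normalCore = ⊥) (hnas : ¬ ∃ S : Subgroup G, S.Normal ∧ IsSimpleGroup S ∧ ¬ IsMulCommutative S ∧ Subgroup.centralizer (S : Set G) = ⊥) :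
    (⁅(P : Subgroup G), (P : Subgroup G)⁆).relIndex (P : Subgroup G) = p ^ 2 ↔
      ∃ x : G, (∃ k : ℕ, orderOf x = p ^ k) ∧ (Nat.card (Subgroup.centralizer ({x} : Set G))).factorization p = 2 := by
  constructor
  · exact Cfsg.Agent.Lib.Helper24.ps_forward P hcore hcore' hnas
  · rintro ⟨x, hx, hc⟩
    exact Cfsg.Agent.Lib.Helper24.ps_backward P hbig x hx hc

end Cfsg.Agent.S4587
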