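import Cfsg.Statements.S4593
import Cfsg.Agent.S0215
import Cfsg.Agent.Lib.Helper24.GlaubAut3

set_option autoImplicit false
open Cfsg

namespace Cfsg.Agent.S4593

theorem result {G : Type*} [Group G] [Finite G] (hZ : Subgroup.center G = ⊥) (hcore : Cfsg.pPrimeCore 2 G = ⊥) (P : Sylow 2 G) (hab : IsMulCommutative (P : Subgroup G))
    (α : MulAut G) (h2 : ∃ j : ℕ, orderOf α = 2 ^ j) (hfix : ∀ x ∈ (P : Subgroup G), α x = x) :
    ∃ g : G, ∀ x : G, α x = g * x * g⁻¹ := by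
  refine Cfsg.Agent.Lib.Helper24.ga_main hZ hcore P ?_ α h2 hfix ?_
  · intro x hx y hy
    have := hab.is_comm.comm ⟨x, hx⟩ ⟨y, hy⟩
    exact congrArg (fun t : (P : Subgroup G) => (t : G)) this
  · intro Λ _ _ S u hu huS hiso
    exact Cfsg.Agent.S0215.result S u hu huS hiso

end Cfsg.Agent.S4593
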