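import Cfsg.Statements.S4602
import Mathlib
import Cfsg.Prelude.Def_Local
import Cfsg.Agent.Lib.Helper5.PConstr
import Cfsg.Agent.Lib.Helper1.PLength
import Cfsg.Agent.Lib.Helper1.Fitting
import Cfsg.Agent.Lib.Helper1.Cores

set_option autoImplicit false
open Cfsg

namespace Cfsg.Agent.S4602

theorem fwd {G : Type*} [Group G] [Finite G] (p q : ℕ) [Fact p.Prime] [Fact q.Prime] (hpq : p ≠ q)
    (hsolv : Cfsg.IsPSolvable p G) (P : Sylow p G) (Q : Sylow q G)
    (hPQ : (P : Subgroup G) ≤ Subgroup.normalizer ((Q : Subgroup G) : Set G)) :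
    ¬ q ∣ (Cfsg.pPrimeCore p G).index := by
  have hp := (Fact.out : p.Prime)
  have hq := (Fact.out : q.Prime)
  set N := Cfsg.pPrimeCore p G with hN
  haveI hNn : N.Normal := Cfsg.Agent.Lib.Helper1.pPrimeCore_normal p
  have hsurj : Function.Surjective (QuotientGroup.mk' N) := QuotientGroup.mk'_surjective N
  have hXsol : Cfsg.IsPSolvable p (G ⧸ N) :=
    Cfsg.Agent.Lib.Helper5.h5_isPSolvable_of_surjective (QuotientGroup.mk' N) hsurj hsolv
  have hXO : Cfsg.pPrimeCore p (G ⧸ N) = ⊥ := Cfsg.Agent.Lib.Helper1.pPrimeCore_quotient_eq_bot p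
  have hC := Cfsg.Agent.Lib.Helper5.h5_centralizer_pCore_le hXsol hXO
  set R := Cfsg.pCore p (G ⧸ N) with hR
  have hRn : R.Normal := Cfsg.Agent.Lib.Helper1.pCore_normal p
  have hRp : IsPGroup p R := Cfsg.Agent.Lib.Helper1.pCore_isPGroup p
  have hRP : R ≤ (P : Subgroup G).map (QuotientGroup.mk' N) := by
    have := Cfsg.Agent.Lib.Helper1.pCore_le_sylow p (P.mapSurjective hsurj)
    rwa [Sylow.coe_mapSurjective] at this
  set Qb := (Q : Subgroup G).map (QuotientGroup.mk' N) with hQb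
  have hQbq : IsPGroup q Qb := Q.2.map _
  have hdisj : ∀ x : G ⧸ N, x ∈ R → x ∈ Qb → x = 1 := by
    intro x hxR hxQ
    obtain ⟨a, ha⟩ := (IsPGroup.iff_orderOf.mp hRp) ⟨x, hxR⟩
    obtain ⟨b, hb⟩ := (IsPGroup.iff_orderOf.mp hQbq) ⟨x, hxQ⟩
    rw [Subgroup.orderOf_mk] at ha hb
    have : orderOf x = 1 := by
      have h1 : (orderOf x).Coprime (orderOf x) := by
        conv_lhs => rw [ha]
        rw [hb]
        exact Nat.Coprime.pow _ _ ((Nat.coprime_primes hp hq).mpr hpq)
      exact (Nat.coprime_self _).mp h1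
    exact orderOf_eq_one_iff.mp this
  have hQbC : Qb ≤ Subgroup.centralizer (R : Set (G ⧸ N)) := by
    intro x hx
    rw [Subgroup.mem_centralizer_iff]
    intro r hr
    have hrP := hRP hr
    obtain ⟨g, hgP, hgr⟩ := hrP
    have h1 : r * x * r⁻¹ ∈ Qb := by
      obtain ⟨y, hyQ, hyx⟩ := hx
      refine ⟨g * y * g⁻¹, ?_, ?_⟩
      · have := hPQ hgP
        rw [Subgroup.mem_normalizer_iff] at this
        exact (this y).mp hyQ
      · rw [map_mul, map_mul, map_inv, hgr, hyx]
    have h2 : r * x * r⁻¹ * x⁻¹ ∈ Qb := Subgroup.mul_mem _ h1 (Subgroup.inv_mem _ hx)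
    have h3 : r * x * r⁻¹ * x⁻¹ ∈ R := by
      have : x * r⁻¹ * x⁻¹ ∈ R := hRn.conj_mem _ (Subgroup.inv_mem _ hr) x
      have := Subgroup.mul_mem _ hr this
      convert this using 1
      group
    have h4 := hdisj _ h3 h2
    have : r * x = x * r := by
      have : r * x * r⁻¹ * x⁻¹ * (x * r) = x * r := by rw [h4, one_mul]
      rw [← this]
      group
    exact this
  have hQbot : ∀ x ∈ Qb, x = 1 := fun x hx => hdisj x (hC (hQbC hx)) hx
  have hQN : (Q : Subgroup G) ≤ N := by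
    intro x hx
    have := hQbot _ (Subgroup.mem_map_of_mem _ hx)
    rwa [QuotientGroup.mk'_apply, QuotientGroup.eq_one_iff] at this
  intro hdvd
  exact Q.not_dvd_index (dvd_trans hdvd (Subgroup.index_dvd_of_le hQN))

theorem bwd {G : Type*} [Group G] [Finite G] (p q : ℕ) [Fact p.Prime] [Fact q.Prime]
    (h : ¬ q ∣ (Cfsg.pPrimeCore p G).index) :
    ∃ (P : Sylow p G) (Q : Sylow q G), (P : Subgroup G) ≤ Subgroup.normalizer ((Q : Subgroup G) : Set G) := by
  have hp := (Fact.out : p.Prime)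
  have hq := (Fact.out : q.Prime)
  set N := Cfsg.pPrimeCore p G with hN
  haveI hNn : N.Normal := Cfsg.Agent.Lib.Helper1.pPrimeCore_normal p
  have hNc : (Nat.card N).Coprime p := Cfsg.Agent.Lib.Helper1.pPrimeCore_card_coprime p
  obtain ⟨Q⟩ := (inferInstance : Nonempty (Sylow q G))
  have hQN : (Q : Subgroup G) ≤ N := by
    intro x hx
    rw [← QuotientGroup.eq_one_iff, ← orderOf_eq_one_iff]
    obtain ⟨k, hk⟩ := (IsPGroup.iff_orderOf.mp Q.2) ⟨x, hx⟩
    rw [Subgroup.orderOf_mk] at hk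
    have h1 : orderOf ((x : G) : G ⧸ N) ∣ q ^ k := by
      rw [← hk]
      exact orderOf_map_dvd (QuotientGroup.mk' N) x
    have h2 : orderOf ((x : G) : G ⧸ N) ∣ N.index := by
      rw [Subgroup.index_eq_card]
      exact orderOf_dvd_natCard _
    have h3 : (q ^ k).Coprime N.index := Nat.Coprime.pow_left _ ((Nat.Prime.coprime_iff_not_dvd hq).mpr h)
    exact Nat.eq_one_of_dvd_coprimes h3 h1 h2
  set M := Subgroup.normalizer ((Q : Subgroup G) : Set G) with hM
  have hMN : M ⊔ N = ⊤ := Sylow.normalizer_sup_eq_top' Q hQN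
  have hidx : M.index ∣ Nat.card N := by
    have h1 : (M ⊓ N).relIndex M * M.index = (M ⊓ N).index := Subgroup.relIndex_mul_index inf_le_left
    have h2 : (M ⊓ N).relIndex N * N.index = (M ⊓ N).index := Subgroup.relIndex_mul_index inf_le_right
    have h3 : (M ⊓ N).relIndex M = N.index := by
      rw [Subgroup.inf_relIndex_left, ← Subgroup.relIndex_sup_right, hMN, Subgroup.relIndex_top_right]
    have h4 : M.index = (M ⊓ N).relIndex N := by
      have hpos : 0 < N.index := Nat.pos_of_ne_zero Subgroup.index_ne_zero_of_finite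
      rw [h3] at h1
      have : N.index * M.index = N.index * (M ⊓ N).relIndex N := by rw [h1, ← h2, mul_comm]
      exact Nat.eq_of_mul_eq_mul_left hpos this
    rw [h4]
    exact Subgroup.relIndex_dvd_card _ _
  obtain ⟨P₀⟩ := (inferInstance : Nonempty (Sylow p M))
  have hP₀p : IsPGroup p ((P₀ : Subgroup M).map M.subtype) := P₀.2.map _
  have hP₀i : ¬ p ∣ ((P₀ : Subgroup M).map M.subtype).index := by
    rw [Subgroup.index_map_subtype]
    intro hdvd
    rcases (Nat.Prime.dvd_mul hp).mp hdvd with h1 | h1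
    · exact P₀.not_dvd_index h1
    · exact (Nat.Prime.coprime_iff_not_dvd hp).mp hNc.symm (dvd_trans h1 hidx)
  refine ⟨hP₀p.toSylow hP₀i, Q, ?_⟩
  show (P₀ : Subgroup M).map M.subtype ≤ M
  exact Subgroup.map_subtype_le _


theorem result {G : Type*} [Group G] [Finite G] (p q : ℕ) [Fact p.Prime] [Fact q.Prime] (hpq : p ≠ q) (hsolv : Cfsg.IsPSolvable p G) :
    (∃ (P : Sylow p G) (Q : Sylow q G), (P : Subgroup G) ≤ Subgroup.normalizer ((Q : Subgroup G) : Set G)) ↔ ¬ q ∣ (Cfsg.pPrimeCore p G).index := by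
  constructor
  · rintro ⟨P, Q, hPQ⟩
    exact fwd p q hpq hsolv P Q hPQ
  · intro h
    exact bwd p q h

end Cfsg.Agent.S4602
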