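import Cfsg.Statements.S4604
import Cfsg.Statements.S4604
import Cfsg.Agent.Lib.helper2.PModular2
import Cfsg.Agent.S0876

set_option autoImplicit false
open Cfsg

namespace Cfsg.Agent.S4604

open Cfsg
open Cfsg.Agent.Lib.helper2 Cfsg.Agent.Lib.helper7 Cfsg.Agent.Lib.Helper11 Cfsg.Agent.Lib.Helper25



/-- Let G be a finite group, p a prime and p^a the p-part of the order of G. Let x, y ∈ G and let x′, y′ be their p-regular parts: x′ has order prime to p, commutes with x·x′⁻¹, and x·x′⁻¹ has p-power order (likewise for y). Then x′ and y′ are conjugate in G if and only if for every irreducible character χ of G the algebraic integer χ(x)^(p^a) − χ(y)^(p^a) is p times an algebraic integer. -/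
theorem result {G : Type*} [Group G] [Finite G] (p : ℕ) [Fact p.Prime] (x y x' y' : G)
    (hx : (∃ k : ℕ, orderOf (x * x'⁻¹) = p ^ k) ∧ Commute (x * x'⁻¹) x' ∧ ¬ p ∣ orderOf x')
    (hy : (∃ k : ℕ, orderOf (y * y'⁻¹) = p ^ k) ∧ Commute (y * y'⁻¹) y' ∧ ¬ p ∣ orderOf y') :
    IsConj x' y' ↔ ∀ χ : Cfsg.IrrCharacter G, ∃ γ : Cfsg.AlgInt,
      (χ : G → ℂ) x ^ (p ^ (Nat.card G).factorization p) - (χ : G → ℂ) y ^ (p ^ (Nat.card G).factorization p) = (p : ℂ) * (γ : ℂ) := by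
  classical
  have hp : p.Prime := Fact.out
  obtain ⟨M, hM⟩ := exists_isPModular p hp
  have hprime : M.IsPrime := hM.2.1.isPrime
  obtain ⟨r, hr⟩ : ∃ r, r = (Nat.card G).factorization p := ⟨_, rfl⟩
  rw [← hr]
  obtain ⟨m, hm⟩ : ∃ m, m = p ^ r := ⟨_, rfl⟩
  obtain ⟨n, hn⟩ : ∃ n, n = Nat.card G / p ^ r := ⟨_, rfl⟩
  have hmn : Nat.card G = m * n := by
    rw [hm, hn, hr]
    exact (Nat.ordProj_mul_ordCompl_eq_self (Nat.card G) p).symm
  have hpn : p.Coprime n := by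
    rw [hn, hr]
    exact Nat.coprime_ordCompl hp Nat.card_pos.ne'
  have hcop : m.Coprime n := by
    rw [hm]
    exact Nat.Coprime.pow_left r hpn
  obtain ⟨e, e', hme, hen, hne', hem', hee⟩ := exists_crt_exponent m n hcop
  -- p-parts
  have hxP : Cfsg.IsPPart p x (x * x'⁻¹) := ⟨x', by group, hx.2.1, hx.1, hx.2.2⟩
  have hyP : Cfsg.IsPPart p y (y * y'⁻¹) := ⟨y', by group, hy.2.1, hy.1, hy.2.2⟩
  have hx'eq : (x * x'⁻¹)⁻¹ * x = x' := by group
  have hy'eq : (y * y'⁻¹)⁻¹ * y = y' := by group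
  have hpart : ∀ z c : G, Cfsg.IsPPart p z c → z ^ e = c⁻¹ * z := by
    rintro z c ⟨w, rfl, hcw, ⟨k, hk⟩, hw⟩
    have h1 : Nat.Coprime (orderOf c) n := by
      rw [hk]
      exact Nat.Coprime.pow_left k hpn
    have h2 : Nat.Coprime (orderOf w) m := by
      rw [hm]
      exact Nat.Coprime.pow_right r ((Nat.Prime.coprime_iff_not_dvd hp).mpr hw).symm
    rw [hcw.mul_pow, pow_crt_of_coprime_right hmn hme h1, pow_crt_of_coprime_left hmn hen h2]
    group
  have hxe : x ^ e = x' := by rw [hpart x _ hxP, hx'eq]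
  have hye : y ^ e = y' := by rw [hpart y _ hyP, hy'eq]
  have h876 := Cfsg.Agent.S0876.result p M hM x y (x * x'⁻¹) (y * y'⁻¹) hxP hyP
  rw [hx'eq, hy'eq] at h876
  constructor
  · intro hconj χ
    obtain ⟨γ₁, hγ₁⟩ := char_pow_crt_congr (p := p) hmn hm hne' hee (isCharacter_of_irr χ) x
    obtain ⟨γ₂, hγ₂⟩ := char_pow_crt_congr (p := p) hmn hm hne' hee (isCharacter_of_irr χ) y
    rw [hxe] at hγ₁
    rw [hye] at hγ₂
    refine ⟨γ₁ - γ₂, ?_⟩
    have h1 : (χ : G → ℂ) x' = (χ : G → ℂ) y' := irr_isConj_eq χ hconj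
    rw [h1] at hγ₁
    push_cast
    linear_combination hγ₁ - hγ₂
  · intro hall
    rw [h876]
    intro χ
    obtain ⟨γ, hγ⟩ := hall χ
    obtain ⟨A, hA⟩ : ∃ A : Cfsg.AlgInt, (A : ℂ) = (χ : G → ℂ) x := ⟨⟨_, irr_integral χ x⟩, rfl⟩
    obtain ⟨B, hB⟩ : ∃ B : Cfsg.AlgInt, (B : ℂ) = (χ : G → ℂ) y := ⟨⟨_, irr_integral χ y⟩, rfl⟩
    have h1 : A ^ p ^ r - B ^ p ^ r = (p : Cfsg.AlgInt) * γ := by
      apply Subtype.ext
      simp only [AddSubgroupClass.coe_sub, SubmonoidClass.coe_pow, MulMemClass.coe_mul,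
        SubringClass.coe_natCast]
      rw [hA, hB]
      exact hγ
    obtain ⟨t, ht⟩ := exists_add_pow_prime_pow_eq hp (A - B) B r
    rw [sub_add_cancel] at ht
    have h2 : (A - B) ^ p ^ r = (p : Cfsg.AlgInt) * (γ - (A - B) * B * t) := by
      linear_combination h1 - ht
    have h3 : A - B ∈ M := by
      apply hprime.mem_of_pow_mem (p ^ r)
      rw [h2]
      exact M.mul_mem_right _ hM.2.2
    have h4 := h7_memLocalIdeal_of_mem hprime h3
    simpa [hA, hB] using h4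

end Cfsg.Agent.S4604
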