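import Cfsg.Statements.S4620
import Cfsg.Agent.Lib.Helper24.TISylow2

set_option autoImplicit false
open scoped Pointwise
open Cfsg

namespace Cfsg.Agent.S4620

open Cfsg.Agent.Lib.Helper24

theorem result {H : Type*} [Group H] [Finite H] (p : ℕ) [Fact p.Prime] (hOp : Cfsg.pCore p H = ⊥) (hOp' : Cfsg.pPrimeCore p H = ⊥) (P : Sylow p H) (hP1 : (P : Subgroup H) ≠ ⊥)
    (hTI : ∀ g : H, g ∉ Subgroup.normalizer ((P : Subgroup H) : Set H) → (P : Subgroup H) ⊓ (MulAut.conj g • (P : Subgroup H)) = ⊥) :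
    ∃ N : Subgroup H, N.Normal ∧ N ≠ ⊥ ∧ (∀ K : Subgroup H, K.Normal → K ≠ ⊥ → N ≤ K) ∧
      IsSimpleGroup N ∧ ¬ IsMulCommutative N ∧ Subgroup.centralizer (N : Set H) = ⊥ ∧
      ∀ Q : Sylow p N, (Q : Subgroup N) ≠ ⊥ ∧
        ∀ n : N, n ∉ Subgroup.normalizer ((Q : Subgroup N) : Set N) → (Q : Subgroup N) ⊓ (MulAut.conj n • (Q : Subgroup N)) = ⊥ := by
  have hp0 := ti_noNormalP hOp
  have hp0' := ti_noNormalP' hOp'
  have hTIall := ti_all_of_one P hTI
  haveI : Nontrivial H := by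
    by_contra h
    rw [not_nontrivial_iff_subsingleton] at h
    exact hP1 (Subsingleton.elim _ _)
  obtain ⟨N, hNn, hN1, hmin⟩ := Cfsg.Agent.Lib.Helper1.exists_minimal_normal (G := H)
  haveI := hNn
  refine ⟨N, hNn, hN1, ?_, ?_, ?_, ?_, ?_⟩
  · intro K hK hK1
    exact ti_min_le hp0 hp0' hTIall N hNn hN1 hmin K hK hK1
  · exact ti_simple hp0 hp0' hTIall N hNn hN1 hmin
  · exact ti_not_comm hp0 hp0' hTIall N hNn hN1
  · exact ti_centralizer_eq_bot hp0 hp0' hTIall N hNn hN1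
  · intro Q
    constructor
    · apply Sylow.ne_bot_of_dvd_card
      by_contra h
      apply hN1
      apply hp0' N hNn
      exact ((Nat.Prime.coprime_iff_not_dvd (Fact.out : p.Prime)).mpr h).symm
    · intro n hn
      exact ti_sub_all hTIall N Q n hn

end Cfsg.Agent.S4620
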