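import Cfsg.Statements.S4623
import Cfsg.Agent.Lib.Helper5.SymSylD

set_option autoImplicit false
open Cfsg

namespace Cfsg.Agent.S4623

/-- For every prime p and every n, a Sylow p-subgroup P of the symmetric group on n letters has P/P' elementary abelian (the p-th power of every element of P lies in the derived subgroup of P), and the same holds for a Sylow p-subgroup of the alternating group on n letters. -/
theorem result (p : ℕ) [Fact p.Prime] (n : ℕ) (P : Sylow p (Equiv.Perm (Fin n))) (Q : Sylow p (alternatingGroup (Fin n))) :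
    (∀ x : (P : Subgroup (Equiv.Perm (Fin n))), x ^ p ∈ commutator (P : Subgroup (Equiv.Perm (Fin n)))) ∧
    (∀ x : (Q : Subgroup (alternatingGroup (Fin n))), x ^ p ∈ commutator (Q : Subgroup (alternatingGroup (Fin n)))) := by
  constructor
  · obtain ⟨S, hSp, hScard, hSgen⟩ :=
      Cfsg.Agent.Lib.Helper5.SymSyl.good_all p n (Fin n) (by simp)
    have hcard : Nat.card S = p ^ (Nat.card (Equiv.Perm (Fin n))).factorization p := by
      rw [hScard, Nat.factorization_def _ Fact.out, Nat.card_perm]
    exact Cfsg.Agent.Lib.Helper5.SymSyl.pow_mem_commutator_of_genIn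
      (Cfsg.Agent.Lib.Helper5.SymSyl.genIn_sylow S hcard hSgen P)
  · by_cases hn : 2 ≤ n
    · have key : ∃ S : Subgroup (Equiv.Perm (Fin n)), S ≤ alternatingGroup (Fin n) ∧
          Nat.card S = p ^ (Nat.card (alternatingGroup (Fin n))).factorization p ∧
          Cfsg.Agent.Lib.Helper5.SymSyl.GenIn p S := by
        by_cases hp2 : p = 2
        · subst hp2
          exact Cfsg.Agent.Lib.Helper5.SymSyl.alt_two n hn
        · exact Cfsg.Agent.Lib.Helper5.SymSyl.alt_odd p hp2 n hn
      obtain ⟨S, hSA, hScard, hSgen⟩ := key
      have hcard' : Nat.card (S.subgroupOf (alternatingGroup (Fin n))) =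
          p ^ (Nat.card (alternatingGroup (Fin n))).factorization p := by
        rw [Nat.card_congr (Subgroup.subgroupOfEquivOfLe hSA).toEquiv]
        exact hScard
      exact Cfsg.Agent.Lib.Helper5.SymSyl.pow_mem_commutator_of_genIn
        (Cfsg.Agent.Lib.Helper5.SymSyl.genIn_sylow _ hcard'
          (Cfsg.Agent.Lib.Helper5.SymSyl.genIn_subgroupOf hSA hSgen) Q)
    · intro x
      haveI : Subsingleton (Fin n) := Fin.subsingleton_iff_le_one.mpr (by omega)
      have : x ^ p = 1 := Subsingleton.elim _ _
      rw [this]
      exact Subgroup.one_mem _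

end Cfsg.Agent.S4623
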