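import Cfsg.Statements.S4625
import Cfsg.Agent.Lib.helper14.SQD.MainCore
import Cfsg.Agent.Lib.Helper11.SQDL4
import Cfsg.Agent.Lib.Helper26.SQDP5
import Cfsg.Agent.Lib.helper14.SQD.UFIN
import Cfsg.Agent.Lib.Helper24.SQDOP6
import Cfsg.Agent.Lib.Helper24.SQDOM14
import Cfsg.Agent.Lib.helper14.SQD.C4
import Cfsg.Agent.Lib.Helper16.SQDTWF
import Cfsg.Agent.Lib.Helper26.SQDS1
import Cfsg.Agent.Lib.helper14.SQD.TFfin

set_option autoImplicit false
open Cfsg

namespace Cfsg.Agent.S4625

/-- Let G be a finite simple group of Lie type in characteristic 2, not counting the Tits group ²F₄(2)′. Then a Sylow 2-subgroup P of G has P/P' elementary abelian: the square of every element of P lies in the derived subgroup of P. -/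
theorem result {G : Type*} [Group G] [Finite G] [IsSimpleGroup G] (hG : Cfsg.IsLieTypeChar 2 G) (P : Sylow 2 G) :
    ∀ x : (P : Subgroup G), x ^ 2 ∈ commutator (P : Subgroup G) := by
  exact Cfsg.Agent.Lib.helper14.SQD.good2_sylow
    (Cfsg.Agent.Lib.helper14.SQD.sqdmain_good2_lie_core
      (fun n hn => Cfsg.Agent.Lib.helper14.SQD.good2_psl n hn)
      (fun m hm => Cfsg.Agent.Lib.helper14.SQD.good2_psp m hm)
      (fun n q hF hn => Cfsg.Agent.Lib.helper14.SQD.good2_psu n q hF hn)
      (fun m hm => Cfsg.Agent.Lib.helper14.SQD.good2_pomega_plus m hm)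
      (fun m hm a b hab => Cfsg.Agent.Lib.helper14.SQD.good2_pomega_minus m hm a b hab)
      (fun D hD => Cfsg.Agent.Lib.helper14.SQD.good2_chev D hD)
      (fun q hq hK => Cfsg.Agent.Lib.helper14.SQD.good2_tw_e6 q hq hK)
      (fun q hq hK => Cfsg.Agent.Lib.helper14.SQD.good2_tw_d4 q hq hK)
      (fun m hm hF => Cfsg.Agent.Lib.helper14.SQD.good2_sz m hm hF)
      (fun m hm hK => Cfsg.Agent.Lib.helper14.SQD.sqdtffin_good2 m hm hK) hG) P

end Cfsg.Agent.S4625
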