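import Cfsg.Statements.S4627
import Cfsg.Agent.Lib.Helper5.GLSylO

set_option autoImplicit false
open Cfsg

namespace Cfsg.Agent.S4627

/-- Let F be a finite field of odd order q and m ≥ 1. If 4 divides q + 1, or if 4 divides q − 1 and m is a power of 2, then a Sylow 2-subgroup P of SL_{2m}(F) has P/P' elementary abelian: the square of every element of P lies in the derived subgroup of P. -/
theorem result {F : Type*} [Field F] [Fintype F] (hF : Odd (Fintype.card F)) (m : ℕ) (hm : 1 ≤ m)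
    (hq : 4 ∣ Fintype.card F + 1 ∨ (4 ∣ Fintype.card F - 1 ∧ ∃ j : ℕ, m = 2 ^ j)) (P : Sylow 2 (Matrix.SpecialLinearGroup (Fin (2 * m)) F)) :
    ∀ x : (P : Subgroup (Matrix.SpecialLinearGroup (Fin (2 * m)) F)), x ^ 2 ∈ commutator (P : Subgroup (Matrix.SpecialLinearGroup (Fin (2 * m)) F)) := by
  haveI : Fact (Nat.Prime 2) := ⟨Nat.prime_two⟩
  have key : ∃ S : Subgroup (Matrix.SpecialLinearGroup (Fin (2 * m)) F),
      Nat.card S = 2 ^ (Nat.card (Matrix.SpecialLinearGroup (Fin (2 * m)) F)).factorization 2 ∧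
        Cfsg.Agent.Lib.Helper5.SymSyl.GenSq 2 S := by
    rcases hq with h | ⟨h, j, hj⟩
    · exact Cfsg.Agent.Lib.Helper5.SymSyl.exists_genSq_sylow_sl_even_A (F := F) hF h m hm
    · exact Cfsg.Agent.Lib.Helper5.SymSyl.exists_genSq_sylow_sl_B (F := F) h (2 * m) (j + 1)
        (by omega) (by rw [hj, pow_succ, mul_comm])
  obtain ⟨S, hScard, hSgen⟩ := key
  exact Cfsg.Agent.Lib.Helper5.SymSyl.pow_mem_commutator_of_genSq
    (Cfsg.Agent.Lib.Helper5.SymSyl.genSq_sylow S hScard hSgen P)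

end Cfsg.Agent.S4627
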