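import Cfsg.Statements.S4636

set_option autoImplicit false
open scoped Pointwise
open Cfsg

namespace Cfsg.Agent.S4636

theorem mem_of_pow_eq_one {G : Type*} [Group G] [Finite G] (p : ℕ) [Fact p.Prime] (P : Subgroup G)
    (hcyc : IsCyclic P) (Z : Subgroup G) (hZ : Z ≤ P) (hZcard : Nat.card Z = p)
    (y : G) (hyP : y ∈ P) (hy : y ^ p = 1) : y ∈ Z := by
  classical
  have hp : p.Prime := Fact.out
  let _ : Fintype P := Fintype.ofFinite P
  have hle := IsCyclic.card_pow_eq_one_le (α := P) hp.pos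
  set S : Set P := {a : P | a ^ p = 1} with hS
  have hScard : S.ncard ≤ p := by
    rw [Set.ncard_eq_toFinset_card']
    convert hle using 2
    ext a
    simp [hS]
  have hTS : ((Z.subgroupOf P : Subgroup P) : Set P) ⊆ S := by
    intro a ha
    have ha' : (a : G) ∈ Z := ha
    have h1 : (⟨(a : G), ha'⟩ : Z) ^ p = 1 := by
      rw [← hZcard]
      exact pow_card_eq_one'
    have h2 := congrArg (Subtype.val) h1
    simp only [hS, Set.mem_ofPred_eq]
    apply Subtype.ext
    simpa using h2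
  have hTcard : ((Z.subgroupOf P : Subgroup P) : Set P).ncard = p := by
    rw [← hZcard]
    have : Nat.card (Z.subgroupOf P) = Nat.card Z := Nat.card_congr (Subgroup.subgroupOfEquivOfLe hZ).toEquiv
    rw [← this]
    rfl
  have hEq : ((Z.subgroupOf P : Subgroup P) : Set P) = S :=
    Set.eq_of_subset_of_ncard_le hTS (by rw [hTcard]; exact hScard) (Set.toFinite _)
  have hyS : (⟨y, hyP⟩ : P) ∈ S := by
    simp only [hS, Set.mem_ofPred_eq]
    apply Subtype.ext
    simpa using hy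
  rw [← hEq] at hyS
  exact hyS

theorem le_of_ne_bot {G : Type*} [Group G] [Finite G] (p : ℕ) [Fact p.Prime] (P : Subgroup G)
    (hP : IsPGroup p P) (hcyc : IsCyclic P) (Z : Subgroup G) (hZ : Z ≤ P) (hZcard : Nat.card Z = p)
    (Q : Subgroup G) (hQ : Q ≤ P) (hQ1 : Q ≠ ⊥) : Z ≤ Q := by
  have hp : p.Prime := Fact.out
  have hQp : IsPGroup p Q := hP.to_le hQ
  have hdvd : p ∣ Nat.card Q := by
    rcases hQp.card_eq_or_dvd with h | h
    · exact absurd (Subgroup.card_eq_one.mp h) hQ1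
    · exact h
  obtain ⟨y, hy⟩ := exists_prime_orderOf_dvd_card' p hdvd
  have hyo : orderOf (y : G) = p := by rw [Subgroup.orderOf_coe]; exact hy
  have hyp : (y : G) ^ p = 1 := by rw [← hyo]; exact pow_orderOf_eq_one _
  have hyZ : (y : G) ∈ Z := mem_of_pow_eq_one p P hcyc Z hZ hZcard y (hQ y.2) hyp
  have hle : Subgroup.zpowers (y : G) ≤ Z := by
    rw [Subgroup.zpowers_le]; exact hyZ
  have heq : Subgroup.zpowers (y : G) = Z := by
    apply Subgroup.eq_of_le_of_card_ge hle
    rw [Nat.card_zpowers, hyo, hZcard]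
  rw [← heq, Subgroup.zpowers_le]
  exact y.2

theorem conj_mem_normalizer {G : Type*} [Group G] [Finite G] (p : ℕ) [Fact p.Prime] (P : Subgroup G)
    (hcyc : IsCyclic P) (Z : Subgroup G) (hZ : Z ≤ P) (hZcard : Nat.card Z = p)
    (g : G) (h : ∀ z ∈ Z, g * z * g⁻¹ ∈ P) : g ∈ Subgroup.normalizer (Z : Set G) := by
  apply Subgroup.mem_normalizer_fintype
  intro z hz
  apply mem_of_pow_eq_one p P hcyc Z hZ hZcard _ (h z hz)
  have h1 : (⟨z, hz⟩ : Z) ^ p = 1 := by
    rw [← hZcard]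
    exact pow_card_eq_one'
  have h2 : z ^ p = 1 := by simpa using congrArg Subtype.val h1
  rw [conj_pow, h2]
  simp

theorem result {G : Type*} [Group G] [Finite G] (p : ℕ) [Fact p.Prime] (P : Subgroup G) (hP : IsPGroup p P) (hP1 : P ≠ ⊥) (hcyc : IsCyclic P) (Z : Subgroup G) (hZ : Z ≤ P) (hZcard : Nat.card Z = p) : (∀ x : G, x ∉ Subgroup.normalizer (Z : Set G) → P ⊓ MulAut.conj x • P = ⊥) ∧ ∀ Q : Subgroup G, Q ≤ P → Q ≠ ⊥ → Subgroup.normalizer (Q : Set G) ≤ Subgroup.normalizer (Z : Set G) := by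
  constructor
  · intro x hx
    by_contra hne
    apply hx
    have hZQ : Z ≤ P ⊓ MulAut.conj x • P :=
      le_of_ne_bot p P hP hcyc Z hZ hZcard _ inf_le_left hne
    have hx' : x⁻¹ ∈ Subgroup.normalizer (Z : Set G) := by
      apply conj_mem_normalizer p P hcyc Z hZ hZcard
      intro z hz
      have hz' : z ∈ MulAut.conj x • P := (hZQ hz).2
      obtain ⟨w, hw, rfl⟩ := hz'
      have hw' : w ∈ P := hw
      simpa [MulAut.conj_apply, mul_assoc] using hw'
    simpa using inv_mem hx'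
  · intro Q hQ hQ1 g hg
    have hZQ : Z ≤ Q := le_of_ne_bot p P hP hcyc Z hZ hZcard Q hQ hQ1
    apply conj_mem_normalizer p P hcyc Z hZ hZcard
    intro z hz
    exact hQ ((Subgroup.mem_normalizer_iff.mp hg z).mp (hZQ hz))

end Cfsg.Agent.S4636
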