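import Cfsg.Statements.S4638
import Cfsg.Agent.Lib.helper7.KleinIso13

set_option autoImplicit false
open Cfsg

namespace Cfsg.Agent.S4638

/-- Let B be a block of the finite group G relative to a maximal ideal M of the algebraic integers containing 2, with a Klein four defect group P, and let c be its Brauer correspondent: the block of N_G(P) with defect group P that induces B. Then there is a perfect isometry from c onto B. -/
theorem result {G : Type*} [Group G] [Finite G] (M : Ideal Cfsg.AlgInt) (hM : Cfsg.IsPModular 2 M) (B : Set (Cfsg.IrrCharacter G)) (hB : Cfsg.IsPBlock M B) (P : Subgroup G) (hPD : Cfsg.IsDefectGroup 2 M B P) (hV : IsKleinFour P) (c : Set (Cfsg.IrrCharacter (Subgroup.normalizer (P : Set G)))) (hcD : Cfsg.IsDefectGroup 2 M c (P.subgroupOf (Subgroup.normalizer (P : Set G)))) (hc : Cfsg.IsInducedBlock M (Subgroup.normalizer (P : Set G)) c B) : ∃ (I : Cfsg.IrrCharacter (Subgroup.normalizer (P : Set G)) → Cfsg.IrrCharacter G) (ε :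 Cfsg.IrrCharacter (Subgroup.normalizer (P : Set G)) → ℤ), Cfsg.IsPerfectIsometry 2 M c B I ε := by
  classical
  haveI : Fact (Nat.Prime 2) := ⟨Nat.prime_two⟩
  haveI : Fintype G := Fintype.ofFinite _
  haveI : Fintype (Subgroup.normalizer (P : Set G)) := Fintype.ofFinite _
  have hPr := hM.2.1.isPrime
  have hPN : P ≤ Subgroup.normalizer (P : Set G) := Subgroup.le_normalizer
  obtain ⟨h13, hlc⟩ := Cfsg.Agent.Lib.helper7.h7_ki_rank_corr M hM B hB P hPD hV _ rfl c hcD hc
  have hdB := Cfsg.Agent.Lib.helper7.h7_ki_defect_two M hM B hB P hPD hV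
  have hVN : IsKleinFour (P.subgroupOf (Subgroup.normalizer (P : Set G))) :=
    Cfsg.Agent.Lib.helper7.h7_ki_kleinFour_of_equiv (Subgroup.subgroupOfEquivOfLe hPN) hV
  have hdc := Cfsg.Agent.Lib.helper7.h7_ki_defect_two M hM c hc.1 _ hcD hVN
  have hcardB := Cfsg.Agent.Lib.helper7.h7_kd_card_four M hM B hB hdB
  have hcardc := Cfsg.Agent.Lib.helper7.h7_kd_card_four M hM c hc.1 hdc
  -- a bijection
  obtain ⟨f⟩ := Finite.card_eq.mp (hcardc.trans hcardB.symm)
  obtain ⟨χ₀, hχ₀'⟩ := hB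
  have hB : Cfsg.IsPBlock M B := ⟨χ₀, hχ₀'⟩
  set I : Cfsg.IrrCharacter (Subgroup.normalizer (P : Set G)) → Cfsg.IrrCharacter G :=
    fun η => if h : η ∈ c then ((f ⟨η, h⟩ : B) : Cfsg.IrrCharacter G) else χ₀ with hIdef
  have hI : Set.BijOn I c B := by
    refine ⟨?_, ?_, ?_⟩
    · intro η hη
      simp only [hIdef, dif_pos hη]
      exact (f ⟨η, hη⟩).2
    · intro η hη η' hη' h
      simp only [hIdef, dif_pos hη, dif_pos hη'] at h
      have h2 := f.injective (Subtype.ext h)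
      exact congrArg Subtype.val h2
    · intro χ hχ
      refine ⟨(f.symm ⟨χ, hχ⟩ : c), (f.symm ⟨χ, hχ⟩).2, ?_⟩
      simp only [hIdef, dif_pos (f.symm ⟨χ, hχ⟩).2]
      simp
  rcases h13 with h1 | h3
  · obtain ⟨hregB, hsingB⟩ := Cfsg.Agent.Lib.helper7.h7_ki_struct_one M hM B hB P hPD hV h1
    obtain ⟨hregc, hsingc⟩ := Cfsg.Agent.Lib.helper7.h7_ki_struct_one M hM c hc.1 _ hcD hVN
      (hlc.trans h1)
    refine ⟨I, fun _ => 1, hI, fun η _ => Or.inl rfl, ?_⟩
    exact Cfsg.Agent.Lib.helper7.h7_ki_perfect_one M hM B hB hdB c hc.1 hdc hregB hsingB hregc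
      hsingc I hI
  · obtain ⟨δB, hpmB, hstarB, hsingB⟩ :=
      Cfsg.Agent.Lib.helper7.h7_ki_struct_three M hM B hB P hPD hV h3
    obtain ⟨δc, hpmc, hstarc, hsingc⟩ :=
      Cfsg.Agent.Lib.helper7.h7_ki_struct_three M hM c hc.1 _ hcD hVN (hlc.trans h3)
    refine ⟨I, fun η => δc η * δB (I η), hI, ?_, ?_⟩
    · intro η hη
      rcases hpmc η hη with h | h <;> rcases hpmB (I η) (hI.mapsTo hη) with h' | h' <;>
        simp only [h, h'] <;> norm_num
    · exact Cfsg.Agent.Lib.helper7.h7_ki_perfect_three M hM B hB hdB c hc.1 hdc δB hpmB hstarB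
        hsingB δc hpmc hstarc hsingc I hI

end Cfsg.Agent.S4638
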