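import Cfsg.Statements.S4665
import Cfsg.Agent.Lib.Helper25.CharRestrict

set_option autoImplicit false
open Cfsg

namespace Cfsg.Agent.S4665

open Cfsg.Agent.Lib.Helper25 in
/-- Fix a prime p, a maximal ideal M of the algebraic integers containing p, and a p-block B of the finite group G, and let p^a be the p-part of the order of G. Let χ be an integer combination of the irreducible characters in B. If the function that agrees with χ on p-regular elements and vanishes on p-singular elements is again an integer combination of the irreducible characters in B, then p^a divides χ(1). -/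
theorem result {G : Type*} [Group G] [Fintype G] (p : ℕ) [Fact p.Prime] (M : Ideal Cfsg.AlgInt) (hM : Cfsg.IsPModular p M) (B : Set (Cfsg.IrrCharacter G)) (hB : Cfsg.IsPBlock M B) (χ : G → ℂ) (hχ : (∃ n : Cfsg.IrrCharacter G → ℤ, ∀ g : G, χ g = ∑ᶠ ψ ∈ B, (n ψ : ℂ) * (ψ : G → ℂ) g)) (h0 : (∃ n : Cfsg.IrrCharacter G → ℤ, ∀ g : G, Cfsg.pRegularPart p χ g = ∑ᶠ ψ ∈ B, (n ψ : ℂ) * (ψ : G → ℂ) g)) : ∃ k : ℤ, χ 1 = (p ^ (Nat.card G).factorization p : ℂ) * k := by
  classical
  obtain ⟨n, hn⟩ := h0
  obtain ⟨P⟩ : Nonempty (Sylow p G) := inferInstance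
  have hcard : Nat.card (P : Subgroup G) = p ^ (Nat.card G).factorization p :=
    P.card_eq_multiplicity
  haveI : Fintype (P : Subgroup G) := Fintype.ofFinite _
  have hfin : (B : Set (Cfsg.IrrCharacter G)).Finite := Set.toFinite B
  have hsum1 : ∑ x : (P : Subgroup G), Cfsg.pRegularPart p χ (x : G) = χ 1 := by
    rw [Finset.sum_eq_single (1 : (P : Subgroup G))]
    · unfold Cfsg.pRegularPart
      have : Cfsg.IsPRegular p (((1 : (P : Subgroup G)) : G)) :=
        (pRegular_iff_eq_one p _ P.isPGroup' 1).2 rfl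
      simp only [this, if_true]
      rfl
    · intro x _ hx
      unfold Cfsg.pRegularPart
      have : ¬ Cfsg.IsPRegular p (x : G) := fun h =>
        hx ((pRegular_iff_eq_one p _ P.isPGroup' x).1 h)
      simp only [this, if_false]
    · intro h
      exact absurd (Finset.mem_univ _) h
  choose k hk using fun ψ : Cfsg.IrrCharacter G => sum_subgroup_irr (P : Subgroup G) ψ
  refine ⟨∑ ψ ∈ hfin.toFinset, n ψ * (k ψ : ℤ), ?_⟩
  rw [← hsum1]
  simp_rw [hn, finsum_mem_eq_finite_toFinset_sum _ hfin]
  rw [Finset.sum_comm]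
  simp_rw [← Finset.mul_sum, hk, hcard]
  push_cast
  rw [Finset.mul_sum]
  refine Finset.sum_congr rfl fun ψ _ => ?_
  ring

end Cfsg.Agent.S4665
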