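import Cfsg.Statements.S4702
import Cfsg.Agent.Lib.helper6.Sharp3
import Cfsg.Agent.Lib.helper6.PGLSL

set_option autoImplicit false
open Cfsg

namespace Cfsg.Agent.S4702

/-- Three distinct points as an embedding of `Fin 3`. -/
def emb3 {α : Type*} (a b c : α) (hab : a ≠ b) (hbc : b ≠ c) (hac : a ≠ c) : Fin 3 ↪ α :=
  ⟨![a, b, c], by
    intro i j hij
    fin_cases i <;> fin_cases j <;> simp_all [Ne.symm hab, Ne.symm hbc, Ne.symm hac]⟩

theorem emb3_0 {α : Type*} (a b c : α) (hab : a ≠ b) (hbc : b ≠ c) (hac : a ≠ c) :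
    emb3 a b c hab hbc hac 0 = a := rfl
theorem emb3_1 {α : Type*} (a b c : α) (hab : a ≠ b) (hbc : b ≠ c) (hac : a ≠ c) :
    emb3 a b c hab hbc hac 1 = b := rfl
theorem emb3_2 {α : Type*} (a b c : α) (hab : a ≠ b) (hbc : b ≠ c) (hac : a ≠ c) :
    emb3 a b c hab hbc hac 2 = c := rfl

/-- Let G be a triply transitive permutation group on a finite set of odd size m ≥ 3 in which only the identity fixes three or more points. Then m = 2^a + 1 for some a ≥ 1 and G is isomorphic to SL(2, 2^a). -/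
theorem result {α : Type*} [Fintype α] [DecidableEq α] (hm : 3 ≤ Fintype.card α) (hodd : Odd (Fintype.card α)) (G : Subgroup (Equiv.Perm α)) (h3 : MulAction.IsMultiplyPretransitive G α 3) (hfix : ∀ g : G, 3 ≤ Nat.card (MulAction.fixedBy α g) → g = 1) : ∃ a : ℕ, 1 ≤ a ∧ Fintype.card α = 2 ^ a + 1 ∧ ∃ (F : Type) (_ : Field F) (_ : Fintype F), Fintype.card F = 2 ^ a ∧ Nonempty (G ≃* Matrix.SpecialLinearGroup (Fin 2) F) := by
  have T3 : ∀ a b c a' b' c' : α, a ≠ b → b ≠ c → a ≠ c → a' ≠ b' → b' ≠ c' → a' ≠ c' →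
      ∃ g : G, g • a = a' ∧ g • b = b' ∧ g • c = c' := by
    intro a b c a' b' c' hab hbc hac hab' hbc' hac'
    obtain ⟨g, hg⟩ := h3.exists_smul_eq (emb3 a b c hab hbc hac) (emb3 a' b' c' hab' hbc' hac')
    refine ⟨g, ?_, ?_, ?_⟩
    · have := congrArg (fun x : Fin 3 ↪ α => x 0) hg
      simpa [Function.Embedding.smul_apply, emb3_0] using this
    · have := congrArg (fun x : Fin 3 ↪ α => x 1) hg
      simpa [Function.Embedding.smul_apply, emb3_1] using this
    · have := congrArg (fun x : Fin 3 ↪ α => x 2) hg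
      simpa [Function.Embedding.smul_apply, emb3_2] using this
  have S3 : ∀ g : G, ∀ a b c : α, a ≠ b → b ≠ c → a ≠ c → g • a = a → g • b = b → g • c = c →
      g = 1 := by
    intro g a b c hab hbc hac ha hb hc
    apply hfix g
    have hsub : ({a, b, c} : Set α) ⊆ MulAction.fixedBy α g := by
      intro x hx
      rcases hx with rfl | rfl | rfl
      · exact ha
      · exact hb
      · exact hc
    have h3c : ({a, b, c} : Set α).ncard = 3 := Set.ncard_eq_three.mpr ⟨a, b, c, hab, hac, hbc, rfl⟩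
    rw [Nat.card_coe_set_eq, ← h3c]
    exact Set.ncard_le_ncard hsub (Set.toFinite _)
  obtain ⟨pinf, p0, p1, hi0, hi1, h01⟩ := Fintype.two_lt_card_iff.mp hm
  obtain ⟨F, iF, iFin, hcard, ⟨hiso⟩⟩ :=
    Cfsg.Agent.Lib.helper6.Sharp3.sharp3_odd (G := G) (α := α) hodd T3 S3 h01 hi0 hi1
  -- card F is even
  have heven : Even (Fintype.card F) := by
    rcases Nat.even_or_odd (Fintype.card F) with h | h
    · exact h
    · exfalso
      have : Even (Fintype.card F + 1) := h.add_one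
      rw [hcard] at this
      exact (Nat.not_even_iff_odd.mpr hodd) this
  obtain ⟨p, hchar, n, hp, hpn⟩ := FiniteField.card' F
  have hp2 : p = 2 := by
    have h2 : 2 ∣ p ^ (n : ℕ) := by rw [← hpn]; exact heven.two_dvd
    exact ((Nat.prime_dvd_prime_iff_eq Nat.prime_two hp).mp (Nat.prime_two.dvd_of_dvd_pow h2)).symm
  subst hp2
  have h2F : (2 : F) = 0 := by
    have := CharP.cast_eq_zero F 2
    exact_mod_cast this
  obtain ⟨e2⟩ := Cfsg.Agent.Lib.helper6.PGLSL.nonempty_PGL2_mulEquiv_SL2 (F := F) h2F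
  refine ⟨n, n.2, ?_, F, iF, iFin, hpn, ⟨hiso.trans e2⟩⟩
  rw [← hcard, hpn]

end Cfsg.Agent.S4702
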