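import Cfsg.Statements.S4707
import Cfsg.Agent.Lib.Helper24.P2P.Main

set_option autoImplicit false
open Cfsg

namespace Cfsg.Agent.S4707

/-- Let p > 3 be a prime and G a primitive permutation group of degree 2p that is not doubly transitive. If a Sylow p-subgroup of G has normalizer of order 2p, then p = 5 and G is isomorphic to the alternating group of degree 5. -/
theorem result {α : Type*} [Fintype α] [DecidableEq α] {p : ℕ} [Fact p.Prime] (hp : 3 < p) (hα : Fintype.card α = 2 * p) (G : Subgroup (Equiv.Perm α)) (hprim : MulAction.IsPreprimitive G α) (hnot2 : ¬ MulAction.IsMultiplyPretransitive G α 2) (P : Sylow p G) (hN : Nat.card (Subgroup.normalizer ((P : Subgroup G) : Set G)) = 2 * p) : p = 5 ∧ Nonempty (G ≃* alternatingGroup (Fin 5)) := by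
  classical
  have hpp : p.Prime := Fact.out
  have hodd : p ≠ 2 := by omega
  have hfpf : ∀ g : G, orderOf g = p → ∀ ω : α, g • ω ≠ ω :=
    fun g hg ω hω => hnot2 (Cfsg.Agent.Lib.Lead.W2P.jordan_two_trans hpp hodd hα G hprim g hg ω hω)
  haveI : Fintype G := Fintype.ofFinite _
  have hP := Cfsg.Agent.Lib.Lead.W2P.sylow_card_eq hodd hprim.toIsPretransitive hα hfpf P
  have S : Cfsg.Agent.Lib.Lead.W2P.Setting G α p P :=
    { prim := hprim
      faithful := inferInstance
      card := hα
      odd := hodd
      not2 := hnot2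
      fpf := hfpf
      cardP := hP }
  have S2 : Cfsg.Agent.Lib.Helper24.P2P.Setting2 G α p P := ⟨S, hp, hN⟩
  have h5 := Cfsg.Agent.Lib.Helper24.P2P.p_eq_five S2
  subst h5
  exact ⟨rfl, Cfsg.Agent.Lib.Helper24.P2P.iso_A5 S2⟩

end Cfsg.Agent.S4707
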