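import Cfsg.Statements.S4719
import Cfsg.Agent.Lib.Helper24.DefClassBlock

set_option autoImplicit false
universe u
open Cfsg

namespace Cfsg.Agent.S4719

theorem result (a : ℕ) : ∃ N : ℕ, ∀ (G : Type u) [Group G] [Finite G] (M : Ideal Cfsg.AlgInt) (r : ℕ) (P : Sylow 2 G), Cfsg.IsPModular 2 M → Nat.card P = 2 ^ a → (∀ B : Set (Cfsg.IrrCharacter G), Cfsg.IsPBlock M B → B ≠ Cfsg.principalBlock M G → Cfsg.blockDefect 2 B < r) → (∃ E : Subgroup G, E ≤ (P : Subgroup G) ∧ IsMulCommutative E ∧ (∀ x ∈ E, x * x = 1) ∧ Nat.card E = 2 ^ (r + 1)) → Nat.card G ≤ N := by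
  haveI : Fact (Nat.Prime 2) := ⟨Nat.prime_two⟩
  refine ⟨(Finset.range a).sup
    (fun r => Classical.choose (Cfsg.Agent.Lib.Helper24.dcb_Q.{u} r a)), ?_⟩
  intro G _ _ M r P hM hP hdef hE
  obtain ⟨E, hEP, hEcomm, hEinv, hEcard⟩ := hE
  have hfac : (Nat.card G).factorization 2 = a := by
    have h1 := P.card_eq_multiplicity
    rw [hP] at h1
    exact (Nat.pow_right_injective (le_refl 2) h1).symm
  have hra : r < a := by
    have h1 := Subgroup.card_le_of_le hEP
    have h2 : Nat.card (P : Subgroup G) = 2 ^ a := hP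
    rw [hEcard, h2] at h1
    have h3 := (Nat.pow_le_pow_iff_right (by norm_num : 1 < 2)).mp h1
    omega
  have hspec := Classical.choose_spec (Cfsg.Agent.Lib.Helper24.dcb_Q.{u} r a)
  have hle : Classical.choose (Cfsg.Agent.Lib.Helper24.dcb_Q.{u} r a) ≤
      (Finset.range a).sup (fun r => Classical.choose (Cfsg.Agent.Lib.Helper24.dcb_Q.{u} r a)) :=
    Finset.le_sup (f := fun r => Classical.choose (Cfsg.Agent.Lib.Helper24.dcb_Q.{u} r a))
      (Finset.mem_range.mpr hra)
  refine le_trans ?_ hle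
  apply hspec G M 0 ⊥ E hM hfac.le bot_le (by rw [Subgroup.card_bot, pow_zero]) bot_le
  · intro x hx y hy
    have h1 := hEcomm.is_comm.comm (⟨x, hx⟩ : E) ⟨y, hy⟩
    exact congrArg Subtype.val h1
  · exact hEinv
  · rw [hEcard]; congr 1; omega
  · intro B hB hne
    have := hdef B hB hne
    omega

end Cfsg.Agent.S4719
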