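import Cfsg.Statements.S4723
import Cfsg.Agent.Lib.Helper26.HeightZeroStable

set_option autoImplicit false
open Cfsg

namespace Cfsg.Agent.S4723

/-- Let p be a prime, M a maximal ideal of the algebraic integers containing p, H a normal subgroup of the finite group G and b a p-block of H. Let T be the stabilizer of b in G. Then b contains a character θ of height zero whose own stabilizer in G (the elements g with θ(g h g⁻¹) = θ(h) for all h ∈ H) has index prime to p in T, i.e. contains a Sylow p-subgroup of T. -/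
theorem result {G : Type*} [Group G] [Finite G] (p : ℕ) [Fact p.Prime] (M : Ideal Cfsg.AlgInt) (hM : Cfsg.IsPModular p M) (H : Subgroup G) [H.Normal] (b : Set (Cfsg.IrrCharacter ↥H)) (hb : Cfsg.IsPBlock M b) (T : Subgroup G) (hT : (∀ g : G, g ∈ T ↔ ∀ θ ∈ b, ∀ θ' : Cfsg.IrrCharacter ↥H, (∀ h h' : ↥H, (h' : G) = g * h * g⁻¹ → (θ' : ↥H → ℂ) h' = (θ : ↥H → ℂ) h) → θ' ∈ b)) : ∃ θ ∈ b, Cfsg.blockHeight p b (θ : ↥H → ℂ) = 0 ∧ ∃ S : Subgroup G, S ≤ T ∧ (∀ g : G, g ∈ S ↔ (g ∈ T ∧ ∀ h h' : ↥H, (h' : G) = g * h * g⁻¹ → (θ : ↥H → ℂ) h' = (θ : ↥H → ℂ) h)) ∧ ¬ p ∣ S.relIndex T := by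
  classical
  obtain ⟨Q⟩ : Nonempty (Sylow p ↥T) := inferInstance
  obtain ⟨θ, hθ, hht, hfix⟩ := Cfsg.Agent.Lib.Helper26.hzs_main p M hM H b hb T hT Q
  have hH : H.Normal := inferInstance
  refine ⟨θ, hθ, hht, ?_⟩
  let S : Subgroup G :=
    { carrier := {g | g ∈ T ∧ ∀ h h' : ↥H, (h' : G) = g * h * g⁻¹ →
        (θ : ↥H → ℂ) h' = (θ : ↥H → ℂ) h}
      mul_mem' := by
        rintro g₁ g₂ ⟨h1T, h1⟩ ⟨h2T, h2⟩
        refine ⟨T.mul_mem h1T h2T, ?_⟩
        intro h h' hh'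
        have hmem : g₂ * (h : G) * g₂⁻¹ ∈ H := hH.conj_mem (h : G) h.2 g₂
        rw [h1 ⟨g₂ * (h : G) * g₂⁻¹, hmem⟩ h' (by rw [hh']; simp [mul_assoc]),
          h2 h ⟨g₂ * (h : G) * g₂⁻¹, hmem⟩ rfl]
      one_mem' := by
        refine ⟨T.one_mem, ?_⟩
        intro h h' hh'
        have : h' = h := Subtype.ext (by rw [hh']; simp)
        rw [this]
      inv_mem' := by
        rintro g ⟨hgT, hg⟩
        refine ⟨T.inv_mem hgT, ?_⟩
        intro h h' hh'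
        exact (hg h' h (by rw [hh']; simp [mul_assoc])).symm }
  have hS : ∀ g : G, g ∈ S ↔ (g ∈ T ∧ ∀ h h' : ↥H, (h' : G) = g * h * g⁻¹ →
      (θ : ↥H → ℂ) h' = (θ : ↥H → ℂ) h) := fun g => Iff.rfl
  refine ⟨S, fun g hg => hg.1, hS, ?_⟩
  have hle : (Q : Subgroup ↥T) ≤ S.subgroupOf T := by
    intro t ht
    rw [Subgroup.mem_subgroupOf, hS]
    exact ⟨t.2, hfix t ht⟩
  have h1 : (S.subgroupOf T).index ∣ (Q : Subgroup ↥T).index := Subgroup.index_dvd_of_le hle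
  intro hdvd
  exact Q.not_dvd_index (dvd_trans hdvd h1)

end Cfsg.Agent.S4723
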