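import Cfsg.Statements.S4726
import Cfsg.Agent.Lib.Helper25.InducedNested
import Cfsg.Agent.Lib.helper7.SecondMain3

set_option autoImplicit false
open Cfsg

namespace Cfsg.Agent.S4726

/-- Let p be a prime, M a maximal ideal of the algebraic integers containing p, H a subgroup of the finite group G and b a p-block of H with defect group D₀ such that C_G(D₀) ≤ H. Then b induces a block of G, and for every block B of G induced by b there is a defect group D of B with Z(D) ≤ Z(D₀) ≤ D₀ ≤ D (as subgroups of G). In particular, if the defect groups of B are abelian then D₀ is a defect group of B. -/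
theorem result {G : Type*} [Group G] [Finite G] (p : ℕ) [Fact p.Prime] (M : Ideal Cfsg.AlgInt) (hM : Cfsg.IsPModular p M) (H : Subgroup G) (b : Set (Cfsg.IrrCharacter ↥H)) (hb : Cfsg.IsPBlock M b) (D₀ : Subgroup ↥H) (hD₀ : Cfsg.IsDefectGroup p M b D₀) (hC : Subgroup.centralizer ((D₀.map H.subtype : Subgroup G) : Set G) ≤ H) : Cfsg.InducedBlockDefined M H b ∧ ∀ B : Set (Cfsg.IrrCharacter G), Cfsg.IsInducedBlock M H b B → (∃ D : Subgroup G, Cfsg.IsDefectGroup p M B D ∧ (Subgroup.center ↥D).map D.subtype ≤ ((Subgroup.center ↥D₀).map D₀.subtype).map H.subtype ∧ ((Subgroup.center ↥D₀).map D₀.subtype).map H.subtype ≤ D₀.map H.subtype ∧ D₀.map H.subtype ≤ D) ∧ (∀ D : Subgroup G, Cfsg.IsDefectGroup p M B D → IsMulCommutative ↥D → Cfsg.IsDefectGroup p M B (D₀.map H.subtype)) := by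
  classical
  have : Fintype G := Fintype.ofFinite G
  haveI : Fintype (Cfsg.IrrCharacter G) := Fintype.ofFinite _
  have hPr := hM.2.1.isPrime
  obtain ⟨B₁, hind₁, R, hRdef, hDR, hcen⟩ :=
    Cfsg.Agent.Lib.Helper25.bq_induced_nested p M hM H b hb D₀ hD₀ hC
  refine ⟨⟨B₁, hind₁⟩, ?_⟩
  intro B hind
  have hBB : B = B₁ := Cfsg.Agent.Lib.helper7.h7_induced_unique hPr H b B B₁ hind hind₁
  rw [hBB]
  refine ⟨⟨R, hRdef, ?_, ?_, hDR⟩, ?_⟩
  · rintro _ ⟨z, hz, rfl⟩
    have hzc : ∀ w ∈ R, (z : G) * w = w * (z : G) := by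
      intro w hw
      have := Subgroup.mem_center_iff.mp hz ⟨w, hw⟩
      exact (congrArg Subtype.val this).symm
    obtain ⟨d, hd, hdz⟩ := hcen (z : G) z.2 hzc
    refine ⟨d, ⟨⟨d, hd⟩, ?_, rfl⟩, hdz⟩
    rw [SetLike.mem_coe, Subgroup.mem_center_iff]
    intro u
    apply Subtype.ext
    apply Subtype.ext
    have hu : ((u : H) : G) ∈ R := hDR ⟨(u : H), u.2, rfl⟩
    have h1 := hzc _ hu
    have hdz' : (d : G) = (z : G) := hdz
    show ((u : H) : G) * (d : G) = (d : G) * ((u : H) : G)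
    rw [hdz', h1]
  · rintro _ ⟨z, ⟨c, _, rfl⟩, rfl⟩
    exact ⟨(c : H), c.2, rfl⟩
  · intro D hD hDab
    obtain ⟨x, hx⟩ := Cfsg.Agent.Lib.Helper24.qh_defect_conj p M hM B₁ hind₁.2.1 D R hD hRdef
    have hcomm : ∀ a ∈ R, ∀ w ∈ R, a * w = w * a := by
      intro a ha w hw
      rw [hx] at ha hw
      obtain ⟨a', ha', rfl⟩ := ha
      obtain ⟨w', hw', rfl⟩ := hw
      have := (isMulCommutative_iff.mp hDab) ⟨a', ha'⟩ ⟨w', hw'⟩
      have h2 : a' * w' = w' * a' := congrArg Subtype.val this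
      rw [← map_mul, ← map_mul, h2]
    have hRle : R ≤ D₀.map H.subtype := fun a ha => hcen a ha (hcomm a ha)
    have heq : D₀.map H.subtype = R := le_antisymm hDR hRle
    rw [heq]
    exact hRdef

end Cfsg.Agent.S4726
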