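import Cfsg.Statements.S4737
import Cfsg.Agent.Lib.Helper25.DefectZeroCount

set_option autoImplicit false
open Cfsg

namespace Cfsg.Agent.S4737

/-- Let G be a finite group of order divisible by 6. Then the number of irreducible characters of G whose degree has the same 2-part as the order of G (the characters of 2-defect zero, each forming a 2-block of defect zero on its own) is at least the number of conjugacy classes of elements of order 3 that normalize no nontrivial 2-subgroup of G. In particular G has a 2-block of defect zero as soon as some element of order 3 normalizes no nontrivial 2-subgroup. -/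
theorem result {G : Type*} [Group G] [Finite G] (h6 : 6 ∣ Nat.card G) : Nat.card {C : ConjClasses G // ∃ g ∈ C.carrier, orderOf g = 3 ∧ ∀ Q : Subgroup G, IsPGroup 2 ↥Q → g ∈ Subgroup.normalizer (Q : Set G) → Q = ⊥} ≤ Nat.card {χ : Cfsg.IrrCharacter G // (Cfsg.charDegree (χ : G → ℂ)).factorization 2 = (Nat.card G).factorization 2} := by
  classical
  haveI : Fintype {C : ConjClasses G // ∃ g ∈ C.carrier, orderOf g = 3 ∧
      ∀ Q : Subgroup G, IsPGroup 2 ↥Q → g ∈ Subgroup.normalizer (Q : Set G) → Q = ⊥} :=
    Fintype.ofFinite _
  rw [Nat.card_eq_fintype_card]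
  refine Cfsg.Agent.Lib.Helper25.defect_zero_count (fun C => Classical.choose C.2) ?_ ?_ ?_
  · intro C
    have h := (Classical.choose_spec C.2).2.1
    have h3 := pow_orderOf_eq_one (Classical.choose C.2)
    rw [h] at h3
    rw [← h3, pow_succ, pow_succ, pow_one]
  · intro C
    exact (Classical.choose_spec C.2).2.2
  · intro C C' hconj
    have h1 := (Classical.choose_spec C.2).1
    have h2 := (Classical.choose_spec C'.2).1
    rw [ConjClasses.mem_carrier_iff_mk_eq] at h1 h2
    apply Subtype.ext
    rw [← h1, ← h2, ConjClasses.mk_eq_mk_iff_isConj]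
    exact hconj

end Cfsg.Agent.S4737
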