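import Cfsg.Statements.S4744
import Cfsg.Agent.Lib.Helper25.InvolSylow
import Cfsg.Agent.S4742

set_option autoImplicit false
set_option linter.deprecated false
open Cfsg

namespace Cfsg.Agent.S4744
open scoped Pointwise

open Cfsg.Agent.Lib.Helper25 in
/-- Let p be an odd prime and G a finite group of even order divisible by p in which the centralizer of every non-identity p-element has odd order. Then either G has an irreducible character of p-defect zero, or the normalizer of every Sylow p-subgroup P of G has even order and P is abelian. -/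
theorem result {G : Type*} [Group G] [Finite G] (p : ℕ) [Fact p.Prime] (hp2 : p ≠ 2) (hpG : p ∣ Nat.card G) (h2G : 2 ∣ Nat.card G) (hC : ∀ g : G, g ≠ 1 → (∃ k : ℕ, orderOf g = p ^ k) → Odd (Nat.card ↥(Subgroup.centralizer ({g} : Set G)))) : (∃ χ : Cfsg.IrrCharacter G, (Cfsg.charDegree (χ : G → ℂ)).factorization p = (Nat.card G).factorization p) ∨ ∀ P : Sylow p G, Even (Nat.card ↥(Subgroup.normalizer ((P : Subgroup G) : Set G))) ∧ IsMulCommutative ↥(P : Subgroup G) := by
  haveI : Fact (Nat.Prime 2) := ⟨Nat.prime_two⟩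
  have hC' : ∀ g : G, g ≠ 1 → (∃ k : ℕ, orderOf g = p ^ k) →
      ¬ 2 ∣ Nat.card ↥(Subgroup.centralizer ({g} : Set G)) := by
    intro g hg1 hgp h2
    exact (Nat.not_even_iff_odd.2 (hC g hg1 hgp)) (even_iff_two_dvd.2 h2)
  rcases Cfsg.Agent.S4742.result p 2 hp2 hpG h2G hC' with h | h
  · exact Or.inl h
  right
  obtain ⟨z, hz⟩ := exists_prime_orderOf_dvd_card' (G := G) 2 h2G
  have hz1 : z ≠ 1 := by
    intro h1
    rw [h1, orderOf_one] at hz
    norm_num at hz
  obtain ⟨g, h', hzg, hzh, hw1, k, hwk⟩ := h z hz1 ⟨1, by rw [hz, pow_one]⟩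
  have hg2 : g * g = 1 := by
    obtain ⟨c, hc⟩ := isConj_iff.1 hzg
    have hzz : z * z = 1 := by
      have := pow_orderOf_eq_one z
      rwa [hz, pow_two] at this
    rw [← hc]
    calc c * z * c⁻¹ * (c * z * c⁻¹) = c * (z * z) * c⁻¹ := by group
      _ = 1 := by rw [hzz]; group
  have hh2 : h' * h' = 1 := by
    obtain ⟨c, hc⟩ := isConj_iff.1 hzh
    have hzz : z * z = 1 := by
      have := pow_orderOf_eq_one z
      rwa [hz, pow_two] at this
    rw [← hc]
    calc c * z * c⁻¹ * (c * z * c⁻¹) = c * (z * z) * c⁻¹ := by group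
      _ = 1 := by rw [hzz]; group
  have hginv : g⁻¹ = g := inv_eq_of_mul_eq_one_right hg2
  have hhinv : h'⁻¹ = h' := inv_eq_of_mul_eq_one_right hh2
  have hg1 : g ≠ 1 := by
    intro h1
    apply hz1
    rw [h1] at hzg
    exact isConj_one_left.1 hzg
  have htu : g * (g * h'⁻¹) * g⁻¹ = (g * h'⁻¹)⁻¹ := by
    rw [mul_inv_rev, inv_inv, hginv, hhinv]
    calc g * (g * h') * g = (g * g) * h' * g := by group
      _ = h' * g := by rw [hg2, one_mul]
  obtain ⟨S, hScard, hSt, hSab⟩ := exists_inv_sylow p hC g (g * h'⁻¹) hg2 hg1 hw1 ⟨k, hwk⟩ htu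
  let P₀ : Sylow p G := Sylow.ofCard S hScard
  have hP₀ : ((P₀ : Sylow p G) : Subgroup G) = S := rfl
  intro P
  obtain ⟨c, hc⟩ := MulAction.exists_smul_eq G P₀ P
  have hmem : ∀ a : G, a ∈ (P : Subgroup G) ↔ c⁻¹ * a * c ∈ S := by
    intro a
    rw [← hc, Sylow.smul_def]
    change a ∈ MulAut.conj c • (P₀ : Subgroup G) ↔ _
    rw [Subgroup.mem_pointwise_smul_iff_inv_smul_mem, hP₀]
    simp [MulAut.smul_def]
  constructor
  · set t' := c * g * c⁻¹ with ht'
    have ht'2 : t' * t' = 1 := by
      rw [ht']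
      calc c * g * c⁻¹ * (c * g * c⁻¹) = c * (g * g) * c⁻¹ := by group
        _ = 1 := by rw [hg2]; group
    have ht'1 : t' ≠ 1 := by
      intro h1
      apply hg1
      have : g = c⁻¹ * t' * c := by rw [ht']; group
      rw [this, h1]
      group
    have ht'inv : t'⁻¹ = t' := inv_eq_of_mul_eq_one_right ht'2
    have hconj : ∀ a ∈ (P : Subgroup G), t' * a * t'⁻¹ ∈ (P : Subgroup G) := by
      intro a ha
      rw [hmem] at ha ⊢
      have := hSt _ ha
      have heq : c⁻¹ * (t' * a * t'⁻¹) * c = g * (c⁻¹ * a * c) * g⁻¹ := by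
        rw [ht']; group
      rw [heq]
      exact this
    have hnorm : t' ∈ Subgroup.normalizer ((P : Subgroup G) : Set G) := by
      rw [Subgroup.mem_normalizer_iff]
      intro a
      constructor
      · exact hconj a
      · intro ha
        have := hconj _ ha
        rw [ht'inv] at this
        have heq : t' * (t' * a * t') * t' = a := by
          calc t' * (t' * a * t') * t' = (t' * t') * a * (t' * t') := by group
            _ = a := by rw [ht'2, one_mul, mul_one]
        rwa [heq] at this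
    have hto : orderOf t' = 2 := orderOf_eq_prime (by rw [pow_two]; exact ht'2) ht'1
    have h2 : 2 ∣ Nat.card (Subgroup.normalizer ((P : Subgroup G) : Set G)) := by
      have := orderOf_dvd_natCard
        (⟨t', hnorm⟩ : Subgroup.normalizer ((P : Subgroup G) : Set G))
      rwa [Subgroup.orderOf_mk, hto] at this
    exact even_iff_two_dvd.2 h2
  · refine ⟨⟨fun a b => ?_⟩⟩
    apply Subtype.ext
    simp only [Subgroup.coe_mul]
    have ha := (hmem a).1 a.2
    have hb := (hmem b).1 b.2
    have := hSab _ ha _ hb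
    calc (a : G) * b = c * ((c⁻¹ * a * c) * (c⁻¹ * b * c)) * c⁻¹ := by group
      _ = c * ((c⁻¹ * b * c) * (c⁻¹ * a * c)) * c⁻¹ := by rw [this]
      _ = b * a := by group

end Cfsg.Agent.S4744
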