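import Cfsg.Statements.S4738
import Cfsg.Agent.Lib.Helper25.InvolSylow2
import Cfsg.Agent.S4742
import Cfsg.Agent.S4744

set_option autoImplicit false
set_option linter.deprecated false
open Cfsg

namespace Cfsg.Agent.S4738
open scoped Pointwise

open Cfsg.Agent.Lib.Helper25 in
/-- Let p be an odd prime and G a finite group of even order containing no element of order 2p. Then either G has an irreducible character of p-defect zero (its degree has the same p-part as the order of G), or every Sylow p-subgroup of G is abelian and all involutions of G are conjugate. -/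
theorem result {G : Type*} [Group G] [Finite G] (p : ℕ) [Fact p.Prime] (hp2 : p ≠ 2) (hG : Even (Nat.card G)) (h2p : ∀ g : G, orderOf g ≠ 2 * p) : (∃ χ : Cfsg.IrrCharacter G, (Cfsg.charDegree (χ : G → ℂ)).factorization p = (Nat.card G).factorization p) ∨ ((∀ P : Sylow p G, IsMulCommutative ↥(P : Subgroup G)) ∧ ∀ s t : G, orderOf s = 2 → orderOf t = 2 → IsConj s t) := by
  have hpp : p.Prime := Fact.out
  haveI : Fact (Nat.Prime 2) := ⟨Nat.prime_two⟩
  by_cases hpG : p ∣ Nat.card G
  swap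
  · left
    refine ⟨trivIrr G, ?_⟩
    have h1 : Cfsg.charDegree (trivIrr G : G → ℂ) = 1 := by
      unfold Cfsg.charDegree
      rw [trivIrr_apply]
      simp
    rw [h1, Nat.factorization_one, Nat.factorization_eq_zero_of_not_dvd hpG]
    rfl
  have h2G : 2 ∣ Nat.card G := hG.two_dvd
  have hC := odd_centralizer_of_no_2p p hp2 h2p
  have hC' : ∀ g : G, g ≠ 1 → (∃ k : ℕ, orderOf g = p ^ k) →
      ¬ 2 ∣ Nat.card ↥(Subgroup.centralizer ({g} : Set G)) := by
    intro g hg1 hgp h2
    exact (Nat.not_even_iff_odd.2 (hC g hg1 hgp)) (even_iff_two_dvd.2 h2)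
  rcases Cfsg.Agent.S4744.result p hp2 hpG h2G hC with h | hSyl
  · exact Or.inl h
  rcases Cfsg.Agent.S4742.result p 2 hp2 hpG h2G hC' with h | halt
  · exact Or.inl h
  right
  refine ⟨fun P => (hSyl P).2, ?_⟩
  -- every involution inverts a full Sylow p-subgroup
  have hfpf : ∀ (t : G), orderOf t = 2 → ∀ S : Subgroup G, IsPGroup p S →
      ∀ c ∈ S, t * c * t⁻¹ = c → c = 1 := by
    intro t hto S hS c hc htc
    by_contra hc1
    have hcp : ∃ k : ℕ, orderOf c = p ^ k := by
      obtain ⟨k, hk⟩ := (IsPGroup.iff_orderOf.1 hS) ⟨c, hc⟩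
      exact ⟨k, by rw [← hk, Subgroup.orderOf_mk]⟩
    have htc' : t ∈ Subgroup.centralizer ({c} : Set G) := by
      rw [Subgroup.mem_centralizer_iff]
      intro y hy
      rw [Set.mem_singleton_iff] at hy
      subst hy
      calc y * t = (t * y * t⁻¹) * t := by rw [htc]
        _ = t * y := by group
    have h2 : 2 ∣ Nat.card (Subgroup.centralizer ({c} : Set G)) := by
      have := orderOf_dvd_natCard (⟨t, htc'⟩ : Subgroup.centralizer ({c} : Set G))
      rwa [Subgroup.orderOf_mk, hto] at this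
    exact hC' c hc1 hcp h2
  have hinvS : ∀ s : G, orderOf s = 2 → ∃ S : Subgroup G,
      Nat.card S = p ^ (Nat.card G).factorization p ∧ ∀ c ∈ S, s * c * s⁻¹ = c⁻¹ := by
    intro s hs
    have hs1 : s ≠ 1 := by
      intro h1
      rw [h1, orderOf_one] at hs
      norm_num at hs
    have hss : s * s = 1 := by
      have := pow_orderOf_eq_one s
      rwa [hs, pow_two] at this
    obtain ⟨g, h', hsg, hsh, hw1, k, hwk⟩ := halt s hs1 ⟨1, by rw [hs, pow_one]⟩
    have hconj2 : ∀ y : G, IsConj s y → y * y = 1 := by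
      intro y hy
      obtain ⟨c, hc⟩ := isConj_iff.1 hy
      rw [← hc]
      calc c * s * c⁻¹ * (c * s * c⁻¹) = c * (s * s) * c⁻¹ := by group
        _ = 1 := by rw [hss]; group
    have hg2 := hconj2 g hsg
    have hh2 := hconj2 h' hsh
    have hginv : g⁻¹ = g := inv_eq_of_mul_eq_one_right hg2
    have hhinv : h'⁻¹ = h' := inv_eq_of_mul_eq_one_right hh2
    have htu : g * (g * h'⁻¹) * g⁻¹ = (g * h'⁻¹)⁻¹ := by
      rw [mul_inv_rev, inv_inv, hginv, hhinv]
      calc g * (g * h') * g = (g * g) * h' * g := by group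
        _ = h' * g := by rw [hg2, one_mul]
    -- transport to s
    obtain ⟨a, ha⟩ := isConj_iff.1 hsg
    set u := a⁻¹ * (g * h'⁻¹) * a with hu
    have hu1 : u ≠ 1 := by
      intro h1
      apply hw1
      have : g * h'⁻¹ = a * u * a⁻¹ := by rw [hu]; group
      rw [this, h1]
      group
    have huord : orderOf u = p ^ k := by
      rw [← hwk]
      have := MulEquiv.orderOf_eq (MulAut.conj a⁻¹) (g * h'⁻¹)
      rw [MulAut.conj_apply, inv_inv] at this
      exact this
    have hsu : s * u * s⁻¹ = u⁻¹ := by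
      have hs' : s = a⁻¹ * g * a := by rw [← ha]; group
      have : s * u * s⁻¹ = a⁻¹ * (g * (g * h'⁻¹) * g⁻¹) * a := by
        rw [hs', hu]; group
      rw [this, htu, hu]
      group
    obtain ⟨S, hScard, hSt, hSab⟩ := exists_inv_sylow p hC s u hss hs1 hu1 ⟨k, huord⟩ hsu
    have hSp : IsPGroup p S := IsPGroup.of_card hScard
    exact ⟨S, hScard, fpf_inverts S s hss hSt (hfpf s hs S hSp)⟩
  intro s t hs ht
  obtain ⟨S, hScard, hSinv⟩ := hinvS s hs
  obtain ⟨T, hTcard, hTinv⟩ := hinvS t ht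
  let P₁ : Sylow p G := Sylow.ofCard S hScard
  let P₂ : Sylow p G := Sylow.ofCard T hTcard
  obtain ⟨c, hc⟩ := MulAction.exists_smul_eq G P₂ P₁
  have hmem : ∀ a : G, a ∈ S ↔ c⁻¹ * a * c ∈ T := by
    intro a
    have h1 : (P₁ : Subgroup G) = S := rfl
    have h2 : (P₂ : Subgroup G) = T := rfl
    rw [← h1, ← hc, Sylow.smul_def]
    change a ∈ MulAut.conj c • (P₂ : Subgroup G) ↔ _
    rw [Subgroup.mem_pointwise_smul_iff_inv_smul_mem, h2]
    simp [MulAut.smul_def]
  set t' := c * t * c⁻¹ with ht'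
  have hss : s * s = 1 := by
    have := pow_orderOf_eq_one s
    rwa [hs, pow_two] at this
  have htt : t * t = 1 := by
    have := pow_orderOf_eq_one t
    rwa [ht, pow_two] at this
  have ht'2 : t' * t' = 1 := by
    rw [ht']
    calc c * t * c⁻¹ * (c * t * c⁻¹) = c * (t * t) * c⁻¹ := by group
      _ = 1 := by rw [htt]; group
  have ht'inv : ∀ x ∈ S, t' * x * t'⁻¹ = x⁻¹ := by
    intro x hx
    have h1 := hTinv _ ((hmem x).1 hx)
    have : t' * x * t'⁻¹ = c * (t * (c⁻¹ * x * c) * t⁻¹) * c⁻¹ := by rw [ht']; group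
    rw [this, h1]
    group
  -- S nontrivial
  have hSne : ∃ x ∈ S, x ≠ 1 := by
    have hn : 0 < (Nat.card G).factorization p :=
      (hpp.factorization_pos_of_dvd Nat.card_pos.ne' hpG)
    have hcard2 : 1 < Nat.card S := by
      rw [hScard]
      exact Nat.one_lt_pow hn.ne' hpp.one_lt
    haveI : Nontrivial S := Finite.one_lt_card_iff_nontrivial.1 hcard2
    obtain ⟨x, hx⟩ := exists_ne (1 : S)
    exact ⟨x, x.2, fun h => hx (Subtype.ext h)⟩
  obtain ⟨x, hxS, hx1⟩ := hSne
  have hxp : ∃ k : ℕ, orderOf x = p ^ k := by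
    have hSp : IsPGroup p S := IsPGroup.of_card hScard
    obtain ⟨k, hk⟩ := (IsPGroup.iff_orderOf.1 hSp) ⟨x, hxS⟩
    exact ⟨k, by rw [← hk, Subgroup.orderOf_mk]⟩
  have hrx : s * t' ∈ Subgroup.centralizer ({x} : Set G) := by
    rw [Subgroup.mem_centralizer_iff]
    intro y hy
    rw [Set.mem_singleton_iff] at hy
    subst hy
    have h1 := ht'inv y hxS
    have h2 := hSinv y⁻¹ (S.inv_mem hxS)
    rw [inv_inv] at h2
    have h3 : (s * t') * y * (s * t')⁻¹ = y := by
      calc (s * t') * y * (s * t')⁻¹ = s * (t' * y * t'⁻¹) * s⁻¹ := by group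
        _ = s * y⁻¹ * s⁻¹ := by rw [h1]
        _ = y := h2
    calc y * (s * t') = ((s * t') * y * (s * t')⁻¹) * (s * t') := by rw [h3]
      _ = s * t' * y := by group
  have hodd : Odd (orderOf (s * t')) := by
    have h1 := orderOf_dvd_natCard (⟨s * t', hrx⟩ : Subgroup.centralizer ({x} : Set G))
    rw [Subgroup.orderOf_mk] at h1
    exact Odd.of_dvd_nat (hC x hx1 hxp) h1
  have h1 : IsConj s t' := involutions_conj_of_odd_prod s t' hss ht'2 hodd
  have h2 : IsConj t t' := isConj_iff.2 ⟨c, rfl⟩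
  exact h1.trans h2.symm

end Cfsg.Agent.S4738
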