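import Cfsg.Statements.S4740
import Cfsg.Agent.Lib.Helper25.CharInvol
import Cfsg.Agent.Lib.helper2.CharInt

set_option autoImplicit false
set_option linter.deprecated false
open Cfsg

namespace Cfsg.Agent.S4740
open scoped ComplexConjugate

open Cfsg.Agent.Lib.Helper25 in
/-- Let p be an odd prime, G a finite group of even order, x an involution of G and P a subgroup of G of order p ^ c such that no conjugate of x inverts a non-identity element of P. If p ^ a is the p-part of the order of C_G(x), then some irreducible character of G has degree divisible by p ^ (c - a). -/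
theorem result {G : Type*} [Group G] [Finite G] (p : ℕ) [Fact p.Prime] (hp2 : p ≠ 2) (hG : Even (Nat.card G)) (x : G) (hx : orderOf x = 2) (P : Subgroup G) (c : ℕ) (hP : Nat.card ↥P = p ^ c) (hinv : ∀ g : G, IsConj x g → ∀ z ∈ P, z ≠ 1 → g * z * g⁻¹ ≠ z⁻¹) (a : ℕ) (ha : (Nat.card ↥(Subgroup.centralizer ({x} : Set G))).factorization p = a) : ∃ χ : Cfsg.IrrCharacter G, p ^ (c - a) ∣ Cfsg.charDegree (χ : G → ℂ) := by
  classical
  haveI := Fintype.ofFinite G
  haveI := Fintype.ofFinite (Cfsg.IrrCharacter G)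
  haveI : Fintype P := Fintype.ofFinite P
  have hpp : p.Prime := Fact.out
  by_contra hcon
  push Not at hcon
  have hca : a + 1 ≤ c := by
    by_contra h
    have : c - a = 0 := by omega
    have h1 := hcon (trivIrr G)
    rw [this, pow_zero] at h1
    exact h1 (one_dvd _)
  have hxx : x * x = 1 := by
    have := pow_orderOf_eq_one x
    rw [hx, pow_two] at this
    exact this
  choose k hk using fun χ : Cfsg.IrrCharacter G => sum_subgroup_irr P χ
  have hform := centralizer_formula x hxx P hinv k hk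
  set d : Cfsg.IrrCharacter G → ℕ := fun χ => Cfsg.charDegree (χ : G → ℂ) with hd
  have hd1 : ∀ χ, ((d χ : ℕ) : ℂ) = (χ : G → ℂ) 1 := fun χ => (charDegree_irr χ).1
  have hd0 : ∀ χ, 0 < d χ := fun χ => (charDegree_irr χ).2
  have hv : ∀ χ, (d χ).factorization p ≤ c - a - 1 := by
    intro χ
    have h1 := hcon χ
    rw [hpp.pow_dvd_iff_le_factorization (hd0 χ).ne'] at h1
    omega
  set T : ℕ := ∏ χ : Cfsg.IrrCharacter G, ordCompl[p] (d χ) with hT
  have hTcop : Nat.Coprime p T := by
    apply Nat.Coprime.prod_right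
    intro χ _
    exact Nat.coprime_ordCompl hpp (hd0 χ).ne'
  have hdvd : ∀ χ, d χ ∣ p ^ (c - a - 1) * T := by
    intro χ
    have h1 : ordProj[p] (d χ) * ordCompl[p] (d χ) = d χ := Nat.ordProj_mul_ordCompl_eq_self _ _
    rw [← h1]
    apply Nat.mul_dvd_mul
    · exact pow_dvd_pow p (hv χ)
    · exact Finset.dvd_prod_of_mem _ (Finset.mem_univ χ)
  choose m hm using hdvd
  set C := Nat.card (Subgroup.centralizer ({x} : Set G)) with hC
  have hkey : ((T * C : ℕ) : ℂ) / ((p ^ (a + 1) : ℕ) : ℂ) =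
      ∑ χ : Cfsg.IrrCharacter G, (χ : G → ℂ) x * (χ : G → ℂ) x * ((k χ : ℂ) * (m χ : ℂ)) := by
    have hpne : ((p ^ (a + 1) : ℕ) : ℂ) ≠ 0 := by
      exact_mod_cast (pow_pos hpp.pos _).ne'
    rw [div_eq_iff hpne]
    push_cast
    rw [hform, Finset.mul_sum, Finset.sum_mul]
    refine Finset.sum_congr rfl fun χ _ => ?_
    have hne : (χ : G → ℂ) 1 ≠ 0 := irr_one_ne_zero χ
    rw [hP]
    have h2 : ((p ^ (c - a - 1) * T : ℕ) : ℂ) = ((d χ * m χ : ℕ) : ℂ) := by rw [hm χ]
    push_cast at h2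
    rw [hd1] at h2
    have h3 : (p : ℂ) ^ c = (p : ℂ) ^ (a + 1) * (p : ℂ) ^ (c - a - 1) := by
      rw [← pow_add]
      congr 1
      omega
    field_simp
    push_cast
    rw [h3]
    linear_combination ((χ : G → ℂ) x) ^ 2 * (k χ : ℂ) * (p : ℂ) ^ (a + 1) * h2
  have hint : IsIntegral ℤ (((T * C : ℕ) : ℂ) / ((p ^ (a + 1) : ℕ) : ℂ)) := by
    rw [hkey]
    apply IsIntegral.sum
    intro χ _
    have h1 := Cfsg.Agent.Lib.helper2.irr_integral χ x
    have hk' : IsIntegral ℤ ((k χ : ℂ)) := by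
      have := isIntegral_algebraMap (R := ℤ) (A := ℂ) (x := (k χ : ℤ))
      simpa using this
    have hm' : IsIntegral ℤ ((m χ : ℂ)) := by
      have := isIntegral_algebraMap (R := ℤ) (A := ℂ) (x := (m χ : ℤ))
      simpa using this
    exact (h1.mul h1).mul (hk'.mul hm')
  have hdv := Cfsg.Agent.Lib.helper2.nat_dvd_of_isIntegral_div (T * C) (p ^ (a + 1))
    (pow_pos hpp.pos _).ne' hint
  have hdv2 : p ^ (a + 1) ∣ C := by
    apply Nat.Coprime.dvd_of_dvd_mul_left _ hdv
    exact Nat.Coprime.pow_left _ hTcop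
  have hCne : C ≠ 0 := Nat.card_pos.ne'
  have := Nat.pow_succ_factorization_not_dvd hCne hpp
  rw [ha] at this
  exact this hdv2

end Cfsg.Agent.S4740
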