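import Cfsg.Statements.S4746
import Cfsg.Agent.S4742
import Cfsg.Agent.Lib.helper7.OddDeg

set_option autoImplicit false
open Cfsg

namespace Cfsg.Agent.S4746

/-- Let p be an odd prime and G a finite group of even order divisible by p in which the centralizer of every non-identity p-element has odd order. Then G has an irreducible character of p-defect zero or an irreducible character of even degree. -/
theorem result {G : Type*} [Group G] [Finite G] (p : ℕ) [Fact p.Prime] (hp2 : p ≠ 2) (hpG : p ∣ Nat.card G) (h2G : 2 ∣ Nat.card G) (hC : ∀ g : G, g ≠ 1 → (∃ k : ℕ, orderOf g = p ^ k) → Odd (Nat.card ↥(Subgroup.centralizer ({g} : Set G)))) : (∃ χ : Cfsg.IrrCharacter G, (Cfsg.charDegree (χ : G → ℂ)).factorization p = (Nat.card G).factorization p) ∨ ∃ χ : Cfsg.IrrCharacter G, Even (Cfsg.charDegree (χ : G → ℂ)) := by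
  classical
  have h2 : Fact (Nat.Prime 2) := ⟨Nat.prime_two⟩
  have hpp : p.Prime := Fact.out
  by_contra hcon
  push Not at hcon
  obtain ⟨hdef, hnev⟩ := hcon
  have hodd : ∀ χ : Cfsg.IrrCharacter G, Odd (Cfsg.charDegree (χ : G → ℂ)) :=
    fun χ => Nat.not_even_iff_odd.mp (hnev χ)
  -- an involution
  obtain ⟨t, ht⟩ := exists_prime_orderOf_dvd_card' (G := G) 2 h2G
  have ht1 : t ≠ 1 := by
    intro h
    rw [h, orderOf_one] at ht
    omega
  have ht2 : t ^ 2 = 1 := by rw [← ht]; exact pow_orderOf_eq_one t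
  -- S4742 with q = 2
  have hC' : ∀ g : G, g ≠ 1 → (∃ k : ℕ, orderOf g = p ^ k) →
      ¬ 2 ∣ Nat.card ↥(Subgroup.centralizer ({g} : Set G)) := by
    intro g hg1 hgk h
    have := hC g hg1 hgk
    rw [← Nat.not_even_iff_odd] at this
    exact this (even_iff_two_dvd.mpr h)
  rcases Cfsg.Agent.S4742.result p 2 hp2 hpG h2G hC' with h | h
  · obtain ⟨χ, hχ⟩ := h
    exact hdef χ hχ
  · obtain ⟨g, h', hg, hh, hu1, ⟨k, hk⟩⟩ := h t ht1 ⟨1, by rw [ht, pow_one]⟩
    have hg2 : g * g = 1 := by
      obtain ⟨c, hc⟩ := isConj_iff.mp hg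
      rw [← hc]
      have : c * t * c⁻¹ * (c * t * c⁻¹) = c * (t ^ 2) * c⁻¹ := by
        rw [pow_two]
        group
      rw [this, ht2]
      group
    have hh2 : h' * h' = 1 := by
      obtain ⟨c, hc⟩ := isConj_iff.mp hh
      rw [← hc]
      have : c * t * c⁻¹ * (c * t * c⁻¹) = c * (t ^ 2) * c⁻¹ := by
        rw [pow_two]
        group
      rw [this, ht2]
      group
    have hginv : g⁻¹ = g := inv_eq_of_mul_eq_one_left hg2
    have hhinv : h'⁻¹ = h' := inv_eq_of_mul_eq_one_left hh2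
    have hinvert : g * (g * h'⁻¹) * g⁻¹ = (g * h'⁻¹)⁻¹ := by
      rw [mul_inv_rev, inv_inv, hginv, hhinv, ← mul_assoc, hg2, one_mul]
    have hnc : ¬ IsConj (g * h'⁻¹) t := by
      intro hc
      have ho : orderOf (g * h'⁻¹) = orderOf t := by
        obtain ⟨c, hc'⟩ := isConj_iff.mp hc
        rw [← hc']
        exact (orderOf_injective (MulAut.conj c).toMonoidHom (MulAut.conj c).injective _).symm
      rw [hk, ht] at ho
      have hk0 : k ≠ 0 := by
        intro h0
        rw [h0, pow_zero, orderOf_eq_one_iff] at hk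
        exact hu1 hk
      have : p ∣ 2 := by
        rw [← ho]
        exact dvd_pow_self p hk0
      exact hp2 ((Nat.prime_dvd_prime_iff_eq hpp Nat.prime_two).mp this)
    have heven := Cfsg.Agent.Lib.helper7.h7_od_main hodd t ht (g * h'⁻¹) g hinvert hnc
    have hoddC := hC (g * h'⁻¹) hu1 ⟨k, hk⟩
    rw [← Nat.not_even_iff_odd] at hoddC
    exact hoddC heven

end Cfsg.Agent.S4746
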