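import Cfsg.Statements.S4748
import Cfsg.Agent.Lib.Helper29.TIResNormal
import Cfsg.Agent.Lib.Helper29.TIResChain

set_option autoImplicit false
open scoped Pointwise
open Cfsg

namespace Cfsg.Agent.S4748

/-- Let G be a finite p-solvable group whose Sylow p-subgroup P meets each conjugate g P g⁻¹ with g outside N_G(P) trivially, and let χ be a faithful character of G (χ g = χ 1 only for g = 1) whose degree d satisfies d² ≤ |P|. Then P is normal in G. -/
theorem result {G : Type*} [Group G] [Finite G] (p : ℕ) [Fact p.Prime] (hsolv : Cfsg.IsPSolvable p G) (P : Sylow p G) (hTI : ∀ g : G, g ∉ Subgroup.normalizer ((P : Subgroup G) : Set G) → (P : Subgroup G) ⊓ (MulAut.conj g • (P : Subgroup G)) = ⊥) (χ : G → ℂ) (hχ : Cfsg.IsCharacter G χ) (hfaith : ∀ g : G, χ g = χ 1 → g = 1) (hdeg : Cfsg.charDegree χ ^ 2 ≤ Nat.card ↥(P : Subgroup G)) : (P : Subgroup G).Normal := by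
  classical
  obtain ⟨n, ρ, rfl⟩ := hχ
  have hinj : Function.Injective ρ := by
    intro g h hgh
    have h0 : ρ (g⁻¹ * h) = 1 := by
      rw [map_mul, ← hgh, ← map_mul, inv_mul_cancel, map_one]
    have h1 : ρ.character (g⁻¹ * h) = ρ.character 1 := by
      unfold Representation.character
      rw [h0, map_one ρ]
    have h2 := hfaith _ h1
    exact inv_mul_eq_one.mp h2
  have hdegn : Cfsg.charDegree ρ.character = n := by
    unfold Cfsg.charDegree
    rw [Representation.char_one]
    simp
  rw [hdegn] at hdeg
  have hdeg' : (Module.finrank ℂ (Fin n → ℂ)) ^ 2 ≤ Nat.card (P : Subgroup G) := by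
    rw [Module.finrank_fin_fun]
    exact hdeg
  have hcentAll : ∀ K : Subgroup G, K.Normal → (Nat.card K).Coprime p →
      ∀ k ∈ K, ∀ x ∈ (P : Subgroup G), k * x = x * k := by
    intro K hKn hK
    exact Cfsg.Agent.Lib.Helper29.tir_centralizes_normal p P hTI K hK ρ hinj hdeg'
  obtain ⟨n', Hc, h0, hlast, hmono, hnorm, hfac⟩ := hsolv
  have key : ∀ i : ℕ, ∀ hi : i < n' + 1,
      (P : Subgroup G).Normal ∨ (Nat.card (Hc ⟨i, hi⟩)).Coprime p := by
    intro i
    induction i with
    | zero =>
      intro hi
      right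
      have : Hc ⟨0, hi⟩ = ⊥ := h0
      rw [this]
      simp
    | succ j ih =>
      intro hj
      rcases ih (by omega) with hN | hcop
      · left; exact hN
      · have hle : Hc ⟨j, by omega⟩ ≤ Hc ⟨j + 1, hj⟩ := hmono (by simp [Fin.le_def])
        have hcard : Nat.card (Hc ⟨j + 1, hj⟩) =
            Nat.card (Hc ⟨j, by omega⟩) * (Hc ⟨j, by omega⟩).relIndex (Hc ⟨j + 1, hj⟩) := by
          have := Subgroup.relIndex_mul_relIndex (H := ⊥) (K := Hc ⟨j, by omega⟩)
            (L := Hc ⟨j + 1, hj⟩) bot_le hle
          rw [Subgroup.relIndex_bot_left, Subgroup.relIndex_bot_left] at this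
          exact this.symm
        have hf := hfac ⟨j, by omega⟩
        have e1 : (⟨j, by omega⟩ : Fin n').castSucc = ⟨j, by omega⟩ := rfl
        have e2 : (⟨j, by omega⟩ : Fin n').succ = ⟨j + 1, hj⟩ := rfl
        rw [e1, e2] at hf
        rcases hf with ⟨m, hm⟩ | hcop2
        · rcases Nat.eq_zero_or_pos m with hm0 | hmpos
          · right
            rw [hcard, hm, hm0, pow_zero, mul_one]
            exact hcop
          · left
            haveI := hnorm ⟨j, by omega⟩
            haveI := hnorm ⟨j + 1, hj⟩
            exact Cfsg.Agent.Lib.Helper29.tir_chain_step p P hTI _ _ hle hcop m hmpos hm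
              (hcentAll _ (hnorm _) hcop)
        · right
          rw [hcard]
          exact Nat.Coprime.mul_left hcop hcop2
  rcases key n' (by omega) with hN | hcop
  · exact hN
  · have hlast' : Hc ⟨n', by omega⟩ = ⊤ := hlast
    rw [hlast', Subgroup.card_top] at hcop
    have hPcard : Nat.card (P : Subgroup G) ∣ Nat.card G := Subgroup.card_subgroup_dvd_card _
    rw [P.card_eq_multiplicity] at hPcard
    have hfac0 : (Nat.card G).factorization p = 0 := by
      apply Nat.factorization_eq_zero_of_not_dvd
      intro hdvd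
      exact (Fact.out : p.Prime).one_lt.ne' (Nat.Coprime.eq_one_of_dvd hcop.symm hdvd)
    have hPbot : (P : Subgroup G) = ⊥ := by
      apply Subgroup.card_eq_one.mp
      rw [P.card_eq_multiplicity, hfac0, pow_zero]
    rw [hPbot]
    infer_instance

end Cfsg.Agent.S4748
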