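import Cfsg.Statements.S4750
import Cfsg.Agent.Lib.Helper29.TIResChar

set_option autoImplicit false
open scoped Pointwise
open Cfsg

namespace Cfsg.Agent.S4750

/-- Let P be a Sylow p-subgroup of the finite group G that meets each conjugate g P g⁻¹ with g outside N_G(P) trivially, χ a character of G with χ(1)² ≤ |P|, and H a subgroup of G containing N_G(P). Then the inner product of χ with itself over G equals the inner product over H of the restriction of χ to H. -/
theorem result {G : Type*} [Group G] [Fintype G] [DecidableEq G] (p : ℕ) [Fact p.Prime] (P : Sylow p G) (hTI : ∀ g : G, g ∉ Subgroup.normalizer ((P : Subgroup G) : Set G) → (P : Subgroup G) ⊓ (MulAut.conj g • (P : Subgroup G)) = ⊥) (χ : G → ℂ) (hχ : Cfsg.IsCharacter G χ) (hdeg : Cfsg.charDegree χ ^ 2 ≤ Nat.card ↥(P : Subgroup G)) (H : Subgroup G) [Fintype ↥H] (hH : Subgroup.normalizer ((P : Subgroup G) : Set G) ≤ H) : Cfsg.classInner χ χ = Cfsg.classInner (fun h : ↥H => χ h) (fun h : ↥H => χ h) := by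
  classical
  obtain ⟨n, ρ, rfl⟩ := hχ
  let V := Fin n → ℂ
  have hPH : (P : Subgroup G) ≤ H := le_trans Subgroup.le_normalizer hH
  have hsemi := Cfsg.Agent.Lib.Helper29.tir_semiregular p P hTI H hH
  let ρH : Representation ℂ H V := ρ.comp H.subtype
  have hres : (fun h : ↥H => ρ.character h) = ρH.character := rfl
  rw [hres, Cfsg.Agent.Lib.Helper29.tir_classInner_self, Cfsg.Agent.Lib.Helper29.tir_classInner_self]
  -- degree
  have hdegn : Cfsg.charDegree ρ.character = n := by
    unfold Cfsg.charDegree
    rw [Representation.char_one]
    simp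
  rw [hdegn] at hdeg
  set σ := Representation.linHom ρ ρ with hσ
  have hfinW : Module.finrank ℂ (V →ₗ[ℂ] V) = n * n := by
    rw [Module.finrank_linearMap]
    simp [V]
  have hcardP : 0 < Nat.card ↥(P : Subgroup G) := Nat.card_pos
  have hdim : Module.finrank ℂ (V →ₗ[ℂ] V) < Nat.card ↥(P : Subgroup G) +
      Module.finrank ℂ σ.invariants := by
    rw [hfinW]
    rcases Nat.eq_zero_or_pos n with h0 | hpos
    · have : n * n = 0 := by simp [h0]
      omega
    · have hinv : 0 < Module.finrank ℂ σ.invariants := by
        have hidmem : (LinearMap.id : V →ₗ[ℂ] V) ∈ σ.invariants := ?_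
        refine (Module.finrank_pos_iff_exists_ne_zero (R := ℂ) (M := σ.invariants)).mpr
          ⟨(⟨LinearMap.id, hidmem⟩ : σ.invariants), ?_⟩
        rotate_left
        · intro g
          rw [hσ, Representation.linHom_apply]
          ext v
          simp
        · intro h0
          have h1 : (LinearMap.id : V →ₗ[ℂ] V) = 0 := congrArg Subtype.val h0
          have h2 : (fun _ : Fin n => (1 : ℂ)) = 0 := by
            have := LinearMap.congr_fun h1 (fun _ : Fin n => (1 : ℂ))
            simpa using this
          have h3 := congrFun h2 ⟨0, hpos⟩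
          simp at h3
      have : n * n = n ^ 2 := by ring
      omega
  have key : σ.invariants = (Representation.linHom ρH ρH).invariants := by
    apply le_antisymm
    · intro f hf h
      have := hf (h : G)
      rw [hσ, Representation.linHom_apply] at this
      rw [Representation.linHom_apply]
      exact this
    · intro f hf g
      apply Cfsg.Agent.Lib.Helper29.tir_invariants p H (P : Subgroup G) hPH P.isPGroup' hsemi σ hdim f
      intro h hh
      have := hf ⟨h, hh⟩
      rw [Representation.linHom_apply] at this
      rw [hσ, Representation.linHom_apply]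
      exact this
  rw [key]

end Cfsg.Agent.S4750
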