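import Cfsg.Statements.S4751
import Cfsg.Agent.Lib.Helper29.RuFinal
import Cfsg.Agent.Lib.Helper25.CharLinear

set_option autoImplicit false
open Cfsg
open scoped ComplexConjugate

namespace Cfsg.Agent.S4751

/-- Let χ be a faithful, non-linear irreducible character of the finite group G (χ g = χ 1 only for g = 1, χ 1 ≠ 1) whose value at every element of order divisible by p is a root of unity, and suppose P = O_p(G) ≠ 1. Then either P is an elementary abelian Sylow p-subgroup of G, C_G(P) is the internal direct product of P and Z(G), G acts transitively by conjugation on the non-principal linear characters of P, and χ 1 = |P| − 1; or p = 2 and G is the internal direct product of a subgroup isomorphic to the symmetric group S₄ and the centre Z(G), which has odd order. -/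
theorem result {G : Type*} [Group G] [Finite G] (p : ℕ) [Fact p.Prime] (χ : Cfsg.IrrCharacter G) (hfaith : ∀ g : G, (χ : G → ℂ) g = (χ : G → ℂ) 1 → g = 1) (hnl : (χ : G → ℂ) 1 ≠ 1) (hroot : ∀ g : G, p ∣ orderOf g → ∃ n : ℕ, 0 < n ∧ ((χ : G → ℂ) g) ^ n = 1) (hP : Cfsg.pCore p G ≠ ⊥) : ((Nat.card ↥(Cfsg.pCore p G)).factorization p = (Nat.card G).factorization p ∧ Cfsg.IsElementaryAbelian p (Cfsg.pCore p G) ∧ Subgroup.centralizer ((Cfsg.pCore p G : Subgroup G) : Set G) = Cfsg.pCore p G ⊔ Subgroup.center G ∧ Cfsg.pCore p G ⊓ Subgroup.center G = ⊥ ∧ (∀ lam mu : ↥(Cfsg.pCore p G) → ℂ, Cfsg.IsCharacter ↥(Cfsg.pCore p G) lam → lam 1 = 1 → lam ≠ (fun _ => (1 : ℂ)) → Cfsg.IsCharacter ↥(Cfsg.pCore p G) mu → mu 1 = 1 → mu ≠ (fun _ => (1 : ℂ)) → ∃ g : G, ∀ (x : G) (hx : x ∈ Cfsg.pCore p G) (hgx : g * x * g⁻¹ ∈ Cfsg.pCore p G), mu ⟨x, hx⟩ = lam ⟨g * x * g⁻¹, hgx⟩) ∧ (χ : G → ℂ) 1 = (Nat.card ↥(Cfsg.pCore p G) : ℂ) - 1) ∨ (p = 2 ∧ Odd (Nat.card ↥(Subgroup.center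 G)) ∧ ∃ H : Subgroup G, Nonempty (↥H ≃* Equiv.Perm (Fin 4)) ∧ H ⊓ Subgroup.center G = ⊥ ∧ H ⊔ Subgroup.center G = ⊤) := by
  classical
  obtain ⟨χf, n, ρ, hirr, hχ⟩ := χ
  simp only at hfaith hnl hroot ⊢
  subst hχ
  haveI := hirr
  letI : Fintype G := Fintype.ofFinite G
  have hfr : Module.finrank ℂ (Fin n → ℂ) = n := by simp
  have hχ1 : ρ.character 1 = (n : ℂ) := by rw [Representation.char_one, hfr]
  have faith : ∀ g : G, ρ g = 1 → g = 1 := by
    intro g hg
    apply hfaith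
    unfold Representation.character
    rw [hg, map_one ρ]
  have nl : Module.finrank ℂ (Fin n → ℂ) ≠ 1 := by
    rw [hfr]
    intro h1
    apply hnl
    rw [hχ1, h1, Nat.cast_one]
  have root : ∀ g : G, p ∣ orderOf g → ρ.character g * conj (ρ.character g) = 1 := by
    intro g hg
    obtain ⟨k, hk, hk1⟩ := hroot g hg
    have hnorm : ‖ρ.character g‖ = 1 := Complex.norm_eq_one_of_pow_eq_one hk1 hk.ne'
    rw [Complex.mul_conj, Complex.normSq_eq_norm_sq, hnorm]
    simp
  have hPn : (Cfsg.pCore p G).Normal := Subgroup.sSup_normal _ (fun _ hH => hH.1)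
  have hPp : IsPGroup p ↥(Cfsg.pCore p G) :=
    Sylow.sSup_of_normal _ (fun _ hH => hH.2) (fun _ hH => hH.1)
  rcases Cfsg.Agent.Lib.Helper29.ru_final faith nl root (Cfsg.pCore p G) hPp hP with
    ⟨h1, h2, h3, h4, h5, h6, h7⟩ | h
  · left
    refine ⟨h1, ⟨⟨⟨h2⟩⟩, h3⟩, h4, h5, ?_, ?_⟩
    · intro lam mu hlam hlam1 hlamne hmu hmu1 hmune
      -- linear characters as homomorphisms
      have key : ∀ f : ↥(Cfsg.pCore p G) → ℂ, Cfsg.IsCharacter ↥(Cfsg.pCore p G) f → f 1 = 1 →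
          ∃ θ : ↥(Cfsg.pCore p G) →* ℂˣ, ∀ x, ((θ x : ℂˣ) : ℂ) = f x := by
        intro f hf hf1
        obtain ⟨m, σ, hσ⟩ := hf
        have hm : m = 1 := by
          have e1 : σ.character 1 = (m : ℂ) := by rw [Representation.char_one]; simp
          rw [hσ, hf1] at e1
          exact_mod_cast e1.symm
        subst hm
        let ψ : Cfsg.IrrCharacter ↥(Cfsg.pCore p G) :=
          ⟨f, 1, σ, Cfsg.Agent.Lib.Helper25.isIrreducible_of_finrank_eq_one σ (by simp), hσ⟩
        exact ⟨Cfsg.Agent.Lib.Helper25.irrLinearHom ψ hf1, fun x =>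
          Cfsg.Agent.Lib.Helper25.irrLinearHom_apply ψ hf1 x⟩
      obtain ⟨θ, hθ⟩ := key lam hlam hlam1
      obtain ⟨θ', hθ'⟩ := key mu hmu hmu1
      have hθne : θ ≠ 1 := by
        intro h
        apply hlamne
        funext x
        rw [← hθ x, h]
        simp
      have hθ'ne : θ' ≠ 1 := by
        intro h
        apply hmune
        funext x
        rw [← hθ' x, h]
        simp
      obtain ⟨g, hg⟩ := h6 θ θ' hθne hθ'ne
      refine ⟨g, fun x hx hgx => ?_⟩
      rw [← hθ', ← hθ, hg ⟨x, hx⟩]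
    · rw [hχ1]
      have : ((Module.finrank ℂ (Fin n → ℂ) + 1 : ℕ) : ℂ) = (Nat.card ↥(Cfsg.pCore p G) : ℂ) := by
        rw [h7]
      rw [hfr] at this
      rw [← this]
      push_cast
      ring
  · right
    exact h

end Cfsg.Agent.S4751
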