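import Cfsg.Statements.S4754
import Cfsg.Agent.Lib.Helper25.CharOrth

set_option autoImplicit false
open Cfsg

namespace Cfsg.Agent.S4754

open Cfsg.Agent.Lib.Helper25 in
/-- (xy)^G = x^G y^G iff χ(1)χ(x^a y^b) = χ(x)χ(y) for all a, b ∈ G and all irreducible χ. -/
theorem result {G : Type*} [Group G] [Finite G] (x y : G) : (∀ z : G, IsConj (x * y) z ↔ ∃ a b : G, z = a * x * a⁻¹ * (b * y * b⁻¹)) ↔ ∀ (a b : G) (χ : Cfsg.IrrCharacter G), (χ : G → ℂ) 1 * (χ : G → ℂ) (a * x * a⁻¹ * (b * y * b⁻¹)) = (χ : G → ℂ) x * (χ : G → ℂ) y := by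
  classical
  have := Fintype.ofFinite G
  have hne : (Nat.card G : ℂ) ≠ 0 := by exact_mod_cast Nat.card_pos.ne'
  constructor
  · intro H a b χ
    have hconj : ∀ a b : G, (χ : G → ℂ) (a * x * a⁻¹ * (b * y * b⁻¹)) = (χ : G → ℂ) (x * y) := by
      intro a b
      exact (irr_isConj_eq χ ((H _).mpr ⟨a, b, rfl⟩)).symm
    have hsum := irr_sum_conj_conj χ x y
    simp only [hconj, Finset.sum_const, Finset.card_univ, nsmul_eq_mul,
      ← Nat.card_eq_fintype_card] at hsum
    have h1 := irr_one_ne_zero χ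
    rw [hconj a b]
    field_simp at hsum
    linear_combination hsum
  · intro H z
    constructor
    · intro hz
      obtain ⟨c, hc⟩ := isConj_iff.mp hz
      refine ⟨c, c, ?_⟩
      rw [← hc]; group
    · rintro ⟨a, b, rfl⟩
      apply isConj_of_irr_eq
      intro χ
      have h1 := irr_one_ne_zero χ
      have h2 := H a b χ
      have h3 := H 1 1 χ
      simp only [one_mul, inv_one, mul_one] at h3
      have : (χ : G → ℂ) 1 * (χ : G → ℂ) (a * x * a⁻¹ * (b * y * b⁻¹)) =
          (χ : G → ℂ) 1 * (χ : G → ℂ) (x * y) := by rw [h2, h3]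
      exact mul_left_cancel₀ h1 this

end Cfsg.Agent.S4754
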