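import Cfsg.Statements.S4755
import Cfsg.Agent.Lib.Helper25.CharLinear
import Cfsg.Agent.S4754

set_option autoImplicit false
open Cfsg

namespace Cfsg.Agent.S4755

open Cfsg.Agent.Lib.Helper25 in
open scoped ComplexConjugate commutatorElement in
/-- If χ(x'y') = χ(x')χ(y') for all conjugates of x, y ≠ 1 and all irreducible χ, then (xy)^G = x^G y^G, nonlinear χ vanish at xy, and (xy)^G = xyG'. -/
theorem result {G : Type*} [Group G] [Finite G] (x y : G) (hx : x ≠ 1) (hy : y ≠ 1) (h : ∀ (a b : G) (χ : Cfsg.IrrCharacter G), (χ : G → ℂ) (a * x * a⁻¹ * (b * y * b⁻¹)) = (χ : G → ℂ) (a * x * a⁻¹) * (χ : G → ℂ) (b * y * b⁻¹)) : (∀ z : G, IsConj (x * y) z ↔ ∃ a b : G, z = a * x * a⁻¹ * (b * y * b⁻¹)) ∧ (∀ χ : Cfsg.IrrCharacter G, (χ : G → ℂ) 1 ≠ 1 → (χ : G → ℂ) (x * y) = 0) ∧ (∀ z : G, IsConj (x * y) z ↔ (x * y)⁻¹ * z ∈ commutator G) := by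
  classical
  have := Fintype.ofFinite G
  have := Fintype.ofFinite (Cfsg.IrrCharacter G)
  have hne : (Nat.card G : ℂ) ≠ 0 := by exact_mod_cast Nat.card_pos.ne'
  have key1 : ∀ (a b : G) (χ : Cfsg.IrrCharacter G),
      (χ : G → ℂ) (a * x * a⁻¹ * (b * y * b⁻¹)) = (χ : G → ℂ) x * (χ : G → ℂ) y := by
    intro a b χ
    rw [h, irr_conj_invariant, irr_conj_invariant]
  have key2 : ∀ χ : Cfsg.IrrCharacter G, (χ : G → ℂ) 1 ≠ 1 →
      (χ : G → ℂ) x * (χ : G → ℂ) y = 0 := by
    intro χ hχ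
    have hsum := irr_sum_conj_conj χ x y
    simp only [key1, Finset.sum_const, Finset.card_univ, nsmul_eq_mul,
      ← Nat.card_eq_fintype_card] at hsum
    have h1 := irr_one_ne_zero χ
    field_simp at hsum
    have h2 : (χ : G → ℂ) x * (χ : G → ℂ) y * ((χ : G → ℂ) 1 - 1) = 0 := by
      linear_combination hsum
    rcases mul_eq_zero.mp h2 with h3 | h3
    · exact h3
    · exact absurd (sub_eq_zero.mp h3) hχ
  have hxy : ∀ χ : Cfsg.IrrCharacter G, (χ : G → ℂ) (x * y) = (χ : G → ℂ) x * (χ : G → ℂ) y := by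
    intro χ
    have := key1 1 1 χ
    simpa using this
  have part2 : ∀ χ : Cfsg.IrrCharacter G, (χ : G → ℂ) 1 ≠ 1 → (χ : G → ℂ) (x * y) = 0 := by
    intro χ hχ
    rw [hxy, key2 χ hχ]
  refine ⟨?_, part2, ?_⟩
  · rw [Cfsg.Agent.S4754.result x y]
    intro a b χ
    rw [key1]
    by_cases hχ : (χ : G → ℂ) 1 = 1
    · rw [hχ, one_mul]
    · rw [key2 χ hχ, mul_zero]
  · intro z
    constructor
    · intro hz
      obtain ⟨c, hc⟩ := isConj_iff.mp hz
      rw [← hc]
      have : (x * y)⁻¹ * (c * (x * y) * c⁻¹) = ⁅(x * y)⁻¹, c⁆ := by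
        rw [commutatorElement_def]; group
      rw [this]
      exact Subgroup.commutator_mem_commutator (Subgroup.mem_top _) (Subgroup.mem_top _)
    · intro hz
      by_contra hcon
      have hcol := irr_column_orthogonality z (x * y)
      rw [if_neg hcon] at hcol
      have hterm : ∀ χ : Cfsg.IrrCharacter G,
          (χ : G → ℂ) z * conj ((χ : G → ℂ) (x * y)) = if (χ : G → ℂ) 1 = 1 then 1 else 0 := by
        intro χ
        split_ifs with hχ
        · have : z = (x * y) * ((x * y)⁻¹ * z) := by group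
          rw [this, irr_linear_mul_commutator χ hχ _ hz, irr_linear_mul_conj χ hχ]
        · rw [part2 χ hχ, map_zero, mul_zero]
      simp only [hterm] at hcol
      rw [← Finset.sum_filter, Finset.sum_const, nsmul_eq_mul, mul_one] at hcol
      have hpos : 0 < (Finset.univ.filter fun χ : Cfsg.IrrCharacter G => (χ : G → ℂ) 1 = 1).card := by
        apply Finset.card_pos.mpr
        exact ⟨trivIrr G, by simp⟩
      have : ((Finset.univ.filter fun χ : Cfsg.IrrCharacter G => (χ : G → ℂ) 1 = 1).card : ℂ) ≠ 0 := by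
        exact_mod_cast hpos.ne'
      exact this hcol

end Cfsg.Agent.S4755
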