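import Cfsg.Statements.S4763
import Cfsg.Agent.Lib.helper2.UniqSing2
import Cfsg.Agent.Lib.helper2.UniqSing3
import Cfsg.Agent.Lib.helper2.GlaubS4

set_option autoImplicit false
open Cfsg

namespace Cfsg.Agent.S4763

open Cfsg
open Cfsg.Agent.Lib.helper2 Cfsg.Agent.Lib.Helper24 Cfsg.Agent.Lib.Helper25

theorem us_card_hom {H : Type*} [Group H] [Finite H] (hab : ∀ a b : H, a * b = b * a) :
    Nat.card (H →* ℂˣ) = Nat.card H := by
  letI : CommGroup H := { (inferInstance : Group H) with mul_comm := hab }
  exact CommGroup.card_monoidHom_of_hasEnoughRootsOfUnity H ℂ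

theorem us_split {α : Type*} [Finite α] (q : α → Prop) :
    Nat.card α = Nat.card {a // q a} + Nat.card {a // ¬ q a} := by
  classical
  rw [← Nat.card_sum]
  exact Nat.card_congr (Equiv.sumCompl q).symm



/-- Let p be a prime and G a finite group that is not nilpotent and has a normal p-complement (a normal subgroup of order prime to p and index a power of p). If G has exactly one irreducible complex character of degree divisible by p, then G has exactly one conjugacy class whose size is divisible by p. -/
theorem result {G : Type*} [Group G] [Finite G] (p : ℕ) [Fact p.Prime] (hnil : ¬ Group.IsNilpotent G) (N : Subgroup G) [N.Normal] (hN : (Nat.card N).Coprime p) (hidx : ∃ k : ℕ, N.index = p ^ k) (hone : Nat.card {χ : Cfsg.IrrCharacter G // p ∣ Cfsg.charDegree (χ : G → ℂ)} = 1) : Nat.card {C : ConjClasses G // p ∣ Nat.card C.carrier} = 1 := by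
  classical
  haveI := Fintype.ofFinite G
  have hp : p.Prime := Fact.out
  have hcomm := us_abelian p hnil N hidx hone
  obtain ⟨k, hk⟩ := hidx
  have hpN : ¬ p ∣ Nat.card N := (Nat.Prime.coprime_iff_not_dvd hp).1 hN.symm
  -- k ≥ 1
  have hk1 : 0 < k := by
    rcases Nat.eq_zero_or_pos k with h0 | h0
    · exfalso
      rw [h0, pow_zero] at hk
      have hcard : Nat.card N = Nat.card G := by
        have := N.card_mul_index
        rw [hk, mul_one] at this
        exact this
      have hempty : IsEmpty {χ : Cfsg.IrrCharacter G // p ∣ Cfsg.charDegree (χ : G → ℂ)} := by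
        constructor
        rintro ⟨χ, hχ⟩
        apply hpN
        rw [hcard]
        exact dvd_trans hχ (xs_degree_dvd χ)
      rw [Nat.card_of_isEmpty] at hone
      exact absurd hone (by norm_num)
    · exact h0
  let P : Sylow p G := default
  have hcardG : Nat.card G = Nat.card N * p ^ k := by rw [← hk, N.card_mul_index]
  have hPcard : Nat.card (P : Subgroup G) = p ^ k := by
    rw [Sylow.card_eq_multiplicity, hcardG]
    congr 1
    rw [Nat.factorization_mul Nat.card_pos.ne' (pow_ne_zero _ hp.ne_zero)]
    simp only [Finsupp.coe_add, Pi.add_apply]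
    rw [Nat.factorization_eq_zero_of_not_dvd hpN, hp.factorization_pow]
    simp
  have hcop : (Nat.card N).Coprime (Nat.card (P : Subgroup G)) := by
    rw [hPcard]; exact Nat.Coprime.pow_right k hN
  have hcompl : Subgroup.IsComplement' N (P : Subgroup G) :=
    Subgroup.isComplement'_of_coprime (by rw [hPcard, hcardG]) hcop
  have hsup : N ⊔ (P : Subgroup G) = ⊤ := hcompl.sup_eq_top
  have hinf : N ⊓ (P : Subgroup G) = ⊥ := hcompl.disjoint.eq_bot
  have hab : ∀ a ∈ (P : Subgroup G), ∀ b ∈ (P : Subgroup G), a * b = b * a := by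
    intro a ha b hb
    have h1 : a * b * a⁻¹ * b⁻¹ ∈ N ⊓ (P : Subgroup G) :=
      ⟨hcomm a b, Subgroup.mul_mem _ (Subgroup.mul_mem _ (Subgroup.mul_mem _ ha hb) (Subgroup.inv_mem _ ha)) (Subgroup.inv_mem _ hb)⟩
    rw [hinf, Subgroup.mem_bot] at h1
    calc a * b = (a * b * a⁻¹ * b⁻¹) * (b * a) := by group
      _ = b * a := by rw [h1, one_mul]
  -- Step 2
  have h2 := cdc_main N (P : Subgroup G) hinf hsup hcop
  have hhom : Nat.card (↥(P : Subgroup G) →* ℂˣ) = Nat.card (P : Subgroup G) :=
    us_card_hom (fun a b => Subtype.ext (hab a a.2 b b.2))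
  rw [hhom] at h2
  have hnormN : ∀ s ∈ (P : Subgroup G), ∀ g ∈ N, s * g * s⁻¹ ∈ N :=
    fun s _ g hg => ‹N.Normal›.conj_mem g hg s
  have hsolv : Group.IsSolvable (P : Subgroup G) := by
    haveI : Group.IsNilpotent (P : Subgroup G) := P.isPGroup'.isNilpotent
    infer_instance
  have h3 := gs_count_inv (P : Subgroup G) hsolv N hnormN hcop
  have h23 : Nat.card {χ : Cfsg.IrrCharacter G //
      (Cfsg.charDegree (χ : G → ℂ)).Coprime (Nat.card (P : Subgroup G))} =
      Nat.card {χ : Cfsg.IrrCharacter N // gpInv N (P : Subgroup G) (χ : N → ℂ)} *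
        Nat.card (P : Subgroup G) := by
    rw [h2]
    congr 1
    apply Nat.card_congr
    apply Equiv.subtypeEquivRight
    intro θ
    constructor
    · intro h s hs g g' hgg'
      have := h ⟨s, hs⟩ g
      rw [← this]
      exact congrArg (θ : N → ℂ) (Subtype.ext hgg')
    · intro h s n
      exact h s s.2 n _ rfl
  -- Step 4
  set B : Subgroup G := N ⊓ Subgroup.centralizer ((P : Subgroup G) : Set G) with hB
  have hBG : B ≤ N := inf_le_left
  have hnormB : ∀ s ∈ (P : Subgroup G), ∀ g ∈ B, s * g * s⁻¹ ∈ B := by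
    intro s hs g hg
    have hcen : g ∈ Subgroup.centralizer ((P : Subgroup G) : Set G) := hg.2
    rw [Subgroup.mem_centralizer_iff] at hcen
    have : s * g * s⁻¹ = g := by rw [hcen s hs]; group
    rw [this]; exact hg
  have h4 := gs_class_step N (P : Subgroup G) (P : Subgroup G) B le_rfl p P.isPGroup' hpN
    hnormN hnormB hB hBG
  have h4' : Nat.card {L : ConjClasses B // gsClsInv B (P : Subgroup G) L} =
      Nat.card (ConjClasses B) := by
    apply Nat.card_congr
    apply Equiv.subtypeUnivEquiv
    intro L s hs g g' hgg' hL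
    have hcen : (g : G) ∈ Subgroup.centralizer ((P : Subgroup G) : Set G) := g.2.2
    rw [Subgroup.mem_centralizer_iff] at hcen
    have : g' = g := by
      apply Subtype.ext
      rw [hgg', hcen s hs]; group
    rw [this]; exact hL
  have h5 := us_count p N P hpN hsup hab
  have h6a := us_split (fun C : ConjClasses G => p ∣ Nat.card C.carrier)
  have h6b := us_split (fun χ : Cfsg.IrrCharacter G => p ∣ Cfsg.charDegree (χ : G → ℂ))
  have h6c : Nat.card {χ : Cfsg.IrrCharacter G // ¬ p ∣ Cfsg.charDegree (χ : G → ℂ)} =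
      Nat.card {χ : Cfsg.IrrCharacter G //
        (Cfsg.charDegree (χ : G → ℂ)).Coprime (Nat.card (P : Subgroup G))} := by
    apply Nat.card_congr
    apply Equiv.subtypeEquivRight
    intro χ
    rw [hPcard, Nat.coprime_pow_right_iff hk1, Nat.coprime_comm, Nat.Prime.coprime_iff_not_dvd hp]
  have h0 := Cfsg.Agent.S0133.result (G := G)
  rw [h6a, h6b, hone, h6c, h23, h3, h4, h4', h5] at h0
  nlinarith [h0]

end Cfsg.Agent.S4763
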