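import Cfsg.Statements.S4774
import Cfsg.Agent.Lib.helper14.DegGraph
import Cfsg.Agent.Lib.helper14.SL2Q3
import Cfsg.Agent.S2299
import Cfsg.Agent.S2322

set_option autoImplicit false
open Cfsg

namespace Cfsg.Agent.S4774

open Cfsg.Agent.Lib.helper14 Cfsg.Agent.Lib.helper7 Cfsg.Agent.S2304
open scoped ComplexConjugate

section Arith

theorem sq_sub_one (q : ℕ) (hq : 1 ≤ q) : q ^ 2 - 1 = (q - 1) * (q + 1) := by
  obtain ⟨k, rfl⟩ : ∃ k, q = k + 1 := ⟨q - 1, by omega⟩
  have : (k + 1) ^ 2 = k * (k + 2) + 1 := by ring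
  rw [this]
  simp

theorem graph_arith_odd (q t k : ℕ) (ht : t.Prime) (ht2 : t ≠ 2) (hqt : q = t ^ k) (h5 : 5 < q)
    (D : Set ℕ) (hsub : D ⊆ {1, q, q + 1, q - 1, (q + 1) / 2, (q - 1) / 2})
    (hq : q ∈ D) (hp : q + 1 ∈ D) (hm : q - 1 ∈ D) :
    {p : ℕ | p.Prime ∧ ∃ d ∈ D, p ∣ d} = {r : ℕ | r.Prime ∧ r ∣ q * (q ^ 2 - 1)} ∧
    ∀ r s : ℕ, (r ≠ s ∧ r.Prime ∧ s.Prime ∧ ∃ d ∈ D, r * s ∣ d) ↔
      (r ≠ s ∧ r.Prime ∧ s.Prime ∧ r ∣ q ^ 2 - 1 ∧ s ∣ q ^ 2 - 1 ∧
        (r = 2 ∨ s = 2 ∨ (r ∣ q + 1 ∧ s ∣ q + 1) ∨ (r ∣ q - 1 ∧ s ∣ q - 1))) := by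
  have hq1 : 1 ≤ q := by omega
  have hsq := sq_sub_one q hq1
  have hodd : Odd q := by
    rw [hqt]
    exact (ht.odd_of_ne_two ht2).pow
  obtain ⟨m, hm'⟩ := hodd
  have hhp : (q + 1) / 2 * 2 = q + 1 := by omega
  have hhm : (q - 1) / 2 * 2 = q - 1 := by omega
  have d2p : 2 ∣ q + 1 := ⟨(q + 1) / 2, by omega⟩
  have d2m : 2 ∣ q - 1 := ⟨(q - 1) / 2, by omega⟩
  have dvd_p : ∀ r : ℕ, r ∣ q + 1 → r ∣ q ^ 2 - 1 := by
    intro r h
    rw [hsq]
    exact Dvd.dvd.mul_left h _
  have dvd_m : ∀ r : ℕ, r ∣ q - 1 → r ∣ q ^ 2 - 1 := by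
    intro r h
    rw [hsq]
    exact Dvd.dvd.mul_right h _
  have ndvd1 : ∀ r : ℕ, r.Prime → ¬ r ∣ 1 := by
    intro r hr h
    have := Nat.le_of_dvd one_pos h
    have := hr.two_le
    omega
  constructor
  · ext r
    simp only [Set.mem_setOf_eq]
    constructor
    · rintro ⟨hr, d, hd, hrd⟩
      refine ⟨hr, ?_⟩
      have := hsub hd
      simp only [Set.mem_insert_iff, Set.mem_singleton_iff] at this
      rcases this with rfl | rfl | rfl | rfl | rfl | rfl
      · exact absurd hrd (ndvd1 r hr)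
      · exact Dvd.dvd.mul_right hrd _
      · exact Dvd.dvd.mul_left (dvd_p r hrd) _
      · exact Dvd.dvd.mul_left (dvd_m r hrd) _
      · apply Dvd.dvd.mul_left (dvd_p r _) _
        rw [← hhp]
        exact Dvd.dvd.mul_right hrd _
      · apply Dvd.dvd.mul_left (dvd_m r _) _
        rw [← hhm]
        exact Dvd.dvd.mul_right hrd _
    · rintro ⟨hr, h⟩
      refine ⟨hr, ?_⟩
      rcases (Nat.Prime.dvd_mul hr).mp h with h | h
      · exact ⟨q, hq, h⟩
      · rw [hsq] at h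
        rcases (Nat.Prime.dvd_mul hr).mp h with h | h
        · exact ⟨q - 1, hm, h⟩
        · exact ⟨q + 1, hp, h⟩
  · intro r s
    constructor
    · rintro ⟨hne, hr, hs, d, hd, hdvd⟩
      have hrd : r ∣ d := Dvd.dvd.trans (Dvd.intro _ rfl) hdvd
      have hsd : s ∣ d := Dvd.dvd.trans (Dvd.intro_left _ rfl) hdvd
      have := hsub hd
      simp only [Set.mem_insert_iff, Set.mem_singleton_iff] at this
      rcases this with rfl | rfl | rfl | rfl | rfl | rfl
      · exact absurd hrd (ndvd1 r hr)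
      · exfalso
        rw [hqt] at hrd hsd
        have h1 := (Nat.prime_dvd_prime_iff_eq hr ht).mp (hr.dvd_of_dvd_pow hrd)
        have h2 := (Nat.prime_dvd_prime_iff_eq hs ht).mp (hs.dvd_of_dvd_pow hsd)
        exact hne (h1.trans h2.symm)
      · exact ⟨hne, hr, hs, dvd_p r hrd, dvd_p s hsd, Or.inr (Or.inr (Or.inl ⟨hrd, hsd⟩))⟩
      · exact ⟨hne, hr, hs, dvd_m r hrd, dvd_m s hsd, Or.inr (Or.inr (Or.inr ⟨hrd, hsd⟩))⟩
      · have hr' : r ∣ q + 1 := by rw [← hhp]; exact Dvd.dvd.mul_right hrd _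
        have hs' : s ∣ q + 1 := by rw [← hhp]; exact Dvd.dvd.mul_right hsd _
        exact ⟨hne, hr, hs, dvd_p r hr', dvd_p s hs', Or.inr (Or.inr (Or.inl ⟨hr', hs'⟩))⟩
      · have hr' : r ∣ q - 1 := by rw [← hhm]; exact Dvd.dvd.mul_right hrd _
        have hs' : s ∣ q - 1 := by rw [← hhm]; exact Dvd.dvd.mul_right hsd _
        exact ⟨hne, hr, hs, dvd_m r hr', dvd_m s hs', Or.inr (Or.inr (Or.inr ⟨hr', hs'⟩))⟩
    · rintro ⟨hne, hr, hs, hr1, hs1, h⟩
      refine ⟨hne, hr, hs, ?_⟩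
      have hcop : Nat.Coprime r s := (Nat.coprime_primes hr hs).mpr hne
      have two_case : ∀ s' : ℕ, s'.Prime → s' ≠ 2 → s' ∣ q ^ 2 - 1 → ∃ d ∈ D, 2 * s' ∣ d := by
        intro s' hs' hs2 hdvd
        have hc : Nat.Coprime 2 s' := (Nat.coprime_primes Nat.prime_two hs').mpr (Ne.symm hs2)
        rw [hsq] at hdvd
        rcases (Nat.Prime.dvd_mul hs').mp hdvd with h' | h'
        · exact ⟨q - 1, hm, hc.mul_dvd_of_dvd_of_dvd d2m h'⟩
        · exact ⟨q + 1, hp, hc.mul_dvd_of_dvd_of_dvd d2p h'⟩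
      rcases h with rfl | rfl | ⟨h1, h2⟩ | ⟨h1, h2⟩
      · exact two_case s hs (Ne.symm hne) hs1
      · obtain ⟨d, hd, hdv⟩ := two_case r hr hne hr1
        exact ⟨d, hd, by rw [mul_comm]; exact hdv⟩
      · exact ⟨q + 1, hp, hcop.mul_dvd_of_dvd_of_dvd h1 h2⟩
      · exact ⟨q - 1, hm, hcop.mul_dvd_of_dvd_of_dvd h1 h2⟩

end Arith

section SLdeg

variable (F : Type*) [Field F] [Fintype F]

local notation "S2" => Matrix.SpecialLinearGroup (Fin 2) F

theorem exists_of_card_pos (c : ℂ)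
    (h : 0 < Nat.card {χ : Cfsg.IrrCharacter S2 // (χ : S2 → ℂ) 1 = c}) :
    ∃ χ : Cfsg.IrrCharacter S2, (χ : S2 → ℂ) 1 = c := by
  have : Nonempty {χ : Cfsg.IrrCharacter S2 // (χ : S2 → ℂ) 1 = c} := by
    by_contra hne
    rw [not_nonempty_iff] at hne
    rw [Nat.card_of_isEmpty] at h
    exact lt_irrefl _ h
  obtain ⟨χ, hχ⟩ := this
  exact ⟨χ, hχ⟩

theorem charDegrees_SL2_odd (hodd : Odd (Fintype.card F)) (h7 : 7 ≤ Fintype.card F) :
    Cfsg.charDegrees S2 ⊆ {1, Fintype.card F, Fintype.card F + 1, Fintype.card F - 1,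
      (Fintype.card F + 1) / 2, (Fintype.card F - 1) / 2} ∧
    (∃ ψ : Cfsg.IrrCharacter S2, (ψ : S2 → ℂ) 1 = (Fintype.card F : ℂ)) ∧
    Fintype.card F ∈ Cfsg.charDegrees S2 ∧ Fintype.card F + 1 ∈ Cfsg.charDegrees S2 ∧
    Fintype.card F - 1 ∈ Cfsg.charDegrees S2 := by
  obtain ⟨hdeg, hcount⟩ := Cfsg.Agent.S2299.result (F := F) hodd
  obtain ⟨c1, cq, cp, cm, -, -⟩ := hcount (by omega)
  have hq1 : 1 ≤ Fintype.card F := by omega
  have hcast : (Fintype.card F : ℂ) - 1 = ((Fintype.card F - 1 : ℕ) : ℂ) := by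
    rw [Nat.cast_sub hq1]; simp
  obtain ⟨ψq, hψq⟩ := exists_of_card_pos F (Fintype.card F : ℂ) (by rw [cq]; exact one_pos)
  refine ⟨?_, ⟨ψq, hψq⟩, ?_, ?_, ?_⟩
  · rintro d ⟨χ, rfl⟩
    simp only [Set.mem_insert_iff, Set.mem_singleton_iff]
    rcases hdeg _ χ.2 with h | h | h | h | h | h
    · left
      exact charDegree_of_natCast _ 1 (by rw [h]; simp)
    · right; left
      exact charDegree_of_natCast _ _ h
    · right; right; left
      exact charDegree_of_natCast _ _ (by rw [h]; simp)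
    · right; right; right; left
      exact charDegree_of_natCast _ _ (by rw [h, hcast])
    · right; right; right; right; left
      exact charDegree_of_natCast _ _ h
    · right; right; right; right; right
      exact charDegree_of_natCast _ _ h
  · exact ⟨ψq, charDegree_of_natCast _ _ hψq⟩
  · obtain ⟨χ, hχ⟩ := exists_of_card_pos F ((Fintype.card F : ℂ) + 1) (by rw [cp]; omega)
    exact ⟨χ, charDegree_of_natCast _ _ (by rw [hχ]; simp)⟩
  · obtain ⟨χ, hχ⟩ := exists_of_card_pos F ((Fintype.card F : ℂ) - 1) (by rw [cm]; omega)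
    exact ⟨χ, charDegree_of_natCast _ _ (by rw [hχ, hcast])⟩

end SLdeg

section Aux

variable {F : Type*} [Field F] [Fintype F] [DecidableEq F]
variable [Fintype (Cfsg.IrrCharacter (GL (Fin 2) F))] [Fintype (MulChar F ℂ)]
variable [Fintype (Cfsg.IrrCharacter (Matrix.SpecialLinearGroup (Fin 2) F))]

local notation "G2" => GL (Fin 2) F
local notation "S2" => Matrix.SpecialLinearGroup (Fin 2) F
local notation "M2" => Matrix (Fin 2) (Fin 2) F
local notation "Irr2" => Cfsg.IrrCharacter (GL (Fin 2) F)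
local notation "IrrS" => Cfsg.IrrCharacter (Matrix.SpecialLinearGroup (Fin 2) F)

open Classical

theorem toGL_neg_one : (Matrix.SpecialLinearGroup.toGL (-1 : S2) : G2) = zG F := by
  apply Units.ext
  rw [zG_coe]
  show ((-1 : S2) : M2) = _
  rw [Matrix.SpecialLinearGroup.coe_neg, Matrix.SpecialLinearGroup.coe_one]
  simp

theorem center_cases (z : S2) (hz : z ∈ Subgroup.center S2) : z = 1 ∨ z = -1 := by
  have hsc : IsScalar2 (z : M2) := by
    obtain ⟨r, -, hr⟩ := Matrix.SpecialLinearGroup.mem_center_iff.mp hz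
    rw [← hr]
    refine ⟨by simp, by simp, by simp⟩
  exact scalar_sl2 z hsc

/-- a type-A character of `GL₂` with trivial central sign gives a degree of `PSL₂` -/
theorem mem_of_typeA (η : Irr2) (ht : twI η = 1)
    (hz : (η : G2 → ℂ) (zG F) = (η : G2 → ℂ) 1) (n : ℕ) (hn : (η : G2 → ℂ) 1 = (n : ℂ)) :
    n ∈ Cfsg.charDegrees (Matrix.ProjectiveSpecialLinearGroup (Fin 2) F) := by
  have hirr : Cfsg.IsIrrCharacter S2 (resS (η : G2 → ℂ)) := by
    apply h7_irr_of_norm_one (isCharacter_resS η)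
    rw [resS_norm, ht]
    simp
  have h1 : resS (η : G2 → ℂ) 1 = (n : ℂ) := by rw [resS_one, hn]
  have := mem_charDegrees_quot (Subgroup.center S2) (⟨_, hirr⟩ : IrrS) (by
    intro z hz'
    rcases center_cases z hz' with h | h
    · rw [h]
    · rw [h]
      show resS (η : G2 → ℂ) (-1) = resS (η : G2 → ℂ) 1
      rw [resS_apply, toGL_neg_one, hz, resS_one])
  rw [charDegree_of_natCast _ n h1] at this
  exact this

/-- a principal series character of degree `q + 1` trivial on the centre -/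
theorem qp1_mem (hq : 7 ≤ Fintype.card F) :
    Fintype.card F + 1 ∈ Cfsg.charDegrees (Matrix.ProjectiveSpecialLinearGroup (Fin 2) F) := by
  have hq1 : Fintype.card F - 1 ≠ 0 := by omega
  obtain ⟨μ, hμ⟩ := MulChar.exists_mulChar_orderOf F (dvd_refl (Fintype.card F - 1))
    (Complex.isPrimitiveRoot_exp (Fintype.card F - 1) hq1)
  have hpow : ∀ j : ℕ, 0 < j → j ≤ 4 → μ ^ j ≠ 1 := by
    intro j hj0 hj4 h
    have := orderOf_dvd_of_pow_eq_one h
    rw [hμ] at this
    have := Nat.le_of_dvd hj0 this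
    omega
  have hne : μ ^ 2 ≠ (1 : MulChar F ℂ) := hpow 2 (by norm_num) (by norm_num)
  have ht : twI (glRirr (μ ^ 2) 1 hne) = 1 := by
    by_contra h
    have h := (twI_glRirr_ne_one_iff (μ ^ 2) 1 hne).mp h
    apply hpow 4 (by norm_num) (by norm_num)
    rw [mul_one, inv_pow, inv_eq_one, ← pow_mul] at h
    exact h
  apply mem_of_typeA (glRirr (μ ^ 2) 1 hne) ht
  · rw [glRirr_apply, glR_zG, glRirr_one, MulChar.pow_apply' μ (by norm_num : (2 : ℕ) ≠ 0),
      pow_two, mulChar_neg_one_sq, MulChar.one_apply (by simp : IsUnit (-1 : F))]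
    ring
  · rw [glRirr_one]
    push_cast
    ring

/-- the number of type-B cuspidal characters -/
theorem card_typeB_cusp (hodd : Odd (Fintype.card F)) (m : ℕ) (hm3 : 3 ≤ m)
    (hm : Fintype.card F = 2 * m + 1) :
    ((glPsi (F := F)).filter (fun η => ¬ twI η = 1)).card = m := by
  obtain ⟨-, -, -, -, -, c6⟩ := Cfsg.Agent.S2299.counts (F := F) hodd m (by omega) hm
  have s6 := Cfsg.Agent.S2299.star_nat (F := F) m (by omega)
  have ab := Cfsg.Agent.S2299.a_add_b (F := F) m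
  have z6 : Cfsg.Agent.S2299.tG F m = 0 :=
    Cfsg.Agent.S2299.tG_zero _ (by omega) (by omega) (by omega) (by omega)
  rw [c6, hm] at s6
  have hb : Cfsg.Agent.S2299.bG F (2 * m) = m := by omega
  rw [← hb]
  unfold Cfsg.Agent.S2299.bG
  obtain ⟨-, -, -, e4⟩ := Cfsg.Agent.S2298.filter_eq (F := F) (by omega)
  rw [← e4, Finset.filter_filter]
  congr 1
  apply Finset.filter_congr
  intro χ _
  have : ((2 * m : ℕ) : ℂ) = (Fintype.card F : ℂ) - 1 := by
    rw [hm]; push_cast; ring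
  rw [this]
  exact and_comm

/-- a cuspidal character of type A with trivial central sign -/
theorem exists_cusp (hodd : Odd (Fintype.card F)) (m : ℕ) (hm3 : 3 ≤ m)
    (hm : Fintype.card F = 2 * m + 1) :
    ∃ η ∈ glPsi (F := F), twI η = 1 ∧ (η : G2 → ℂ) (zG F) = (η : G2 → ℂ) 1 := by
  by_contra hcon
  have h2F := Cfsg.Agent.S2322.two_ne_zero_of_odd (F := F) hodd
  have hneg : (-1 : F) ≠ 1 := by
    intro h
    apply h2F
    linear_combination -h
  have hsum := sum_glPsi_zG (F := F) hneg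
  have hU := card_typeB_cusp hodd m hm3 hm
  have hcard := two_card_glPsi (F := F)
  have hsplit := Finset.card_filter_add_card_filter_not (s := glPsi (F := F))
    (fun η => twI η = 1)
  rw [hU] at hsplit
  set T := (glPsi (F := F)).filter (fun η => twI η = 1) with hT
  have hTcard : T.card = 2 * m * m := by
    rw [hm] at hcard
    simp only [Nat.add_sub_cancel] at hcard
    have : 2 * (T.card + m) = 2 * m * (2 * m) + 2 * m := by rw [hsplit]; exact hcard
    have e : 2 * m * (2 * m) = 2 * (2 * m * m) := by ring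
    omega
  have hqc : (Fintype.card F : ℂ) - 1 = 2 * (m : ℂ) := by
    rw [hm]; push_cast; ring
  -- values at the central element
  have hval : ∀ η ∈ glPsi (F := F), (η : G2 → ℂ) (zG F) = 2 * (m : ℂ) ∨
      (η : G2 → ℂ) (zG F) = -(2 * (m : ℂ)) := by
    intro η hη
    obtain ⟨c, hc, hc1⟩ := central_const η
    have h1 := hc 1
    rw [mul_one, (glPsi_values η hη).1, hqc] at h1
    rcases hc1 with rfl | rfl
    · left; rw [h1]; ring
    · right; rw [h1]; ring
  have hvalT : ∀ η ∈ T, (η : G2 → ℂ) (zG F) = -(2 * (m : ℂ)) := by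
    intro η hη
    rw [hT, Finset.mem_filter] at hη
    rcases hval η hη.1 with h | h
    · exfalso
      apply hcon
      refine ⟨η, hη.1, hη.2, ?_⟩
      rw [h, (glPsi_values η hη.1).1, hqc]
    · exact h
  have hre : ∀ η ∈ (glPsi (F := F)).filter (fun η => ¬ twI η = 1),
      ((η : G2 → ℂ) (zG F)).re ≤ 2 * (m : ℝ) := by
    intro η hη
    rw [Finset.mem_filter] at hη
    rcases hval η hη.1 with h | h
    · rw [h]; simp
    · rw [h]
      simp only [Complex.neg_re, Complex.mul_re, Complex.re_ofNat, Complex.natCast_re,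
        Complex.im_ofNat, Complex.natCast_im, mul_zero, sub_zero]
      have : (0 : ℝ) ≤ (m : ℝ) := Nat.cast_nonneg m
      linarith
  rw [← Finset.sum_filter_add_sum_filter_not (glPsi (F := F)) (fun η => twI η = 1), ← hT,
    Finset.sum_congr rfl hvalT, Finset.sum_const, hTcard, hqc] at hsum
  have hsum' := congrArg Complex.re hsum
  have hUre := Finset.sum_le_sum hre
  rw [Finset.sum_const, hU, ← Complex.re_sum] at hUre
  set X := (∑ η ∈ (glPsi (F := F)).filter (fun η => ¬ twI η = 1), (η : G2 → ℂ) (zG F)).re with hX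
  simp only [Complex.mul_re, Complex.add_re, Complex.re_ofNat, Complex.im_ofNat, zero_mul,
    sub_zero, nsmul_eq_mul, Complex.neg_re, Complex.natCast_re, Complex.natCast_im, mul_zero,
    Nat.cast_mul, Nat.cast_ofNat] at hsum' hUre
  have hm3' : (3 : ℝ) ≤ (m : ℝ) := by exact_mod_cast hm3
  simp only [pow_two, Complex.mul_re, Complex.neg_re, Complex.re_ofNat, Complex.natCast_re,
    Complex.im_ofNat, Complex.natCast_im, mul_zero, sub_zero, Complex.mul_im, zero_mul,
    add_zero, Complex.neg_im, neg_zero] at hsum'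
  nlinarith [hsum', hUre, hm3', mul_pos (by linarith : (0:ℝ) < m) (by linarith : (0:ℝ) < m)]

theorem qm1_mem (hodd : Odd (Fintype.card F)) (hq : 7 ≤ Fintype.card F) :
    Fintype.card F - 1 ∈ Cfsg.charDegrees (Matrix.ProjectiveSpecialLinearGroup (Fin 2) F) := by
  obtain ⟨m, hm⟩ := hodd
  obtain ⟨η, hη, ht, hz⟩ := exists_cusp ⟨m, hm⟩ m (by omega) hm
  apply mem_of_typeA η ht hz
  rw [(glPsi_values η hη).1]
  have : 1 ≤ Fintype.card F := by omega
  rw [Nat.cast_sub this]
  simp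

end Aux


/-- Let F be a finite field of odd characteristic t with q > 5 elements and let S be isomorphic to PSL(2,F) or to SL(2,F). Then the vertices of the character degree graph of S are the primes dividing q(q²−1); the prime t is adjacent to no vertex; two distinct primes dividing q² − 1 are adjacent exactly when one of them is 2, or both divide q + 1, or both divide q − 1. -/
theorem result (F : Type*) [Field F] [Fintype F] (t : ℕ) [Fact t.Prime] [CharP F t] (ht : t ≠ 2) (q : ℕ) (hq : Fintype.card F = q) (h5 : 5 < q) {S : Type*} [Group S] [Finite S] (hS : Nonempty (S ≃* Matrix.ProjectiveSpecialLinearGroup (Fin 2) F) ∨ Nonempty (S ≃* Matrix.SpecialLinearGroup (Fin 2) F)) : Cfsg.degreePrimes S = {r : ℕ | r.Prime ∧ r ∣ q * (q ^ 2 - 1)} ∧ ∀ r s : ℕ, (Cfsg.degreeGraph S).Adj r s ↔ (r ≠ s ∧ r.Prime ∧ s.Prime ∧ r ∣ q ^ 2 - 1 ∧ s ∣ q ^ 2 - 1 ∧ (r = 2 ∨ s = 2 ∨ (r ∣ q + 1 ∧ s ∣ q + 1) ∨ (r ∣ q - 1 ∧ s ∣ q - 1))) := by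
  classical
  haveI : Fintype (Cfsg.IrrCharacter (GL (Fin 2) F)) := Fintype.ofFinite _
  haveI : Fintype (Cfsg.IrrCharacter (Matrix.SpecialLinearGroup (Fin 2) F)) := Fintype.ofFinite _
  haveI : Fintype (MulChar F ℂ) := Fintype.ofFinite _
  subst hq
  have htp : t.Prime := Fact.out
  obtain ⟨k, -, hcard⟩ := FiniteField.card F t
  have hodd : Odd (Fintype.card F) := by
    rw [hcard]
    exact (htp.odd_of_ne_two ht).pow
  have h7 : 7 ≤ Fintype.card F := by
    obtain ⟨m, hm⟩ := hodd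
    omega
  obtain ⟨hsub, ⟨ψq, hψq⟩, mq, mp, mm⟩ := charDegrees_SL2_odd F hodd h7
  have hPsub : Cfsg.charDegrees (Matrix.ProjectiveSpecialLinearGroup (Fin 2) F) ⊆
      Cfsg.charDegrees (Matrix.SpecialLinearGroup (Fin 2) F) :=
    charDegrees_quot_subset (Subgroup.center (Matrix.SpecialLinearGroup (Fin 2) F))
  have pq : Fintype.card F ∈
      Cfsg.charDegrees (Matrix.ProjectiveSpecialLinearGroup (Fin 2) F) := by
    have := mem_charDegrees_quot (Subgroup.center (Matrix.SpecialLinearGroup (Fin 2) F)) ψq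
      (fun z hz => Cfsg.Agent.S4765.deg_q_center (by omega) _ ψq.2 hψq z hz)
    rw [charDegree_of_natCast _ _ hψq] at this
    exact this
  have pp := qp1_mem (F := F) h7
  have pm := qm1_mem (F := F) hodd h7
  rcases hS with ⟨⟨e⟩⟩ | ⟨⟨e⟩⟩
  · have hD := charDegrees_congr e
    exact graph_arith_odd (Fintype.card F) t k htp ht hcard h5 (Cfsg.charDegrees S)
      (by rw [hD]; exact hPsub.trans hsub) (by rw [hD]; exact pq) (by rw [hD]; exact pp)
      (by rw [hD]; exact pm)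
  · have hD := charDegrees_congr e
    exact graph_arith_odd (Fintype.card F) t k htp ht hcard h5 (Cfsg.charDegrees S)
      (by rw [hD]; exact hsub) (by rw [hD]; exact mq) (by rw [hD]; exact mp)
      (by rw [hD]; exact mm)

end Cfsg.Agent.S4774
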