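import Cfsg.Statements.S4784
import Cfsg.Agent.Lib.Helper25.PermReal

set_option autoImplicit false
open Cfsg

namespace Cfsg.Agent.S4784

/-- Let H be a subgroup of the finite group G and consider the permutation character of G on the cosets of H (the function induced from the principal character of H). Then exactly one irreducible constituent of it is real-valued with Frobenius–Schur indicator +1 (namely the principal character) if and only if the normal core of H has odd index in G. -/
theorem result {G : Type*} [Group G] [Fintype G] (H : Subgroup G) : Nat.card {χ : Cfsg.IrrCharacter G // Cfsg.classInner (Cfsg.indFun H (fun _ : H => (1 : ℂ))) (χ : G → ℂ) ≠ 0 ∧ (∀ g : G, (starRingEnd ℂ) ((χ : G → ℂ) g) = (χ : G → ℂ) g) ∧ (Nat.card G : ℂ)⁻¹ * ∑ g : G, (χ : G → ℂ) (g * g) = 1} = 1 ↔ Odd H.normalCore.index := by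
  haveI : Finite (Cfsg.IrrCharacter G) := Cfsg.Agent.Lib.Helper25.irr_finite G
  constructor
  · intro h
    rw [Nat.card_eq_one_iff_unique] at h
    obtain ⟨hsub, hne⟩ := h
    apply Cfsg.Agent.Lib.Helper25.odd_of_unique H
    intro χ h1 h2 h3
    have := @Subsingleton.elim _ hsub ⟨χ, h1, h2, h3⟩
      ⟨Cfsg.Agent.Lib.Helper25.trivIrr G, Cfsg.Agent.Lib.Helper25.triv_mem H⟩
    exact congrArg Subtype.val this
  · intro hodd
    rw [Nat.card_eq_one_iff_unique]
    refine ⟨⟨?_⟩, ⟨⟨Cfsg.Agent.Lib.Helper25.trivIrr G, Cfsg.Agent.Lib.Helper25.triv_mem H⟩⟩⟩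
    rintro ⟨χ, h1, h2, h3⟩ ⟨ψ, h1', h2', h3'⟩
    apply Subtype.ext
    show χ = ψ
    rw [Cfsg.Agent.Lib.Helper25.triv_of_odd_core H hodd χ h1 h3,
      Cfsg.Agent.Lib.Helper25.triv_of_odd_core H hodd ψ h1' h3']

end Cfsg.Agent.S4784
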