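import Cfsg.Statements.S4796
import Cfsg.Agent.Lib.Helper25.CharAbelian

set_option autoImplicit false
set_option linter.deprecated false
open Cfsg

namespace Cfsg.Agent.S4796
open scoped Pointwise

theorem frobenius_structure {G : Type*} [Group G] [Finite G] (p d : ℕ) (hp : p.Prime)
    (hd : 0 < d) (hcard : Nat.card G = p * d) (hdd : d * d ≤ p * d)
    (hstar : ∀ A : Subgroup G, (∀ a b : A, a * b = b * a) → Nat.card A ≤ p) :
    (IsCyclic G ∧ Nat.card G = p) ∨
      ∃ H : Subgroup G, Cfsg.IsFrobeniusComplement H ∧ Nat.card ↥(Cfsg.frobeniusKernel H) = p := by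
  classical
  haveI : Fact p.Prime := ⟨hp⟩
  have hdp : d ≤ p := Nat.le_of_mul_le_mul_right hdd hd
  have hdp' : d < p := by
    rcases lt_or_eq_of_le hdp with h | h
    · exact h
    · exfalso
      subst h
      have hG : Nat.card G = d ^ 2 := by rw [hcard, pow_two]
      have hcomm : ∀ a b : G, a * b = b * a := IsPGroup.commutative_of_card_eq_prime_sq hG
      have := hstar ⊤ (fun a b => Subtype.ext (hcomm a b))
      rw [Subgroup.card_top, hcard] at this
      have h2 : 2 ≤ d := hp.two_le
      nlinarith
  have hpd : ¬ p ∣ d := fun h => by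
    have := Nat.le_of_dvd hd h
    omega
  obtain ⟨P⟩ : Nonempty (Sylow p G) := inferInstance
  have hfac : (Nat.card G).factorization p = 1 := by
    rw [hcard, Nat.factorization_mul hp.ne_zero hd.ne', Finsupp.add_apply,
      Nat.Prime.factorization_self hp, Nat.factorization_eq_zero_of_not_dvd hpd]
  have hPcard : Nat.card (P : Subgroup G) = p := by
    rw [P.card_eq_multiplicity, hfac, pow_one]
  have hPindex : (P : Subgroup G).index = d := by
    have := (P : Subgroup G).card_mul_index
    rw [hPcard, hcard] at this
    exact Nat.eq_of_mul_eq_mul_left hp.pos this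
  have hnp : Nat.card (Sylow p G) = 1 := by
    have h1 : Nat.card (Sylow p G) ≡ 1 [MOD p] := card_sylow_modEq_one p G
    have h2 : Nat.card (Sylow p G) ∣ d := hPindex ▸ P.card_dvd_index
    have h3 : Nat.card (Sylow p G) ≤ d := Nat.le_of_dvd hd h2
    have h4 : Nat.card (Sylow p G) < p := lt_of_le_of_lt h3 hdp'
    have h5 := h1
    unfold Nat.ModEq at h5
    rw [Nat.mod_eq_of_lt h4, Nat.mod_eq_of_lt hp.one_lt] at h5
    exact h5
  haveI hPn : (P : Subgroup G).Normal := by
    have h1 := P.card_eq_index_normalizer
    rw [hnp] at h1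
    have h2 := Subgroup.index_eq_one.1 h1.symm
    exact Subgroup.normalizer_eq_top_iff.1 h2
  have hcent : ∀ x ∈ (P : Subgroup G), x ≠ 1 → ∀ g : G, g * x = x * g → g ∈ (P : Subgroup G) := by
    intro x hxP hx1 g hgx
    have hord : orderOf x = p := by
      have h1 : orderOf (⟨x, hxP⟩ : (P : Subgroup G)) ∣ p :=
        (orderOf_dvd_natCard _).trans (dvd_of_eq hPcard)
      rw [Subgroup.orderOf_mk] at h1
      rcases (Nat.dvd_prime hp).1 h1 with h | h
      · exact absurd (orderOf_eq_one_iff.1 h) hx1
      · exact h
    have hzc : Nat.card (Subgroup.zpowers x) = p := by rw [Nat.card_zpowers, hord]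
    have hzP : Subgroup.zpowers x = (P : Subgroup G) :=
      Subgroup.eq_of_le_of_card_ge ((Subgroup.zpowers_le).2 hxP) (by rw [hzc, hPcard])
    have hcomm : ∀ a ∈ ({x, g} : Set G), ∀ b ∈ ({x, g} : Set G), a * b = b * a := by
      intro a ha b hb
      simp only [Set.mem_insert_iff, Set.mem_singleton_iff] at ha hb
      rcases ha with rfl | rfl <;> rcases hb with rfl | rfl
      · rfl
      · exact hgx.symm
      · exact hgx
      · rfl
    haveI := Subgroup.isMulCommutative_closure hcomm
    have hA := hstar (Subgroup.closure {x, g}) (fun a b => mul_comm' a b)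
    have hzA : Subgroup.zpowers x = Subgroup.closure {x, g} :=
      Subgroup.eq_of_le_of_card_ge
        ((Subgroup.zpowers_le).2 (Subgroup.subset_closure (by simp))) (by rw [hzc]; exact hA)
    rw [← hzP, hzA]
    exact Subgroup.subset_closure (by simp)
  by_cases hd1 : d = 1
  · left
    rw [hd1, mul_one] at hcard
    exact ⟨isCyclic_of_prime_card hcard, hcard⟩
  right
  have hd2 : 2 ≤ d := by omega
  have hcop : (Nat.card (P : Subgroup G)).Coprime (P : Subgroup G).index := by
    rw [hPcard, hPindex]
    exact (Nat.Prime.coprime_iff_not_dvd hp).2 hpd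
  obtain ⟨H, hH⟩ := Subgroup.exists_left_complement'_of_coprime hcop
  have hHcard : Nat.card H = d := by
    have := hH.card_mul
    rw [hPcard, hcard, mul_comm] at this
    exact Nat.eq_of_mul_eq_mul_left hp.pos this
  have hdisj : ∀ a : G, a ∈ H → a ∈ (P : Subgroup G) → a = 1 := by
    intro a haH haP
    have := hH.disjoint
    rw [Subgroup.disjoint_def] at this
    exact this haH haP
  have hdecomp : ∀ g : G, ∃ h ∈ H, ∃ y ∈ (P : Subgroup G), g = h * y := by
    intro g
    obtain ⟨⟨⟨h, hh⟩, ⟨y, hy⟩⟩, hxy, _⟩ := (Subgroup.IsComplement.existsUnique hH) g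
    exact ⟨h, hh, y, hy, hxy.symm⟩
  have hdecomp' : ∀ g : G, ∃ y ∈ (P : Subgroup G), ∃ h ∈ H, g = y * h := by
    intro g
    obtain ⟨⟨⟨y, hy⟩, ⟨h, hh⟩⟩, hxy, _⟩ := (Subgroup.IsComplement.existsUnique hH.symm) g
    exact ⟨y, hy, h, hh, hxy.symm⟩
  have hmemconj : ∀ (g a : G), a ∈ MulAut.conj g • H ↔ g⁻¹ * a * g ∈ H := by
    intro g a
    rw [Subgroup.mem_pointwise_smul_iff_inv_smul_mem]
    simp [MulAut.smul_def]
  refine ⟨H, ⟨?_, ?_, ?_⟩, ?_⟩
  · intro hbot
    rw [hbot, Subgroup.card_bot] at hHcard
    omega
  · intro htop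
    rw [htop, Subgroup.card_top, hcard] at hHcard
    have : 2 ≤ p := hp.two_le
    nlinarith
  · intro g hg
    rw [Subgroup.eq_bot_iff_forall]
    intro a ha
    rw [Subgroup.mem_inf, hmemconj] at ha
    obtain ⟨haH, hb⟩ := ha
    obtain ⟨y, hy, h, hh, rfl⟩ := hdecomp' g
    have hy1 : y ≠ 1 := by
      rintro rfl
      apply hg
      rw [one_mul]
      exact hh
    set b' := h * ((y * h)⁻¹ * a * (y * h)) * h⁻¹ with hb'
    have hb'H : b' ∈ H := H.mul_mem (H.mul_mem hh hb) (H.inv_mem hh)
    have hb'eq : b' = y⁻¹ * a * y := by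
      rw [hb']; group
    have h1 : a * b'⁻¹ ∈ H := H.mul_mem haH (H.inv_mem hb'H)
    have h2 : a * b'⁻¹ ∈ (P : Subgroup G) := by
      have : a * b'⁻¹ = (a * y⁻¹ * a⁻¹) * y := by
        rw [hb'eq]; group
      rw [this]
      exact (P : Subgroup G).mul_mem
        (hPn.conj_mem _ ((P : Subgroup G).inv_mem hy) a) hy
    have h3 : a = b' := by
      have := hdisj _ h1 h2
      exact mul_inv_eq_one.1 this
    have h4 : a * y = y * a := by
      rw [hb'eq] at h3
      calc a * y = y * (y⁻¹ * a * y) := by group
        _ = y * a := by rw [← h3]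
    exact hdisj a haH (hcent y hy hy1 a h4)
  · have hPcomm : ∀ a ∈ (P : Subgroup G), ∀ b ∈ (P : Subgroup G), a * b = b * a := by
      intro a ha b hb
      haveI : IsCyclic (P : Subgroup G) := isCyclic_of_prime_card hPcard
      haveI : IsMulCommutative (P : Subgroup G) := IsCyclic.commutative
      have := mul_comm' (⟨a, ha⟩ : (P : Subgroup G)) ⟨b, hb⟩
      exact congrArg Subtype.val this
    have hset : Cfsg.frobeniusKernel H = ((P : Subgroup G) : Set G) := by
      ext x
      simp only [Cfsg.frobeniusKernel, Set.mem_setOf_eq, SetLike.mem_coe]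
      constructor
      · rintro (rfl | hx)
        · exact (P : Subgroup G).one_mem
        · by_contra hxP
          obtain ⟨h, hh, y, hy, rfl⟩ := hdecomp x
          have hh1 : h ≠ 1 := by
            rintro rfl
            apply hxP
            rw [one_mul]; exact hy
          let φ : ↥(P : Subgroup G) → ↥(P : Subgroup G) := fun z =>
            ⟨h⁻¹ * z * h * z⁻¹, (P : Subgroup G).mul_mem
              (by
                have := hPn.conj_mem _ z.2 h⁻¹
                rw [inv_inv] at this
                exact this) ((P : Subgroup G).inv_mem z.2)⟩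
          have hφinj : Function.Injective φ := by
            intro z z' hzz
            have h1 : h⁻¹ * z * h * (z : G)⁻¹ = h⁻¹ * z' * h * (z' : G)⁻¹ :=
              congrArg Subtype.val hzz
            by_contra hne
            have hw1 : ((z' : G)⁻¹ * z) ≠ 1 := by
              intro hw
              apply hne
              apply Subtype.ext
              have := inv_mul_eq_one.1 hw
              exact this.symm
            have hwP : ((z' : G)⁻¹ * z) ∈ (P : Subgroup G) :=
              (P : Subgroup G).mul_mem ((P : Subgroup G).inv_mem z'.2) z.2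
            have hcomm : h * ((z' : G)⁻¹ * z) = ((z' : G)⁻¹ * z) * h := by
              have h2 : (z : G) * h * (z : G)⁻¹ = z' * h * (z' : G)⁻¹ := by
                have : h * (h⁻¹ * z * h * (z : G)⁻¹) = h * (h⁻¹ * z' * h * (z' : G)⁻¹) := by
                  rw [h1]
                calc (z : G) * h * (z : G)⁻¹ = h * (h⁻¹ * z * h * (z : G)⁻¹) := by group
                  _ = h * (h⁻¹ * z' * h * (z' : G)⁻¹) := this
                  _ = z' * h * (z' : G)⁻¹ := by group
              calc h * ((z' : G)⁻¹ * z) = (z' : G)⁻¹ * (z' * h * (z' : G)⁻¹) * z := by group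
                _ = (z' : G)⁻¹ * (z * h * (z : G)⁻¹) * z := by rw [h2]
                _ = ((z' : G)⁻¹ * z) * h := by group
            have := hcent _ hwP hw1 h hcomm
            exact hh1 (hdisj h hh this)
          have hφsurj : Function.Surjective φ := Finite.injective_iff_surjective.1 hφinj
          obtain ⟨z, hz⟩ := hφsurj ⟨y⁻¹, (P : Subgroup G).inv_mem hy⟩
          have hz' : h⁻¹ * z * h * (z : G)⁻¹ = y⁻¹ := congrArg Subtype.val hz
          apply hx (z : G)⁻¹
          rw [hmemconj, inv_inv]
          have hyz : y * (z : G)⁻¹ = (z : G)⁻¹ * y :=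
            hPcomm y hy _ ((P : Subgroup G).inv_mem z.2)
          have : (z : G) * (h * y) * (z : G)⁻¹ = h := by
            calc (z : G) * (h * y) * (z : G)⁻¹ = h * (h⁻¹ * z * h) * (y * (z : G)⁻¹) := by group
              _ = h * (h⁻¹ * z * h) * ((z : G)⁻¹ * y) := by rw [hyz]
              _ = h * (h⁻¹ * z * h * (z : G)⁻¹) * y := by group
              _ = h := by rw [hz']; group
          rw [this]
          exact hh
      · intro hxP
        by_cases hx1 : x = 1
        · exact Or.inl hx1
        · right
          intro g hg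
          rw [hmemconj] at hg
          have h2 : g⁻¹ * x * g ∈ (P : Subgroup G) := by
            have := hPn.conj_mem _ hxP g⁻¹
            rw [inv_inv] at this
            exact this
          have := hdisj _ hg h2
          apply hx1
          have h3 : x = g * (g⁻¹ * x * g) * g⁻¹ := by group
          rw [h3, this]
          group
    rw [hset]
    exact hPcard


open Cfsg.Agent.Lib.Helper25 in
/-- Let G be a finite group with a faithful irreducible complex character χ whose codegree #G / χ(1) is a prime p (for a faithful character the kernel is trivial, so the codegree is #G / χ(1)). Then either G is cyclic of order p, or G is a Frobenius group whose Frobenius kernel has order p: some proper non-trivial subgroup H satisfies H ∩ gHg⁻¹ = 1 for every element g outside H, and the set of elements lying in no conjugate of H, together with the identity, has exactly p elements. -/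
theorem result {G : Type*} [Group G] [Finite G] (χ : Cfsg.IrrCharacter G) (hfaith : ∀ g : G, (χ : G → ℂ) g = (χ : G → ℂ) 1 → g = 1) (p : ℕ) (hp : p.Prime) (hcod : Nat.card G = p * Cfsg.charDegree (χ : G → ℂ)) : (IsCyclic G ∧ Nat.card G = p) ∨ ∃ H : Subgroup G, Cfsg.IsFrobeniusComplement H ∧ Nat.card ↥(Cfsg.frobeniusKernel H) = p := by
  obtain ⟨_, hd⟩ := charDegree_irr χ
  apply frobenius_structure p (Cfsg.charDegree (χ : G → ℂ)) hp hd hcod
  · rw [← hcod]
    exact irr_degree_sq_le χ
  · intro A hA
    have := abelian_subgroup_card_mul_degree_le χ A hA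
    rw [hcod] at this
    exact Nat.le_of_mul_le_mul_right this hd


end Cfsg.Agent.S4796
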