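import Cfsg.Statements.S4797
import Cfsg.Agent.Lib.Helper25.CharQuot
import Cfsg.Agent.Lib.helper2.CharInt

set_option autoImplicit false
set_option linter.deprecated false
open Cfsg

namespace Cfsg.Agent.S4797
open Cfsg.Agent.Lib.Helper25
open scoped ComplexConjugate

theorem exists_prime_codegree_of_not_perfect {G : Type*} [Group G] [Finite G]
    (h : commutator G ≠ ⊤) :
    ∃ χ : Cfsg.IrrCharacter G, (Nat.card G / (Nat.card {g : G // (χ : G → ℂ) g = (χ : G → ℂ) 1} *
      Cfsg.charDegree (χ : G → ℂ))).Prime := by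
  haveI : Nontrivial (Abelianization G) := by
    rw [← not_subsingleton_iff_nontrivial]
    intro hs
    apply h
    exact (QuotientGroup.subsingleton_iff).1 hs
  obtain ⟨q, μ, hq, hμ⟩ := exists_hom_prime_range (A := Abelianization G)
  set l : G →* ℂˣ := μ.comp Abelianization.of with hl
  have hrange : l.range = μ.range := by
    ext z
    constructor
    · rintro ⟨g, rfl⟩
      exact ⟨Abelianization.of g, rfl⟩
    · rintro ⟨a, rfl⟩
      obtain ⟨g, rfl⟩ := QuotientGroup.mk_surjective a
      exact ⟨g, rfl⟩
  refine ⟨linIrr l, ?_⟩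
  have hdeg : Cfsg.charDegree (linIrr l : G → ℂ) = 1 := by
    unfold Cfsg.charDegree
    rw [linIrr_apply, map_one]
    simp
  have hker : Nat.card {g : G // (linIrr l : G → ℂ) g = (linIrr l : G → ℂ) 1} = Nat.card l.ker := by
    apply Nat.card_congr
    refine Equiv.subtypeEquivRight ?_
    intro g
    rw [linIrr_apply, linIrr_apply, map_one, MonoidHom.mem_ker]
    constructor
    · intro h1
      exact Units.ext h1
    · intro h1
      rw [h1]
  rw [hdeg, hker, mul_one]
  have h1 := l.ker.card_mul_index
  rw [Subgroup.index_ker, hrange, hμ] at h1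
  rw [← h1, Nat.mul_div_cancel_left _ Nat.card_pos]
  exact hq


theorem normal_sylow_aux {G : Type*} [Group G] [Finite G] (p d : ℕ) (hp : p.Prime)
    (hd : 0 < d) (hcard : Nat.card G = p * d) (hdd : d * d ≤ p * d)
    (hstar : ∀ A : Subgroup G, (∀ a b : A, a * b = b * a) → Nat.card A ≤ p) :
    ∃ P : Subgroup G, P.Normal ∧ Nat.card P = p ∧
      ∀ x ∈ P, x ≠ 1 → ∀ g : G, g * x = x * g → g ∈ P := by
  classical
  haveI : Fact p.Prime := ⟨hp⟩
  have hdp : d ≤ p := Nat.le_of_mul_le_mul_right hdd hd
  have hdp' : d < p := by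
    rcases lt_or_eq_of_le hdp with h | h
    · exact h
    · exfalso
      subst h
      have hG : Nat.card G = d ^ 2 := by rw [hcard, pow_two]
      have hcomm : ∀ a b : G, a * b = b * a := IsPGroup.commutative_of_card_eq_prime_sq hG
      have := hstar ⊤ (fun a b => Subtype.ext (hcomm a b))
      rw [Subgroup.card_top, hcard] at this
      have h2 : 2 ≤ d := hp.two_le
      nlinarith
  have hpd : ¬ p ∣ d := fun h => by
    have := Nat.le_of_dvd hd h
    omega
  obtain ⟨P⟩ : Nonempty (Sylow p G) := inferInstance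
  have hfac : (Nat.card G).factorization p = 1 := by
    rw [hcard, Nat.factorization_mul hp.ne_zero hd.ne', Finsupp.add_apply,
      Nat.Prime.factorization_self hp, Nat.factorization_eq_zero_of_not_dvd hpd]
  have hPcard : Nat.card (P : Subgroup G) = p := by
    rw [P.card_eq_multiplicity, hfac, pow_one]
  have hPindex : (P : Subgroup G).index = d := by
    have := (P : Subgroup G).card_mul_index
    rw [hPcard, hcard] at this
    exact Nat.eq_of_mul_eq_mul_left hp.pos this
  have hnp : Nat.card (Sylow p G) = 1 := by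
    have h1 : Nat.card (Sylow p G) ≡ 1 [MOD p] := card_sylow_modEq_one p G
    have h2 : Nat.card (Sylow p G) ∣ d := hPindex ▸ P.card_dvd_index
    have h3 : Nat.card (Sylow p G) ≤ d := Nat.le_of_dvd hd h2
    have h4 : Nat.card (Sylow p G) < p := lt_of_le_of_lt h3 hdp'
    have h5 := h1
    unfold Nat.ModEq at h5
    rw [Nat.mod_eq_of_lt h4, Nat.mod_eq_of_lt hp.one_lt] at h5
    exact h5
  have hPn : (P : Subgroup G).Normal := by
    have h1 := P.card_eq_index_normalizer
    rw [hnp] at h1
    have h2 := Subgroup.index_eq_one.1 h1.symm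
    exact Subgroup.normalizer_eq_top_iff.1 h2
  refine ⟨P, hPn, hPcard, ?_⟩
  intro x hxP hx1 g hgx
  have hord : orderOf x = p := by
    have h1 : orderOf (⟨x, hxP⟩ : (P : Subgroup G)) ∣ p :=
      (orderOf_dvd_natCard _).trans (dvd_of_eq hPcard)
    rw [Subgroup.orderOf_mk] at h1
    rcases (Nat.dvd_prime hp).1 h1 with h | h
    · exact absurd (orderOf_eq_one_iff.1 h) hx1
    · exact h
  have hzc : Nat.card (Subgroup.zpowers x) = p := by rw [Nat.card_zpowers, hord]
  have hzP : Subgroup.zpowers x = (P : Subgroup G) :=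
    Subgroup.eq_of_le_of_card_ge ((Subgroup.zpowers_le).2 hxP) (by rw [hzc, hPcard])
  have hcomm : ∀ a ∈ ({x, g} : Set G), ∀ b ∈ ({x, g} : Set G), a * b = b * a := by
    intro a ha b hb
    simp only [Set.mem_insert_iff, Set.mem_singleton_iff] at ha hb
    rcases ha with rfl | rfl <;> rcases hb with rfl | rfl
    · rfl
    · exact hgx.symm
    · exact hgx
    · rfl
  haveI := Subgroup.isMulCommutative_closure hcomm
  have hA := hstar (Subgroup.closure {x, g}) (fun a b => mul_comm' a b)
  have hzA : Subgroup.zpowers x = Subgroup.closure {x, g} :=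
    Subgroup.eq_of_le_of_card_ge
      ((Subgroup.zpowers_le).2 (Subgroup.subset_closure (by simp))) (by rw [hzc]; exact hA)
  rw [← hzP, hzA]
  exact Subgroup.subset_closure (by simp)

theorem not_perfect_aux {G : Type*} [Group G] [Finite G] (p d : ℕ) (hp : p.Prime)
    (hd : 0 < d) (hcard : Nat.card G = p * d) (hdd : d * d ≤ p * d)
    (hstar : ∀ A : Subgroup G, (∀ a b : A, a * b = b * a) → Nat.card A ≤ p) :
    commutator G ≠ ⊤ := by
  obtain ⟨P, hPn, hPcard, hcent⟩ := normal_sylow_aux p d hp hd hcard hdd hstar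
  intro hperf
  haveI := hPn
  haveI : Fact p.Prime := ⟨hp⟩
  haveI : IsCyclic P := isCyclic_of_prime_card hPcard
  let f : G →* (ZMod (Nat.card P))ˣ :=
    (IsCyclic.mulAutMulEquiv P).toMonoidHom.comp (MulAut.conjNormal (H := P))
  have hker : ∀ g : G, g ∈ f.ker := by
    intro g
    have := Abelianization.commutator_subset_ker f
    rw [hperf] at this
    exact this (Subgroup.mem_top g)
  have hcentral : ∀ g : G, ∀ x : P, g * x * g⁻¹ = x := by
    intro g x
    have h1 := hker g
    rw [MonoidHom.mem_ker, MonoidHom.comp_apply] at h1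
    have h2 : (MulAut.conjNormal (H := P)) g = 1 := by
      have := (IsCyclic.mulAutMulEquiv P).injective (a₁ := MulAut.conjNormal g) (a₂ := 1)
      apply this
      rw [map_one]
      exact h1
    have h3 := congrArg (fun t : MulAut P => ((t x : P) : G)) h2
    simp only [MulAut.conjNormal_apply, MulAut.one_apply] at h3
    exact h3
  have hne : ∃ x : P, x ≠ 1 := by
    haveI : Nontrivial P := by
      rw [← Finite.one_lt_card_iff_nontrivial, hPcard]
      exact hp.one_lt
    exact exists_ne 1
  obtain ⟨x, hx⟩ := hne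
  have hx' : (x : G) ≠ 1 := fun h => hx (Subtype.ext h)
  have htop : P = ⊤ := by
    rw [eq_top_iff]
    intro g _
    apply hcent x x.2 hx' g
    have := hcentral g x
    calc g * x = g * x * g⁻¹ * g := by group
      _ = x * g := by rw [this]
  have hGcard : Nat.card G = p := by
    rw [← hPcard, htop, Subgroup.card_top]
  haveI : IsCyclic G := isCyclic_of_prime_card hGcard
  have hcomm : ∀ a b : G, a * b = b * a := by
    haveI : IsMulCommutative G := IsCyclic.commutative
    exact fun a b => mul_comm' a b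
  have hbot : commutator G = ⊥ := by
    rw [commutator_def, Subgroup.commutator_eq_bot_iff_le_centralizer]
    intro a _
    rw [Subgroup.mem_centralizer_iff]
    intro b _
    exact hcomm b a
  rw [hbot] at hperf
  have : Nat.card (⊥ : Subgroup G) = Nat.card (⊤ : Subgroup G) := by rw [hperf]
  rw [Subgroup.card_bot, Subgroup.card_top, hGcard] at this
  exact hp.ne_one this.symm


theorem no_prime_codegree_of_perfect {G : Type*} [Group G] [Finite G]
    (hperf : commutator G = ⊤) (χ : Cfsg.IrrCharacter G)
    (hdiv : ∀ (K : Subgroup G) [K.Normal] (n : ℕ) (σ : Representation ℂ (G ⧸ K) (Fin n → ℂ)),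
      σ.IsIrreducible → n ∣ Nat.card (G ⧸ K)) :
    ¬ (Nat.card G / (Nat.card {g : G // (χ : G → ℂ) g = (χ : G → ℂ) 1} *
      Cfsg.charDegree (χ : G → ℂ))).Prime := by
  intro hprime
  obtain ⟨K, hKn, n, σ, hσirr, hK, hσ, hfaith⟩ := quotient_setup χ
  haveI := hKn
  haveI := hσirr
  let χ' : Cfsg.IrrCharacter (G ⧸ K) := ⟨σ.character, n, σ, hσirr, rfl⟩
  have hχ'1 : (χ' : G ⧸ K → ℂ) 1 = (χ : G → ℂ) 1 := hσ 1
  have hdeg : Cfsg.charDegree (χ' : G ⧸ K → ℂ) = Cfsg.charDegree (χ : G → ℂ) := by
    unfold Cfsg.charDegree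
    rw [hχ'1]
  obtain ⟨hd1, hd0⟩ := charDegree_irr χ
  have hn : n = Cfsg.charDegree (χ : G → ℂ) := by
    have h1 : (χ' : G ⧸ K → ℂ) 1 = (n : ℂ) := by
      change σ.character 1 = _
      rw [Representation.char_one]
      simp
    rw [hχ'1, ← hd1] at h1
    exact_mod_cast h1.symm
  set d := Cfsg.charDegree (χ : G → ℂ) with hd
  have hKcard : Nat.card {g : G // (χ : G → ℂ) g = (χ : G → ℂ) 1} = Nat.card K := by
    apply Nat.card_congr
    exact Equiv.subtypeEquivRight (fun g => (hK g).symm)
  obtain ⟨c, hc⟩ := hn ▸ hdiv K n σ hσirr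
  have hG : Nat.card G = Nat.card (G ⧸ K) * Nat.card K :=
    Subgroup.card_eq_card_quotient_mul_card_subgroup K
  rw [hKcard, hG, hc] at hprime
  have hKpos : 0 < Nat.card K := Nat.card_pos
  have : d * c * Nat.card K / (Nat.card K * d) = c := by
    rw [show d * c * Nat.card K = c * (Nat.card K * d) by ring]
    exact Nat.mul_div_cancel _ (Nat.mul_pos hKpos hd0)
  rw [this] at hprime
  have hcard : Nat.card (G ⧸ K) = c * d := by rw [hc, mul_comm]
  have hnp := not_perfect_aux (G := G ⧸ K) c d hprime hd0 hcard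
    (by rw [← hcard, ← hdeg]; exact irr_degree_sq_le χ')
    (by
      intro A hA
      have := abelian_subgroup_card_mul_degree_le χ' A hA
      rw [hdeg, hcard] at this
      exact Nat.le_of_mul_le_mul_right this hd0)
  apply hnp
  rw [commutator_def, ← Subgroup.map_top_of_surjective (QuotientGroup.mk' K)
    (QuotientGroup.mk'_surjective K), ← Subgroup.map_commutator, ← commutator_def, hperf]


/-- The codegree of an irreducible complex character χ of a finite group G is [G : ker χ] / χ(1), where ker χ is the set of elements at which χ takes the value χ(1). A non-trivial finite group is perfect if and only if no irreducible complex character of it has prime codegree. -/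
theorem result {G : Type*} [Group G] [Finite G] [Nontrivial G] : commutator G = ⊤ ↔ ∀ χ : Cfsg.IrrCharacter G, ¬ ((Nat.card G / (Nat.card {g : G // (χ : G → ℂ) g = (χ : G → ℂ) 1} * Cfsg.charDegree (χ : G → ℂ)))).Prime := by
  constructor
  · intro hperf χ
    apply no_prime_codegree_of_perfect hperf χ
    intro K _ n σ hσ
    haveI := hσ
    have := Cfsg.Agent.Lib.helper2.degree_dvd_card σ
    simpa using this
  · intro h
    by_contra hne
    obtain ⟨χ, hχ⟩ := exists_prime_codegree_of_not_perfect hne
    exact h χ hχ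

end Cfsg.Agent.S4797
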