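import Cfsg.Statements.S4801
import Cfsg.Agent.Lib.Helper25.Codegree

set_option autoImplicit false
open Cfsg
open Cfsg.Agent.Lib.Helper25

namespace Cfsg.Agent.S4801

/-- The codegree of an irreducible complex character χ of a finite group G is [G : ker χ] / χ(1), where ker χ is the set of elements at which χ takes the value χ(1). Let S be a finite simple group and G a finite group such that every codegree of an irreducible character of S is a codegree of an irreducible character of G. Then the order of S divides the order of G. -/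
theorem result {S : Type*} [Group S] [Finite S] (hS : IsSimpleGroup S) {G : Type*} [Group G] [Finite G] (hsub : ∀ χ : Cfsg.IrrCharacter S, ∃ ψ : Cfsg.IrrCharacter G, (Nat.card S / (Nat.card {g : S // (χ : S → ℂ) g = (χ : S → ℂ) 1} * Cfsg.charDegree (χ : S → ℂ))) = (Nat.card G / (Nat.card {g : G // (ψ : G → ℂ) g = (ψ : G → ℂ) 1} * Cfsg.charDegree (ψ : G → ℂ)))) : Nat.card S ∣ Nat.card G := by
  have hS0 : Nat.card S ≠ 0 := Nat.card_pos.ne'
  have hG0 : Nat.card G ≠ 0 := Nat.card_pos.ne'
  rw [← Nat.factorization_le_iff_dvd hS0 hG0]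
  intro p
  by_cases hp : p.Prime
  · by_cases hpS : p ∣ Nat.card S
    · obtain ⟨χ, hχ, hpχ⟩ := exists_nontriv_coprime_degree (G := S) p hp hpS
      obtain ⟨ψ, hψ⟩ := hsub χ
      rw [ker_card_one_of_simple hS χ hχ, one_mul] at hψ
      have hdvd := codegree_dvd_card ψ
      rw [← hψ] at hdvd
      have hd := charDegree_dvd_card χ
      have hd0 : Cfsg.charDegree (χ : S → ℂ) ≠ 0 := (charDegree_irr χ).2.ne'
      have hq0 : Nat.card S / Cfsg.charDegree (χ : S → ℂ) ≠ 0 := by
        intro h0
        rw [h0] at hdvd
        exact hG0 (Nat.eq_zero_of_zero_dvd hdvd)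
      have h1 : (Nat.card S / Cfsg.charDegree (χ : S → ℂ)).factorization p =
          (Nat.card S).factorization p := by
        rw [Nat.factorization_div hd]
        simp only [Finsupp.coe_tsub, Pi.sub_apply]
        rw [Nat.factorization_eq_zero_of_not_dvd hpχ, Nat.sub_zero]
      have h2 := (Nat.factorization_le_iff_dvd hq0 hG0).2 hdvd p
      rw [h1] at h2
      exact h2
    · rw [Nat.factorization_eq_zero_of_not_dvd hpS]
      exact Nat.zero_le _
  · rw [Nat.factorization_eq_zero_of_not_prime _ hp]
    exact Nat.zero_le _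

end Cfsg.Agent.S4801
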