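import Cfsg.Statements.S4802
import Cfsg.Agent.Lib.Helper25.CharNormal

set_option autoImplicit false
open Cfsg

namespace Cfsg.Agent.S4802

open Cfsg.Agent.Lib.Helper25 in
open scoped ComplexConjugate in
/-- For normal N < M and g ∈ M∖N: g^G = M∖N iff every irreducible character with N in its kernel is constant on M∖N and every irreducible character with N outside its kernel vanishes at g. -/
theorem result {G : Type*} [Group G] [Finite G] (N M : Subgroup G) [N.Normal] [M.Normal] (hNM : N < M) (g : G) (hgM : g ∈ M) (hgN : g ∉ N) : {h : G | IsConj g h} = (M : Set G) \ (N : Set G) ↔ ((∀ χ : Cfsg.IrrCharacter G, (∀ x ∈ N, (χ : G → ℂ) x = (χ : G → ℂ) 1) → ∀ x ∈ M, x ∉ N → ∀ y ∈ M, y ∉ N → (χ : G → ℂ) x = (χ : G → ℂ) y) ∧ (∀ χ : Cfsg.IrrCharacter G, (∃ x ∈ N, (χ : G → ℂ) x ≠ (χ : G → ℂ) 1) → (χ : G → ℂ) g = 0)) := by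
  classical
  have := Fintype.ofFinite G
  have := Fintype.ofFinite (Cfsg.IrrCharacter G)
  have hcne : (Nat.card (Subgroup.centralizer ({g} : Set G)) : ℂ) ≠ 0 := by
    exact_mod_cast Nat.card_pos.ne'
  constructor
  · intro H
    have hmem : ∀ x : G, IsConj g x ↔ (x ∈ M ∧ x ∉ N) := by
      intro x
      have := Set.ext_iff.mp H x
      simpa using this
    constructor
    · intro χ _ x hxM hxN y hyM hyN
      rw [← irr_isConj_eq χ ((hmem x).mpr ⟨hxM, hxN⟩), ← irr_isConj_eq χ ((hmem y).mpr ⟨hyM, hyN⟩)]
    · intro χ hχ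
      have h1 := classInner_indicator g χ
      have h2 := classInner_eq_zero_of_coset_const χ N hχ
        (fun x => if IsConj g x then (1 : ℂ) else 0) (by
          intro x n hn
          have : IsConj g (x * n) ↔ IsConj g x := by
            rw [hmem, hmem]
            constructor
            · rintro ⟨h1, h2⟩
              refine ⟨?_, fun h3 => h2 (N.mul_mem h3 hn)⟩
              have := M.mul_mem h1 (M.inv_mem (hNM.le hn))
              simpa using this
            · rintro ⟨h1, h2⟩
              refine ⟨M.mul_mem h1 (hNM.le hn), fun h3 => h2 ?_⟩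
              have := N.mul_mem h3 (N.inv_mem hn)
              simpa using this
          simp only [this])
      rw [h2] at h1
      have h3 : conj ((χ : G → ℂ) g) = 0 := by
        rcases div_eq_zero_iff.mp h1.symm with h | h
        · exact h
        · exact absurd h hcne
      simpa using h3
  · rintro ⟨HA, HB⟩
    ext x
    simp only [Set.mem_setOf_eq, Set.mem_diff, SetLike.mem_coe]
    constructor
    · intro hx
      obtain ⟨c, hc⟩ := isConj_iff.mp hx
      rw [← hc]
      refine ⟨‹M.Normal›.conj_mem g hgM c, fun h => hgN ?_⟩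
      have := ‹N.Normal›.conj_mem _ h c⁻¹
      simpa [mul_assoc] using this
    · rintro ⟨hxM, hxN⟩
      by_contra hcon
      have hcol := irr_column_orthogonality x g
      rw [if_neg hcon] at hcol
      have hterm : ∀ χ : Cfsg.IrrCharacter G, (χ : G → ℂ) x * conj ((χ : G → ℂ) g) =
          ((Complex.normSq ((χ : G → ℂ) g) : ℝ) : ℂ) := by
        intro χ
        by_cases hχ : ∀ n ∈ N, (χ : G → ℂ) n = (χ : G → ℂ) 1
        · rw [HA χ hχ x hxM hxN g hgM hgN, Complex.mul_conj]
        · push_neg at hχ
          rw [HB χ hχ]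
          simp
      simp only [hterm] at hcol
      have hre := congrArg Complex.re hcol
      rw [Complex.re_sum] at hre
      simp only [Complex.ofReal_re, Complex.zero_re] at hre
      have hpos : (0 : ℝ) < ∑ χ : Cfsg.IrrCharacter G, Complex.normSq ((χ : G → ℂ) g) := by
        apply Finset.sum_pos'
        · intro χ _; exact Complex.normSq_nonneg _
        · exact ⟨trivIrr G, Finset.mem_univ _, by simp⟩
      linarith

end Cfsg.Agent.S4802
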