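import Cfsg.Statements.S4812
import Cfsg.Agent.Lib.helper14.DegGraph
import Cfsg.Agent.S2300

set_option autoImplicit false
open Cfsg

namespace Cfsg.Agent.S4812

open Cfsg.Agent.Lib.helper14

section Aux

variable (F : Type*) [Field F] [Fintype F] [CharP F 2]

local notation "S2" => Matrix.SpecialLinearGroup (Fin 2) F
local notation "M2" => Matrix (Fin 2) (Fin 2) F

theorem exists_of_card_pos (c : ℂ)
    (h : 0 < Nat.card {χ : Cfsg.IrrCharacter S2 // (χ : S2 → ℂ) 1 = c}) :
    ∃ χ : Cfsg.IrrCharacter S2, (χ : S2 → ℂ) 1 = c := by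
  have : Nonempty {χ : Cfsg.IrrCharacter S2 // (χ : S2 → ℂ) 1 = c} := by
    by_contra hne
    rw [not_nonempty_iff] at hne
    rw [Nat.card_of_isEmpty] at h
    exact lt_irrefl _ h
  obtain ⟨χ, hχ⟩ := this
  exact ⟨χ, hχ⟩

theorem charDegrees_SL2_even (h4 : 4 ≤ Fintype.card F) :
    Cfsg.charDegrees S2 =
      {1, Fintype.card F - 1, Fintype.card F, Fintype.card F + 1} := by
  obtain ⟨hdeg, hcount⟩ := Cfsg.Agent.S2300.result (F := F)
  obtain ⟨c1, cq, cp, cm⟩ := hcount h4
  have hq1 : 1 ≤ Fintype.card F := by omega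
  have hcast : (Fintype.card F : ℂ) - 1 = ((Fintype.card F - 1 : ℕ) : ℂ) := by
    rw [Nat.cast_sub hq1]; simp
  apply Set.Subset.antisymm
  · rintro d ⟨χ, rfl⟩
    simp only [Set.mem_insert_iff, Set.mem_singleton_iff]
    rcases hdeg _ χ.2 with h | h | h | h
    · left
      exact charDegree_of_natCast _ 1 (by rw [h]; simp)
    · right; left
      exact charDegree_of_natCast _ _ (by rw [h, hcast])
    · right; right; left
      exact charDegree_of_natCast _ _ h
    · right; right; right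
      exact charDegree_of_natCast _ _ (by rw [h]; simp)
  · intro d hd
    simp only [Set.mem_insert_iff, Set.mem_singleton_iff] at hd
    rcases hd with rfl | rfl | rfl | rfl
    · obtain ⟨χ, hχ⟩ := exists_of_card_pos F 1 (by rw [c1]; exact one_pos)
      exact ⟨χ, charDegree_of_natCast _ 1 (by rw [hχ]; simp)⟩
    · obtain ⟨χ, hχ⟩ := exists_of_card_pos F ((Fintype.card F : ℂ) - 1)
        (by rw [cm]; omega)
      exact ⟨χ, charDegree_of_natCast _ _ (by rw [hχ, hcast])⟩
    · obtain ⟨χ, hχ⟩ := exists_of_card_pos F (Fintype.card F : ℂ) (by rw [cq]; exact one_pos)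
      exact ⟨χ, charDegree_of_natCast _ _ hχ⟩
    · obtain ⟨χ, hχ⟩ := exists_of_card_pos F ((Fintype.card F : ℂ) + 1)
        (by rw [cp]; omega)
      exact ⟨χ, charDegree_of_natCast _ _ (by rw [hχ]; simp)⟩

theorem center_trivial (z : S2) (hz : z ∈ Subgroup.center S2) : z = 1 := by
  have hsc : IsScalar2 (z : M2) := by
    obtain ⟨r, -, hr⟩ := Matrix.SpecialLinearGroup.mem_center_iff.mp hz
    rw [← hr]
    refine ⟨by simp, by simp, by simp⟩
  rcases scalar_sl2 z hsc with h | h
  · exact h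
  · rw [h]
    apply Subtype.ext
    rw [Matrix.SpecialLinearGroup.coe_neg]
    exact CharTwo.neg_eq _

theorem charDegrees_PSL2_even :
    Cfsg.charDegrees (Matrix.ProjectiveSpecialLinearGroup (Fin 2) F) = Cfsg.charDegrees S2 := by
  apply Set.Subset.antisymm
  · exact charDegrees_quot_subset (Subgroup.center S2)
  · rintro d ⟨ψ, rfl⟩
    apply mem_charDegrees_quot (Subgroup.center S2) ψ
    intro z hz
    rw [center_trivial F z hz]

end Aux

section Arith

theorem sq_sub_one (q : ℕ) (hq : 1 ≤ q) : q ^ 2 - 1 = (q - 1) * (q + 1) := by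
  obtain ⟨k, rfl⟩ : ∃ k, q = k + 1 := ⟨q - 1, by omega⟩
  have : (k + 1) ^ 2 = k * (k + 2) + 1 := by ring
  rw [this]
  simp

theorem graph_arith (q a : ℕ) (hqa : q = 2 ^ a) (h4 : 4 ≤ q) (D : Set ℕ)
    (hD : D = {1, q - 1, q, q + 1}) :
    {p : ℕ | p.Prime ∧ ∃ d ∈ D, p ∣ d} = {r : ℕ | r.Prime ∧ r ∣ q * (q ^ 2 - 1)} ∧
    ∀ r s : ℕ, (r ≠ s ∧ r.Prime ∧ s.Prime ∧ ∃ d ∈ D, r * s ∣ d) ↔
      (r ≠ s ∧ r.Prime ∧ s.Prime ∧ ((r ∣ q + 1 ∧ s ∣ q + 1) ∨ (r ∣ q - 1 ∧ s ∣ q - 1))) := by
  have hq1 : 1 ≤ q := by omega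
  have hsq := sq_sub_one q hq1
  subst hD
  constructor
  · ext r
    simp only [Set.mem_setOf_eq, Set.mem_insert_iff, Set.mem_singleton_iff, exists_eq_or_imp,
      exists_eq_left]
    constructor
    · rintro ⟨hr, h | h | h | h⟩
      · exfalso
        have := Nat.le_of_dvd one_pos h
        have := hr.two_le
        omega
      · refine ⟨hr, ?_⟩
        rw [hsq]
        exact Dvd.dvd.mul_left (Dvd.dvd.mul_right h _) _
      · exact ⟨hr, Dvd.dvd.mul_right h _⟩
      · refine ⟨hr, ?_⟩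
        rw [hsq]
        exact Dvd.dvd.mul_left (Dvd.dvd.mul_left h _) _
    · rintro ⟨hr, h⟩
      refine ⟨hr, ?_⟩
      rcases (Nat.Prime.dvd_mul hr).mp h with h | h
      · right; right; left; exact h
      · rw [hsq] at h
        rcases (Nat.Prime.dvd_mul hr).mp h with h | h
        · right; left; exact h
        · right; right; right; exact h
  · intro r s
    constructor
    · rintro ⟨hne, hr, hs, d, hd, hdvd⟩
      refine ⟨hne, hr, hs, ?_⟩
      simp only [Set.mem_insert_iff, Set.mem_singleton_iff] at hd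
      have hrd : r ∣ d := Dvd.dvd.trans (Dvd.intro _ rfl) hdvd
      have hsd : s ∣ d := Dvd.dvd.trans (Dvd.intro_left _ rfl) hdvd
      rcases hd with rfl | rfl | rfl | rfl
      · exfalso
        have := Nat.le_of_dvd one_pos hrd
        have := hr.two_le
        omega
      · right; exact ⟨hrd, hsd⟩
      · exfalso
        rw [hqa] at hrd hsd
        have h1 := (Nat.prime_dvd_prime_iff_eq hr Nat.prime_two).mp (hr.dvd_of_dvd_pow hrd)
        have h2 := (Nat.prime_dvd_prime_iff_eq hs Nat.prime_two).mp (hs.dvd_of_dvd_pow hsd)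
        exact hne (h1.trans h2.symm)
      · left; exact ⟨hrd, hsd⟩
    · rintro ⟨hne, hr, hs, h⟩
      refine ⟨hne, hr, hs, ?_⟩
      have hcop : Nat.Coprime r s := (Nat.coprime_primes hr hs).mpr hne
      rcases h with ⟨h1, h2⟩ | ⟨h1, h2⟩
      · exact ⟨q + 1, by simp, hcop.mul_dvd_of_dvd_of_dvd h1 h2⟩
      · exact ⟨q - 1, by simp, hcop.mul_dvd_of_dvd_of_dvd h1 h2⟩

end Arith

/-- Let F be a finite field of characteristic 2 with q ≥ 4 elements and let S be isomorphic to PSL(2,F) or to SL(2,F). Then the vertices of the character degree graph of S are the primes dividing q(q²−1), and two distinct primes are adjacent exactly when both divide q + 1 or both divide q − 1; so the graph has the three connected components {2}, the primes dividing q + 1 and the primes dividing q − 1, each complete. -/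
theorem result (F : Type*) [Field F] [Fintype F] [CharP F 2] (q : ℕ) (hq : Fintype.card F = q) (h4 : 4 ≤ q) {S : Type*} [Group S] [Finite S] (hS : Nonempty (S ≃* Matrix.ProjectiveSpecialLinearGroup (Fin 2) F) ∨ Nonempty (S ≃* Matrix.SpecialLinearGroup (Fin 2) F)) : Cfsg.degreePrimes S = {r : ℕ | r.Prime ∧ r ∣ q * (q ^ 2 - 1)} ∧ ∀ r s : ℕ, (Cfsg.degreeGraph S).Adj r s ↔ (r ≠ s ∧ r.Prime ∧ s.Prime ∧ ((r ∣ q + 1 ∧ s ∣ q + 1) ∨ (r ∣ q - 1 ∧ s ∣ q - 1))) := by
  subst hq
  have hD : Cfsg.charDegrees S =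
      {1, Fintype.card F - 1, Fintype.card F, Fintype.card F + 1} := by
    rcases hS with ⟨⟨e⟩⟩ | ⟨⟨e⟩⟩
    · rw [charDegrees_congr e, charDegrees_PSL2_even, charDegrees_SL2_even F h4]
    · rw [charDegrees_congr e, charDegrees_SL2_even F h4]
  obtain ⟨a, -, hcard⟩ := FiniteField.card F 2
  exact graph_arith (Fintype.card F) a hcard h4 (Cfsg.charDegrees S) hD

end Cfsg.Agent.S4812
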