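import Cfsg.Statements.S4814
import Cfsg.Agent.Lib.Helper25.CharBound
import Cfsg.Agent.S4856

set_option autoImplicit false
open Cfsg

namespace Cfsg.Agent.S4814

open Cfsg.Agent.Lib.Helper25 in
open scoped ComplexConjugate in
/-- If Σ_{χ ∈ Irr(G)} χ(1)⁻² < 2, then every element of G is a product of two commutators. -/
theorem result {G : Type*} [Group G] [Finite G]
    (h : ∑ᶠ χ : Cfsg.IrrCharacter G, 1 / ‖(χ : G → ℂ) 1‖ ^ 2 < (2 : ℝ)) (g : G) :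
    ∃ a b c d : G, (a * b * a⁻¹ * b⁻¹) * (c * d * c⁻¹ * d⁻¹) = g := by
  classical
  have := Fintype.ofFinite G
  have := Fintype.ofFinite (Cfsg.IrrCharacter G)
  rw [finsum_eq_sum_of_fintype] at h
  have hGne : (Nat.card G : ℂ) ≠ 0 := by exact_mod_cast Nat.card_pos.ne'
  set N : G → ℕ := fun z => Nat.card {xy : G × G // xy.1 * xy.2 * xy.1⁻¹ * xy.2⁻¹ = z} with hN
  have hNz : ∀ z : G, (N z : ℂ) =
      (Nat.card G : ℂ) * ∑ χ : Cfsg.IrrCharacter G, (χ : G → ℂ) z / (χ : G → ℂ) 1 := by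
    intro z
    have := Cfsg.Agent.S4856.result z
    rw [finsum_eq_sum_of_fintype] at this
    exact this
  have hsum : (∑ z : G, (N z : ℂ) * (N (z⁻¹ * g) : ℂ)) =
      (Nat.card G : ℂ) ^ 3 * ∑ χ : Cfsg.IrrCharacter G, (χ : G → ℂ) g / ((χ : G → ℂ) 1) ^ 3 := by
    simp only [hNz]
    have h1 : ∀ z : G, ((Nat.card G : ℂ) * ∑ χ : Cfsg.IrrCharacter G, (χ : G → ℂ) z / (χ : G → ℂ) 1) *
        ((Nat.card G : ℂ) * ∑ ψ : Cfsg.IrrCharacter G, (ψ : G → ℂ) (z⁻¹ * g) / (ψ : G → ℂ) 1) =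
        (Nat.card G : ℂ) ^ 2 * ∑ χ : Cfsg.IrrCharacter G, ∑ ψ : Cfsg.IrrCharacter G,
          ((χ : G → ℂ) z * (ψ : G → ℂ) (z⁻¹ * g)) / ((χ : G → ℂ) 1 * (ψ : G → ℂ) 1) := by
      intro z
      rw [show ∀ a b c d : ℂ, (a * b) * (a * d) = a ^ 2 * (b * d) from fun a b c d => by ring]
      · rw [Finset.sum_mul_sum]
        congr 1
        refine Finset.sum_congr rfl fun χ _ => Finset.sum_congr rfl fun ψ _ => ?_
        rw [div_mul_div_comm]
      · exact 0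
    simp only [h1]
    rw [← Finset.mul_sum, Finset.sum_comm]
    have h2 : ∀ χ : Cfsg.IrrCharacter G, ∑ z : G, ∑ ψ : Cfsg.IrrCharacter G,
        ((χ : G → ℂ) z * (ψ : G → ℂ) (z⁻¹ * g)) / ((χ : G → ℂ) 1 * (ψ : G → ℂ) 1) =
        (Nat.card G : ℂ) * ((χ : G → ℂ) g / ((χ : G → ℂ) 1) ^ 3) := by
      intro χ
      rw [Finset.sum_comm]
      have h3 : ∀ ψ : Cfsg.IrrCharacter G, ∑ z : G,
          ((χ : G → ℂ) z * (ψ : G → ℂ) (z⁻¹ * g)) / ((χ : G → ℂ) 1 * (ψ : G → ℂ) 1) =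
          if χ = ψ then (Nat.card G : ℂ) * ((χ : G → ℂ) g / ((χ : G → ℂ) 1) ^ 3) else 0 := by
        intro ψ
        rw [← Finset.sum_div, irr_convolution]
        split_ifs with hχψ
        · subst hχψ
          have := irr_one_ne_zero χ
          field_simp
        · simp
      simp only [h3]
      rw [Finset.sum_ite_eq]
      simp
    simp only [h2]
    rw [← Finset.mul_sum]
    ring
  have hre : 0 < (∑ χ : Cfsg.IrrCharacter G, (χ : G → ℂ) g / ((χ : G → ℂ) 1) ^ 3).re := by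
    rw [Complex.re_sum]
    have hterm : ∀ χ : Cfsg.IrrCharacter G,
        0 ≤ ((χ : G → ℂ) g / ((χ : G → ℂ) 1) ^ 3).re + 1 / ‖(χ : G → ℂ) 1‖ ^ 2 := by
      intro χ
      obtain ⟨n, hn, hχ1⟩ := irr_one_eq_finrank χ
      have hle := irr_norm_le χ g
      rw [hχ1] at hle ⊢
      have hnpos : (0 : ℝ) < n := by exact_mod_cast hn
      have hnorm : ‖(n : ℂ)‖ = n := by simp
      rw [hnorm] at hle ⊢
      have hdiv : ((χ : G → ℂ) g / (n : ℂ) ^ 3).re = ((χ : G → ℂ) g).re / (n : ℝ) ^ 3 := by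
        have : ((n : ℂ) ^ 3) = (((n : ℝ) ^ 3 : ℝ) : ℂ) := by push_cast; ring
        rw [this, Complex.div_ofReal_re]
      rw [hdiv]
      have hre_ge : -(n : ℝ) ≤ ((χ : G → ℂ) g).re := by
        have := Complex.abs_re_le_norm ((χ : G → ℂ) g)
        have h2 := neg_abs_le (((χ : G → ℂ) g).re)
        linarith
      have : -(1 / (n : ℝ) ^ 2) ≤ ((χ : G → ℂ) g).re / (n : ℝ) ^ 3 := by
        rw [le_div_iff₀ (by positivity)]
        have h3 : -(1 / (n : ℝ) ^ 2) * (n : ℝ) ^ 3 = -(n : ℝ) := by field_simp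
        rw [h3]
        exact hre_ge
      linarith
    have htriv : ((trivIrr G : G → ℂ) g / ((trivIrr G : G → ℂ) 1) ^ 3).re +
        1 / ‖(trivIrr G : G → ℂ) 1‖ ^ 2 = 2 := by
      simp only [trivIrr_apply]
      norm_num
    have hsum2 : (2 : ℝ) ≤ ∑ χ : Cfsg.IrrCharacter G,
        (((χ : G → ℂ) g / ((χ : G → ℂ) 1) ^ 3).re + 1 / ‖(χ : G → ℂ) 1‖ ^ 2) := by
      rw [← htriv]
      exact Finset.single_le_sum (f := fun χ : Cfsg.IrrCharacter G =>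
        ((χ : G → ℂ) g / ((χ : G → ℂ) 1) ^ 3).re + 1 / ‖(χ : G → ℂ) 1‖ ^ 2)
        (fun χ _ => hterm χ) (Finset.mem_univ (trivIrr G))
    rw [Finset.sum_add_distrib] at hsum2
    linarith
  have hne : (∑ z : G, (N z : ℂ) * (N (z⁻¹ * g) : ℂ)) ≠ 0 := by
    rw [hsum]
    apply mul_ne_zero (pow_ne_zero 3 hGne)
    intro h0
    rw [h0] at hre
    simp at hre
  obtain ⟨z, _, hz⟩ := Finset.exists_ne_zero_of_sum_ne_zero hne
  have hz1 : N z ≠ 0 := by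
    intro h0; apply hz; rw [h0]; simp
  have hz2 : N (z⁻¹ * g) ≠ 0 := by
    intro h0; apply hz; rw [h0]; simp
  simp only [hN] at hz1 hz2
  obtain ⟨⟨⟨a, b⟩, hab⟩⟩ := (Nat.card_ne_zero.mp hz1).1
  obtain ⟨⟨⟨c, d⟩, hcd⟩⟩ := (Nat.card_ne_zero.mp hz2).1
  refine ⟨a, b, c, d, ?_⟩
  simp only at hab hcd
  rw [hab, hcd]
  group

end Cfsg.Agent.S4814
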