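import Cfsg.Statements.S4835
import Cfsg.Agent.Lib.Helper25.Gagola

set_option autoImplicit false
open Cfsg

namespace Cfsg.Agent.S4835

open Cfsg.Agent.Lib.Helper25 in
/-- Let G be a finite group of order greater than 2 with an irreducible character χ that is nonzero on exactly two conjugacy classes. Then G has a unique minimal normal subgroup N; N is an elementary abelian p-group for some prime p; χ is nonzero exactly at the elements of N; and any two nonidentity elements of N are conjugate in G. -/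
theorem result {G : Type*} [Group G] [Finite G] (hG : 2 < Nat.card G) (χ : Cfsg.IrrCharacter G) (hχ : Nat.card {C : ConjClasses G // ∃ g ∈ C.carrier, (χ : G → ℂ) g ≠ 0} = 2) :
    ∃ N : Subgroup G, N.Normal ∧ N ≠ ⊥ ∧ (∀ K : Subgroup G, K.Normal → K ≠ ⊥ → N ≤ K) ∧
      (∃ p : ℕ, p.Prime ∧ Cfsg.IsElementaryAbelian p N) ∧
      (∀ g : G, (χ : G → ℂ) g ≠ 0 ↔ g ∈ N) ∧
      (∀ x ∈ N, ∀ y ∈ N, x ≠ 1 → y ≠ 1 → ∃ g : G, g * x * g⁻¹ = y) := by
  obtain ⟨x, hx1, hx0, hsupp⟩ := two_classes_extract χ hχ
  have hmem := gagolaN_iff hG χ x hx1 hsupp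
  have hxN : x ∈ gagolaN χ := (hmem x).2 (Or.inr (IsConj.refl x))
  refine ⟨gagolaN χ, inferInstance, ?_, ?_, ?_, ?_, ?_⟩
  · intro h
    rw [h, Subgroup.mem_bot] at hxN
    exact hx1 hxN
  · intro K hK hK1 g hg
    have hxK := gagola_minimal hG χ x hx1 hsupp K hK hK1
    rcases (hmem g).1 hg with rfl | hc
    · exact K.one_mem
    · obtain ⟨c, hc⟩ := isConj_iff.1 hc
      rw [← hc]
      exact hK.conj_mem _ hxK c
  · exact elemAb_of_conj_transitive (gagolaN χ) x hxN hx1 (fun g hg => (hmem g).1 hg)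
  · intro g
    constructor
    · intro h
      exact (hmem g).2 (hsupp g h)
    · intro h
      rcases (hmem g).1 h with rfl | hc
      · exact irr_one_ne_zero χ
      · rw [← irr_isConj_eq χ hc]
        exact hx0
  · intro a ha b hb ha1 hb1
    have h1 : IsConj x a := ((hmem a).1 ha).resolve_left ha1
    have h2 : IsConj x b := ((hmem b).1 hb).resolve_left hb1
    exact isConj_iff.1 (h1.symm.trans h2)

end Cfsg.Agent.S4835
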