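import Cfsg.Statements.S4837
import Cfsg.Agent.Lib.Helper25.GagolaSylow

set_option autoImplicit false
open Cfsg
open Cfsg.Agent.Lib.Helper25 Cfsg.Agent.Lib.Helper11

namespace Cfsg.Agent.S4837

/-- Let G be a finite group of order greater than 2 with an irreducible character χ nonzero on exactly two conjugacy classes, and let N be the set of elements where χ is nonzero, given as a nontrivial normal p-subgroup of G for the prime p. Then for every nonidentity x in N the centralizer C_G(x) is a Sylow p-subgroup of G, and for every irreducible character λ ≠ 1 of N the stabilizer of λ in G (its inertia group) is a Sylow p-subgroup of G. -/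
theorem result {G : Type*} [Group G] [Finite G] (hG : 2 < Nat.card G) (χ : Cfsg.IrrCharacter G) (hχ : Nat.card {C : ConjClasses G // ∃ g ∈ C.carrier, (χ : G → ℂ) g ≠ 0} = 2) (p : ℕ) [Fact p.Prime] (N : Subgroup G) [N.Normal] (hN : ∀ g : G, g ∈ N ↔ (χ : G → ℂ) g ≠ 0) (hNp : IsPGroup p N) (hN1 : N ≠ ⊥) :
    (∀ x ∈ N, x ≠ 1 → ∃ P : Sylow p G, Subgroup.centralizer ({x} : Set G) = P) ∧
      (∀ μ : Cfsg.IrrCharacter N, (μ : N → ℂ) ≠ (fun _ => (1 : ℂ)) → ∃ P : Sylow p G, ∀ g : G, g ∈ (P : Subgroup G) ↔ ∀ n n' : N, (n' : G) = g * n * g⁻¹ → (μ : N → ℂ) n' = (μ : N → ℂ) n) := by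
  classical
  haveI := Fintype.ofFinite G
  obtain ⟨x₀, hx₀1, hx₀0, hsupp₀⟩ := two_classes_extract χ hχ
  have hx₀N : x₀ ∈ N := (hN x₀).2 hx₀0
  have hallN : ∀ g ∈ N, g = 1 ∨ IsConj x₀ g := fun g hg => hsupp₀ g ((hN g).1 hg)
  constructor
  · intro x hxN hx1
    have hx0 : (χ : G → ℂ) x ≠ 0 := (hN x).1 hxN
    have hconj : IsConj x₀ x := (hsupp₀ x hx0).resolve_left hx1
    have hsupp : ∀ g : G, (χ : G → ℂ) g ≠ 0 → g = 1 ∨ IsConj x g := by
      intro g hg
      rcases hsupp₀ g hg with h | h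
      · exact Or.inl h
      · exact Or.inr (hconj.symm.trans h)
    have hcard : Nat.card (Subgroup.centralizer ({x} : Set G)) *
        Nat.card {g : G // IsConj x g} = Nat.card G := by
      rw [mul_comm]; exact card_conj_mul_card_centralizer x
    obtain ⟨h1, h2⟩ := gagola_sylow_criterion hG χ x hx1 hx0 hsupp p N hN hNp hN1 _ hcard
    exact ⟨h1.toSylow h2, (IsPGroup.toSylow_coe h1 h2).symm⟩
  · intro μ hμ
    obtain ⟨q, hq, hel⟩ := elemAb_of_conj_transitive N x₀ hx₀N hx₀1 hallN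
    have hcomm : ∀ a b : N, a * b = b * a := by
      intro a b
      exact hel.1.is_comm.comm a b
    have hcard := gagola_inertia_card hG χ x₀ hx₀1 hx₀0 hsupp₀ N hN hcomm μ hμ
    obtain ⟨h1, h2⟩ := gagola_sylow_criterion hG χ x₀ hx₀1 hx₀0 hsupp₀ p N hN hNp hN1 _ hcard
    refine ⟨h1.toSylow h2, ?_⟩
    intro g
    rw [IsPGroup.toSylow_coe h1 h2]
    show cj N (μ : N → ℂ) g = (μ : N → ℂ) ↔ _
    constructor
    · intro h n n' hn'
      have h2 := congrFun h n
      rw [cj_apply] at h2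
      rw [← h2]
      apply congrArg
      exact Subtype.ext hn'
    · intro h
      funext n
      rw [cj_apply]
      exact h n ⟨g * n * g⁻¹, _⟩ rfl

end Cfsg.Agent.S4837
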