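import Cfsg.Statements.S4843
import Cfsg.Agent.Lib.helper2.GalProd2

set_option autoImplicit false
open Cfsg

namespace Cfsg.Agent.S4843

/-- Let G be a finite group with a faithful irreducible character χ (taking the value χ(1) only at the identity) and let k be prime to the order of G, so that g ↦ χ(g^k) is a Galois conjugate of χ. If the pointwise product g ↦ χ(g)·χ(g^k) is again an irreducible character, then the Fitting subgroup of G equals its centre. -/
theorem result {G : Type*} [Group G] [Finite G] (χ : Cfsg.IrrCharacter G) (hfaith : ∀ g : G, (χ : G → ℂ) g = (χ : G → ℂ) 1 → g = 1) (k : ℕ) (hk : Nat.Coprime k (Nat.card G)) (hirr : Cfsg.IsIrrCharacter G (fun g => (χ : G → ℂ) g * (χ : G → ℂ) (g ^ k))) : Cfsg.fittingSubgroup G = Subgroup.center G := by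
  classical
  haveI : Fintype G := Fintype.ofFinite G
  unfold Cfsg.fittingSubgroup
  apply le_antisymm
  · apply sSup_le
    rintro N ⟨hN, hnil⟩
    exact Cfsg.Agent.Lib.helper2.gq_nilpotent_central (χ : G → ℂ) χ.2 hfaith k hk hirr
      (Nat.card N) N hN hnil le_rfl
  · apply le_sSup
    refine ⟨inferInstance, ⟨⟨1, ?_⟩⟩⟩
    rw [upperCentralSeries_one]
    exact Subgroup.center_eq_top

end Cfsg.Agent.S4843
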