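import Cfsg.Statements.S4859
import Cfsg.Agent.Lib.Helper25.CharReal

set_option autoImplicit false
open Cfsg

namespace Cfsg.Agent.S4859

theorem not_square_aux {G : Type*} [Group G] [Finite G] (p : ℕ) [Fact p.Prime] (hp : p ≠ 2) (x : G) (hx : ∃ k : ℕ, orderOf x = p ^ k) (heven : Even (Nat.card (Subgroup.centralizer ({x} : Set G)))) (y : G) (hy : y ∈ Subgroup.centralizer ({x} : Set G)) (hy2 : ∃ k : ℕ, orderOf y = 2 ^ k) (hmax : ∀ z ∈ Subgroup.centralizer ({x} : Set G), (∃ k : ℕ, orderOf z = 2 ^ k) → orderOf z ≤ orderOf y) : ¬ ∃ u : G, u * u = x * y := by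
  rintro ⟨u, hu⟩
  obtain ⟨k, hk⟩ := hx
  obtain ⟨m, hm⟩ := hy2
  have hpp : p.Prime := Fact.out
  have hcop : Nat.Coprime (p ^ k) (2 ^ m) := by
    apply Nat.Coprime.pow
    exact (Nat.coprime_primes hpp Nat.prime_two).2 hp
  have hxy : Commute x y := by
    have := Subgroup.mem_centralizer_iff.1 hy x (Set.mem_singleton x)
    exact this
  -- m ≥ 1
  have hm1 : 1 ≤ m := by
    haveI : Fact (Nat.Prime 2) := ⟨Nat.prime_two⟩
    obtain ⟨z, hz⟩ := exists_prime_orderOf_dvd_card' (G := Subgroup.centralizer ({x} : Set G)) 2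
      heven.two_dvd
    have hz' : orderOf (z : G) = 2 := by rw [Subgroup.orderOf_coe]; exact hz
    have := hmax z z.2 ⟨1, by rw [hz', pow_one]⟩
    rw [hz', hm] at this
    by_contra hcon
    have : m = 0 := by omega
    subst this
    norm_num at this
  -- u commutes with x
  have hu_xy : Commute u (x * y) := by
    rw [← hu]
    exact (Commute.refl u).mul_right (Commute.refl u)
  have hxpow : (x * y) ^ (2 ^ m) = x ^ (2 ^ m) := by
    rw [hxy.mul_pow, ← hm, pow_orderOf_eq_one, mul_one]
  obtain ⟨j, hj⟩ := exists_pow_eq_self_of_coprime (x := x) (n := 2 ^ m) (by rw [hk]; exact hcop.symm)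
  have hux : Commute u x := by
    rw [← hj, ← hxpow]
    exact (hu_xy.pow_right _).pow_right _
  set w := u ^ (p ^ k) with hw
  have hwx : w ∈ Subgroup.centralizer ({x} : Set G) := by
    rw [Subgroup.mem_centralizer_iff]
    intro h hh
    rw [Set.mem_singleton_iff] at hh
    subst hh
    exact ((hux.pow_left _).symm).eq
  have hww : w ^ 2 = y ^ (p ^ k) := by
    rw [hw, ← pow_mul, mul_comm, pow_mul, pow_two, hu, hxy.mul_pow, ← hk, pow_orderOf_eq_one, one_mul]
  have hord : orderOf (w ^ 2) = 2 ^ m := by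
    rw [hww, ← hm]
    apply Nat.Coprime.orderOf_pow
    rw [hm]
    exact hcop.symm
  have hord2 : orderOf (w ^ 2) = orderOf w / Nat.gcd (orderOf w) 2 := orderOf_pow w
  have hwpos : 0 < orderOf w := orderOf_pos w
  have hgcd : Nat.gcd (orderOf w) 2 = 1 ∨ Nat.gcd (orderOf w) 2 = 2 := by
    have : Nat.gcd (orderOf w) 2 ∣ 2 := Nat.gcd_dvd_right _ _
    rcases (Nat.dvd_prime Nat.prime_two).1 this with h | h
    · exact Or.inl h
    · exact Or.inr h
  rcases hgcd with h | h
  · rw [h, Nat.div_one] at hord2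
    rw [← hord2, hord] at h
    have : 2 ∣ Nat.gcd (2 ^ m) 2 := Nat.dvd_gcd (dvd_pow_self 2 (by omega)) dvd_rfl
    rw [h] at this
    norm_num at this
  · rw [h] at hord2
    have h2 : 2 ∣ orderOf w := by
      rw [← h]; exact Nat.gcd_dvd_left _ _
    have hw2 : orderOf w = 2 ^ (m + 1) := by
      obtain ⟨c, hc⟩ := h2
      rw [hc, Nat.mul_div_cancel_left _ (by norm_num : 0 < 2)] at hord2
      rw [hc, ← hord2, hord, pow_succ, mul_comm]
    have := hmax w hwx ⟨m + 1, hw2⟩
    rw [hw2, hm] at this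
    have : 2 ^ m < 2 ^ (m + 1) := Nat.pow_lt_pow_right (by norm_num) (by omega)
    omega


open Cfsg.Agent.Lib.Helper25 in
/-- Let p be an odd prime, G a finite group and x an element of G whose order is a power of p (possibly 1) and whose centralizer has even order. Let y be a 2-element of the centralizer of x whose order is largest among the 2-elements of that centralizer. Then x * y is not a square in G, and some non-principal real-valued irreducible character of G does not vanish at x * y. -/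
theorem result {G : Type*} [Group G] [Finite G] (p : ℕ) [Fact p.Prime] (hp : p ≠ 2) (x : G) (hx : ∃ k : ℕ, orderOf x = p ^ k) (heven : Even (Nat.card (Subgroup.centralizer ({x} : Set G)))) (y : G) (hy : y ∈ Subgroup.centralizer ({x} : Set G)) (hy2 : ∃ k : ℕ, orderOf y = 2 ^ k) (hmax : ∀ z ∈ Subgroup.centralizer ({x} : Set G), (∃ k : ℕ, orderOf z = 2 ^ k) → orderOf z ≤ orderOf y) : (¬ ∃ u : G, u * u = x * y) ∧ ∃ χ : Cfsg.IrrCharacter G, ¬ ((χ : G → ℂ) = fun _ => (1 : ℂ)) ∧ (∀ g : G, ((χ : G → ℂ) g).im = 0) ∧ (χ : G → ℂ) (x * y) ≠ 0 := by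
  have h1 := not_square_aux p hp x hx heven y hy hy2 hmax
  exact ⟨h1, exists_real_irr_ne_zero_of_not_square (x * y) h1⟩

end Cfsg.Agent.S4859
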