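import Cfsg.Statements.S4866
import Cfsg.Agent.Lib.Helper25.RealOrbits

set_option autoImplicit false
open Cfsg

namespace Cfsg.Agent.S4866

/-- Let K be a normal subgroup of odd index in the finite group G. Then G has as many orbits on the real-valued irreducible complex characters of K (acting by conjugation) as it has orbits on the conjugacy classes of K that are real in K; equivalently, the number of G-orbits of real-valued irreducible characters of K equals the number of G-conjugacy classes of elements of K that are conjugate in K to their inverses. -/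
theorem result {G : Type*} [Group G] [Finite G] (K : Subgroup G) [K.Normal] (hodd : Odd K.index) : Nat.card (Quot (fun θ η : {θ : Cfsg.IrrCharacter ↥K // (∀ k : ↥K, ((θ : ↥K → ℂ) k).im = 0)} => ∃ g : G, ∀ k k' : ↥K, (k' : G) = g * (k : G) * g⁻¹ → (η.1 : ↥K → ℂ) k' = (θ.1 : ↥K → ℂ) k)) = Nat.card (Quot (fun x y : {x : ↥K // IsConj x x⁻¹} => ∃ g : G, (y.1 : G) = g * x.1 * g⁻¹)) := by
  classical
  rw [Cfsg.Agent.Lib.Helper25.card_quot_real_chars, Cfsg.Agent.Lib.Helper25.card_quot_real_classes]
  letI := Cfsg.Agent.Lib.Helper25.irrMulAction K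
  letI := Cfsg.Agent.Lib.Helper25.classMulAction K
  exact Cfsg.Agent.Lib.Helper25.real_orbit_count (Z := Cfsg.IrrCharacter K) (W := ConjClasses K) K hodd
    Cfsg.Agent.Lib.Helper25.irrConj Cfsg.Agent.Lib.Helper25.irrConj_irrConj
    (fun g θ => Cfsg.Agent.Lib.Helper25.irrConj_conjIrr K g θ)
    (fun x hx θ => Cfsg.Agent.Lib.Helper25.conjIrr_of_mem K x hx θ)
    (Cfsg.Agent.Lib.Helper25.invClass K) (Cfsg.Agent.Lib.Helper25.invClass_invClass K)
    (fun g C => Cfsg.Agent.Lib.Helper25.invClass_classAct K g C)
    (fun x hx C => Cfsg.Agent.Lib.Helper25.classAct_of_mem K x hx C)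
    (fun g => Cfsg.Agent.Lib.Helper25.brauer_twisted K g)

end Cfsg.Agent.S4866
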