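import Cfsg.Statements.S4873
import Cfsg.Agent.Lib.Helper25.RealOver

set_option autoImplicit false
open Cfsg
open Cfsg.Agent.Lib.Helper25 Cfsg.Agent.Lib.Helper24

namespace Cfsg.Agent.S4873

/-- Let N be a normal subgroup of odd index in the finite group G. Then every irreducible complex character of N with Frobenius–Schur indicator +1 lies under exactly one irreducible character of G with Frobenius–Schur indicator +1. -/
theorem result {G : Type*} [Group G] [Finite G] (N : Subgroup G) [N.Normal] (hodd : Odd N.index) (φ : Cfsg.IrrCharacter ↥N) (hφ : (Nat.card ↥N : ℂ)⁻¹ * ∑ᶠ g : ↥N, (φ : ↥N → ℂ) (g * g) = 1) : ∃! χ : Cfsg.IrrCharacter G, (Nat.card G : ℂ)⁻¹ * ∑ᶠ g : G, (χ : G → ℂ) (g * g) = 1 ∧ (∑ᶠ n : ↥N, (χ : G → ℂ) n * (starRingEnd ℂ) ((φ : ↥N → ℂ) n)) ≠ 0 := by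
  classical
  haveI : Fintype G := Fintype.ofFinite G
  haveI : Fintype N := Fintype.ofFinite N
  have hφ' : fsNu φ = 1 := by
    unfold fsNu
    rw [← finsum_eq_sum_of_fintype]
    exact hφ
  have hN : (Nat.card N : ℂ) ≠ 0 := by exact_mod_cast Nat.card_pos.ne'
  have hiff : ∀ χ : Cfsg.IrrCharacter G,
      ((Nat.card G : ℂ)⁻¹ * ∑ᶠ g : G, (χ : G → ℂ) (g * g) = 1 ∧
        (∑ᶠ n : ↥N, (χ : G → ℂ) n * (starRingEnd ℂ) ((φ : ↥N → ℂ) n)) ≠ 0) ↔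
      (fsNu χ = 1 ∧ resInner N χ φ ≠ 0) := by
    intro χ
    have h1 : (Nat.card G : ℂ)⁻¹ * ∑ᶠ g : G, (χ : G → ℂ) (g * g) = fsNu χ := by
      unfold fsNu
      rw [finsum_eq_sum_of_fintype]
    have h2 : resInner N χ φ = (Nat.card N : ℂ)⁻¹ *
        ∑ᶠ n : ↥N, (χ : G → ℂ) n * (starRingEnd ℂ) ((φ : ↥N → ℂ) n) := by
      unfold resInner Cfsg.classInner
      rw [finsum_eq_sum_of_fintype]
    rw [h1, h2]
    constructor
    · rintro ⟨ha, hb⟩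
      exact ⟨ha, mul_ne_zero (inv_ne_zero hN) hb⟩
    · rintro ⟨ha, hb⟩
      exact ⟨ha, fun h0 => hb (by rw [h0, mul_zero])⟩
  obtain ⟨χ₀, hχ₀, huniq⟩ := strongly_real_over N hodd φ hφ'
  exact ⟨χ₀, (hiff χ₀).2 hχ₀, fun χ hχ => huniq χ ((hiff χ).1 hχ)⟩

end Cfsg.Agent.S4873
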