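import Cfsg.Statements.S4911
import Cfsg.Agent.Lib.helper2.GlaubR1
import Cfsg.Agent.S0160

set_option autoImplicit false
open Cfsg

namespace Cfsg.Agent.S4911

open Cfsg

open Cfsg.Agent.Lib.helper2 in


/-- Let P and K be subgroups of a finite group with P a p-group normalizing K and K of order prime to p. Then the number of P-invariant real-valued irreducible complex characters of K equals the number of conjugacy classes of K that are real (closed under inversion) and P-invariant. Moreover, if every real-valued irreducible character of K is P-invariant, then every real element of K (one conjugate in K to its inverse) is conjugate in K to an element centralized by P. -/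
theorem result {G : Type*} [Group G] [Finite G] (p : ℕ) [Fact p.Prime] (P K : Subgroup G) (hP : IsPGroup p ↥P) (hK : ¬ p ∣ Nat.card ↥K) (hPK : P ≤ Subgroup.normalizer (K : Set G)) : Nat.card {θ : Cfsg.IrrCharacter ↥K // (∀ k : ↥K, ((θ : ↥K → ℂ) k).im = 0) ∧ (∀ x ∈ P, ∀ k k' : ↥K, (k' : G) = x * (k : G) * x⁻¹ → (θ : ↥K → ℂ) k' = (θ : ↥K → ℂ) k)} = Nat.card {c : ConjClasses ↥K // (∀ k : ↥K, ConjClasses.mk k = c → IsConj k k⁻¹) ∧ ∀ k : ↥K, ConjClasses.mk k = c → ∀ x ∈ P, ∀ k' : ↥K, (k' : G) = x * (k : G) * x⁻¹ → ConjClasses.mk k' = c} ∧ ((∀ θ : Cfsg.IrrCharacter ↥K, (∀ k : ↥K, ((θ : ↥K → ℂ) k).im = 0) → (∀ x ∈ P, ∀ k k' : ↥K, (k' : G) = x * (k : G) * x⁻¹ → (θ : ↥K → ℂ) k' = (θ : ↥K → ℂ) k)) → ∀ k : ↥K, IsConj k k⁻¹ → ∃ k' : ↥K, IsConj k k' ∧ ∀ x ∈ P, x * (k' : G) * x⁻¹ = (k' : G)) := by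
  classical
  haveI : Fintype G := Fintype.ofFinite _
  haveI : Fintype K := Fintype.ofFinite _
  obtain ⟨C, hC⟩ : ∃ C : Subgroup G, C = K ⊓ Subgroup.centralizer (P : Set G) := ⟨_, rfl⟩
  haveI : Fintype C := Fintype.ofFinite _
  have hCK : C ≤ K := hC ▸ inf_le_left
  have hp : p.Prime := Fact.out
  have hnorm : ∀ x ∈ P, ∀ k ∈ K, x * k * x⁻¹ ∈ K := by
    intro x hx k hk
    exact (Subgroup.mem_normalizer_iff.mp (hPK hx) k).mp hk
  have hcop : (Nat.card K).Coprime (Nat.card P) := by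
    obtain ⟨n, hn⟩ := IsPGroup.iff_card.mp hP
    rw [hn]
    apply Nat.Coprime.pow_right
    exact (Nat.Coprime.symm ((Nat.Prime.coprime_iff_not_dvd hp).mpr hK))
  have hcorr := gp_main p (Nat.card P) K P rfl hnorm hcop hP C hC hCK
  have e1 := gr_char_real_bij K P C hCK p hp hcorr
  have e2 := gr_class_real_bij K P C p hP hK hnorm hC hCK
  have e3 : Nat.card {β : Cfsg.IrrCharacter C // ∀ c : C, ((β : C → ℂ) c).im = 0} =
      Nat.card {L : ConjClasses C // ∀ k : C, ConjClasses.mk k = L → IsConj k k⁻¹} :=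
    Cfsg.Agent.S0160.result
  have part1 := e1.trans (e3.trans e2.symm)
  refine ⟨part1, ?_⟩
  intro hall k hk
  -- all real classes are invariant
  have e4 : Nat.card {θ : Cfsg.IrrCharacter K // (∀ k : K, ((θ : K → ℂ) k).im = 0) ∧
      gpInv K P (θ : K → ℂ)} =
      Nat.card {θ : Cfsg.IrrCharacter K // ∀ k : K, ((θ : K → ℂ) k).im = 0} :=
    Nat.card_congr (Equiv.subtypeEquivRight
      (fun θ => ⟨fun h => h.1, fun h => ⟨h, hall θ h⟩⟩))
  have e5 : Nat.card {θ : Cfsg.IrrCharacter K // ∀ k : K, ((θ : K → ℂ) k).im = 0} =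
      Nat.card {c : ConjClasses K // ∀ k : K, ConjClasses.mk k = c → IsConj k k⁻¹} :=
    Cfsg.Agent.S0160.result
  let ι : {c : ConjClasses K // (∀ k : K, ConjClasses.mk k = c → IsConj k k⁻¹) ∧
      ∀ k : K, ConjClasses.mk k = c → ∀ x ∈ P, ∀ k' : K, (k' : G) = x * (k : G) * x⁻¹ →
        ConjClasses.mk k' = c} →
      {c : ConjClasses K // ∀ k : K, ConjClasses.mk k = c → IsConj k k⁻¹} :=
    fun c => ⟨c.1, c.2.1⟩
  have hιinj : Function.Injective ι := by
    intro a b hab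
    apply Subtype.ext
    have h2 : (ι a).1 = (ι b).1 := by rw [hab]
    exact h2
  have hιbij : Function.Bijective ι := by
    rw [Nat.bijective_iff_injective_and_card]
    refine ⟨hιinj, ?_⟩
    rw [← part1, ← e5, ← e4]
  have hreal : ∀ k' : K, ConjClasses.mk k' = ConjClasses.mk k → IsConj k' k'⁻¹ := by
    rw [gr_real_mk]
    rw [← ConjClasses.mk_eq_mk_iff_isConj, gs_mk_eq_iff] at hk
    obtain ⟨x, hx, he⟩ := hk
    exact ⟨x, hx, by simpa using he⟩
  obtain ⟨⟨c, hc1, hc2⟩, hc⟩ := hιbij.2 ⟨ConjClasses.mk k, hreal⟩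
  have hck : c = ConjClasses.mk k := congrArg Subtype.val hc
  subst hck
  have hel : gsElInv K P (k : G) := by
    rw [← gsClsInv_mk K P hnorm]
    intro s hs a a' haa' ha
    exact hc2 a ha s hs a' haa'
  obtain ⟨x, hx, hfix⟩ := gs_class_meets K P p hP hK hnorm (k : G) hel
  refine ⟨⟨x * (k : G) * x⁻¹, K.mul_mem (K.mul_mem hx k.2) (K.inv_mem hx)⟩, ?_, hfix⟩
  rw [isConj_iff]
  exact ⟨⟨x, hx⟩, Subtype.ext rfl⟩

end Cfsg.Agent.S4911
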