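import Cfsg.Statements.S4914
import Cfsg.Agent.Lib.helper2.GN12
-- import your own Cfsg.Agent.* helpers here

set_option autoImplicit false
open Cfsg

namespace Cfsg.Agent.S4914

/-- Let P and K be subgroups of a finite group G with P a p-group normalizing K, and suppose K has a normal Sylow p-subgroup Q. Let C be the subgroup of those k ∈ K whose commutator with every element of P lies in Q (so that C/Q is the fixed-point subgroup of P on K/Q). Then there is a bijection f from the P-invariant irreducible complex characters of K onto the P-invariant irreducible complex characters of C such that, for every P-invariant irreducible character χ of K, the multiplicity of f(χ) in the restriction of χ to C is a natural number congruent to 1 or to −1 modulo p, every other P-invariant irreducible character of C occurs in that restriction with multiplicity divisible by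 p, and the degrees of χ and f(χ) are congruent modulo p up to sign. -/
theorem result {G : Type*} [Group G] [Finite G] (p : ℕ) [Fact p.Prime] (P K Q C : Subgroup G) (hP : IsPGroup p ↥P) (hPK : P ≤ Subgroup.normalizer (K : Set G)) (hQK : Q ≤ K) (hQn : ∀ k ∈ K, ∀ q ∈ Q, k * q * k⁻¹ ∈ Q) (hQp : ∃ a : ℕ, Nat.card ↥Q = p ^ a) (hQsyl : ¬ p ∣ Q.relIndex K) (hCK : C ≤ K) (hC : ∀ k : G, k ∈ C ↔ (k ∈ K ∧ ∀ x ∈ P, x * k * x⁻¹ * k⁻¹ ∈ Q)) : ∃ f : {χ : Cfsg.IrrCharacter ↥K // (∀ x ∈ P, ∀ k k' : ↥K, (k' : G) = x * (k : G) * x⁻¹ → (χ : ↥K → ℂ) k' = (χ : ↥K → ℂ) k)} → {ξ : Cfsg.IrrCharacter ↥C // (∀ x ∈ P, ∀ k k' : ↥C, (k' : G) = x * (k : G) * x⁻¹ → (ξ : ↥C → ℂ) k' = (ξ : ↥C → ℂ) k)}, Function.Bijective f ∧ ∀ χ, (∀ ξ : {ξ : Cfsg.IrrCharacter ↥C // (∀ x ∈ P, ∀ k k' : ↥C, (k' : G) = x * (k : G) * x⁻¹ → (ξ : ↥C → ℂ) k' = (ξ : ↥C → ℂ) k)}, ∃ m : ℕ, (Nat.card ↥C : ℂ)⁻¹ * ∑ᶠ c :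 ↥C, (χ.1 : ↥K → ℂ) (Subgroup.inclusion hCK c) * (starRingEnd ℂ) ((ξ.1 : ↥C → ℂ) c) = (m : ℂ) ∧ (ξ = f χ → ((m : ZMod p) = 1 ∨ (m : ZMod p) = -1)) ∧ (ξ ≠ f χ → p ∣ m)) ∧ ((Cfsg.charDegree ((f χ).1 : ↥C → ℂ) : ZMod p) = (Cfsg.charDegree (χ.1 : ↥K → ℂ) : ZMod p) ∨ (Cfsg.charDegree ((f χ).1 : ↥C → ℂ) : ZMod p) = -(Cfsg.charDegree (χ.1 : ↥K → ℂ) : ZMod p)) := by
  classical
  haveI : Fintype K := Fintype.ofFinite _
  haveI : Fintype C := Fintype.ofFinite _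
  have hpp : p.Prime := Fact.out
  obtain ⟨H1, H2, H3⟩ := Cfsg.Agent.Lib.helper2.gn_global p P K Q C hP hPK hQK hQn hQp hQsyl hCK hC
  have hex : ∀ χ : {χ : Cfsg.IrrCharacter ↥K // (∀ x ∈ P, ∀ k k' : ↥K,
      (k' : G) = x * (k : G) * x⁻¹ → (χ : ↥K → ℂ) k' = (χ : ↥K → ℂ) k)},
      ∃ ξ₀ : {ξ : Cfsg.IrrCharacter ↥C // (∀ x ∈ P, ∀ k k' : ↥C,
        (k' : G) = x * (k : G) * x⁻¹ → (ξ : ↥C → ℂ) k' = (ξ : ↥C → ℂ) k)},
      ∃ ε : ℤ, (ε = 1 ∨ ε = -1) ∧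
        (∀ ξ : {ξ : Cfsg.IrrCharacter ↥C // (∀ x ∈ P, ∀ k k' : ↥C,
          (k' : G) = x * (k : G) * x⁻¹ → (ξ : ↥C → ℂ) k' = (ξ : ↥C → ℂ) k)},
          ∃ m : ℕ, Cfsg.classInner (fun c : C => (χ.1 : ↥K → ℂ) ⟨c, hCK c.2⟩)
            (ξ.1 : ↥C → ℂ) = m ∧
            (ξ = ξ₀ → (m : ℤ) ≡ ε [ZMOD p]) ∧ (ξ ≠ ξ₀ → (m : ℤ) ≡ 0 [ZMOD p])) ∧
        (Cfsg.charDegree (χ.1 : ↥K → ℂ) : ZMod p) =
          (ε : ZMod p) * (Cfsg.charDegree (ξ₀.1 : ↥C → ℂ) : ZMod p) := by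
    intro χ
    obtain ⟨ξ₀, hξ₀, hξ₀inv, ε, hε, hmult, hdeg⟩ := H1 χ.1.1 χ.1.2 χ.2
    refine ⟨⟨⟨ξ₀, hξ₀⟩, hξ₀inv⟩, ε, hε, ?_, hdeg⟩
    intro ξ
    obtain ⟨m, hm, h1, h2⟩ := hmult ξ.1.1 ξ.1.2 ξ.2
    refine ⟨m, hm, ?_, ?_⟩
    · intro he
      apply h1
      rw [he]
    · intro hne
      apply h2
      intro he
      apply hne
      exact Subtype.ext (Subtype.ext he)
  choose f ε hε hmult hdeg using hex
  have hself : ∀ χ, ∃ m : ℕ, Cfsg.classInner (fun c : C => (χ.1 : ↥K → ℂ) ⟨c, hCK c.2⟩)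
      ((f χ).1 : ↥C → ℂ) = m ∧ ¬ p ∣ m := by
    intro χ
    obtain ⟨m, hm, h1, -⟩ := hmult χ (f χ)
    exact ⟨m, hm, Cfsg.Agent.Lib.helper2.gp_not_dvd p hpp m (ε χ) (hε χ) (h1 rfl)⟩
  refine ⟨f, ⟨?_, ?_⟩, ?_⟩
  · intro χ χ' hff
    obtain ⟨m, hm, hpm⟩ := hself χ
    obtain ⟨m', hm', hpm'⟩ := hself χ'
    rw [← hff] at hm'
    have := H2 χ.1.1 χ'.1.1 χ.1.2 χ'.1.2 χ.2 χ'.2 (f χ).1.1 (f χ).1.2 (f χ).2 m m' hm hpm hm' hpm'
    exact Subtype.ext (Subtype.ext this)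
  · intro ξ
    obtain ⟨χ₀, hχ₀, hχ₀inv, m, hm, hpm⟩ := H3 ξ.1.1 ξ.1.2 ξ.2
    refine ⟨⟨⟨χ₀, hχ₀⟩, hχ₀inv⟩, ?_⟩
    by_contra hne
    obtain ⟨m', hm', -, h2⟩ := hmult ⟨⟨χ₀, hχ₀⟩, hχ₀inv⟩ ξ
    have hmm : m' = m := by
      have : (m' : ℂ) = (m : ℂ) := by rw [← hm', ← hm]
      exact_mod_cast this
    have h3 := h2 (fun h => hne h.symm)
    rw [Int.modEq_zero_iff_dvd] at h3
    apply hpm
    rw [← hmm]
    exact_mod_cast h3
  · intro χ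
    refine ⟨?_, ?_⟩
    · intro ξ
      obtain ⟨m, hm, h1, h2⟩ := hmult χ ξ
      refine ⟨m, ?_, ?_, ?_⟩
      · rw [← hm, finsum_eq_sum_of_fintype]
        rfl
      · intro he
        have h3 := (ZMod.intCast_eq_intCast_iff _ _ p).mpr (h1 he)
        rw [Int.cast_natCast] at h3
        rcases hε χ with h | h
        · left
          rw [h3, h]
          simp
        · right
          rw [h3, h]
          simp
      · intro hne
        have h3 := h2 hne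
        rw [Int.modEq_zero_iff_dvd] at h3
        exact_mod_cast h3
    · have h3 := hdeg χ
      rcases hε χ with h | h
      · left
        rw [h3, h]
        simp
      · right
        rw [h3, h]
        simp

end Cfsg.Agent.S4914
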