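import Cfsg.Statements.S4989
import Cfsg.Agent.Lib.Helper24.GaloisNorm
import Cfsg.Agent.Lib.Helper25.CharAbelian

set_option autoImplicit false
open Cfsg

namespace Cfsg.Agent.S4989
open Cfsg.Agent.Lib.Helper25 Cfsg.Agent.Lib.helper2 Cfsg.Agent.Lib.Helper24

theorem key {G : Type*} [Group G] [Fintype G] [DecidableEq G] (H : Subgroup G)
    [DecidablePred (· ∈ H)] (χ : Cfsg.IrrCharacter G) :
    ∑ g ∈ Finset.univ.filter (fun g : G => g ∈ H), ‖(χ : G → ℂ) g‖ ^ 2 ≤
      (Nat.card H : ℝ) +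
        ((Finset.univ.filter (fun g : G => (χ : G → ℂ) g = 0 ∧ g ∉ H)).card : ℝ) := by
  classical
  set R := Finset.univ.filter (fun g : G => g ∉ H ∧ (χ : G → ℂ) g ≠ 0) with hR
  have hpow : ∀ g ∈ R, ∀ k : ℕ, (Nat.card G).Coprime k → g ^ k ∈ R := by
    intro g hg k hk
    obtain ⟨hgH, hg0⟩ := (Finset.mem_filter.1 hg).2
    refine Finset.mem_filter.2 ⟨Finset.mem_univ _, ?_, ?_⟩
    · intro hmem
      apply hgH
      have hc : k.Coprime (orderOf g) :=
        Nat.Coprime.coprime_dvd_right (orderOf_dvd_natCard g) hk.symm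
      obtain ⟨m, hm⟩ := exists_pow_eq_self_of_coprime hc
      rw [← hm]
      exact H.pow_mem hmem m
    · exact gn_char_pow_ne_zero (isCharacter_of_irr χ) g hg0 k hk
  have havg := gn_avg (isCharacter_of_irr χ) R
    (fun g hg => (Finset.mem_filter.1 hg).2.2) hpow
  have htot := irr_sum_norm_sq χ
  rw [← Finset.sum_filter_add_sum_filter_not Finset.univ (fun g : G => g ∈ H)] at htot
  have hsplit : ∑ g ∈ Finset.univ.filter (fun g : G => ¬ g ∈ H), ‖(χ : G → ℂ) g‖ ^ 2 =
      ∑ g ∈ R, ‖(χ : G → ℂ) g‖ ^ 2 := by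
    rw [hR]
    symm
    apply Finset.sum_subset
    · intro g hg
      exact Finset.mem_filter.2 ⟨Finset.mem_univ _, (Finset.mem_filter.1 hg).2.1⟩
    · intro g hg hgR
      have hgH := (Finset.mem_filter.1 hg).2
      have : (χ : G → ℂ) g = 0 := by
        by_contra h0
        exact hgR (Finset.mem_filter.2 ⟨Finset.mem_univ _, hgH, h0⟩)
      rw [this]
      simp
  rw [hsplit] at htot
  have hcount : (Finset.univ.filter (fun g : G => g ∈ H)).card + R.card +
      (Finset.univ.filter (fun g : G => (χ : G → ℂ) g = 0 ∧ g ∉ H)).card = Nat.card G := by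
    rw [Nat.card_eq_fintype_card, ← Finset.card_univ,
      ← Finset.card_filter_add_card_filter_not (s := Finset.univ) (fun g : G => g ∈ H), add_assoc]
    congr 1
    rw [← Finset.card_union_of_disjoint]
    · congr 1
      ext g
      simp only [hR, Finset.mem_union, Finset.mem_filter, Finset.mem_univ, true_and]
      tauto
    · rw [Finset.disjoint_left]
      intro g hg hg'
      exact (Finset.mem_filter.1 hg).2.2 (Finset.mem_filter.1 hg').2.1
  have hHcard : (Finset.univ.filter (fun g : G => g ∈ H)).card = Nat.card H := by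
    rw [Nat.card_eq_fintype_card, Fintype.card_subtype]
  rw [hHcard] at hcount
  have hcountR : (Nat.card H : ℝ) + (R.card : ℝ) +
      ((Finset.univ.filter (fun g : G => (χ : G → ℂ) g = 0 ∧ g ∉ H)).card : ℝ) =
        (Nat.card G : ℝ) := by exact_mod_cast hcount
  linarith

/-- Let H be a subgroup of the finite group G and χ an irreducible complex character of G. Then the inner product of the restriction of χ to H with itself, (1/#H)·Σ_{h ∈ H} |χ(h)|², is at most 1 + #(Z ∖ H)/#H, where Z is the set of zeros of χ in G. -/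
theorem result {G : Type*} [Group G] [Finite G] (H : Subgroup G) (χ : Cfsg.IrrCharacter G) : (Nat.card ↥H : ℝ)⁻¹ * ∑ᶠ h : ↥H, ‖(χ : G → ℂ) h‖ ^ 2 ≤ 1 + (Set.ncard ({x : G | (χ : G → ℂ) x = 0} \ (H : Set G)) : ℝ) / (Nat.card ↥H : ℝ) := by
  classical
  haveI := Fintype.ofFinite G
  haveI : Fintype H := Fintype.ofFinite H
  have hk := key H χ
  have hsum : ∑ᶠ h : ↥H, ‖(χ : G → ℂ) h‖ ^ 2 =
      ∑ g ∈ Finset.univ.filter (fun g : G => g ∈ H), ‖(χ : G → ℂ) g‖ ^ 2 := by
    rw [finsum_eq_sum_of_fintype]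
    symm
    rw [← Finset.sum_subtype_eq_sum_filter]
    apply Finset.sum_bij (fun (x : {g : G // g ∈ H}) _ => (⟨x.1, x.2⟩ : H))
    · intro x _; exact Finset.mem_univ _
    · intro x _ y _ h
      apply Subtype.ext
      exact congrArg Subtype.val h
    · intro y _
      exact ⟨⟨y.1, y.2⟩, by simp, rfl⟩
    · intro x _; rfl
  have hZ : Set.ncard ({x : G | (χ : G → ℂ) x = 0} \ (H : Set G)) =
      (Finset.univ.filter (fun g : G => (χ : G → ℂ) g = 0 ∧ g ∉ H)).card := by
    rw [← Set.ncard_coe_finset]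
    congr 1
    ext g
    simp
  rw [hsum, hZ]
  have hHpos : (0 : ℝ) < (Nat.card H : ℝ) := by exact_mod_cast Nat.card_pos
  rw [inv_mul_le_iff₀ hHpos]
  have : (Nat.card H : ℝ) * (1 + ((Finset.univ.filter
      (fun g : G => (χ : G → ℂ) g = 0 ∧ g ∉ H)).card : ℝ) / (Nat.card H : ℝ)) =
      (Nat.card H : ℝ) + ((Finset.univ.filter
      (fun g : G => (χ : G → ℂ) g = 0 ∧ g ∉ H)).card : ℝ) := by
    field_simp
  rw [this]
  exact hk

end Cfsg.Agent.S4989
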