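import Cfsg.Statements.S5001
import Cfsg.Agent.Lib.Helper26.MuraiExt

set_option autoImplicit false
open Cfsg

namespace Cfsg.Agent.S5001

/-- Let p be a prime, G a finite group and B a p-block of G (relative to a maximal ideal M of the algebraic integers containing p) with defect group D. Let Z be a central p-subgroup of G contained in D and λ a linear character of Z (a homomorphism to the nonzero complex numbers). Say an irreducible character χ of G lies over λ when χ(z) = χ(1)λ(z) for all z ∈ Z. If some irreducible character in B lying over λ has height zero, then λ extends to a linear character of D. -/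
theorem result {G : Type*} [Group G] [Finite G] (p : ℕ) [Fact p.Prime] (M : Ideal Cfsg.AlgInt) (hM : Cfsg.IsPModular p M) (B : Set (Cfsg.IrrCharacter G)) (hB : Cfsg.IsPBlock M B) (D : Subgroup G) (hD : Cfsg.IsDefectGroup p M B D) (Z : Subgroup G) (hZc : Z ≤ Subgroup.center G) (hZp : IsPGroup p ↥Z) (hZD : Z ≤ D) (lam : ↥Z →* ℂˣ) (χ : Cfsg.IrrCharacter G) (hχ : χ ∈ B) (hover : (∀ z : ↥Z, (χ : G → ℂ) z = (χ : G → ℂ) 1 * (lam z : ℂ))) (h0 : Cfsg.blockHeight p B (χ : G → ℂ) = 0) : (∃ μ : ↥D →* ℂˣ, ∀ z : ↥Z, μ ⟨(z : G), hZD z.2⟩ = lam z) := by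
  classical
  haveI : Fintype G := Fintype.ofFinite G
  haveI : Fintype (Cfsg.IrrCharacter G) := Fintype.ofFinite _
  obtain ⟨χ₀, rfl⟩ := hB
  obtain ⟨g, hgdef, P, rfl⟩ := hD
  have hMp := hM.2.1.isPrime
  have hval := Cfsg.Agent.Lib.Helper26.mur_value_not_mem p M hM χ₀ χ hχ h0 g hgdef
  by_contra hne
  apply hval
  have hDp : IsPGroup p ↥((P : Subgroup (Subgroup.centralizer ({g} : Set G))).map
      (Subgroup.centralizer ({g} : Set G)).subtype) := P.isPGroup'.map _
  have hDg : ∀ u ∈ (P : Subgroup (Subgroup.centralizer ({g} : Set G))).map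
      (Subgroup.centralizer ({g} : Set G)).subtype, u * g = g * u := by
    rintro _ ⟨u, _, rfl⟩
    exact Subgroup.mem_centralizer_singleton_iff.mp u.2
  obtain ⟨a, ha, hag⟩ := Cfsg.Agent.Lib.Helper26.mur_extends p χ g _ hDp hDg Z hZc hZD lam hover hne
  rw [hag]
  exact Cfsg.Agent.Lib.helper7.h7_memLocalIdeal_mul_right hMp
    (Cfsg.Agent.Lib.helper7.h7_memLocalIdeal_p hM)
    (Cfsg.Agent.Lib.helper7.h7_memLocalRing_of_isIntegral hMp ha)

end Cfsg.Agent.S5001
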