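import Cfsg.Statements.S5015
import Cfsg.Agent.S5013

set_option autoImplicit false
open Cfsg

namespace Cfsg.Agent.S5015

open Cfsg.Agent.S5013

variable {Y Ω : Type*} [Group Y] [MulAction Y Ω]

theorem conjBy_eq_of_smul_eq {α : Ω} {A : Subgroup Y}
    (hAn : ∀ y ∈ MulAction.stabilizer Y α, Cfsg.conjBy A y = A) {g₁ g₂ : Y}
    (h : g₁ • α = g₂ • α) : Cfsg.conjBy A g₁ = Cfsg.conjBy A g₂ := by
  have h1 : g₂⁻¹ * g₁ ∈ MulAction.stabilizer Y α := by
    rw [MulAction.mem_stabilizer_iff, mul_smul, h, inv_smul_smul]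
  have h2 := hAn _ h1
  have h3 := congrArg (fun K => Cfsg.conjBy K g₂) h2
  simp only [conjBy_conjBy, mul_inv_cancel_left] at h3
  exact h3

theorem exists_third {α β : Ω} (hΩ : 3 ≤ ENat.card Ω) : ∃ γ : Ω, γ ≠ α ∧ γ ≠ β := by
  by_contra hcon
  have hall : ∀ γ : Ω, γ = α ∨ γ = β := by
    intro γ
    by_contra h
    apply hcon
    exact ⟨γ, fun h1 => h (Or.inl h1), fun h1 => h (Or.inr h1)⟩
  have h1 : (Set.univ : Set Ω) ⊆ {α, β} := by
    intro γ _
    rcases hall γ with h | h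
    · exact Or.inl h
    · exact Or.inr h
  have h2 : ENat.card Ω ≤ 2 := by
    rw [← Set.encard_univ]
    refine (Set.encard_le_encard h1).trans ?_
    refine (Set.encard_insert_le _ _).trans ?_
    rw [Set.encard_singleton]
    norm_num
  have h3 : (3 : ℕ∞) ≤ 2 := hΩ.trans h2
  norm_num at h3

theorem result {Y Ω : Type*} [Group Y] [MulAction Y Ω]
    (h2 : MulAction.IsMultiplyPretransitive Y Ω 2) (hΩ : 3 ≤ ENat.card Ω) (α : Ω) (A : Subgroup Y)
    (hA : A ≤ MulAction.stabilizer Y α) (hAn : ∀ y ∈ MulAction.stabilizer Y α, Cfsg.conjBy A y = A)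
    (hnil : Group.IsNilpotent A) (hreg : ∀ β γ : Ω, β ≠ α → γ ≠ α → ∃! a : Y, a ∈ A ∧ a • β = γ)
    (y : Y) (hy : y ∉ MulAction.stabilizer Y α) :
    Cfsg.IsRankOnePair A (Cfsg.conjBy A y) ∧ Subgroup.normalClosure (A : Set Y) = A ⊔ Cfsg.conjBy A y := by
  have hβ : y • α ≠ α := fun h => hy (MulAction.mem_stabilizer_iff.mpr h)
  have hfixA : ∀ a ∈ A, a • α = α := fun a ha => MulAction.mem_stabilizer_iff.mp (hA ha)
  have hAmove : ∀ a ∈ A, ∀ γ : Ω, γ ≠ α → a • γ = γ → a = 1 := by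
    intro a ha γ hγ hfix
    obtain ⟨a₀, -, huniq⟩ := hreg γ γ hγ hγ
    rw [huniq a ⟨ha, hfix⟩, huniq 1 ⟨A.one_mem, one_smul _ _⟩]
  have hy' : y⁻¹ • α ≠ α := by
    intro h
    apply hβ
    rw [← h, smul_inv_smul, h]
  have hBmem : ∀ b, b ∈ Cfsg.conjBy A y ↔ y⁻¹ * b * y ∈ A := fun b => mem_conjBy_iff
  have hfixB : ∀ b ∈ Cfsg.conjBy A y, b • (y • α) = y • α := by
    intro b hb
    have h1 := hfixA _ ((hBmem b).mp hb)
    rw [mul_smul, mul_smul] at h1
    have := congrArg (fun z => y • z) h1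
    simpa using this
  have hBmove : ∀ b ∈ Cfsg.conjBy A y, b • α = α → b = 1 := by
    intro b hb hfix
    have h1 : (y⁻¹ * b * y) • (y⁻¹ • α) = y⁻¹ • α := by
      rw [mul_smul, mul_smul, smul_inv_smul, hfix]
    have h2' := hAmove _ ((hBmem b).mp hb) _ hy' h1
    have : b = y * (y⁻¹ * b * y) * y⁻¹ := by group
    rw [this, h2']
    group
  have hBex : ∀ δ : Ω, δ ≠ y • α → ∃ b ∈ Cfsg.conjBy A y, b • α = δ := by
    intro δ hδ
    have hδ' : y⁻¹ • δ ≠ α := by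
      intro h
      apply hδ
      rw [← h, smul_inv_smul]
    obtain ⟨a, ⟨ha, hae⟩, -⟩ := hreg (y⁻¹ • α) (y⁻¹ • δ) hy' hδ'
    refine ⟨y * a * y⁻¹, ⟨a, ha, rfl⟩, ?_⟩
    rw [mul_smul, mul_smul, hae, smul_inv_smul]
  have hne : A ≠ Cfsg.conjBy A y := by
    intro hAB
    obtain ⟨γ, hγα, hγβ⟩ := exists_third (α := α) (β := y • α) hΩ
    obtain ⟨a, ⟨ha, hae⟩, -⟩ := hreg (y • α) γ hβ hγα
    have h1 := hfixB a (hAB ▸ ha)
    rw [hae] at h1
    exact hγβ h1
  have hnilB : Group.IsNilpotent ↥(Cfsg.conjBy A y) :=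
    Group.nilpotent_of_surjective ((MulAut.conj y).toMonoidHom.subgroupMap A)
      (MonoidHom.subgroupMap_surjective _ _)
  refine ⟨⟨hne, hnil, hnilB, ?_, ?_⟩, ?_⟩
  · intro a ha ha1
    have hδβ : a⁻¹ • (y • α) ≠ y • α := by
      intro h
      have := hAmove a⁻¹ (A.inv_mem ha) _ hβ h
      exact ha1 (inv_eq_one.mp this)
    obtain ⟨b', hb', hb'e⟩ := hBex _ hδβ
    refine ⟨b'⁻¹, Subgroup.inv_mem _ hb', ?_, ?_⟩
    · intro h
      have hb'1 : b' = 1 := inv_eq_one.mp h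
      rw [hb'1, one_smul] at hb'e
      have h1 : a • α = y • α := by
        conv_lhs => rw [hb'e]
        rw [smul_inv_smul]
      rw [hfixA a ha] at h1
      exact hβ h1.symm
    · rw [inv_inv, conjBy_conjBy]
      apply conjBy_eq_of_smul_eq hAn
      rw [hb'e, mul_smul]
  · intro b hb hb1
    have hδα : b⁻¹ • α ≠ α := by
      intro h
      have := hBmove b⁻¹ (Subgroup.inv_mem _ hb) h
      exact hb1 (inv_eq_one.mp this)
    obtain ⟨a', ⟨ha', ha'e⟩, -⟩ := hreg (y • α) (b⁻¹ • α) hβ hδα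
    refine ⟨a'⁻¹, A.inv_mem ha', ?_, ?_⟩
    · intro h
      have ha'1 : a' = 1 := inv_eq_one.mp h
      rw [ha'1, one_smul] at ha'e
      have h1 : b • (y • α) = α := by
        rw [ha'e, smul_inv_smul]
      rw [hfixB b hb] at h1
      exact hβ h1
    · rw [inv_inv, conjBy_conjBy]
      apply conjBy_eq_of_smul_eq hAn
      rw [mul_smul, ha'e]
  · apply le_antisymm
    · rw [Subgroup.normalClosure]
      refine (Subgroup.closure_le _).mpr ?_
      intro z hz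
      obtain ⟨a, ha, hza⟩ := Group.mem_conjugatesOfSet_iff.mp hz
      obtain ⟨g, rfl⟩ := isConj_iff.mp hza
      have hmem : g * a * g⁻¹ ∈ Cfsg.conjBy A g := ⟨a, ha, rfl⟩
      by_cases hg : g • α = α
      · have : Cfsg.conjBy A g = A := hAn g (MulAction.mem_stabilizer_iff.mpr hg)
        rw [this] at hmem
        exact Subgroup.mem_sup_left hmem
      · obtain ⟨a₁, ⟨ha₁, ha₁e⟩, -⟩ := hreg (y • α) (g • α) hβ hg
        have h1 : Cfsg.conjBy A g = Cfsg.conjBy A (a₁ * y) := by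
          apply conjBy_eq_of_smul_eq hAn
          rw [mul_smul, ha₁e]
        rw [h1, ← conjBy_conjBy, mem_conjBy_iff] at hmem
        have e : g * a * g⁻¹ = a₁ * (a₁⁻¹ * (g * a * g⁻¹) * a₁) * a₁⁻¹ := by group
        rw [e]
        exact Subgroup.mul_mem _ (Subgroup.mul_mem _ (Subgroup.mem_sup_left ha₁)
          (Subgroup.mem_sup_right hmem)) (Subgroup.inv_mem _ (Subgroup.mem_sup_left ha₁))
    · refine sup_le Subgroup.le_normalClosure ?_
      rintro _ ⟨a, ha, rfl⟩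
      exact (Subgroup.normalClosure_normal (s := (A : Set Y))).conj_mem a
        (Subgroup.le_normalClosure ha) y

end Cfsg.Agent.S5015
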