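import Cfsg.Statements.S5018
import Cfsg.Agent.S5017

set_option autoImplicit false
open Cfsg

namespace Cfsg.Agent.S5018

open Cfsg.Agent.S5013 Cfsg.Agent.S5014 Cfsg.Agent.S5017
open scoped commutatorElement

variable {X : Type*} [Group X]

theorem center_ne_top {A B : Subgroup X} (hp : Cfsg.IsRankOnePair A B) :
    Subgroup.center X ≠ ⊤ := by
  intro hZ
  obtain ⟨a, ha, ha1⟩ := ne_bot_left hp
  obtain ⟨b, hb, -, hbe⟩ := hp.cond_left a ha ha1
  have hcen : ∀ (C : Subgroup X) (g : X), Cfsg.conjBy C g = C := by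
    intro C g
    apply conjBy_eq_of_mem_normalizer
    have hg : g ∈ Subgroup.center X := hZ ▸ Subgroup.mem_top g
    rw [Subgroup.mem_normalizer_iff]
    intro z
    have e : g * z * g⁻¹ = z := by
      rw [(Subgroup.mem_center_iff.mp hg z).symm, mul_inv_cancel_right]
    rw [e]
  rw [hcen, hcen] at hbe
  exact hp.ne hbe

theorem second_center {A B : Subgroup X} (h : Cfsg.IsRankOneGroup X A B) :
    Subgroup.upperCentralSeries X 2 = Subgroup.center X := by
  obtain ⟨htop, hp⟩ := h
  have hZle : Subgroup.center X ≤ Subgroup.upperCentralSeries X 2 := by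
    rw [← Subgroup.upperCentralSeries_one]
    exact Subgroup.upperCentralSeries_mono X (by norm_num)
  refine le_antisymm ?_ hZle
  have hn : (Subgroup.upperCentralSeries X 2).Normal := inferInstance
  rcases dichotomy ⟨htop, hp⟩ _ hn with h1 | h1
  · exfalso
    obtain ⟨x, -, hx⟩ := B_mem_unipotent hp
    have hx' : x ∈ ((Subgroup.upperCentralSeries X 2 ⊔ A : Subgroup X) : Set X) := by
      rw [h1]
      trivial
    rw [Subgroup.normal_mul] at hx'
    obtain ⟨z, hz, a, ha, rfl⟩ := Set.mem_mul.mp hx'
    have hB : B = Cfsg.conjBy A z := by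
      rw [hx, ← conjBy_conjBy, conjBy_eq_of_mem_normalizer (Subgroup.le_normalizer ha)]
    have hz' : ∀ y : X, ⁅z, y⁆ ∈ Subgroup.center X := by
      intro y
      have := (Subgroup.mem_upperCentralSeries_succ_iff (n := 1)).mp hz y
      rwa [Subgroup.upperCentralSeries_one] at this
    have hBle : B ≤ A ⊔ Subgroup.center X := by
      intro b hb
      rw [hB, mem_conjBy_iff] at hb
      have hc := hz' (z⁻¹ * b * z)
      rw [commutatorElement_def] at hc
      have e : b = (z * (z⁻¹ * b * z) * z⁻¹ * (z⁻¹ * b * z)⁻¹) * (z⁻¹ * b * z) := by group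
      rw [e]
      exact Subgroup.mul_mem _ (Subgroup.mem_sup_right hc) (Subgroup.mem_sup_left hb)
    have hAZ : A ⊔ Subgroup.center X = ⊤ := by
      rw [eq_top_iff, ← htop]
      exact sup_le le_sup_left hBle
    have hAn : Subgroup.normalizer (A : Set X) = ⊤ := by
      rw [eq_top_iff, ← hAZ]
      refine sup_le Subgroup.le_normalizer ?_
      intro g hg
      rw [Subgroup.mem_normalizer_iff]
      intro y
      have e : g * y * g⁻¹ = y := by
        rw [(Subgroup.mem_center_iff.mp hg y).symm, mul_inv_cancel_right]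
      rw [e]
    obtain ⟨b, hb, hb1⟩ := ne_bot_left (Cfsg.RankOnePair_symm hp)
    have : b ∈ B ⊓ Subgroup.normalizer (A : Set X) := ⟨hb, hAn ▸ Subgroup.mem_top b⟩
    rw [inf_normalizer_eq_bot hp.ne.symm hp.cond_right, Subgroup.mem_bot] at this
    exact hb1 this
  · exact h1

theorem result {X : Type*} [Group X] {A B : Subgroup X} (h : Cfsg.IsRankOneGroup X A B) :
    Subgroup.upperCentralSeries X 2 = Subgroup.center X ∧ ¬ Group.IsNilpotent X := by
  have h2 := second_center h
  refine ⟨h2, ?_⟩
  intro hnil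
  obtain ⟨n, hn⟩ := hnil.nilpotent
  have key : ∀ m : ℕ, Subgroup.upperCentralSeries X (m + 1) = Subgroup.center X := by
    intro m
    induction m with
    | zero => exact Subgroup.upperCentralSeries_one X
    | succ m ih =>
      ext x
      rw [Subgroup.mem_upperCentralSeries_succ_iff, ih]
      conv_rhs => rw [← h2, Subgroup.mem_upperCentralSeries_succ_iff, Subgroup.upperCentralSeries_one]
  rcases n with _ | n
  · rw [Subgroup.upperCentralSeries_zero] at hn
    apply center_ne_top h.2
    rw [eq_top_iff, ← hn]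
    exact bot_le
  · rw [key n] at hn
    exact center_ne_top h.2 hn

end Cfsg.Agent.S5018
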