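import Cfsg.Statements.S5019
import Cfsg.Agent.Lib.Helper26.QuadAct

set_option autoImplicit false
open Cfsg

namespace Cfsg.Agent.S5019

open Cfsg.Agent.Lib.Helper26 Cfsg.Agent.S5013 Cfsg.Agent.S5014

variable {X : Type*} [Group X] {N : Type*} [AddCommGroup N] [DistribMulAction X N]

/-- The generators `δ_g v`, `g ∈ A ∪ B`, of `[N, X]`. -/
def gens (N : Type*) [AddCommGroup N] [DistribMulAction X N] (A B : Subgroup X) : Set N :=
  {w | ∃ g : X, (g ∈ A ∨ g ∈ B) ∧ ∃ v : N, w = dl g v}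

/-- The elements fixing all generators. -/
def fixGens (N : Type*) [AddCommGroup N] [DistribMulAction X N] (A B : Subgroup X) : Subgroup X where
  carrier := {x | ∀ w ∈ gens N A B, x • w = w}
  one_mem' := fun w _ => one_smul _ w
  mul_mem' := by
    intro x y hx hy w hw
    rw [mul_smul, hy w hw, hx w hw]
  inv_mem' := by
    intro x hx w hw
    have := hx w hw
    rw [inv_smul_eq_iff]
    exact this.symm

theorem mem_fixGens {A B : Subgroup X} {x : X} :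
    x ∈ fixGens N A B ↔ ∀ w ∈ gens N A B, x • w = w := Iff.rfl

theorem dl_sub_left {D : Subgroup X} (hD : Quad N D) {u₁ u₂ : X} (h₁ : u₁ ∈ D) (h₂ : u₂ ∈ D)
    (w : N) : dl (u₁ * u₂⁻¹) w = dl u₁ w - dl u₂ w := by
  rw [hD.dl_mul' h₁ (D.inv_mem h₂), hD.dl_inv h₂, sub_eq_add_neg]

/-- Both conjugates agree on vectors `w` fixed by `a` satisfying relation (I). -/
theorem agree_left {A B : Subgroup X} (hA : Quad N A) (hB : Quad N B) {a b : X} (ha : a ∈ A)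
    (hb : b ∈ B) {w : N} (h0 : dl a w = 0) (hI : dl b w = dl b (dl a (dl b w))) :
    dl (b⁻¹ * a * b) w = dl (a⁻¹ * b⁻¹ * a) w := by
  have e1 : dl (b⁻¹ * a * b) w = dl a (dl b w) - dl b w := by
    have h1 := smul_dl b⁻¹ a (b • w)
    rw [inv_inv, inv_smul_smul] at h1
    rw [← h1, smul_eq_add_dl b w, dl_add, h0, zero_add, smul_eq_add_dl b⁻¹, hB.dl_inv hb, ← hI]
    abel
  have e2 : dl (a⁻¹ * b⁻¹ * a) w = dl a (dl b w) - dl b w := by
    have h1 := smul_dl a⁻¹ b⁻¹ (a • w)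
    rw [inv_inv, inv_smul_smul] at h1
    have h2 : a • w = w := (dl_eq_zero_iff a w).mp h0
    rw [← h1, h2, hB.dl_inv hb, smul_neg, smul_eq_add_dl a⁻¹, hA.dl_inv ha]
    abel
  rw [e1, e2]

theorem agree_right {A B : Subgroup X} (hA : Quad N A) (hB : Quad N B) {a b : X} (ha : a ∈ A)
    (hb : b ∈ B) {w : N} (h0 : dl b w = 0) (hII : dl a w = dl a (dl b (dl a w))) :
    dl (b⁻¹ * a * b) w = dl (a⁻¹ * b⁻¹ * a) w := by
  have e1 : dl (b⁻¹ * a * b) w = dl a w - dl b (dl a w) := by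
    have h1 := smul_dl b⁻¹ a (b • w)
    rw [inv_inv, inv_smul_smul] at h1
    have h2 : b • w = w := (dl_eq_zero_iff b w).mp h0
    rw [← h1, h2, smul_eq_add_dl b⁻¹, hB.dl_inv hb]
    abel
  have e2 : dl (a⁻¹ * b⁻¹ * a) w = dl a w - dl b (dl a w) := by
    have h1 := smul_dl a⁻¹ b⁻¹ (a • w)
    rw [inv_inv, inv_smul_smul] at h1
    rw [← h1, smul_eq_add_dl a w, hB.dl_inv hb, dl_add, h0, zero_add, smul_neg,
      smul_eq_add_dl a⁻¹, hA.dl_inv ha, ← hII]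
    abel
  rw [e1, e2]

/-- Let X be a rank one group with abelian unipotent subgroups A and B, and suppose X acts on an abelian group N (written additively) in such a way that A acts quadratically, meaning a' • (a • n − n) = a • n − n for all a, a' in A and n in N, while X as a whole does not: y • (x • n − n) ≠ x • n − n for some x, y in X and n in N. Then X is a special rank one group. -/
theorem result {X : Type*} [Group X] {A B : Subgroup X} (h : Cfsg.IsRankOneGroup X A B)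
    (hab : Cfsg.HasAbelianUnipotents A B) {N : Type*} [AddCommGroup N] [DistribMulAction X N]
    (hq : ∀ a ∈ A, ∀ a' ∈ A, ∀ n : N, a' • (a • n - n) = a • n - n)
    (hX : ∃ x y : X, ∃ n : N, y • (x • n - n) ≠ x • n - n) : Cfsg.IsSpecialRankOnePair A B := by
  obtain ⟨htop, hAB⟩ := h
  refine ⟨hAB, ?_⟩
  have hA : Quad N A := hq
  have hB : Quad N B := by
    obtain ⟨x, -, hx⟩ := B_mem_unipotent hAB
    rw [hx]
    exact hA.conj x
  intro a ha ha1 b hb hb1 hrel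
  by_contra hne
  apply hX.elim
  intro x hx
  obtain ⟨y, n, hyn⟩ := hx
  apply hyn
  -- `u = u₁ u₂⁻¹ ≠ 1` lies in `D = b⁻¹ A b` and fixes all generators
  have hD : Quad N (Cfsg.conjBy A b⁻¹) := hA.conj b⁻¹
  have hu₁ : b⁻¹ * a * b ∈ Cfsg.conjBy A b⁻¹ := mem_conjBy_inv_of_mem ha b
  have hu₂ : a⁻¹ * b⁻¹ * a ∈ Cfsg.conjBy A b⁻¹ := by
    rw [hrel]
    exact mem_conjBy_inv_of_mem (B.inv_mem hb) a
  have hu1 : (b⁻¹ * a * b) * (a⁻¹ * b⁻¹ * a)⁻¹ ≠ 1 := fun h1 => hne (mul_inv_eq_one.mp h1)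
  have hufix : ∀ w ∈ gens N A B, ((b⁻¹ * a * b) * (a⁻¹ * b⁻¹ * a)⁻¹) • w = w := by
    rintro w ⟨g, hg | hg, v, rfl⟩
    · rw [← dl_eq_zero_iff, dl_sub_left hD hu₁ hu₂, sub_eq_zero]
      exact agree_left hA hB ha hb (hA.dl_dl hg ha v) (quad_partner_rel hA hB ha hb hrel hg v)
    · rw [← dl_eq_zero_iff, dl_sub_left hD hu₁ hu₂, sub_eq_zero]
      exact agree_right hA hB ha hb (hB.dl_dl hg hb v)
        (quad_partner_rel hB hA hb ha hrel.symm hg v)
  have hu : (b⁻¹ * a * b) * (a⁻¹ * b⁻¹ * a)⁻¹ ∈ Cfsg.conjBy A b⁻¹ :=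
    Subgroup.mul_mem _ hu₁ (Subgroup.inv_mem _ hu₂)
  generalize (b⁻¹ * a * b) * (a⁻¹ * b⁻¹ * a)⁻¹ = u at hu hu1 hufix
  -- `a₁ = b u b⁻¹ ∈ A` fixes all generators
  rw [mem_conjBy_iff, inv_inv] at hu
  have ha₁1 : b * u * b⁻¹ ≠ 1 := by
    intro h1
    apply hu1
    have : u = b⁻¹ * (b * u * b⁻¹) * b := by group
    rw [this, h1]; group
  have hbgen : ∀ w ∈ gens N A B, ∀ g ∈ B, ∃ w₁ ∈ gens N A B, ∃ w₂ ∈ gens N A B, g • w = w₁ + w₂ := by
    rintro w ⟨g', hg' | hg', v, rfl⟩ g hg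
    · exact ⟨dl g' v, ⟨g', Or.inl hg', v, rfl⟩, dl g (dl g' v), ⟨g, Or.inr hg, _, rfl⟩,
        smul_eq_add_dl g _⟩
    · refine ⟨dl g' v, ⟨g', Or.inr hg', v, rfl⟩, dl g (dl g' v), ⟨g, Or.inr hg, _, rfl⟩,
        smul_eq_add_dl g _⟩
  have ha₁fix : b * u * b⁻¹ ∈ fixGens N A B := by
    intro w hw
    obtain ⟨w₁, hw₁, w₂, hw₂, he⟩ := hbgen w hw b⁻¹ (B.inv_mem hb)
    rw [mul_smul, mul_smul, he, smul_add, hufix w₁ hw₁, hufix w₂ hw₂, ← he, smul_inv_smul]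
  generalize b * u * b⁻¹ = a₁ at hu ha₁1 ha₁fix
  obtain ⟨b₁, hb₁, -, hrel₁⟩ := hAB.cond_left a₁ hu ha₁1
  have hb₁fix : b₁ ∈ fixGens N A B := by
    rintro w ⟨g, hg | hg, v, rfl⟩
    · rw [← dl_eq_zero_iff, quad_partner_rel hA hB hu hb₁ hrel₁ hg v]
      have h1 : dl a₁ (dl b₁ (dl g v)) = 0 := by
        rw [dl_eq_zero_iff]
        exact ha₁fix _ ⟨b₁, Or.inr hb₁, _, rfl⟩
      rw [h1, dl_zero]
    · rw [← dl_eq_zero_iff]
      exact hB.dl_dl hg hb₁ v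
  -- `A` and `B` fix all generators
  have hk : a₁ * b₁⁻¹ ∈ fixGens N A B :=
    Subgroup.mul_mem _ ha₁fix (Subgroup.inv_mem _ hb₁fix)
  have hk' : b₁ * a₁⁻¹ ∈ fixGens N A B :=
    Subgroup.mul_mem _ hb₁fix (Subgroup.inv_mem _ ha₁fix)
  have hBfixA : ∀ b' ∈ B, ∀ g ∈ A, ∀ v : N, b' • dl g v = dl g v := by
    intro b' hb' g hg v
    have h1 : a₁⁻¹ * b' * a₁ ∈ Cfsg.conjBy B a₁⁻¹ := mem_conjBy_inv_of_mem hb' a₁
    rw [← hrel₁, mem_conjBy_iff, inv_inv] at h1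
    have e : b' = (a₁ * b₁⁻¹) * (b₁ * (a₁⁻¹ * b' * a₁) * b₁⁻¹) * (b₁ * a₁⁻¹) := by group
    have hgen : dl g v ∈ gens N A B := ⟨g, Or.inl hg, v, rfl⟩
    have h2 : (b₁ * (a₁⁻¹ * b' * a₁) * b₁⁻¹) • dl g v = dl g v := by
      rw [← dl_eq_zero_iff]
      exact hA.dl_dl hg h1 v
    rw [e, mul_smul, mul_smul, hk' _ hgen, h2, hk _ hgen]
  have hAfixB : ∀ a' ∈ A, ∀ g ∈ B, ∀ v : N, a' • dl g v = dl g v := by
    intro a' ha' g hg v
    have h1 : b₁⁻¹ * a' * b₁ ∈ Cfsg.conjBy A b₁⁻¹ := mem_conjBy_inv_of_mem ha' b₁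
    rw [hrel₁, mem_conjBy_iff, inv_inv] at h1
    have e : a' = (b₁ * a₁⁻¹) * (a₁ * (b₁⁻¹ * a' * b₁) * a₁⁻¹) * (a₁ * b₁⁻¹) := by group
    have hgen : dl g v ∈ gens N A B := ⟨g, Or.inr hg, v, rfl⟩
    have h2 : (a₁ * (b₁⁻¹ * a' * b₁) * a₁⁻¹) • dl g v = dl g v := by
      rw [← dl_eq_zero_iff]
      exact hB.dl_dl hg h1 v
    rw [e, mul_smul, mul_smul, hk _ hgen, h2, hk' _ hgen]
  have hAle : A ≤ fixGens N A B := by
    rintro a' ha' w ⟨g, hg | hg, v, rfl⟩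
    · rw [← dl_eq_zero_iff]
      exact hA.dl_dl hg ha' v
    · exact hAfixB a' ha' g hg v
  have hBle : B ≤ fixGens N A B := by
    rintro b' hb' w ⟨g, hg | hg, v, rfl⟩
    · exact hBfixA b' hb' g hg v
    · rw [← dl_eq_zero_iff]
      exact hB.dl_dl hg hb' v
  have hall : ∀ x : X, x ∈ fixGens N A B := by
    intro x
    have : (⊤ : Subgroup X) ≤ fixGens N A B := by
      rw [← htop]
      exact sup_le hAle hBle
    exact this (Subgroup.mem_top x)
  -- every `x` fixes the additive closure of the generators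
  have hfixW : ∀ (x : X) (w : N), w ∈ AddSubgroup.closure (gens N A B) → x • w = w := by
    intro x w hw
    induction hw using AddSubgroup.closure_induction with
    | mem w hw => exact hall x w hw
    | zero => exact smul_zero x
    | add w₁ w₂ _ _ h1 h2 => rw [smul_add, h1, h2]
    | neg w _ h1 => rw [smul_neg, h1]
  have hdlW : ∀ x : X, ∀ n : N, dl x n ∈ AddSubgroup.closure (gens N A B) := by
    intro x
    have hx : x ∈ A ⊔ B := by rw [htop]; exact Subgroup.mem_top x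
    rw [Subgroup.sup_eq_closure] at hx
    induction hx using Subgroup.closure_induction with
    | mem g hg =>
      intro n
      exact AddSubgroup.subset_closure ⟨g, hg, n, rfl⟩
    | one =>
      intro n
      rw [dl_one]
      exact AddSubgroup.zero_mem _
    | mul g g' _ _ h1 h2 =>
      intro n
      rw [dl_mul]
      exact AddSubgroup.add_mem _ (h1 _) (h2 n)
    | inv g _ h1 =>
      intro n
      have e : dl g⁻¹ n = -dl g n := by
        have h2 : g⁻¹ • dl g n = dl g n := hfixW g⁻¹ _ (h1 n)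
        have h3 : g⁻¹ • dl g n = -dl g⁻¹ n := by
          rw [dl_def, dl_def, smul_sub, inv_smul_smul]; abel
        rw [← h2, h3, neg_neg]
      rw [e]
      exact AddSubgroup.neg_mem _ (h1 n)
  exact hfixW y _ (hdlW x n)

end Cfsg.Agent.S5019
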