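import Cfsg.Statements.S5021
import Cfsg.Agent.Lib.Helper26.SpecialRankOne

set_option autoImplicit false
open Cfsg

namespace Cfsg.Agent.S5021

open Cfsg.Agent.Lib.Helper26

/-- In a special rank one group with abelian unipotent subgroups A and B, either A is an elementary abelian p-group for some prime p, or A is torsion-free and divisible (every element of A has an n-th root in A for every positive n). -/
theorem result {X : Type*} [Group X] {A B : Subgroup X} (h : Cfsg.IsRankOneGroup X A B)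
    (hs : Cfsg.IsSpecialRankOnePair A B) (hab : Cfsg.HasAbelianUnipotents A B) :
    (∃ p : ℕ, p.Prime ∧ Cfsg.IsElementaryAbelian p A) ∨
    ((∀ a ∈ A, a ≠ 1 → ¬ IsOfFinOrder a) ∧ ∀ a ∈ A, ∀ n : ℕ, 0 < n → ∃ c ∈ A, c ^ n = a) := by
  have H : SRO A B := sro_of A B hs hab
  by_cases htf : ∀ a ∈ A, a ≠ 1 → ¬ IsOfFinOrder a
  · right
    refine ⟨htf, ?_⟩
    intro a ha n hn
    by_cases ha1 : a = 1
    · exact ⟨1, A.one_mem, by rw [ha1, one_pow]⟩
    · apply exists_root H ha hn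
      intro h1
      exact htf a ha ha1 (isOfFinOrder_iff_pow_eq_one.mpr ⟨n, hn, h1⟩)
  · left
    push Not at htf
    obtain ⟨a₀, ha₀, ha₀1, ha₀f⟩ := htf
    have hn0 : orderOf a₀ ≠ 0 := (IsOfFinOrder.orderOf_pos ha₀f).ne'
    have hn1 : orderOf a₀ ≠ 1 := fun h1 => ha₀1 (orderOf_eq_one_iff.mp h1)
    obtain ⟨p, hp, hpn⟩ := Nat.exists_prime_and_dvd hn1
    have ho : orderOf (a₀ ^ (orderOf a₀ / p)) = p := orderOf_pow_orderOf_div hn0 hpn
    have ha₁ : a₀ ^ (orderOf a₀ / p) ∈ A := A.pow_mem ha₀ _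
    have ha₁1 : a₀ ^ (orderOf a₀ / p) ≠ 1 := by
      intro h1
      rw [h1, orderOf_one] at ho
      exact hp.one_lt.ne ho
    have ha₁p : (a₀ ^ (orderOf a₀ / p)) ^ p = 1 := by
      have := pow_orderOf_eq_one (a₀ ^ (orderOf a₀ / p))
      rw [ho] at this
      exact this
    exact ⟨p, hp, hab.1, pow_eq_one_of_exists H ha₁ ha₁1 hp.pos ha₁p⟩

end Cfsg.Agent.S5021
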