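import Cfsg.Statements.S5023
import Cfsg.Agent.Lib.Helper26.QuadAct

set_option autoImplicit false
open Cfsg

namespace Cfsg.Agent.S5023

open Cfsg.Agent.Lib.Helper26 Cfsg.Agent.S5013 Cfsg.Agent.S5014

/-- Let X be a rank one group with unipotent subgroups A and B that acts faithfully on an abelian group V (written additively) with A acting quadratically: a' • (a • v − v) = a • v − v for all a, a' in A and v in V. Then A is either torsion-free or an elementary abelian p-group for some prime p. -/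
theorem result {X : Type*} [Group X] {A B : Subgroup X} (h : Cfsg.IsRankOneGroup X A B)
    {V : Type*} [AddCommGroup V] [DistribMulAction X V] (hf : ∀ x : X, (∀ v : V, x • v = v) → x = 1)
    (hq : ∀ a ∈ A, ∀ a' ∈ A, ∀ v : V, a' • (a • v - v) = a • v - v) :
    (∀ a ∈ A, a ≠ 1 → ¬ IsOfFinOrder a) ∨ ∃ p : ℕ, p.Prime ∧ Cfsg.IsElementaryAbelian p A := by
  obtain ⟨htop, hAB⟩ := h
  have hA : Quad V A := hq
  have hB : Quad V B := by
    obtain ⟨x, -, hx⟩ := B_mem_unipotent hAB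
    rw [hx]
    exact hA.conj x
  by_cases htf : ∀ a ∈ A, a ≠ 1 → ¬ IsOfFinOrder a
  · exact Or.inl htf
  right
  push Not at htf
  obtain ⟨a₀, ha₀, ha₀1, ha₀f⟩ := htf
  have hn0 : orderOf a₀ ≠ 0 := (IsOfFinOrder.orderOf_pos ha₀f).ne'
  have hn1 : orderOf a₀ ≠ 1 := fun h1 => ha₀1 (orderOf_eq_one_iff.mp h1)
  obtain ⟨p, hp, hpn⟩ := Nat.exists_prime_and_dvd hn1
  have ho : orderOf (a₀ ^ (orderOf a₀ / p)) = p := orderOf_pow_orderOf_div hn0 hpn
  have ha₁ : a₀ ^ (orderOf a₀ / p) ∈ A := A.pow_mem ha₀ _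
  have ha₁1 : a₀ ^ (orderOf a₀ / p) ≠ 1 := by
    intro h1
    rw [h1, orderOf_one] at ho
    exact hp.one_lt.ne ho
  have ha₁p : (a₀ ^ (orderOf a₀ / p)) ^ p = 1 := by
    have := pow_orderOf_eq_one (a₀ ^ (orderOf a₀ / p))
    rw [ho] at this
    exact this
  generalize a₀ ^ (orderOf a₀ / p) = a₁ at ha₁ ha₁1 ha₁p
  refine ⟨p, hp, isMulCommutative_of_commOn (fun x hx y hy => hA.commute hf hx hy), ?_⟩
  intro a ha
  by_contra hne
  have hp0 : ∀ v : V, p • dl a₁ v = 0 := by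
    intro v
    rw [← hA.dl_pow ha₁, ha₁p, dl_one]
  obtain ⟨b₀, hb₀, -, hb₀e⟩ := hAB.cond_left a₁ ha₁ ha₁1
  -- `p [V, A]` is centralized by `X`
  have hZ : ∀ a' ∈ A, ∀ (v : V) (x : X), x • (p • dl a' v) = p • dl a' v := by
    intro a' ha' v
    have hb₀w : b₀ • (p • dl a' v) = p • dl a' v := by
      rw [← dl_eq_zero_iff, dl_nsmul, quad_partner_rel hA hB ha₁ hb₀ hb₀e ha' v, ← dl_nsmul, hp0,
        dl_zero]
    have hAw : A ≤ MulAction.stabilizer X (p • dl a' v) := by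
      intro a'' ha''
      rw [MulAction.mem_stabilizer_iff, ← dl_eq_zero_iff, dl_nsmul, hA.dl_dl ha' ha'', smul_zero]
    have hb₀s : b₀ ∈ MulAction.stabilizer X (p • dl a' v) := hb₀w
    have hBw : B ≤ MulAction.stabilizer X (p • dl a' v) := by
      intro b hb
      have h1 : a₁⁻¹ * b * a₁ ∈ Cfsg.conjBy B a₁⁻¹ := mem_conjBy_inv_of_mem hb a₁
      rw [← hb₀e, mem_conjBy_iff, inv_inv] at h1
      have h2 := hAw h1
      have ha₁s := hAw ha₁
      have e : b = a₁ * b₀⁻¹ * (b₀ * (a₁⁻¹ * b * a₁) * b₀⁻¹) * b₀ * a₁⁻¹ := by group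
      rw [e]
      exact Subgroup.mul_mem _ (Subgroup.mul_mem _ (Subgroup.mul_mem _ (Subgroup.mul_mem _ ha₁s
        (Subgroup.inv_mem _ hb₀s)) h2) hb₀s) (Subgroup.inv_mem _ ha₁s)
    intro x
    have hx : x ∈ MulAction.stabilizer X (p • dl a' v) := by
      have : (⊤ : Subgroup X) ≤ MulAction.stabilizer X (p • dl a' v) := by
        rw [← htop]
        exact sup_le hAw hBw
      exact this (Subgroup.mem_top x)
    exact hx
  have ha₂ : a ^ p ∈ A := A.pow_mem ha p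
  have hZ2 : ∀ (v : V) (x : X), dl x (dl (a ^ p) v) = 0 := by
    intro v x
    rw [dl_eq_zero_iff, hA.dl_pow ha]
    exact hZ a ha v x
  obtain ⟨b₂, hb₂, -, hb₂e⟩ := hAB.cond_left (a ^ p) ha₂ hne
  have hb₂A : ∀ a' ∈ A, ∀ v : V, dl b₂ (dl a' v) = 0 := by
    intro a' ha' v
    rw [quad_partner_rel hA hB ha₂ hb₂ hb₂e ha' v, hZ2]
  have ha₂B : ∀ b' ∈ B, ∀ v : V, dl (a ^ p) (dl b' v) = 0 := by
    intro b' hb' v
    rw [quad_partner_rel hB hA hb₂ ha₂ hb₂e.symm hb' v, hZ2, dl_zero]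
  have hcomm : a ^ p * b₂ = b₂ * a ^ p := by
    have h1 : ∀ v : V, (a ^ p * b₂) • v = (b₂ * a ^ p) • v := by
      intro v
      rw [smul_eq_add_dl (a ^ p * b₂), smul_eq_add_dl (b₂ * a ^ p), dl_mul, dl_mul,
        smul_eq_add_dl b₂ v, smul_eq_add_dl (a ^ p) v, dl_add, dl_add, ha₂B b₂ hb₂, hZ2]
      abel
    have h2 : (b₂ * a ^ p)⁻¹ * (a ^ p * b₂) = 1 := by
      apply hf
      intro v
      rw [mul_smul, h1, ← mul_smul, inv_mul_cancel, one_smul]
    exact inv_mul_eq_one.mp h2 |>.symm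
  have h3 : b₂⁻¹ * a ^ p * b₂ ∈ Cfsg.conjBy A b₂⁻¹ := mem_conjBy_inv_of_mem ha₂ b₂
  rw [mul_assoc, hcomm, inv_mul_cancel_left, hb₂e, mem_conjBy_iff, inv_inv, mul_inv_cancel_right] at h3
  have h4 : a ^ p ∈ A ⊓ Subgroup.normalizer (B : Set X) := ⟨ha₂, Subgroup.le_normalizer h3⟩
  rw [(Cfsg.Agent.S5013.result hAB).2.2.1, Subgroup.mem_bot] at h4
  exact hne h4

end Cfsg.Agent.S5023
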