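import Cfsg.Statements.S5026
import Cfsg.Agent.Lib.Helper26.RankOne
import Cfsg.Agent.S5028

set_option autoImplicit false
open Cfsg

namespace Cfsg.Agent.S5026

open Cfsg.Agent.S5013 Cfsg.Agent.S5014 Cfsg.Agent.Lib.Helper26
open scoped commutatorElement

theorem le_centralizer_zpowers_iff {G : Type*} [Group G] {E : Subgroup G} {x : G} :
    E ≤ Subgroup.centralizer ((Subgroup.zpowers x : Subgroup G) : Set G) ↔
      ∀ e ∈ E, e * x = x * e := by
  constructor
  · intro h e he
    have h1 := h he
    rw [Subgroup.mem_centralizer_iff] at h1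
    exact (h1 x (Subgroup.mem_zpowers x)).symm
  · intro h e he
    rw [Subgroup.mem_centralizer_iff]
    rintro _ ⟨k, rfl⟩
    have h1 : Commute e x := h e he
    exact (h1.zpow_right k).eq.symm

theorem rankOne_commute_eq_one {G : Type*} [Group G] {A B : Subgroup G}
    (h : Cfsg.IsRankOnePair A B) {a β : G} (ha : a ∈ A) (hβ : β ∈ B) (hβ1 : β ≠ 1)
    (hc : a * β = β * a) : a = 1 := by
  have h0 : a ∈ Cfsg.conjBy A β := by
    rw [mem_conjBy_iff]
    have h2 : β⁻¹ * a * β = a := by rw [mul_assoc, hc]; group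
    rw [h2]; exact ha
  have h1 : a ∈ A ⊓ Cfsg.conjBy A β := ⟨ha, h0⟩
  rw [rankOne_inf_conj_eq_bot h hβ hβ1, Subgroup.mem_bot] at h1
  exact h1

theorem key {G : Type*} [Group G] {S : Set (Subgroup G)} (hS : Cfsg.IsRootSubgroupSet S)
    (hdeg : Cfsg.IsDegenerateRootSet S) {A B E : Subgroup G} (hAS : A ∈ S) (hBS : B ∈ S)
    (hES : E ∈ S) {a b : G} (ha : a ∈ A) (ha1 : a ≠ 1) (hb : b ∈ B) (hb1 : b ≠ 1)
    (hab : a * b = b * a) (hab1 : a * b ≠ 1)
    (hE : ∀ e ∈ E, e * (a * b) = (a * b) * e) : ∀ e ∈ E, e * a = a * e := by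
  rcases hS.pair E hES A hAS with h1 | h1 | h1
  · intro e he
    exact Cfsg.Agent.S5028.commute_of_commutator_eq_bot h1 he ha
  · exfalso
    rcases hS.pair E hES B hBS with h2 | h2 | h2
    · apply ha1
      apply rankOne_eq_one_of_commute (Cfsg.RankOnePair_symm h1) ha
      intro e he
      have h3 := Cfsg.Agent.S5028.commute_of_commutator_eq_bot h2 he hb
      have h4 := hE e he
      have h5 : Commute e b := h3
      have h6 : Commute e (a * b) := h4
      have h7 : Commute e ((a * b) * b⁻¹) := h6.mul_right h5.inv_right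
      have h8 : (a * b) * b⁻¹ = a := by group
      rw [h8] at h7
      exact h7.eq.symm
    · have h3 : Cfsg.conjBy E (a * b) = E := by
        apply conjBy_eq_of_mem_normalizer
        rw [Subgroup.mem_normalizer_iff]
        intro x
        constructor
        · intro hx
          have : (a * b) * x * (a * b)⁻¹ = x := by rw [← hE x hx]; group
          rw [this]; exact hx
        · intro hx
          have h4 := hE _ hx
          have h5 : x = (a * b) * x * (a * b)⁻¹ := by
            calc x = (a * b)⁻¹ * (((a * b) * x * (a * b)⁻¹) * (a * b)) := by group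
              _ = (a * b)⁻¹ * ((a * b) * ((a * b) * x * (a * b)⁻¹)) := by rw [h4]
              _ = (a * b) * x * (a * b)⁻¹ := by group
          rw [h5]; exact hx
      have h4 : Cfsg.conjBy E b = Cfsg.conjBy E a⁻¹ := by
        have h5 := congrArg (fun K => Cfsg.conjBy K a⁻¹) h3
        simp only [conjBy_conjBy, inv_mul_cancel_left] at h5
        exact h5
      obtain ⟨e, he, -, hee⟩ :=
        rankOne_exists_right h1 (A.inv_mem ha) (inv_ne_one.mpr ha1)
      obtain ⟨e', he', -, he'e⟩ := rankOne_exists_right h2 hb hb1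
      have h5 : B = Cfsg.conjBy A (e'⁻¹ * e) := by
        have h6 := congrArg (fun K => Cfsg.conjBy K e'⁻¹) (hee.trans (h4.symm.trans he'e.symm))
        simp only [conjBy_conjBy, inv_mul_cancel, conjBy_one] at h6
        exact h6.symm
      by_cases hε : e'⁻¹ * e = 1
      · rw [hε, conjBy_one] at h5
        apply hab1
        apply rankOne_eq_one_of_commute (Cfsg.RankOnePair_symm h1)
          (A.mul_mem ha (h5 ▸ hb))
        intro x hx
        exact (hE x hx).symm
      · have hεE : e'⁻¹ * e ∈ E := E.mul_mem (E.inv_mem he') he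
        obtain ⟨a₁, ha₁, -, ha₁e⟩ := rankOne_exists_right (Cfsg.RankOnePair_symm h1) hεE hε
        rw [← h5] at ha₁e
        have h6 : a₁⁻¹ * b * a₁ ∈ E := by
          rw [← ha₁e, mem_conjBy_iff] at hb
          exact hb
        have h7 : a₁⁻¹ * b * a₁ ≠ 1 := by
          intro h8
          apply hb1
          calc b = a₁ * (a₁⁻¹ * b * a₁) * a₁⁻¹ := by group
            _ = 1 := by rw [h8]; group
        have h8 : a * (a₁⁻¹ * b * a₁) = (a₁⁻¹ * b * a₁) * a := by
          have h9 : a * a₁ = a₁ * a :=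
            congrArg Subtype.val ((hS.commutative A hAS).is_comm.comm ⟨a, ha⟩ ⟨a₁, ha₁⟩)
          have h10 : a * a₁⁻¹ = a₁⁻¹ * a := by
            have hc : Commute a a₁ := h9
            exact hc.inv_right.eq
          calc a * (a₁⁻¹ * b * a₁) = (a * a₁⁻¹) * b * a₁ := by group
            _ = (a₁⁻¹ * a) * b * a₁ := by rw [h10]
            _ = a₁⁻¹ * (a * b) * a₁ := by group
            _ = a₁⁻¹ * (b * a) * a₁ := by rw [hab]
            _ = a₁⁻¹ * b * (a * a₁) := by group
            _ = a₁⁻¹ * b * (a₁ * a) := by rw [h9]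
            _ = (a₁⁻¹ * b * a₁) * a := by group
        exact ha1 (rankOne_commute_eq_one (Cfsg.RankOnePair_symm h1) ha h6 h7 h8)
    · exact hdeg E hES B hBS h2
  · exact absurd h1 (hdeg E hES A hAS)

theorem result {G : Type*} [Group G] {S : Set (Subgroup G)} (hS : Cfsg.IsRootSubgroupSet S) (hdeg : Cfsg.IsDegenerateRootSet S)
    {a b : G} (ha : a ∈ Cfsg.rootElements S) (hb : b ∈ Cfsg.rootElements S) (hab : a * b = b * a) (hab1 : a * b ≠ 1) :
    Cfsg.centralizingMembers S (Subgroup.zpowers (a * b)) =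
      Cfsg.centralizingMembers S (Subgroup.zpowers a) ∩ Cfsg.centralizingMembers S (Subgroup.zpowers b) := by
  obtain ⟨ha1, A, hAS, haA⟩ := ha
  obtain ⟨hb1, B, hBS, hbB⟩ := hb
  ext E
  simp only [Cfsg.centralizingMembers, Set.mem_inter_iff, Set.mem_ofPred_eq,
    le_centralizer_zpowers_iff]
  constructor
  · rintro ⟨hES, hE⟩
    have h1 := key hS hdeg hAS hBS hES haA ha1 hbB hb1 hab hab1 hE
    refine ⟨⟨hES, h1⟩, hES, ?_⟩
    intro e he
    have h2 : Commute e a := h1 e he
    have h3 : Commute e (a * b) := hE e he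
    have h4 : Commute e (a⁻¹ * (a * b)) := h2.inv_right.mul_right h3
    have h5 : a⁻¹ * (a * b) = b := by group
    rw [h5] at h4
    exact h4.eq
  · rintro ⟨⟨hES, h1⟩, -, h2⟩
    refine ⟨hES, ?_⟩
    intro e he
    have h3 : Commute e a := h1 e he
    have h4 : Commute e b := h2 e he
    exact (h3.mul_right h4).eq

end Cfsg.Agent.S5026
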