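import Cfsg.Statements.S5027
import Cfsg.Agent.Lib.Helper26.RankOne
import Cfsg.Agent.S5028

set_option autoImplicit false
open Cfsg

namespace Cfsg.Agent.S5027

open Cfsg.Agent.S5013 Cfsg.Agent.S5014 Cfsg.Agent.Lib.Helper26
open scoped commutatorElement

theorem conj_central_mul {G : Type*} [Group G] {ζ : G} (hζ : ζ ∈ Subgroup.center G) (a β : G) :
    (ζ * a) * β * (ζ * a)⁻¹ = a * β * a⁻¹ := by
  rw [Subgroup.mem_center_iff] at hζ
  have h1 := hζ (a * β * a⁻¹)
  calc (ζ * a) * β * (ζ * a)⁻¹ = ζ * (a * β * a⁻¹) * ζ⁻¹ := by group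
    _ = (a * β * a⁻¹) * ζ * ζ⁻¹ := by rw [h1]
    _ = a * β * a⁻¹ := by group

theorem conjBy_central_mul {G : Type*} [Group G] {ζ : G} (hζ : ζ ∈ Subgroup.center G)
    (B : Subgroup G) (a : G) : Cfsg.conjBy B (ζ * a) = Cfsg.conjBy B a := by
  rw [← conjBy_conjBy]
  apply conjBy_eq_of_mem_normalizer
  rw [Subgroup.mem_normalizer_iff]
  intro x
  rw [Subgroup.mem_center_iff] at hζ
  have h1 : ζ * x * ζ⁻¹ = x := by rw [← hζ x]; group
  rw [h1]

theorem conj_eq_self {G : Type*} [Group G] {S : Set (Subgroup G)} (hS : Cfsg.IsRootSubgroupSet S)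
    {A B : Subgroup G} (hAS : A ∈ S) (hBS : B ∈ S) (hAB : Cfsg.IsRankOnePair A B) {z : G}
    (hz : ∀ y : G, ⁅z, y⁆ ∈ Subgroup.center G) : Cfsg.conjBy A z = A := by
  have hA'S : Cfsg.conjBy A z ∈ S := hS.conj_mem A hAS z
  have hform : ∀ x : G, z * x * z⁻¹ = ⁅z, x⁆ * x := by
    intro x; rw [commutatorElement_def]; group
  have hmem : ∀ x ∈ A, ⁅z, x⁆ * x ∈ Cfsg.conjBy A z := by
    intro x hx
    rw [← hform, mem_conjBy_iff]
    have : z⁻¹ * (z * x * z⁻¹) * z = x := by group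
    rw [this]; exact hx
  have hmem' : ∀ y ∈ Cfsg.conjBy A z, ∃ x ∈ A, y = ⁅z, x⁆ * x := by
    intro y hy
    rw [mem_conjBy_iff] at hy
    refine ⟨_, hy, ?_⟩
    rw [← hform]; group
  have hcommAA' : ∀ x ∈ A, ∀ y ∈ Cfsg.conjBy A z, x * y = y * x := by
    intro x hx y hy
    obtain ⟨x', hx', rfl⟩ := hmem' y hy
    have h1 := Subgroup.mem_center_iff.mp (hz x') x
    have h2 : x * x' = x' * x :=
      congrArg Subtype.val ((hS.commutative A hAS).is_comm.comm ⟨x, hx⟩ ⟨x', hx'⟩)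
    rw [← mul_assoc, h1, mul_assoc, h2, mul_assoc]
  rcases hS.pair _ hA'S B hBS with h2 | h2 | h2
  · exfalso
    apply rankOne_not_commute hAB
    intro x hx b hb
    have h3 := Cfsg.Agent.S5028.commute_of_commutator_eq_bot h2 (hmem x hx) hb
    have h4 := Subgroup.mem_center_iff.mp (hz x) b
    have h5 : ⁅z, x⁆ * (x * b) = ⁅z, x⁆ * (b * x) := by
      rw [← mul_assoc, h3, ← mul_assoc, h4, mul_assoc]
    exact mul_left_cancel h5
  · obtain ⟨β, hβ, hβ1⟩ := ne_bot_left (Cfsg.RankOnePair_symm hAB)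
    obtain ⟨a', ha', ha'1, ha'e⟩ := rankOne_exists_right h2 hβ hβ1
    obtain ⟨a₁, ha₁, rfl⟩ := hmem' a' ha'
    have ha₁1 : a₁ ≠ 1 := by
      rintro rfl
      apply ha'1
      rw [commutatorElement_one_right, one_mul]
    rw [conjBy_central_mul (hz a₁)] at ha'e
    obtain ⟨β₁, hβ₁, -, hβ₁e⟩ := rankOne_exists_left hAB ha₁ ha₁1
    have h3 : Cfsg.conjBy A z = Cfsg.conjBy A (β⁻¹ * β₁) := by
      have h4 := congrArg (fun K => Cfsg.conjBy K β⁻¹) (hβ₁e.trans ha'e)
      simp only [conjBy_conjBy, inv_mul_cancel_left] at h4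
      exact h4.symm
    by_cases h5 : β⁻¹ * β₁ = 1
    · rw [h3, h5, conjBy_one]
    · exfalso
      apply rankOne_conj_not_commute hAB (B.mul_mem (B.inv_mem hβ) hβ₁) h5
      rw [← h3]
      exact hcommAA'
  · exfalso
    obtain ⟨a, ha, ha1⟩ := ne_bot_left hAB
    apply rankOne_conj_centralizes_false hAB ha ha1
    intro β hβ β' hβ'
    rw [← conj_central_mul (hz a)]
    exact commutatorCase_conj_commute (hS.commutative B hBS) h2 (hmem a ha) hβ hβ'

theorem result {G : Type*} [Group G] {S : Set (Subgroup G)} (hS : Cfsg.IsRootSubgroupSet S)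
    (hF : ∀ A ∈ S, ¬ Cfsg.IsIsolatedIn (Cfsg.FAdj S) S A) : Subgroup.upperCentralSeries G 2 = Subgroup.center G := by
  apply le_antisymm
  · intro z hz
    rw [Subgroup.mem_upperCentralSeries_succ_iff, Subgroup.upperCentralSeries_one] at hz
    have h1 : (⨆ A ∈ S, A) ≤ Subgroup.centralizer {z} := by
      apply iSup₂_le
      intro A hAS a ha
      obtain ⟨B, hBS, hAB⟩ := Cfsg.Agent.S5028.exists_partner (hF A hAS) hAS
      have h2 := conj_eq_self hS hAS hBS hAB hz
      have h3 : ⁅z, a⁆ ∈ A := by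
        have h4 : z * a * z⁻¹ ∈ Cfsg.conjBy A z := by
          rw [mem_conjBy_iff]
          have : z⁻¹ * (z * a * z⁻¹) * z = a := by group
          rw [this]; exact ha
        rw [h2] at h4
        have h5 : ⁅z, a⁆ = (z * a * z⁻¹) * a⁻¹ := by rw [commutatorElement_def]
        rw [h5]
        exact A.mul_mem h4 (A.inv_mem ha)
      have h6 : ⁅z, a⁆ = 1 :=
        rankOne_eq_one_of_commute hAB h3
          (fun b _ => (Subgroup.mem_center_iff.mp (hz a) b).symm)
      rw [commutatorElement_eq_one_iff_mul_comm] at h6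
      rw [Subgroup.mem_centralizer_iff]
      intro y hy
      rw [Set.mem_singleton_iff] at hy
      rw [hy]
      exact h6
    rw [hS.generates] at h1
    rw [Subgroup.mem_center_iff]
    intro g
    have h2 := h1 (Subgroup.mem_top g)
    rw [Subgroup.mem_centralizer_iff] at h2
    exact (h2 z rfl).symm
  · rw [← Subgroup.upperCentralSeries_one]
    exact Subgroup.upperCentralSeries_mono (G := G) (show 1 ≤ 2 by norm_num)

end Cfsg.Agent.S5027
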