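import Cfsg.Statements.S5034
import Cfsg.Agent.Lib.Helper26.LineOpp4

set_option autoImplicit false
open Cfsg

namespace Cfsg.Agent.S5034

open Cfsg.Agent.Lib.Helper26 Cfsg.Agent.S5029

/-- Let S be a non-degenerate class of abstract root subgroups of G, A ∈ S and B a rank one partner of A. Then some line partner C of A has ⁅B, C⁆ ∈ S, and the rank one pair A, B is special. -/
theorem result {G : Type*} [Group G] {S : Set (Subgroup G)} (hS : Cfsg.IsRootSubgroupClass S) (hnd : Cfsg.IsNondegenerateRootSet S)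
    {A B : Subgroup G} (hA : A ∈ S) (hB : B ∈ Cfsg.rankOnePartners S A) :
    (∃ C ∈ Cfsg.linePartners S A, C ∈ Cfsg.commutatorPartners S B) ∧ Cfsg.IsSpecialRankOnePair A B := by
  obtain ⟨C, hC, hBC⟩ := exists_linePartner_commutatorCase hS hnd hA hB
  have hAni : ¬ Cfsg.IsIsolatedIn (Cfsg.FAdj S) S A := not_isolated_of_partner hA hB.1 hB.2
  have hni : ∀ A' ∈ S, ¬ Cfsg.IsIsolatedIn (Cfsg.FAdj S) S A' := by
    intro A' hA'
    obtain ⟨g, hg⟩ := hS.2.2 A hA A' hA'
    rw [hg]
    exact not_isolated_conj hS.1 hAni hA g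
  exact ⟨⟨C, hC, hC.1.1, hBC.1⟩, special_of_commutatorCase hS.1 hni hA hB hC hBC⟩

end Cfsg.Agent.S5034
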