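import Cfsg.Statements.S5035
import Cfsg.Agent.S5032

set_option autoImplicit false
open Cfsg

namespace Cfsg.Agent.S5035

open Cfsg.Agent.Lib.Helper26 Cfsg.Agent.S5013 Cfsg.Agent.S5014 Cfsg.Agent.S5029
open scoped commutatorElement

variable {G H : Type*} [Group G] [Group H]

theorem map_conjBy (f : G →* H) (A : Subgroup G) (g : G) :
    (Cfsg.conjBy A g).map f = Cfsg.conjBy (A.map f) (f g) := by
  ext y
  constructor
  · rintro ⟨x, hx, rfl⟩
    have hx' : x ∈ Cfsg.conjBy A g := hx
    rw [mem_conjBy_iff] at hx' ⊢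
    refine ⟨g⁻¹ * x * g, hx', ?_⟩
    simp only [map_mul, map_inv]
  · intro hy
    rw [mem_conjBy_iff] at hy
    obtain ⟨x, hx, hxy⟩ := hy
    refine ⟨g * x * g⁻¹, mem_conjBy_of_mem hx g, ?_⟩
    simp only [map_mul, map_inv, hxy]
    group

theorem rankOne_map (f : G →* H) {A B : Subgroup G} (h : Cfsg.IsRankOnePair A B)
    (hne : A.map f ≠ B.map f) : Cfsg.IsRankOnePair (A.map f) (B.map f) := by
  have cond : ∀ {A B : Subgroup G}, Cfsg.RankOneCondition A B → A.map f ≠ B.map f →
      Cfsg.RankOneCondition (A.map f) (B.map f) := by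
    intro A B hc hne a' ha' ha'1
    obtain ⟨a, ha, rfl⟩ := ha'
    have ha1 : a ≠ 1 := by
      rintro rfl
      exact ha'1 (map_one f)
    obtain ⟨b, hb, -, hbe⟩ := hc a ha ha1
    have h1 := congrArg (Subgroup.map f) hbe
    rw [map_conjBy, map_conjBy, map_inv, map_inv] at h1
    refine ⟨f b, ⟨b, hb, rfl⟩, ?_, h1⟩
    intro hfb
    apply hne
    rw [hfb, inv_one, conjBy_one] at h1
    have h2 : Cfsg.conjBy (A.map f) (f a) = A.map f :=
      conjBy_eq_of_mem_normalizer (Subgroup.le_normalizer ⟨a, ha, rfl⟩)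
    have h3 := congrArg (fun K => Cfsg.conjBy K (f a)) h1
    simp only [conjBy_conjBy_inv] at h3
    rw [h2] at h3
    exact h3
  refine ⟨hne, ?_, ?_, cond h.cond_left hne, cond h.cond_right hne.symm⟩
  · haveI := h.nilpotent_left
    exact Group.nilpotent_of_surjective (f.subgroupMap A) (f.subgroupMap_surjective A)
  · haveI := h.nilpotent_right
    exact Group.nilpotent_of_surjective (f.subgroupMap B) (f.subgroupMap_surjective B)

theorem commutatorCase_map {S : Set (Subgroup G)} (f : G →* H) {A B : Subgroup G}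
    (h : Cfsg.RootCommutatorCase S A B) :
    Cfsg.RootCommutatorCase ((fun A : Subgroup G => A.map f) '' S) (A.map f) (B.map f) := by
  have hcomm : ⁅A.map f, B.map f⁆ = (⁅A, B⁆).map f := (Subgroup.map_commutator A B f).symm
  refine ⟨?_, ?_, ?_, ?_⟩
  · rw [hcomm]
    exact ⟨⁅A, B⁆, h.1, rfl⟩
  · intro c hc x hx
    rw [hcomm] at hc
    rw [← Subgroup.map_sup] at hx
    obtain ⟨c', hc', rfl⟩ := hc
    obtain ⟨x', hx', rfl⟩ := hx
    rw [← map_mul, ← map_mul, h.2.1 c' hc' x' hx']
  · intro a' ha' ha'1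
    obtain ⟨a, ha, rfl⟩ := ha'
    have ha1 : a ≠ 1 := by
      rintro rfl
      exact ha'1 (map_one f)
    rw [hcomm, ← h.2.2.1 a ha ha1, MonoidHom.map_closure]
    congr 1
    ext y
    constructor
    · rintro ⟨b', ⟨b, hb, rfl⟩, rfl⟩
      exact ⟨a * b * a⁻¹ * b⁻¹, ⟨b, hb, rfl⟩, by simp only [map_mul, map_inv]⟩
    · rintro ⟨_, ⟨b, hb, rfl⟩, rfl⟩
      exact ⟨f b, ⟨b, hb, rfl⟩, by simp only [map_mul, map_inv]⟩
  · intro b' hb' hb'1
    obtain ⟨b, hb, rfl⟩ := hb'
    have hb1 : b ≠ 1 := by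
      rintro rfl
      exact hb'1 (map_one f)
    rw [hcomm, ← h.2.2.2 b hb hb1, MonoidHom.map_closure]
    congr 1
    ext y
    constructor
    · rintro ⟨a', ⟨a, ha, rfl⟩, rfl⟩
      exact ⟨a * b * a⁻¹ * b⁻¹, ⟨a, ha, rfl⟩, by simp only [map_mul, map_inv]⟩
    · rintro ⟨_, ⟨a, ha, rfl⟩, rfl⟩
      exact ⟨f a, ⟨a, ha, rfl⟩, by simp only [map_mul, map_inv]⟩

theorem isRootSubgroupSet_map {S : Set (Subgroup G)} (hS : Cfsg.IsRootSubgroupSet S) (f : G →* H)
    (hf : Function.Surjective f) (hne : ∀ A ∈ S, A.map f ≠ ⊥) :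
    Cfsg.IsRootSubgroupSet ((fun A : Subgroup G => A.map f) '' S) := by
  refine ⟨?_, ?_, ?_, ?_, ?_⟩
  · rintro _ ⟨A, hA, rfl⟩
    have cA := commOn_of_mem hS hA
    apply isMulCommutative_of_commOn
    rintro _ ⟨x, hx, rfl⟩ _ ⟨y, hy, rfl⟩
    rw [← map_mul, ← map_mul, cA x hx y hy]
  · rintro _ ⟨A, hA, rfl⟩
    exact hne A hA
  · rw [iSup_image]
    have h1 := congrArg (Subgroup.map f) hS.generates
    rw [Subgroup.map_iSup, Subgroup.map_top_of_surjective f hf] at h1
    rw [← h1]
    congr 1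
    ext A : 1
    rw [Subgroup.map_iSup]
  · rintro _ ⟨A, hA, rfl⟩ h
    obtain ⟨g, rfl⟩ := hf h
    exact ⟨Cfsg.conjBy A g, hS.conj_mem A hA g, map_conjBy f A g⟩
  · rintro _ ⟨A, hA, rfl⟩ _ ⟨B, hB, rfl⟩
    rcases hS.pair A hA B hB with h | h | h
    · left
      show ⁅A.map f, B.map f⁆ = ⊥
      rw [← Subgroup.map_commutator, h, Subgroup.map_bot]
    · by_cases he : A.map f = B.map f
      · left
        show ⁅A.map f, B.map f⁆ = ⊥
        apply commutator_eq_bot_of_commWith
        rw [← he]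
        have cA := commOn_of_mem hS hA
        rintro _ ⟨x, hx, rfl⟩ _ ⟨y, hy, rfl⟩
        rw [← map_mul, ← map_mul, cA x hx y hy]
      · right; left
        exact rankOne_map f h he
    · right; right
      exact commutatorCase_map f h

/-- Let S be a set of abstract root subgroups of G whose graph of rank one pairs is connected, and f a homomorphism from G onto a group H. Then either the images of the members of S form a set of abstract root subgroups of H whose graph of rank one pairs is again connected, or H equals the image of a member of S. -/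
theorem result {G H : Type*} [Group G] [Group H] {S : Set (Subgroup G)} (hS : Cfsg.IsRootSubgroupSet S)
    (hc : Cfsg.IsConnectedFamily (Cfsg.FAdj S) S) (f : G →* H) (hf : Function.Surjective f) :
    (Cfsg.IsRootSubgroupSet ((fun A : Subgroup G => A.map f) '' S) ∧
      Cfsg.IsConnectedFamily (Cfsg.FAdj ((fun A : Subgroup G => A.map f) '' S)) ((fun A : Subgroup G => A.map f) '' S)) ∨
    ∃ A ∈ S, A.map f = ⊤ := by
  by_cases hne : ∀ A ∈ S, A.map f ≠ ⊥
  · left
    refine ⟨isRootSubgroupSet_map hS f hf hne, ?_⟩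
    rintro _ ⟨A, hA, rfl⟩ _ ⟨B, hB, rfl⟩
    have hpath := hc A hA B hB
    induction hpath with
    | refl => exact Relation.ReflTransGen.refl
    | @tail B' C' _ hbc ih =>
      have ih' := ih hbc.1
      by_cases he : B'.map f = C'.map f
      · have h1 : Relation.ReflTransGen (Cfsg.FAdj ((fun A : Subgroup G => A.map f) '' S))
            (A.map f) (C'.map f) := by
          rw [← he]
          exact ih'
        exact h1
      · exact Relation.ReflTransGen.tail ih'
          ⟨⟨B', hbc.1, rfl⟩, ⟨C', hbc.2.1, rfl⟩, rankOne_map f hbc.2.2 he⟩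
  · right
    push Not at hne
    obtain ⟨A, hA, hAbot⟩ := hne
    refine ⟨A, hA, ?_⟩
    have hker : ∀ C ∈ S, C ≤ f.ker := by
      intro C hC
      have hpath := hc A hA C hC
      induction hpath with
      | refl =>
        intro x hx
        rw [MonoidHom.mem_ker]
        have : f x ∈ A.map f := ⟨x, hx, rfl⟩
        rw [hAbot, Subgroup.mem_bot] at this
        exact this
      | @tail B' C' _ hbc ih =>
        have ih' := ih hbc.1
        obtain ⟨x, -, hx⟩ := B_mem_unipotent hbc.2.2
        intro y hy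
        rw [hx, mem_conjBy_iff] at hy
        have h1 := ih' hy
        rw [MonoidHom.mem_ker] at h1 ⊢
        simp only [map_mul, map_inv] at h1
        have e : f y = f x * ((f x)⁻¹ * f y * f x) * (f x)⁻¹ := by group
        rw [e, h1]
        group
    have htop : (⊤ : Subgroup G) ≤ f.ker := by
      rw [← hS.generates]
      exact iSup₂_le hker
    rw [hAbot]
    symm
    rw [eq_bot_iff]
    intro y _
    obtain ⟨x, rfl⟩ := hf y
    rw [Subgroup.mem_bot]
    exact MonoidHom.mem_ker.mp (htop (Subgroup.mem_top x))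

end Cfsg.Agent.S5035
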