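import Cfsg.Statements.S5045
import Cfsg.Agent.Lib.Helper26.RootInvA
import Cfsg.Agent.Lib.Helper26.RankOneNilp

set_option autoImplicit false
open Cfsg

namespace Cfsg.Agent.S5045

open Cfsg.Agent.Lib.Helper26 Cfsg.Agent.S5013

variable {G : Type*} [Group G] {D : Set G}

theorem comp_eq_of_rtg {a b : G} (h : Relation.ReflTransGen (Cfsg.OddAdj D) a b) :
    Cfsg.elemComponentOf (Cfsg.OddAdj D) D a = Cfsg.elemComponentOf (Cfsg.OddAdj D) D b := by
  ext x
  constructor
  · rintro ⟨hx, hax⟩
    exact ⟨hx, (rtg_symm (fun _ _ => oddAdj_symm) h).trans hax⟩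
  · rintro ⟨hx, hbx⟩
    exact ⟨hx, h.trans hbx⟩

theorem exists_adj_of_comp {a : G}
    (h : ∃ a' ∈ Cfsg.elemComponentOf (Cfsg.OddAdj D) D a, a' ≠ a) : ∃ c, Cfsg.OddAdj D a c := by
  obtain ⟨a', ⟨-, hpath⟩, hne⟩ := h
  rcases Relation.ReflTransGen.cases_head hpath with h1 | ⟨c, hac, -⟩
  · exact absurd h1.symm hne
  · exact ⟨c, hac⟩

theorem isolated_conj (hD : Cfsg.IsRootInvolutionSet D) {w : G}
    (hw : Cfsg.IsIsolatedElem (Cfsg.OddAdj D) D w) (g : G) :
    Cfsg.IsIsolatedElem (Cfsg.OddAdj D) D (g * w * g⁻¹) := by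
  refine ⟨hD.conj_mem w hw.1 g, fun b => ⟨fun h => ?_, fun h => ?_⟩⟩
  · have h1 := oddAdj_conj hD h g⁻¹
    have e : g⁻¹ * (g * w * g⁻¹) * g⁻¹⁻¹ = w := by group
    rw [e] at h1
    exact (hw.2 _).1 h1
  · have h1 := oddAdj_conj hD h g⁻¹
    have e : g⁻¹ * (g * w * g⁻¹) * g⁻¹⁻¹ = w := by group
    rw [e] at h1
    exact (hw.2 _).2 h1

theorem closure_normal_of_conj {T : Set G} (h : ∀ w ∈ T, ∀ g : G, g * w * g⁻¹ ∈ T) :
    (Subgroup.closure T).Normal := by
  constructor
  intro n hn g
  have hle : Subgroup.closure T ≤ (Subgroup.closure T).comap (MulAut.conj g).toMonoidHom := by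
    rw [Subgroup.closure_le]
    intro w hw
    exact Subgroup.subset_closure (h w hw g)
  exact hle hn

/-- Key step: if `a, e ∈ D` commute with `a e ∈ D`, `c` is an odd neighbour of `a` but not of `e`,
then `c` is an odd neighbour of `a e`. -/
theorem oddAdj_mul (hD : Cfsg.IsRootInvolutionSet D) {a e c : G} (ha : a ∈ D) (he : e ∈ D)
    (hae : a * e = e * a) (haeD : a * e ∈ D) (hac : Cfsg.OddAdj D a c)
    (hec : ¬ Cfsg.OddAdj D e c) : Cfsg.OddAdj D (a * e) c := by
  have hc : c ∈ D := hac.2.1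
  have ha2 := ri_sq hD ha
  have he2 := ri_sq hD he
  have hac1 : a * c ≠ 1 := by
    intro h
    apply hac.2.2.1
    have : a = c⁻¹ := eq_inv_of_mul_eq_one_left h
    rw [this, ri_inv hD hc]
  have hne : a * e ≠ c := by
    intro h
    apply hac1
    have h1 : a * c = c * a := by
      rw [← h]
      calc a * (a * e) = a * (e * a) := by rw [hae]
        _ = a * e * a := by group
    have h2 := sq_eq_one_of_comm ha2 (ri_sq hD hc) h1
    exact eq_one_of_odd_of_pow_two_pow hac.2.2.2 (k := 1) h2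
  refine ⟨haeD, hc, hne, ?_⟩
  by_contra hodd
  have h4t : (a * e * c) ^ 4 = 1 := pow_four_of_pair hD haeD hc (fun h => absurd h hodd)
  have h4e : (e * c) ^ 4 = 1 := by
    apply pow_four_of_pair hD he hc
    intro ho
    by_cases hec' : e = c
    · rw [hec']
      exact ri_sq hD hc
    · exact absurd ⟨he, hc, hec', ho⟩ hec
  have hte : a * e * e = e * (a * e) := by
    rw [mul_assoc, he2, mul_one, ← mul_assoc, ← hae, mul_assoc, he2, mul_one]
  have hteD : a * e * e ∈ D := by
    rw [mul_assoc, he2, mul_one]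
    exact ha
  obtain ⟨K, hK, htK, hcK, heK⟩ := two_group_of_chain hD haeD hc he hte hteD h4t h4e
  have haK : a ∈ K := by
    have : a = a * e * e := by rw [mul_assoc, he2, mul_one]
    rw [this]
    exact K.mul_mem htK heK
  obtain ⟨k, hk⟩ := hK ⟨a * c, K.mul_mem haK hcK⟩
  have hk' : (a * c) ^ (2 ^ k) = 1 := congrArg Subtype.val hk
  exact hac1 (eq_one_of_odd_of_pow_two_pow hac.2.2.2 hk')

theorem productPartners_subset (hD : Cfsg.IsRootInvolutionSet D) {a : G} (ha : a ∈ D)
    (hcomp : ∃ a' ∈ Cfsg.elemComponentOf (Cfsg.OddAdj D) D a, a' ≠ a) :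
    Cfsg.productPartners D a ⊆ Cfsg.elemComponentOf (Cfsg.OddAdj D) D a ∪
      {w | Cfsg.IsIsolatedElem (Cfsg.OddAdj D) D w} := by
  rintro e ⟨⟨he, hea, hne⟩, heaD⟩
  by_contra hcon
  rw [Set.mem_union, not_or] at hcon
  obtain ⟨hncomp, hnW⟩ := hcon
  obtain ⟨c, hac⟩ := exists_adj_of_comp hcomp
  have hnW' : ¬ ∀ b, ¬ Cfsg.OddAdj D e b ∧ ¬ Cfsg.OddAdj D b e := fun h => hnW ⟨he, h⟩
  push Not at hnW'
  obtain ⟨f, hf⟩ := hnW'
  have hef : Cfsg.OddAdj D e f := by
    by_cases h1 : Cfsg.OddAdj D e f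
    · exact h1
    · exact oddAdj_symm (hf h1)
  have hnpath : ¬ Relation.ReflTransGen (Cfsg.OddAdj D) a e := fun h => hncomp ⟨he, h⟩
  have hec : ¬ Cfsg.OddAdj D e c := fun h =>
    hnpath (Relation.ReflTransGen.head hac (Relation.ReflTransGen.single (oddAdj_symm h)))
  have haf : ¬ Cfsg.OddAdj D a f := fun h =>
    hnpath (Relation.ReflTransGen.head h (Relation.ReflTransGen.single (oddAdj_symm hef)))
  have hae : a * e = e * a := hea.symm
  have haeD : a * e ∈ D := by rw [hae]; exact heaD
  have h1 := oddAdj_mul hD ha he hae haeD hac hec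
  have h2 := oddAdj_mul hD he ha hea heaD hef haf
  rw [← hae] at h2
  exact hnpath (Relation.ReflTransGen.head hac (Relation.ReflTransGen.head (oddAdj_symm h1)
    (Relation.ReflTransGen.head h2 (Relation.ReflTransGen.single (oddAdj_symm hef)))))

/-- Let G be a finite group generated by a set D of root involutions, and W the set of members of D whose product with every other member of D has even order or is trivial (the isolated vertices of the odd-order-product graph on D). Then W is conjugation-invariant and generates a normal 2-subgroup of G meeting D in exactly W; the commutator of two members of D lying in different connected components of that graph, each with more than one member, lies in the subgroup generated by W; and for a in such a component, every member of D commuting with a, different from a and with product with a in D, lies in that component or in W. -/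
theorem result {G : Type*} [Group G] [Finite G] {D : Set G} (hD : Cfsg.IsRootInvolutionSet D) :
    (∀ w ∈ {w | Cfsg.IsIsolatedElem (Cfsg.OddAdj D) D w}, ∀ g : G, g * w * g⁻¹ ∈ {w | Cfsg.IsIsolatedElem (Cfsg.OddAdj D) D w}) ∧
    (Subgroup.closure {w | Cfsg.IsIsolatedElem (Cfsg.OddAdj D) D w}).Normal ∧
    IsPGroup 2 ↥(Subgroup.closure {w | Cfsg.IsIsolatedElem (Cfsg.OddAdj D) D w}) ∧
    (Subgroup.closure {w | Cfsg.IsIsolatedElem (Cfsg.OddAdj D) D w} : Set G) ∩ D = {w | Cfsg.IsIsolatedElem (Cfsg.OddAdj D) D w} ∧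
    (∀ a ∈ D, ∀ b ∈ D, (∃ a' ∈ Cfsg.elemComponentOf (Cfsg.OddAdj D) D a, a' ≠ a) →
      (∃ b' ∈ Cfsg.elemComponentOf (Cfsg.OddAdj D) D b, b' ≠ b) →
      Cfsg.elemComponentOf (Cfsg.OddAdj D) D a ≠ Cfsg.elemComponentOf (Cfsg.OddAdj D) D b →
        a * b * a⁻¹ * b⁻¹ ∈ Subgroup.closure {w | Cfsg.IsIsolatedElem (Cfsg.OddAdj D) D w}) ∧
    (∀ a ∈ D, (∃ a' ∈ Cfsg.elemComponentOf (Cfsg.OddAdj D) D a, a' ≠ a) →
      Cfsg.productPartners D a ⊆ Cfsg.elemComponentOf (Cfsg.OddAdj D) D a ∪ {w | Cfsg.IsIsolatedElem (Cfsg.OddAdj D) D w}) := by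
  have : Fact (Nat.Prime 2) := ⟨Nat.prime_two⟩
  have h1 : ∀ w ∈ {w | Cfsg.IsIsolatedElem (Cfsg.OddAdj D) D w}, ∀ g : G,
      g * w * g⁻¹ ∈ {w | Cfsg.IsIsolatedElem (Cfsg.OddAdj D) D w} :=
    fun w hw g => isolated_conj hD hw g
  have h2 := closure_normal_of_conj h1
  -- every isolated vertex lies in `O₂(G)`
  have hWle : Subgroup.closure {w | Cfsg.IsIsolatedElem (Cfsg.OddAdj D) D w} ≤ Cfsg.pCore 2 G := by
    rw [Subgroup.closure_le]
    intro w hw
    have hw2 := ri_sq hD hw.1
    have key : ∀ g : G, IsPGroup 2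
        ↥(Subgroup.zpowers w ⊔ (Subgroup.zpowers w).map (MulAut.conj g).toMonoidHom) := by
      intro g
      have e : (Subgroup.zpowers w).map (MulAut.conj g).toMonoidHom =
          Subgroup.zpowers (g * w * g⁻¹) := conjBy_zpowers w g
      rw [e]
      have hw' := isolated_conj hD hw g
      apply Cfsg.Agent.Lib.Helper19.isPGroup_two_of_involutions w (g * w * g⁻¹) hw2
        (ri_sq hD hw'.1) 2
      apply pow_four_of_pair hD hw.1 hw'.1
      intro ho
      by_cases hne : w = g * w * g⁻¹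
      · rw [← hne]
        exact hw2
      · exact absurd ⟨hw.1, hw'.1, hne, ho⟩ (hw.2 _).1
    obtain ⟨N, hN, hNp, hXN⟩ := Cfsg.Agent.Lib.Helper24.baer_suzuki (Subgroup.zpowers w)
      (isPGroup_two_zpowers hw2) key
    exact Cfsg.Agent.Lib.Helper1.le_pCore hN hNp (hXN (Subgroup.mem_zpowers w))
  have h3 : IsPGroup 2 ↥(Subgroup.closure {w | Cfsg.IsIsolatedElem (Cfsg.OddAdj D) D w}) :=
    (Cfsg.Agent.Lib.Helper1.pCore_isPGroup 2).to_le hWle
  have h4sub : ∀ x, x ∈ Subgroup.closure {w | Cfsg.IsIsolatedElem (Cfsg.OddAdj D) D w} → x ∈ D →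
      ∀ b, ¬ Cfsg.OddAdj D x b := by
    intro x hx hxD b hxb
    obtain ⟨t, ht⟩ := hxb.2.2.2
    have hpow : (x * b) ^ (2 * t + 1) = 1 := by rw [← ht, pow_orderOf_eq_one]
    have hconj := Cfsg.Agent.Lib.Helper19.dihedral_conj x b (ri_sq hD hxD) (ri_sq hD hxb.2.1) t hpow
    have hb : b ∈ Subgroup.closure {w | Cfsg.IsIsolatedElem (Cfsg.OddAdj D) D w} := by
      rw [← hconj]
      exact h2.conj_mem x hx _
    obtain ⟨k, hk⟩ := h3 ⟨x * b, Subgroup.mul_mem _ hx hb⟩
    have hk' : (x * b) ^ (2 ^ k) = 1 := congrArg Subtype.val hk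
    have h5 := eq_one_of_odd_of_pow_two_pow hxb.2.2.2 hk'
    apply hxb.2.2.1
    have : x = b⁻¹ := eq_inv_of_mul_eq_one_left h5
    rw [this, ri_inv hD hxb.2.1]
  have h6 := fun a (ha : a ∈ D) hcomp => productPartners_subset hD ha hcomp
  refine ⟨h1, h2, h3, ?_, ?_, h6⟩
  · ext x
    constructor
    · rintro ⟨hx, hxD⟩
      exact ⟨hxD, fun b => ⟨h4sub x hx hxD b, fun h => h4sub x hx hxD b (oddAdj_symm h)⟩⟩
    · intro hx
      exact ⟨Subgroup.subset_closure hx, hx.1⟩
  · intro a ha b hb hca hcb hne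
    have ha2 := ri_sq hD ha
    have hb2 := ri_sq hD hb
    have hnpath : ¬ Relation.ReflTransGen (Cfsg.OddAdj D) a b := fun h => hne (comp_eq_of_rtg h)
    rw [ri_inv hD ha, ri_inv hD hb]
    rcases hD.pair a ha b hb with h | h | h
    · have : a * b * a * b = 1 := by
        have := sq_eq_one_of_comm ha2 hb2 h
        rw [pow_two] at this
        rw [← this]; group
      rw [this]
      exact Subgroup.one_mem _
    · exfalso
      by_cases hab : a = b
      · exact hne (by rw [hab])
      · exact hnpath (Relation.ReflTransGen.single ⟨ha, hb, hab, h⟩)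
    · obtain ⟨h4, hz⟩ := h
      have e : a * b * a * b = (a * b) ^ 2 := by rw [pow_two]; group
      rw [e]
      have h44 : (a * b) ^ 4 = 1 := by rw [← h4, pow_orderOf_eq_one]
      have hzz : (a * b) ^ 2 * (a * b) ^ 2 = 1 := by rw [← pow_add]; exact h44
      have hzinv : ((a * b) ^ 2)⁻¹ = (a * b) ^ 2 := inv_eq_of_mul_eq_one_left hzz
      have hrinv : (a * b)⁻¹ = b * a := by rw [mul_inv_rev, ri_inv hD ha, ri_inv hD hb]
      have hab : a * b ≠ b * a := by
        intro hc
        have := sq_eq_one_of_comm ha2 hb2 hc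
        have h5 : orderOf (a * b) ∣ 2 := orderOf_dvd_of_pow_eq_one this
        rw [h4] at h5
        exact absurd h5 (by norm_num)
      have hara : a * (a * b) * a = (a * b)⁻¹ := by
        rw [hrinv, ← mul_assoc, ha2, one_mul]
      have hbrb : b * (a * b) * b = (a * b)⁻¹ := by
        rw [hrinv]
        calc b * (a * b) * b = b * a * (b * b) := by group
          _ = b * a := by rw [hb2, mul_one]
      have haza : a * (a * b) ^ 2 * a = (a * b) ^ 2 := by
        calc a * (a * b) ^ 2 * a = (a * (a * b) * a) * (a * a)⁻¹ * (a * (a * b) * a) := by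
              rw [pow_two]; group
          _ = (a * b) ^ 2 := by rw [hara, ha2, inv_one, mul_one, ← mul_inv_rev, ← pow_two, hzinv]
      have hbzb : b * (a * b) ^ 2 * b = (a * b) ^ 2 := by
        calc b * (a * b) ^ 2 * b = (b * (a * b) * b) * (b * b)⁻¹ * (b * (a * b) * b) := by
              rw [pow_two]; group
          _ = (a * b) ^ 2 := by rw [hbrb, hb2, inv_one, mul_one, ← mul_inv_rev, ← pow_two, hzinv]
      have hza : (a * b) ^ 2 * a = a * (a * b) ^ 2 := by
        calc (a * b) ^ 2 * a = (a * (a * b) ^ 2 * a) * a := by rw [haza]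
          _ = a * (a * b) ^ 2 * (a * a) := by group
          _ = a * (a * b) ^ 2 := by rw [ha2, mul_one]
      have hzb : (a * b) ^ 2 * b = b * (a * b) ^ 2 := by
        calc (a * b) ^ 2 * b = (b * (a * b) ^ 2 * b) * b := by rw [hbzb]
          _ = b * (a * b) ^ 2 * (b * b) := by group
          _ = b * (a * b) ^ 2 := by rw [hb2, mul_one]
      have hza_ne : (a * b) ^ 2 ≠ a := by
        intro hc
        apply hab
        have h5' : Commute ((a * b) ^ 2) (a * b) := (Commute.refl (a * b)).pow_left 2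
        rw [hc] at h5'
        have h5 : a * (a * b) = (a * b) * a := h5'.eq
        calc a * b = a * (a * (a * b)) := by rw [← mul_assoc a a, ha2, one_mul]
          _ = a * ((a * b) * a) := by rw [h5]
          _ = (a * a) * b * a := by group
          _ = b * a := by rw [ha2, one_mul]
      have hzb_ne : (a * b) ^ 2 ≠ b := by
        intro hc
        apply hab
        have h5' : Commute ((a * b) ^ 2) (a * b) := (Commute.refl (a * b)).pow_left 2
        rw [hc] at h5'
        have h5 : b * (a * b) = (a * b) * b := h5'.eq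
        calc a * b = (a * b) * b * b := by rw [mul_assoc (a * b), hb2, mul_one]
          _ = b * (a * b) * b := by rw [h5]
          _ = b * a * (b * b) := by group
          _ = b * a := by rw [hb2, mul_one]
      have hzaD : (a * b) ^ 2 * a ∈ D := by
        have h5 : a * (b * a * b) * a ∈ D := ri_conj hD (ri_conj hD ha hb) ha
        have e5 : (a * b) ^ 2 * a = a * (b * a * b) * a := by rw [pow_two]; group
        rw [e5]
        exact h5
      have hzbD : (a * b) ^ 2 * b ∈ D := by
        have h5 : a * b * a ∈ D := ri_conj hD hb ha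
        have e5 : (a * b) ^ 2 * b = a * b * a := by
          rw [pow_two]
          calc a * b * (a * b) * b = a * b * a * (b * b) := by group
            _ = a * b * a := by rw [hb2, mul_one]
        rw [e5]
        exact h5
      have hpa : (a * b) ^ 2 ∈ Cfsg.productPartners D a := ⟨⟨hz, hza, hza_ne⟩, hzaD⟩
      have hpb : (a * b) ^ 2 ∈ Cfsg.productPartners D b := ⟨⟨hz, hzb, hzb_ne⟩, hzbD⟩
      rcases h6 a ha hca hpa with h7 | h7
      · rcases h6 b hb hcb hpb with h8 | h8
        · exfalso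
          exact hnpath (h7.2.trans (rtg_symm (fun _ _ => oddAdj_symm) h8.2))
        · exact Subgroup.subset_closure h8
      · exact Subgroup.subset_closure h7

end Cfsg.Agent.S5045
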