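import Cfsg.Statements.S5049
import Cfsg.Agent.Lib.Helper1.Cores

set_option autoImplicit false
open Cfsg

namespace Cfsg.Agent.S5049

open scoped commutatorElement

theorem sq_eq_one_of_mem {G : Type*} [Group G] {D : Set G} (hD : Cfsg.IsRootInvolutionSet D)
    {d : G} (hd : d ∈ D) : d * d = 1 := by
  have h := hD.orderOf_eq d hd
  rw [← pow_two, ← h]
  exact pow_orderOf_eq_one d

theorem inv_eq_of_mem {G : Type*} [Group G] {D : Set G} (hD : Cfsg.IsRootInvolutionSet D)
    {d : G} (hd : d ∈ D) : d⁻¹ = d :=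
  inv_eq_of_mul_eq_one_left (sq_eq_one_of_mem hD hd)

theorem exists_pow_of_mul {G : Type*} [Group G] {Q : Subgroup G} (hQn : Q.Normal)
    (hQ : IsPGroup 2 Q) {t u : G} (ht : t * t = 1) (hu : u ∈ Q) :
    ∃ m : ℕ, (t * u) ^ (2 ^ m) = 1 := by
  have h1 : (t * u) ^ 2 ∈ Q := by
    have h2 : (t * u) ^ 2 = (t * u * t⁻¹) * u := by
      have h3 : t⁻¹ = t := inv_eq_of_mul_eq_one_left ht
      rw [h3, pow_two]
      group
    rw [h2]
    exact Q.mul_mem (hQn.conj_mem u hu t) hu
  obtain ⟨m, hm⟩ := hQ ⟨_, h1⟩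
  refine ⟨m + 1, ?_⟩
  have h4 := congrArg Subtype.val hm
  simp only [Subgroup.coe_pow, Subgroup.coe_one] at h4
  rw [pow_succ', pow_mul]
  exact h4

theorem commute_of_pow {G : Type*} [Group G] {D : Set G} (hD : Cfsg.IsOddTranspositionSet D)
    {d d' : G} (hd : d ∈ D) (hd' : d' ∈ D) {m : ℕ} (h : (d * d') ^ (2 ^ m) = 1) :
    d * d' = d' * d := by
  rcases hD.1.pair d hd d' hd' with h1 | h1 | h1
  · exact h1
  · have hdvd : orderOf (d * d') ∣ 2 ^ m := orderOf_dvd_of_pow_eq_one h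
    have hc : Nat.Coprime (orderOf (d * d')) (2 ^ m) :=
      Nat.Coprime.pow_right m (Nat.coprime_two_right.mpr h1)
    have h2 : orderOf (d * d') = 1 := Nat.Coprime.eq_one_of_dvd hc hdvd
    have h3 : d * d' = 1 := orderOf_eq_one_iff.mp h2
    have h4 : d' = d⁻¹ := eq_inv_of_mul_eq_one_right h3
    rw [h4]
    simp
  · exact absurd h1.1 (hD.2 d hd d' hd')

theorem part_one {G : Type*} [Group G] [Finite G] {D : Set G} (hD : Cfsg.IsOddTranspositionSet D)
    {a : G} (ha : a ∈ D) {e : G} (he : e ∈ D) (hea : e * a = a * e) :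
    ⁅Cfsg.pCore 2 G, Subgroup.zpowers a⁆ ≤ Subgroup.centralizer {e} := by
  haveI : Fact (Nat.Prime 2) := ⟨Nat.prime_two⟩
  have hQn : (Cfsg.pCore 2 G).Normal := Cfsg.Agent.Lib.Helper1.pCore_normal 2
  have hQ : IsPGroup 2 (Cfsg.pCore 2 G) := Cfsg.Agent.Lib.Helper1.pCore_isPGroup 2
  rw [Subgroup.commutator_le]
  intro q hq z hz
  rw [Subgroup.mem_centralizer_iff]
  intro y hy
  rw [Set.mem_singleton_iff] at hy
  subst hy
  obtain ⟨k, rfl⟩ := Subgroup.mem_zpowers_iff.mp hz
  have ha' : q * a * q⁻¹ ∈ D := hD.1.conj_mem a ha q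
  have h1 : y * (q * a * q⁻¹) = (y * a) * (a⁻¹ * q * a * q⁻¹) := by group
  have h2 : (y * a) * (y * a) = 1 := by
    calc (y * a) * (y * a) = y * (a * y) * a := by group
      _ = y * (y * a) * a := by rw [hea]
      _ = (y * y) * (a * a) := by group
      _ = 1 := by rw [sq_eq_one_of_mem hD.1 he, sq_eq_one_of_mem hD.1 ha, one_mul]
  have h3 : a⁻¹ * q * a * q⁻¹ ∈ Cfsg.pCore 2 G := by
    have := hQn.conj_mem q hq a⁻¹
    rw [inv_inv] at this
    exact (Cfsg.pCore 2 G).mul_mem this ((Cfsg.pCore 2 G).inv_mem hq)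
  obtain ⟨m, hm⟩ := exists_pow_of_mul hQn hQ h2 h3
  rw [← h1] at hm
  have h4 : y * (q * a * q⁻¹) = (q * a * q⁻¹) * y := commute_of_pow hD he ha' hm
  have h5 : Commute y (q * a * q⁻¹) := h4
  have h6 : Commute y a := hea
  have h7 : Commute y ((q * a * q⁻¹) ^ k * (a ^ k)⁻¹) :=
    (h5.zpow_right k).mul_right (h6.zpow_right k).inv_right
  have h8 : ⁅q, a ^ k⁆ = (q * a * q⁻¹) ^ k * (a ^ k)⁻¹ := by
    rw [commutatorElement_def, ← conj_zpow]
  rw [h8]
  exact h7.eq

theorem part_two_aux {G : Type*} [Group G] [Finite G] {D : Set G}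
    (hD : Cfsg.IsOddTranspositionSet D)
    {a b : G} (ha : a ∈ D) (hb : b ∈ D) (hne : b ≠ a) (hodd : Odd (orderOf (a * b)))
    {q : G} (hq : q ∈ Cfsg.pCore 2 G) (hqab : q * (a * b) = (a * b) * q) :
    q * a = a * q ∧ q * b = b * q := by
  haveI : Fact (Nat.Prime 2) := ⟨Nat.prime_two⟩
  have hQn : (Cfsg.pCore 2 G).Normal := Cfsg.Agent.Lib.Helper1.pCore_normal 2
  have hQ : IsPGroup 2 (Cfsg.pCore 2 G) := Cfsg.Agent.Lib.Helper1.pCore_isPGroup 2
  have haa := sq_eq_one_of_mem hD.1 ha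
  have hbb := sq_eq_one_of_mem hD.1 hb
  have hai := inv_eq_of_mem hD.1 ha
  have hbi := inv_eq_of_mem hD.1 hb
  obtain ⟨a', ha'def⟩ : ∃ a', a' = q * a * q⁻¹ := ⟨_, rfl⟩
  have ha' : a' ∈ D := by rw [ha'def]; exact hD.1.conj_mem a ha q
  have hb' : q * b * q⁻¹ ∈ D := hD.1.conj_mem b hb q
  have ha'a' := sq_eq_one_of_mem hD.1 ha'
  have hb'b' := sq_eq_one_of_mem hD.1 hb'
  obtain ⟨x, hxdef⟩ : ∃ x, x = a * a' := ⟨_, rfl⟩
  have hx : x ∈ Cfsg.pCore 2 G := by
    have h1 : x = (a * q * a⁻¹) * q⁻¹ := by rw [hxdef, ha'def, hai]; group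
    rw [h1]
    exact (Cfsg.pCore 2 G).mul_mem (hQn.conj_mem q hq a) ((Cfsg.pCore 2 G).inv_mem hq)
  obtain ⟨m, hm⟩ := exists_pow_of_mul hQn hQ (one_mul (1 : G)) hx
  rw [one_mul, hxdef] at hm
  have hcomm : a * a' = a' * a := commute_of_pow hD ha ha' hm
  have hxx : x * x = 1 := by
    calc x * x = a * (a' * a) * a' := by rw [hxdef]; group
      _ = a * (a * a') * a' := by rw [hcomm]
      _ = (a * a) * (a' * a') := by group
      _ = 1 := by rw [haa, ha'a', one_mul]
  have ha'x : a' = a * x := by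
    rw [hxdef, ← mul_assoc, haa, one_mul]
  have hxa : x * a = a * x := by
    rw [hxdef, mul_assoc, ← hcomm, ← mul_assoc]
  have hab' : a' * (q * b * q⁻¹) = a * b := by
    calc a' * (q * b * q⁻¹) = q * (a * b) * q⁻¹ := by rw [ha'def]; group
      _ = a * b := by rw [hqab]; group
  have hb'x : q * b * q⁻¹ = x * b := by
    have h1 : q * b * q⁻¹ = a' * (a' * (q * b * q⁻¹)) := by
      rw [← mul_assoc, ha'a', one_mul]
    rw [h1, hab', ha'x]
    calc a * x * (a * b) = (a * x) * a * b := by group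
      _ = (x * a) * a * b := by rw [hxa]
      _ = x * (a * a) * b := by group
      _ = x * b := by rw [haa, mul_one]
  have hxb : x * b = b * x := by
    have h1 : (x * b) * (x * b) = 1 := by rw [← hb'x]; exact hb'b'
    calc x * b = (x * b) * ((x * b) * (x * b))⁻¹ * 1 := by rw [h1]; group
      _ = b⁻¹ * x⁻¹ := by group
      _ = b * x := by rw [hbi, inv_eq_of_mul_eq_one_left hxx]
  have hx1 : x = 1 := by
    by_contra hx1
    have hox : orderOf x = 2 := by
      apply orderOf_eq_prime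
      · rw [pow_two]; exact hxx
      · exact hx1
    have hcxab : Commute x (a * b) := by
      have h1 : Commute x a := hxa
      have h2 : Commute x b := hxb
      exact h1.mul_right h2
    have hcop : Nat.Coprime (orderOf x) (orderOf (a * b)) := by
      rw [hox]; exact Nat.coprime_two_left.mpr hodd
    have hord : orderOf (x * (a * b)) = 2 * orderOf (a * b) := by
      rw [hcxab.orderOf_mul_eq_mul_orderOf_of_coprime hcop, hox]
    have ha'b : a' * b = x * (a * b) := by
      rw [ha'x, ← hxa]; group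
    rcases hD.1.pair a' ha' b hb with h1 | h1 | h1
    · have h2 : a * b = b * a := by
        have h3 : x * (a * b) = x * (b * a) := by
          calc x * (a * b) = a' * b := ha'b.symm
            _ = b * a' := h1
            _ = b * (x * a) := by rw [ha'x, hxa]
            _ = (b * x) * a := by group
            _ = (x * b) * a := by rw [hxb]
            _ = x * (b * a) := by group
        exact mul_left_cancel h3
      have h4 : (a * b) ^ 2 = 1 := by
        calc (a * b) ^ 2 = a * (b * a) * b := by rw [pow_two]; group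
          _ = a * (a * b) * b := by rw [h2]
          _ = (a * a) * (b * b) := by group
          _ = 1 := by rw [haa, hbb, one_mul]
      have h5 : orderOf (a * b) ∣ 2 := orderOf_dvd_of_pow_eq_one h4
      have h6 : orderOf (a * b) = 1 :=
        Nat.Coprime.eq_one_of_dvd (Nat.coprime_two_right.mpr hodd) h5
      have h7 : a * b = 1 := orderOf_eq_one_iff.mp h6
      have h8 : b = a⁻¹ := eq_inv_of_mul_eq_one_right h7
      rw [hai] at h8
      exact hne h8
    · rw [ha'b, hord] at h1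
      exact (Nat.not_odd_iff_even.mpr (even_two_mul _)) h1
    · exact hD.2 a' ha' b hb h1.1
  have hqa : q * a = a * q := by
    have h1 : a' = a := by rw [ha'x, hx1, mul_one]
    calc q * a = (q * a * q⁻¹) * q := by group
      _ = a * q := by rw [← ha'def, h1]
  refine ⟨hqa, ?_⟩
  have h2 : q * b * q⁻¹ = b := by rw [hb'x, hx1, one_mul]
  calc q * b = (q * b * q⁻¹) * q := by group
    _ = b * q := by rw [h2]

theorem result {G : Type*} [Group G] [Finite G] {D : Set G} (hD : Cfsg.IsOddTranspositionSet D) {a : G} (ha : a ∈ D) :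
    (∀ e ∈ Cfsg.commutingMembers D a, ∀ q ∈ ⁅Cfsg.pCore 2 G, Subgroup.zpowers a⁆, e * q = q * e) ∧
    (∀ b ∈ Cfsg.oddPartners D a,
      Cfsg.pCore 2 G ⊓ Subgroup.centralizer {a * b} = Cfsg.pCore 2 G ⊓ Subgroup.centralizer {a} ⊓ Subgroup.centralizer {b}) := by
  constructor
  · rintro e ⟨he, hea⟩ q hq
    have h1 := part_one hD ha he hea hq
    rw [Subgroup.mem_centralizer_iff] at h1
    exact h1 e rfl
  · rintro b ⟨hb, hne, hodd⟩
    ext q
    simp only [Subgroup.mem_inf, Subgroup.mem_centralizer_iff, Set.mem_singleton_iff, forall_eq]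
    constructor
    · rintro ⟨hq, hqab⟩
      obtain ⟨h1, h2⟩ := part_two_aux hD ha hb hne hodd hq hqab.symm
      exact ⟨⟨hq, h1.symm⟩, h2.symm⟩
    · rintro ⟨⟨hq, h1⟩, h2⟩
      refine ⟨hq, ?_⟩
      rw [mul_assoc, h2, ← mul_assoc, h1, mul_assoc]

end Cfsg.Agent.S5049
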