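import Cfsg.Statements.S5057

set_option autoImplicit false
open Cfsg

namespace Cfsg.Agent.S5057

open Equiv Equiv.Perm

theorem a6_order_le (x : Perm (Fin 6)) (hx : sign x = 1) : orderOf x ≤ 5 := by
  rw [← lcm_cycleType]
  have hs : x.cycleType.sum ≤ 6 := by simpa using x.sum_cycleType_le
  have h2 : ∀ n ∈ x.cycleType, 2 ≤ n := fun n hn => two_le_of_mem_cycleType hn
  have hsign := sign_of_cycleType x
  rw [hx] at hsign
  have heven : Even (x.cycleType.sum + Multiset.card x.cycleType) := by
    by_contra hodd
    rw [Nat.not_even_iff_odd] at hodd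
    rw [hodd.neg_one_pow] at hsign
    exact absurd hsign (by decide)
  generalize x.cycleType = m at *
  have hc : 2 * Multiset.card m ≤ m.sum := by
    have := Multiset.card_nsmul_le_sum h2
    simpa [mul_comm] using this
  have hc3 : Multiset.card m ≤ 3 := by omega
  rw [Nat.even_iff] at heven
  interval_cases hcard : Multiset.card m
  · rw [Multiset.card_eq_zero] at hcard
    subst hcard
    simp
  · rw [Multiset.card_eq_one] at hcard
    obtain ⟨a, rfl⟩ := hcard
    have hs' : a ≤ 6 := by simpa using hs
    have : Multiset.lcm ({a} : Multiset ℕ) = a := by simp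
    rw [this]
    have h1 : (({a} : Multiset ℕ).sum) = a := by simp
    rw [h1] at heven
    omega
  · rw [Multiset.card_eq_two] at hcard
    obtain ⟨a, b, rfl⟩ := hcard
    have h1 : (({a, b} : Multiset ℕ).sum) = a + b := by simp
    rw [h1] at heven hs
    have ha := h2 a (by simp)
    have hb := h2 b (by simp)
    have : Multiset.lcm ({a, b} : Multiset ℕ) = Nat.lcm a b := by simp [lcm_eq_nat_lcm]
    rw [this]
    have ha' : a ≤ 4 := by omega
    have hb' : b ≤ 4 := by omega
    interval_cases a <;> interval_cases b <;> first | omega | decide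
  · exfalso
    omega

theorem a6_order_le' (x : ↥(alternatingGroup (Fin 6))) : orderOf x ≤ 5 := by
  rw [← Subgroup.orderOf_coe]
  exact a6_order_le x.1 (mem_alternatingGroup.mp x.2)

theorem a6_invol_cycleType (x : ↥(alternatingGroup (Fin 6))) (hx : orderOf x = 2) :
    (x : Perm (Fin 6)).cycleType = {2, 2} := by
  have hx' : orderOf (x : Perm (Fin 6)) = 2 := by rw [Subgroup.orderOf_coe]; exact hx
  obtain ⟨n, hn⟩ := cycleType_prime_order (σ := (x : Perm (Fin 6))) (by rw [hx']; exact Nat.prime_two)
  rw [hx'] at hn
  have hs : (x : Perm (Fin 6)).cycleType.sum ≤ 6 := by simpa using (x : Perm (Fin 6)).sum_cycleType_le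
  have hsign := sign_of_cycleType (x : Perm (Fin 6))
  rw [mem_alternatingGroup.mp x.2, hn] at hsign
  rw [hn] at hs
  simp only [Multiset.sum_replicate, Multiset.card_replicate, smul_eq_mul] at hs hsign
  have heven : Even ((n + 1) * 2 + (n + 1)) := by
    by_contra hodd
    rw [Nat.not_even_iff_odd] at hodd
    rw [hodd.neg_one_pow] at hsign
    exact absurd hsign (by decide)
  rw [Nat.even_iff] at heven
  have : n = 1 := by omega
  subst this
  rw [hn]
  rfl

def inv0 : ↥(alternatingGroup (Fin 6)) :=
  ⟨swap 0 1 * swap 2 3, by rw [mem_alternatingGroup]; decide⟩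

theorem orderOf_inv0 : orderOf inv0 = 2 := by
  refine orderOf_eq_prime ?_ ?_
  · decide
  · decide

/-- The involutions of the alternating group of degree 6 form a class of root involutions (a single conjugacy class of involutions generating the group, any two of which commute, have product of odd order, or have product of order 4 whose square is again an involution of the class), and the product of any two of them has order at most 5. -/
theorem result :
    Cfsg.IsRootInvolutionClass {g : ↥(alternatingGroup (Fin 6)) | orderOf g = 2} ∧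
    ∀ d ∈ {g : ↥(alternatingGroup (Fin 6)) | orderOf g = 2}, ∀ e ∈ {g : ↥(alternatingGroup (Fin 6)) | orderOf g = 2},
      orderOf (d * e) ≤ 5 := by
  have hconj : ∀ d ∈ {g : ↥(alternatingGroup (Fin 6)) | orderOf g = 2}, ∀ g : ↥(alternatingGroup (Fin 6)),
      g * d * g⁻¹ ∈ {g : ↥(alternatingGroup (Fin 6)) | orderOf g = 2} := by
    intro d hd g
    show orderOf (g * d * g⁻¹) = 2
    have := orderOf_injective (MulAut.conj g).toMonoidHom (MulAut.conj g).injective d
    rw [← hd, ← this]
    rfl
  have hmem0 : inv0 ∈ {g : ↥(alternatingGroup (Fin 6)) | orderOf g = 2} := orderOf_inv0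
  have hle : ∀ d ∈ {g : ↥(alternatingGroup (Fin 6)) | orderOf g = 2},
      ∀ e ∈ {g : ↥(alternatingGroup (Fin 6)) | orderOf g = 2}, orderOf (d * e) ≤ 5 :=
    fun d _ e _ => a6_order_le' (d * e)
  refine ⟨⟨⟨fun d hd => hd, ?_, hconj, ?_⟩, ⟨inv0, hmem0⟩, ?_⟩, hle⟩
  · have hsimple : IsSimpleGroup ↥(alternatingGroup (Fin 6)) :=
      alternatingGroup.isSimpleGroup (by simp)
    have hnormal : (Subgroup.closure {g : ↥(alternatingGroup (Fin 6)) | orderOf g = 2}).Normal := by
      constructor
      intro n hn g
      have hmap : (Subgroup.closure {g : ↥(alternatingGroup (Fin 6)) | orderOf g = 2}).map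
          (MulAut.conj g).toMonoidHom ≤
          Subgroup.closure {g : ↥(alternatingGroup (Fin 6)) | orderOf g = 2} := by
        rw [MonoidHom.map_closure, Subgroup.closure_le]
        rintro _ ⟨d, hd, rfl⟩
        exact Subgroup.subset_closure (hconj d hd g)
      exact hmap ⟨n, hn, rfl⟩
    rcases hnormal.eq_bot_or_eq_top with h | h
    · exfalso
      have h1 : inv0 ∈ Subgroup.closure {g : ↥(alternatingGroup (Fin 6)) | orderOf g = 2} :=
        Subgroup.subset_closure hmem0
      rw [h, Subgroup.mem_bot] at h1
      have := orderOf_inv0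
      rw [h1, orderOf_one] at this
      exact absurd this (by decide)
    · exact h
  · intro a ha b hb
    have ha2 : a ^ 2 = 1 := by rw [← ha]; exact pow_orderOf_eq_one a
    have hb2 : b ^ 2 = 1 := by rw [← hb]; exact pow_orderOf_eq_one b
    have hn := a6_order_le' (a * b)
    have hpos : 0 < orderOf (a * b) := orderOf_pos (a * b)
    have hcomm : (a * b) ^ 2 = 1 → a * b = b * a := by
      intro h
      have e1 : a⁻¹ = a := by
        rw [inv_eq_iff_mul_eq_one, ← pow_two]; exact ha2
      have e2 : b⁻¹ = b := by
        rw [inv_eq_iff_mul_eq_one, ← pow_two]; exact hb2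
      have : a * b = (a * b)⁻¹ := by
        rw [eq_comm, inv_eq_iff_mul_eq_one, ← pow_two]; exact h
      rw [this, mul_inv_rev, e1, e2]
    interval_cases hord : orderOf (a * b)
    · left
      apply hcomm
      have := pow_orderOf_eq_one (a * b)
      rw [hord] at this
      rw [pow_one] at this
      rw [this, one_pow]
    · left
      apply hcomm
      have := pow_orderOf_eq_one (a * b)
      rw [hord] at this
      exact this
    · right; left; decide
    · right; right
      refine ⟨rfl, ?_⟩
      show orderOf ((a * b) ^ 2) = 2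
      rw [orderOf_pow' (a * b) (by decide : (2:ℕ) ≠ 0), hord]
      rfl
    · right; left; decide
  · intro a ha b hb
    have hca := a6_invol_cycleType a ha
    have hcb := a6_invol_cycleType b hb
    have hc : IsConj (a : Perm (Fin 6)) (b : Perm (Fin 6)) := by
      rw [isConj_iff_cycleType_eq, hca, hcb]
    have hsupp : (a : Perm (Fin 6)).support.card + 2 ≤ Fintype.card (Fin 6) := by
      rw [← sum_cycleType, hca]
      simp
    have := alternatingGroup.isConj_of hc hsupp
    rw [isConj_iff] at this
    obtain ⟨g, hg⟩ := this
    exact ⟨g, hg.symm⟩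

end Cfsg.Agent.S5057
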