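import Cfsg.Statements.S5059

set_option autoImplicit false
universe u
open Cfsg

namespace Cfsg.Agent.S5059

section Aux

variable {k : Type*} [Field k] {M : Type*} [AddCommGroup M] [Module k M]

theorem one_add_mul_one_sub (m : M →ₗ[k] M) (hm : m * m = 0) : (1 + m) * (1 - m) = 1 := by
  calc (1 + m) * (1 - m) = 1 - m * m := by noncomm_ring
    _ = 1 := by rw [hm, sub_zero]

theorem one_sub_mul_one_add (m : M →ₗ[k] M) (hm : m * m = 0) : (1 - m) * (1 + m) = 1 := by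
  calc (1 - m) * (1 + m) = 1 - m * m := by noncomm_ring
    _ = 1 := by rw [hm, sub_zero]

theorem smul_sq_zero (c : k) (n : M →ₗ[k] M) (hn : n * n = 0) : (c • n) * (c • n) = 0 := by
  rw [smul_mul_smul_comm, hn, smul_zero]

def unitOf (c : k) (n : M →ₗ[k] M) (hn : n * n = 0) : LinearMap.GeneralLinearGroup k M where
  val := 1 + c • n
  inv := 1 - c • n
  val_inv := one_add_mul_one_sub _ (smul_sq_zero c n hn)
  inv_val := one_sub_mul_one_add _ (smul_sq_zero c n hn)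

theorem unitOf_val (c : k) (n : M →ₗ[k] M) (hn : n * n = 0) :
    ((unitOf c n hn : LinearMap.GeneralLinearGroup k M) : M →ₗ[k] M) = 1 + c • n := rfl

theorem val_eq (τ : LinearMap.GeneralLinearGroup k M) :
    (τ : M →ₗ[k] M) = 1 + ((τ : M →ₗ[k] M) - 1) := by abel

theorem mul_eq_zero_of_range_le_ker {a b : M →ₗ[k] M}
    (h : LinearMap.range b ≤ LinearMap.ker a) : a * b = 0 := by
  ext x
  have : b x ∈ LinearMap.ker a := h ⟨x, rfl⟩
  simpa using this

theorem pow_one_add (n : M →ₗ[k] M) (hn : n * n = 0) (m : ℕ) :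
    (1 + n) ^ m = 1 + (m : k) • n := by
  induction m with
  | zero => simp
  | succ m ih =>
    rw [pow_succ, ih]
    have h : ((m : k) • n) * n = 0 := by rw [smul_mul_assoc, hn, smul_zero]
    calc (1 + (m : k) • n) * (1 + n) = 1 + n + (m : k) • n + ((m : k) • n) * n := by noncomm_ring
      _ = 1 + ((m + 1 : ℕ) : k) • n := by
        rw [h, add_zero, Nat.cast_succ, add_smul, one_smul]
        abel

end Aux

section Main

variable {k : Type u} [Field k] {M : Type u} [AddCommGroup M] [Module k M]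
  {G : Subgroup (LinearMap.GeneralLinearGroup k M)} {σ : LinearMap.GeneralLinearGroup k M}

theorem range_le_ker (hσ : σ ∈ Cfsg.minimalQuadraticElements G) :
    LinearMap.range ((σ : M →ₗ[k] M) - 1) ≤ LinearMap.ker ((σ : M →ₗ[k] M) - 1) := by
  rintro _ ⟨x, rfl⟩
  have h := hσ.1.2.1.1
  have h2 := congrArg (fun f : M →ₗ[k] M => f x) h
  simpa using h2

theorem mul_zero_of_mem {τ₁ τ₂ : LinearMap.GeneralLinearGroup k M}
    (hσ : σ ∈ Cfsg.minimalQuadraticElements G)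
    (h₁ : τ₁ ∈ Cfsg.sameActionClass G σ) (h₂ : τ₂ ∈ Cfsg.sameActionClass G σ) :
    ((τ₁ : M →ₗ[k] M) - 1) * ((τ₂ : M →ₗ[k] M) - 1) = 0 := by
  apply mul_eq_zero_of_range_le_ker
  rw [h₂.2.2, h₁.2.1]
  exact range_le_ker hσ

/-- a criterion for membership in the same-action class in terms of the nilpotent part -/
theorem mem_class_of [FiniteDimensional k M] (hσ : σ ∈ Cfsg.minimalQuadraticElements G)
    {ρ : LinearMap.GeneralLinearGroup k M} (hρG : ρ ∈ G)
    (hsq : ((ρ : M →ₗ[k] M) - 1) * ((ρ : M →ₗ[k] M) - 1) = 0)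
    (hne : (ρ : M →ₗ[k] M) - 1 ≠ 0)
    (hsc : Cfsg.scalarFamily ρ ⊆ (G : Set (LinearMap.GeneralLinearGroup k M)))
    (hker : LinearMap.ker ((σ : M →ₗ[k] M) - 1) ≤ LinearMap.ker ((ρ : M →ₗ[k] M) - 1))
    (hrange : LinearMap.range ((ρ : M →ₗ[k] M) - 1) ≤ LinearMap.range ((σ : M →ₗ[k] M) - 1)) :
    ρ ∈ Cfsg.sameActionClass G σ := by
  have hρQ : ρ ∈ Cfsg.quadraticElements G := ⟨hρG, ⟨hsq, hne⟩, hsc⟩
  have hle : Cfsg.commutatorRank ρ ≤ Cfsg.commutatorRank σ := Submodule.finrank_mono hrange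
  have hge : Cfsg.commutatorRank σ ≤ Cfsg.commutatorRank ρ := hσ.2 ρ hρQ
  have hreq : LinearMap.range ((ρ : M →ₗ[k] M) - 1) = LinearMap.range ((σ : M →ₗ[k] M) - 1) :=
    Submodule.eq_of_le_of_finrank_le hrange hge
  have hkeq : LinearMap.ker ((ρ : M →ₗ[k] M) - 1) = LinearMap.ker ((σ : M →ₗ[k] M) - 1) := by
    symm
    apply Submodule.eq_of_le_of_finrank_le hker
    have h1 := LinearMap.finrank_range_add_finrank_ker ((ρ : M →ₗ[k] M) - 1)
    have h2 := LinearMap.finrank_range_add_finrank_ker ((σ : M →ₗ[k] M) - 1)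
    rw [hreq] at h1
    omega
  refine ⟨⟨hρQ, fun τ hτ => ?_⟩, hkeq, hreq⟩
  exact le_trans hle (hσ.2 τ hτ)

theorem mul_mem_class [FiniteDimensional k M] (hσ : σ ∈ Cfsg.minimalQuadraticElements G)
    {τ₁ τ₂ : LinearMap.GeneralLinearGroup k M}
    (h₁ : τ₁ ∈ Cfsg.sameActionClass G σ) (h₂ : τ₂ ∈ Cfsg.sameActionClass G σ) :
    τ₁ * τ₂ ∈ Cfsg.sameActionClass G σ ∪ {1} := by
  have h12 := mul_zero_of_mem hσ h₁ h₂
  have h11 := h₁.1.1.2.1.1
  have h22 := h₂.1.1.2.1.1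
  have h21 := mul_zero_of_mem hσ h₂ h₁
  have hval : ((τ₁ * τ₂ : LinearMap.GeneralLinearGroup k M) : M →ₗ[k] M) - 1 =
      ((τ₁ : M →ₗ[k] M) - 1) + ((τ₂ : M →ₗ[k] M) - 1) := by
    rw [Units.val_mul]
    calc (τ₁ : M →ₗ[k] M) * (τ₂ : M →ₗ[k] M) - 1 =
        ((τ₁ : M →ₗ[k] M) - 1) * ((τ₂ : M →ₗ[k] M) - 1) +
          (((τ₁ : M →ₗ[k] M) - 1) + ((τ₂ : M →ₗ[k] M) - 1)) := by noncomm_ring
      _ = _ := by rw [h12, zero_add]
  by_cases hne : ((τ₁ * τ₂ : LinearMap.GeneralLinearGroup k M) : M →ₗ[k] M) - 1 = 0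
  · right
    rw [Set.mem_singleton_iff]
    apply Units.ext
    rw [Units.val_one]
    exact sub_eq_zero.mp hne
  · left
    apply mem_class_of hσ (G.mul_mem h₁.1.1.1 h₂.1.1.1) _ hne
    · rintro τ' ⟨c, hc⟩
      have hu1 : unitOf c ((τ₁ : M →ₗ[k] M) - 1) h11 ∈ G := h₁.1.1.2.2 ⟨c, rfl⟩
      have hu2 : unitOf c ((τ₂ : M →ₗ[k] M) - 1) h22 ∈ G := h₂.1.1.2.2 ⟨c, rfl⟩
      have h3 : (c • ((τ₁ : M →ₗ[k] M) - 1)) * (c • ((τ₂ : M →ₗ[k] M) - 1)) = 0 := by
        rw [smul_mul_smul_comm, h12, smul_zero]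
      have h4 : ∀ a b : M →ₗ[k] M, a * b = 0 → (1 + a) * (1 + b) = 1 + (a + b) := by
        intro a b hab
        calc (1 + a) * (1 + b) = 1 + (a + b) + a * b := by noncomm_ring
          _ = 1 + (a + b) := by rw [hab, add_zero]
      have : τ' = unitOf c ((τ₁ : M →ₗ[k] M) - 1) h11 * unitOf c ((τ₂ : M →ₗ[k] M) - 1) h22 := by
        apply Units.ext
        calc (τ' : M →ₗ[k] M) = 1 + c • (((τ₁ : M →ₗ[k] M) - 1) + ((τ₂ : M →ₗ[k] M) - 1)) := by
              rw [hc, hval]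
          _ = (1 + c • ((τ₁ : M →ₗ[k] M) - 1)) * (1 + c • ((τ₂ : M →ₗ[k] M) - 1)) := by
              rw [h4 _ _ h3, smul_add]
      rw [this]
      exact G.mul_mem hu1 hu2
    · rw [hval]
      intro x hx
      rw [LinearMap.mem_ker] at hx ⊢
      have hx1 : x ∈ LinearMap.ker ((τ₁ : M →ₗ[k] M) - 1) := by rw [h₁.2.1]; exact hx
      have hx2 : x ∈ LinearMap.ker ((τ₂ : M →ₗ[k] M) - 1) := by rw [h₂.2.1]; exact hx
      rw [LinearMap.mem_ker] at hx1 hx2
      rw [LinearMap.add_apply, hx1, hx2, add_zero]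
    · rw [hval]
      rintro _ ⟨x, rfl⟩
      rw [LinearMap.add_apply]
      refine Submodule.add_mem _ ?_ ?_
      · rw [← h₁.2.2]; exact ⟨x, rfl⟩
      · rw [← h₂.2.2]; exact ⟨x, rfl⟩
    · rw [hval]
      calc (((τ₁ : M →ₗ[k] M) - 1) + ((τ₂ : M →ₗ[k] M) - 1)) *
          (((τ₁ : M →ₗ[k] M) - 1) + ((τ₂ : M →ₗ[k] M) - 1)) =
          ((τ₁ : M →ₗ[k] M) - 1) * ((τ₁ : M →ₗ[k] M) - 1) +
            ((τ₁ : M →ₗ[k] M) - 1) * ((τ₂ : M →ₗ[k] M) - 1) +
            ((τ₂ : M →ₗ[k] M) - 1) * ((τ₁ : M →ₗ[k] M) - 1) +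
            ((τ₂ : M →ₗ[k] M) - 1) * ((τ₂ : M →ₗ[k] M) - 1) := by noncomm_ring
        _ = 0 := by rw [h11, h12, h21, h22]; simp

theorem inv_val_eq {τ : LinearMap.GeneralLinearGroup k M}
    (h : ((τ : M →ₗ[k] M) - 1) * ((τ : M →ₗ[k] M) - 1) = 0) :
    τ⁻¹ = unitOf (-1) ((τ : M →ₗ[k] M) - 1) h := by
  apply inv_eq_of_mul_eq_one_right
  apply Units.ext
  rw [Units.val_mul, unitOf_val, Units.val_one]
  have h5 := one_add_mul_one_sub _ h
  have e1 : (1 + ((τ : M →ₗ[k] M) - 1)) = (τ : M →ₗ[k] M) := by abel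
  have e2 : 1 + (-1 : k) • ((τ : M →ₗ[k] M) - 1) = 1 - ((τ : M →ₗ[k] M) - 1) := by
    rw [neg_smul, one_smul]
    abel
  rw [e2]
  rw [e1] at h5
  exact h5

theorem inv_mem_class [FiniteDimensional k M] (hσ : σ ∈ Cfsg.minimalQuadraticElements G)
    {τ : LinearMap.GeneralLinearGroup k M} (h₁ : τ ∈ Cfsg.sameActionClass G σ) :
    τ⁻¹ ∈ Cfsg.sameActionClass G σ := by
  have h11 := h₁.1.1.2.1.1
  have hval : ((τ⁻¹ : LinearMap.GeneralLinearGroup k M) : M →ₗ[k] M) - 1 =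
      -((τ : M →ₗ[k] M) - 1) := by
    rw [inv_val_eq h11, unitOf_val, neg_smul, one_smul]
    abel
  apply mem_class_of hσ (G.inv_mem h₁.1.1.1)
  · rw [hval, neg_mul_neg, h11]
  · rw [hval]
    exact neg_ne_zero.mpr h₁.1.1.2.1.2
  · rintro τ' ⟨c, hc⟩
    apply h₁.1.1.2.2
    refine ⟨-c, ?_⟩
    rw [hc, hval, smul_neg, neg_smul]
  · rw [hval, ← h₁.2.1]
    intro x hx
    rw [LinearMap.mem_ker] at hx ⊢
    rw [LinearMap.neg_apply, hx, neg_zero]
  · rw [hval, ← h₁.2.2]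
    rintro _ ⟨x, rfl⟩
    exact ⟨-x, by rw [map_neg, LinearMap.neg_apply]⟩

theorem closure_eq [FiniteDimensional k M] (hσ : σ ∈ Cfsg.minimalQuadraticElements G) :
    (Cfsg.sameActionSubgroup G σ : Set (LinearMap.GeneralLinearGroup k M)) =
      Cfsg.sameActionClass G σ ∪ {1} := by
  apply Set.Subset.antisymm
  · intro x hx
    refine Subgroup.closure_induction (p := fun x _ => x ∈ Cfsg.sameActionClass G σ ∪ {1})
      (fun x hx => Or.inl hx) (Or.inr rfl) ?_ ?_ hx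
    · rintro a b _ _ (ha | ha) (hb | hb)
      · exact mul_mem_class hσ ha hb
      · rw [Set.mem_singleton_iff] at hb
        rw [hb, mul_one]
        exact Or.inl ha
      · rw [Set.mem_singleton_iff] at ha
        rw [ha, one_mul]
        exact Or.inl hb
      · rw [Set.mem_singleton_iff] at ha hb
        rw [ha, hb, one_mul]
        exact Or.inr rfl
    · rintro a _ (ha | ha)
      · exact Or.inl (inv_mem_class hσ ha)
      · rw [Set.mem_singleton_iff] at ha
        rw [ha, inv_one]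
        exact Or.inr rfl
  · rintro x (hx | hx)
    · exact Subgroup.subset_closure hx
    · rw [Set.mem_singleton_iff] at hx
      rw [hx]
      exact Subgroup.one_mem _

theorem commute_of_mem (hσ : σ ∈ Cfsg.minimalQuadraticElements G)
    {τ₁ τ₂ : LinearMap.GeneralLinearGroup k M}
    (h₁ : τ₁ ∈ Cfsg.sameActionClass G σ) (h₂ : τ₂ ∈ Cfsg.sameActionClass G σ) :
    τ₁ * τ₂ = τ₂ * τ₁ := by
  have h12 := mul_zero_of_mem hσ h₁ h₂
  have h21 := mul_zero_of_mem hσ h₂ h₁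
  apply Units.ext
  rw [Units.val_mul, Units.val_mul]
  have e : (τ₁ : M →ₗ[k] M) * (τ₂ : M →ₗ[k] M) - (τ₂ : M →ₗ[k] M) * (τ₁ : M →ₗ[k] M) =
      ((τ₁ : M →ₗ[k] M) - 1) * ((τ₂ : M →ₗ[k] M) - 1) -
        ((τ₂ : M →ₗ[k] M) - 1) * ((τ₁ : M →ₗ[k] M) - 1) := by noncomm_ring
  rw [h12, h21, sub_zero] at e
  exact sub_eq_zero.mp e

end Main

/-- Let k be a field of characteristic not 2 with k not of order 3, M a finite-dimensional k-vector space and G ≤ GL(M) such that (G, M) is a quadratic pair (M irreducible for G, and G generated by its quadratically acting elements σ whose scalar family 1 + c(σ − 1), c ∈ k, lies in G). Write 𝒬_d for the quadratic elements of G of minimal commutator rank, E(σ) for the subgroup generated by the members of 𝒬_d with the same fixed space and commutator space as σ, and Σ for the set of these subgroups. Then for σ ∈ 𝒬_d the subgroup E(σ) consists exactly of those members together with the identity,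 it is abelian, and if k has prime characteristic p every element of E(σ) has order dividing p. -/
theorem result {k : Type u} [Field k] (hk2 : ringChar k ≠ 2) (hk3 : Nat.card k ≠ 3)
    {M : Type u} [AddCommGroup M] [Module k M] [FiniteDimensional k M]
    {G : Subgroup (LinearMap.GeneralLinearGroup k M)} (hG : Cfsg.IsQuadraticPair G)
    {σ : LinearMap.GeneralLinearGroup k M} (hσ : σ ∈ Cfsg.minimalQuadraticElements G) :
    (Cfsg.sameActionSubgroup G σ : Set (LinearMap.GeneralLinearGroup k M)) = Cfsg.sameActionClass G σ ∪ {1} ∧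
    IsMulCommutative ↥(Cfsg.sameActionSubgroup G σ) ∧
    (∀ p : ℕ, p.Prime → ringChar k = p → ∀ x ∈ Cfsg.sameActionSubgroup G σ, x ^ p = 1) := by
  have hcl := closure_eq hσ
  have hmem : ∀ x ∈ Cfsg.sameActionSubgroup G σ, x ∈ Cfsg.sameActionClass G σ ∨ x = 1 := by
    intro x hx
    have : x ∈ (Cfsg.sameActionSubgroup G σ : Set (LinearMap.GeneralLinearGroup k M)) := hx
    rw [hcl] at this
    exact this
  refine ⟨hcl, ⟨⟨fun a b => ?_⟩⟩, fun p hp hchar x hx => ?_⟩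
  · apply Subtype.ext
    show (a : LinearMap.GeneralLinearGroup k M) * b = b * a
    rcases hmem a a.2 with ha | ha <;> rcases hmem b b.2 with hb | hb
    · exact commute_of_mem hσ ha hb
    · rw [hb, mul_one, one_mul]
    · rw [ha, mul_one, one_mul]
    · rw [ha, hb]
  · rcases hmem x hx with hx | hx
    · apply Units.ext
      rw [Units.val_pow_eq_pow_val, Units.val_one, val_eq x, pow_one_add _ hx.1.1.2.1.1]
      haveI : CharP k p := hchar ▸ ringChar.charP k
      rw [CharP.cast_eq_zero k p, zero_smul, add_zero]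
    · rw [hx, one_pow]

end Cfsg.Agent.S5059
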