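import Cfsg.Statements.S5067

set_option autoImplicit false
open Cfsg

namespace Cfsg.Agent.S5067

open scoped commutatorElement

def rightCent {P : Type*} [Group P] (E Z : Subgroup P) (hZ : Z.Normal) : Subgroup P where
  carrier := {y | ∀ e ∈ E, ⁅e, y⁆ ∈ Z}
  one_mem' := by
    intro e _
    rw [commutatorElement_one_right]
    exact Z.one_mem
  mul_mem' := by
    intro y y' hy hy' e he
    have h : ⁅e, y * y'⁆ = ⁅e, y⁆ * (y * ⁅e, y'⁆ * y⁻¹) := by
      simp only [commutatorElement_def]; group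
    rw [h]
    exact Z.mul_mem (hy e he) (hZ.conj_mem _ (hy' e he) y)
  inv_mem' := by
    intro y hy e he
    have h : ⁅e, y⁻¹⁆ = y⁻¹ * (⁅e, y⁆)⁻¹ * y⁻¹⁻¹ := by
      simp only [commutatorElement_def]; group
    rw [h]
    exact hZ.conj_mem _ (Z.inv_mem (hy e he)) y⁻¹

def leftCent {P : Type*} [Group P] (N Z : Subgroup P) (hZ : Z.Normal) : Subgroup P where
  carrier := {x | ∀ y ∈ N, ⁅x, y⁆ ∈ Z}
  one_mem' := by
    intro y _
    rw [commutatorElement_one_left]
    exact Z.one_mem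
  mul_mem' := by
    intro x x' hx hx' y hy
    have h : ⁅x * x', y⁆ = (x * ⁅x', y⁆ * x⁻¹) * ⁅x, y⁆ := by
      simp only [commutatorElement_def]; group
    rw [h]
    exact Z.mul_mem (hZ.conj_mem _ (hx' y hy) x) (hx y hy)
  inv_mem' := by
    intro x hx y hy
    have h : ⁅x⁻¹, y⁆ = x⁻¹ * (⁅x, y⁆)⁻¹ * x⁻¹⁻¹ := by
      simp only [commutatorElement_def]; group
    rw [h]
    exact hZ.conj_mem _ (Z.inv_mem (hx y hy)) x⁻¹

theorem commutator_normalClosure_le {P : Type*} [Group P] {E : Subgroup P}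
    (hE : IsMulCommutative ↥E) :
    ⁅Subgroup.normalClosure (E : Set P), Subgroup.normalClosure (E : Set P)⁆ ≤
      (⊤ : Subgroup P).lowerCentralSeries 2 := by
  have hZ : ((⊤ : Subgroup P).lowerCentralSeries 2).Normal := inferInstance
  have hZmem : ∀ g y e : P, ⁅e, ⁅g, y⁆⁆ ∈ (⊤ : Subgroup P).lowerCentralSeries 2 := by
    intro g y e
    have h1 : ⁅⁅g, y⁆, e⁆ ∈ (⊤ : Subgroup P).lowerCentralSeries 2 := by
      show ⁅⁅g, y⁆, e⁆ ∈ ⁅⁅(⊤ : Subgroup P), ⊤⁆, ⊤⁆
      exact Subgroup.commutator_mem_commutator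
        (Subgroup.commutator_mem_commutator (Subgroup.mem_top g) (Subgroup.mem_top y))
        (Subgroup.mem_top e)
    have h2 : ⁅e, ⁅g, y⁆⁆ = (⁅⁅g, y⁆, e⁆)⁻¹ := (commutatorElement_inv _ _).symm
    rw [h2]
    exact Subgroup.inv_mem _ h1
  have hR : (rightCent E _ hZ).Normal := by
    constructor
    intro y hy g e he
    have h : ⁅e, g * y * g⁻¹⁆ = ⁅e, ⁅g, y⁆⁆ * (⁅g, y⁆ * ⁅e, y⁆ * (⁅g, y⁆)⁻¹) := by
      simp only [commutatorElement_def]; group
    rw [h]
    exact Subgroup.mul_mem _ (hZmem g y e) (hZ.conj_mem _ (hy e he) _)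
  have h1 : Subgroup.normalClosure (E : Set P) ≤ rightCent E _ hZ := by
    apply Subgroup.normalClosure_le_normal
    intro y hy e he
    have h : ⁅e, y⁆ = 1 := by
      rw [commutatorElement_eq_one_iff_mul_comm]
      have := hE.is_comm.comm ⟨e, he⟩ ⟨y, hy⟩
      exact congrArg Subtype.val this
    rw [h]
    exact Subgroup.one_mem _
  have hL : (leftCent (Subgroup.normalClosure (E : Set P)) _ hZ).Normal := by
    constructor
    intro x hx g y hy
    have h : ⁅g * x * g⁻¹, y⁆ = g * ⁅x, g⁻¹ * y * g⁻¹⁻¹⁆ * g⁻¹ := by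
      simp only [commutatorElement_def]; group
    rw [h]
    apply hZ.conj_mem
    apply hx
    exact Subgroup.normalClosure_normal.conj_mem y hy g⁻¹
  have h2 : Subgroup.normalClosure (E : Set P) ≤
      leftCent (Subgroup.normalClosure (E : Set P)) _ hZ := by
    apply Subgroup.normalClosure_le_normal
    intro e he y hy
    exact h1 hy e he
  rw [Subgroup.commutator_le]
  intro x hx y hy
  exact h2 hx y hy

theorem lcs_le {P : Type*} [Group P] {N : Subgroup P}
    (hN : ⁅N, N⁆ ≤ (⊤ : Subgroup P).lowerCentralSeries 2) (n : ℕ) :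
    N.lowerCentralSeries (n + 1) ≤ (⊤ : Subgroup P).lowerCentralSeries (n + 2) := by
  induction n with
  | zero => exact hN
  | succ n ih =>
    rw [Subgroup.lowerCentralSeries_succ, Subgroup.lowerCentralSeries_succ ⊤ (n + 2)]
    exact Subgroup.commutator_mono ih le_top

theorem class_lt {P : Type*} [Group P] [Group.IsNilpotent P] (hna : ¬ IsMulCommutative P)
    {E : Subgroup P} (hE : IsMulCommutative ↥E) :
    Group.nilpotencyClass ↥(Subgroup.normalClosure (E : Set P)) < Group.nilpotencyClass P := by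
  have hc : 2 ≤ Group.nilpotencyClass P := by
    by_contra h
    rw [not_le] at h
    exact hna (Group.IsNilpotent.nilpotencyClass_le_one_iff.mp (Nat.lt_succ_iff.mp h))
  obtain ⟨c, hc'⟩ : ∃ c, Group.nilpotencyClass P = c + 2 := ⟨_, (Nat.sub_add_cancel hc).symm⟩
  have h1 := lcs_le (commutator_normalClosure_le hE) c
  rw [← hc', Subgroup.lowerCentralSeries_nilpotencyClass, le_bot_iff] at h1
  have h2 : (⊤ : Subgroup ↥(Subgroup.normalClosure (E : Set P))).lowerCentralSeries (c + 1) = ⊥ := by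
    rw [← Subgroup.map_subtype_inj, Subgroup.map_bot, Subgroup.top_subtype_lowerCentralSeries]
    exact h1
  have h3 := Subgroup.lowerCentralSeries_eq_bot_iff_nilpotencyClass_le.mp h2
  omega

theorem result {P : Type*} [Group P] {p : ℕ} [Fact p.Prime] (hP : IsPGroup p P) [Group.IsNilpotent P]
    (hna : ¬ IsMulCommutative P) {E F : Subgroup P} (hE : IsMulCommutative ↥E) (hF : IsMulCommutative ↥F) (hgen : E ⊔ F = ⊤) :
    Group.nilpotencyClass ↥(Subgroup.normalClosure (E : Set P)) < Group.nilpotencyClass P ∧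
    Group.nilpotencyClass ↥(Subgroup.normalClosure (F : Set P)) < Group.nilpotencyClass P :=
  ⟨class_lt hna hE, class_lt hna hF⟩

end Cfsg.Agent.S5067
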