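import Cfsg.Statements.S5078
import Cfsg.Agent.Lib.Helper26.FusionBasic

set_option autoImplicit false
open Cfsg

namespace Cfsg.Agent.S5078

open Cfsg.FusionSystem Cfsg.Agent.Lib.Helper26

theorem result {Ω : Type*} [Group Ω] {S : Subgroup Ω} [Finite S] (F : Cfsg.FusionSystem S) (P : Subgroup Ω) (hP : F.IsReceptive P) : F.IsFullyCentralized P := by
  refine ⟨hP.1, fun Q hPQ => ?_⟩
  obtain ⟨ψ, hψ, hψr⟩ := isConj_symm F hPQ
  obtain ⟨χ, hχ, hχψ⟩ := hP.2 Q ψ hψ hψr
  have hCle : centralizerIn S Q ≤ extender S Q ψ := centralizerIn_le_extender S Q ψ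
  have hQle : Q ≤ extender S Q ψ := le_extender F hψ
  have hfin : Finite ↥(centralizerIn S P) :=
    Finite.of_injective (Subgroup.inclusion (inf_le_left : centralizerIn S P ≤ S))
      (Subgroup.inclusion_injective _)
  have hmem : ∀ g : ↥(centralizerIn S Q), χ ⟨g, hCle g.2⟩ ∈ centralizerIn S P := by
    intro g
    refine ⟨apply_mem F hχ _, ?_⟩
    intro y hy
    rw [← hψr] at hy
    obtain ⟨q, rfl⟩ := hy
    have hq : ψ q = χ ⟨q, hQle q.2⟩ := (hχψ q q.2 (hQle q.2)).symm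
    rw [hq, ← map_mul, ← map_mul]
    congr 1
    apply Subtype.ext
    exact g.2.2 q q.2
  let f : ↥(centralizerIn S Q) → ↥(centralizerIn S P) := fun g => ⟨χ ⟨g, hCle g.2⟩, hmem g⟩
  have hf : Function.Injective f := by
    intro a b hab
    have h1 : χ ⟨a, hCle a.2⟩ = χ ⟨b, hCle b.2⟩ := congrArg Subtype.val hab
    have h2 := F.injective_of_mem hχ h1
    exact Subtype.ext (Subtype.mk.inj h2)
  exact Nat.card_le_card_of_injective f hf

end Cfsg.Agent.S5078
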