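import Cfsg.Statements.S5081
import Cfsg.Agent.Lib.Helper26.FusionAlperin2
import Cfsg.Agent.Lib.Helper26.StrongEmb2

set_option autoImplicit false
open Cfsg

namespace Cfsg.Agent.S5081

open Cfsg.Agent.Lib.Helper26 Cfsg.FusionSystem

theorem extGen_conj {Ω : Type*} [Group Ω] {S : Subgroup Ω} [Finite S] {p : ℕ} [Fact p.Prime]
    (hS : IsPGroup p S) (F : FusionSystem S) {P : Subgroup Ω} {α : MulAut P}
    (hα : α ∈ extGen F P) :
    ∃ (g : Ω) (_ : g ∈ S) (_ : g ∉ P) (hgN : g ∈ Subgroup.normalizer (P : Set Ω)),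
      α * conjAut P g hgN * α⁻¹ ∈ autInducedBy S P := by
  obtain ⟨Q, hPQ, φ, hφ, h⟩ := hα
  have hQS : Q ≤ S := source_le F hφ
  have hfinQ : Finite Q := finite_of_le hQS
  obtain ⟨g, hgQ, hgP, hgN⟩ := exists_normalizing_of_lt (hS.to_le hQS) hPQ.le hPQ.ne
  refine ⟨g, hQS hgQ, hgP, hgN, ?_⟩
  refine mem_autInducedBy_iff.mpr ⟨φ ⟨g, hgQ⟩, apply_mem F hφ _, fun y => ?_⟩
  rw [MulAut.mul_apply, MulAut.mul_apply, ← h]
  have e : Subgroup.inclusion hPQ.le (conjAut P g hgN (α⁻¹ y)) =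
      ⟨g, hgQ⟩ * Subgroup.inclusion hPQ.le (α⁻¹ y) * ⟨g, hgQ⟩⁻¹ := by
    apply Subtype.ext
    rfl
  rw [e, map_mul, map_mul, map_inv, h, MulAut.apply_inv_self]

theorem map_le_of_forall {Ω : Type*} [Group Ω] {S : Subgroup Ω} (F : FusionSystem S)
    {P : Subgroup Ω} [hn : ((Inn P).subgroupOf (F.autGroup P)).Normal]
    (Y : Subgroup (F.autGroup P ⧸ (Inn P).subgroupOf (F.autGroup P)))
    (h : ∀ (α : MulAut P) (hα : α ∈ F.autGroup P), α ∈ extGen F P →
      (QuotientGroup.mk' ((Inn P).subgroupOf (F.autGroup P))) ⟨α, hα⟩ ∈ Y) :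
    ((Subgroup.closure (extGen F P)).subgroupOf (F.autGroup P)).map
      (QuotientGroup.mk' ((Inn P).subgroupOf (F.autGroup P))) ≤ Y := by
  rintro _ ⟨β, hβ, rfl⟩
  have hβ' : (β : MulAut P) ∈ Subgroup.closure (extGen F P) := Subgroup.mem_subgroupOf.mp hβ
  have key : ∀ a : MulAut P, a ∈ Subgroup.closure (extGen F P) → ∃ ha : a ∈ F.autGroup P,
      (QuotientGroup.mk' ((Inn P).subgroupOf (F.autGroup P))) ⟨a, ha⟩ ∈ Y := by
    intro a ha
    refine Subgroup.closure_induction (p := fun a _ => ∃ ha : a ∈ F.autGroup P,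
      (QuotientGroup.mk' ((Inn P).subgroupOf (F.autGroup P))) ⟨a, ha⟩ ∈ Y) ?_ ?_ ?_ ?_ ha
    · intro x hx
      exact ⟨extGen_subset_autGroup F P hx, h x _ hx⟩
    · exact ⟨Subgroup.one_mem _, Y.one_mem⟩
    · rintro x y _ _ ⟨hx, hxY⟩ ⟨hy, hyY⟩
      refine ⟨Subgroup.mul_mem _ hx hy, ?_⟩
      have : (⟨x * y, Subgroup.mul_mem _ hx hy⟩ : F.autGroup P) = ⟨x, hx⟩ * ⟨y, hy⟩ := rfl
      rw [this, map_mul]
      exact Y.mul_mem hxY hyY
    · rintro x _ ⟨hx, hxY⟩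
      refine ⟨Subgroup.inv_mem _ hx, ?_⟩
      have : (⟨x⁻¹, Subgroup.inv_mem _ hx⟩ : F.autGroup P) = ⟨x, hx⟩⁻¹ := rfl
      rw [this, map_inv]
      exact Y.inv_mem hxY
  obtain ⟨_, hY⟩ := key β hβ'
  exact hY

theorem result {Ω : Type*} [Group Ω] {S : Subgroup Ω} [Finite S] (p : ℕ) [Fact p.Prime] (hS : IsPGroup p S) (F : Cfsg.FusionSystem S) (hF : F.IsSaturated p) (P : Subgroup Ω) (hPS : P < S) (hPn : F.IsFullyNormalized P) (H : Subgroup (MulAut P)) (hH : H = Subgroup.closure {α : MulAut P | ∃ (Q : Subgroup Ω) (hPQ : P < Q) (φ : Q →* Ω), φ ∈ F.Hom Q ∧ ∀ x : P, φ (Subgroup.inclusion hPQ.le x) = α x}) : (¬ F.IsEssential p P ∧ H = F.autGroup P) ∨ (F.IsEssential p P ∧ ∃ _ : ((Cfsg.Inn P).subgroupOf (F.autGroup P)).Normal, Cfsg.IsStronglyPEmbedded p ((H.subgroupOf (F.autGroup P)).map (QuotientGroup.mk' ((Cfsg.Inn P).subgroupOf (F.autGroup P))))) := by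
  have hHe : H = Subgroup.closure (extGen F P) := hH
  subst hHe
  have hne : P ≠ S := hPS.ne
  have hPle : P ≤ S := hPS.le
  by_cases hess : F.IsEssential p P
  · right
    refine ⟨hess, ?_⟩
    obtain ⟨hcen, -, hn, Y, hY⟩ := hess
    refine ⟨hn, ?_⟩
    obtain ⟨hPc, hPa, hPr⟩ := saturated_fullyNormalized hS F hF hPn
    have hfinP : Finite P := finite_of_le hPle
    obtain ⟨R, hR⟩ := hPa.2
    have hcore := kGeneratedCore_le_map_closure_extGen F hPr p
    have hC : centralizerIn S P ≤ P := hcen.2 P (isConj_refl F hPle)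
    refine ⟨hY.1, ?_, R.mapSurjective (QuotientGroup.mk'_surjective _), ?_⟩
    · obtain ⟨Y', hY'top, hY'⟩ := exists_proper_of_stronglyPEmbedded hY
        (R.mapSurjective (QuotientGroup.mk'_surjective _))
      intro htop
      apply hY'top
      rw [eq_top_iff, ← htop]
      refine map_le_of_forall F Y' (fun α hα hαe => ?_)
      obtain ⟨g, hgS, hgP, hgN, hc⟩ := extGen_conj hS F hαe
      have hmem : conjAut P g hgN ∈ F.autGroup P :=
        autInducedBy_le_autGroup F hPle (conjAut_mem_autInducedBy hgS hgN)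
      refine hY' ((QuotientGroup.mk' ((Inn P).subgroupOf (F.autGroup P))) ⟨conjAut P g hgN, hmem⟩) _
        ?_ ?_ ?_
      · rw [← SetLike.mem_coe, ← Sylow.coe_coe, SetLike.mem_coe, Sylow.coe_mapSurjective, hR]
        exact ⟨_, Subgroup.mem_subgroupOf.mpr (conjAut_mem_autInducedBy hgS hgN), rfl⟩
      · intro h1
        rw [QuotientGroup.mk'_apply, QuotientGroup.eq_one_iff, Subgroup.mem_subgroupOf] at h1
        exact notMem_inn_of_centric hPle hC hgS hgP hgN h1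
      · rw [← SetLike.mem_coe, ← Sylow.coe_coe, SetLike.mem_coe, Sylow.coe_mapSurjective, hR]
        refine ⟨⟨α, hα⟩ * ⟨conjAut P g hgN, hmem⟩ * ⟨α, hα⟩⁻¹, Subgroup.mem_subgroupOf.mpr hc, ?_⟩
        rw [map_mul, map_mul, map_inv]
    · rw [Sylow.coe_mapSurjective, hR]
      exact hcore
  · left
    exact ⟨hess, le_antisymm (closure_extGen_le_autGroup F P)
      (autGroup_le_closure_extGen hS F hF hPn hne hess)⟩

end Cfsg.Agent.S5081
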