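import Cfsg.Statements.S5084
import Cfsg.Agent.Lib.Helper26.FusionNormal

set_option autoImplicit false
open Cfsg

namespace Cfsg.Agent.S5084

open Cfsg.Agent.Lib.Helper26 Cfsg.FusionSystem

theorem isCentral_of_forall {Ω : Type*} [Group Ω] {S : Subgroup Ω} [Finite S] (p : ℕ) [Fact p.Prime]
    (hS : IsPGroup p S) (F : Cfsg.FusionSystem S) (hF : F.IsSaturated p) (Q : Subgroup Ω)
    (hQS : Q ≤ S) (h : ∀ x ∈ Q, ∀ y : Ω, F.IsConjElt x y → y = x) : F.IsCentral Q := by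
  have hzS : ∀ x ∈ Q, Subgroup.zpowers x ≤ S := fun x hx =>
    (Subgroup.zpowers_le).mpr (hQS hx)
  have hSC : S ≤ Subgroup.centralizer (Q : Set Ω) := by
    intro g hg
    rw [Subgroup.mem_centralizer_iff]
    intro x hx
    have h1 : F.IsConjElt x (g * x * g⁻¹) :=
      ⟨conjHom (Subgroup.zpowers x) g, F.conj_mem (hzS x hx) hg, rfl⟩
    have h2 := h x hx _ h1
    calc x * g = (g * x * g⁻¹) * g := by rw [h2]
      _ = g * x := by group
  have hCeq : centralizerIn S Q = S := inf_eq_left.mpr hSC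
  have hE : ∀ P, (castSystem hCeq (centralizerSystem F Q hQS)).Hom P = F.centralizerHom Q P :=
    fun P => castSystem_Hom hCeq _ P
  have hle : F ≤ castSystem hCeq (centralizerSystem F Q hQS) := by
    refine Cfsg.Agent.S5082.result p hS F hF _ ?_
    intro P hP α hα
    have hPS : P ≤ S := by
      rcases hP with rfl | hess
      · exact le_rfl
      · exact hess.2.1.1
    have hQP : Q ≤ P := by
      rcases hP with rfl | hess
      · exact hQS
      · intro x hx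
        have hxC : x ∈ Subgroup.centralizer (P : Set Ω) := by
          rw [Subgroup.mem_centralizer_iff]
          intro y hy
          exact ((Subgroup.mem_centralizer_iff.mp (hSC (hPS hy))) x hx).symm
        exact hess.1.2 P (isConj_refl F hPS) ⟨hQS hx, hxC⟩
    have hφ : P.subtype.comp α.toMonoidHom ∈ F.Hom P := (mem_autGroup_iff F hPS).mp hα
    have hfix : ∀ x : Q, ((α ⟨x, hQP x.2⟩ : P) : Ω) = x := by
      intro x
      have hzP : Subgroup.zpowers (x : Ω) ≤ P := (Subgroup.zpowers_le).mpr (hQP x.2)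
      exact h x x.2 _ ⟨_, restrict_mem F hφ hzP, rfl⟩
    rw [mem_autGroup_iff _ hPS, hE]
    refine ⟨hφ, hPS.trans hCeq.ge, fun x => hCeq.ge (hPS (α x).2),
      (P.subtype.comp α.toMonoidHom).comp (Subgroup.inclusion (sup_le le_rfl hQP : P ⊔ Q ≤ P)),
      restrict_mem F hφ _, fun x => rfl, fun x => hfix x⟩
  refine ⟨hQS, fun P φ hφ => ?_⟩
  have hφE := hle P hφ
  rw [hE] at hφE
  obtain ⟨-, -, -, ψ, hψ, h1, h2⟩ := hφE
  exact ⟨ψ, hψ, h1, h2⟩

theorem result {Ω : Type*} [Group Ω] {S : Subgroup Ω} [Finite S] (p : ℕ) [Fact p.Prime] (hS : IsPGroup p S) (F : Cfsg.FusionSystem S) (hF : F.IsSaturated p) (Q : Subgroup Ω) : F.IsCentral Q ↔ (Q ≤ S ∧ ∀ x ∈ Q, ∀ y : Ω, F.IsConjElt x y → y = x) := by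
  constructor
  · intro hQ
    refine ⟨hQ.1, fun x hx y hxy => ?_⟩
    obtain ⟨φ, hφ, hφx⟩ := hxy
    obtain ⟨ψ, -, hψφ, hψQ⟩ := hQ.2 _ φ hφ
    have h1 := hψQ ⟨x, hx⟩
    have h2 := hψφ ⟨x, Subgroup.mem_zpowers x⟩
    have h3 : Subgroup.inclusion (le_sup_right : Q ≤ Subgroup.zpowers x ⊔ Q) ⟨x, hx⟩ =
      Subgroup.inclusion (le_sup_left : Subgroup.zpowers x ≤ Subgroup.zpowers x ⊔ Q)
        ⟨x, Subgroup.mem_zpowers x⟩ := Subtype.ext rfl
    rw [h3, h2, hφx] at h1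
    exact h1
  · rintro ⟨hQS, h⟩
    exact isCentral_of_forall p hS F hF Q hQS h

end Cfsg.Agent.S5084
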