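import Cfsg.Statements.S5101
import Cfsg.Agent.Lib.Helper26.FusionGroup

set_option autoImplicit false
open Cfsg

namespace Cfsg.Agent.S5101

open Cfsg.FusionSystem Cfsg.Agent.Lib.Helper26

theorem result {G : Type*} [Group G] [Finite G] (p : ℕ) [Fact p.Prime] (S : Sylow p G) (P : Subgroup G) (hP : P ≤ S) : (Cfsg.groupFusionSystem (S : Subgroup G)).IsFullyCentralized P ↔ ∃ R : Sylow p ↥(Subgroup.centralizer (P : Set G)), (R : Subgroup ↥(Subgroup.centralizer (P : Set G))) = (Cfsg.FusionSystem.centralizerIn (S : Subgroup G) P).subgroupOf (Subgroup.centralizer (P : Set G)) := by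
  have key := fully_iff_isSylowIn S (fun K => Subgroup.centralizer (K : Set G))
    (fun K g => centralizer_cj K g) (fun K => centralizer_le_normalizer_aux K) P hP
  constructor
  · intro h
    exact key.mp h.2
  · intro h
    exact ⟨hP, key.mpr h⟩

end Cfsg.Agent.S5101
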