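import Cfsg.Statements.S5102
import Cfsg.Agent.Lib.Helper26.FusionNC

set_option autoImplicit false
open Cfsg

namespace Cfsg.Agent.S5102

open Cfsg.FusionSystem Cfsg.Agent.Lib.Helper26

theorem result {G : Type*} [Group G] [Finite G] (p : ℕ) [Fact p.Prime] (S : Sylow p G) (R : Subgroup G) [R.Normal] (hR : IsPGroup p R) : (Cfsg.groupFusionSystem (S : Subgroup G)).IsNormal R := by
  have hRS : R ≤ (S : Subgroup G) := hR.le_sylow_of_normal S
  refine ⟨hRS, ?_⟩
  rintro P φ ⟨hP, hφS, g, hg⟩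
  have hmem : ∀ z : ↥(P ⊔ R), conjHom (P ⊔ R) g z ∈ (S : Subgroup G) := by
    intro z
    refine map_sup_mem (conjHom (P ⊔ R) g) (S : Subgroup G) (fun x => ?_) (fun x => ?_) z
    · have := hφS x
      rw [hg] at this
      exact this
    · exact hRS (‹R.Normal›.conj_mem x x.2 g)
  refine ⟨conjHom (P ⊔ R) g, ⟨sup_le hP hRS, hmem, g, fun x => rfl⟩, fun x => (hg x).symm, ?_⟩
  ext z
  rw [map_subgroupOf_sup_eq]
  constructor
  · rintro ⟨q, rfl⟩
    exact ‹R.Normal›.conj_mem q q.2 g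
  · intro hz
    refine ⟨⟨g⁻¹ * z * g, ?_⟩, ?_⟩
    · have := ‹R.Normal›.conj_mem z hz g⁻¹
      rwa [inv_inv] at this
    · show g * (g⁻¹ * z * g) * g⁻¹ = z
      group

end Cfsg.Agent.S5102
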