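import Cfsg.Statements.S5104
import Cfsg.Agent.Lib.Helper26.FusionSat2

set_option autoImplicit false
open Cfsg

namespace Cfsg.Agent.S5104

open Cfsg.FusionSystem Cfsg.Agent.Lib.Helper26

theorem result {Ω : Type*} [Group Ω] {S : Subgroup Ω} [Finite S] (p : ℕ) [Fact p.Prime] (hS : IsPGroup p S) (F : Cfsg.FusionSystem S) (hF : F.IsSaturated p) (U : Subgroup Ω) (hU : F.IsFullyCentralized U) (hC : Cfsg.FusionSystem.centralizerIn S U ≤ U) : F.IsCentric U := by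
  have hrec : F.IsReceptive U := saturated_fullyCentralized hS F hF hU
  refine ⟨hU.1, fun Q hUQ => ?_⟩
  obtain ⟨ψ, hψ, hψr⟩ := isConj_symm F hUQ
  obtain ⟨χ, hχ, hχψ⟩ := hrec.2 Q ψ hψ hψr
  have hCle : centralizerIn S Q ≤ extender S Q ψ := centralizerIn_le_extender S Q ψ
  have hQle : Q ≤ extender S Q ψ := le_extender F hψ
  intro g hg
  have hmem : χ ⟨g, hCle hg⟩ ∈ centralizerIn S U := by
    refine ⟨apply_mem F hχ _, ?_⟩
    intro y hy
    obtain ⟨q, rfl⟩ := hψr.ge hy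
    have hq : ψ q = χ ⟨q, hQle q.2⟩ := (hχψ q q.2 (hQle q.2)).symm
    rw [hq, ← map_mul, ← map_mul]
    congr 1
    apply Subtype.ext
    exact hg.2 q q.2
  obtain ⟨q, hq⟩ := hψr.ge (hC hmem)
  have hq' : χ ⟨q, hQle q.2⟩ = χ ⟨g, hCle hg⟩ := (hχψ q q.2 (hQle q.2)).trans hq
  have := F.injective_of_mem hχ hq'
  have h3 : (q : Ω) = g := congrArg Subtype.val this
  rw [← h3]
  exact q.2

end Cfsg.Agent.S5104
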