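import Cfsg.Statements.S5105
import Cfsg.Agent.Lib.Helper26.ModelAut

set_option autoImplicit false
open Cfsg

namespace Cfsg.Agent.S5105

open Cfsg.Agent.Lib.Helper26 Cfsg.FusionSystem

theorem result {Ω : Type*} [Group Ω] {S : Subgroup Ω} [Finite S] (p : ℕ) [Fact p.Prime] (hS : IsPGroup p S) (F : Cfsg.FusionSystem S) (hF : F.IsConstrained p) {G : Type*} [Group G] (ι : S →* G) (hG : F.IsModel p G ι) (ψ : G ≃* G) (hψ : ∀ x : S, ψ (ι x) = ι x) : ∃ z : S, z ∈ Subgroup.center S ∧ ∀ g : G, ψ g = ι z * g * (ι z)⁻¹ := by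
  obtain ⟨hfin, hreal, ⟨T, hT⟩, hcent⟩ := hG
  have hinj : Function.Injective ι := hreal.1
  have hψT : ∀ y ∈ T, ψ y = y := by
    intro y hy
    have hy' : y ∈ ι.range := by
      rw [← hT]
      exact hy
    obtain ⟨x, rfl⟩ := hy'
    exact hψ x
  obtain ⟨z, hzT, hzc, hz⟩ := aut_eq_conj_of_fix_sylow T hcent ψ hψT
  have hz' : z ∈ ι.range := by
    rw [← hT]
    exact hzT
  obtain ⟨z₀, rfl⟩ := hz'
  refine ⟨z₀, ?_, hz⟩
  rw [Subgroup.mem_center_iff]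
  intro s
  apply hinj
  rw [map_mul, map_mul]
  have hsT : ι s ∈ T := by
    rw [← SetLike.mem_coe, ← Sylow.coe_coe, SetLike.mem_coe, hT]
    exact ⟨s, rfl⟩
  exact (hzc (ι s) hsT).symm

end Cfsg.Agent.S5105
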