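import Cfsg.Statements.S5107
import Cfsg.Agent.Lib.Helper26.FusionSeries4
import Cfsg.Agent.S5076
import Cfsg.Agent.S5106

set_option autoImplicit false
open Cfsg

namespace Cfsg.Agent.S5107

open Cfsg.Agent.Lib.Helper26 Cfsg.FusionSystem
open scoped commutatorElement

theorem result {G : Type*} [Group G] [Finite G] (p : ℕ) [Fact p.Prime] (S : Sylow p G) (hcl : ⁅(S : Subgroup G), (S : Subgroup G)⁆ ≤ (S : Subgroup G) ⊓ Subgroup.centralizer ((S : Subgroup G) : Set G)) (hZ : Cfsg.IsStronglyClosed ((S : Subgroup G) ⊓ Subgroup.centralizer ((S : Subgroup G) : Set G)) (S : Subgroup G)) : (∀ (P : Subgroup G) (φ : P →* G), φ ∈ (Cfsg.groupFusionSystem (S : Subgroup G)).Hom P → ∃ g ∈ Subgroup.normalizer ((S : Subgroup G) : Set G), ∀ x : P, φ x = g * (x : G) * g⁻¹) ∧ (Cfsg.groupFusionSystem (S : Subgroup G)).core = S := by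
  have hsat := Cfsg.Agent.S5076.result p S
  have hS : IsPGroup p (S : Subgroup G) := S.isPGroup'
  have hZc : (groupFusionSystem (S : Subgroup G)).StronglyClosed
      ((S : Subgroup G) ⊓ Subgroup.centralizer ((S : Subgroup G) : Set G)) := by
    refine ⟨inf_le_left, fun R hR φ hφ x => ?_⟩
    obtain ⟨-, hφS, g, hg⟩ := hφ
    have h1 := hφS x
    rw [hg] at h1 ⊢
    exact hZ.2 x (hR x.2) g h1
  have hSc : (groupFusionSystem (S : Subgroup G)).StronglyClosed (S : Subgroup G) :=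
    ⟨le_rfl, fun R _ φ hφ x => hφ.2.1 x⟩
  have hnormal : (groupFusionSystem (S : Subgroup G)).IsNormal (S : Subgroup G) := by
    refine isNormal_of_chain hS _ hsat (S : Subgroup G) 2
      ![⊥, (S : Subgroup G) ⊓ Subgroup.centralizer ((S : Subgroup G) : Set G), (S : Subgroup G)]
      rfl rfl (fun i => ?_)
    fin_cases i
    · refine ⟨hZc, ?_⟩
      show ⁅(S : Subgroup G), (S : Subgroup G) ⊓ Subgroup.centralizer ((S : Subgroup G) : Set G)⁆ ≤ ⊥
      rw [Subgroup.commutator_le]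
      intro a ha b hb
      rw [Subgroup.mem_bot, commutatorElement_def]
      have h1 : a * b = b * a := (Subgroup.mem_centralizer_iff.mp hb.2) a ha
      rw [h1]
      group
    · exact ⟨hSc, hcl⟩
  refine ⟨fun P φ hφ => ?_, ?_⟩
  · have hPS : P ≤ (S : Subgroup G) := hφ.1
    obtain ⟨α, hα, hαφ⟩ := (Cfsg.Agent.S5106.result p hS _ hsat (S : Subgroup G) le_rfl).mp
      hnormal P hPS φ hφ
    rw [Cfsg.Agent.S5076.groupFS_autGroup_eq le_rfl] at hα
    obtain ⟨g, -, hg⟩ := mem_autInducedBy_iff.mp hα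
    refine ⟨g, mem_normalizer_of_conj_aut hg, fun x => ?_⟩
    rw [← hαφ x, hg]
    rfl
  · apply le_antisymm
    · exact sSup_le (fun Q hQ => hQ.1)
    · exact le_sSup hnormal

end Cfsg.Agent.S5107
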