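import Cfsg.Statements.S5112
import Cfsg.Agent.S3116
import Cfsg.Agent.Lib.Helper26.AlperinInd

set_option autoImplicit false
open Cfsg

namespace Cfsg.Agent.S5112

open Cfsg.Agent.Lib.Helper26

theorem autInducedBy_self_eq_inn {Ω : Type*} [Group Ω] (S : Subgroup Ω) :
    Cfsg.autInducedBy S S = Cfsg.Inn S := by
  have h : {α : MulAut S | ∃ g ∈ S, ∀ x : S, ((α x : S) : Ω) = g * (x : Ω) * g⁻¹} =
      ((Cfsg.Inn S : Subgroup (MulAut S)) : Set (MulAut S)) := by
    ext α
    constructor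
    · rintro ⟨g, hg, hα⟩
      refine ⟨⟨g, hg⟩, ?_⟩
      ext x
      rw [hα x]
      rfl
    · rintro ⟨s, rfl⟩
      exact ⟨s.1, s.2, fun x => rfl⟩
  unfold Cfsg.autInducedBy
  rw [h, Subgroup.closure_eq]

theorem eq_of_isSylowIn_of_isPGroup {G : Type*} [Group G] [Finite G] {p : ℕ} [Fact p.Prime]
    {Q H : Subgroup G} (h : Cfsg.Agent.Lib.Helper18.IsSylowIn p Q H) (hH : IsPGroup p H) :
    Q = H := by
  apply le_antisymm h.1
  rw [← Subgroup.relIndex_eq_one]
  obtain ⟨n, hn⟩ := hH.index (Q.subgroupOf H)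
  have h2 : Q.relIndex H = p ^ n := hn
  rcases Nat.eq_zero_or_pos n with h0 | h0
  · rw [h2, h0, pow_zero]
  · exfalso
    apply h.2.2
    rw [h2]
    exact dvd_pow_self p (Nat.pos_iff_ne_zero.mp h0)

theorem aut_isPGroup {X : Type*} [Group X] [Finite X] (n : ℕ) (hn : 4 ≤ n)
    (hshape : Nonempty (X ≃* DihedralGroup (2 ^ (n - 1))) ∨
      Nonempty (X ≃* QuaternionGroup (2 ^ (n - 2)))) : IsPGroup 2 (MulAut X) := by
  haveI : Fact (Nat.Prime 2) := ⟨Nat.prime_two⟩
  rcases hshape with ⟨⟨e⟩⟩ | ⟨⟨e⟩⟩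
  · have hcard : Nat.card X = 2 ^ n := by
      rw [Nat.card_congr e.toEquiv, DihedralGroup.nat_card, ← pow_succ']
      congr 1
      omega
    have h2 : IsPGroup 2 X := IsPGroup.of_card hcard
    refine Cfsg.Agent.S3116.result h2 (Or.inl ⟨2 ^ (n - 1), ?_, ⟨e⟩⟩)
    calc 4 = 2 ^ 2 := by norm_num
      _ ≤ 2 ^ (n - 1) := Nat.pow_le_pow_right (by norm_num) (by omega)
  · haveI : NeZero (2 ^ (n - 2)) := ⟨by positivity⟩
    have hcard : Nat.card X = 2 ^ ((n - 1) + 1) := by
      rw [Nat.card_congr e.toEquiv, Nat.card_eq_fintype_card, QuaternionGroup.card]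
      have h4 : (4 : ℕ) = 2 ^ 2 := by norm_num
      rw [h4, ← pow_add]
      congr 1
      omega
    have hx : orderOf (e.symm (QuaternionGroup.a 1)) = 2 ^ (n - 1) := by
      rw [MulEquiv.orderOf_eq, QuaternionGroup.orderOf_a_one, ← pow_succ']
      congr 1
      omega
    refine Cfsg.Agent.S3116.aut_isPGroup_two (n - 1) 4 (e.symm (QuaternionGroup.a 1)) hx hcard ?_ ?_
    · intro g hg
      have h1 : e (g ^ 4) = 1 := by
        rw [map_pow]
        rcases hg' : e g with i | i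
        · exfalso
          apply hg
          obtain ⟨k, hk⟩ : ∃ k : ℕ, (k : ZMod (2 * 2 ^ (n - 2))) = i := by
            haveI : NeZero (2 * 2 ^ (n - 2)) := ⟨by positivity⟩
            exact ⟨i.val, ZMod.natCast_zmod_val i⟩
          refine ⟨k, ?_⟩
          show (e.symm (QuaternionGroup.a 1)) ^ (k : ℤ) = g
          rw [zpow_natCast, ← map_pow, QuaternionGroup.a_one_pow, hk, ← hg', e.symm_apply_apply]
        · exact QuaternionGroup.xa_pow_four i
      exact (map_eq_one_iff e e.injective).mp h1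
    · apply pow_ne_one_of_lt_orderOf (by norm_num)
      rw [hx]
      calc 4 < 2 ^ 3 := by norm_num
        _ ≤ 2 ^ (n - 1) := Nat.pow_le_pow_right (by norm_num) (by omega)

theorem result {Ω : Type*} [Group Ω] {S : Subgroup Ω} [Finite S] (n : ℕ) (hn : 4 ≤ n) (hshape : Nonempty (S ≃* DihedralGroup (2 ^ (n - 1))) ∨ Nonempty (S ≃* QuaternionGroup (2 ^ (n - 2)))) (F : Cfsg.FusionSystem S) (hF : F.IsSaturated 2) : F.autGroup S = Cfsg.Inn S := by
  haveI : Fact (Nat.Prime 2) := ⟨Nat.prime_two⟩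
  have hcard : Nat.card S = 2 ^ n := by
    rcases hshape with ⟨⟨e⟩⟩ | ⟨⟨e⟩⟩
    · rw [Nat.card_congr e.toEquiv, DihedralGroup.nat_card, ← pow_succ']
      congr 1
      omega
    · haveI : NeZero (2 ^ (n - 2)) := ⟨by positivity⟩
      rw [Nat.card_congr e.toEquiv, Nat.card_eq_fintype_card, QuaternionGroup.card]
      have h4 : (4 : ℕ) = 2 ^ 2 := by norm_num
      rw [h4, ← pow_add]
      congr 1
      omega
  have hS : IsPGroup 2 S := IsPGroup.of_card hcard
  have hfa := (saturated_fullyNormalized hS F hF (top_fullyNormalized F)).2.1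
  have hsyl := isSylowIn18_of_fullyAutomized F hfa
  have hA : IsPGroup 2 (MulAut S) := aut_isPGroup n hn hshape
  have hAF : IsPGroup 2 (F.autGroup S) := hA.to_subgroup _
  haveI : Finite (MulAut S) := by
    have : Finite (S → S) := inferInstance
    exact Finite.of_injective (fun α : MulAut S => (α : S → S))
      (fun α β h => MulEquiv.ext (congrFun h))
  rw [← eq_of_isSylowIn_of_isPGroup hsyl hAF, autInducedBy_self_eq_inn]

end Cfsg.Agent.S5112
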