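import Cfsg.Statements.S5114
import Cfsg.Agent.Lib.Helper26.PrimeIdx3

set_option autoImplicit false
open Cfsg

namespace Cfsg.Agent.S5114

open Cfsg.FusionSystem Cfsg.Agent.Lib.Helper26

theorem result {Ω : Type*} [Group Ω] {S : Subgroup Ω} [Finite S] (p : ℕ) [Fact p.Prime] (hS : IsPGroup p S) (F : Cfsg.FusionSystem S) (hF : F.IsSaturated p) (E : Cfsg.FusionSystem S) (hEF : E.IsSubsystemOf F) (h : ∀ P : Subgroup Ω, F.IsCentric P → (Subgroup.closure {α : ↥(F.autGroup P) | ∃ k : ℕ, orderOf α = p ^ k}).map (F.autGroup P).subtype ≤ E.autGroup P) : E.HasPrimeToPIndexIn F p ∧ (∀ (P : Subgroup Ω) (φ : P →* Ω), φ ∈ F.Hom P → ∃ α ∈ F.autGroup S, ∃ φ₀ ∈ E.Hom P, ∀ (x : P) (hx : φ₀ x ∈ S), φ x = ((α ⟨φ₀ x, hx⟩ : S) : Ω)) ∧ ∀ P : Subgroup Ω, E.IsCentric P ↔ F.IsCentric P := by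
  have h' : ∀ P : Subgroup Ω, F.IsCentric P →
      Subgroup.closure (ppSet F p P) ≤ E.autGroup P := by
    intro P hP
    rw [← ppGen_eq]
    exact h P hP
  have hdec₁ : ∀ (P : Subgroup Ω) (φ : P →* Ω), φ ∈ F.Hom P → Dec F (invSystem F E) P φ := by
    intro P φ hφ
    exact dec_congr (fun x => rfl)
      (decAll_of_centric_ppGen hS F hF E h' hφ P le_rfl (source_le F hφ))
  have hsub : (invSystem F E).IsSubsystemOf E := invSystem_le' F E
  refine ⟨⟨hEF, fun P hPS => ?_⟩, fun P φ hφ => ?_, isCentric_iff_of_dec hEF (invSystem_le' F E) hdec₁⟩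
  · rw [ppGen_eq]
    exact (closure_ppSet_le_invSystem hS F hF E h' hPS).trans (Subgroup.closure_mono (fun α hα => hsub P hα))
  · obtain ⟨α, hα, φ₀, hφ₀, e⟩ := hdec₁ P φ hφ
    exact ⟨α, hα, φ₀, invSystem_le' F E P hφ₀, e⟩

end Cfsg.Agent.S5114
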