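import Cfsg.Statements.S5125
import Cfsg.Agent.Lib.Helper26.FusionSeries4

set_option autoImplicit false
open Cfsg

namespace Cfsg.Agent.S5125

open Cfsg.Agent.Lib.Helper26 Cfsg.FusionSystem
open scoped commutatorElement

theorem conjAut_mem_linkStab_top {Ω : Type*} [Group Ω] {S P Q : Subgroup Ω}
    (hQn : S ≤ Subgroup.normalizer (Q : Set Ω)) (hPS : P ≤ S) {g : Ω} (hgQ : g ∈ Q)
    (hg : g ∈ Subgroup.normalizer (P : Set Ω)) : conjAut P g hg ∈ linkStab P Q P := by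
  refine conjAut_mem_linkStab hg hg (fun x hx => ?_) (fun x hx => ?_)
  · have h1 : x⁻¹ * g * x⁻¹⁻¹ ∈ Q :=
      (Subgroup.mem_normalizer_iff.mp (hQn (S.inv_mem (hPS hx))) g).mp hgQ
    have e : x⁻¹ * (g * x * g⁻¹) = (x⁻¹ * g * x⁻¹⁻¹) * g⁻¹ := by group
    rw [e]
    exact Q.mul_mem h1 (Q.inv_mem hgQ)
  · have h1 : x⁻¹ * g⁻¹ * x⁻¹⁻¹ ∈ Q :=
      (Subgroup.mem_normalizer_iff.mp (hQn (S.inv_mem (hPS hx))) g⁻¹).mp (Q.inv_mem hgQ)
    have e : x⁻¹ * (g⁻¹ * x * g) = (x⁻¹ * g⁻¹ * x⁻¹⁻¹) * g := by group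
    rw [e]
    exact Q.mul_mem h1 hgQ

theorem isPElementOn_of_isPGroup_autGroup {Ω : Type*} [Group Ω] {S : Subgroup Ω} [Finite S]
    {p : ℕ} (F : FusionSystem S) {P Q₁ : Subgroup Ω} (hPS : P ≤ S) (hQ₁P : Q₁ ≤ P)
    (hQ₁ : F.StronglyClosed Q₁) (hAut : IsPGroup p ↥(F.autGroup Q₁)) {β : MulAut P}
    (hβ : β ∈ F.autGroup P) : IsPElementOn p β Q₁ := by
  have hQ₁S : Q₁ ≤ S := hQ₁.1
  have hfin : Finite Q₁ := finite_of_le hQ₁S
  have hφ : P.subtype.comp β.toMonoidHom ∈ F.Hom P := (mem_autGroup_iff F hPS).mp hβ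
  have hθ := restrict_mem F hφ hQ₁P
  have hr : ((P.subtype.comp β.toMonoidHom).comp (Subgroup.inclusion hQ₁P)).range = Q₁ := by
    apply Subgroup.eq_of_le_of_card_ge
    · rintro _ ⟨x, rfl⟩
      exact hQ₁.2 Q₁ le_rfl _ hθ x
    · rw [Nat.card_congr (MonoidHom.ofInjective (F.injective_of_mem hθ)).toEquiv]
  obtain ⟨e, he, hex⟩ := exists_iso_of_hom F hθ hr
  have heA : (e : MulAut Q₁) ∈ F.autGroup Q₁ := (isIso_iff_mem_autGroup F hQ₁S e).mp he
  obtain ⟨k, hk⟩ := hAut ⟨e, heA⟩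
  have hk' : (e : MulAut Q₁) ^ (p ^ k) = 1 := congrArg Subtype.val hk
  refine ⟨k, fun x hx => ?_⟩
  have h1 := aut_pow_restrict hQ₁P β (e : MulAut Q₁) (fun y => (hex y).symm) (p ^ k) ⟨x, hx⟩
  rw [hk'] at h1
  exact Subtype.ext h1

theorem result {Ω : Type*} [Group Ω] {S : Subgroup Ω} [Finite S] (p : ℕ) [Fact p.Prime] (hS : IsPGroup p S) (F : Cfsg.FusionSystem S) (hF : F.IsSaturated p) (Q Q₁ : Subgroup Ω) (hQ : F.StronglyClosed Q) (hQ₁Q : Q₁ ≤ Q) (hQ₁ : F.IsNormal Q₁) (hab : ⁅Q, Q⁆ ≤ Q₁) (hAut : IsPGroup p ↥(F.autGroup Q₁)) : F.IsNormal Q := by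
  have hQn := le_normalizer_of_stronglyClosed F hQ
  have hQ₁c : F.StronglyClosed Q₁ := Cfsg.Agent.S5086.stronglyClosed_of_isNormal F hQ₁
  refine isNormal_of_stronglyClosed_of_le_pCore hS F hF hQ (fun P hess => ?_)
  have hPS : P ≤ S := hess.2.1.1
  have hfinP : Finite P := finite_of_le hPS
  have hrad := Cfsg.Agent.S5080.result p hS F hF P hess
  have hC : centralizerIn S P ≤ P := hess.1.2 P (isConj_refl F hPS)
  have hQ₁P : Q₁ ≤ P := isNormal_le_of_centric_radical hS hQ₁ hPS hC hrad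
  have hnorm1 : ((linkStab P Q₁ Q).subgroupOf (F.autGroup P)).Normal :=
    linkStab_subgroupOf_normal _ (autInvariant_of_stronglyClosed F hQ₁c hPS)
      (autInvariant_of_stronglyClosed F hQ hPS)
  have hnorm2 : ((linkStab P Q P).subgroupOf (F.autGroup P)).Normal :=
    linkStab_subgroupOf_normal _ (autInvariant_of_stronglyClosed F hQ hPS) (autInvariant_self _)
  have hKn : ((linkStab P Q₁ Q).subgroupOf (F.autGroup P) ⊓
      (linkStab P Q P).subgroupOf (F.autGroup P)).Normal := Subgroup.normal_inf_normal _ _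
  have hKp : IsPGroup p ↥((linkStab P Q₁ Q).subgroupOf (F.autGroup P) ⊓
      (linkStab P Q P).subgroupOf (F.autGroup P)) := by
    refine isPGroup_of_forall_isPElementOn (P := P)
      ((F.autGroup P).subtype.comp (Subgroup.subtype _))
      ((F.autGroup P).subtype_injective.comp (Subgroup.subtype_injective _)) ?_
    rintro ⟨β, hβ⟩
    rw [Subgroup.mem_inf] at hβ
    obtain ⟨hβ1, hβ2⟩ := hβ
    show IsPElementOn p (β : MulAut P) P
    have h1 : IsPElementOn p (β : MulAut P) Q₁ :=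
      isPElementOn_of_isPGroup_autGroup F hPS hQ₁P hQ₁c hAut β.2
    have h2 : IsPElementOn p (β : MulAut P) Q := by
      refine isPElementOn_step hS hQ₁c.1 _ h1 (fun x hx => ?_)
      have := (Subgroup.mem_subgroupOf.mp hβ1) x hx
      exact ⟨this.1.1, this.2.1⟩
    refine isPElementOn_step hS hQ.1 _ h2 (fun x hx => ?_)
    have := (Subgroup.mem_subgroupOf.mp hβ2) x hx
    exact ⟨this.1.1, this.2.1⟩
  refine le_trans ?_ (Cfsg.Agent.Lib.Helper1.le_pCore hKn hKp)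
  intro b hb
  obtain ⟨g, hgQN, hg, hbg⟩ := mem_autInducedBy_iff'.mp (Subgroup.mem_subgroupOf.mp hb)
  rw [Subgroup.mem_inf]
  refine ⟨?_, ?_⟩
  · rw [Subgroup.mem_subgroupOf, hbg]
    refine conjAut_mem_linkStab hg (Subgroup.le_normalizer hgQN.1) (fun x hx => ?_) (fun x hx => ?_)
    · have h1 : ⁅x⁻¹, g⁆ ∈ ⁅Q, Q⁆ :=
        Subgroup.commutator_mem_commutator (Subgroup.inv_mem _ hx) hgQN.1
      have e : x⁻¹ * (g * x * g⁻¹) = ⁅x⁻¹, g⁆ := by
        rw [commutatorElement_def]; group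
      rw [e]
      exact hab h1
    · have h1 : ⁅x⁻¹, g⁻¹⁆ ∈ ⁅Q, Q⁆ :=
        Subgroup.commutator_mem_commutator (Subgroup.inv_mem _ hx) (Subgroup.inv_mem _ hgQN.1)
      have e : x⁻¹ * (g⁻¹ * x * g) = ⁅x⁻¹, g⁻¹⁆ := by
        rw [commutatorElement_def]; group
      rw [e]
      exact hab h1
  · rw [Subgroup.mem_subgroupOf, hbg]
    exact conjAut_mem_linkStab_top hQn hPS hgQN.1 hg

end Cfsg.Agent.S5125
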