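import Cfsg.Statements.S5130
import Cfsg.Agent.Lib.Helper26.DirFactor4

set_option autoImplicit false
open Cfsg

namespace Cfsg.Agent.S5130

open Cfsg.FusionSystem Cfsg.Agent.Lib.Helper26

theorem dirProd {Ω : Type*} [Group Ω] {S : Subgroup Ω} (F : Cfsg.FusionSystem S)
    (S₁ S₂ : Subgroup Ω) (hprod : Cfsg.IsInternalDirectProduct S₁ S₂ S)
    (h₁ : F.StronglyClosed S₁) (h₂ : F.StronglyClosed S₂) : DirProd F S₁ S₂ := by
  obtain ⟨_, _, hc, _, hsup⟩ := hprod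
  refine ⟨h₁, h₂, hc, fun g hg => ?_⟩
  rw [← hsup] at hg
  exact exists_mul_of_mem_sup_comm hc hg

theorem isNormalIn_of {Ω : Type*} [Group Ω] {S : Subgroup Ω} [Finite S] (p : ℕ) [Fact p.Prime]
    (hS : IsPGroup p S) (F : Cfsg.FusionSystem S) (hF : F.IsSaturated p) (S₁ S₂ : Subgroup Ω)
    (hD : DirProd F S₁ S₂) (R' : Cfsg.FusionSystem S₁)
    (hR' : ∀ P : Subgroup Ω, P ≤ S₁ → R'.Hom P = F.centralizerHom S₂ P) :
    R'.IsInvariantIn F := by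
  have h₁ := hD.hA
  refine ⟨fun P φ hφ => ?_, h₁, fun P hPT φ hφ α hα => ?_, fun P hP φ hφ => ?_⟩
  · have hP : P ≤ S₁ := (R'.le_of_mem hφ).1
    rw [hR' P hP] at hφ
    exact hφ.1
  · rw [hR' P hPT] at hφ
    have hP' : (P.subgroupOf S₁).map (S₁.subtype.comp α.toMonoidHom) ≤ S₁ := by
      rintro _ ⟨y, _, rfl⟩
      exact (α y).2
    rw [hR' _ hP']
    exact hD.centralizerHom_conj hS hF hPT hφ hα
  · obtain ⟨β, hβ, ψ₀, hψ₀, hψ₀B, hform⟩ := hD.exists_frattini hS hF hP hφ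
    have hβ₁ : β.comp (Subgroup.inclusion h₁.1) ∈ F.Hom S₁ := restrict_mem F hβ h₁.1
    have hr := range_eq_of_hom_stronglyClosed F h₁ hβ₁
    have hφ₀ := restrict_mem F hψ₀ (le_sup_left : P ≤ P ⊔ S₂)
    refine ⟨autOfHom F hβ₁ hr, autOfHom_mem F hβ₁ hr,
      ψ₀.comp (Subgroup.inclusion (le_sup_left : P ≤ P ⊔ S₂)), ?_, fun x hx => ?_⟩
    · rw [hR' P hP]
      exact ⟨hφ₀, hP.trans hD.le_centralizerIn',
        fun x => hD.le_centralizerIn' (h₁.2 P hP _ hφ₀ x), ψ₀, hψ₀, fun x => rfl, hψ₀B⟩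
    · obtain ⟨hx', e⟩ := hform x
      rw [e]
      rfl

theorem result {Ω : Type*} [Group Ω] {S : Subgroup Ω} [Finite S] (p : ℕ) [Fact p.Prime] (hS : IsPGroup p S) (F : Cfsg.FusionSystem S) (hF : F.IsSaturated p) (S₁ S₂ : Subgroup Ω) (hprod : Cfsg.IsInternalDirectProduct S₁ S₂ S) (h₁ : F.StronglyClosed S₁) (h₂ : F.StronglyClosed S₂) (R R' : Cfsg.FusionSystem S₁) (hR : ∀ P : Subgroup Ω, P ≤ S₁ → R.Hom P = F.Hom P) (hR' : ∀ P : Subgroup Ω, P ≤ S₁ → R'.Hom P = F.centralizerHom S₂ P) : R.IsSaturated p ∧ R'.IsSaturated p ∧ R'.IsNormalIn F p ∧ R'.IsNormalIn R p ∧ R.IsWeaklyNormalIn F p := by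
  have hD := dirProd F S₁ S₂ hprod h₁ h₂
  have hRs : R.IsSaturated p := full_subsystem_saturated F hF hD.centralFactor h₁ R hR
  have hR's : R'.IsSaturated p := by
    have hCs := centralizerSystem_saturated hS F hF (fullyCentralized_of_stronglyClosed F h₂)
      (centralizerSystem F S₂ h₂.1) (centralizerSystem_isCentralizerSystem F S₂ h₂.1)
    refine full_subsystem_saturated (centralizerSystem F S₂ h₂.1) hCs ?_ ?_ R' ?_
    · refine ⟨hD.le_centralizerIn', fun g hg => ?_⟩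
      obtain ⟨a, ha, b, hb, rfl⟩ := hD.fac g hg.1
      exact ⟨a, ha, b, fun x hx => (hD.comm x hx b hb).symm, rfl⟩
    · exact ⟨hD.le_centralizerIn', fun Q hQ φ hφ x => h₁.2 Q hQ φ hφ.1 x⟩
    · intro P hP
      rw [hR' P hP]
      rfl
  have hinvF := isNormalIn_of p hS F hF S₁ S₂ hD R' hR'
  have hautEq : R.autGroup S₁ = F.autGroup S₁ := autGroup_eq_of_hom_eq R F (hR S₁ le_rfl)
  have hRsub : R.IsSubsystemOf F := by
    intro P φ hφ
    rw [← hR P (R.le_of_mem hφ).1]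
    exact hφ
  refine ⟨hRs, hR's, ⟨⟨hR's, hF, hinvF⟩, ?_⟩, ⟨⟨hR's, hRs, ?_⟩, ?_⟩, hRs, hF, ?_⟩
  · intro α hα
    have hγ : S₁.subtype.comp α.toMonoidHom ∈ R'.Hom S₁ := (mem_autGroup_iff R' le_rfl).mp hα
    rw [hR' S₁ le_rfl] at hγ
    obtain ⟨-, -, -, ψ, hψ, hψP, hψB⟩ := hγ
    have hsupS : S₁ ⊔ S₂ = S := hprod.2.2.2.2
    have hT : S₁ ⊔ centralizerIn S S₁ = S :=
      le_antisymm (sup_le h₁.1 inf_le_left)
        (hsupS.symm.le.trans (sup_le_sup_left (hD.le_centralizerIn le_rfl) S₁))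
    have hTle : S₁ ⊔ centralizerIn S S₁ ≤ S₁ ⊔ S₂ := by rw [hT, hsupS]
    have hψ' := restrict_mem F hψ hTle
    have hTsc : F.StronglyClosed (S₁ ⊔ centralizerIn S S₁) := by
      rw [hT]
      exact top_stronglyClosed F
    have hr := range_eq_of_hom_stronglyClosed F hTsc hψ'
    refine ⟨autOfHom F hψ' hr, autOfHom_mem F hψ' hr, fun x => ?_, fun c hc => ?_⟩
    · exact hψP x
    · obtain ⟨a, ha, b, hb, hcab⟩ := hD.fac (c : Ω) hc.1
      have hbc : b ∈ Subgroup.centralizer (S₁ : Set Ω) := (hD.le_centralizerIn le_rfl hb).2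
      have hac : a ∈ Subgroup.centralizer (S₁ : Set Ω) := by
        have : a = (c : Ω) * b⁻¹ := by rw [hcab, mul_inv_cancel_right]
        rw [this]
        exact Subgroup.mul_mem _ hc.2 (Subgroup.inv_mem _ hbc)
      have e1 : ((autOfHom F hψ' hr c : ↥(S₁ ⊔ centralizerIn S S₁)) : Ω) =
          ((α ⟨a, ha⟩ : S₁) : Ω) * b := by
        have hc' : (⟨(c : Ω), hTle c.2⟩ : ↥(S₁ ⊔ S₂)) =
            Subgroup.inclusion le_sup_left ⟨a, ha⟩ * Subgroup.inclusion le_sup_right ⟨b, hb⟩ :=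
          Subtype.ext hcab
        change ψ ⟨(c : Ω), hTle c.2⟩ = _
        rw [hc', map_mul, hψP, hψB]
        rfl
      have e2 : (c : Ω)⁻¹ * ((autOfHom F hψ' hr c : ↥(S₁ ⊔ centralizerIn S S₁)) : Ω) =
          a⁻¹ * ((α ⟨a, ha⟩ : S₁) : Ω) := by
        rw [e1, hcab]
        have hcomm := hD.comm (a⁻¹ * ((α ⟨a, ha⟩ : S₁) : Ω))
          (S₁.mul_mem (S₁.inv_mem ha) (α ⟨a, ha⟩).2) b hb
        calc (a * b)⁻¹ * (((α ⟨a, ha⟩ : S₁) : Ω) * b)
            = b⁻¹ * ((a⁻¹ * ((α ⟨a, ha⟩ : S₁) : Ω)) * b) := by group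
          _ = b⁻¹ * (b * (a⁻¹ * ((α ⟨a, ha⟩ : S₁) : Ω))) := by rw [hcomm]
          _ = a⁻¹ * ((α ⟨a, ha⟩ : S₁) : Ω) := by group
      rw [e2]
      exact aut_center_mem α ha hac
  · obtain ⟨_, _, hinv, hfrat⟩ := hinvF
    refine ⟨fun P φ hφ => ?_, ⟨le_rfl, fun _ _ φ hφ x => (R.le_of_mem hφ).2 x⟩,
      fun P hPT φ hφ α hα => ?_, fun P hP φ hφ => ?_⟩
    · have hP : P ≤ S₁ := (R'.le_of_mem hφ).1
      rw [hR P hP]
      rw [hR' P hP] at hφ
      exact hφ.1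
    · rw [hautEq] at hα
      exact hinv P hPT φ hφ α hα
    · rw [hR P hP] at hφ
      rw [hautEq]
      exact hfrat P hP φ hφ
  · intro α hα
    have hγ : S₁.subtype.comp α.toMonoidHom ∈ R'.Hom S₁ := (mem_autGroup_iff R' le_rfl).mp hα
    have hγR : S₁.subtype.comp α.toMonoidHom ∈ R.Hom S₁ := by
      rw [hR S₁ le_rfl]
      rw [hR' S₁ le_rfl] at hγ
      exact hγ.1
    have hT : S₁ ⊔ centralizerIn S₁ S₁ = S₁ := sup_eq_left.mpr inf_le_left
    have hγ' := restrict_mem R hγR hT.le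
    have hTsc : R.StronglyClosed (S₁ ⊔ centralizerIn S₁ S₁) := by
      rw [hT]
      exact top_stronglyClosed R
    haveI : Finite S₁ := finite_of_le h₁.1
    have hr := range_eq_of_hom_stronglyClosed R hTsc hγ'
    refine ⟨autOfHom R hγ' hr, autOfHom_mem R hγ' hr, fun x => rfl, fun c hc => ?_⟩
    exact aut_center_mem α hc.1 hc.2
  · refine ⟨hRsub, h₁, fun P hPT φ hφ α hα => ?_, fun P hP φ hφ => ?_⟩
    · have hφF : φ ∈ F.Hom P := hRsub P hφ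
      have hP' : (P.subgroupOf S₁).map (S₁.subtype.comp α.toMonoidHom) ≤ S₁ := by
        rintro _ ⟨y, _, rfl⟩
        exact (α y).2
      rw [hR _ hP']
      exact hom_conj_aut F h₁.1 hPT hφF (fun x => (R.le_of_mem hφ).2 x) hα
    · refine ⟨1, Subgroup.one_mem _, φ, by rw [hR P hP]; exact hφ, fun x hx => rfl⟩

end Cfsg.Agent.S5130
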