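import Cfsg.Statements.S5135
import Cfsg.Agent.Lib.Helper26.Realize2
import Cfsg.Agent.Lib.Helper18.SylowIn

set_option autoImplicit false
open Cfsg

namespace Cfsg.Agent.S5135

open Cfsg.FusionSystem Cfsg.Agent.Lib.Helper26

theorem exists_lift_conj_le {G : Type*} [Group G] [Finite G] {p : ℕ} [Fact p.Prime] (S : Sylow p G)
    (H : Subgroup G) [hHn : H.Normal] {P : Subgroup G} (hP : P ≤ (S : Subgroup G)) (g : G)
    (h : cj P g ≤ (S : Subgroup G) ⊔ H) :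
    ∃ g₀ : G, (g₀ : G ⧸ H) = (g : G ⧸ H) ∧ cj P g₀ ≤ (S : Subgroup G) := by
  have hsyl : Cfsg.Agent.Lib.Helper18.IsSylowIn p (S : Subgroup G) ((S : Subgroup G) ⊔ H) :=
    Cfsg.Agent.Lib.Helper18.isSylowIn_of_sylow_le S le_sup_left
  have hPp : IsPGroup p (cj P g) := isPGroup_cj (S.isPGroup'.to_le hP) g
  obtain ⟨y, hy, hle⟩ := hsyl.exists_conj_le h hPp
  have hy' : y ∈ (((S : Subgroup G) ⊔ H : Subgroup G) : Set G) := hy
  rw [Subgroup.mul_normal] at hy'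
  obtain ⟨s, hs, k, hk, rfl⟩ := Set.mem_mul.mp hy'
  refine ⟨k * g, ?_, ?_⟩
  · rw [QuotientGroup.mk_mul]
    have : (k : G ⧸ H) = 1 := (QuotientGroup.eq_one_iff k).mpr hk
    rw [this, one_mul]
  · rintro _ ⟨x, hx, rfl⟩
    show k * g * x * (k * g)⁻¹ ∈ (S : Subgroup G)
    have h1 : s * k * (g * x * g⁻¹) * (s * k)⁻¹ ∈ (S : Subgroup G) :=
      hle (Cfsg.Agent.Lib.Helper18.conj_mem_conjSub (conj_mem_cj hx))
    have hs' : s ∈ (S : Subgroup G) := hs
    have h2 : s⁻¹ * (s * k * (g * x * g⁻¹) * (s * k)⁻¹) * s ∈ (S : Subgroup G) :=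
      Subgroup.mul_mem _ (Subgroup.mul_mem _ (Subgroup.inv_mem _ hs') h1) hs'
    have e : s⁻¹ * (s * k * (g * x * g⁻¹) * (s * k)⁻¹) * s = k * g * x * (k * g)⁻¹ := by group
    rw [e] at h2
    exact h2

theorem result {G : Type*} [Group G] [Finite G] (p : ℕ) [Fact p.Prime] (S : Sylow p G) (H : Subgroup G) [H.Normal] : (Cfsg.groupFusionSystem (S : Subgroup G)).IsFactorSystem ((S : Subgroup G) ⊓ H) ((QuotientGroup.mk' H).comp (S : Subgroup G).subtype) (Cfsg.groupFusionSystem ((S : Subgroup G).map (QuotientGroup.mk' H))) := by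
  set θ : ↥(S : Subgroup G) →* G ⧸ H := (QuotientGroup.mk' H).comp (S : Subgroup G).subtype with hθ
  have hθapp : ∀ s : ↥(S : Subgroup G), θ s = ((s : G) : G ⧸ H) := fun s => rfl
  refine ⟨inf_le_left, ?_, ?_, ?_⟩
  · intro s
    rw [hθapp, QuotientGroup.eq_one_iff]
    exact ⟨fun h => ⟨s.2, h⟩, fun h => h.2⟩
  · rw [hθ, MonoidHom.range_comp, Subgroup.range_subtype]
  · intro P' φ'
    constructor
    · rintro ⟨hP', hφ'S, gbar, hg⟩
      obtain ⟨g, rfl⟩ := QuotientGroup.mk_surjective gbar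
      refine ⟨hP', ?_⟩
      have hPS : preimageAlong θ P' ≤ (S : Subgroup G) := preSub_le θ P'
      have hPmem : ∀ x : ↥(preimageAlong θ P'), θ ⟨x, hPS x.2⟩ ∈ P' := fun x =>
        (mem_preSub_iff.mp x.2).2
      have hle : cj (preimageAlong θ P') g ≤ (S : Subgroup G) ⊔ H := by
        rintro _ ⟨x, hx, rfl⟩
        show g * x * g⁻¹ ∈ (S : Subgroup G) ⊔ H
        have h1 := hφ'S ⟨θ ⟨x, hPS hx⟩, hPmem ⟨x, hx⟩⟩
        rw [hg] at h1
        obtain ⟨s, hs, hse⟩ := h1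
        have h2 : ((s : G) : G ⧸ H) = ((g * x * g⁻¹ : G) : G ⧸ H) := by
          rw [QuotientGroup.mk_mul, QuotientGroup.mk_mul, QuotientGroup.mk_inv]
          exact hse
        have h3 : s⁻¹ * (g * x * g⁻¹) ∈ H := QuotientGroup.eq.mp h2
        have e : g * x * g⁻¹ = s * (s⁻¹ * (g * x * g⁻¹)) := by group
        rw [e]
        exact Subgroup.mul_mem _ (Subgroup.mem_sup_left hs) (Subgroup.mem_sup_right h3)
      obtain ⟨g₀, hg₀, hg₀S⟩ := exists_lift_conj_le S H hPS g hle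
      refine ⟨conjHom (preimageAlong θ P') g₀, groupFS_conjHom_mem hPS g₀ hg₀S, hPS,
        fun x => hg₀S (conj_mem_cj x.2), hPmem, fun x => ?_⟩
      rw [hg]
      show (g : G ⧸ H) * (((x : G) : G) : G ⧸ H) * (g : G ⧸ H)⁻¹ =
        ((g₀ * (x : G) * g₀⁻¹ : G) : G ⧸ H)
      rw [QuotientGroup.mk_mul, QuotientGroup.mk_mul, QuotientGroup.mk_inv, hg₀]
    · rintro ⟨hP', φ, hφ, hPS, hφS, hPmem, hind⟩
      obtain ⟨-, -, g, hg⟩ := groupFS_mem_iff.mp hφ
      have key : ∀ y : P', ∃ x : ↥(preimageAlong θ P'), θ ⟨x, hPS x.2⟩ = (y : G ⧸ H) := by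
        intro y
        obtain ⟨s, hs, hse⟩ := hP' y.2
        refine ⟨⟨s, mem_preSub_iff.mpr ⟨hs, ?_⟩⟩, hse⟩
        show θ ⟨s, hs⟩ ∈ P'
        rw [hθapp]
        show ((s : G) : G ⧸ H) ∈ P'
        have : ((s : G) : G ⧸ H) = (y : G ⧸ H) := hse
        rw [this]
        exact y.2
      refine ⟨hP', fun y => ?_, (g : G ⧸ H), fun y => ?_⟩
      · obtain ⟨x, hx⟩ := key y
        have h1 := hind x
        have e : (⟨θ ⟨x, hPS x.2⟩, hPmem x⟩ : P') = y := Subtype.ext hx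
        rw [e] at h1
        rw [h1, hθapp]
        exact ⟨_, hφS x, rfl⟩
      · obtain ⟨x, hx⟩ := key y
        have h1 := hind x
        have e : (⟨θ ⟨x, hPS x.2⟩, hPmem x⟩ : P') = y := Subtype.ext hx
        rw [e] at h1
        rw [h1, hθapp, ← hx, hθapp]
        show ((φ x : G) : G ⧸ H) = _
        rw [hg, QuotientGroup.mk_mul, QuotientGroup.mk_mul, QuotientGroup.mk_inv]

end Cfsg.Agent.S5135
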