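import Cfsg.Statements.S5139
import Cfsg.Agent.S5118
import Cfsg.Agent.S5093
import Cfsg.Agent.Lib.Helper26.PPowerIndex
import Cfsg.Agent.Lib.Helper26.FusionHyp3

set_option autoImplicit false
open Cfsg

namespace Cfsg.Agent.S5139

open Cfsg.FusionSystem Cfsg.Agent.Lib.Helper26

theorem subFS_pPowerIndex {G : Type*} [Group G] [Finite G] (p : ℕ) [Fact p.Prime] (S : Sylow p G) :
    (Cfsg.fusionSystemOfSubgroup (Cfsg.pResidual p G) ((S : Subgroup G) ⊓ Cfsg.pResidual p G)
      inf_le_right).HasPPowerIndexIn (Cfsg.groupFusionSystem (S : Subgroup G)) p := by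
  refine ⟨?_, (Cfsg.Agent.S5093.result p S).le, ?_⟩
  · rintro P φ ⟨hP, hφT, g, -, hg⟩
    exact ⟨hP.trans inf_le_left, fun x => (hφT x).1, g, hg⟩
  · intro P hPT
    rw [Subgroup.map_le_iff_le_comap]
    refine (Subgroup.closure_le _).mpr ?_
    intro β hβ
    have hβ' : Nat.Coprime (orderOf (β : MulAut P)) p := by
      rw [Subgroup.orderOf_coe]
      exact hβ
    have hPS : P ≤ (S : Subgroup G) := hPT.trans inf_le_left
    have hmem : (β : MulAut P) ∈ autInducedBy ⊤ P := by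
      rw [← Cfsg.Agent.S5076.groupFS_autGroup_eq hPS]
      exact β.2
    obtain ⟨g, -, hg⟩ := mem_autInducedBy_iff.mp hmem
    obtain ⟨h, hh, hhx⟩ := exists_coprime_inducing hβ' hg
    show (β : MulAut P) ∈ (Cfsg.fusionSystemOfSubgroup (Cfsg.pResidual p G)
      ((S : Subgroup G) ⊓ Cfsg.pResidual p G) inf_le_right).autGroup P
    rw [mem_autGroup_iff _ hPT]
    exact ⟨hPT, fun x => hPT (Subtype.property _), h,
      Cfsg.Agent.Lib.Helper1.mem_pResidual_of_coprime hh, hhx⟩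

theorem result {G : Type*} [Group G] [Finite G] (p : ℕ) [Fact p.Prime] (S : Sylow p G) (E : Cfsg.FusionSystem ((Cfsg.groupFusionSystem (S : Subgroup G)).hyperfocalSubgroup p)) (hE : (Cfsg.groupFusionSystem (S : Subgroup G)).IsPResidual p E) : ∃ h : (S : Subgroup G) ⊓ Cfsg.pResidual p G ≤ Cfsg.pResidual p G, ∀ P : Subgroup G, E.Hom P = (Cfsg.fusionSystemOfSubgroup (Cfsg.pResidual p G) ((S : Subgroup G) ⊓ Cfsg.pResidual p G) h).Hom P := by
  refine ⟨inf_le_right, ?_⟩
  haveI : (Cfsg.pResidual p G).Normal := Cfsg.Agent.Lib.Helper1.pResidual_normal p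
  exact hom_eq_of_pPowerIndex S.isPGroup' (Cfsg.groupFusionSystem (S : Subgroup G))
    (Cfsg.Agent.S5093.result p S) E _ hE.1 (Cfsg.Agent.S5118.subFS_saturated S _) hE.2
    (subFS_pPowerIndex p S)

end Cfsg.Agent.S5139
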