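import Cfsg.Statements.S5337
import Cfsg.Agent.Lib.Helper27.FusInner

set_option autoImplicit false
open Cfsg

namespace Cfsg.Agent.S5337

open Cfsg.FusionSystem Cfsg.Agent.Lib.Helper26 Cfsg.Agent.Lib.Helper27

/-- Let F be a saturated fusion system over a finite abelian p-group S. Then F is simple if and only if S has order p and F is the inner system of S (whose only maps are the inclusions, S being abelian). -/
theorem result {Ω : Type*} [Group Ω] {S : Subgroup Ω} [Finite S] (p : ℕ) [Fact p.Prime] (hS : IsPGroup p S) (F : Cfsg.FusionSystem S) (hF : F.IsSaturated p) (hab : ∀ x ∈ S, ∀ y ∈ S, x * y = y * x) : F.IsSimple p ↔ (Nat.card S = p ∧ ∀ P : Subgroup Ω, F.Hom P = (Cfsg.innerFusionSystem S).Hom P) := by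
  have hp : p.Prime := Fact.out
  constructor
  · rintro ⟨-, hne, hsimp⟩
    have hSsc : F.StronglyClosed S := ⟨le_refl S, fun R _ φ hφ x => apply_mem F hφ x⟩
    have hinn : ∀ P : Subgroup Ω, F.Hom P = (innerFusionSystem S).Hom P := by
      rcases hsimp S _ (inner_normal_of_abelian hS F hF hab hSsc) with h | ⟨-, h⟩
      · exact absurd h hne
      · exact fun P => (h P).symm
    refine ⟨?_, hinn⟩
    -- a subgroup of order p
    have hcard1 : Nat.card S ≠ 1 := by
      intro h1
      apply hne
      rw [eq_bot_iff]
      intro x hx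
      have hsub : Subsingleton S := (Nat.card_eq_one_iff_unique.mp h1).1
      have : (⟨x, hx⟩ : S) = 1 := Subsingleton.elim _ _
      exact Subgroup.mem_bot.mpr (congrArg Subtype.val this)
    have hpdvd : p ∣ Nat.card S := by
      obtain ⟨n, hn⟩ := IsPGroup.iff_card.mp hS
      rw [hn]
      rcases n with _ | n
      · exact absurd (by rw [hn, pow_zero]) hcard1
      · exact dvd_pow_self p (Nat.succ_ne_zero n)
    obtain ⟨x, hx⟩ := exists_prime_orderOf_dvd_card' p hpdvd
    let T : Subgroup Ω := (Subgroup.zpowers x).map S.subtype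
    have hTS : T ≤ S := by
      rintro _ ⟨y, -, rfl⟩
      exact y.2
    have hTcard : Nat.card T = p := by
      have h1 : Nat.card T = Nat.card (Subgroup.zpowers x) :=
        Subgroup.card_map_of_injective S.subtype_injective
      rw [h1, Nat.card_zpowers, hx]
    have hTsc : F.StronglyClosed T := by
      refine ⟨hTS, fun R hR φ hφ y => ?_⟩
      rw [hinn R] at hφ
      obtain ⟨hRS, g, hg, h⟩ := hφ
      rw [h y, conj_eq_of_abelian hab hg (hRS y.2)]
      exact hR y.2
    rcases hsimp T _ (inner_normal_of_abelian hS F hF hab hTsc) with h | ⟨h, -⟩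
    · exfalso
      rw [h, Subgroup.card_bot] at hTcard
      exact hp.one_lt.ne hTcard
    · rw [← hTcard, h]
  · rintro ⟨hcard, hinn⟩
    refine ⟨hF, ?_, ?_⟩
    · intro h
      have h1 : Nat.card S = 1 := by rw [h, Subgroup.card_bot]
      rw [hcard] at h1
      exact hp.one_lt.ne' h1
    · intro T E hE
      obtain ⟨⟨-, -, hsub, hTsc, -, -⟩, -⟩ := hE
      have hTS : T ≤ S := hTsc.1
      have hdvd : Nat.card T ∣ p := by
        rw [← hcard, ← card_subgroupOf_eq hTS]
        exact Subgroup.card_subgroup_dvd_card _
      rcases (Nat.dvd_prime hp).mp hdvd with h1 | h1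
      · left
        exact Subgroup.card_eq_one.mp h1
      · right
        have hTeq : T = S := by
          apply Subgroup.eq_of_le_of_card_ge hTS
          rw [h1, hcard]
        subst hTeq
        refine ⟨rfl, fun P => ?_⟩
        apply Set.Subset.antisymm (hsub P)
        intro φ hφ
        rw [hinn P] at hφ
        obtain ⟨hPS, g, hg, h⟩ := hφ
        exact mem_of_forall_eq E (E.conj_mem hPS hg) (fun x => h x)

end Cfsg.Agent.S5337
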