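import Cfsg.Statements.S5148
import Cfsg.Agent.Lib.Helper27.FusFactor2
import Cfsg.Agent.S5256
import Cfsg.Agent.S5337

set_option autoImplicit false
open Cfsg

namespace Cfsg.Agent.S5148

open Cfsg.FusionSystem Cfsg.Agent.Lib.Helper26 Cfsg.Agent.Lib.Helper27

variable {Ω : Type*} [Group Ω] {S : Subgroup Ω}

theorem stronglyClosed_of_isCentral (F : FusionSystem S) {Q : Subgroup Ω} (hQ : F.IsCentral Q) :
    F.StronglyClosed Q := by
  refine ⟨hQ.1, fun R hR φ hφ x => ?_⟩
  obtain ⟨ψ, hψ, hext, hfix⟩ := hQ.2 R φ hφ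
  have h1 := hfix ⟨x, hR x.2⟩
  have h2 := hext x
  have e : Subgroup.inclusion (le_sup_right : Q ≤ R ⊔ Q) ⟨x, hR x.2⟩ =
      Subgroup.inclusion (le_sup_left : R ≤ R ⊔ Q) x := Subtype.ext rfl
  rw [e, h2] at h1
  rw [h1]
  exact hR x.2

theorem hyperfocal_eq_bot_of_inner_abelian {T : Subgroup Ω} (E : FusionSystem T) (p : ℕ)
    (hab : ∀ x ∈ T, ∀ y ∈ T, x * y = y * x)
    (hE : ∀ P : Subgroup Ω, E.Hom P = (innerFusionSystem T).Hom P) :
    E.hyperfocalSubgroup p = ⊥ := by
  rw [eq_bot_iff]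
  unfold FusionSystem.hyperfocalSubgroup
  rw [Subgroup.closure_le]
  rintro _ ⟨P, α, x, hPT, -, rfl⟩
  have hα : P.subtype.comp (α : MulAut P).toMonoidHom ∈ E.Hom P := (mem_autGroup_iff E hPT).mp α.2
  rw [hE P] at hα
  obtain ⟨-, g, hg, hgα⟩ := hα
  have h1 : (((α : MulAut P) x : P) : Ω) = g * (x : Ω) * g⁻¹ := hgα x
  have h2 : g * (x : Ω) * g⁻¹ = x := by
    rw [hab g hg x (hPT x.2), mul_inv_cancel_right]
  show (x : Ω)⁻¹ * (((α : MulAut P) x : P) : Ω) = 1
  rw [h1, h2, inv_mul_cancel]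

/-- A quasisimple fusion system over a finite p-group S (saturated, equal to its p-residual subsystem, with simple — in particular nontrivial — factor system modulo its centre) has S nonabelian. -/
theorem result {Ω : Type*} [Group Ω] {S : Subgroup Ω} [Finite S] (p : ℕ) [Fact p.Prime] (hS : IsPGroup p S) (F : Cfsg.FusionSystem S) (hq : F.Quasisimple p) : ¬ IsMulCommutative S := by
  intro hab
  obtain ⟨hF, hhyp, hfac⟩ := hq
  have hZc : F.IsCentral F.center := isCentral_center F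
  have hZsc : F.StronglyClosed F.center := stronglyClosed_of_isCentral F hZc
  have hker : ∀ s : S, (QuotientGroup.mk' ((F.center).subgroupOf S)) s = 1 ↔ (s : Ω) ∈ F.center := by
    intro s
    rw [QuotientGroup.mk'_apply, QuotientGroup.eq_one_iff, Subgroup.mem_subgroupOf]
  have hr : (QuotientGroup.mk' ((F.center).subgroupOf S)).range = ⊤ :=
    MonoidHom.range_eq_top.mpr (QuotientGroup.mk'_surjective _)
  have hE := factorSystem_isFactorSystem F hZsc (QuotientGroup.mk' ((F.center).subgroupOf S)) hker hr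
  have hsimple := hfac _ hE
  have habS : ∀ x ∈ S, ∀ y ∈ S, x * y = y * x := by
    intro x hx y hy
    have := hab.is_comm.comm (⟨x, hx⟩ : S) ⟨y, hy⟩
    exact congrArg Subtype.val this
  have habQ : ∀ x ∈ (⊤ : Subgroup (↥S ⧸ (F.center).subgroupOf S)),
      ∀ y ∈ (⊤ : Subgroup (↥S ⧸ (F.center).subgroupOf S)), x * y = y * x := by
    intro x _ y _
    induction x using QuotientGroup.induction_on with
    | H a =>
      induction y using QuotientGroup.induction_on with
      | H b =>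
        rw [← QuotientGroup.mk_mul, ← QuotientGroup.mk_mul, hab.is_comm.comm a b]
  have hpQ : IsPGroup p ↥(⊤ : Subgroup (↥S ⧸ (F.center).subgroupOf S)) :=
    (hS.to_quotient _).to_subgroup ⊤
  obtain ⟨hcard, hinner⟩ := (Cfsg.Agent.S5337.result p hpQ _ hsimple.1 habQ).mp hsimple
  have h1 := Cfsg.Agent.S5256.result p hS F hF F.center hZsc _ _ hE
  rw [hyperfocal_eq_bot_of_inner_abelian _ p habQ hinner, hhyp] at h1
  have h2 : ((S : Subgroup Ω).subgroupOf S).map (QuotientGroup.mk' ((F.center).subgroupOf S)) = ⊤ := by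
    rw [Subgroup.subgroupOf_self, ← MonoidHom.range_eq_map, hr]
  rw [h2] at h1
  have h3 : Nat.card ↥(⊤ : Subgroup (↥S ⧸ (F.center).subgroupOf S)) = 1 := by
    rw [← h1]
    exact Subgroup.card_bot
  rw [h3] at hcard
  exact (Fact.out : p.Prime).one_lt.ne hcard

end Cfsg.Agent.S5148
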