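import Cfsg.Statements.S5341
import Cfsg.Agent.Lib.Helper26.FusionSat2

set_option autoImplicit false
open Cfsg

namespace Cfsg.Agent.S5341

open Cfsg.FusionSystem Cfsg.Agent.Lib.Helper26

/-- Let F be a saturated fusion system over a finite p-group S, T a subgroup strongly closed in F, and F′ any fusion system over T all of whose maps are maps of F. For a subgroup Q ≤ T: if Q is fully centralized in F then it is fully centralized in F′, and if Q is fully normalized in F then it is fully normalized in F′. -/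
theorem result {Ω : Type*} [Group Ω] {S : Subgroup Ω} [Finite S] (p : ℕ) [Fact p.Prime] (hS : IsPGroup p S) (F : Cfsg.FusionSystem S) (hF : F.IsSaturated p) (T : Subgroup Ω) (hT : F.StronglyClosed T) (F' : Cfsg.FusionSystem T) (hsub : F'.IsSubsystemOf F) (Q : Subgroup Ω) (hQT : Q ≤ T) : (F.IsFullyCentralized Q → F'.IsFullyCentralized Q) ∧ (F.IsFullyNormalized Q → F'.IsFullyNormalized Q) := by
  have hTS : T ≤ S := hT.1
  constructor
  · intro hQ
    have hrec : F.IsReceptive Q := saturated_fullyCentralized hS F hF hQ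
    refine ⟨hQT, fun Q' hQQ' => ?_⟩
    have hconjF : F.IsConj Q Q' := by
      obtain ⟨φ, hφ, hr⟩ := hQQ'
      exact ⟨φ, hsub _ hφ, hr⟩
    obtain ⟨ψ, hψ, hψr⟩ := isConj_symm F hconjF
    obtain ⟨χ, hχ, hχψ⟩ := hrec.2 Q' ψ hψ hψr
    have hCle : centralizerIn S Q' ≤ extender S Q' ψ := centralizerIn_le_extender S Q' ψ
    have hCT : centralizerIn T Q' ≤ centralizerIn S Q' := inf_le_inf_right _ hTS
    have hQle : Q' ≤ extender S Q' ψ := le_extender F hψ
    have hfin : Finite ↥(centralizerIn T Q) := finite_of_le (inf_le_left.trans hTS)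
    have hmem : ∀ g : ↥(centralizerIn T Q'), χ ⟨g, hCle (hCT g.2)⟩ ∈ centralizerIn T Q := by
      intro g
      refine ⟨?_, ?_⟩
      · have hres := restrict_mem F hχ (hCT.trans hCle)
        exact hT.2 (centralizerIn T Q') inf_le_left _ hres g
      · intro y hy
        rw [← hψr] at hy
        obtain ⟨q, rfl⟩ := hy
        have hq : ψ q = χ ⟨q, hQle q.2⟩ := (hχψ q q.2 (hQle q.2)).symm
        rw [hq, ← map_mul, ← map_mul]
        congr 1
        apply Subtype.ext
        exact g.2.2 q q.2
    let f : ↥(centralizerIn T Q') → ↥(centralizerIn T Q) :=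
      fun g => ⟨χ ⟨g, hCle (hCT g.2)⟩, hmem g⟩
    have hf : Function.Injective f := by
      intro a b hab
      have h1 : χ ⟨a, hCle (hCT a.2)⟩ = χ ⟨b, hCle (hCT b.2)⟩ := congrArg Subtype.val hab
      have h2 := F.injective_of_mem hχ h1
      exact Subtype.ext (Subtype.mk.inj h2)
    exact Nat.card_le_card_of_injective f hf
  · intro hQ
    obtain ⟨-, h₁, h₂⟩ := saturated_fullyNormalized hS F hF hQ
    refine ⟨hQT, fun Q' hQQ' => ?_⟩
    have hconjF : F.IsConj Q Q' := by
      obtain ⟨φ, hφ, hr⟩ := hQQ'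
      exact ⟨φ, hsub _ hφ, hr⟩
    obtain ⟨φ, hφ, hφN, -⟩ := exists_normalizer_hom hS F h₁ h₂ (isConj_symm F hconjF)
    have hNT : normalizerIn T Q' ≤ normalizerIn S Q' := inf_le_inf_right _ hTS
    have hfin : Finite ↥(normalizerIn T Q) := finite_of_le (inf_le_left.trans hTS)
    have hmem : ∀ g : ↥(normalizerIn T Q'), φ ⟨g, hNT g.2⟩ ∈ normalizerIn T Q := by
      intro g
      refine ⟨?_, (hφN _).2⟩
      have hres := restrict_mem F hφ hNT
      exact hT.2 (normalizerIn T Q') inf_le_left _ hres g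
    let f : ↥(normalizerIn T Q') → ↥(normalizerIn T Q) := fun g => ⟨φ ⟨g, hNT g.2⟩, hmem g⟩
    have hf : Function.Injective f := by
      intro a b hab
      have h1 : φ ⟨a, hNT a.2⟩ = φ ⟨b, hNT b.2⟩ := congrArg Subtype.val hab
      have h2 := F.injective_of_mem hφ h1
      exact Subtype.ext (Subtype.mk.inj h2)
    exact Nat.card_le_card_of_injective f hf

end Cfsg.Agent.S5341
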