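import Cfsg.Statements.S5153
import Cfsg.Agent.S5341

set_option autoImplicit false
open Cfsg

namespace Cfsg.Agent.S5153

open Cfsg.FusionSystem Cfsg.Agent.Lib.Helper26

theorem aux {Ω : Type*} [Group Ω] {T S : Subgroup Ω} {E : FusionSystem T} {F : FusionSystem S}
    {p : ℕ} (h : E.IsSubnormalIn F p) :
    T ≤ S ∧ (Finite S → Fact p.Prime → IsPGroup p S → F.IsSaturated p →
      ∀ P : Subgroup Ω, P ≤ T → F.IsFullyNormalized P → E.IsFullyNormalized P) := by
  induction h with
  | refl F p => exact ⟨le_refl _, fun _ _ _ _ P _ hP => hP⟩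
  | step hED hDF ih =>
    rename_i U S' E' D F' p'
    obtain ⟨hTU, ih⟩ := ih
    obtain ⟨⟨hDsat, -, hsub, hUsc, -, -⟩, -⟩ := hDF
    have hUS : U ≤ S' := hUsc.1
    refine ⟨hTU.trans hUS, fun hfin hp hS hF P hPT hP => ?_⟩
    have hfinU : Finite U := finite_of_le hUS
    have hUp : IsPGroup p' U := hS.to_le hUS
    have hD : D.IsFullyNormalized P :=
      (Cfsg.Agent.S5341.result p' hS F' hF U hUsc D hsub P (hPT.trans hTU)).2 hP
    exact ih hfinU hp hUp hDsat P hPT hD

/-- Let F be a saturated fusion system over a finite p-group S and E a subnormal subsystem of F over T. Then every subgroup of T that is fully normalized in F is fully normalized in E. -/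
theorem result {Ω : Type*} [Group Ω] {S : Subgroup Ω} [Finite S] (p : ℕ) [Fact p.Prime] (hS : IsPGroup p S) (F : Cfsg.FusionSystem S) (hF : F.IsSaturated p) {T : Subgroup Ω} (E : Cfsg.FusionSystem T) (hE : E.IsSubnormalIn F p) (P : Subgroup Ω) (hPT : P ≤ T) (hP : F.IsFullyNormalized P) : E.IsFullyNormalized P := by
  exact (aux hE).2 inferInstance inferInstance hS hF P hPT hP

end Cfsg.Agent.S5153
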