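import Cfsg.Statements.S5311
import Cfsg.Agent.Lib.Helper27.Iso9

set_option autoImplicit false
open Cfsg

namespace Cfsg.Agent.S5311

open Cfsg.FusionSystem Cfsg.Agent.Lib.Helper26 Cfsg.Agent.Lib.Helper27 Cfsg.Agent.Lib.Helper27.FIso

section aux

variable {Ω : Type*} [Group Ω] {S : Subgroup Ω}

/-- A pair of mutually inverse self-maps of `S` preserving `F`. -/
structure AutPair (F : Cfsg.FusionSystem S) (a b : ↥S →* Ω) : Prop where
  haS : ∀ s : S, a s ∈ S
  hbS : ∀ s : S, b s ∈ S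
  hab : ∀ s : S, a ⟨b s, hbS s⟩ = s
  hba : ∀ s : S, b ⟨a s, haS s⟩ = s
  hma : F.IsMorphism F a
  hmb : F.IsMorphism F b

theorem AutPair.symm {F : Cfsg.FusionSystem S} {a b : ↥S →* Ω} (h : AutPair F a b) :
    AutPair F b a :=
  ⟨h.hbS, h.haS, h.hba, h.hab, h.hmb, h.hma⟩

theorem AutPair.inj {F : Cfsg.FusionSystem S} {a b : ↥S →* Ω} (h : AutPair F a b) :
    Function.Injective a := by
  intro s t hst
  have h1 := h.hba s
  have h2 := h.hba t
  have e : (⟨a s, h.haS s⟩ : S) = ⟨a t, h.haS t⟩ := Subtype.ext hst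
  rw [e, h2] at h1
  exact (Subtype.ext h1).symm

theorem AutPair.comp_eq {F : Cfsg.FusionSystem S} {a b : ↥S →* Ω} (h : AutPair F a b) :
    a.comp (b.codRestrict S h.hbS) = S.subtype := by
  ext s
  exact h.hab s

theorem AutPair.image_image {F : Cfsg.FusionSystem S} {a b : ↥S →* Ω} (h : AutPair F a b)
    {P : Subgroup Ω} (hP : P ≤ S) : imageAlong a (imageAlong b P) = P := by
  rw [imageAlong_comp b h.hbS a, h.comp_eq, imageAlong_subtype hP]

theorem AutPair.image_top {F : Cfsg.FusionSystem S} {a b : ↥S →* Ω} (h : AutPair F a b) :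
    imageAlong a S = S := by
  apply le_antisymm (imageAlong_le_of_maps a h.haS S)
  have h1 := h.image_image (le_refl S)
  calc S = imageAlong a (imageAlong b S) := h1.symm
    _ ≤ imageAlong a S := imageAlong_mono a (imageAlong_le_of_maps b h.hbS S)

/-- The image of `F` under an automorphism of `F` is `F`. -/
theorem AutPair.map_hom [Finite S] {F : Cfsg.FusionSystem S} {a b : ↥S →* Ω} (h : AutPair F a b)
    (P' : Subgroup Ω) : (mapSub a h.inj le_rfl F).Hom P' = F.Hom P' := by
  ext φ'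
  constructor
  · intro hφ'
    obtain ⟨P, hPS, hP', φ, hφ, hind⟩ := exists_of_mem_mapSub a h.inj le_rfl F hφ'
    subst hP'
    obtain ⟨φ'', hφ'', hP, hφS, hP'', hind''⟩ := h.hma.2 P φ hφ
    have e : φ' = φ'' := by
      apply hom_ext_toIm a hPS
      intro x
      exact (hind x _).trans (hind'' x).symm
    rw [e]
    exact hφ''
  · intro hφ'
    have hP'S : P' ≤ S := source_le F hφ'
    obtain ⟨φ, hφ, hP, hφS, hPb, hindb⟩ := h.hmb.2 P' φ' hφ'
    refine mem_mapSub_of a h.inj le_rfl F hφ φ' (h.image_image hP'S).symm ?_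
    intro x hx'
    obtain ⟨x', hx'S, hx'P, hxe⟩ := mem_imageAlong.mp x.2
    have h1 := hindb ⟨x', hx'P⟩
    have ex : x = ⟨b ⟨x', hx'S⟩, hPb ⟨x', hx'P⟩⟩ := Subtype.ext hxe.symm
    subst ex
    have e1 : a ⟨b ⟨x', hx'S⟩, h.hbS _⟩ = x' := h.hab ⟨x', hx'S⟩
    have e2 : a ⟨b ⟨φ' ⟨x', hx'P⟩, hφS ⟨x', hx'P⟩⟩, h.hbS _⟩ = φ' ⟨x', hx'P⟩ :=
      h.hab ⟨φ' ⟨x', hx'P⟩, hφS ⟨x', hx'P⟩⟩
    have e3 : (⟨a ⟨b ⟨x', hx'S⟩, h.hbS _⟩, hx'⟩ : P') = ⟨x', hx'P⟩ := Subtype.ext e1
    refine Eq.trans ?_ (e2.symm.trans ?_)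
    · exact congrArg φ' e3
    · show a ⟨_, _⟩ = a ⟨_, _⟩
      congr 2
      exact h1.symm

theorem AutPair.comp_hom [Finite S] {F : Cfsg.FusionSystem S} {a b : ↥S →* Ω} (h : AutPair F a b)
    {U : Subgroup Ω} (hUS : U ≤ S) (C : Cfsg.FusionSystem U) (P : Subgroup Ω) :
    (mapSub a h.inj (imageAlong_le_of_maps b h.hbS U) (mapSub b h.symm.inj hUS C)).Hom P =
      C.Hom P := by
  have hκ : Function.Injective (a.comp (b.codRestrict S h.hbS)) := by
    rw [h.comp_eq]; exact S.subtype_injective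
  rw [mapSub_comp_hom b h.symm.inj h.hbS a h.inj hκ hUS C P,
    mapSub_map_congr h.comp_eq hκ S.subtype_injective hUS C P, mapSub_subtype_hom hUS C P]

/-- The layer is contained in its image under an automorphism of `F`. -/
theorem AutPair.layer_le [Finite S] {p : ℕ} [Fact p.Prime] (hS : IsPGroup p S)
    {F : Cfsg.FusionSystem S} {a b : ↥S →* Ω} (h : AutPair F a b) {T : Subgroup Ω}
    (E : Cfsg.FusionSystem T) (hE : E.IsLayerOf F p) (hTS : T ≤ S) :
    E.IsSubsystemOf (mapSub a h.inj hTS E) := by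
  obtain ⟨hEn, hEc, hEmin⟩ := hE
  apply hEmin
  · have h1 := mapSub_isNormalIn hS a h.inj hTS le_rfl E F hEn
    exact sys_congr (motive := fun A X => (mapSub a h.inj hTS E).IsNormalIn X p) h.image_top _ F
      h.map_hom h1
  · intro U C hC
    have hUS : U ≤ S := (le_of_isSubsystemOf (hEc U C hC)).trans hTS
    have h1 := mapSub_isComponentIn hS b h.symm.inj hUS le_rfl C F hC
    have h2 : (mapSub b h.symm.inj hUS C).IsComponentIn F p :=
      sys_congr (motive := fun A X => (mapSub b h.symm.inj hUS C).IsComponentIn X p)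
        h.symm.image_top _ F h.symm.map_hom h1
    have h3 := hEc _ _ h2
    have hbU : imageAlong b U ≤ S := imageAlong_le_of_maps b h.hbS U
    have h4 := mapSub_isSubsystemOf a h.inj hbU hTS _ E h3
    intro P φ hφ
    apply h4 P
    rw [h.comp_hom hUS C P]
    exact hφ

end aux

/-- The layer of a saturated fusion system F over a finite p-group S is characteristic in F: for every automorphism α of S that is an automorphism of F (α and its inverse are morphisms from F to F) and every layer E of F over T, α carries T onto T and, for every map φ of E with source P, the map induced by α on α(P) (that is, α ∘ φ ∘ α⁻¹) is a map of E. -/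
theorem result {Ω : Type*} [Group Ω] {S : Subgroup Ω} [Finite S] (p : ℕ) [Fact p.Prime] (hS : IsPGroup p S) (F : Cfsg.FusionSystem S) (hF : F.IsSaturated p)
    (α : ↥S ≃* ↥S) (hα : F.IsMorphism F (S.subtype.comp α.toMonoidHom))
    (hα' : F.IsMorphism F (S.subtype.comp α.symm.toMonoidHom))
    {T : Subgroup Ω} (E : Cfsg.FusionSystem T) (hE : E.IsLayerOf F p) :
    Cfsg.FusionSystem.imageAlong (S.subtype.comp α.toMonoidHom) T = T ∧
      ∀ (P : Subgroup Ω) (φ : ↥P →* Ω), φ ∈ E.Hom P →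
        ∀ φ' : ↥(Cfsg.FusionSystem.imageAlong (S.subtype.comp α.toMonoidHom) P) →* Ω,
          Cfsg.FusionSystem.InducedAlong (S.subtype.comp α.toMonoidHom) φ φ' →
            φ' ∈ E.Hom (Cfsg.FusionSystem.imageAlong (S.subtype.comp α.toMonoidHom) P) := by
  haveI : Finite T := by
    have hTS : T ≤ S := le_of_isNormalIn hE.1
    exact finite_of_le hTS
  have hTS : T ≤ S := le_of_isNormalIn hE.1
  have hpair : AutPair F (S.subtype.comp α.toMonoidHom) (S.subtype.comp α.symm.toMonoidHom) := by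
    refine ⟨fun s => (α s).2, fun s => (α.symm s).2, fun s => ?_, fun s => ?_, hα, hα'⟩
    · show ((α ⟨((α.symm s : S) : Ω), _⟩ : S) : Ω) = s
      have e : (⟨((α.symm s : S) : Ω), (α.symm s).2⟩ : S) = α.symm s := Subtype.ext rfl
      rw [e, MulEquiv.apply_symm_apply]
    · show ((α.symm ⟨((α s : S) : Ω), _⟩ : S) : Ω) = s
      have e : (⟨((α s : S) : Ω), (α s).2⟩ : S) = α s := Subtype.ext rfl
      rw [e, MulEquiv.symm_apply_apply]
  have hEa := hpair.layer_le hS E hE hTS
  have hEb := hpair.symm.layer_le hS E hE hTS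
  have hTa : T ≤ imageAlong (S.subtype.comp α.toMonoidHom) T := le_of_isSubsystemOf hEa
  have hTb : T ≤ imageAlong (S.subtype.comp α.symm.toMonoidHom) T := le_of_isSubsystemOf hEb
  have hsub : (mapSub _ hpair.inj hTS E).IsSubsystemOf E := by
    intro P' φ' hφ'
    have hbT : imageAlong (S.subtype.comp α.symm.toMonoidHom) T ≤ S :=
      imageAlong_le_of_maps _ hpair.hbS T
    have h1 := mapSub_isSubsystemOf _ hpair.inj hTS hbT E _ hEb P' hφ'
    rwa [hpair.comp_hom hTS E P'] at h1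
  refine ⟨?_, ?_⟩
  · apply le_antisymm _ hTa
    calc imageAlong (S.subtype.comp α.toMonoidHom) T
        ≤ imageAlong (S.subtype.comp α.toMonoidHom)
            (imageAlong (S.subtype.comp α.symm.toMonoidHom) T) := imageAlong_mono _ hTb
      _ = T := hpair.image_image hTS
  · intro P φ hφ φ' hind
    obtain ⟨hP, hφS, hP', hi⟩ := hind
    apply hsub
    exact mem_mapSub_of _ hpair.inj hTS E hφ φ' rfl (fun x hx' => hi x)

end Cfsg.Agent.S5311
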