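import Cfsg.Statements.S5154
import Cfsg.Agent.S5311
import Cfsg.Agent.Lib.Helper27.ResSer3

set_option autoImplicit false
open Cfsg

namespace Cfsg.Agent.S5154

open Cfsg.FusionSystem Cfsg.Agent.Lib.Helper26 Cfsg.Agent.Lib.Helper27 Cfsg.Agent.Lib.Helper27.FIso
open Cfsg.Agent.S5311 (AutPair)

section aux

variable {Ω : Type*} [Group Ω]

theorem le_of_isSubnormalIn {T U : Subgroup Ω} {C : Cfsg.FusionSystem T} {D : Cfsg.FusionSystem U}
    {p : ℕ} (h : C.IsSubnormalIn D p) : T ≤ U := by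
  induction h with
  | refl F p => exact le_rfl
  | step _ h2 ih => exact ih.trans (le_of_isNormalIn h2)

/-- an element of `Aut_F(U)` and its inverse form an automorphism pair of a subsystem over `U`
invariant in `F` -/
theorem autPair_of_invariant {S U : Subgroup Ω} {F : Cfsg.FusionSystem S} {D : Cfsg.FusionSystem U}
    (hinv : D.IsInvariantIn F) {α : MulAut U} (hα : α ∈ F.autGroup U) :
    AutPair D (U.subtype.comp α.toMonoidHom) (U.subtype.comp (α⁻¹ : MulAut U).toMonoidHom) := by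
  have key : ∀ β ∈ F.autGroup U, D.IsMorphism D (U.subtype.comp β.toMonoidHom) := by
    intro β hβ
    refine ⟨fun s => (β s).2, fun P φ hφ => ?_⟩
    have hPU : P ≤ U := source_le D hφ
    obtain ⟨χ, hχ, hχe⟩ := hinv.2.2.1 P hPU φ hφ β hβ
    refine ⟨χ, hχ, hPU, fun x => apply_mem D hφ x, fun x => ?_, fun x => ?_⟩
    · exact ⟨⟨x, hPU x.2⟩, Subgroup.mem_subgroupOf.mpr x.2, rfl⟩
    · exact hχe x _ _
  refine ⟨fun s => (α s).2, fun s => ((α⁻¹ : MulAut U) s).2, fun s => ?_, fun s => ?_, key α hα,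
    key _ ((F.autGroup U).inv_mem hα)⟩
  · show ((α ⟨(((α⁻¹ : MulAut U) s : U) : Ω), _⟩ : U) : Ω) = s
    have e : (⟨(((α⁻¹ : MulAut U) s : U) : Ω), ((α⁻¹ : MulAut U) s).2⟩ : U) = (α⁻¹ : MulAut U) s :=
      Subtype.ext rfl
    rw [e, MulAut.apply_inv_self]
  · show (((α⁻¹ : MulAut U) ⟨((α s : U) : Ω), _⟩ : U) : Ω) = s
    have e : (⟨((α s : U) : Ω), (α s).2⟩ : U) = α s := Subtype.ext rfl
    rw [e, MulAut.inv_apply_self]

theorem refl_case {S : Subgroup Ω} {F : Cfsg.FusionSystem S} {p : ℕ} [Fact p.Prime] [Finite S]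
    (hS : IsPGroup p S) (hF : F.IsSaturated p) (γ : S →* Ω) (hγ : γ ∈ F.Hom S)
    (hinj : Function.Injective γ) : (mapSub γ hinj le_rfl F).IsSubnormalIn F p := by
  have hr : γ.range = S := range_eq_of_apply_mem F hγ (fun t => apply_mem F hγ t)
  obtain ⟨e, he, hex⟩ := exists_iso_of_hom F hγ hr
  have hα : (e : MulAut S) ∈ F.autGroup S := (mem_autGroup_iff F le_rfl).mpr he
  have hpair := autPair_of_invariant (Cfsg.Agent.Lib.Helper27.ResSer.isInvariantIn_self hS F hF) hα
  have hγe : S.subtype.comp (e : MulAut S).toMonoidHom = γ := by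
    ext x
    exact hex x
  have hhom : ∀ P : Subgroup Ω, F.Hom P = (mapSub γ hinj le_rfl F).Hom P := by
    intro P
    rw [← hpair.map_hom P]
    exact mapSub_map_congr hγe hpair.inj hinj le_rfl F P
  have hbase : S = imageAlong γ S := by
    rw [← hγe]
    exact hpair.image_top.symm
  exact sys_congr (motive := fun A X => X.IsSubnormalIn F p) hbase F _ hhom
    (Cfsg.FusionSystem.IsSubnormalIn.refl F p)

theorem step_case {T U S : Subgroup Ω} {E : Cfsg.FusionSystem T} {D : Cfsg.FusionSystem U}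
    {F : Cfsg.FusionSystem S} {p : ℕ} [Fact p.Prime] [Finite S] (hS : IsPGroup p S)
    (h1 : E.IsSubnormalIn D p) (h2 : D.IsNormalIn F p)
    (ih : ∀ (γ₀ : T →* Ω) (_ : γ₀ ∈ D.Hom T) (hinj₀ : Function.Injective γ₀) (_ : Finite T),
      (mapSub γ₀ hinj₀ le_rfl E).IsSubnormalIn D p)
    (γ : T →* Ω) (hγ : γ ∈ F.Hom T) (hinj : Function.Injective γ) (hfinT : Finite T) :
    (mapSub γ hinj le_rfl E).IsSubnormalIn F p := by
  have hUS : U ≤ S := le_of_isNormalIn h2
  have hfinU : Finite U := finite_of_le hUS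
  have hUp : IsPGroup p U := hS.to_le hUS
  have hinv : D.IsInvariantIn F := h2.1.2.2
  have hTU : T ≤ U := le_of_isSubnormalIn h1
  obtain ⟨α, hα, γ₀, hγ₀, hγe⟩ := hinv.2.2.2 T hTU γ hγ
  have hγ₀U : ∀ t : T, γ₀ t ∈ U := fun t => apply_mem D hγ₀ t
  have hinj₀ : Function.Injective γ₀ := D.injective_of_mem hγ₀
  have h3 := ih γ₀ hγ₀ hinj₀ hfinT
  have hpair := autPair_of_invariant hinv hα
  have h4 := mapSub_isSubnormalIn hUp (U.subtype.comp α.toMonoidHom) hpair.inj h3
    (imageAlong_le_of_maps γ₀ hγ₀U T) le_rfl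
  have h5 : (mapSub (U.subtype.comp α.toMonoidHom) hpair.inj (imageAlong_le_of_maps γ₀ hγ₀U T)
      (mapSub γ₀ hinj₀ le_rfl E)).IsSubnormalIn D p :=
    sys_congr (motive := fun A X => (mapSub (U.subtype.comp α.toMonoidHom) hpair.inj
      (imageAlong_le_of_maps γ₀ hγ₀U T) (mapSub γ₀ hinj₀ le_rfl E)).IsSubnormalIn X p)
      hpair.image_top _ D hpair.map_hom h4
  have h6 := Cfsg.FusionSystem.IsSubnormalIn.step h5 h2
  have hcomp : (U.subtype.comp α.toMonoidHom).comp (γ₀.codRestrict U hγ₀U) = γ := by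
    ext t
    exact (hγe t (hγ₀U t)).symm
  have hκ : Function.Injective ((U.subtype.comp α.toMonoidHom).comp (γ₀.codRestrict U hγ₀U)) := by
    rw [hcomp]; exact hinj
  have hhom : ∀ P : Subgroup Ω, (mapSub (U.subtype.comp α.toMonoidHom) hpair.inj
      (imageAlong_le_of_maps γ₀ hγ₀U T) (mapSub γ₀ hinj₀ le_rfl E)).Hom P =
      (mapSub γ hinj le_rfl E).Hom P := by
    intro P
    rw [mapSub_comp_hom γ₀ hinj₀ hγ₀U (U.subtype.comp α.toMonoidHom) hpair.inj hκ le_rfl E P,
      mapSub_map_congr hcomp hκ hinj le_rfl E P]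
  have hbase : imageAlong (U.subtype.comp α.toMonoidHom) (imageAlong γ₀ T) = imageAlong γ T := by
    rw [imageAlong_comp γ₀ hγ₀U (U.subtype.comp α.toMonoidHom), hcomp]
  exact sys_congr (motive := fun A X => X.IsSubnormalIn F p) hbase _ _ hhom h6

/-- the image of a subnormal subsystem under a map of the big system is subnormal -/
theorem subnormal_image {T U : Subgroup Ω} {C : Cfsg.FusionSystem T} {D : Cfsg.FusionSystem U}
    {p : ℕ} (h : C.IsSubnormalIn D p) :
    ∀ (_ : Fact p.Prime) (_ : Finite U) (_ : IsPGroup p U) (_ : D.IsSaturated p)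
      (γ : T →* Ω) (_ : γ ∈ D.Hom T) (hinj : Function.Injective γ) (_ : Finite T),
      (mapSub γ hinj le_rfl C).IsSubnormalIn D p := by
  induction h with
  | refl F p =>
    intro hp hfin hS hF γ hγ hinj _
    exact refl_case hS hF γ hγ hinj
  | step h1 h2 ih =>
    intro hp hfinS hS hF γ hγ hinj hfinT
    have hUS := le_of_isNormalIn h2
    exact step_case hS h1 h2
      (fun γ₀ hγ₀ hinj₀ hfinT' => ih hp (finite_of_le hUS) (hS.to_le hUS) h2.1.1 γ₀ hγ₀ hinj₀ hfinT')
      γ hγ hinj hfinT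

end aux

/-- Let F be a saturated fusion system over a finite p-group S, C a component of F over T, and γ a map of F with source T. Then the image of C under γ — the fusion system over γ(T) whose maps are the homomorphisms induced along γ by the maps of C — is again a component of F. -/
theorem result {Ω : Type*} [Group Ω] {S : Subgroup Ω} [Finite S] (p : ℕ) [Fact p.Prime] (hS : IsPGroup p S) (F : Cfsg.FusionSystem S) (hF : F.IsSaturated p) {T : Subgroup Ω} (C : Cfsg.FusionSystem T) (hC : C.IsComponentIn F p) (γ : T →* Ω) (hγ : γ ∈ F.Hom T) (E : Cfsg.FusionSystem γ.range) (hE : C.IsFactorSystem ⊥ γ E) : E.IsComponentIn F p := by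
  have hTS : T ≤ S := source_le F hγ
  have hfinT : Finite T := finite_of_le hTS
  have hTp : IsPGroup p T := hS.to_le hTS
  have hinj : Function.Injective γ := F.injective_of_mem hγ
  have h1 : (mapSub γ hinj le_rfl C).IsSubnormalIn F p :=
    subnormal_image hC.1 inferInstance inferInstance hS hF γ hγ hinj hfinT
  have h2 : (mapSub γ hinj le_rfl C).Quasisimple p := mapSub_quasisimple hTp γ hinj le_rfl C hC.2
  have hfac := mapSub_isFactorSystem γ hinj le_rfl C
  have hres : res γ (le_refl T) = γ := by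
    ext t
    rfl
  obtain ⟨hA, hh⟩ := factor_unique hres hfac hE
  exact sys_congr (motive := fun A X => X.IsComponentIn F p) hA _ E hh ⟨h1, h2⟩

end Cfsg.Agent.S5154
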