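import Cfsg.Statements.S5156
import Cfsg.Agent.Lib.Helper27.ResSer7
import Cfsg.Agent.S5113
import Cfsg.Agent.S5140

set_option autoImplicit false
universe u
open Cfsg

namespace Cfsg.Agent.S5156

open Cfsg.FusionSystem Cfsg.Agent.Lib.Helper26 Cfsg.Agent.Lib.Helper27
  Cfsg.Agent.Lib.Helper27.ResSer

theorem piProp_of_bot {Ω : Type u} [Group Ω] {S : Subgroup Ω} (F : Cfsg.FusionSystem S) (p : ℕ)
    (hF : F.IsSaturated p) (hS0 : S = ⊥) : PiProp F p := by
  refine ⟨⟨hF, ⊥, isNormal_bot F, bot_le, fun Q' _ => ?_⟩, ?_⟩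
  · intro x hx
    have h1 : x = 1 := Subgroup.mem_bot.mp (hS0.le hx.1)
    rw [h1]
    exact Subgroup.one_mem _
  · have hcS : F.core ≤ S := sSup_le fun Q hQ => hQ.1
    have hsub : Subsingleton ↥F.core := by
      refine ⟨fun a b => Subtype.ext ?_⟩
      have ha : (a : Ω) = 1 := Subgroup.mem_bot.mp (hS0.le (hcS a.2))
      have hb : (b : Ω) = 1 := Subgroup.mem_bot.mp (hS0.le (hcS b.2))
      rw [ha, hb]
    have hsub2 : Subsingleton (MulAut ↥F.core) :=
      ⟨fun a b => MulEquiv.ext fun x => Subsingleton.elim _ _⟩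
    refine psolv_of_card (Or.inl ⟨0, ?_⟩)
    rw [pow_zero]
    exact Nat.card_unique

theorem piProp_of_series {Ω : Type u} [Group Ω] {S : Subgroup Ω} {F : Cfsg.FusionSystem S} {p : ℕ}
    (h : F.HasTerminatingResidualSeries p) :
    ∀ (_ : Fact p.Prime) (_ : Finite S) (_ : IsPGroup p S), F.IsSaturated p → PiProp F p := by
  induction h with
  | trivial F p hS0 =>
    intro _ _ _ hF
    exact piProp_of_bot F p hF hS0
  | step F E p D hE hD _ ih =>
    intro hp hfin hS hF
    have hTS := hyperfocal_le E p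
    have h1 := ih hp (finite_of_le hTS) (hS.to_le hTS) hD.1
    exact piProp_of_pPrimeResidual hS F hF E hE (piProp_of_pResidual hS E hE.1 D hD h1)

theorem isPPrimeResidual_self {Ω : Type u} [Group Ω] {S : Subgroup Ω} {p : ℕ}
    {F E : Cfsg.FusionSystem S} (hE : F.IsPPrimeResidual p E) : E.IsPPrimeResidual p E := by
  refine ⟨hE.1, ⟨fun _ _ h => h, fun P _ => Subgroup.map_subtype_le _⟩, fun D hDs hDi => ?_⟩
  refine hE.2.2 D hDs ⟨fun P => (hDi.1 P).trans (hE.2.1.1 P), fun P hPS => ?_⟩
  rw [Subgroup.map_le_iff_le_comap, Subgroup.closure_le]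
  rintro α ⟨k, hk⟩
  show (α : MulAut P) ∈ D.autGroup P
  have h1 : (α : MulAut P) ∈ E.autGroup P :=
    hE.2.1.2 P hPS ⟨α, Subgroup.subset_closure ⟨k, hk⟩, rfl⟩
  have h2 : orderOf (⟨(α : MulAut P), h1⟩ : E.autGroup P) = p ^ k := by
    rw [Subgroup.orderOf_mk, Subgroup.orderOf_coe]
    exact hk
  exact hDi.2 P hPS ⟨⟨(α : MulAut P), h1⟩, Subgroup.subset_closure ⟨k, h2⟩, rfl⟩

theorem series_of_piProp {Ω : Type u} [Group Ω] (p : ℕ) [Fact p.Prime] :
    ∀ (n : ℕ) (T : Subgroup Ω) [Finite T], Nat.card T = n → IsPGroup p T →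
      ∀ D : Cfsg.FusionSystem T, D.IsSaturated p → PiProp D p →
        D.HasTerminatingResidualSeries p := by
  intro n
  induction n using Nat.strong_induction_on with
  | _ n ih =>
    intro T _ hn hT D hD hPi
    by_cases hbot : T = ⊥
    · exact Cfsg.FusionSystem.HasTerminatingResidualSeries.trivial D p hbot
    · obtain ⟨E, hE⟩ := Cfsg.Agent.S5140.result p hT D hD
      have hPiE : PiProp E p :=
        piProp_of_subsystem hT D hPi E hE.1 hE.2.1.1 (stronglyClosed_top D)
      have hUT := hyperfocal_le E p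
      have hfinU : Finite ↥(E.hyperfocalSubgroup p) := finite_of_le hUT
      obtain ⟨D', ⟨hD's, hD'i⟩, -⟩ :=
        Cfsg.Agent.S5113.result p hT E hE.1 (E.hyperfocalSubgroup p) hUT le_rfl
      have hUsc : E.StronglyClosed (E.hyperfocalSubgroup p) :=
        ⟨hUT, fun R hR φ hφ x => Tate.apply_mem_hyperfocal hT E hE.1 hφ x (hR x.2)⟩
      have hPiD' : PiProp D' p := piProp_of_subsystem hT E hPiE D' hD's hD'i.1 hUsc
      have hlt : Nat.card ↥(E.hyperfocalSubgroup p) < n := by
        by_contra hge
        have hle : Nat.card ↥(E.hyperfocalSubgroup p) ≤ Nat.card T :=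
          Subgroup.card_le_of_le hUT
        have heq : E.hyperfocalSubgroup p = T :=
          Subgroup.eq_of_le_of_card_ge hUT (by omega)
        exact hbot (bot_of_full hT E hPiE (isPPrimeResidual_self hE) heq)
      have hser := ih _ hlt (E.hyperfocalSubgroup p) rfl (hT.to_le hUT) D' hD's hPiD'
      exact Cfsg.FusionSystem.HasTerminatingResidualSeries.step D E p D' hE ⟨hD's, hD'i⟩ hser

/-- A saturated fusion system over a finite p-group has a terminating alternating chain of p'-residual and p-residual subsystems (the chain reaches the trivial system — the notion of solvability adapted to fusion systems of p-solvable groups) if and only if it is constrained and its models are p-solvable (a model is a finite group realizing the system on a Sylow p-subgroup with self-centralizing largest normal p-subgroup; it exists and is unique up to isomorphism for constrained systems). -/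
theorem result {Ω : Type u} [Group Ω] {S : Subgroup Ω} [Finite S] (p : ℕ) [Fact p.Prime] (hS : IsPGroup p S) (F : Cfsg.FusionSystem S) (hF : F.IsSaturated p) : F.HasTerminatingResidualSeries p ↔ (F.IsConstrained p ∧ ∀ (G : Type u) [Group G] (ι : S →* G), F.IsModel p G ι → Cfsg.IsPSolvable p G) := by
  constructor
  · intro h
    have hPi := piProp_of_series h inferInstance inferInstance hS hF
    exact ⟨hPi.1, fun G _ ι hG => psolv_of_isModel F hPi ι hG⟩
  · rintro ⟨hcon, hmod⟩
    obtain ⟨G, _, ι, hG⟩ := Model.exists_model p hS F hcon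
    have hPi := piProp_of_isModel F hcon ι hG (hmod G ι hG)
    exact series_of_piProp p _ S rfl hS F hF hPi

end Cfsg.Agent.S5156
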