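import Cfsg.Statements.S5157
import Cfsg.Agent.Lib.Helper27.FusSolvable

set_option autoImplicit false
open Cfsg

namespace Cfsg.Agent.S5157

open Cfsg.FusionSystem Cfsg.Agent.Lib.Helper26 Cfsg.Agent.Lib.Helper27
open scoped commutatorElement

variable {Ω : Type*} [Group Ω] {S : Subgroup Ω}

theorem exists_chain_of_solvable [Finite S] {p : ℕ} [Fact p.Prime] (hS : IsPGroup p S)
    (F : FusionSystem S) (hF : F.IsSaturated p) (hsolv : F.IsSolvableSystem) :
    ∃ (n : ℕ) (T : Fin (n + 1) → Subgroup Ω), T 0 = ⊥ ∧ T (Fin.last n) = S ∧ Monotone T ∧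
      (∀ i, F.StronglyClosed (T i)) ∧ ∀ i : Fin n, ⁅T i.succ, T i.succ⁆ ≤ T (Fin.castSucc i) := by
  classical
  have hnext : ∀ R : Subgroup Ω, ∃ R₁ : Subgroup Ω, (F.StronglyClosed R → R ≠ S →
      F.StronglyClosed R₁ ∧ R < R₁ ∧ ⁅R₁, R₁⁆ ≤ R) := by
    intro R
    by_cases h : F.StronglyClosed R ∧ R ≠ S
    · obtain ⟨R₁, h1⟩ := exists_next hS hF hsolv h.1 h.2
      exact ⟨R₁, fun _ _ => h1⟩
    · exact ⟨S, fun h1 h2 => absurd ⟨h1, h2⟩ h⟩
  choose next hnext using hnext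
  obtain ⟨U, hU0, hUs⟩ : ∃ U : ℕ → Subgroup Ω, U 0 = ⊥ ∧
      ∀ k, U (k + 1) = if U k = S then S else next (U k) :=
    ⟨fun k => Nat.rec ⊥ (fun _ R => if R = S then S else next R) k, rfl, fun _ => rfl⟩
  have hSC : ∀ k, F.StronglyClosed (U k) := by
    intro k
    induction k with
    | zero => rw [hU0]; exact stronglyClosed_bot F
    | succ k ih =>
      rw [hUs]
      split_ifs with h
      · exact stronglyClosed_top F
      · exact (hnext _ ih h).1
  have hle : ∀ k, U k ≤ U (k + 1) := by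
    intro k
    rw [hUs]
    split_ifs with h
    · exact h.le
    · exact (hnext _ (hSC k) h).2.1.le
  have hcomm : ∀ k, ⁅U (k + 1), U (k + 1)⁆ ≤ U k := by
    intro k
    rw [hUs]
    split_ifs with h
    · rw [h, Subgroup.commutator_le]
      intro a ha b hb
      rw [commutatorElement_def]
      exact S.mul_mem (S.mul_mem (S.mul_mem ha hb) (S.inv_mem ha)) (S.inv_mem hb)
    · exact (hnext _ (hSC k) h).2.2
  have hcard : ∀ k, U k = S ∨ k < Nat.card (U k) := by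
    intro k
    induction k with
    | zero =>
      right
      rw [hU0]
      simp
    | succ k ih =>
      rw [hUs]
      split_ifs with h
      · left; rfl
      · right
        have h1 := (hnext _ (hSC k) h).2.1
        have hfin : Finite ↥(next (U k)) := finite_of_le (hnext _ (hSC k) h).1.1
        have h2 : Nat.card (U k) < Nat.card (next (U k)) := card_lt_card_of_lt h1
        rcases ih with h3 | h3
        · exact absurd h3 h
        · omega
  have hfinal : U (Nat.card S) = S := by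
    rcases hcard (Nat.card S) with h | h
    · exact h
    · exfalso
      have := card_le_card_of_le_of_finite (hSC (Nat.card S)).1
      omega
  refine ⟨Nat.card S, fun i => U i, hU0, ?_, ?_, fun i => hSC i, fun i => ?_⟩
  · show U ((Fin.last (Nat.card S) : Fin (Nat.card S + 1)) : ℕ) = S
    rw [Fin.val_last]
    exact hfinal
  · intro i j hij
    exact monotone_nat_of_le_succ hle hij
  · show ⁅U ((i.succ : Fin (Nat.card S + 1)) : ℕ), U ((i.succ : Fin (Nat.card S + 1)) : ℕ)⁆ ≤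
      U ((Fin.castSucc i : Fin (Nat.card S + 1)) : ℕ)
    rw [Fin.val_succ, Fin.val_castSucc]
    exact hcomm i

theorem solvable_of_chain [Finite S] {p : ℕ} [Fact p.Prime] (hS : IsPGroup p S)
    (F : FusionSystem S) (hF : F.IsSaturated p)
    (h : ∃ (n : ℕ) (T : Fin (n + 1) → Subgroup Ω), T 0 = ⊥ ∧ T (Fin.last n) = S ∧ Monotone T ∧
      (∀ i, F.StronglyClosed (T i)) ∧ ∀ i : Fin n, ⁅T i.succ, T i.succ⁆ ≤ T (Fin.castSucc i)) :
    F.IsSolvableSystem := by
  classical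
  obtain ⟨n, T, hT0, hTn, hmono, hSC, hcomm⟩ := h
  intro R hR hne _ E hE
  have hlast : ¬ T (Fin.last n) ≤ R := by
    rw [hTn]
    intro hle
    exact hne (le_antisymm hR.1 hle)
  obtain ⟨i, hi, hmin⟩ : ∃ i ∈ {k : Fin (n + 1) | ¬ T k ≤ R}, ∀ k ∈ {k : Fin (n + 1) | ¬ T k ≤ R},
      ¬ k < i :=
    (IsWellFounded.wf (r := ((· < ·) : Fin (n + 1) → Fin (n + 1) → Prop))).has_min
      {k : Fin (n + 1) | ¬ T k ≤ R} ⟨_, hlast⟩
  have hi : ¬ T i ≤ R := hi
  have hi0 : i ≠ 0 := by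
    intro h0
    rw [h0, hT0] at hi
    exact hi bot_le
  obtain ⟨j, hj⟩ := Fin.exists_succ_eq.mpr hi0
  have hjR : T (Fin.castSucc j) ≤ R := by
    by_contra hcon
    exact hmin _ hcon (by rw [← hj]; exact Fin.castSucc_lt_succ)
  rw [← hj] at hi
  have hA : F.StronglyClosed (T j.succ ⊔ R) :=
    Cfsg.Agent.S5128.result p hS F hF _ _ (hSC _) hR
  have hA' := image_stronglyClosed hE hA le_sup_right
  have hEsat : E.IsSaturated p := factor_saturated hS hF hR hE
  have hpq : IsPGroup p (↥S ⧸ R.subgroupOf S) := hS.to_quotient _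
  have hS' : IsPGroup p ↥(⊤ : Subgroup (↥S ⧸ R.subgroupOf S)) := hpq.to_subgroup _
  have hTS : T j.succ ≤ S := (hSC _).1
  have hnorm : T j.succ ≤ Subgroup.normalizer (R : Set Ω) :=
    hTS.trans (le_normalizer_of_stronglyClosed F hR)
  have hdecomp : ∀ a : ↥S, (a : Ω) ∈ T j.succ ⊔ R → ∃ t : ↥S, (t : Ω) ∈ T j.succ ∧
      QuotientGroup.mk' (R.subgroupOf S) a = QuotientGroup.mk' (R.subgroupOf S) t := by
    intro a ha
    obtain ⟨t, ht, r, hr, e⟩ := exists_mul_of_mem_sup hnorm ha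
    refine ⟨⟨t, hTS ht⟩, ht, ?_⟩
    have hrS : r ∈ S := hR.1 hr
    have e' : a = (⟨t, hTS ht⟩ : ↥S) * ⟨r, hrS⟩ := Subtype.ext e
    rw [e', map_mul, (mk'_ker_iff R ⟨r, hrS⟩).mpr hr, mul_one]
  refine (Cfsg.Agent.S5089.result p hS' E hEsat).mpr ⟨_, ?_, ?_, hA'⟩
  · intro hbot
    apply hi
    intro t ht
    have htS : t ∈ S := hTS ht
    have hmem : QuotientGroup.mk' (R.subgroupOf S) ⟨t, htS⟩ ∈
        ((T j.succ ⊔ R).subgroupOf S).map (QuotientGroup.mk' (R.subgroupOf S)) :=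
      ⟨⟨t, htS⟩, Subgroup.mem_subgroupOf.mpr ((le_sup_left : T j.succ ≤ _) ht), rfl⟩
    rw [hbot, Subgroup.mem_bot] at hmem
    exact (mk'_ker_iff R ⟨t, htS⟩).mp hmem
  · refine ⟨⟨fun a b => Subtype.ext ?_⟩⟩
    obtain ⟨a0, ha0, hae⟩ := a.2
    obtain ⟨b0, hb0, hbe⟩ := b.2
    obtain ⟨ta, hta, hea⟩ := hdecomp a0 (Subgroup.mem_subgroupOf.mp ha0)
    obtain ⟨tb, htb, heb⟩ := hdecomp b0 (Subgroup.mem_subgroupOf.mp hb0)
    show (a : ↥S ⧸ R.subgroupOf S) * b = b * a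
    rw [← hae, ← hbe, hea, heb, ← map_mul, ← map_mul]
    have hc : ⁅(ta : Ω), (tb : Ω)⁆ ∈ R :=
      hjR (hcomm j (Subgroup.commutator_mem_commutator hta htb))
    have hc' : QuotientGroup.mk' (R.subgroupOf S) ⁅ta, tb⁆ = 1 := by
      refine (mk'_ker_iff R _).mpr ?_
      simpa [commutatorElement_def] using hc
    have e : ta * tb = ⁅ta, tb⁆ * (tb * ta) := by
      rw [commutatorElement_def]; group
    rw [e, map_mul, hc', one_mul]

theorem result {Ω : Type*} [Group Ω] {S : Subgroup Ω} [Finite S] (p : ℕ) [Fact p.Prime] (hS : IsPGroup p S) (F : Cfsg.FusionSystem S) (hF : F.IsSaturated p) : F.IsSolvableSystem ↔ ∃ (n : ℕ) (T : Fin (n + 1) → Subgroup Ω), T 0 = ⊥ ∧ T (Fin.last n) = S ∧ Monotone T ∧ (∀ i, F.StronglyClosed (T i)) ∧ ∀ i : Fin n, ⁅T i.succ, T i.succ⁆ ≤ T (Fin.castSucc i) := by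
  exact ⟨exists_chain_of_solvable hS F hF, solvable_of_chain hS F hF⟩

end Cfsg.Agent.S5157
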