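import Cfsg.Statements.S5158
import Cfsg.Agent.S5157
import Cfsg.Agent.Lib.Helper26.FusionSeries4
import Cfsg.Agent.Lib.Helper27.FusJoin

set_option autoImplicit false
open Cfsg

namespace Cfsg.Agent.S5158

open Cfsg.FusionSystem Cfsg.Agent.Lib.Helper26 Cfsg.Agent.Lib.Helper27
open scoped commutatorElement

variable {Ω : Type*} [Group Ω] {S : Subgroup Ω}

theorem comm_mul_mul {G : Type*} [Group G] {x₁ x₂ q₁ q₂ : G} (h11 : Commute x₁ q₁)
    (h12 : Commute x₁ q₂) (h21 : Commute x₂ q₁) (h22 : Commute x₂ q₂) :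
    ⁅x₁ * q₁, x₂ * q₂⁆ = ⁅x₁, x₂⁆ * ⁅q₁, q₂⁆ := by
  rw [commutatorElement_def, commutatorElement_def, commutatorElement_def]
  have e1 : (x₁ * q₁)⁻¹ = x₁⁻¹ * q₁⁻¹ := by
    rw [mul_inv_rev]
    exact (h11.inv_inv).eq.symm
  have e2 : (x₂ * q₂)⁻¹ = x₂⁻¹ * q₂⁻¹ := by
    rw [mul_inv_rev]
    exact (h22.inv_inv).eq.symm
  rw [e1, e2, h21.symm.mul_mul_mul_comm]
  have c1 : Commute (q₁ * q₂) x₁⁻¹ := (h11.symm.mul_left h12.symm).inv_right
  rw [c1.mul_mul_mul_comm]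
  have c2 : Commute (q₁ * q₂ * q₁⁻¹) x₂⁻¹ :=
    ((h21.symm.mul_left h22.symm).mul_left h21.symm.inv_left).inv_right
  rw [c2.mul_mul_mul_comm]

theorem centralizerIn_stronglyClosed (F : FusionSystem S) {Q : Subgroup Ω} (hQ : F.IsNormal Q) :
    F.StronglyClosed (centralizerIn S Q) := by
  refine ⟨inf_le_left, fun P hP φ hφ x => ?_⟩
  obtain ⟨ψ, hψ, hψφ, hψQ⟩ := hQ.2 P φ hφ
  refine ⟨apply_mem F hφ x, ?_⟩
  show φ x ∈ Subgroup.centralizer (Q : Set Ω)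
  rw [Subgroup.mem_centralizer_iff]
  intro q hq
  have hq2 : q ∈ (Q.subgroupOf (P ⊔ Q)).map ψ := by rw [hψQ]; exact hq
  obtain ⟨q', hq', rfl⟩ := hq2
  rw [← hψφ x, ← map_mul, ← map_mul]
  congr 1
  apply Subtype.ext
  have hx := (hP x.2).2
  exact Subgroup.mem_centralizer_iff.mp hx q' (Subgroup.mem_subgroupOf.mp hq')

theorem stronglyClosed_inf (F : FusionSystem S) {A B : Subgroup Ω} (hA : F.StronglyClosed A)
    (hB : F.StronglyClosed B) : F.StronglyClosed (A ⊓ B) :=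
  ⟨inf_le_left.trans hA.1, fun P hP φ hφ x =>
    ⟨hA.2 P (hP.trans inf_le_left) φ hφ x, hB.2 P (hP.trans inf_le_right) φ hφ x⟩⟩

theorem centralizer_le_core [Finite S] (p : ℕ) [Fact p.Prime] (hS : IsPGroup p S)
    (F : FusionSystem S) (hF : F.IsSaturated p) (h : F.IsSolvableSystem) :
    centralizerIn S F.core ≤ F.core := by
  classical
  have hQ : F.IsNormal F.core := isNormal_core F
  obtain ⟨Q, hQdef⟩ : ∃ Q, Q = F.core := ⟨_, rfl⟩
  rw [← hQdef] at hQ ⊢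
  have hQsc : F.StronglyClosed Q := stronglyClosed_of_isNormal F hQ
  have hC : F.StronglyClosed (centralizerIn S Q) := centralizerIn_stronglyClosed F hQ
  by_contra hcon
  obtain ⟨n, T, hT0, hTn, -, hSC, hcomm⟩ := (Cfsg.Agent.S5157.result p hS F hF).mp h
  have hlast : ¬ T (Fin.last n) ⊓ centralizerIn S Q ≤ Q := by
    rw [hTn]
    intro hle
    exact hcon (fun x hx => hle ⟨hx.1, hx⟩)
  obtain ⟨i, hi, hmin⟩ : ∃ i ∈ {k : Fin (n + 1) | ¬ T k ⊓ centralizerIn S Q ≤ Q},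
      ∀ k ∈ {k : Fin (n + 1) | ¬ T k ⊓ centralizerIn S Q ≤ Q}, ¬ k < i :=
    (IsWellFounded.wf (r := ((· < ·) : Fin (n + 1) → Fin (n + 1) → Prop))).has_min
      {k : Fin (n + 1) | ¬ T k ⊓ centralizerIn S Q ≤ Q} ⟨_, hlast⟩
  have hi : ¬ T i ⊓ centralizerIn S Q ≤ Q := hi
  have hi0 : i ≠ 0 := by
    intro h0
    rw [h0, hT0] at hi
    exact hi (inf_le_left.trans bot_le)
  obtain ⟨j, hj⟩ := Fin.exists_succ_eq.mpr hi0
  have hjQ : T (Fin.castSucc j) ⊓ centralizerIn S Q ≤ Q := by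
    by_contra hcon2
    exact hmin _ hcon2 (by rw [← hj]; exact Fin.castSucc_lt_succ)
  rw [← hj] at hi
  obtain ⟨X, hXdef⟩ : ∃ X, X = T j.succ ⊓ centralizerIn S Q := ⟨_, rfl⟩
  rw [← hXdef] at hi
  have hX : F.StronglyClosed X := hXdef ▸ stronglyClosed_inf F (hSC _) hC
  have hY : F.StronglyClosed (X ⊔ Q) := Cfsg.Agent.S5128.result p hS F hF _ _ hX hQsc
  have hXcent : ∀ x ∈ X, ∀ q ∈ Q, Commute x q := by
    intro x hx q hq
    rw [hXdef] at hx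
    exact (Subgroup.mem_centralizer_iff.mp hx.2.2 q hq).symm
  have hXX : ⁅X, X⁆ ≤ Q := by
    refine le_trans ?_ hjQ
    rw [hXdef]
    refine le_inf ((Subgroup.commutator_mono inf_le_left inf_le_left).trans (hcomm j)) ?_
    rw [Subgroup.commutator_le]
    intro a ha b hb
    rw [commutatorElement_def]
    have ha' := ha.2
    have hb' := hb.2
    exact Subgroup.mul_mem _ (Subgroup.mul_mem _ (Subgroup.mul_mem _ ha' hb')
      (Subgroup.inv_mem _ ha')) (Subgroup.inv_mem _ hb')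
  have hXn : X ≤ Subgroup.normalizer (Q : Set Ω) :=
    hX.1.trans (le_normalizer_of_stronglyClosed F hQsc)
  have hYcomm : ∀ {Z Z' : Subgroup Ω}, Z ≤ Q → ⁅Q, Z⁆ ≤ Z' →
      ∀ y ∈ X ⊔ Q, ∀ x₂ ∈ X, ∀ q₂ ∈ Z, (∀ x₁ ∈ X, ⁅x₁, x₂⁆ ∈ Z') → ⁅y, x₂ * q₂⁆ ∈ Z' := by
    intro Z Z' hZQ hQZ y hy x₂ hx₂ q₂ hq₂ hXZ
    obtain ⟨x₁, hx₁, q₁, hq₁, rfl⟩ := exists_mul_of_mem_sup hXn hy
    rw [comm_mul_mul (hXcent x₁ hx₁ q₁ hq₁) (hXcent x₁ hx₁ q₂ (hZQ hq₂))
      (hXcent x₂ hx₂ q₁ hq₁) (hXcent x₂ hx₂ q₂ (hZQ hq₂))]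
    exact Z'.mul_mem (hXZ x₁ hx₁) (hQZ (Subgroup.commutator_mem_commutator hq₁ hq₂))
  obtain ⟨m, hm⟩ := exists_ucs_eq hS hQ.1
  have hYn : F.IsNormal (X ⊔ Q) := by
    refine isNormal_of_chain hS F hF (X ⊔ Q) (m + 1)
      (fun i => if (i : ℕ) ≤ m then ucs Q i else X ⊔ Q) ?_ ?_ ?_
    · show (if ((0 : Fin (m + 1 + 1)) : ℕ) ≤ m then ucs Q ((0 : Fin (m + 1 + 1)) : ℕ) else X ⊔ Q) = ⊥
      rw [if_pos (by simp), Fin.val_zero, ucs_zero]
    · show (if ((Fin.last (m + 1) : Fin (m + 1 + 1)) : ℕ) ≤ m then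
        ucs Q ((Fin.last (m + 1) : Fin (m + 1 + 1)) : ℕ) else X ⊔ Q) = X ⊔ Q
      rw [if_neg (by simp)]
    · intro k
      show F.StronglyClosed (if ((k.succ : Fin (m + 1 + 1)) : ℕ) ≤ m then
          ucs Q ((k.succ : Fin (m + 1 + 1)) : ℕ) else X ⊔ Q) ∧
        ⁅X ⊔ Q, (if ((k.succ : Fin (m + 1 + 1)) : ℕ) ≤ m then
          ucs Q ((k.succ : Fin (m + 1 + 1)) : ℕ) else X ⊔ Q)⁆ ≤
        (if ((Fin.castSucc k : Fin (m + 1 + 1)) : ℕ) ≤ m then
          ucs Q ((Fin.castSucc k : Fin (m + 1 + 1)) : ℕ) else X ⊔ Q)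
      rw [Fin.val_succ, Fin.val_castSucc, if_pos (Nat.lt_succ_iff.mp k.2)]
      by_cases hk : (k : ℕ) + 1 ≤ m
      · rw [if_pos hk]
        refine ⟨stronglyClosed_ucs_of_isNormal F hQ _, ?_⟩
        rw [Subgroup.commutator_le]
        intro y hy z hz
        have h1 := hYcomm (ucs_le Q _) (commutator_ucs_le Q k) y hy 1 X.one_mem z hz
          (fun x₁ _ => by rw [commutatorElement_one_right]; exact Subgroup.one_mem _)
        rwa [one_mul] at h1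
      · rw [if_neg hk]
        have hkm : (k : ℕ) = m := by
          have := k.2
          omega
        rw [hkm, hm]
        refine ⟨hY, ?_⟩
        rw [Subgroup.commutator_le]
        intro y hy z hz
        have hQQ : ⁅Q, Q⁆ ≤ Q := by
          rw [Subgroup.commutator_le]
          intro a ha b hb
          rw [commutatorElement_def]
          exact Q.mul_mem (Q.mul_mem (Q.mul_mem ha hb) (Q.inv_mem ha)) (Q.inv_mem hb)
        obtain ⟨x₂, hx₂, q₂, hq₂, rfl⟩ := exists_mul_of_mem_sup hXn hz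
        exact hYcomm le_rfl hQQ y hy x₂ hx₂ q₂ hq₂
          (fun x₁ hx₁ => hXX (Subgroup.commutator_mem_commutator hx₁ hx₂))
  have hle : X ⊔ Q ≤ F.core := le_sSup hYn
  rw [← hQdef] at hle
  exact hi (le_sup_left.trans hle)

theorem result {Ω : Type*} [Group Ω] {S : Subgroup Ω} [Finite S] (p : ℕ) [Fact p.Prime] (hS : IsPGroup p S) (F : Cfsg.FusionSystem S) (hF : F.IsSaturated p) (h : F.IsSolvableSystem) : F.IsConstrained p := by
  have hQ : F.IsNormal F.core := isNormal_core F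
  have hQsc : F.StronglyClosed F.core := stronglyClosed_of_isNormal F hQ
  refine ⟨hF, F.core, hQ, hQ.1, fun Q' hconj => ?_⟩
  have h1 : F.core ≤ Q' := le_of_isConj_of_stronglyClosed F hQsc le_rfl hconj
  have h2 : Q' ≤ F.core := by
    obtain ⟨φ, hφ, rfl⟩ := hconj
    rintro _ ⟨x, rfl⟩
    exact hQsc.2 _ le_rfl φ hφ x
  have e : Q' = F.core := le_antisymm h2 h1
  rw [e]
  exact centralizer_le_core p hS F hF h

end Cfsg.Agent.S5158
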