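import Cfsg.Statements.S5159
import Cfsg.Agent.S5157
import Cfsg.Agent.Lib.Helper27.FusSolvable2

set_option autoImplicit false
open Cfsg

namespace Cfsg.Agent.S5159

open Cfsg.FusionSystem Cfsg.Agent.Lib.Helper26 Cfsg.Agent.Lib.Helper27
open scoped commutatorElement

variable {Ω : Type*} [Group Ω] {S : Subgroup Ω} {Ω' : Type*} [Group Ω'] {S' : Subgroup Ω'}

theorem forward [Finite S] (p : ℕ) [Fact p.Prime] (hS : IsPGroup p S) (F : FusionSystem S)
    (hF : F.IsSaturated p) {T : Subgroup Ω} (E : FusionSystem T) (hE : E.IsNormalIn F p)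
    (θ : S →* Ω') (D : FusionSystem S') (hD : F.IsFactorSystem T θ D) [Finite S']
    (hS' : IsPGroup p S') (h : F.IsSolvableSystem) :
    E.IsSolvableSystem ∧ D.IsSolvableSystem := by
  have hT : F.StronglyClosed T := hE.1.2.2.2.1
  have hTS : T ≤ S := hT.1
  have hfinT : Finite T := finite_of_le hTS
  have hpT : IsPGroup p T := hS.to_le hTS
  have hsub : E.IsSubsystemOf F := hE.1.2.2.1
  obtain ⟨n, U, hU0, hUn, hmono, hSC, hcomm⟩ := (Cfsg.Agent.S5157.result p hS F hF).mp h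
  constructor
  · refine (Cfsg.Agent.S5157.result p hpT E hE.1.1).mpr ⟨n, fun i => U i ⊓ T, ?_, ?_, ?_, ?_, ?_⟩
    · show U 0 ⊓ T = ⊥
      rw [hU0, bot_inf_eq]
    · show U (Fin.last n) ⊓ T = T
      rw [hUn]
      exact inf_eq_right.mpr hTS
    · intro i j hij
      exact inf_le_inf_right T (hmono hij)
    · intro i
      exact ⟨inf_le_right, fun P hP φ hφ x =>
        ⟨(hSC i).2 P (hP.trans inf_le_left) φ (hsub P hφ) x, apply_mem E hφ x⟩⟩
    · intro i
      refine le_inf ((Subgroup.commutator_mono inf_le_left inf_le_left).trans (hcomm i)) ?_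
      rw [Subgroup.commutator_le]
      intro a ha b hb
      rw [commutatorElement_def]
      exact T.mul_mem (T.mul_mem (T.mul_mem ha.2 hb.2) (T.inv_mem ha.2)) (T.inv_mem hb.2)
  · have hDsat : D.IsSaturated p := factor_saturated hS hF hT hD
    have hnorm : S ≤ Subgroup.normalizer (T : Set Ω) := le_normalizer_of_stronglyClosed F hT
    have hdecomp : ∀ (i : Fin (n + 1)) (a : ↥S), (a : Ω) ∈ U i ⊔ T → ∃ t : ↥S, (t : Ω) ∈ U i ∧
        θ a = θ t := by
      intro i a ha
      obtain ⟨t, ht, r, hr, e⟩ := exists_mul_of_mem_sup ((hSC i).1.trans hnorm) ha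
      refine ⟨⟨t, (hSC i).1 ht⟩, ht, ?_⟩
      have hrS : r ∈ S := hTS hr
      have e' : a = (⟨t, (hSC i).1 ht⟩ : ↥S) * ⟨r, hrS⟩ := Subtype.ext e
      rw [e', map_mul, (hD.2.1 ⟨r, hrS⟩).mpr hr, mul_one]
    refine (Cfsg.Agent.S5157.result p hS' D hDsat).mpr
      ⟨n, fun i => ((U i ⊔ T).subgroupOf S).map θ, ?_, ?_, ?_, ?_, ?_⟩
    · show ((U 0 ⊔ T).subgroupOf S).map θ = ⊥
      rw [hU0, bot_sup_eq, eq_bot_iff]
      rintro _ ⟨s, hs, rfl⟩
      exact Subgroup.mem_bot.mpr ((hD.2.1 s).mpr (Subgroup.mem_subgroupOf.mp hs))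
    · show ((U (Fin.last n) ⊔ T).subgroupOf S).map θ = S'
      refine le_antisymm (map_le_of_factor hD _) ?_
      rw [← hD.2.2.1]
      rintro _ ⟨s, rfl⟩
      refine ⟨s, Subgroup.mem_subgroupOf.mpr ?_, rfl⟩
      rw [hUn]
      exact (le_sup_left : S ≤ S ⊔ T) s.2
    · intro i j hij
      refine Subgroup.map_mono ?_
      intro s hs
      exact Subgroup.mem_subgroupOf.mpr
        (sup_le_sup_right (hmono hij) T (Subgroup.mem_subgroupOf.mp hs))
    · intro i
      exact image_stronglyClosed hD (Cfsg.Agent.S5128.result p hS F hF _ _ (hSC i) hT) le_sup_right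
    · intro i
      rw [Subgroup.commutator_le]
      rintro _ ⟨a0, ha0, rfl⟩ _ ⟨b0, hb0, rfl⟩
      obtain ⟨ta, hta, hea⟩ := hdecomp i.succ a0 (Subgroup.mem_subgroupOf.mp ha0)
      obtain ⟨tb, htb, heb⟩ := hdecomp i.succ b0 (Subgroup.mem_subgroupOf.mp hb0)
      rw [hea, heb, ← map_commutatorElement]
      refine ⟨⁅ta, tb⁆, Subgroup.mem_subgroupOf.mpr ?_, rfl⟩
      have hc : ⁅(ta : Ω), (tb : Ω)⁆ ∈ U (Fin.castSucc i) :=
        hcomm i (Subgroup.commutator_mem_commutator hta htb)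
      have hc' : ((⁅ta, tb⁆ : ↥S) : Ω) ∈ U (Fin.castSucc i) := by
        simpa [commutatorElement_def] using hc
      exact (le_sup_left : U (Fin.castSucc i) ≤ _) hc'

theorem backward [Finite S] (p : ℕ) [Fact p.Prime] (hS : IsPGroup p S) (F : FusionSystem S)
    (hF : F.IsSaturated p) {T : Subgroup Ω} (E : FusionSystem T) (hE : E.IsNormalIn F p)
    (θ : S →* Ω') (D : FusionSystem S') (hD : F.IsFactorSystem T θ D) [Finite S']
    (hS' : IsPGroup p S') (hEs : E.IsSolvableSystem) (hDs : D.IsSolvableSystem) :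
    F.IsSolvableSystem := by
  have hT : F.StronglyClosed T := hE.1.2.2.2.1
  have hTS : T ≤ S := hT.1
  have hfinT : Finite T := finite_of_le hTS
  have hpT : IsPGroup p T := hS.to_le hTS
  have hDsat : D.IsSaturated p := factor_saturated hS hF hT hD
  obtain ⟨n, U, hU0, hUn, -, hSC, hcomm⟩ := (Cfsg.Agent.S5157.result p hpT E hE.1.1).mp hEs
  obtain ⟨m, V, hV0, hVm, -, hSCV, hcommV⟩ := (Cfsg.Agent.S5157.result p hS' D hDsat).mp hDs
  have h1 : Relation.ReflTransGen (StepRel E) ⊥ T := by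
    have := rtg_of_chain E hU0 hSC hcomm (Fin.last n)
    rwa [hUn] at this
  have h2 : Relation.ReflTransGen (StepRel D) ⊥ S' := by
    have := rtg_of_chain D hV0 hSCV hcommV (Fin.last m)
    rwa [hVm] at this
  have h3 := rtg_bot_of_invariant hE.1.2.2 h1
  have h4 := rtg_preimage hS hF hT hD h2
  rw [preimageAlong_bot hD, preimageAlong_top' hD] at h4
  exact solvable_of_rtg hS hF (h3.trans h4)

theorem result {Ω : Type*} [Group Ω] {S : Subgroup Ω} [Finite S] (p : ℕ) [Fact p.Prime] (hS : IsPGroup p S) (F : Cfsg.FusionSystem S) (hF : F.IsSaturated p) {T : Subgroup Ω} (E : Cfsg.FusionSystem T) (hE : E.IsNormalIn F p) {Ω' : Type*} [Group Ω'] {S' : Subgroup Ω'} (θ : S →* Ω') (D : Cfsg.FusionSystem S') (hD : F.IsFactorSystem T θ D) : F.IsSolvableSystem ↔ (E.IsSolvableSystem ∧ D.IsSolvableSystem) := by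
  have hr : θ.range = S' := hD.2.2.1
  have hfin : Finite S' := by
    rw [← hr]
    exact Finite.of_surjective θ.rangeRestrict θ.rangeRestrict_surjective
  have hS' : IsPGroup p S' := by
    rw [← hr]
    exact IsPGroup.of_surjective hS θ.rangeRestrict θ.rangeRestrict_surjective
  exact ⟨forward p hS F hF E hE θ D hD hS', fun h => backward p hS F hF E hE θ D hD hS' h.1 h.2⟩

end Cfsg.Agent.S5159
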