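import Cfsg.Statements.S5163
import Cfsg.Agent.Lib.Helper27.UniTriE
import Cfsg.Agent.Lib.Helper27.FusSimpleQuot

set_option autoImplicit false
open Cfsg

namespace Cfsg.Agent.S5163

open Matrix Cfsg.Agent.Lib.Helper27.UniTri Cfsg.Agent.Lib.Helper27.FusSimpleQuot

/-- the centre of `SL_n(K)` has order prime to the characteristic -/
theorem center_coprime {K : Type*} [Field K] [Fintype K] (p : ℕ) [Fact p.Prime] [CharP K p] (n : ℕ)
    (hn : 1 ≤ n) :
    (Nat.card (Subgroup.center (SpecialLinearGroup (Fin n) K))).Coprime p := by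
  have hp : p.Prime := Fact.out
  rw [Nat.coprime_comm, Nat.Prime.coprime_iff_not_dvd hp]
  intro hdvd
  obtain ⟨z, hz⟩ := exists_prime_orderOf_dvd_card' (G := Subgroup.center (SpecialLinearGroup (Fin n) K))
    p hdvd
  have hzp : (z : SpecialLinearGroup (Fin n) K) ^ p = 1 := by
    have := pow_orderOf_eq_one z
    rw [hz] at this
    have := congrArg Subtype.val this
    simpa using this
  obtain ⟨r, -, hr⟩ := Matrix.SpecialLinearGroup.mem_center_iff.mp z.2
  have hzp' : ((z : SpecialLinearGroup (Fin n) K) : Matrix (Fin n) (Fin n) K) ^ p = 1 := by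
    have := congrArg (fun x : SpecialLinearGroup (Fin n) K => (x : Matrix (Fin n) (Fin n) K)) hzp
    simpa using this
  rw [← hr, ← map_pow] at hzp'
  have hrp : r ^ p = 1 := by
    have := congrFun (congrFun hzp' ⟨0, by omega⟩) ⟨0, by omega⟩
    simpa using this
  have hr1 : r = 1 := by
    have h1 : (r - 1) ^ p = 0 := by
      rw [sub_pow_char, hrp, one_pow, sub_self]
    exact sub_eq_zero.mp (pow_eq_zero_iff hp.ne_zero |>.mp h1)
  have hz1 : z = 1 := by
    apply Subtype.ext
    apply Subtype.ext
    show ((z : SpecialLinearGroup (Fin n) K) : Matrix (Fin n) (Fin n) K) = 1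
    rw [← hr, hr1, map_one]
  rw [hz1, orderOf_one] at hz
  exact hp.one_lt.ne hz

/-- For a finite field K of characteristic p and n ≥ 3, the p-fusion system of the projective special linear group PSL_n(K) on a Sylow p-subgroup is simple. -/
theorem result {K : Type*} [Field K] [Fintype K] (p : ℕ) [Fact p.Prime] [CharP K p] (n : ℕ) (hn : 3 ≤ n) (S : Sylow p (Matrix.ProjectiveSpecialLinearGroup (Fin n) K)) : (Cfsg.groupFusionSystem (S : Subgroup (Matrix.ProjectiveSpecialLinearGroup (Fin n) K))).IsSimple p := by
  classical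
  have hn1 : 1 ≤ n := by omega
  set π₀ := QuotientGroup.mk' (Subgroup.center (SpecialLinearGroup (Fin n) K)) with hπ₀def
  have hπ₀ : Function.Surjective π₀ := QuotientGroup.mk'_surjective _
  set U := uniSylow (K := K) (n := n) p hn1 with hU
  obtain ⟨g, hg⟩ := MulAction.exists_smul_eq (ProjectiveSpecialLinearGroup (Fin n) K)
    (U.mapSurjective hπ₀) S
  set π := (MulAut.conj g).toMonoidHom.comp π₀ with hπdef
  have hπ : Function.Surjective π := (MulAut.conj g).surjective.comp hπ₀
  have hker : π.ker = Subgroup.center (SpecialLinearGroup (Fin n) K) := by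
    ext x
    rw [MonoidHom.mem_ker, hπdef, MonoidHom.comp_apply]
    constructor
    · intro h
      have h1 : π₀ x = 1 := by
        have := (MulAut.conj g).injective (h.trans (map_one _).symm)
        exact this
      rwa [hπ₀def, QuotientGroup.mk'_apply, QuotientGroup.eq_one_iff] at h1
    · intro h
      have h1 : π₀ x = 1 := by
        rwa [hπ₀def, QuotientGroup.mk'_apply, QuotientGroup.eq_one_iff]
      rw [h1, map_one]
  have hS : (S : Subgroup (ProjectiveSpecialLinearGroup (Fin n) K)) =
      (U : Subgroup (SpecialLinearGroup (Fin n) K)).map π := by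
    rw [← hg, Sylow.coe_subgroup_smul, Sylow.coe_mapSurjective, hπdef, ← Subgroup.map_map]
    rfl
  have hker1 : π.ker ≤ Subgroup.center (SpecialLinearGroup (Fin n) K) := by rw [hker]
  have hker2 : (Nat.card π.ker).Coprime p := by
    rw [hker]
    exact center_coprime (K := K) p n hn1
  apply isSimple_of_central_quotient p π hπ hker1 hker2 U S hS
  · -- nontrivial
    rw [hU, coe_uniSylow]
    intro hbot
    have h01 : (⟨0, by omega⟩ : Fin n) < ⟨1, by omega⟩ := by
      rw [Fin.lt_def]
      exact Nat.zero_lt_one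
    have hmem := transvection_mem_uni (K := K) h01 1
    rw [hbot, Subgroup.mem_bot] at hmem
    have := congrArg (fun x : SpecialLinearGroup (Fin n) K =>
      (x : Matrix (Fin n) (Fin n) K) ⟨0, by omega⟩ ⟨1, by omega⟩) hmem
    simp [SpecialLinearGroup.transvection_coe] at this
  · intro T hT hT1 hcl
    rw [hU, coe_uniSylow] at hT hcl ⊢
    exact eq_uni_of_closed p hn T hT hT1 hcl
  · rw [hU, coe_uniSylow]
    exact normalizer_uni_le_closure p hn

end Cfsg.Agent.S5163
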