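import Cfsg.Statements.S5164
-- import your own Cfsg.Agent.* helpers here

set_option autoImplicit false
open Cfsg

namespace Cfsg.Agent.S5164


theorem comm_of_pgroup_small {n p : ℕ} [Fact p.Prime] (hn : n < p ^ 2)
    (P : Subgroup (Equiv.Perm (Fin n))) (hP : IsPGroup p P) (g h : Equiv.Perm (Fin n))
    (hg : g ∈ P) (hh : h ∈ P) : g * h = h * g := by
  have hp : p.Prime := Fact.out
  ext x
  obtain ⟨k, hk⟩ := hP.card_orbit x
  have hle : Nat.card (MulAction.orbit P x) ≤ n := by
    have := Nat.card_le_card_of_injective (Subtype.val : MulAction.orbit P x → Fin n)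
      Subtype.val_injective
    simpa using this
  have hk1 : k ≤ 1 := by
    by_contra hcon
    push Not at hcon
    have : p ^ 2 ≤ p ^ k := Nat.pow_le_pow_right hp.pos hcon
    omega
  let ρ := MulAction.toPermHom P (MulAction.orbit P x)
  have hR : IsPGroup p ρ.range := hP.of_surjective ρ.rangeRestrict ρ.rangeRestrict_surjective
  obtain ⟨j, hj⟩ := hR.exists_card_eq
  have hdvd : Nat.card ρ.range ∣ (p ^ k).factorial := by
    have := Subgroup.card_subgroup_dvd_card ρ.range
    rw [Nat.card_perm, hk] at this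
    exact this
  have hj1 : Nat.card ρ.range ∣ p := by
    rw [hj] at hdvd ⊢
    have hpk : p ^ k ≤ p := by
      calc p ^ k ≤ p ^ 1 := Nat.pow_le_pow_right hp.pos hk1
        _ = p := pow_one p
    have hdvd' : p ^ j ∣ p.factorial := hdvd.trans (Nat.factorial_dvd_factorial hpk)
    by_cases hj2 : j ≤ 1
    · exact (Nat.pow_dvd_pow p hj2).trans (by rw [pow_one])
    · exfalso
      push Not at hj2
      have h2 : p ^ 2 ∣ p.factorial := (Nat.pow_dvd_pow p hj2).trans hdvd'
      have h3 : p.factorial = p * (p - 1).factorial := by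
        obtain ⟨m, rfl⟩ : ∃ m, p = m + 1 := ⟨p - 1, (Nat.succ_pred_eq_of_pos hp.pos).symm⟩
        rw [Nat.factorial_succ]
        simp
      rw [h3, pow_two] at h2
      have h4 : p ∣ (p - 1).factorial := Nat.dvd_of_mul_dvd_mul_left hp.pos h2
      have h5 := (hp.dvd_factorial).mp h4
      have := hp.pos
      omega
  have hcyc : IsCyclic ρ.range := isCyclic_of_card_dvd_prime hj1
  have hcomm : ρ ⟨g, hg⟩ * ρ ⟨h, hh⟩ = ρ ⟨h, hh⟩ * ρ ⟨g, hg⟩ := by
    have hc : IsMulCommutative ρ.range := IsCyclic.isMulCommutative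
    have h1 : (⟨ρ ⟨g, hg⟩, ⟨_, rfl⟩⟩ : ρ.range) * ⟨ρ ⟨h, hh⟩, ⟨_, rfl⟩⟩ =
        ⟨ρ ⟨h, hh⟩, ⟨_, rfl⟩⟩ * ⟨ρ ⟨g, hg⟩, ⟨_, rfl⟩⟩ := by
      exact hc.is_comm.comm _ _
    exact congrArg Subtype.val h1
  have h6 := congrArg (fun σ => ((σ ⟨x, MulAction.mem_orbit_self x⟩ : MulAction.orbit P x) : Fin n)) hcomm
  have h7 : ((g * h) x : Fin n) = (h * g) x := h6
  exact congrArg Fin.val h7


section Wreath
variable (p : ℕ) [Fact p.Prime]

/-- translation in the second coordinate by `f i` -/
def baseHom : Multiplicative (ZMod p → ZMod p) →* Equiv.Perm (ZMod p × ZMod p) where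
  toFun f :=
    { toFun := fun x => (x.1, x.2 + (Multiplicative.toAdd f) x.1)
      invFun := fun x => (x.1, x.2 - (Multiplicative.toAdd f) x.1)
      left_inv := fun x => by simp
      right_inv := fun x => by simp }
  map_one' := by
    ext x <;> simp
  map_mul' f g := by
    ext x
    · simp
    · simp [add_comm, add_left_comm]

def shiftPerm : Equiv.Perm (ZMod p × ZMod p) :=
  (Equiv.addRight (1 : ZMod p)).prodCongr (Equiv.refl _)

theorem baseHom_apply (f : Multiplicative (ZMod p → ZMod p)) (x : ZMod p × ZMod p) :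
    baseHom p f x = (x.1, x.2 + (Multiplicative.toAdd f) x.1) := rfl

theorem shiftPerm_apply (x : ZMod p × ZMod p) : shiftPerm p x = (x.1 + 1, x.2) := rfl

theorem shiftPerm_inv_apply (x : ZMod p × ZMod p) : (shiftPerm p)⁻¹ x = (x.1 - 1, x.2) := by
  rw [Equiv.Perm.inv_eq_iff_eq, shiftPerm_apply]
  simp

theorem shift_conj (f : Multiplicative (ZMod p → ZMod p)) :
    shiftPerm p * baseHom p f * (shiftPerm p)⁻¹ =
      baseHom p (Multiplicative.ofAdd (fun i => (Multiplicative.toAdd f) (i - 1))) := by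
  ext x
  · simp [Equiv.Perm.mul_apply, shiftPerm_inv_apply, baseHom_apply, shiftPerm_apply]
  · simp [Equiv.Perm.mul_apply, shiftPerm_inv_apply, baseHom_apply, shiftPerm_apply]

theorem shift_conj' (f : Multiplicative (ZMod p → ZMod p)) :
    (shiftPerm p)⁻¹ * baseHom p f * shiftPerm p =
      baseHom p (Multiplicative.ofAdd (fun i => (Multiplicative.toAdd f) (i + 1))) := by
  ext x
  · simp [Equiv.Perm.mul_apply, shiftPerm_inv_apply, baseHom_apply, shiftPerm_apply]
  · simp [Equiv.Perm.mul_apply, shiftPerm_inv_apply, baseHom_apply, shiftPerm_apply]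

theorem shift_mem_normalizer : shiftPerm p ∈ Subgroup.normalizer ((baseHom p).range : Set _) := by
  rw [Subgroup.mem_normalizer_iff]
  intro h
  constructor
  · rintro ⟨f, rfl⟩
    exact ⟨_, (shift_conj p f).symm⟩
  · rintro ⟨f, hf⟩
    refine ⟨Multiplicative.ofAdd (fun i => (Multiplicative.toAdd f) (i + 1)), ?_⟩
    rw [← shift_conj', hf]
    group

theorem shift_pow_apply (m : ℕ) (x : ZMod p × ZMod p) :
    ((shiftPerm p) ^ m) x = (x.1 + m, x.2) := by
  induction m with
  | zero => simp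
  | succ m ih =>
    rw [pow_succ', Equiv.Perm.mul_apply, ih, shiftPerm_apply]
    simp [add_assoc]

theorem shift_pow_p : (shiftPerm p) ^ p = 1 := by
  ext x <;> simp [shift_pow_apply]

theorem isPGroup_wreath : IsPGroup p (Subgroup.zpowers (shiftPerm p) ⊔ (baseHom p).range :
    Subgroup (Equiv.Perm (ZMod p × ZMod p))) := by
  apply IsPGroup.to_sup_of_normal_right'
  · intro g
    refine ⟨1, ?_⟩
    obtain ⟨k, hk⟩ := Subgroup.mem_zpowers_iff.mp g.2
    apply Subtype.ext
    rw [pow_one, Subgroup.coe_pow, ← hk, ← zpow_natCast, ← zpow_mul, mul_comm, zpow_mul,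
      zpow_natCast, shift_pow_p, one_zpow]
    rfl
  · have h1 : IsPGroup p (Multiplicative (ZMod p → ZMod p)) := by
      apply IsPGroup.of_card (n := p)
      rw [Nat.card_congr Multiplicative.toAdd, Nat.card_fun, Nat.card_zmod]
    exact h1.of_surjective (baseHom p).rangeRestrict (baseHom p).rangeRestrict_surjective
  · rw [Subgroup.zpowers_le]
    exact shift_mem_normalizer p

theorem wreath_not_comm :
    baseHom p (Multiplicative.ofAdd (Pi.single 0 1)) * shiftPerm p ≠
      shiftPerm p * baseHom p (Multiplicative.ofAdd (Pi.single 0 1)) := by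
  intro h
  have h1 := congrArg (fun σ => (σ ((0 : ZMod p), (0 : ZMod p))).2) h
  simp only [Equiv.Perm.mul_apply, shiftPerm_apply, baseHom_apply, toAdd_ofAdd] at h1
  have hne : (1 : ZMod p) ≠ 0 := one_ne_zero
  simp [Pi.single_apply, hne] at h1

end Wreath


/-- a non-commuting pair inside a `p`-subgroup of the alternating group forbids abelian Sylows. -/
theorem not_comm_of_pair {n p : ℕ} [Fact p.Prime] (S : Sylow p (alternatingGroup (Fin n)))
    (W : Subgroup (Equiv.Perm (Fin n))) (hW : IsPGroup p W) (hWA : W ≤ alternatingGroup (Fin n))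
    {a b : Equiv.Perm (Fin n)} (ha : a ∈ W) (hb : b ∈ W) (hab : a * b ≠ b * a) :
    ¬ IsMulCommutative S := by
  intro hc
  have hQ : IsPGroup p (W.subgroupOf (alternatingGroup (Fin n))) :=
    hW.comap_of_injective _ (Subgroup.subtype_injective _)
  obtain ⟨S', hS'⟩ := hQ.exists_le_sylow
  let e : S ≃* S' := Sylow.equiv S S'
  have hc' : ∀ x y : S', x * y = y * x := by
    intro x y
    have h1 := hc.is_comm.comm (e.symm x) (e.symm y)
    have h2 := congrArg e h1
    simpa using h2
  have ha' : (⟨a, hWA ha⟩ : alternatingGroup (Fin n)) ∈ (S' : Subgroup _) :=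
    hS' (Subgroup.mem_subgroupOf.mpr ha)
  have hb' : (⟨b, hWA hb⟩ : alternatingGroup (Fin n)) ∈ (S' : Subgroup _) :=
    hS' (Subgroup.mem_subgroupOf.mpr hb)
  have h3 := hc' ⟨_, ha'⟩ ⟨_, hb'⟩
  have h4 := congrArg (fun z : S' => ((z : alternatingGroup (Fin n)) : Equiv.Perm (Fin n))) h3
  exact hab h4

theorem sign_eq_one_of_odd_pgroup {α : Type*} [Fintype α] [DecidableEq α] {p : ℕ} (hp : Odd p)
    {W : Subgroup (Equiv.Perm α)} (hW : IsPGroup p W) {g : Equiv.Perm α} (hg : g ∈ W) :
    Equiv.Perm.sign g = 1 := by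
  obtain ⟨k, hk⟩ := hW ⟨g, hg⟩
  have hk' : g ^ p ^ k = 1 := by
    have := congrArg Subtype.val hk
    simpa using this
  have h1 : (Equiv.Perm.sign g) ^ p ^ k = 1 := by
    rw [← map_pow, hk', map_one]
  rcases Int.units_eq_one_or (Equiv.Perm.sign g) with h | h
  · exact h
  · rw [h, Odd.neg_one_pow (hp.pow)] at h1
    exact absurd h1 (by decide)

theorem sign_viaEmbeddingHom {α β : Type*} [Fintype α] [DecidableEq α] [Fintype β] [DecidableEq β]
    (ι : α ↪ β) (g : Equiv.Perm α) :
    Equiv.Perm.sign (Equiv.Perm.viaEmbeddingHom ι g) = Equiv.Perm.sign g := by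
  classical
  rw [Equiv.Perm.viaEmbeddingHom_apply]
  unfold Equiv.Perm.viaEmbedding
  convert Equiv.Perm.sign_extendDomain g (Equiv.ofInjective ι.1 ι.2)


def d8a : Equiv.Perm (Fin 6) := c[0, 1, 2, 3] * Equiv.swap 4 5
def d8b : Equiv.Perm (Fin 6) := Equiv.swap 0 2 * Equiv.swap 4 5

theorem d8_rel : d8b * d8a * d8b⁻¹ = d8a⁻¹ := by decide
theorem d8_rel' : d8b⁻¹ * d8a * d8b = d8a⁻¹ := by decide
theorem d8a_pow : d8a ^ 4 = 1 := by decide
theorem d8b_pow : d8b ^ 2 = 1 := by decide
theorem d8_ne : d8a * d8b ≠ d8b * d8a := by decide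
theorem d8a_sign : Equiv.Perm.sign d8a = 1 := by decide
theorem d8b_sign : Equiv.Perm.sign d8b = 1 := by decide

theorem isPGroup_d8 : IsPGroup 2 (Subgroup.zpowers d8b ⊔ Subgroup.zpowers d8a :
    Subgroup (Equiv.Perm (Fin 6))) := by
  apply IsPGroup.to_sup_of_normal_right'
  · intro g
    refine ⟨1, ?_⟩
    obtain ⟨k, hk⟩ := Subgroup.mem_zpowers_iff.mp g.2
    apply Subtype.ext
    rw [pow_one, Subgroup.coe_pow, ← hk, ← zpow_natCast, ← zpow_mul, mul_comm, zpow_mul,
      zpow_natCast, d8b_pow, one_zpow]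
    rfl
  · intro g
    refine ⟨2, ?_⟩
    obtain ⟨k, hk⟩ := Subgroup.mem_zpowers_iff.mp g.2
    apply Subtype.ext
    rw [Subgroup.coe_pow, ← hk, ← zpow_natCast, ← zpow_mul, mul_comm, zpow_mul,
      zpow_natCast]
    norm_num
    rw [d8a_pow, one_zpow]
  · rw [Subgroup.zpowers_le, Subgroup.mem_normalizer_iff]
    intro h
    constructor
    · intro hh
      obtain ⟨k, rfl⟩ := Subgroup.mem_zpowers_iff.mp hh
      have : d8b * d8a ^ k * d8b⁻¹ = (d8b * d8a * d8b⁻¹) ^ k := by rw [conj_zpow]
      rw [this, d8_rel]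
      exact Subgroup.zpow_mem _ (Subgroup.inv_mem _ (Subgroup.mem_zpowers _)) k
    · intro hh
      obtain ⟨k, hk⟩ := Subgroup.mem_zpowers_iff.mp hh
      have h1 : h = d8b⁻¹ * d8a ^ k * d8b := by rw [hk]; group
      have h2 : d8b⁻¹ * d8a ^ k * d8b = (d8b⁻¹ * d8a * d8b) ^ k := by
        have := conj_zpow (a := d8b⁻¹) (b := d8a) (i := k)
        rw [inv_inv] at this
        exact this.symm
      rw [h1, h2, d8_rel']
      exact Subgroup.zpow_mem _ (Subgroup.inv_mem _ (Subgroup.mem_zpowers _)) k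

/-- For n ≥ 6 and a prime p, a nontrivial Sylow p-subgroup of the alternating group of degree n is abelian if and only if n < p². -/
theorem result (n p : ℕ) (hn : 6 ≤ n) [Fact p.Prime] (S : Sylow p (alternatingGroup (Fin n))) (hS : (S : Subgroup (alternatingGroup (Fin n))) ≠ ⊥) : IsMulCommutative S ↔ n < p ^ 2 := by
  have hp : p.Prime := Fact.out
  constructor
  · intro hc
    by_contra hcon
    push Not at hcon
    rcases hp.eq_two_or_odd' with h2 | hodd
    · subst h2
      -- the dihedral group of order 8 in the alternating group of degree 6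
      let ι : Fin 6 ↪ Fin n := Fin.castLEEmb hn
      let Φ := Equiv.Perm.viaEmbeddingHom ι
      have hW : IsPGroup 2 ((Subgroup.zpowers d8b ⊔ Subgroup.zpowers d8a).map Φ) :=
        isPGroup_d8.map Φ
      have hsub : Subgroup.zpowers d8b ⊔ Subgroup.zpowers d8a ≤
          (alternatingGroup (Fin 6)) := by
        refine sup_le ?_ ?_
        · rw [Subgroup.zpowers_le]
          exact Equiv.Perm.mem_alternatingGroup.mpr d8b_sign
        · rw [Subgroup.zpowers_le]
          exact Equiv.Perm.mem_alternatingGroup.mpr d8a_sign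
      have hWA : (Subgroup.zpowers d8b ⊔ Subgroup.zpowers d8a).map Φ ≤
          alternatingGroup (Fin n) := by
        rintro _ ⟨g, hg, rfl⟩
        rw [Equiv.Perm.mem_alternatingGroup, sign_viaEmbeddingHom]
        exact Equiv.Perm.mem_alternatingGroup.mp (hsub hg)
      have ha : Φ d8a ∈ (Subgroup.zpowers d8b ⊔ Subgroup.zpowers d8a).map Φ :=
        ⟨d8a, (le_sup_right : Subgroup.zpowers d8a ≤ _) (Subgroup.mem_zpowers _), rfl⟩
      have hb : Φ d8b ∈ (Subgroup.zpowers d8b ⊔ Subgroup.zpowers d8a).map Φ :=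
        ⟨d8b, (le_sup_left : Subgroup.zpowers d8b ≤ _) (Subgroup.mem_zpowers _), rfl⟩
      have hab : Φ d8a * Φ d8b ≠ Φ d8b * Φ d8a := by
        intro h
        rw [← map_mul, ← map_mul] at h
        exact d8_ne (Equiv.Perm.viaEmbeddingHom_injective ι h)
      exact not_comm_of_pair S _ hW hWA ha hb hab hc
    · -- the wreath product on `p ^ 2` points
      have hcard : Fintype.card (ZMod p × ZMod p) ≤ Fintype.card (Fin n) := by
        rw [Fintype.card_prod, ZMod.card, Fintype.card_fin, ← pow_two]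
        exact hcon
      obtain ⟨ι⟩ := Function.Embedding.nonempty_of_card_le hcard
      let Φ := Equiv.Perm.viaEmbeddingHom ι
      have hW : IsPGroup p ((Subgroup.zpowers (shiftPerm p) ⊔ (baseHom p).range).map Φ) :=
        (isPGroup_wreath p).map Φ
      have hWA : (Subgroup.zpowers (shiftPerm p) ⊔ (baseHom p).range).map Φ ≤
          alternatingGroup (Fin n) := by
        intro g hg
        rw [Equiv.Perm.mem_alternatingGroup]
        exact sign_eq_one_of_odd_pgroup hodd hW hg
      have ha : Φ (baseHom p (Multiplicative.ofAdd (Pi.single 0 1))) ∈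
          (Subgroup.zpowers (shiftPerm p) ⊔ (baseHom p).range).map Φ :=
        ⟨_, (le_sup_right : (baseHom p).range ≤ _) ⟨_, rfl⟩, rfl⟩
      have hb : Φ (shiftPerm p) ∈
          (Subgroup.zpowers (shiftPerm p) ⊔ (baseHom p).range).map Φ :=
        ⟨_, (le_sup_left : Subgroup.zpowers (shiftPerm p) ≤ _) (Subgroup.mem_zpowers _), rfl⟩
      have hab : Φ (baseHom p (Multiplicative.ofAdd (Pi.single 0 1))) * Φ (shiftPerm p) ≠
          Φ (shiftPerm p) * Φ (baseHom p (Multiplicative.ofAdd (Pi.single 0 1))) := by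
        intro h
        rw [← map_mul, ← map_mul] at h
        exact wreath_not_comm p (Equiv.Perm.viaEmbeddingHom_injective ι h)
      exact not_comm_of_pair S _ hW hWA ha hb hab hc
  · intro hlt
    refine ⟨⟨fun a b => ?_⟩⟩
    have hP : IsPGroup p ((S : Subgroup (alternatingGroup (Fin n))).map
        (alternatingGroup (Fin n)).subtype) := S.isPGroup'.map _
    have h1 := comm_of_pgroup_small hlt _ hP (a : alternatingGroup (Fin n))
      (b : alternatingGroup (Fin n)) ⟨_, a.2, rfl⟩ ⟨_, b.2, rfl⟩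
    apply Subtype.ext
    apply Subtype.ext
    exact h1

end Cfsg.Agent.S5164
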