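import Cfsg.Statements.S5168
import Cfsg.Agent.Lib.helper4.FusM22

set_option autoImplicit false
open Cfsg

namespace Cfsg.Agent.S5168

/-- The 2-fusion system of the Mathieu group M₂₂ (as the explicit permutation group carved out of the automorphism group of the binary Golay code) on a Sylow 2-subgroup is simple: saturated, over a nontrivial 2-group, with no normal subsystem other than the trivial one and itself. -/
theorem result (S : Sylow 2 Cfsg.Spor.M22) : (Cfsg.groupFusionSystem (S : Subgroup Cfsg.Spor.M22)).IsSimple 2 := by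
  haveI : Fact (Nat.Prime 2) := ⟨Nat.prime_two⟩
  exact Cfsg.Agent.Lib.helper4.fus_simple_of_cert_sub Cfsg.Spor.M22
    (Cfsg.Agent.Lib.helper4.tgrp Cfsg.Agent.Lib.helper4.fusG22) 2
    Cfsg.Agent.Lib.helper4.fusP22_le
    (Cfsg.Agent.Lib.helper4.tgrp_isPGroup Cfsg.Agent.Lib.helper4.fusPc22)
    Cfsg.Agent.Lib.helper4.fusP22_ne_bot Cfsg.Agent.Lib.helper4.fusNorm22
    (fun T hT hne hfus =>
      Cfsg.Agent.Lib.helper4.fusClosed22 Cfsg.Spor.M22 le_rfl T hT hne hfus) S

end Cfsg.Agent.S5168
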