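import Cfsg.Statements.S5171
import Cfsg.Agent.Lib.Helper27.SpFusI
import Cfsg.Agent.Lib.Helper27.FusSimpleQuot

set_option autoImplicit false
open Cfsg

namespace Cfsg.Agent.S5171

open Matrix Cfsg.Agent.Lib.Helper27.SpFus Cfsg.Agent.Lib.Helper27.FusSimpleQuot
open Cfsg.Agent.Lib.helper14.SpBN Cfsg.Agent.Lib.Helper16.SPA

/-- For a finite field K of characteristic p and m ≥ 2, excluding the case m = 2 with K of two elements, the p-fusion system of the projective symplectic group PSp_{2m}(K) on a Sylow p-subgroup is simple. -/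
theorem result {K : Type*} [Field K] [Fintype K] (p : ℕ) [Fact p.Prime] [CharP K p] (m : ℕ) (hm : 2 ≤ m) (hex : m = 2 → 3 ≤ Fintype.card K) (S : Sylow p (Cfsg.PSp m K)) : (Cfsg.groupFusionSystem (S : Subgroup (Cfsg.PSp m K))).IsSimple p := by
  classical
  have hm0 : 0 < m := by omega
  have hm1 : 1 ≤ m := by omega
  set π₀ := QuotientGroup.mk' (Subgroup.center ↥(Matrix.symplecticGroup (Fin m) K)) with hπ₀def
  have hπ₀ : Function.Surjective π₀ := QuotientGroup.mk'_surjective _
  set U := uSylow (K := K) hm0 p with hU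
  obtain ⟨g, hg⟩ := MulAction.exists_smul_eq (Cfsg.PSp m K) (U.mapSurjective hπ₀) S
  set π := (MulAut.conj g).toMonoidHom.comp π₀ with hπdef
  have hπ : Function.Surjective π := (MulAut.conj g).surjective.comp hπ₀
  have hker : π.ker = Subgroup.center ↥(Matrix.symplecticGroup (Fin m) K) := by
    ext x
    rw [MonoidHom.mem_ker, hπdef, MonoidHom.comp_apply]
    constructor
    · intro h
      have h1 : π₀ x = 1 := by
        have := (MulAut.conj g).injective (h.trans (map_one _).symm)
        exact this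
      rwa [hπ₀def, QuotientGroup.mk'_apply, QuotientGroup.eq_one_iff] at h1
    · intro h
      have h1 : π₀ x = 1 := by
        rwa [hπ₀def, QuotientGroup.mk'_apply, QuotientGroup.eq_one_iff]
      rw [h1, map_one]
  have hS : (S : Subgroup (Cfsg.PSp m K)) =
      (U : Subgroup ↥(Matrix.symplecticGroup (Fin m) K)).map π := by
    rw [← hg, Sylow.coe_subgroup_smul, Sylow.coe_mapSurjective, hπdef, ← Subgroup.map_map]
    rfl
  have hker1 : π.ker ≤ Subgroup.center ↥(Matrix.symplecticGroup (Fin m) K) := by rw [hker]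
  have hker2 : (Nat.card π.ker).Coprime p := by
    rw [hker]
    exact center_coprime (K := K) hm1 p
  have hUU : Usp m K = Uup m K := Usp_eq_Uup hm0 p
  apply isSimple_of_central_quotient p π hπ hker1 hker2 U S hS
  · -- nontrivial
    rw [hU, coe_uSylow, ← hUU]
    intro hbot
    have hmem := spT_mem_Usp (K := K) (inL_e (⟨0, hm0⟩ : Fin m)) (1 : K)
    rw [hbot, Subgroup.mem_bot] at hmem
    have h1 := (Cfsg.Agent.Lib.Helper26.spT_eq_one_iff (m := m)
      (bV_ne_zero (F := K) (Sum.inl (⟨0, hm0⟩ : Fin m)))).mp hmem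
    exact one_ne_zero h1
  · intro T hT hT1 hcl
    rw [hU, coe_uSylow, ← hUU] at hT hcl ⊢
    exact eq_Usp_of_closed hm hex p T hT hT1 hcl
  · rw [hU, coe_uSylow]
    exact normalizer_Uup_le_closure hm p

end Cfsg.Agent.S5171
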