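import Cfsg.Statements.S5172
import Cfsg.Agent.Lib.Helper27.SUFusM
import Cfsg.Agent.Lib.Helper27.FusSimpleQuot

set_option autoImplicit false
open Cfsg

namespace Cfsg.Agent.S5172

open Matrix Cfsg.Agent.Lib.Helper27.SUFus Cfsg.Agent.Lib.Helper27.FusSimpleQuot
open Cfsg.Agent.Lib.helper14.UBN

/-- For a finite field K with q² elements of characteristic p and n ≥ 4, the p-fusion system of the projective special unitary group PSU_n(q) (realised over K) on a Sylow p-subgroup is simple. -/
theorem result {K : Type*} [Field K] [Fintype K] (p q : ℕ) [Fact p.Prime] [CharP K p] (hK : Fintype.card K = q ^ 2) (n : ℕ) (hn : 4 ≤ n) (S : Sylow p (Cfsg.PSU n K q)) : (Cfsg.groupFusionSystem (S : Subgroup (Cfsg.PSU n K q))).IsSimple p := by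
  classical
  have hp : p.Prime := Fact.out
  obtain ⟨σ, hσ⟩ := Cfsg.Agent.Lib.Lead.exists_frob hK
  have hσσ := Cfsg.Agent.Lib.Lead.frob_frob hK σ hσ
  set S₀ : SInv K := ⟨σ, hσσ⟩ with hS₀
  have hσ' : ∀ x, S₀.σ x = x ^ q := hσ
  have hG : SGood S₀ := sGood_frob hK hσ'
  have hSk : HasSkew S₀ := hG.hasSkew
  obtain ⟨e⟩ := su_equiv (S := S₀) hK hσ' n
  haveI : Finite ↥(GJ n S₀) := gjFinite
  set π₀ : ↥(NJ n S₀) →* Cfsg.PSU n K q :=
    (QuotientGroup.mk' (Subgroup.center ↥(Cfsg.SU n K q))).comp e.symm.toMonoidHom with hπ₀def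
  have hπ₀ : Function.Surjective π₀ :=
    (QuotientGroup.mk'_surjective _).comp e.symm.surjective
  set U := uSylowJ (n := n) hSk p with hU
  obtain ⟨g, hg⟩ := MulAction.exists_smul_eq (Cfsg.PSU n K q) (U.mapSurjective hπ₀) S
  set π := (MulAut.conj g).toMonoidHom.comp π₀ with hπdef
  have hπ : Function.Surjective π := (MulAut.conj g).surjective.comp hπ₀
  have hkermem : ∀ x : ↥(NJ n S₀), x ∈ π.ker ↔
      e.symm x ∈ Subgroup.center ↥(Cfsg.SU n K q) := by
    intro x
    rw [MonoidHom.mem_ker, hπdef, MonoidHom.comp_apply]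
    constructor
    · intro h
      have h1 : π₀ x = 1 := (MulAut.conj g).injective (h.trans (map_one _).symm)
      rw [hπ₀def, MonoidHom.comp_apply, QuotientGroup.mk'_apply, QuotientGroup.eq_one_iff] at h1
      exact h1
    · intro h
      have h1 : π₀ x = 1 := by
        rw [hπ₀def, MonoidHom.comp_apply, QuotientGroup.mk'_apply, QuotientGroup.eq_one_iff]
        exact h
      rw [h1, map_one]
  have hS : (S : Subgroup (Cfsg.PSU n K q)) = (U : Subgroup ↥(NJ n S₀)).map π := by
    rw [← hg, Sylow.coe_subgroup_smul, Sylow.coe_mapSurjective, hπdef]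
    rw [← Subgroup.map_map (K := (U : Subgroup ↥(NJ n S₀))) (MulAut.conj g).toMonoidHom π₀]
    rfl
  have hker1 : π.ker ≤ Subgroup.center ↥(NJ n S₀) := by
    intro x hx
    have h1 := (hkermem x).1 hx
    rw [Subgroup.mem_center_iff] at h1 ⊢
    intro y
    apply e.symm.injective
    rw [map_mul, map_mul]
    exact h1 (e.symm y)
  have hker2 : (Nat.card π.ker).Coprime p := by
    have hkeq : π.ker = (Subgroup.center ↥(Cfsg.SU n K q)).map e.toMonoidHom := by
      ext x
      rw [hkermem, Subgroup.mem_map]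
      constructor
      · intro h
        exact ⟨e.symm x, h, e.apply_symm_apply x⟩
      · rintro ⟨y, hy, rfl⟩
        rw [MulEquiv.coe_toMonoidHom, e.symm_apply_apply]
        exact hy
    rw [hkeq, Subgroup.card_map_of_injective e.injective,
      Cfsg.Agent.S0279.result hK n (by omega)]
    rw [Nat.coprime_comm, Nat.Prime.coprime_iff_not_dvd hp]
    intro hdvd
    have h1 : p ∣ q + 1 := hdvd.trans (Nat.gcd_dvd_right _ _)
    obtain ⟨k, _, hk⟩ := FiniteField.card K p
    have h2 : p ∣ q ^ 2 := by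
      rw [← hK, hk]
      exact dvd_pow_self p k.ne_zero
    have h3 : p ∣ q := hp.dvd_of_dvd_pow h2
    have h4 : p ∣ 1 := (Nat.dvd_add_right h3).mp h1
    exact hp.one_lt.ne' (Nat.dvd_one.mp h4)
  apply isSimple_of_central_quotient p π hπ hker1 hker2 U S hS
  · rw [hU, coe_uSylowJ]
    exact UJ_ne_bot hG (by omega)
  · intro T hT hT1 hcl
    rw [hU, coe_uSylowJ] at hT hcl ⊢
    exact eq_UJ_of_closed p hG hn T hT hT1 hcl
  · rw [hU, coe_uSylowJ]
    exact normalizer_UJ_le p hG hn

end Cfsg.Agent.S5172
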