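import Cfsg.Statements.S5178
import Cfsg.Agent.Lib.Helper27.EsIdx

set_option autoImplicit false
universe u
open Cfsg

namespace Cfsg.Agent.S5178

open Cfsg.FusionSystem Cfsg.Agent.Lib.Helper26 Cfsg.Agent.Lib.Helper27.XsFus
  Cfsg.Agent.Lib.Helper27.AiGroup Cfsg.Agent.Lib.Helper27.AiFus Cfsg.Agent.Lib.Helper27.AiCore
  Cfsg.Agent.Lib.Helper27.EsIdx

/-- Let p be an odd prime, S a finite p-group containing an extraspecial subgroup Q of index p, and F a saturated fusion system over S whose largest subgroup normal in F is trivial. Then the centre of S equals the centre of Q. -/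
theorem result {Ω : Type u} [Group Ω] {S : Subgroup Ω} [Finite S] (p : ℕ) [Fact p.Prime] (hp : Odd p) (hS : IsPGroup p S)
    (Q : Subgroup Ω) (hQS : Q ≤ S) (hQ : Cfsg.IsExtraspecial p ↥Q) (hQi : (Q.subgroupOf S).index = p)
    (F : Cfsg.FusionSystem S) (hF : F.IsSaturated p) (hO : F.core = ⊥) :
    S ⊓ Subgroup.centralizer (S : Set Ω) = Q ⊓ Subgroup.centralizer (Q : Set Ω) := by
  have hpr : p.Prime := Fact.out
  have hp2 : p ≠ 2 := by
    rintro rfl
    exact absurd hp (by decide)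
  rw [inf_centralizer_eq_ZS, inf_centralizer_eq_ZS]
  obtain ⟨hZQcard, hcommQ, a₀, ha₀, b₀, hb₀, hne₀⟩ := extraspecial_facts hQ
  haveI : Finite Q := finite_of_le hQS
  haveI : Finite (ZS Q) := finite_of_le ZS_le
  have hS1 : S ≠ ⊥ := by
    intro h
    rw [h] at hQS
    have ha : a₀ = 1 := Subgroup.mem_bot.mp (hQS ha₀)
    have hb : b₀ = 1 := Subgroup.mem_bot.mp (hQS hb₀)
    rw [ha, hb] at hne₀
    exact hne₀ rfl
  by_cases hle : ZS S ≤ Q
  · have h1 : ZS S ≤ ZS Q := fun z hz =>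
      mem_ZS.mpr ⟨hle hz, fun s hs => (mem_ZS.mp hz).2 s (hQS hs)⟩
    apply Subgroup.eq_of_le_of_card_ge h1
    rw [hZQcard]
    have hdvd : Nat.card (ZS S) ∣ p := hZQcard ▸ Subgroup.card_dvd_of_le h1
    rcases (Nat.dvd_prime hpr).mp hdvd with h | h
    · exfalso
      haveI : Nontrivial S := (Subgroup.nontrivial_iff_ne_bot S).mpr hS1
      haveI : Nontrivial (Subgroup.center ↥S) := hS.center_nontrivial
      have h2 : Nat.card (Subgroup.center ↥S) = 1 := by
        rw [← h, ZS, Subgroup.card_map_of_injective S.subtype_injective]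
      have := (Nat.card_eq_one_iff_unique.mp h2).1
      exact not_subsingleton _ this
    · exact h.ge
  · exfalso
    obtain ⟨z₁, hz₁, hz₁Q⟩ : ∃ z₁ ∈ ZS S, z₁ ∉ Q := by
      by_contra hcon
      push Not at hcon
      exact hle hcon
    have hdec := decomp_of_central hQi hz₁ hz₁Q
    have hzk : ∀ k : ℤ, z₁ ^ k ∈ ZS S := fun k => (ZS S).zpow_mem hz₁ k
    have hcommS : ∀ a ∈ S, ∀ b ∈ S, a * b * a⁻¹ * b⁻¹ ∈ ZS Q := by
      intro a ha b hb
      obtain ⟨q, hq, k, rfl⟩ := hdec a ha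
      obtain ⟨q', hq', l, rfl⟩ := hdec b hb
      rw [comm_central (S := S) (mem_ZS.mp (hzk k)).2 (mem_ZS.mp (hzk l)).2 (hQS hq) (hQS hq')
        (ZS_le (hzk k)) (ZS_le (hzk l))]
      exact hcommQ q hq q' hq'
    have hZQS : ZS Q ≤ ZS S := by
      intro w hw
      refine mem_ZS.mpr ⟨hQS (ZS_le hw), fun s hs => ?_⟩
      obtain ⟨q, hq, k, rfl⟩ := hdec s hs
      have h1 : q * w = w * q := (mem_ZS.mp hw).2 q hq
      have h2 : z₁ ^ k * w = w * z₁ ^ k := ((mem_ZS.mp (hzk k)).2 w (hQS (ZS_le hw))).symm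
      calc q * z₁ ^ k * w = q * (z₁ ^ k * w) := by group
        _ = q * (w * z₁ ^ k) := by rw [h2]
        _ = (q * w) * z₁ ^ k := by group
        _ = w * q * z₁ ^ k := by rw [h1]
        _ = w * (q * z₁ ^ k) := by group
    obtain ⟨E, hE⟩ := exists_essential hS F hF hS1 hO
    have hES : E ≤ S := hE.1.1
    have hEne : E ≠ S := Cfsg.Agent.S5326.ne_top_of_essential hS F hF hE
    have hZE : ZS S ≤ E := by
      intro z hz
      obtain ⟨hzS, hzc⟩ := mem_ZS.mp hz
      apply hE.1.2 E (isConj_refl F hES)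
      exact ⟨hzS, Subgroup.mem_centralizer_iff.mpr (fun y hy => hzc y (hES hy))⟩
    obtain ⟨hab, hidx⟩ := essential_common_center hS hE (ZS Q) S (hZQS.trans hZE) hZQcard le_rfl
      hES (fun h => hEne (le_antisymm hES h))
      (fun g hg w hw => central_conj (hZQS hw) hg) hcommS
    have hidx' : (E.subgroupOf S).index = p := by
      refine index_eq_prime_of_le hS _ hidx (fun htop => hEne (le_antisymm hES ?_))
      intro s hs
      have : (⟨s, hs⟩ : S) ∈ E.subgroupOf S := by rw [htop]; exact Subgroup.mem_top _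
      exact Subgroup.mem_subgroupOf.mp this
    have H : Hyp p S E := ⟨hES, hab, hidx', ⟨a₀, hQS ha₀, b₀, hQS hb₀, hne₀⟩⟩
    have hZ := center_index_le H hS (ZS Q) hZQcard.le hcommS
    obtain ⟨hcard3, -, -⟩ := odd_final hS F hF hS1 hO hZ hp2
    have h1 := Subgroup.card_mul_index (Q.subgroupOf S)
    rw [hQi, Nat.card_congr (Subgroup.subgroupOfEquivOfLe hQS).toEquiv, hcard3] at h1
    have h2 : Nat.card Q = p ^ 2 := by
      apply Nat.eq_of_mul_eq_mul_right hpr.pos
      rw [h1]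
      ring
    have hcQ := IsPGroup.commutative_of_card_eq_prime_sq h2
    exact hne₀ (congrArg Subtype.val (hcQ ⟨a₀, ha₀⟩ ⟨b₀, hb₀⟩))

end Cfsg.Agent.S5178
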