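import Cfsg.Statements.S5179
import Cfsg.Agent.Lib.Helper27.EsIdx

set_option autoImplicit false
universe u
open Cfsg

namespace Cfsg.Agent.S5179

open Cfsg.FusionSystem Cfsg.Agent.Lib.Helper26 Cfsg.Agent.Lib.Helper27.XsFus
  Cfsg.Agent.Lib.Helper27.AiGroup Cfsg.Agent.Lib.Helper27.AiFus Cfsg.Agent.Lib.Helper27.AiCore
  Cfsg.Agent.Lib.Helper27.EsIdx

/-- Let p be an odd prime, S a finite p-group of order at least p⁶ containing an extraspecial subgroup Q of index p, and F a saturated fusion system over S whose largest subgroup normal in F is trivial. Then no proper subgroup of Q is essential in F: an essential subgroup of F contained in Q equals Q. -/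
theorem result {Ω : Type u} [Group Ω] {S : Subgroup Ω} [Finite S] (p : ℕ) [Fact p.Prime] (hp : Odd p) (hS : IsPGroup p S)
    (Q : Subgroup Ω) (hQS : Q ≤ S) (hQ : Cfsg.IsExtraspecial p ↥Q) (hQi : (Q.subgroupOf S).index = p)
    (h6 : p ^ 6 ≤ Nat.card S)
    (F : Cfsg.FusionSystem S) (hF : F.IsSaturated p) (hO : F.core = ⊥)
    (E : Subgroup Ω) (hEQ : E ≤ Q) (hE : F.IsEssential p E) : E = Q := by
  have hpr : p.Prime := Fact.out
  by_contra hne
  obtain ⟨hZQcard, hcommQ, a₀, ha₀, b₀, hb₀, hne₀⟩ := extraspecial_facts hQ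
  haveI : Finite Q := finite_of_le hQS
  haveI : Finite (ZS Q) := finite_of_le ZS_le
  have hES : E ≤ S := hE.1.1
  have hWE : ZS Q ≤ E := by
    intro z hz
    obtain ⟨hzQ, hzc⟩ := mem_ZS.mp hz
    apply hE.1.2 E (isConj_refl F hES)
    exact ⟨hQS hzQ, Subgroup.mem_centralizer_iff.mpr (fun y hy => hzc y (hEQ hy))⟩
  obtain ⟨hab, hidx⟩ := essential_common_center hS hE (ZS Q) Q hWE hZQcard hQS hEQ
    (fun h => hne (le_antisymm hEQ h)) (fun g hg w hw => central_conj hw hg) hcommQ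
  have hQp : IsPGroup p Q := hS.to_le hQS
  have hidx' : (E.subgroupOf Q).index = p := by
    refine index_eq_prime_of_le hQp _ hidx (fun htop => hne (le_antisymm hEQ ?_))
    intro s hs
    have : (⟨s, hs⟩ : Q) ∈ E.subgroupOf Q := by rw [htop]; exact Subgroup.mem_top _
    exact Subgroup.mem_subgroupOf.mp this
  have H : Hyp p Q E := ⟨hEQ, hab, hidx', ⟨a₀, ha₀, b₀, hb₀, hne₀⟩⟩
  have hZ := center_index_le H hQp (ZS Q) hZQcard.le hcommQ
  have h1 := Subgroup.card_mul_index (Subgroup.center ↥Q)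
  rw [hQ.2] at h1
  have h2 : Nat.card Q ≤ p * p ^ 2 := by
    rw [← h1]
    exact Nat.mul_le_mul_left p hZ
  have h3 := Subgroup.card_mul_index (Q.subgroupOf S)
  rw [hQi, Nat.card_congr (Subgroup.subgroupOfEquivOfLe hQS).toEquiv] at h3
  have h4 : Nat.card S ≤ p ^ 4 := by
    rw [← h3]
    calc Nat.card Q * p ≤ (p * p ^ 2) * p := Nat.mul_le_mul_right p h2
      _ = p ^ 4 := by ring
  have h5 : p ^ 4 < p ^ 6 := Nat.pow_lt_pow_right hpr.one_lt (by norm_num)
  omega

end Cfsg.Agent.S5179
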