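import Cfsg.Statements.S5185
import Cfsg.Agent.Lib.Helper27.SL2Gen
import Cfsg.Agent.Lib.Helper26.StrongEmb
import Cfsg.Agent.Lib.Helper26.FusionBasic
import Cfsg.Agent.Lib.helper23.ElemAbGen

set_option autoImplicit false
universe u
open Cfsg

namespace Cfsg.Agent.S5185

open Cfsg.FusionSystem Cfsg.Agent.Lib.Helper26 Cfsg.Agent.Lib.Helper27 Matrix

theorem exists_linear_rep {V : Type*} [AddCommGroup V] (p : ℕ) [Fact p.Prime] [Module (ZMod p) V]
    [Finite V] (hcard : Nat.card V = p ^ 2) :
    ∃ ρ : (V ≃ₗ[ZMod p] V) →* GL (Fin 2) (ZMod p), Function.Injective ρ := by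
  have hfr : Module.finrank (ZMod p) V = 2 :=
    Cfsg.Agent.Lib.helper23.finrank_eq_of_card hcard
  haveI : Module.Finite (ZMod p) V := Module.Finite.of_finite
  let b := Module.finBasisOfFinrankEq (ZMod p) V hfr
  let e3 := (LinearMap.GeneralLinearGroup.generalLinearEquiv (ZMod p) V).symm
  let e4 : (V →ₗ[ZMod p] V)ˣ ≃* (Matrix (Fin 2) (Fin 2) (ZMod p))ˣ :=
    Units.mapEquiv (LinearMap.toMatrixAlgEquiv b).toRingEquiv.toMulEquiv
  exact ⟨e4.toMonoidHom.comp e3.toMonoidHom, e4.injective.comp e3.injective⟩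

/-- A faithful 2-dimensional representation of the automorphism group of an elementary abelian group
of order `p²`. -/
theorem exists_faithful_rep {H : Type*} [Group H] [Finite H] (p : ℕ) [Fact p.Prime]
    (hcomm : ∀ a b : H, a * b = b * a) (hexp : ∀ a : H, a ^ p = 1) (hcard : Nat.card H = p ^ 2) :
    ∃ ρ : MulAut H →* GL (Fin 2) (ZMod p), Function.Injective ρ := by
  letI : CommGroup H := { (inferInstance : Group H) with mul_comm := hcomm }
  obtain ⟨M⟩ : Nonempty (Module (ZMod p) (Additive H)) := ⟨AddCommGroup.zmodModule (fun x => by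
    show p • x = 0
    have h := hexp x.toMul
    have h2 : p • Additive.ofMul x.toMul = Additive.ofMul (x.toMul ^ p) := (ofMul_pow p x.toMul).symm
    rw [h] at h2
    exact h2)⟩
  have hcardV : Nat.card (Additive H) = p ^ 2 := hcard
  haveI : Finite (Additive H) := inferInstanceAs (Finite H)
  obtain ⟨ρ₁, hρ₁⟩ := exists_linear_rep (V := Additive H) p hcardV
  let ρ₀ : MulAut H →* (Additive H ≃ₗ[ZMod p] Additive H) :=
    { toFun := fun α => (MulEquiv.toAdditive α).toLinearEquiv
        (fun c x => ZMod.map_smul (MulEquiv.toAdditive α) c x)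
      map_one' := by
        apply LinearEquiv.ext
        intro x
        rfl
      map_mul' := by
        intro α β
        apply LinearEquiv.ext
        intro x
        rfl }
  have hρ₀ : Function.Injective ρ₀ := by
    intro α β h
    ext x
    have := LinearEquiv.congr_fun h (Additive.ofMul x)
    exact this
  exact ⟨ρ₁.comp ρ₀, hρ₁.comp hρ₀⟩

theorem result {Ω : Type u} [Group Ω] {S : Subgroup Ω} [Finite S] (p : ℕ) [Fact p.Prime] (hS : IsPGroup p S)
    (F : Cfsg.FusionSystem S) (hF : F.IsSaturated p) (H : Subgroup Ω) (hH : F.IsEssential p H) (hcard : Nat.card H = p ^ 2) :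
    Cfsg.IsElementaryAbelian p H ∧
      ∃ K : Subgroup ↥(F.autGroup H), Nonempty (↥K ≃* Matrix.SpecialLinearGroup (Fin 2) (ZMod p)) := by
  obtain ⟨hcent, hfn, hnorm, E, hE⟩ := hH
  have hHS : H ≤ S := hcent.1
  have hfinH : Finite H := finite_of_le hHS
  have hpp : p.Prime := Fact.out
  have hcommI : IsMulCommutative H := IsPGroup.isMulCommutative_of_card_eq_prime_sq hcard
  have hcomm : ∀ a b : H, a * b = b * a := hcommI.is_comm.comm
  have hInn : (Inn H).subgroupOf (F.autGroup H) = ⊥ := by
    rw [eq_bot_iff]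
    intro a ha
    obtain ⟨g, hg⟩ := Subgroup.mem_subgroupOf.mp ha
    rw [Subgroup.mem_bot]
    apply Subtype.ext
    rw [← hg]
    ext x
    show ((g * x * g⁻¹ : H) : Ω) = x
    rw [hcomm g x, mul_inv_cancel_right]
  have hcore := pCore_eq_bot_of_stronglyPEmbedded hE
  have hdvdX := hE.1
  have hnp : ∀ N : Subgroup (F.autGroup H), N.Normal → IsPGroup p N → N = ⊥ := by
    intro N hN hNp
    have h1 : (N.map (QuotientGroup.mk' ((Inn H).subgroupOf (F.autGroup H)))).Normal :=
      hN.map _ (QuotientGroup.mk'_surjective _)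
    have h2 : IsPGroup p ↥(N.map (QuotientGroup.mk' ((Inn H).subgroupOf (F.autGroup H)))) :=
      hNp.map _
    have h3 := Cfsg.Agent.Lib.Helper1.le_pCore h1 h2
    rw [hcore] at h3
    rw [eq_bot_iff]
    intro a ha
    have h4 : QuotientGroup.mk' ((Inn H).subgroupOf (F.autGroup H)) a ∈
        N.map (QuotientGroup.mk' ((Inn H).subgroupOf (F.autGroup H))) := ⟨a, ha, rfl⟩
    have h5 := Subgroup.mem_bot.mp (h3 h4)
    have h6 : a ∈ (Inn H).subgroupOf (F.autGroup H) := by
      rw [← QuotientGroup.ker_mk' ((Inn H).subgroupOf (F.autGroup H))]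
      exact h5
    rw [hInn] at h6
    exact h6
  have hdvdA : p ∣ Nat.card (F.autGroup H) :=
    hdvdX.trans (Subgroup.card_quotient_dvd_card _)
  obtain ⟨P₁⟩ : Nonempty (Sylow p (F.autGroup H)) := inferInstance
  have hP₁ne : (P₁ : Subgroup (F.autGroup H)) ≠ ⊥ := by
    intro h
    have h1 : Nat.card P₁ = 1 := by rw [h]; exact Subgroup.card_bot
    rw [Sylow.card_eq_multiplicity] at h1
    have h2 : (Nat.card (F.autGroup H)).factorization p = 0 := by
      by_contra h0
      have : 1 < p ^ (Nat.card (F.autGroup H)).factorization p :=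
        Nat.one_lt_pow h0 hpp.one_lt
      omega
    have h3 : 0 < (Nat.card (F.autGroup H)).factorization p :=
      hpp.factorization_pos_of_dvd Nat.card_pos.ne' hdvdA
    omega
  have hex : ∃ P₂ : Sylow p (F.autGroup H), P₁ ≠ P₂ := by
    by_contra hcon
    have hsub : Subsingleton (Sylow p (F.autGroup H)) := by
      constructor
      intro a b
      have ha : P₁ = a := by
        by_contra h; exact hcon ⟨a, h⟩
      have hb : P₁ = b := by
        by_contra h; exact hcon ⟨b, h⟩
      rw [← ha, ← hb]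
    exact hP₁ne (hnp _ (Sylow.normal_of_subsingleton P₁) P₁.isPGroup')
  obtain ⟨P₂, hne⟩ := hex
  have hexp : ∀ a : H, a ^ p = 1 := by
    by_contra hcon
    obtain ⟨a, ha⟩ := not_forall.mp hcon
    have hord : orderOf a ∣ p ^ 2 := by
      rw [← hcard]; exact orderOf_dvd_natCard a
    obtain ⟨k, hk, hok⟩ := (Nat.dvd_prime_pow hpp).mp hord
    have hk2 : k = 2 := by
      by_contra hk2
      have hk1 : k ≤ 1 := by omega
      apply ha
      have : orderOf a ∣ p := by
        rw [hok]
        exact pow_dvd_pow p hk1 |>.trans (by rw [pow_one])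
      exact orderOf_dvd_iff_pow_eq_one.mp this
    have hcyc : IsCyclic H := isCyclic_of_orderOf_eq_card a (by rw [hok, hk2, hcard])
    have hAcomm : ∀ x y : MulAut H, x * y = y * x := by
      intro x y
      apply (IsCyclic.mulAutMulEquiv H).injective
      rw [map_mul, map_mul, mul_comm]
    have hnorm₁ : (P₁ : Subgroup (F.autGroup H)).Normal := by
      constructor
      intro n hn g
      have e : g * n * g⁻¹ = n := by
        apply Subtype.ext
        show (g : MulAut H) * n * (g : MulAut H)⁻¹ = n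
        rw [hAcomm (g : MulAut H) n, mul_inv_cancel_right]
      rw [e]
      exact hn
    exact hP₁ne (hnp _ hnorm₁ P₁.isPGroup')
  refine ⟨⟨hcommI, fun a ha => ?_⟩, ?_⟩
  · have := congrArg Subtype.val (hexp ⟨a, ha⟩)
    simpa using this
  · obtain ⟨ρ, hρ⟩ := exists_faithful_rep p hcomm hexp hcard
    exact ⟨_, nonempty_mulEquiv_SL2_of_sylow_ne p (ρ.comp (F.autGroup H).subtype)
      (hρ.comp (Subgroup.subtype_injective _)) P₁ P₂ hne⟩

end Cfsg.Agent.S5185
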