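import Cfsg.Statements.S5186
import Cfsg.Agent.Lib.Helper27.OrderPCube2
import Cfsg.Agent.Lib.Helper26.KNorm2
import Cfsg.Agent.S5080

set_option autoImplicit false
universe u
open Cfsg

namespace Cfsg.Agent.S5186

open Cfsg.FusionSystem Cfsg.Agent.Lib.Helper26 Cfsg.Agent.Lib.Helper27 in
theorem not_essential_of_char_chain {Ω : Type u} [Group Ω] {S : Subgroup Ω} [Finite S] {p : ℕ}
    [hp : Fact p.Prime] (hS : IsPGroup p S) (F : Cfsg.FusionSystem S) (hF : F.IsSaturated p)
    {H : Subgroup Ω} (hH : F.IsEssential p H) (hcard : Nat.card H = p ^ 3) (X Y : Subgroup H)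
    [X.Characteristic] [Y.Characteristic] (hXY : X ≤ Y) (hXc : Nat.card X = p)
    (hYc : Nat.card Y = p ^ 2) : False := by
  have hHS : H ≤ S := hH.2.1.1
  have hfinH : Finite H := finite_of_le hHS
  have hfinA : Finite (MulAut H) := finite_mulAut_of_le hHS
  obtain ⟨St, hStn, hStp, hSt⟩ := exists_normal_pgroup_of_chain hcard X Y hXY hXc hYc
  have hrad := Cfsg.Agent.S5080.result p hS F hF H hH
  have hn : (St.subgroupOf (F.autGroup H)).Normal := hStn.subgroupOf _
  have hpg : IsPGroup p (St.subgroupOf (F.autGroup H)) := hStp.comap_subtype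
  have hle := Cfsg.Agent.Lib.Helper1.le_pCore hn hpg
  have key : ∀ α ∈ F.autGroup H, α ^ (p - 1) ∈ Cfsg.Inn H := by
    intro α hα
    rw [← hrad.2]
    exact ⟨⟨α ^ (p - 1), Subgroup.pow_mem _ hα _⟩, hle (Subgroup.mem_subgroupOf.mpr (hSt α)), rfl⟩
  obtain ⟨-, -, hnI, E, hE⟩ := hH
  obtain ⟨g, hg⟩ := exists_prime_orderOf_dvd_card' p hE.1
  obtain ⟨a, rfl⟩ := QuotientGroup.mk_surjective g
  have h1 : ((a : F.autGroup H ⧸ (Cfsg.Inn H).subgroupOf (F.autGroup H))) ^ (p - 1) = 1 := by
    rw [← QuotientGroup.mk_pow, QuotientGroup.eq_one_iff, Subgroup.mem_subgroupOf, Subgroup.coe_pow]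
    exact key a a.2
  have h2 := orderOf_dvd_of_pow_eq_one h1
  rw [hg] at h2
  have h3 : 0 < p - 1 := by
    have := hp.out.two_le
    omega
  have := Nat.le_of_dvd h3 h2
  omega

/-- Let F be a saturated fusion system over a finite p-group S and H an essential subgroup of order p³. Then H is elementary abelian, or p is odd and H is extraspecial of exponent p, or p = 2 and H is the quaternion group of order 8. -/
theorem result {Ω : Type u} [Group Ω] {S : Subgroup Ω} [Finite S] (p : ℕ) [Fact p.Prime] (hS : IsPGroup p S)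
    (F : Cfsg.FusionSystem S) (hF : F.IsSaturated p) (H : Subgroup Ω) (hH : F.IsEssential p H) (hcard : Nat.card H = p ^ 3) :
    Cfsg.IsElementaryAbelian p H ∨ (Odd p ∧ Cfsg.IsExtraspecial p ↥H ∧ ∀ x ∈ H, x ^ p = 1) ∨
      (p = 2 ∧ Nonempty (↥H ≃* QuaternionGroup 2)) := by
  have hHS : H ≤ S := hH.2.1.1
  have hfinH : Finite H := Cfsg.Agent.Lib.Helper26.finite_of_le hHS
  by_cases hc : ∀ a b : H, a * b = b * a
  · by_cases he : ∀ x : H, x ^ p = 1
    · left
      refine ⟨⟨⟨hc⟩⟩, fun a ha => ?_⟩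
      have h1 := congrArg Subtype.val (he ⟨a, ha⟩)
      rw [Subgroup.coe_pow, Subgroup.coe_one] at h1
      exact h1
    · exfalso
      obtain ⟨X, Y, hX, hY, hXY, hXc, hYc⟩ :=
        Cfsg.Agent.Lib.Helper27.exists_char_chain_of_comm hcard hc he
      exact not_essential_of_char_chain hS F hF hH hcard X Y hXY hXc hYc
  · rcases (Fact.out : p.Prime).eq_two_or_odd' with h2 | hodd
    · subst h2
      rcases Cfsg.Agent.Lib.Helper27.order8_cases hcard hc with hQ | ⟨X, Y, hX, hY, hXY, hXc, hYc⟩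
      · right; right
        exact ⟨rfl, hQ⟩
      · exfalso
        exact not_essential_of_char_chain hS F hF hH hcard X Y hXY hXc hYc
    · by_cases he : ∀ x : H, x ^ p = 1
      · right; left
        refine ⟨hodd, Cfsg.Agent.Lib.Helper27.isExtraspecial_of_nonabelian hcard hc, fun a ha => ?_⟩
        have h1 := congrArg Subtype.val (he ⟨a, ha⟩)
        rw [Subgroup.coe_pow, Subgroup.coe_one] at h1
        exact h1
      · exfalso
        obtain ⟨X, Y, hX, hY, hXY, hXc, hYc⟩ :=
          Cfsg.Agent.Lib.Helper27.exists_char_chain_of_nonabelian_odd hcard hc hodd he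
        exact not_essential_of_char_chain hS F hF hH hcard X Y hXY hXc hYc

end Cfsg.Agent.S5186
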