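import Cfsg.Statements.S5188
import Cfsg.Agent.Lib.Helper27.P4Main
import Cfsg.Agent.Lib.Helper27.CharFlag
import Cfsg.Agent.S5187

set_option autoImplicit false
universe u
open Cfsg

namespace Cfsg.Agent.S5188

/-- Let F be a saturated fusion system over a finite p-group S and H an essential subgroup of order p⁴. Then H is isomorphic to one of: C_p⁴ or C_{p²} × C_p × C_p (any p); C_{p²} × C_{p²} with p ∈ {2, 3}; p^{1+2}_+ × C_p with p odd (the direct product of an extraspecial group of order p³ and exponent p with a group of order p); Q₈ × C₂ (p = 2); or the non-abelian group of order p⁴ of exponent p² whose centre is cyclic of order p² (the central product of an extraspecial group of order p³ with a cyclic group of order p²; for p = 2 this is D₈ ∘ C₄). -/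
theorem result {Ω : Type u} [Group Ω] {S : Subgroup Ω} [Finite S] (p : ℕ) [Fact p.Prime] (hS : IsPGroup p S)
    (F : Cfsg.FusionSystem S) (hF : F.IsSaturated p) (H : Subgroup Ω) (hH : F.IsEssential p H) (hcard : Nat.card H = p ^ 4) :
    Cfsg.IsElementaryAbelian p H ∨
      Nonempty (↥H ≃* Multiplicative (ZMod (p ^ 2) × ZMod p × ZMod p)) ∨
      ((p = 2 ∨ p = 3) ∧ Nonempty (↥H ≃* Multiplicative (ZMod (p ^ 2) × ZMod (p ^ 2)))) ∨
      (Odd p ∧ ∃ (E : Type) (_ : Group E) (_ : Finite E), Cfsg.IsExtraspecial p E ∧ Nat.card E = p ^ 3 ∧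
        (∀ x : E, x ^ p = 1) ∧ Nonempty (↥H ≃* E × Multiplicative (ZMod p))) ∨
      (p = 2 ∧ Nonempty (↥H ≃* QuaternionGroup 2 × Multiplicative (ZMod 2))) ∨
      (¬ IsMulCommutative ↥H ∧ (∀ x ∈ H, x ^ (p ^ 2) = 1) ∧ IsCyclic ↥(Subgroup.center ↥H) ∧
        Nat.card (Subgroup.center ↥H) = p ^ 2) := by
  have hHS : H ≤ S := hH.2.1.1
  haveI hfinH : Finite H := Cfsg.Agent.Lib.Helper26.finite_of_le hHS
  rcases Cfsg.Agent.Lib.Helper27.P4Main.order_p4_cases (K := ↥H) hcard with
    hflag | ⟨hc, hidx⟩ | ⟨hc, hexp⟩ | hiso | hodd | h2 | ⟨hnc, hexp, hcyc, hZ⟩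
  · exfalso
    obtain ⟨K₁, K₂, h₁, h₂, h0, h12, c0, c1, c2⟩ := hflag
    exact Cfsg.Agent.Lib.Helper27.CharFlag.not_essential_of_flag hS F hF hH K₁ K₂ h0 h12 c0 c1 c2
  · right; right; left
    have hab : IsMulCommutative ↥H := ⟨⟨hc⟩⟩
    rcases Cfsg.Agent.S5187.result p hS F hF H hH hab hidx with ⟨-, h2⟩ | ⟨hp3, k, ⟨e⟩⟩
    · exfalso
      rw [hcard] at h2
      have hp1 := (Fact.out : p.Prime).one_lt
      have := Nat.pow_right_injective hp1 h2
      omega
    · have hp1 := (Fact.out : p.Prime).one_lt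
      have h2le := (Fact.out : p.Prime).two_le
      have hk : k = 2 := by
        have hc1 := Nat.card_congr e.toEquiv
        have hc2 : Nat.card (Multiplicative (ZMod (p ^ k) × ZMod (p ^ k))) = p ^ k * p ^ k := by
          show Nat.card (ZMod (p ^ k) × ZMod (p ^ k)) = _
          rw [Nat.card_prod, Nat.card_zmod]
        rw [hcard, hc2, ← pow_add] at hc1
        have := Nat.pow_right_injective hp1 hc1
        omega
      subst hk
      refine ⟨?_, ⟨e⟩⟩
      have : p = 2 ∨ p = 3 := by omega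
      exact this
  · left
    refine ⟨⟨⟨hc⟩⟩, fun a ha => ?_⟩
    have h1 := congrArg Subtype.val (hexp ⟨a, ha⟩)
    rw [Subgroup.coe_pow, Subgroup.coe_one] at h1
    exact h1
  · right; left
    exact hiso
  · right; right; right; left
    exact hodd
  · right; right; right; right; left
    exact h2
  · right; right; right; right; right
    refine ⟨fun h => hnc (fun a b => h.is_comm.comm a b), fun x hx => ?_, hcyc, hZ⟩
    have h1 := congrArg Subtype.val (hexp ⟨x, hx⟩)
    rw [Subgroup.coe_pow, Subgroup.coe_one] at h1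
    exact h1

end Cfsg.Agent.S5188
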