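import Cfsg.Statements.S5191

set_option autoImplicit false
open Cfsg

namespace Cfsg.Agent.S5191

open scoped Pointwise

theorem sylow_conj_into {M : Type*} [Group M] [Finite M] {p : ℕ} [Fact p.Prime] (S : Sylow p M)
    (Q : Subgroup M) (hQ : IsPGroup p Q) : ∃ m : M, ∀ y ∈ Q, m * y * m⁻¹ ∈ (S : Subgroup M) := by
  obtain ⟨R, hQR⟩ := hQ.exists_le_sylow
  obtain ⟨m, hm⟩ := MulAction.exists_smul_eq M R S
  refine ⟨m, fun y hy => ?_⟩
  have hyR : y ∈ (R : Subgroup M) := hQR hy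
  have : m * y * m⁻¹ ∈ ((m • R : Sylow p M) : Subgroup M) := by
    rw [Sylow.coe_subgroup_smul]
    exact Subgroup.smul_mem_pointwise_smul y (MulAut.conj m) (R : Subgroup M) hyR
  rw [hm] at this
  exact this

/-- Fusion in a finite group G and in its quotient by O_{p'}(G) agree. Let S be a Sylow p-subgroup of G, N = O_{p'}(G) and P ≤ S. If an element of G/N conjugates the image of P into the image of S, then some element g of G conjugates P into S and induces the same map on P modulo N. (Together with the injectivity of S → G/N this says that g ↦ gN induces an isomorphism of the fusion system of G on S with that of G/N on SN/N.) -/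
theorem result {G : Type*} [Group G] [Finite G] {p : ℕ} [Fact p.Prime]
    [hN : (Cfsg.pPrimeCore p G).Normal] (S : Sylow p G) (P : Subgroup G) (hP : P ≤ (S : Subgroup G))
    (γ : G ⧸ Cfsg.pPrimeCore p G)
    (hγ : ∀ x ∈ P, γ * QuotientGroup.mk x * γ⁻¹ ∈ ((S : Subgroup G).map (QuotientGroup.mk' (Cfsg.pPrimeCore p G)))) :
    ∃ g : G, ∀ x ∈ P, g * x * g⁻¹ ∈ S ∧
      (QuotientGroup.mk (g * x * g⁻¹) : G ⧸ Cfsg.pPrimeCore p G) = γ * QuotientGroup.mk x * γ⁻¹ := by
  obtain ⟨g0, rfl⟩ := QuotientGroup.mk_surjective γ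
  generalize hNdef : Cfsg.pPrimeCore p G = N at *
  set M : Subgroup G := (S : Subgroup G) ⊔ N with hM
  have hSM : (S : Subgroup G) ≤ M := le_sup_left
  have hconjM : ∀ x ∈ P, g0 * x * g0⁻¹ ∈ M := by
    intro x hx
    obtain ⟨s, hs, hsx⟩ := hγ x hx
    have h1 : (QuotientGroup.mk (s⁻¹ * (g0 * x * g0⁻¹)) : G ⧸ N) = 1 := by
      have : (QuotientGroup.mk s : G ⧸ N) = (QuotientGroup.mk (g0 * x * g0⁻¹) : G ⧸ N) := by
        rw [QuotientGroup.mk_mul, QuotientGroup.mk_mul, QuotientGroup.mk_inv]; exact hsx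
      rw [QuotientGroup.mk_mul, QuotientGroup.mk_inv, ← this]
      simp
    have h2 : s⁻¹ * (g0 * x * g0⁻¹) ∈ N := (QuotientGroup.eq_one_iff _).mp h1
    have : g0 * x * g0⁻¹ = s * (s⁻¹ * (g0 * x * g0⁻¹)) := by group
    rw [this]
    exact M.mul_mem (hSM hs) ((le_sup_right : N ≤ M) h2)
  let Q : Subgroup M := (P.map (MulAut.conj g0).toMonoidHom).subgroupOf M
  have hPp : IsPGroup p P := S.isPGroup'.to_le hP
  have hQ : IsPGroup p Q := (hPp.map _).comap_subtype
  obtain ⟨m, hm⟩ := sylow_conj_into (S.subtype hSM) Q hQ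
  have hmM : (m : G) ∈ ((S : Subgroup G) ⊔ N : Subgroup G) := m.2
  have hmem : (m : G) ∈ ((S : Subgroup G) : Set G) * (N : Set G) := by
    rw [← Subgroup.mul_normal]; exact hmM
  obtain ⟨s, hs, n, hn, hsn⟩ := hmem
  refine ⟨n * g0, fun x hx => ⟨?_, ?_⟩⟩
  · have hy : (⟨g0 * x * g0⁻¹, hconjM x hx⟩ : M) ∈ Q := by
      show g0 * x * g0⁻¹ ∈ P.map (MulAut.conj g0).toMonoidHom
      exact ⟨x, hx, rfl⟩
    have h1 := hm _ hy
    have h2 : (m : G) * (g0 * x * g0⁻¹) * (m : G)⁻¹ ∈ (S : Subgroup G) := by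
      rw [Sylow.coe_subtype] at h1
      exact Subgroup.mem_subgroupOf.mp h1
    rw [← hsn] at h2
    have h3 : s⁻¹ * (s * n * (g0 * x * g0⁻¹) * (s * n)⁻¹) * s ∈ (S : Subgroup G) :=
      (S : Subgroup G).mul_mem ((S : Subgroup G).mul_mem ((S : Subgroup G).inv_mem hs) h2) hs
    have h4 : s⁻¹ * (s * n * (g0 * x * g0⁻¹) * (s * n)⁻¹) * s = n * g0 * x * (n * g0)⁻¹ := by group
    rw [h4] at h3
    exact h3
  · have hn1 : (QuotientGroup.mk n : G ⧸ N) = 1 := (QuotientGroup.eq_one_iff n).mpr hn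
    simp only [QuotientGroup.mk_mul, QuotientGroup.mk_inv, hn1, one_mul]

end Cfsg.Agent.S5191
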