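import Cfsg.Statements.S5192
import Cfsg.Agent.Lib.helper17.CB15
import Cfsg.Agent.Lib.Helper26.FusionAut

set_option autoImplicit false
open Cfsg

namespace Cfsg.Agent.S5192

open Cfsg.FusionSystem Cfsg.Agent.Lib.Helper26

theorem hyp_le_foc {Ω : Type*} [Group Ω] {S : Subgroup Ω} (F : FusionSystem S) (p : ℕ) :
    F.hyperfocalSubgroup p ≤ F.focalSubgroup := by
  refine (Subgroup.closure_le _).mpr ?_
  rintro _ ⟨P, α, x, hPS, -, rfl⟩
  exact Subgroup.subset_closure ⟨P, P.subtype.comp (α : MulAut P).toMonoidHom, x,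
    (mem_autGroup_iff F hPS).mp α.2, rfl⟩

/-- A Thompson-type transfer for saturated fusion systems. Let F be a saturated fusion system on a finite 2-group S, T a subgroup of S of index 2, and i an involution of S such that every fully normalized F-conjugate of i lies in S but outside T. Then i does not lie in the hyperfocal subgroup of F (the Sylow group of the 2-residual subsystem). -/
theorem result {Ω : Type*} [Group Ω] [Finite Ω] {S : Subgroup Ω}
    (hS : IsPGroup 2 ↥S) (F : Cfsg.FusionSystem S) (hF : F.IsSaturated 2)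
    (T : Subgroup Ω) (hTS : T ≤ S) (hT : T.relIndex S = 2)
    (i : Ω) (hi : i ∈ S) (hi2 : orderOf i = 2)
    (h : ∀ j : Ω, F.IsConjElt i j → F.IsFullyNormalized (Subgroup.zpowers j) → j ∉ T) :
    i ∉ F.hyperfocalSubgroup 2 := by
  intro hmem
  exact Cfsg.Agent.Lib.helper17.CB15.thompson_transfer hS F hF T hT i hi hi2 h
    (hyp_le_foc F 2 hmem)

end Cfsg.Agent.S5192
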