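import Cfsg.Statements.S5196
import Cfsg.Agent.Lib.helper17.CW5
-- import your own Cfsg.Agent.* helpers here

set_option autoImplicit false
universe u
open Cfsg

namespace Cfsg.Agent.S5196

open Cfsg.FusionSystem Cfsg.Agent.Lib.Helper26 Cfsg.Agent.Lib.Helper27 Cfsg.Agent.Lib.helper17.CW

/-- Let p be an odd prime and W a positive characteristic p-functor: W assigns to every finite p-group Q (in a fixed universe) a subgroup W(Q), nontrivial when Q is, carried to W(R) by every isomorphism Q ≅ R; assume also Z(Q) ≤ W(Q) for every finite p-group Q. Suppose W satisfies the local condition: for every finite group G with Sylow p-subgroup P, O_p(G) ∩ Z(G) = O_p(G) ∩ Z(N_G(W(P))). Then W controls weak closure of elements in every saturated fusion system F over a finite p-group S: the centre of the normalizer fusion system of W(S) in F equals the centre of F. (For p = 2 no functor satisfies the local condition, so p is taken odd.) -/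
theorem result {p : ℕ} [Fact p.Prime] (hp : p ≠ 2) (W : ∀ (Q : Type u) [Group Q], Subgroup Q) (hW1 : ∀ (Q : Type u) [Group Q] [Finite Q], IsPGroup p Q → Nontrivial Q → W Q ≠ ⊥) (hW2 : ∀ (Q R : Type u) [Group Q] [Group R] [Finite Q], IsPGroup p Q → ∀ φ : Q ≃* R, (W Q).map φ.toMonoidHom = W R) (hWZ : ∀ (Q : Type u) [Group Q] [Finite Q], IsPGroup p Q → Subgroup.center Q ≤ W Q) (hC : ∀ (G : Type u) [Group G] [Finite G] (P : Sylow p G), Cfsg.pCore p G ⊓ Subgroup.center G = Cfsg.pCore p G ⊓ (Subgroup.center ↥(Subgroup.normalizer (((W ↥(P : Subgroup G)).map (P : Subgroup G).subtype : Subgroup G) : Set G))).map (Subgroup.normalizer (((W ↥(P : Subgroup G)).map (P : Subgroup G).subtype : Subgroup G) : Set G)).subtype) {Ω : Type u} [Group Ω] {S : Subgroup Ω} [Finite S] (hS : IsPGroup p S) (F : Cfsg.FusionSystem S) (hF : F.IsSaturated p) (N : Cfsg.FusionSystem (Cfsg.FusionSystem.normalizerIn S ((W ↥S).map S.subtype))) (hN : F.IsNormalizerSystem ((W ↥S).map S.subtype) N) : N.center = F.center := by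
  let 𝒲 : PFun.{u} p := PFun.ofW W hW2 hWZ
  have hWS : 𝒲.W S = (W ↥S).map S.subtype := rfl
  -- the local hypothesis
  have hL : LocalHyp p 1 𝒲 := by
    intro G _ _ P hcon y hyP hyc hnorm g
    have hPN : (P : Subgroup G) ≤ Subgroup.normalizer ((𝒲.W (P : Subgroup G) : Subgroup G) : Set G) :=
      Subgroup.le_normalizer.trans (𝒲.normalizer_le (P : Subgroup G) P.2)
    have hyO : y ∈ pCore p G := by
      apply hcon
      rw [Subgroup.mem_centralizer_iff]
      intro u hu
      exact hyc u (Cfsg.Agent.Lib.Helper1.pCore_le_sylow p P hu)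
    have h1 : y ∈ pCore p G ⊓ (Subgroup.center ↥(Subgroup.normalizer
        (((W ↥(P : Subgroup G)).map (P : Subgroup G).subtype : Subgroup G) : Set G))).map
        (Subgroup.normalizer (((W ↥(P : Subgroup G)).map (P : Subgroup G).subtype :
          Subgroup G) : Set G)).subtype := by
      refine ⟨hyO, ⟨y, hPN hyP⟩, ?_, rfl⟩
      rw [SetLike.mem_coe, Subgroup.mem_center_iff]
      intro k
      apply Subtype.ext
      have := hnorm k k.2
      rw [pow_one] at this
      exact this
    rw [← hC G P] at h1
    have h2 := (Subgroup.mem_center_iff.mp h1.2) g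
    rw [pow_one]
    exact h2
  have hSV : S ≤ Subgroup.normalizer (((W ↥S).map S.subtype : Subgroup Ω) : Set Ω) :=
    Subgroup.le_normalizer.trans (𝒲.normalizer_le S hS)
  have hVS : (W ↥S).map S.subtype ≤ S := 𝒲.le S
  have hT : normalizerIn S ((W ↥S).map S.subtype) = S := inf_eq_left.mpr hSV
  have : Finite ↥(normalizerIn S ((W ↥S).map S.subtype)) := finite_of_le (normalizerIn_le _ _)
  apply le_antisymm
  · -- the main direction
    intro z hz
    have hNc := isCentral_center N
    have hzT : z ∈ normalizerIn S ((W ↥S).map S.subtype) := hNc.1 hz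
    have hzS : z ∈ S := hzT.1
    have hfixN : Fixes N z := fixes_of_mem_center N hz
    have hzc : ∀ s ∈ S, s * z = z * s := by
      intro s hs
      have hsT : s ∈ normalizerIn S ((W ↥S).map S.subtype) := ⟨hs, hSV hs⟩
      have h1 := hfixN _ _ (N.conj_mem (le_refl _) hsT) hzT
      have h2 : s * z * s⁻¹ = z := h1
      calc s * z = (s * z * s⁻¹) * s := by group
        _ = z * s := by rw [h2]
    have hfix : FixOn F (𝒲.W S) (z ^ 1) := by
      rw [pow_one]
      exact FixOn.of_fixes_normalizerSystem F N hN hfixN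
    have hall := main 𝒲 hL (Nat.card S + 1) S (Nat.lt_succ_self _) hS F hF z hzS hzc hfix
    have := mem_center_of_forall_centralizerHom F (S.pow_mem hzS 1) hall
    rwa [pow_one] at this
  · -- the centre of `F` is central in the normalizer system
    have hFc := isCentral_center F
    have hZS : F.center ≤ S := hFc.1
    have hcen : N.IsCentral F.center := by
      refine ⟨fun x hx => ⟨hZS hx, hSV (hZS hx)⟩, fun P φ hφ => ?_⟩
      rw [hN P] at hφ
      obtain ⟨hφF, hPT, hφT, ψ₀, hψ₀, hext₀, hmap₀⟩ := hφ
      obtain ⟨ψ₁, hψ₁, hext₁, hfix₁⟩ := hFc.2 _ ψ₀ hψ₀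
      have hPtS : (P ⊔ (W ↥S).map S.subtype) ⊔ F.center ≤ S := source_le F hψ₁
      have hψ₁N : ψ₁ ∈ N.Hom ((P ⊔ (W ↥S).map S.subtype) ⊔ F.center) := by
        rw [hN _]
        refine mem_normalizerHom_of_invariant F hψ₁ (le_sup_right.trans le_sup_left)
          (hPtS.trans hSV) (fun x hx => ?_)
        have e : x = Subgroup.inclusion le_sup_left
            (Subgroup.inclusion (le_sup_right : (W ↥S).map S.subtype ≤ P ⊔ (W ↥S).map S.subtype)
              ⟨x, hx⟩) := Subtype.ext rfl
        rw [e, hext₁]
        exact hmap₀.le ((map_subgroupOf_sup_eq ψ₀).mpr ⟨⟨x, hx⟩, rfl⟩)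
      have hle : P ⊔ F.center ≤ (P ⊔ (W ↥S).map S.subtype) ⊔ F.center :=
        sup_le (le_sup_left.trans le_sup_left) le_sup_right
      refine ⟨ψ₁.comp (Subgroup.inclusion hle), restrict_mem N hψ₁N hle, fun x => ?_, fun x => ?_⟩
      · have e : Subgroup.inclusion hle (Subgroup.inclusion le_sup_left x) =
            Subgroup.inclusion le_sup_left (Subgroup.inclusion
              (le_sup_left : P ≤ P ⊔ (W ↥S).map S.subtype) x) := Subtype.ext rfl
        show ψ₁ (Subgroup.inclusion hle (Subgroup.inclusion le_sup_left x)) = φ x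
        rw [e, hext₁, hext₀]
      · have e : Subgroup.inclusion hle (Subgroup.inclusion le_sup_right x) =
            Subgroup.inclusion le_sup_right x := Subtype.ext rfl
        show ψ₁ (Subgroup.inclusion hle (Subgroup.inclusion le_sup_right x)) = x
        rw [e, hfix₁]
    exact le_sSup hcen

end Cfsg.Agent.S5196
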