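import Cfsg.Statements.S5197
import Cfsg.Agent.Lib.Helper27.TrMain
import Cfsg.Agent.Lib.Helper27.TrFunOf

set_option autoImplicit false
universe u
open Cfsg

namespace Cfsg.Agent.S5197

open Cfsg.FusionSystem Cfsg.Agent.Lib.Helper26 Cfsg.Agent.Lib.Helper27
  Cfsg.Agent.Lib.Helper27.GT Cfsg.Agent.Lib.Helper27.Th Cfsg.Agent.Lib.Helper27.Qd
  Cfsg.Agent.Lib.Helper27.Tr

/-- Let p be a prime and W a positive characteristic p-functor: W assigns to every finite p-group Q (in a fixed universe) a subgroup W(Q), nontrivial when Q is, carried to W(R) by every isomorphism Q ≅ R. Suppose W satisfies the local condition: for every finite group G with Sylow p-subgroup P such that C_G(O_p(G)) ≤ O_p(G), one has O_p(G) ∩ [G, G] = O_p(G) ∩ [N, N] for N = N_G(W(P)). Then W controls transfer in every saturated fusion system F over a finite p-group S: the focal subgroup of F equals the focal subgroup of the normalizer fusion system of W(S) in F. -/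
theorem result {p : ℕ} [Fact p.Prime] (W : ∀ (Q : Type u) [Group Q], Subgroup Q) (hW1 : ∀ (Q : Type u) [Group Q] [Finite Q], IsPGroup p Q → Nontrivial Q → W Q ≠ ⊥) (hW2 : ∀ (Q R : Type u) [Group Q] [Group R] [Finite Q], IsPGroup p Q → ∀ φ : Q ≃* R, (W Q).map φ.toMonoidHom = W R) (hT : ∀ (G : Type u) [Group G] [Finite G] (P : Sylow p G), Subgroup.centralizer ((Cfsg.pCore p G : Subgroup G) : Set G) ≤ Cfsg.pCore p G → Cfsg.pCore p G ⊓ commutator G = Cfsg.pCore p G ⊓ (commutator ↥(Subgroup.normalizer (((W ↥(P : Subgroup G)).map (P : Subgroup G).subtype : Subgroup G) : Set G))).map (Subgroup.normalizer (((W ↥(P : Subgroup G)).map (P : Subgroup G).subtype : Subgroup G) : Set G)).subtype) {Ω : Type u} [Group Ω] {S : Subgroup Ω} [Finite S] (hS : IsPGroup p S) (F : Cfsg.FusionSystem S) (hF : F.IsSaturated p) (N : Cfsg.FusionSystem (Cfsg.FusionSystem.normalizerIn S ((W ↥S).map S.subtype))) (hN : F.IsNormalizerSystem ((W ↥S).map S.subtype) N) : N.focalSubgroup = F.focalSubgroup := by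
  have hWS : (funOf p W hW1 hW2).W S = (W ↥S).map S.subtype := funOf_W p W hW1 hW2 S hS
  have hTF : TransFun p (funOf p W hW1 hW2) := by
    intro L _ _ T hcore
    have h1 := hT L T hcore
    have h2 : (funOf p W hW1 hW2).W (T : Subgroup L) =
        (W ↥(T : Subgroup L)).map (T : Subgroup L).subtype :=
      funOf_W p W hW1 hW2 _ T.isPGroup'
    rw [h2]
    exact inf_le_right.trans' (le_of_eq h1)
  have main := transfer_main (funOf p W hW1 hW2) hTF (Nat.card S) S rfl hS F hF
  have hhom : ∀ (P : Subgroup Ω) (φ : P →* Ω),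
      φ ∈ N.Hom P ↔ φ ∈ (nW (funOf p W hW1 hW2) F).Hom P := by
    intro P φ
    rw [hN P]
    unfold nW
    rw [normSys_hom, hWS]
  have heq : N.focalSubgroup = TW (funOf p W hW1 hW2) F := by
    unfold TW FusionSystem.focalSubgroup
    congr 1
    ext y
    constructor
    · rintro ⟨P, φ, x, hφ, rfl⟩
      exact ⟨P, φ, x, (hhom P φ).mp hφ, rfl⟩
    · rintro ⟨P, φ, x, hφ, rfl⟩
      exact ⟨P, φ, x, (hhom P φ).mpr hφ, rfl⟩
  rw [heq]
  exact le_antisymm (TW_le_focal _ F) main

end Cfsg.Agent.S5197
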