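import Cfsg.Statements.S5198
import Cfsg.Agent.Lib.Helper27.FusLift2
import Cfsg.Agent.Lib.Helper26.FusionSeries3

set_option autoImplicit false
open Cfsg

namespace Cfsg.Agent.S5198

open Cfsg.FusionSystem Cfsg.Agent.Lib.Helper26 Cfsg.Agent.Lib.Helper27

variable {Ω : Type*} [Group Ω]

/-- elements of `Ω` acting on `T` by conjugation as a member of `B` -/
def actSub (T : Subgroup Ω) (B : Subgroup (MulAut T)) : Subgroup Ω where
  carrier := {s | ∃ α ∈ B, ∀ t : T, ((α t : T) : Ω) = s * (t : Ω) * s⁻¹}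
  one_mem' := ⟨1, B.one_mem, fun t => by simp⟩
  mul_mem' := by
    rintro a b ⟨α, hα, hα'⟩ ⟨β, hβ, hβ'⟩
    refine ⟨α * β, B.mul_mem hα hβ, fun t => ?_⟩
    rw [MulAut.mul_apply, hα', hβ']
    group
  inv_mem' := by
    rintro a ⟨α, hα, hα'⟩
    refine ⟨α⁻¹, B.inv_mem hα, fun t => ?_⟩
    have h1 := hα' (α⁻¹ t)
    rw [MulAut.apply_inv_self] at h1
    rw [h1]
    group

theorem mem_actSub {T : Subgroup Ω} {B : Subgroup (MulAut T)} {s : Ω} :
    s ∈ actSub T B ↔ ∃ α ∈ B, ∀ t : T, ((α t : T) : Ω) = s * (t : Ω) * s⁻¹ := Iff.rfl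

theorem pow_restrict_apply {Q T : Subgroup Ω} (hTQ : T ≤ Q) (γ : MulAut Q) (γT : MulAut T)
    (h : ∀ t : T, ((γT t : T) : Ω) = ((γ (Subgroup.inclusion hTQ t) : Q) : Ω)) (n : ℕ) (t : T) :
    (((γT ^ n) t : T) : Ω) = (((γ ^ n) (Subgroup.inclusion hTQ t) : Q) : Ω) := by
  induction n generalizing t with
  | zero => rfl
  | succ n ih =>
    rw [pow_succ, pow_succ, MulAut.mul_apply, MulAut.mul_apply, ih]
    have : Subgroup.inclusion hTQ (γT t) = γ (Subgroup.inclusion hTQ t) := Subtype.ext (h t)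
    rw [this]

theorem conj_mem_pResidual {G : Type*} [Group G] (p : ℕ) (g h : G) (hg : (orderOf g).Coprime p) :
    h⁻¹ * g * h * g⁻¹ ∈ pResidual p G := by
  unfold pResidual
  refine Subgroup.mul_mem _ (Subgroup.subset_closure ?_)
    (Subgroup.inv_mem _ (Subgroup.subset_closure hg))
  show (orderOf (h⁻¹ * g * h)).Coprime p
  have := (MulAut.conj h⁻¹).orderOf_eq g
  rw [MulAut.conj_apply, inv_inv] at this
  rw [this]
  exact hg

theorem core_case {S : Subgroup Ω} [Finite S] {p : ℕ} [Fact p.Prime] (hS : IsPGroup p S)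
    (F : FusionSystem S) (hF : F.IsSaturated p) {T : Subgroup Ω} (hT : F.StronglyClosed T)
    {P : Subgroup Ω} (hPS : P ≤ S) (β : F.autGroup P) (hord : (orderOf β).Coprime p) (x : P) :
    (x : Ω)⁻¹ * (((β : MulAut P) x : P) : Ω) ∈
      actSub T ((pResidual p ↥(F.autGroup T)).map (F.autGroup T).subtype ⊔ Inn ↥T) := by
  have hSn := le_normalizer_of_stronglyClosed F hT
  have hTV : T ≤ actSub T ((pResidual p ↥(F.autGroup T)).map (F.autGroup T).subtype ⊔ Inn ↥T) := by
    intro s hs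
    refine ⟨MulAut.conj ⟨s, hs⟩, (le_sup_right : Inn ↥T ≤ _) ⟨_, rfl⟩, fun t => ?_⟩
    simp [MulAut.conj_apply]
  have hord' : (orderOf (β : MulAut P)).Coprime p := by
    rw [Subgroup.orderOf_coe]; exact hord
  obtain ⟨γ, hγ, hγord, hγβ⟩ := exists_aut_lift_pprime hS F hF hT hPS β.2 hord'
  have hQS : P ⊔ T ≤ S := sup_le hPS hT.1
  have hfinT : Finite T := finite_of_le hT.1
  have hγF : (P ⊔ T).subtype.comp γ.toMonoidHom ∈ F.Hom (P ⊔ T) := (mem_autGroup_iff F hQS).mp hγ
  have hres : ((P ⊔ T).subtype.comp γ.toMonoidHom).comp (Subgroup.inclusion le_sup_right) ∈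
      F.Hom T := restrict_mem F hγF le_sup_right
  have hrle : (((P ⊔ T).subtype.comp γ.toMonoidHom).comp
      (Subgroup.inclusion (le_sup_right : T ≤ P ⊔ T))).range ≤ T := by
    rintro _ ⟨t, rfl⟩
    exact hT.2 T le_rfl _ hres t
  have hr := range_eq_of_range_le F hres hrle
  obtain ⟨γT, hγTmem, hγTapply⟩ : ∃ γT ∈ F.autGroup T, ∀ t : T, ((γT t : T) : Ω) =
      ((γ (Subgroup.inclusion le_sup_right t) : ↥(P ⊔ T)) : Ω) :=
    ⟨autOfHom F hres hr, autOfHom_mem F hres hr, fun t => rfl⟩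
  have hγTord : (orderOf (⟨γT, hγTmem⟩ : F.autGroup T)).Coprime p := by
    rw [← Subgroup.orderOf_coe]
    refine Nat.Coprime.coprime_dvd_left (orderOf_dvd_of_pow_eq_one ?_) hγord
    refine MulEquiv.ext (fun t => Subtype.ext ?_)
    rw [pow_restrict_apply le_sup_right γ _ hγTapply, pow_orderOf_eq_one]
    rfl
  have hxN : (x : Ω) ∈ Subgroup.normalizer (T : Set Ω) := hSn (hPS x.2)
  obtain ⟨χ, hχ, hχinv⟩ : ∃ χ ∈ F.autGroup T, ∀ t : T, ((χ⁻¹ t : T) : Ω) =
      (x : Ω)⁻¹ * (t : Ω) * (x : Ω) :=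
    ⟨conjAut T (x : Ω) hxN,
      autInducedBy_le_autGroup F hT.1 (conjAut_mem_autInducedBy (hPS x.2) hxN),
      fun t => conjAut_inv_apply T (x : Ω) hxN t⟩
  have hχapply : ∀ t : T, ((χ t : T) : Ω) = (x : Ω) * (t : Ω) * (x : Ω)⁻¹ := by
    intro t
    have h1 := hχinv (χ t)
    rw [MulAut.inv_apply_self] at h1
    rw [h1]
    group
  have hy : (x : Ω)⁻¹ * ((γ (Subgroup.inclusion le_sup_left x) : ↥(P ⊔ T)) : Ω) ∈
      actSub T ((pResidual p ↥(F.autGroup T)).map (F.autGroup T).subtype ⊔ Inn ↥T) := by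
    refine ⟨χ⁻¹ * γT * χ * γT⁻¹, ?_, fun t => ?_⟩
    · apply (le_sup_left : (pResidual p ↥(F.autGroup T)).map (F.autGroup T).subtype ≤ _)
      exact ⟨(⟨χ, hχ⟩ : F.autGroup T)⁻¹ * ⟨γT, hγTmem⟩ * ⟨χ, hχ⟩ * (⟨γT, hγTmem⟩ : F.autGroup T)⁻¹,
        conj_mem_pResidual p _ _ hγTord, rfl⟩
    · rw [MulAut.mul_apply, MulAut.mul_apply, MulAut.mul_apply, hχinv, hγTapply]
      have hu : Subgroup.inclusion (le_sup_right : T ≤ P ⊔ T) (χ (γT⁻¹ t)) =
          Subgroup.inclusion le_sup_left x *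
            Subgroup.inclusion le_sup_right (γT⁻¹ t) *
            (Subgroup.inclusion le_sup_left x)⁻¹ := by
        apply Subtype.ext
        exact hχapply _
      rw [hu, map_mul, map_mul, map_inv]
      have h2 : ((γ (Subgroup.inclusion le_sup_right (γT⁻¹ t)) : ↥(P ⊔ T)) : Ω) = (t : Ω) := by
        rw [← hγTapply, MulAut.apply_inv_self]
      simp only [Subgroup.coe_mul, Subgroup.coe_inv, h2]
      group
  have h3 := hγβ x
  have e : (x : Ω)⁻¹ * (((β : MulAut P) x : P) : Ω) =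
      ((x : Ω)⁻¹ * ((γ (Subgroup.inclusion le_sup_left x) : ↥(P ⊔ T)) : Ω)) *
      ((((β : MulAut P) x : P) : Ω)⁻¹ *
        ((γ (Subgroup.inclusion le_sup_left x) : ↥(P ⊔ T)) : Ω))⁻¹ := by group
  rw [e]
  exact Subgroup.mul_mem _ hy (hTV (T.inv_mem h3))

/-- Let F be a saturated fusion system over a finite p-group S and T a subgroup of S strongly closed in F (so T is normal in S). Then every element x of the hyperfocal subgroup of F acts on T by conjugation as an element of O^p(Aut_F(T))·Inn(T): there is an automorphism of T in the subgroup generated by the elements of Aut_F(T) of order prime to p together with the inner automorphisms of T that agrees with conjugation by x. -/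
theorem result {Ω : Type*} [Group Ω] {S : Subgroup Ω} [Finite S] (p : ℕ) [Fact p.Prime] (hS : IsPGroup p S) (F : Cfsg.FusionSystem S) (hF : F.IsSaturated p) (T : Subgroup Ω) (hT : F.StronglyClosed T) : ∀ x ∈ F.hyperfocalSubgroup p, ∃ α ∈ ((Cfsg.pResidual p ↥(F.autGroup T)).map (F.autGroup T).subtype ⊔ Cfsg.Inn ↥T : Subgroup (MulAut ↥T)), ∀ t : ↥T, ((α t : ↥T) : Ω) = x * (t : Ω) * x⁻¹ := by
  have key : F.hyperfocalSubgroup p ≤
      actSub T ((pResidual p ↥(F.autGroup T)).map (F.autGroup T).subtype ⊔ Inn ↥T) := by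
    unfold FusionSystem.hyperfocalSubgroup
    rw [Subgroup.closure_le]
    rintro _ ⟨P, α, x, hPS, hα, rfl⟩
    have hQ : ∀ β : F.autGroup P, β ∈ pResidual p (F.autGroup P) → ∀ x : P,
        (x : Ω)⁻¹ * (((β : MulAut P) x : P) : Ω) ∈
          actSub T ((pResidual p ↥(F.autGroup T)).map (F.autGroup T).subtype ⊔ Inn ↥T) := by
      intro β hβ
      unfold pResidual at hβ
      refine Subgroup.closure_induction (p := fun (β : F.autGroup P) _ => ∀ x : P,
        (x : Ω)⁻¹ * (((β : MulAut P) x : P) : Ω) ∈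
          actSub T ((pResidual p ↥(F.autGroup T)).map (F.autGroup T).subtype ⊔ Inn ↥T))
        ?_ ?_ ?_ ?_ hβ
      · intro β hβ x
        exact core_case hS F hF hT hPS β hβ x
      · intro x
        simp only [Subgroup.coe_one, MulAut.one_apply, inv_mul_cancel]
        exact Subgroup.one_mem _
      · intro a b _ _ ha hb x
        have e : (x : Ω)⁻¹ * ((((a * b : F.autGroup P) : MulAut P) x : P) : Ω) =
            ((x : Ω)⁻¹ * (((b : MulAut P) x : P) : Ω)) *
            ((((b : MulAut P) x : P) : Ω)⁻¹ * (((a : MulAut P) ((b : MulAut P) x) : P) : Ω)) := by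
          rw [Subgroup.coe_mul, MulAut.mul_apply]; group
        rw [e]
        exact Subgroup.mul_mem _ (hb x) (ha _)
      · intro a _ ha x
        have h1 := ha (((a⁻¹ : F.autGroup P) : MulAut P) x)
        rw [Subgroup.coe_inv, MulAut.apply_inv_self] at h1
        have e : (x : Ω)⁻¹ * ((((a⁻¹ : F.autGroup P) : MulAut P) x : P) : Ω) =
            (((((a : MulAut P)⁻¹ x : P) : Ω))⁻¹ * (x : Ω))⁻¹ := by
          rw [Subgroup.coe_inv]; group
        rw [e]
        exact Subgroup.inv_mem _ h1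
    exact hQ α hα x
  intro x hx
  exact mem_actSub.mp (key hx)

end Cfsg.Agent.S5198
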