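import Cfsg.Statements.S5204
import Cfsg.Agent.Lib.Helper27.GTZJ

set_option autoImplicit false
open Cfsg

namespace Cfsg.Agent.S5204

/-- The Glauberman–Thompson normal p-complement criterion for fusion systems, p odd. Let F be a saturated fusion system over a finite p-group S with p odd, and let Z(J(S)) be the centre of the subgroup generated by the abelian subgroups of S of largest order. Then F is the inner fusion system of S if and only if the normalizer fusion system of Z(J(S)) in F is the inner fusion system of N_S(Z(J(S))) = S. -/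
theorem result {Ω : Type*} [Group Ω] {S : Subgroup Ω} [Finite S] (p : ℕ) [Fact p.Prime] (hS : IsPGroup p S) (F : Cfsg.FusionSystem S) (hF : F.IsSaturated p) (hp : p ≠ 2) : (∀ P : Subgroup Ω, F.Hom P = (Cfsg.innerFusionSystem S).Hom P) ↔ ∀ N : Cfsg.FusionSystem (Cfsg.FusionSystem.normalizerIn S (Cfsg.centerThompsonAOf S)), F.IsNormalizerSystem (Cfsg.centerThompsonAOf S) N → ∀ P : Subgroup Ω, N.Hom P = (Cfsg.innerFusionSystem (Cfsg.FusionSystem.normalizerIn S (Cfsg.centerThompsonAOf S))).Hom P := by
  constructor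
  · intro hin N hN
    have hNW : S ≤ Subgroup.normalizer (Cfsg.centerThompsonAOf S : Set Ω) :=
      Subgroup.le_normalizer.trans
        ((Cfsg.Agent.Lib.Helper27.GT.zjFunctor p hp).normalizer_le S)
    refine Cfsg.Agent.Lib.Helper27.GT.inner_of_le (fun P φ hφ => ?_)
    rw [hN P] at hφ
    obtain ⟨hφF, hPN, -, -⟩ := hφ
    rw [hin P] at hφF
    obtain ⟨-, g, hg, h⟩ := hφF
    exact ⟨hPN, g, Subgroup.mem_inf.mpr ⟨hg, hNW hg⟩, h⟩
  · intro h
    by_contra hni
    have hw := Cfsg.Agent.Lib.Helper27.GT.gt_zj hp hS F hF hni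
    have hle : Cfsg.centerThompsonAOf S ≤ S := Cfsg.Agent.Lib.Helper27.ZJ.centerThompsonAOf_le S
    have hNN := Cfsg.Agent.Lib.Helper26.normalizerSystem_isNormalizerSystem F
      (Cfsg.centerThompsonAOf S) hle
    exact Cfsg.Agent.Lib.Helper27.GT.not_inner_of_normWit hS hw hNN (h _ hNN)

end Cfsg.Agent.S5204
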