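import Cfsg.Statements.S5205
import Cfsg.Agent.Lib.Helper27.QdMain

set_option autoImplicit false
universe u
open Cfsg

namespace Cfsg.Agent.S5205

open Cfsg.FusionSystem Cfsg.Agent.Lib.Helper26 Cfsg.Agent.Lib.Helper27
  Cfsg.Agent.Lib.Helper27.GT Cfsg.Agent.Lib.Helper27.Th Cfsg.Agent.Lib.Helper27.Qd

/-- the value of the functor on a subgroup -/
noncomputable def funW (p : ℕ) (W : ∀ (Q : Type u) [Group Q], Subgroup Q) {Ω : Type u} [Group Ω]
    (S : Subgroup Ω) : Subgroup Ω :=
  @ite _ (Finite S ∧ IsPGroup p S) (Classical.propDecidable _) ((W ↥S).map S.subtype) ⊥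

theorem funW_pos (p : ℕ) (W : ∀ (Q : Type u) [Group Q], Subgroup Q) {Ω : Type u} [Group Ω]
    (S : Subgroup Ω) (h : Finite S ∧ IsPGroup p S) : funW p W S = (W ↥S).map S.subtype := by
  unfold funW
  rw [if_pos h]

theorem funW_neg (p : ℕ) (W : ∀ (Q : Type u) [Group Q], Subgroup Q) {Ω : Type u} [Group Ω]
    (S : Subgroup Ω) (h : ¬ (Finite S ∧ IsPGroup p S)) : funW p W S = ⊥ := by
  unfold funW
  rw [if_neg h]

/-- the characteristic functor built from `W` -/
noncomputable def funOf (p : ℕ) (W : ∀ (Q : Type u) [Group Q], Subgroup Q)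
    (hW1 : ∀ (Q : Type u) [Group Q] [Finite Q], IsPGroup p Q → Nontrivial Q → W Q ≠ ⊥)
    (hW2 : ∀ (Q R : Type u) [Group Q] [Group R] [Finite Q], IsPGroup p Q →
      ∀ φ : Q ≃* R, (W Q).map φ.toMonoidHom = W R) : CharFunctor.{u} p where
  W S := funW p W S
  le := by
    intro Ω _ S
    by_cases h : Finite S ∧ IsPGroup p S
    · rw [funW_pos p W S h]
      exact Subgroup.map_subtype_le _
    · rw [funW_neg p W S h]
      exact bot_le
  ne_bot := by
    intro Ω _ S _ hS hne
    rw [funW_pos p W S ⟨inferInstance, hS⟩]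
    haveI : Nontrivial ↥S := (Subgroup.nontrivial_iff_ne_bot S).mpr hne
    have h1 := hW1 ↥S hS inferInstance
    intro h2
    exact h1 ((Subgroup.map_eq_bot_iff_of_injective _ S.subtype_injective).mp h2)
  map := by
    intro Ω Ω' _ _ f hf S
    by_cases h : Finite S ∧ IsPGroup p S
    · obtain ⟨hfin, hSp⟩ := h
      haveI := hfin
      have h' : Finite ↥(S.map f) ∧ IsPGroup p ↥(S.map f) :=
        ⟨Finite.of_equiv _ (S.equivMapOfInjective f hf).toEquiv, hSp.map f⟩
      rw [funW_pos p W S ⟨hfin, hSp⟩, funW_pos p W (S.map f) h',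
        ← hW2 ↥S ↥(S.map f) hSp (S.equivMapOfInjective f hf), Subgroup.map_map, Subgroup.map_map]
      congr 1
    · have h' : ¬ (Finite ↥(S.map f) ∧ IsPGroup p ↥(S.map f)) := by
        rintro ⟨hfin, hp⟩
        apply h
        haveI := hfin
        exact ⟨Finite.of_equiv _ (S.equivMapOfInjective f hf).symm.toEquiv,
          hp.of_equiv (S.equivMapOfInjective f hf).symm⟩
      rw [funW_neg p W S h, funW_neg p W (S.map f) h', Subgroup.map_bot]


/-- Glauberman's ZJ-Theorem for fusion systems, in functor form. Let p be an odd prime and W a Glauberman functor: W assigns to every finite p-group Q (in a fixed universe) a subgroup W(Q), nontrivial when Q is, carried to W(R) by every isomorphism Q ≅ R, and such that W(P) is normal in L whenever P is a Sylow p-subgroup of a finite group L with C_L(O_p(L)) = Z(O_p(L)) in which Qd(p) (the natural semidirect product of an elementary abelian group of order p² by SL₂(p)) is not involved. Let F be a saturated fusion system over a finite p-group S that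 is Qd(p)-free: Qd(p) is not involved in any model of the normalizer system of a fully normalized F-centric subgroup. Then F equals the normalizer fusion system of W(S) in F. -/
theorem result {p : ℕ} [Fact p.Prime] (hp : p ≠ 2) (W : ∀ (Q : Type u) [Group Q], Subgroup Q) (hW1 : ∀ (Q : Type u) [Group Q] [Finite Q], IsPGroup p Q → Nontrivial Q → W Q ≠ ⊥) (hW2 : ∀ (Q R : Type u) [Group Q] [Group R] [Finite Q], IsPGroup p Q → ∀ φ : Q ≃* R, (W Q).map φ.toMonoidHom = W R) (hW3 : ∀ (L : Type u) [Group L] [Finite L] (P : Sylow p L), Subgroup.centralizer ((Cfsg.pCore p L : Subgroup L) : Set L) = Cfsg.pCore p L ⊓ Subgroup.centralizer ((Cfsg.pCore p L : Subgroup L) : Set L) → ¬ Cfsg.Involves ↥(Cfsg.qd p) L → (((W ↥(P : Subgroup L)).map (P : Subgroup L).subtype : Subgroup L)).Normal) {Ω : Type u} [Group Ω] {S : Subgroup Ω} [Finite S] (hS : IsPGroup p S) (F : Cfsg.FusionSystem S) (hF : F.IsSaturated p) (hfree : F.IsSectionFree p ↥(Cfsg.qd p)) (N : Cfsg.FusionSystem (Cfsg.FusionSystem.normalizerIn S ((W ↥S).map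 S.subtype))) (hN : F.IsNormalizerSystem ((W ↥S).map S.subtype) N) : ∀ P : Subgroup Ω, N.Hom P = F.Hom P := by
  have hWS : funW p W S = (W ↥S).map S.subtype := funW_pos p W S ⟨inferInstance, hS⟩
  have hG : GlaubFun p ↥(Cfsg.qd p) (funOf p W hW1 hW2) := by
    intro L _ _ T hcore hinv
    have h1 := hW3 L T (inf_eq_right.mpr hcore).symm hinv
    have h2 : (funOf p W hW1 hW2).W (T : Subgroup L) =
        (W ↥(T : Subgroup L)).map (T : Subgroup L).subtype :=
      funW_pos p W _ ⟨inferInstance, T.isPGroup'⟩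
    rw [h2]
    exact h1
  have hnorm := qd_main ↥(Cfsg.qd p) (funOf p W hW1 hW2) hG (Nat.card S) S rfl hS F hF hfree
  have hnorm' : F.IsNormal ((W ↥S).map S.subtype) := by
    have h3 : (funOf p W hW1 hW2).W S = (W ↥S).map S.subtype := hWS
    rwa [h3] at hnorm
  have hSN : S ≤ Subgroup.normalizer (((W ↥S).map S.subtype : Subgroup Ω) : Set Ω) := fun s hs =>
    mem_normalizer_of_isNormal F hnorm' hs
  intro P
  rw [hN P]
  ext φ
  constructor
  · intro h
    exact h.1
  · intro hφ
    obtain ⟨ψ, hψ, hext, hmap⟩ := hnorm'.2 P φ hφ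
    refine ⟨hφ, ?_, fun x => ?_, ψ, hψ, hext, hmap⟩
    · rw [normalizerIn_eq_self hSN]
      exact source_le F hφ
    · rw [normalizerIn_eq_self hSN]
      exact apply_mem F hφ x

end Cfsg.Agent.S5205
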