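import Cfsg.Statements.S5214
import Cfsg.Agent.Lib.Helper27.SzHigman
import Cfsg.Agent.Lib.Helper27.SzFus

set_option autoImplicit false
open Cfsg

namespace Cfsg.Agent.S5214

/-- Let S be a Suzuki 2-group (a finite nonabelian 2-group with more than one involution admitting a cyclic group of automorphisms permuting its involutions regularly). Then S is normal in every saturated fusion system over S (such a group is resistant). -/
theorem result {Ω : Type*} [Group Ω] {S : Subgroup Ω} [Finite S] (hS : IsPGroup 2 S) (F : Cfsg.FusionSystem S) (hF : F.IsSaturated 2) (hsz : Cfsg.IsSuzukiTwoGroup ↥S) : F.IsNormal S := by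
  obtain ⟨h1, h2, -, h4, -⟩ := Cfsg.Agent.Lib.Helper27.Sz.higman hsz
  apply Cfsg.Agent.Lib.Helper27.SzFus.isNormal_of_class_two hS F hF
  · intro x hx hxx y hy
    have hc := h1 ⟨x, hx⟩ (Subtype.ext hxx)
    have := Subgroup.mem_center_iff.mp hc ⟨y, hy⟩
    exact (congrArg Subtype.val this).symm
  · intro x hx y hy
    have hc := h4 ⟨x, hx⟩ ⟨y, hy⟩
    have := h2 _ hc
    rw [commutatorElement_def] at this
    exact congrArg Subtype.val this

end Cfsg.Agent.S5214
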