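import Cfsg.Statements.S5218
import Cfsg.Agent.S5087
import Cfsg.Agent.Lib.Helper27.NilPow
import Cfsg.Agent.Lib.Helper27.AlperinOrd
import Cfsg.Agent.Lib.Helper27.EssExt

set_option autoImplicit false
open Cfsg

namespace Cfsg.Agent.S5218

open Cfsg.FusionSystem Cfsg.Agent.Lib.Helper26 Cfsg.Agent.Lib.Helper27
open scoped commutatorElement

variable {Ω : Type*} [Group Ω] {S : Subgroup Ω}

/-- an element outside `R` normalizing `R` whose `p`-th power lies in `R` -/
theorem exists_outer_pow [Finite S] {p : ℕ} [Fact p.Prime] (hS : IsPGroup p S) {R : Subgroup Ω}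
    (hRS : R ≤ S) (hne : R ≠ S) :
    ∃ x ∈ S, x ∈ Subgroup.normalizer (R : Set Ω) ∧ x ∉ R ∧ x ^ p ∈ R := by
  have hlt := lt_normalizerIn hS hRS hne
  obtain ⟨y, hyN, hyR⟩ := SetLike.exists_of_lt hlt
  obtain ⟨k, hk⟩ := hS ⟨y, hyN.1⟩
  have hk' : y ^ (p ^ k) = 1 := by
    have := congrArg Subtype.val hk
    simpa using this
  have hex : ∃ j, y ^ (p ^ j) ∈ R := ⟨k, by rw [hk']; exact R.one_mem⟩
  classical
  have hj0 : Nat.find hex ≠ 0 := by
    intro h0
    have h1 := Nat.find_spec hex
    rw [h0] at h1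
    simp at h1
    exact hyR h1
  obtain ⟨j, hj⟩ := Nat.exists_eq_succ_of_ne_zero hj0
  refine ⟨y ^ (p ^ j), S.pow_mem hyN.1 _, Subgroup.pow_mem _ hyN.2 _, ?_, ?_⟩
  · exact Nat.find_min hex (by omega)
  · have h1 := Nat.find_spec hex
    rw [hj, pow_succ, pow_mul] at h1
    exact h1


/-- conjugation by an element whose `p`-th power lies in `R` fixes the `p ^ n`-th powers of
central elements of `R` when the class of `S` is at most `n (p - 1) + 1` -/
theorem conj_fix_pow {p : ℕ} [Fact p.Prime] {R : Subgroup Ω} (hRS : R ≤ S) (n : ℕ)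
    (hcl : Subgroup.lowerCentralSeries S (n * (p - 1) + 1) = ⊥)
    (x : Ω) (hxS : x ∈ S) (hxN : x ∈ Subgroup.normalizer (R : Set Ω)) (hxp : x ^ p ∈ R)
    (v : R) (hv : v ∈ Subgroup.center R) : x * (v : Ω) ^ (p ^ n) * x⁻¹ = (v : Ω) ^ (p ^ n) := by
  have hpp : p.Prime := Fact.out
  letI instC : CommGroup ↥(Subgroup.center R) :=
    { (inferInstance : Group ↥(Subgroup.center R)) with
      mul_comm := fun a b => Subtype.ext (b.2.comm a).symm }
  have hαc : ∀ w : R, w ∈ Subgroup.center R → conjAut R x hxN w ∈ Subgroup.center R := by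
    intro w hw
    rw [Subgroup.mem_center_iff] at hw ⊢
    intro g
    obtain ⟨g', rfl⟩ := (conjAut R x hxN).surjective g
    rw [← map_mul, ← map_mul, hw g']
  let σ : ↥(Subgroup.center R) →* ↥(Subgroup.center R) :=
    ((conjAut R x hxN).toMonoidHom.comp (Subgroup.center R).subtype).codRestrict _
      (fun w => hαc w w.2)
  have hσa : ∀ w : ↥(Subgroup.center R), (((σ w : ↥(Subgroup.center R)) : R) : Ω) =
      x * ((w : R) : Ω) * x⁻¹ := fun w => rfl
  have hσ : ∀ w, σ^[p] w = w := by
    have h1 : ∀ (k : ℕ) (w : ↥(Subgroup.center R)),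
        (((σ^[k] w : ↥(Subgroup.center R)) : R) : Ω) = x ^ k * ((w : R) : Ω) * (x ^ k)⁻¹ := by
      intro k
      induction k with
      | zero => intro w; simp
      | succ k ih =>
        intro w
        rw [Function.iterate_succ_apply', hσa, ih, pow_succ']
        group
    intro w
    apply Subtype.ext
    apply Subtype.ext
    rw [h1]
    have h2 := Subgroup.mem_center_iff.mp w.2 ⟨x ^ p, hxp⟩
    have h3 : x ^ p * ((w : R) : Ω) = ((w : R) : Ω) * x ^ p := by
      have := congrArg Subtype.val h2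
      simpa using this
    rw [h3, mul_assoc, mul_inv_cancel, mul_one]
  have hnil : ∀ w, (fun u => σ u / u)^[n * (p - 1) + 1] w = 1 := by
    have h1 : ∀ (k : ℕ) (w : ↥(Subgroup.center R)),
        ((((fun u => σ u / u)^[k] w : ↥(Subgroup.center R)) : R) : Ω) ∈
          Subgroup.lowerCentralSeries S k := by
      intro k
      induction k with
      | zero => intro w; exact hRS (w : R).2
      | succ k ih =>
        intro w
        rw [Function.iterate_succ_apply']
        have h2 := ih w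
        set u := (fun u => σ u / u)^[k] w with hu
        have e : (((σ u / u : ↥(Subgroup.center R)) : R) : Ω) = ⁅x, ((u : R) : Ω)⁆ := by
          rw [commutatorElement_def]
          simp only [div_eq_mul_inv, Subgroup.coe_mul, Subgroup.coe_inv, hσa]
        rw [e, Subgroup.lowerCentralSeries_succ, Subgroup.commutator_comm]
        exact Subgroup.commutator_mem_commutator hxS h2
    intro w
    have h2 := h1 (n * (p - 1) + 1) w
    rw [hcl, Subgroup.mem_bot] at h2
    apply Subtype.ext
    apply Subtype.ext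
    exact h2
  have h3 := NilPow.map_pow_eq (V := ↥(Subgroup.center R)) p hpp σ n hσ hnil ⟨v, hv⟩
  have h4 := congrArg (fun w : ↥(Subgroup.center R) => ((w : R) : Ω)) h3
  simp only [hσa] at h4
  simpa using h4


/-- the power closure of the centre lies in the centre -/
theorem powerClosure_le_center (p n : ℕ) :
    Cfsg.powerClosure p n (S ⊓ Subgroup.centralizer (S : Set Ω)) ≤
      S ⊓ Subgroup.centralizer (S : Set Ω) := by
  unfold Cfsg.powerClosure
  rw [Subgroup.closure_le]
  rintro _ ⟨z, hz, rfl⟩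
  exact Subgroup.pow_mem _ hz _

/-- the centre of `S` lies in every centric subgroup -/
theorem center_le_of_centric (F : Cfsg.FusionSystem S) {R : Subgroup Ω} (hcen : F.IsCentric R) :
    S ⊓ Subgroup.centralizer (S : Set Ω) ≤ R := by
  intro z hz
  apply hcen.2 R (isConj_refl F hcen.1)
  refine ⟨hz.1, ?_⟩
  have hz2 : z ∈ Subgroup.centralizer (S : Set Ω) := hz.2
  rw [Subgroup.mem_centralizer_iff] at hz2
  exact Subgroup.mem_centralizer_iff.mpr (fun g hg => hz2 g (hcen.1 hg))

/-- the step at an essential subgroup -/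
theorem aut_pres [Finite S] (p : ℕ) [Fact p.Prime] (hS : IsPGroup p S) (F : Cfsg.FusionSystem S)
    (hF : F.IsSaturated p) (n : ℕ)
    (hcl : Subgroup.lowerCentralSeries S (n * (p - 1) + 1) = ⊥)
    {R : Subgroup Ω} (hess : F.IsEssential p R) (hne : R ≠ S)
    (ih : ∀ Q : Subgroup Ω, Q ≤ S → Nat.card R < Nat.card Q →
      ∀ ψ ∈ F.Hom Q, ∀ y : Q,
        (y : Ω) ∈ Cfsg.powerClosure p n (S ⊓ Subgroup.centralizer (S : Set Ω)) →
        ψ y ∈ Cfsg.powerClosure p n (S ⊓ Subgroup.centralizer (S : Set Ω)))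
    (α : MulAut R) (hα : α ∈ F.autGroup R) (y : R)
    (hy : (y : Ω) ∈ Cfsg.powerClosure p n (S ⊓ Subgroup.centralizer (S : Set Ω))) :
    ((α y : R) : Ω) ∈ Cfsg.powerClosure p n (S ⊓ Subgroup.centralizer (S : Set Ω)) := by
  classical
  have hpp : p.Prime := Fact.out
  have hRS : R ≤ S := hess.1.1
  have hfn : F.IsFullyNormalized R := hess.2.1
  have hZR : S ⊓ Subgroup.centralizer (S : Set Ω) ≤ R := center_le_of_centric F hess.1
  haveI hfinR : Finite R := finite_of_le hRS
  -- the automorphisms fixing the `p ^ n`-th powers of the centre of `R`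
  let K' : Subgroup (MulAut R) :=
    { carrier := {β | ∀ v : R, v ∈ Subgroup.center R → β (v ^ (p ^ n)) = v ^ (p ^ n)}
      one_mem' := fun v _ => rfl
      mul_mem' := by
        intro a b ha hb v hv
        rw [MulAut.mul_apply, hb v hv, ha v hv]
      inv_mem' := by
        intro a ha v hv
        have h1 := ha v hv
        show a⁻¹ (v ^ (p ^ n)) = v ^ (p ^ n)
        nth_rewrite 1 [← h1]
        exact MulAut.inv_apply_self _ _ _ }
  have hK'mem : ∀ β : MulAut R, β ∈ K' ↔
      ∀ v : R, v ∈ Subgroup.center R → β (v ^ (p ^ n)) = v ^ (p ^ n) := fun β => Iff.rfl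
  haveI hK'n : K'.Normal := by
    constructor
    intro a ha g
    rw [hK'mem] at ha ⊢
    intro v hv
    have hv' : g⁻¹ v ∈ Subgroup.center R := by
      rw [Subgroup.mem_center_iff] at hv ⊢
      intro x
      obtain ⟨x', rfl⟩ := (g⁻¹).surjective x
      rw [← map_mul, ← map_mul, hv x']
    have h1 := ha _ hv'
    rw [MulAut.mul_apply, MulAut.mul_apply, map_pow, h1, ← map_pow, MulAut.apply_inv_self]
  -- elements of `K'` fix the power closure pointwise
  have hKfix : ∀ β ∈ K', ∀ y : R,
      (y : Ω) ∈ Cfsg.powerClosure p n (S ⊓ Subgroup.centralizer (S : Set Ω)) → β y = y := by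
    intro β hβ
    have hle : Cfsg.powerClosure p n (S ⊓ Subgroup.centralizer (S : Set Ω)) ≤
        (MonoidHom.eqLocus β.toMonoidHom (MonoidHom.id R)).map R.subtype := by
      unfold Cfsg.powerClosure
      rw [Subgroup.closure_le]
      rintro _ ⟨z, hz, rfl⟩
      have hzc : (⟨z, hZR hz⟩ : R) ∈ Subgroup.center R := by
        rw [Subgroup.mem_center_iff]
        intro g
        apply Subtype.ext
        have := (Subgroup.mem_centralizer_iff.mp hz.2) g (hRS g.2)
        simpa using this
      refine ⟨(⟨z, hZR hz⟩ : R) ^ (p ^ n), ?_, by simp⟩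
      exact (hK'mem β).mp hβ _ hzc
    intro y hy
    obtain ⟨y', hy', hyy⟩ := hle hy
    have : y' = y := Subtype.ext hyy
    rw [← this]
    exact hy'
  -- the Sylow subgroup `Aut_S(R)`
  obtain ⟨-, ⟨-, Sy, hSy⟩, -⟩ := saturated_fullyNormalized hS F hF hfn
  have hT : Cfsg.Agent.Lib.Helper18.IsSylowIn p
      ((autInducedBy S R).subgroupOf (F.autGroup R)) ⊤ := by
    rw [← hSy]
    exact Cfsg.Agent.Lib.Helper18.isSylowIn_top_of_sylow Sy
  have hT₁ : Cfsg.Agent.Lib.Helper18.IsSylowIn p
      ((autInducedBy S R).subgroupOf (F.autGroup R) ⊓ K'.subgroupOf (F.autGroup R))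
      (K'.subgroupOf (F.autGroup R)) := by
    refine hT.inf_of_normal le_top ?_
    rw [Subgroup.normalizer_eq_top]
  obtain ⟨k, hk, hkN⟩ := hT₁.frattini (g := (⟨α, hα⟩ : ↥(F.autGroup R))) (by
    rw [Subgroup.normalizer_eq_top]
    exact Subgroup.mem_top _)
  -- the outer element
  obtain ⟨x₀, hx₀S, hx₀N, hx₀R, hx₀p⟩ := exists_outer_pow hS hRS hne
  have hMS : Subgroup.zpowers x₀ ≤ S := by
    rw [Subgroup.zpowers_le]
    exact hx₀S
  have hMN : Subgroup.zpowers x₀ ≤ Subgroup.normalizer (R : Set Ω) := by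
    rw [Subgroup.zpowers_le]
    exact hx₀N
  have hMp : ∀ u ∈ Subgroup.zpowers x₀, u ^ p ∈ R := by
    intro u hu
    obtain ⟨i, rfl⟩ := Subgroup.mem_zpowers_iff.mp hu
    rw [← zpow_natCast, ← zpow_mul, mul_comm, zpow_mul, zpow_natCast]
    exact R.zpow_mem hx₀p i
  have hext : ∀ u (hu : u ∈ Subgroup.zpowers x₀), ∃ h ∈ S, ∀ x : R,
      ((((k * ⟨α, hα⟩ : ↥(F.autGroup R)) : MulAut R)
        ⟨u * x * u⁻¹, conj_mem_of_mem_normalizer (hMN hu) x⟩ : R) : Ω) =
        h * ((((k * ⟨α, hα⟩ : ↥(F.autGroup R)) : MulAut R) x : R) : Ω) * h⁻¹ := by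
    intro u hu
    have hcuu : conjAut R u (hMN hu) ∈ F.autGroup R :=
      autInducedBy_le_autGroup F hRS (conjAut_mem_autInducedBy (hMS hu) (hMN hu))
    have hmemT : (⟨conjAut R u (hMN hu), hcuu⟩ : ↥(F.autGroup R)) ∈
        (autInducedBy S R).subgroupOf (F.autGroup R) ⊓ K'.subgroupOf (F.autGroup R) := by
      refine ⟨Subgroup.mem_subgroupOf.mpr (conjAut_mem_autInducedBy (hMS hu) (hMN hu)), ?_⟩
      apply Subgroup.mem_subgroupOf.mpr
      rw [hK'mem]
      intro v hv
      apply Subtype.ext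
      have h1 := conj_fix_pow hRS n hcl u (hMS hu) (hMN hu) (hMp u hu) v hv
      rw [conjAut_apply]
      simpa using h1
    have h1 := (Subgroup.mem_normalizer_iff.mp hkN _).mp hmemT
    obtain ⟨h, hhS, hh⟩ := mem_autInducedBy_iff.mp (Subgroup.mem_subgroupOf.mp h1.1)
    refine ⟨h, hhS, fun x => ?_⟩
    have h2 := hh (((k * ⟨α, hα⟩ : ↥(F.autGroup R)) : MulAut R) x)
    rw [← h2]
    simp only [Subgroup.coe_mul, Subgroup.coe_inv, MulAut.mul_apply]
    rw [show ((k : MulAut R) * α)⁻¹ ((k : MulAut R) (α x)) = x from by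
      have e1 : (k : MulAut R) (α x) = ((k : MulAut R) * α) x := rfl
      rw [e1, MulAut.inv_apply_self]]
    rfl
  obtain ⟨ψ, hψ, hψR⟩ := EssExt.exists_extension hS F hF hfn
    ((k * ⟨α, hα⟩ : ↥(F.autGroup R)) : MulAut R) (k * ⟨α, hα⟩).2 (Subgroup.zpowers x₀) hMS hMN hext
  -- the extension lives on a larger subgroup
  have hlt : R < R ⊔ Subgroup.zpowers x₀ := by
    refine lt_of_le_of_ne le_sup_left ?_
    intro h
    apply hx₀R
    rw [h]
    exact (le_sup_right : Subgroup.zpowers x₀ ≤ _) (Subgroup.mem_zpowers x₀)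
  have hQS : R ⊔ Subgroup.zpowers x₀ ≤ S := sup_le hRS hMS
  haveI hfinQ : Finite ↥(R ⊔ Subgroup.zpowers x₀) := finite_of_le hQS
  have hcard : Nat.card R < Nat.card ↥(R ⊔ Subgroup.zpowers x₀) :=
    card_lt_card_of_lt hlt
  have h1 := ih _ hQS hcard ψ hψ (Subgroup.inclusion le_sup_left y) hy
  rw [hψR y] at h1
  -- undo `k`
  have hkK : ((k⁻¹ : ↥(F.autGroup R)) : MulAut R) ∈ K' := by
    have := Subgroup.inv_mem _ hk
    exact Subgroup.mem_subgroupOf.mp this
  have h2 := hKfix _ hkK _ h1
  have e : ((k⁻¹ : ↥(F.autGroup R)) : MulAut R)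
      (((k * ⟨α, hα⟩ : ↥(F.autGroup R)) : MulAut R) y) = α y := by
    simp only [Subgroup.coe_mul, Subgroup.coe_inv, MulAut.mul_apply]
    exact MulAut.inv_apply_self _ _ _
  rw [e] at h2
  rw [h2]
  exact h1


/-- automorphisms of `S` preserve the power closure of the centre -/
theorem aut_top_pres (p n : ℕ) (α : MulAut S) (y : S)
    (hy : (y : Ω) ∈ Cfsg.powerClosure p n (S ⊓ Subgroup.centralizer (S : Set Ω))) :
    ((α y : S) : Ω) ∈ Cfsg.powerClosure p n (S ⊓ Subgroup.centralizer (S : Set Ω)) := by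
  have hle : Cfsg.powerClosure p n (S ⊓ Subgroup.centralizer (S : Set Ω)) ≤
      ((Cfsg.powerClosure p n (S ⊓ Subgroup.centralizer (S : Set Ω))).comap
        (S.subtype.comp α.toMonoidHom)).map S.subtype := by
    unfold Cfsg.powerClosure
    rw [Subgroup.closure_le]
    rintro _ ⟨z, hz, rfl⟩
    refine ⟨(⟨z, hz.1⟩ : S) ^ (p ^ n), ?_, by simp⟩
    rw [SetLike.mem_coe, Subgroup.mem_comap]
    apply Subgroup.subset_closure
    refine ⟨((α ⟨z, hz.1⟩ : S) : Ω), ⟨(α ⟨z, hz.1⟩ : S).2, ?_⟩, ?_⟩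
    · have hz2 : z ∈ Subgroup.centralizer (S : Set Ω) := hz.2
      rw [Subgroup.mem_centralizer_iff] at hz2
      apply Subgroup.mem_centralizer_iff.mpr
      intro g hg
      obtain ⟨g', hg'⟩ := α.surjective ⟨g, hg⟩
      have h1 : g' * ⟨z, hz.1⟩ = ⟨z, hz.1⟩ * g' := Subtype.ext (hz2 g' g'.2)
      have h2 := congrArg (fun w : S => ((α w : S) : Ω)) h1
      simp only [map_mul, hg', Subgroup.coe_mul] at h2
      exact h2
    · rw [map_pow]
      rfl
  obtain ⟨y', hy', hyy⟩ := hle hy
  have : y' = y := Subtype.ext hyy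
  rw [← this]
  exact hy'


/-- Let p be a prime, n a natural number, S a nontrivial finite p-group of nilpotence class at most n(p−1)+1, and F a saturated fusion system over S. Then the subgroup generated by the pⁿ-th powers of the elements of Z(S) is normal in F. -/
theorem result {Ω : Type*} [Group Ω] {S : Subgroup Ω} [Finite S] (p : ℕ) [Fact p.Prime] (hS : IsPGroup p S) (F : Cfsg.FusionSystem S) (hF : F.IsSaturated p) (n : ℕ) (hS1 : S ≠ ⊥) (hcl : Subgroup.lowerCentralSeries S (n * (p - 1) + 1) = ⊥) : F.IsNormal (Cfsg.powerClosure p n (S ⊓ Subgroup.centralizer (S : Set Ω))) := by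
  classical
  have hNZ := powerClosure_le_center (S := S) p n
  have hNS : Cfsg.powerClosure p n (S ⊓ Subgroup.centralizer (S : Set Ω)) ≤ S :=
    hNZ.trans inf_le_left
  -- central elements are fixed by conjugation
  have hfix : ∀ s ∈ S, ∀ x ∈ Cfsg.powerClosure p n (S ⊓ Subgroup.centralizer (S : Set Ω)),
      s * x * s⁻¹ = x := by
    intro s hs x hx
    have h1 : x ∈ Subgroup.centralizer (S : Set Ω) := (hNZ hx).2
    rw [Subgroup.mem_centralizer_iff] at h1
    rw [h1 s hs, mul_assoc, mul_inv_cancel, mul_one]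
  have hNnorm : ∀ s ∈ S, ∀ x : Ω,
      x ∈ Cfsg.powerClosure p n (S ⊓ Subgroup.centralizer (S : Set Ω)) ↔
        s * x * s⁻¹ ∈ Cfsg.powerClosure p n (S ⊓ Subgroup.centralizer (S : Set Ω)) := by
    intro s hs x
    constructor
    · intro hx
      rw [hfix s hs x hx]
      exact hx
    · intro hx
      have h1 := hfix s⁻¹ (S.inv_mem hs) _ hx
      have e : s⁻¹ * (s * x * s⁻¹) * s⁻¹⁻¹ = x := by group
      rw [e] at h1
      rw [h1]
      exact hx
  -- the main claim
  have claim : ∀ (k : ℕ) (P : Subgroup Ω), (P = S ∨ F.IsEssential p P) →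
      Nat.card S - Nat.card P = k → ∀ α ∈ F.autGroup P, ∀ y : P,
        (y : Ω) ∈ Cfsg.powerClosure p n (S ⊓ Subgroup.centralizer (S : Set Ω)) →
        ((α y : P) : Ω) ∈ Cfsg.powerClosure p n (S ⊓ Subgroup.centralizer (S : Set Ω)) := by
    intro k
    induction k using Nat.strong_induction_on with
    | _ k ihk =>
      intro P hP hk α hα y hy
      by_cases hPS : P = S
      · subst hPS
        exact aut_top_pres p n α y hy
      · have hess : F.IsEssential p P := hP.resolve_left hPS
        have hPle : P ≤ S := hess.1.1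
        refine aut_pres p hS F hF n hcl hess hPS ?_ α hα y hy
        intro Q hQS hcard ψ hψ y' hy'
        have hE : ∀ P' : Subgroup Ω, (P' = S ∨ F.IsEssential p P') → Nat.card P < Nat.card P' →
            F.autGroup P' ≤ (AlperinOrd.presSys F _ hNnorm).autGroup P' := by
          intro P' hP' hlt β hβ
          have hP'S : P' ≤ S := by
            rcases hP' with h | h
            · exact h.le
            · exact h.1.1
          have hP'c : Nat.card P' ≤ Nat.card S := card_le_card_of_le_of_finite hP'S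
          have hPc : Nat.card P ≤ Nat.card S := card_le_card_of_le_of_finite hPle
          have hk' : Nat.card S - Nat.card P' < k := by omega
          apply Subgroup.subset_closure
          show P'.subtype.comp β.toMonoidHom ∈ (AlperinOrd.presSys F _ hNnorm).Hom P'
          rw [AlperinOrd.mem_presSys]
          refine ⟨(mem_autGroup_iff F hP'S).mp hβ, fun x => ⟨fun hx => ?_, fun hx => ?_⟩⟩
          · exact ihk _ hk' P' hP' rfl β hβ x hx
          · have h1 := ihk _ hk' P' hP' rfl β⁻¹ (Subgroup.inv_mem _ hβ) (β x) hx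
            rw [MulAut.inv_apply_self] at h1
            exact h1
        have h1 := AlperinOrd.alperin_above p hS F hF (AlperinOrd.presSys F _ hNnorm)
          (Nat.card P) hE Q hQS hcard hψ
        rw [AlperinOrd.mem_presSys] at h1
        exact (h1.2 y').mp hy'
  rw [Cfsg.Agent.S5087.result p hS F hF]
  intro P hP
  have hNP : Cfsg.powerClosure p n (S ⊓ Subgroup.centralizer (S : Set Ω)) ≤ P := by
    rcases hP with h | h
    · rw [h]
      exact hNS
    · exact hNZ.trans (center_le_of_centric F h.1)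
  refine ⟨hNP, fun α hα => ?_⟩
  ext y
  simp only [Subgroup.mem_map, Subgroup.mem_subgroupOf]
  constructor
  · rintro ⟨x, hx, rfl⟩
    exact claim _ P hP rfl α hα x hx
  · intro hy
    refine ⟨α⁻¹ y, claim _ P hP rfl α⁻¹ (Subgroup.inv_mem _ hα) y hy, ?_⟩
    exact MulAut.apply_inv_self _ _ _

end Cfsg.Agent.S5218
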