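import Cfsg.Statements.S5219
import Cfsg.Agent.S5218

set_option autoImplicit false
open Cfsg

namespace Cfsg.Agent.S5219

open scoped commutatorElement

/-- if the centre has exponent dividing `e`, the `e`-th power map lowers the upper central series -/
theorem pow_mem_upper {G : Type*} [Group G] (e : ℕ) (hZ : ∀ z ∈ Subgroup.center G, z ^ e = 1) :
    ∀ (k : ℕ) (x : G), x ∈ Subgroup.upperCentralSeries G (k + 1) → x ^ e ∈ Subgroup.upperCentralSeries G k := by
  intro k
  induction k with
  | zero =>
    intro x hx
    rw [zero_add, Subgroup.upperCentralSeries_one] at hx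
    rw [Subgroup.upperCentralSeries_zero, Subgroup.mem_bot]
    exact hZ x hx
  | succ k ih =>
    intro x hx
    rw [Subgroup.mem_upperCentralSeries_succ_iff]
    intro y
    have hc : ⁅x, y⁆ ∈ Subgroup.upperCentralSeries G (k + 1) := (Subgroup.mem_upperCentralSeries_succ_iff.mp hx) y
    have hce : ⁅x, y⁆ ^ e ∈ Subgroup.upperCentralSeries G k := ih _ hc
    have hcen : ∀ g : G, (QuotientGroup.mk' (Subgroup.upperCentralSeries G k)) ⁅x, y⁆ *
        (QuotientGroup.mk' (Subgroup.upperCentralSeries G k)) g =
        (QuotientGroup.mk' (Subgroup.upperCentralSeries G k)) g *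
          (QuotientGroup.mk' (Subgroup.upperCentralSeries G k)) ⁅x, y⁆ := by
      intro g
      have h1 : ⁅⁅x, y⁆, g⁆ ∈ Subgroup.upperCentralSeries G k := (Subgroup.mem_upperCentralSeries_succ_iff.mp hc) g
      have h2 := (QuotientGroup.eq_one_iff _).mpr h1
      rw [commutatorElement_def] at h2
      have h3 : (QuotientGroup.mk' (Subgroup.upperCentralSeries G k)) (⁅x, y⁆ * g * ⁅x, y⁆⁻¹ * g⁻¹) = 1 := h2
      rw [map_mul, map_mul, map_mul, map_inv, map_inv] at h3
      have h4 := mul_inv_eq_one.mp h3
      have h5 := mul_inv_eq_iff_eq_mul.mp h4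
      exact h5
    have hpow : ∀ m : ℕ, (QuotientGroup.mk' (Subgroup.upperCentralSeries G k)) x ^ m *
        (QuotientGroup.mk' (Subgroup.upperCentralSeries G k)) y *
        ((QuotientGroup.mk' (Subgroup.upperCentralSeries G k)) x ^ m)⁻¹ =
        (QuotientGroup.mk' (Subgroup.upperCentralSeries G k)) ⁅x, y⁆ ^ m *
          (QuotientGroup.mk' (Subgroup.upperCentralSeries G k)) y := by
      intro m
      induction m with
      | zero => simp
      | succ m ihm =>
        have e1 : (QuotientGroup.mk' (Subgroup.upperCentralSeries G k)) x ^ (m + 1) *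
            (QuotientGroup.mk' (Subgroup.upperCentralSeries G k)) y *
            ((QuotientGroup.mk' (Subgroup.upperCentralSeries G k)) x ^ (m + 1))⁻¹ =
            (QuotientGroup.mk' (Subgroup.upperCentralSeries G k)) x *
              ((QuotientGroup.mk' (Subgroup.upperCentralSeries G k)) x ^ m *
                (QuotientGroup.mk' (Subgroup.upperCentralSeries G k)) y *
                ((QuotientGroup.mk' (Subgroup.upperCentralSeries G k)) x ^ m)⁻¹) *
              ((QuotientGroup.mk' (Subgroup.upperCentralSeries G k)) x)⁻¹ := by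
          rw [pow_succ']
          group
        rw [e1, ihm]
        have e2 : (QuotientGroup.mk' (Subgroup.upperCentralSeries G k)) x *
            (QuotientGroup.mk' (Subgroup.upperCentralSeries G k)) y *
            ((QuotientGroup.mk' (Subgroup.upperCentralSeries G k)) x)⁻¹ =
            (QuotientGroup.mk' (Subgroup.upperCentralSeries G k)) ⁅x, y⁆ *
              (QuotientGroup.mk' (Subgroup.upperCentralSeries G k)) y := by
          rw [commutatorElement_def, map_mul, map_mul, map_mul, map_inv, map_inv]
          group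
        have hcm : ∀ j : ℕ, (QuotientGroup.mk' (Subgroup.upperCentralSeries G k)) x *
            (QuotientGroup.mk' (Subgroup.upperCentralSeries G k)) ⁅x, y⁆ ^ j =
            (QuotientGroup.mk' (Subgroup.upperCentralSeries G k)) ⁅x, y⁆ ^ j *
              (QuotientGroup.mk' (Subgroup.upperCentralSeries G k)) x := by
          intro j
          have := (show Commute ((QuotientGroup.mk' (Subgroup.upperCentralSeries G k)) ⁅x, y⁆)
            ((QuotientGroup.mk' (Subgroup.upperCentralSeries G k)) x) from hcen x).pow_left j
          exact this.eq.symm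
        calc (QuotientGroup.mk' (Subgroup.upperCentralSeries G k)) x *
              ((QuotientGroup.mk' (Subgroup.upperCentralSeries G k)) ⁅x, y⁆ ^ m *
                (QuotientGroup.mk' (Subgroup.upperCentralSeries G k)) y) *
              ((QuotientGroup.mk' (Subgroup.upperCentralSeries G k)) x)⁻¹
            = ((QuotientGroup.mk' (Subgroup.upperCentralSeries G k)) x *
                (QuotientGroup.mk' (Subgroup.upperCentralSeries G k)) ⁅x, y⁆ ^ m) *
                (QuotientGroup.mk' (Subgroup.upperCentralSeries G k)) y *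
                ((QuotientGroup.mk' (Subgroup.upperCentralSeries G k)) x)⁻¹ := by group
          _ = (QuotientGroup.mk' (Subgroup.upperCentralSeries G k)) ⁅x, y⁆ ^ m *
                ((QuotientGroup.mk' (Subgroup.upperCentralSeries G k)) x *
                (QuotientGroup.mk' (Subgroup.upperCentralSeries G k)) y *
                ((QuotientGroup.mk' (Subgroup.upperCentralSeries G k)) x)⁻¹) := by
              rw [hcm m]
              group
          _ = _ := by
              rw [e2, pow_succ]
              group
    apply (QuotientGroup.eq_one_iff _).mp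
    show (QuotientGroup.mk' (Subgroup.upperCentralSeries G k)) ⁅x ^ e, y⁆ = 1
    rw [commutatorElement_def, map_mul, map_mul, map_mul, map_inv, map_inv, map_pow, hpow e,
      mul_inv_cancel_right, ← map_pow]
    exact (QuotientGroup.eq_one_iff _).mpr hce

theorem pow_eq_one_upper {G : Type*} [Group G] (e : ℕ) (hZ : ∀ z ∈ Subgroup.center G, z ^ e = 1) :
    ∀ (k : ℕ) (x : G), x ∈ Subgroup.upperCentralSeries G k → x ^ (e ^ k) = 1 := by
  intro k
  induction k with
  | zero =>
    intro x hx
    rw [Subgroup.upperCentralSeries_zero, Subgroup.mem_bot] at hx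
    rw [hx, one_pow]
  | succ k ih =>
    intro x hx
    have h1 := ih _ (pow_mem_upper e hZ k x hx)
    rw [pow_succ', pow_mul]
    exact h1


/-- Let p be a prime, n a natural number, S a nontrivial finite p-group of nilpotence class at most n(p−1)+1, and F a saturated fusion system over S with no nontrivial normal subgroup (O_p(F) = 1). Then S has exponent dividing p^(n²(p−1)+n). -/
theorem result {Ω : Type*} [Group Ω] {S : Subgroup Ω} [Finite S] (p : ℕ) [Fact p.Prime] (hS : IsPGroup p S) (F : Cfsg.FusionSystem S) (hF : F.IsSaturated p) (n : ℕ) (hS1 : S ≠ ⊥) (hcl : Subgroup.lowerCentralSeries S (n * (p - 1) + 1) = ⊥) (hcore : F.core = ⊥) : Monoid.exponent ↥S ∣ p ^ (n ^ 2 * (p - 1) + n) := by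
  have hnorm := Cfsg.Agent.S5218.result p hS F hF n hS1 hcl
  have hbot : Cfsg.powerClosure p n (S ⊓ Subgroup.centralizer (S : Set Ω)) = ⊥ := by
    rw [eq_bot_iff, ← hcore]
    exact le_sSup hnorm
  have hZ : ∀ z ∈ Subgroup.center ↥S, z ^ (p ^ n) = 1 := by
    intro z hz
    have h1 : ((z : Ω)) ∈ S ⊓ Subgroup.centralizer (S : Set Ω) := by
      refine ⟨z.2, ?_⟩
      apply Subgroup.mem_centralizer_iff.mpr
      intro g hg
      have h2 := Subgroup.mem_center_iff.mp hz ⟨g, hg⟩
      exact congrArg Subtype.val h2
    have h2 : (z : Ω) ^ (p ^ n) ∈ Cfsg.powerClosure p n (S ⊓ Subgroup.centralizer (S : Set Ω)) :=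
      Subgroup.subset_closure ⟨z, h1, rfl⟩
    rw [hbot, Subgroup.mem_bot] at h2
    apply Subtype.ext
    simpa using h2
  have hl : Subgroup.lowerCentralSeries (⊤ : Subgroup ↥S) (n * (p - 1) + 1) = ⊥ := by
    have h1 := Subgroup.top_subtype_lowerCentralSeries S (n * (p - 1) + 1)
    rw [hcl] at h1
    exact (Subgroup.map_eq_bot_iff_of_injective _ S.subtype_injective).mp h1
  have hu : Subgroup.upperCentralSeries ↥S (n * (p - 1) + 1) = ⊤ :=
    Subgroup.lowerCentralSeries_eq_bot_iff_upperCentralSeries_eq_top.mp hl
  apply Monoid.exponent_dvd_of_forall_pow_eq_one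
  intro x
  have h1 := pow_eq_one_upper (p ^ n) hZ (n * (p - 1) + 1) x (by rw [hu]; exact Subgroup.mem_top x)
  have e : (p ^ n) ^ (n * (p - 1) + 1) = p ^ (n ^ 2 * (p - 1) + n) := by
    rw [← pow_mul]
    congr 1
    ring
  rw [e] at h1
  exact h1

end Cfsg.Agent.S5219
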