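import Cfsg.Statements.S5223
import Cfsg.Agent.S5083

set_option autoImplicit false
open Cfsg

namespace Cfsg.Agent.S5223

open Cfsg.FusionSystem Cfsg.Agent.Lib.Helper26

/-- stability lemma, multiplicative form -/
theorem stab_mul {P : Type*} [Group P] (α : MulAut P) (m : ℕ) (hα : α ^ m = 1) (x t : P)
    (hx : α x = x * t) (ht : α t = t) : t ^ m = 1 := by
  have hj : ∀ j : ℕ, (α ^ j) x = x * t ^ j := by
    intro j
    induction j with
    | zero => simp
    | succ j ih =>
      rw [pow_succ', MulAut.mul_apply, ih, map_mul, map_pow, hx, ht, pow_succ', mul_assoc]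
  have h1 := hj m
  rw [hα, MulAut.one_apply] at h1
  exact (mul_eq_left.mp h1.symm)

/-- a finite group in which every element of order prime to `p` is trivial is a `p`-group -/
theorem isPGroup_of_pprime_trivial {A : Type*} [Group A] [Finite A] (p : ℕ) [hp : Fact p.Prime]
    (h : ∀ a : A, (orderOf a).Coprime p → a = 1) : IsPGroup p A := by
  intro a
  have hpos : 0 < orderOf a := orderOf_pos a
  obtain ⟨k, m, hm, hkm⟩ := Nat.exists_eq_pow_mul_and_not_dvd hpos.ne' p hp.out.ne_one
  refine ⟨k, ?_⟩
  have hcop : (orderOf (a ^ p ^ k)).Coprime p := by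
    rw [orderOf_pow' a (pow_ne_zero k hp.out.ne_zero), hkm, Nat.gcd_eq_right (Dvd.intro _ rfl),
      Nat.mul_div_cancel_left _ (pow_pos hp.out.pos k)]
    exact (Nat.Prime.coprime_iff_not_dvd hp.out).mpr hm |>.symm
  exact h _ hcop

/-- Let F be a saturated fusion system over a finite p-group S. Suppose there are subgroups Q₀ = S, Q₁, …, Qₙ = 1 (not required to be nested) such that for each i < n the focal subgroup of Qᵢ (generated by the elements x⁻¹φ(x), x ∈ Qᵢ, φ a map of F defined on the cyclic group generated by x) lies in Qᵢ₊₁. Then F is the inner fusion system of S. -/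
theorem result {Ω : Type*} [Group Ω] {S : Subgroup Ω} [Finite S] (p : ℕ) [Fact p.Prime] (hS : IsPGroup p S) (F : Cfsg.FusionSystem S) (hF : F.IsSaturated p) (n : ℕ) (Q : Fin (n + 1) → Subgroup Ω) (hQ0 : Q 0 = S) (hQn : Q (Fin.last n) = ⊥) (hstep : ∀ i : Fin n, Subgroup.closure {y : Ω | ∃ x ∈ Q i.castSucc, ∃ φ ∈ F.Hom (Subgroup.zpowers x), y = x⁻¹ * φ ⟨x, Subgroup.mem_zpowers x⟩} ≤ Q i.succ) : ∀ P : Subgroup Ω, F.Hom P = (Cfsg.innerFusionSystem S).Hom P := by
  have hp : p.Prime := Fact.out
  have key : ∀ P : Subgroup Ω, P ≤ S → IsPGroup p (F.autGroup P) := by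
    intro P hPS
    have hfinP : Finite P := finite_of_le hPS
    have hPp : IsPGroup p P := hS.to_le hPS
    apply isPGroup_of_pprime_trivial
    rintro ⟨α, hα⟩ hcop
    have hαF := (mem_autGroup_iff F hPS).mp hα
    have hord : orderOf α = orderOf (⟨α, hα⟩ : F.autGroup P) := (Subgroup.orderOf_mk α hα).symm
    rw [← hord] at hcop
    have hpow : α ^ orderOf α = 1 := pow_orderOf_eq_one α
    have hfix : ∀ i : Fin (n + 1), ∀ x : P, (x : Ω) ∈ Q i → α x = x := by
      intro i
      induction i using Fin.reverseInduction with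
      | last =>
        intro x hx
        rw [hQn, Subgroup.mem_bot] at hx
        have : x = 1 := Subtype.ext hx
        rw [this, map_one]
      | cast i ih =>
        intro x hx
        -- t = x⁻¹ α x
        have hzx : Subgroup.zpowers (x : Ω) ≤ P := by
          rw [Subgroup.zpowers_le]
          exact x.2
        have hφ := restrict_mem F hαF hzx
        have ht : (x : Ω)⁻¹ * ((α x : P) : Ω) ∈ Q i.succ := by
          apply hstep i
          apply Subgroup.subset_closure
          exact ⟨x, hx, _, hφ, rfl⟩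
        have ht' : α (x⁻¹ * α x) = x⁻¹ * α x := ih (x⁻¹ * α x) ht
        have hx' : α x = x * (x⁻¹ * α x) := by group
        have h1 := stab_mul α (orderOf α) hpow x (x⁻¹ * α x) hx' ht'
        have hd1 : orderOf (x⁻¹ * α x) ∣ orderOf α := orderOf_dvd_of_pow_eq_one h1
        obtain ⟨k, hk⟩ := hPp (x⁻¹ * α x)
        have hd2 : orderOf (x⁻¹ * α x) ∣ p ^ k := orderOf_dvd_of_pow_eq_one hk
        have hcop' : (orderOf α).Coprime (p ^ k) := Nat.Coprime.pow_right k hcop
        have h2 : orderOf (x⁻¹ * α x) = 1 := Nat.eq_one_of_dvd_coprimes hcop' hd1 hd2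
        have h3 : x⁻¹ * α x = 1 := orderOf_eq_one_iff.mp h2
        exact (inv_mul_eq_one.mp h3).symm
    have hα1 : α = 1 := by
      ext x
      have := hfix 0 x (by rw [hQ0]; exact hPS x.2)
      rw [this]
      rfl
    exact Subtype.ext hα1
  have := Cfsg.Agent.S5083.result p hS F hF key
  intro P
  rw [this]

end Cfsg.Agent.S5223
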