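import Cfsg.Statements.S5225
import Cfsg.Agent.Lib.Helper27.Yosh5
import Cfsg.Agent.Lib.Helper27.HFreeBasic
import Cfsg.Agent.Lib.Helper27.FusTop

set_option autoImplicit false
open Cfsg

namespace Cfsg.Agent.S5225


open Cfsg.FusionSystem Cfsg.Agent.Lib.Helper26 Cfsg.Agent.Lib.Helper27 Cfsg.Agent.Lib.Helper27.Yosh
open Cfsg.Agent.Lib.Helper29.Yoshida
open scoped commutatorElement

/-- automorphisms of `S` in the system are maps of the normalizer system of `S` -/
theorem hom_top_mem_normalizer {Ω : Type*} [Group Ω] {S : Subgroup Ω} [Finite S]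
    (F : Cfsg.FusionSystem S) (N : Cfsg.FusionSystem (Cfsg.FusionSystem.normalizerIn S S))
    (hN : F.IsNormalizerSystem S N) {θ : S →* Ω} (hθ : θ ∈ F.Hom S) : θ ∈ N.Hom S := by
  rw [hN S, Cfsg.Agent.Lib.Helper27.HFree.mem_normalizerHom_iff_of_le F le_rfl θ]
  have hSN : S ≤ Cfsg.FusionSystem.normalizerIn S S := fun x hx => ⟨hx, Subgroup.le_normalizer hx⟩
  refine ⟨hθ, hSN, fun x => hSN (apply_mem F hθ x), ?_⟩
  have h1 : S.subgroupOf S = ⊤ := Subgroup.subgroupOf_self S
  rw [h1, ← MonoidHom.range_eq_map]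
  exact range_eq_top_of_hom F hθ

/-- Yoshida's Theorem for fusion systems. Let F be a saturated fusion system over a finite p-group S and N the normalizer fusion system of S in F. If the focal subgroups of F and N differ (N does not control transfer in F), then S has a quotient isomorphic to the wreath product C_p ≀ C_p (realised as a Sylow p-subgroup of the symmetric group of degree p²). -/
theorem result {Ω : Type*} [Group Ω] {S : Subgroup Ω} [Finite S] (p : ℕ) [Fact p.Prime] (hS : IsPGroup p S) (F : Cfsg.FusionSystem S) (hF : F.IsSaturated p) (N : Cfsg.FusionSystem (Cfsg.FusionSystem.normalizerIn S S)) (hN : F.IsNormalizerSystem S N) (hne : N.focalSubgroup ≠ F.focalSubgroup) : ∃ (W : Sylow p (Equiv.Perm (Fin (p ^ 2)))) (f : ↥S →* ↥(W : Subgroup (Equiv.Perm (Fin (p ^ 2))))), Function.Surjective f := by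
  classical
  by_contra hnw
  have hnw' : ¬ HasWreath p ↥S := hnw
  apply hne
  apply le_antisymm
  · unfold Cfsg.FusionSystem.focalSubgroup
    apply Subgroup.closure_mono
    rintro _ ⟨P, φ, x, hφ, rfl⟩
    rw [hN P] at hφ
    exact ⟨P, φ, x, hφ.1, rfl⟩
  · obtain ⟨B, hB⟩ : ∃ B : Subgroup Ω, B = N.focalSubgroup := ⟨_, rfl⟩
    rw [← hB]
    -- automorphisms of `S` move elements inside `B`
    have hBθ : ∀ (θ : S →* Ω) (hθ : θ ∈ F.Hom S) (s : S), (s : Ω)⁻¹ * θ s ∈ B := by
      intro θ hθ s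
      rw [hB]
      exact mul_inv_mem_focal N (hom_top_mem_normalizer F N hN hθ) s
    -- the derived subgroup of `S` lies in `B`
    have hcomm : commutator ↥S ≤ B.subgroupOf S := by
      rw [commutator_eq_closure, Subgroup.closure_le]
      rintro _ ⟨b, a, rfl⟩
      rw [SetLike.mem_coe, Subgroup.mem_subgroupOf]
      have h1 := hBθ (Cfsg.conjHom S (a : Ω)) (F.conj_mem le_rfl a.2) b⁻¹
      have h2 : ((⁅b, a⁆ : ↥S) : Ω)
          = ((b⁻¹ : ↥S) : Ω)⁻¹ * (Cfsg.conjHom S (a : Ω)) b⁻¹ := by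
        rw [commutatorElement_def]
        show (b : Ω) * (a : Ω) * (b : Ω)⁻¹ * (a : Ω)⁻¹
          = ((b : Ω)⁻¹)⁻¹ * ((a : Ω) * (b : Ω)⁻¹ * (a : Ω)⁻¹)
        group
      rw [h2]
      exact h1
    let lam₀ : ↥S →* Abelianization ↥S ⧸ ((B.subgroupOf S).map Abelianization.of) :=
      (QuotientGroup.mk' _).comp Abelianization.of
    have hsurj : Function.Surjective lam₀ :=
      (QuotientGroup.mk'_surjective _).comp (QuotientGroup.mk'_surjective (commutator ↥S))
    have hA : IsPGroup p (Abelianization ↥S ⧸ ((B.subgroupOf S).map Abelianization.of)) :=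
      IsPGroup.of_surjective hS lam₀ hsurj
    have hker : ∀ u : ↥S, lam₀ u = 1 ↔ (u : Ω) ∈ B := by
      intro u
      show (QuotientGroup.mk' _) (Abelianization.of u) = 1 ↔ _
      rw [← MonoidHom.mem_ker, QuotientGroup.ker_mk']
      constructor
      · rintro ⟨b, hb, hbu⟩
        have h1 : b⁻¹ * u ∈ (Abelianization.of (G := ↥S)).ker := by
          rw [MonoidHom.mem_ker, map_mul, map_inv, hbu, inv_mul_cancel]
        rw [Abelianization.ker_of] at h1
        have h2 : b⁻¹ * u ∈ B.subgroupOf S := hcomm h1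
        have h3 : u = b * (b⁻¹ * u) := by group
        have h4 : u ∈ B.subgroupOf S := by
          rw [h3]
          exact (B.subgroupOf S).mul_mem hb h2
        exact Subgroup.mem_subgroupOf.mp h4
      · intro hu
        exact ⟨u, Subgroup.mem_subgroupOf.mpr hu, rfl⟩
    have hinv : ∀ (θ : S →* Ω) (hθ : θ ∈ F.Hom S) (s : S),
        lam₀ ⟨θ s, apply_mem F hθ s⟩ = lam₀ s := by
      intro θ hθ s
      have h1 : lam₀ (s⁻¹ * ⟨θ s, apply_mem F hθ s⟩) = 1 := by
        rw [hker]
        exact hBθ θ hθ s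
      rw [map_mul, map_inv, inv_mul_eq_one] at h1
      exact h1.symm
    have key := yoshida_full hS F hF hnw' hA lam₀ hinv
    intro x hx
    have hxS : x ∈ S := focal_le F hx
    exact (hker ⟨x, hxS⟩).mp (key ⟨x, hxS⟩ hx)

end Cfsg.Agent.S5225
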