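import Cfsg.Statements.S5226
import Cfsg.Agent.S5088
import Cfsg.Agent.Lib.Helper27.FusNormal

set_option autoImplicit false
open Cfsg

namespace Cfsg.Agent.S5226

open Cfsg.FusionSystem Cfsg.Agent.Lib.Helper26 Cfsg.Agent.Lib.Helper27
open scoped commutatorElement

variable {Ω : Type*} [Group Ω] {S : Subgroup Ω}

theorem weaklyClosed_of_stronglyClosed [Finite S] (F : FusionSystem S) {Q : Subgroup Ω}
    (hQ : F.StronglyClosed Q) : F.WeaklyClosed Q := by
  have hfin : Finite Q := finite_of_le hQ.1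
  refine ⟨hQ.1, fun φ hφ => ?_⟩
  apply Subgroup.eq_of_le_of_card_ge
  · rintro _ ⟨x, rfl⟩
    exact hQ.2 Q le_rfl φ hφ x
  · exact (Nat.card_congr (MonoidHom.ofInjective (F.injective_of_mem hφ)).toEquiv).le

theorem le_normalizer_of_weaklyClosed (F : FusionSystem S) {Q : Subgroup Ω}
    (hQ : F.WeaklyClosed Q) : S ≤ Subgroup.normalizer (Q : Set Ω) := by
  have key : ∀ k ∈ S, ∀ y ∈ Q, k * y * k⁻¹ ∈ Q := by
    intro k hk y hy
    have h1 := hQ.2 _ (F.conj_mem hQ.1 hk)
    have h2 : conjHom Q k ⟨y, hy⟩ ∈ (conjHom Q k).range := ⟨_, rfl⟩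
    rw [h1] at h2
    exact h2
  intro g hg
  refine mem_normalizer_of_forall (key g hg) (fun y hy => ?_)
  have := key g⁻¹ (S.inv_mem hg) y hy
  rwa [inv_inv] at this

theorem autInvariant_of_weaklyClosed (F : FusionSystem S) {Q : Subgroup Ω}
    (hQ : F.WeaklyClosed Q) {P : Subgroup Ω} (hPS : P ≤ S) (hQP : Q ≤ P) :
    AutInvariant (F.autGroup P) Q := by
  intro α hα x hx
  have hφ : P.subtype.comp α.toMonoidHom ∈ F.Hom P := (mem_autGroup_iff F hPS).mp hα
  have h1 := hQ.2 _ (restrict_mem F hφ hQP)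
  have h2 : ((P.subtype.comp α.toMonoidHom).comp (Subgroup.inclusion hQP)) ⟨x, hx⟩ ∈
      ((P.subtype.comp α.toMonoidHom).comp (Subgroup.inclusion hQP)).range := ⟨_, rfl⟩
  rw [h1] at h2
  exact h2

theorem step_le [Finite S] {p : ℕ} [Fact p.Prime] (hS : IsPGroup p S)
    (F : FusionSystem S) (hF : F.IsSaturated p) {Q : Subgroup Ω} (hQ : F.StronglyClosed Q)
    (D : ℕ → Subgroup Ω) (h0 : D 0 = ⊥) (k : ℕ)
    (hwc : ∀ j ≤ k, F.WeaklyClosed (D j))
    (hDQ : D (k + 1) ≤ Q)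
    (hDn : S ≤ Subgroup.normalizer (D (k + 1) : Set Ω))
    (hcomm : ∀ j ≤ k, ⁅D (j + 1), Q⁆ ≤ D j)
    {P : Subgroup Ω} (hess : F.IsEssential p P) (hle : ∀ j ≤ k, D j ≤ P) :
    D (k + 1) ≤ P := by
  have hPS : P ≤ S := hess.2.1.1
  have hfinP : Finite P := finite_of_le hPS
  have hrad := Cfsg.Agent.S5080.result p hS F hF P hess
  have hC : centralizerIn S P ≤ P := hess.1.2 P (isConj_refl F hPS)
  have hQn := le_normalizer_of_stronglyClosed F hQ
  have hinv : ∀ j ≤ k, AutInvariant (F.autGroup P) (D j) := fun j hj =>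
    autInvariant_of_weaklyClosed F (hwc j hj) hPS (hle j hj)
  refine le_of_inf_normalizer_le hS hPS (hDQ.trans hQ.1) hDn ?_
  intro g hg
  by_contra hgP
  have hgQ : g ∈ Q := hDQ hg.1
  have hgS : g ∈ S := hQ.1 hgQ
  have hnorm1 : ∀ j : Fin k, ((linkStab P (D j) (D (j + 1))).subgroupOf (F.autGroup P)).Normal :=
    fun j => linkStab_subgroupOf_normal _ (hinv j (Nat.le_of_lt j.2)) (hinv (j + 1) j.2)
  have hnorm2 : ((linkStab P (D k) Q).subgroupOf (F.autGroup P)).Normal :=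
    linkStab_subgroupOf_normal _ (hinv k le_rfl) (autInvariant_of_stronglyClosed F hQ hPS)
  have hnorm3 : ((linkStab P Q P).subgroupOf (F.autGroup P)).Normal :=
    linkStab_subgroupOf_normal _ (autInvariant_of_stronglyClosed F hQ hPS) (autInvariant_self _)
  have hKn : (((⨅ j : Fin k, (linkStab P (D j) (D (j + 1))).subgroupOf (F.autGroup P)) ⊓
      (linkStab P (D k) Q).subgroupOf (F.autGroup P)) ⊓
      (linkStab P Q P).subgroupOf (F.autGroup P)).Normal := by
    have h1 := Subgroup.normal_iInf_normal hnorm1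
    have h2 : ((⨅ j : Fin k, (linkStab P (D j) (D (j + 1))).subgroupOf (F.autGroup P)) ⊓
      (linkStab P (D k) Q).subgroupOf (F.autGroup P)).Normal := Subgroup.normal_inf_normal _ _
    exact Subgroup.normal_inf_normal _ _
  have hKp : IsPGroup p ↥(((⨅ j : Fin k, (linkStab P (D j) (D (j + 1))).subgroupOf
      (F.autGroup P)) ⊓ (linkStab P (D k) Q).subgroupOf (F.autGroup P)) ⊓
      (linkStab P Q P).subgroupOf (F.autGroup P)) := by
    refine isPGroup_of_forall_isPElementOn (P := P)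
      ((F.autGroup P).subtype.comp (Subgroup.subtype _))
      ((F.autGroup P).subtype_injective.comp (Subgroup.subtype_injective _)) ?_
    rintro ⟨β, hβ⟩
    rw [Subgroup.mem_inf, Subgroup.mem_inf, Subgroup.mem_iInf] at hβ
    obtain ⟨⟨hβ1, hβ2⟩, hβ3⟩ := hβ
    show IsPElementOn p (β : MulAut P) P
    have hchain : ∀ j ≤ k, IsPElementOn p (β : MulAut P) (D j) := by
      intro j
      induction j with
      | zero =>
        intro _
        rw [h0]
        exact isPElementOn_bot p _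
      | succ j ih =>
        intro hj
        refine isPElementOn_step hS (hwc j (Nat.le_of_succ_le hj)).1 _ (ih (Nat.le_of_succ_le hj)) (fun x hx => ?_)
        have := (Subgroup.mem_subgroupOf.mp (hβ1 ⟨j, hj⟩)) x hx
        exact ⟨this.1.1, this.2.1⟩
    have hQstep : IsPElementOn p (β : MulAut P) Q := by
      refine isPElementOn_step hS (hwc k le_rfl).1 _ (hchain k le_rfl) (fun x hx => ?_)
      have := (Subgroup.mem_subgroupOf.mp hβ2) x hx
      exact ⟨this.1.1, this.2.1⟩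
    refine isPElementOn_step hS hQ.1 _ hQstep (fun x hx => ?_)
    have := (Subgroup.mem_subgroupOf.mp hβ3) x hx
    exact ⟨this.1.1, this.2.1⟩
  have hKle := Cfsg.Agent.Lib.Helper1.le_pCore hKn hKp
  have hcA : conjAut P g hg.2 ∈ F.autGroup P :=
    autInducedBy_le_autGroup F hPS (conjAut_mem_autInducedBy hgS hg.2)
  have hmemK : (⟨conjAut P g hg.2, hcA⟩ : F.autGroup P) ∈
      ((⨅ j : Fin k, (linkStab P (D j) (D (j + 1))).subgroupOf (F.autGroup P)) ⊓
      (linkStab P (D k) Q).subgroupOf (F.autGroup P)) ⊓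
      (linkStab P Q P).subgroupOf (F.autGroup P) := by
    rw [Subgroup.mem_inf, Subgroup.mem_inf, Subgroup.mem_iInf]
    refine ⟨⟨fun j => ?_, ?_⟩, ?_⟩
    · rw [Subgroup.mem_subgroupOf]
      have hnj : g ∈ Subgroup.normalizer (D (j + 1) : Set Ω) :=
        le_normalizer_of_weaklyClosed F (hwc _ j.2) hgS
      refine conjAut_mem_linkStab hg.2 hnj (fun x hx => ?_) (fun x hx => ?_)
      · have h1 : ⁅x⁻¹, g⁆ ∈ ⁅D (j + 1), Q⁆ :=
          Subgroup.commutator_mem_commutator (Subgroup.inv_mem _ hx) hgQ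
        have e : x⁻¹ * (g * x * g⁻¹) = ⁅x⁻¹, g⁆ := by
          rw [commutatorElement_def]; group
        rw [e]
        exact hcomm j (Nat.le_of_lt j.2) h1
      · have h1 : ⁅x⁻¹, g⁻¹⁆ ∈ ⁅D (j + 1), Q⁆ :=
          Subgroup.commutator_mem_commutator (Subgroup.inv_mem _ hx) (Subgroup.inv_mem _ hgQ)
        have e : x⁻¹ * (g⁻¹ * x * g) = ⁅x⁻¹, g⁻¹⁆ := by
          rw [commutatorElement_def]; group
        rw [e]
        exact hcomm j (Nat.le_of_lt j.2) h1
    · rw [Subgroup.mem_subgroupOf]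
      have hcomm' : ⁅Q, D (k + 1)⁆ ≤ D k := by
        rw [Subgroup.commutator_comm]
        exact hcomm k le_rfl
      refine conjAut_mem_linkStab hg.2 (hQn hgS) (fun x hx => ?_) (fun x hx => ?_)
      · have h1 : ⁅x⁻¹, g⁆ ∈ ⁅Q, D (k + 1)⁆ :=
          Subgroup.commutator_mem_commutator (Subgroup.inv_mem _ hx) hg.1
        have e : x⁻¹ * (g * x * g⁻¹) = ⁅x⁻¹, g⁆ := by
          rw [commutatorElement_def]; group
        rw [e]
        exact hcomm' h1
      · have h1 : ⁅x⁻¹, g⁻¹⁆ ∈ ⁅Q, D (k + 1)⁆ :=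
          Subgroup.commutator_mem_commutator (Subgroup.inv_mem _ hx) (Subgroup.inv_mem _ hg.1)
        have e : x⁻¹ * (g⁻¹ * x * g) = ⁅x⁻¹, g⁻¹⁆ := by
          rw [commutatorElement_def]; group
        rw [e]
        exact hcomm' h1
    · rw [Subgroup.mem_subgroupOf]
      refine conjAut_mem_linkStab hg.2 hg.2 (fun x hx => ?_) (fun x hx => ?_)
      · have h1 : x⁻¹ * g * x⁻¹⁻¹ ∈ Q :=
          (Subgroup.mem_normalizer_iff.mp (hQn (S.inv_mem (hPS hx))) g).mp hgQ
        have e : x⁻¹ * (g * x * g⁻¹) = (x⁻¹ * g * x⁻¹⁻¹) * g⁻¹ := by group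
        rw [e]
        exact Q.mul_mem h1 (Q.inv_mem hgQ)
      · have h1 : x⁻¹ * g⁻¹ * x⁻¹⁻¹ ∈ Q :=
          (Subgroup.mem_normalizer_iff.mp (hQn (S.inv_mem (hPS hx))) g⁻¹).mp (Q.inv_mem hgQ)
        have e : x⁻¹ * (g⁻¹ * x * g) = (x⁻¹ * g⁻¹ * x⁻¹⁻¹) * g := by group
        rw [e]
        exact Q.mul_mem h1 hgQ
  have hinn : conjAut P g hg.2 ∈ Inn P := by
    rw [← hrad.2]
    exact ⟨⟨_, hcA⟩, hKle hmemK, rfl⟩
  exact notMem_inn_of_centric hPS hC hgS hgP hg.2 hinn

theorem result {Ω : Type*} [Group Ω] {S : Subgroup Ω} [Finite S] (p : ℕ) [Fact p.Prime] (hS : IsPGroup p S) (F : Cfsg.FusionSystem S) (hF : F.IsSaturated p) (Q : Subgroup Ω) : F.IsNormal Q ↔ F.StronglyClosed Q ∧ ∃ (n : ℕ) (C : Fin (n + 1) → Subgroup Ω), C 0 = ⊥ ∧ C (Fin.last n) = Q ∧ Monotone C ∧ (∀ i : Fin n, ⁅C i.succ, Q⁆ ≤ C i.castSucc) ∧ ∀ i : Fin n, F.WeaklyClosed (C i.castSucc) := by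
  constructor
  · intro hN
    refine ⟨stronglyClosed_of_isNormal F hN, ?_⟩
    obtain ⟨n, Qs, h0, hlast, hmono, hstep⟩ := (Cfsg.Agent.S5088.result p hS F hF Q).mp hN
    have hsc : ∀ i : Fin (n + 1), F.StronglyClosed (Qs i) := by
      intro i
      refine Fin.cases ?_ (fun j => (hstep j).1) i
      rw [h0]
      exact stronglyClosed_bot F
    refine ⟨n, Qs, h0, hlast, hmono, fun i => ?_, fun i => weaklyClosed_of_stronglyClosed F (hsc _)⟩
    rw [Subgroup.commutator_comm]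
    exact (hstep i).2
  · rintro ⟨hQ, n, C, h0, hlast, hmono, hcomm, hwc⟩
    let D : ℕ → Subgroup Ω := fun k => if h : k ≤ n then C ⟨k, Nat.lt_succ_of_le h⟩ else Q
    have hD : ∀ k (h : k ≤ n), D k = C ⟨k, Nat.lt_succ_of_le h⟩ := fun k h => dif_pos h
    have hD0 : D 0 = ⊥ := by rw [hD 0 (Nat.zero_le n)]; exact h0
    have hDn : D n = Q := by rw [hD n le_rfl]; exact hlast
    have hDwc : ∀ k < n, F.WeaklyClosed (D k) := by
      intro k hk
      rw [hD k hk.le]
      exact hwc ⟨k, hk⟩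
    have hDcomm : ∀ k < n, ⁅D (k + 1), Q⁆ ≤ D k := by
      intro k hk
      rw [hD k hk.le, hD (k + 1) hk]
      exact hcomm ⟨k, hk⟩
    have hDQ : ∀ k ≤ n, D k ≤ Q := by
      intro k hk
      rw [hD k hk, ← hlast]
      exact hmono (Fin.le_last _)
    have hDnorm : ∀ k ≤ n, S ≤ Subgroup.normalizer (D k : Set Ω) := by
      intro k hk
      rcases Nat.lt_or_eq_of_le hk with h | h
      · exact le_normalizer_of_weaklyClosed F (hDwc k h)
      · rw [h, hDn]
        exact le_normalizer_of_stronglyClosed F hQ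
    refine isNormal_of_forall_essential hS F hF Q (fun P hP => ?_)
    rcases hP with rfl | hess
    · exact ⟨hQ.1, fun α hα => Cfsg.Agent.S5086.map_eq_of_stronglyClosed F hQ le_rfl hQ.1 hα⟩
    · have hPS : P ≤ S := hess.2.1.1
      have hall : ∀ k ≤ n, ∀ j ≤ k, D j ≤ P := by
        intro k
        induction k with
        | zero =>
          intro _ j hj
          rw [Nat.le_zero.mp hj, hD0]
          exact bot_le
        | succ k ih =>
          intro hk j hj
          rcases Nat.lt_or_eq_of_le hj with h | h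
          · exact ih (Nat.le_of_succ_le hk) j (Nat.le_of_lt_succ h)
          · rw [h]
            exact step_le hS F hF hQ D hD0 k
              (fun j hj => hDwc j (lt_of_le_of_lt hj hk))
              (hDQ _ hk) (hDnorm _ hk)
              (fun j hj => hDcomm j (lt_of_le_of_lt hj hk)) hess
              (ih (Nat.le_of_succ_le hk))
      have hQP : Q ≤ P := hDn ▸ hall n le_rfl n le_rfl
      exact ⟨hQP, fun α hα => Cfsg.Agent.S5086.map_eq_of_stronglyClosed F hQ hPS hQP hα⟩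

end Cfsg.Agent.S5226
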