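import Cfsg.Statements.S5233
import Cfsg.Agent.S5226
import Cfsg.Agent.Lib.helper17.GES5

set_option autoImplicit false
open Cfsg

namespace Cfsg.Agent.S5233

open Cfsg.FusionSystem Cfsg.Agent.Lib.Helper26 Cfsg.Agent.Lib.helper17.GES2
  Cfsg.Agent.Lib.helper17.GES3 Cfsg.Agent.Lib.helper17.GES4 Cfsg.Agent.Lib.helper17.GES5
open scoped commutatorElement

/-- the order-two case: an element outside `C_P(y)` of order two -/
theorem exists_invol {Ω : Type*} [Group Ω] {P Z : Subgroup Ω} (h : GES 2 P Z) {y g : Ω}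
    (hy : y ∈ P) (hg : g ∈ P) (hgy : g * y ≠ y * g) (hy2 : y ^ 2 = 1) :
    ∃ t ∈ P, t * y ≠ y * t ∧ t ^ 2 = 1 := by
  have : Fact (Nat.Prime 2) := ⟨Nat.prime_two⟩
  by_cases hg2 : g ^ 2 = 1
  · exact ⟨g, hg, hgy, hg2⟩
  · refine ⟨g * y, P.mul_mem hg hy, ?_, ?_⟩
    · intro hcon
      apply hgy
      have : g * y * y = y * g * y := by rw [hcon, mul_assoc]
      exact mul_right_cancel this
    · have hz1Z : g * y * g⁻¹ * y⁻¹ ∈ Z := h.comm g hg y hy
      have hz11 : g * y * g⁻¹ * y⁻¹ ≠ 1 := comm_ne_one hgy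
      have hg2Z : g ^ 2 ∈ Z := h.pow g hg
      obtain ⟨k, hk⟩ := exists_pow_of_prime_card h.card hz1Z hz11 hg2Z
      have hzsq : (g * y * g⁻¹ * y⁻¹) ^ 2 = 1 := pow_prime_eq_one h.card hz1Z
      have hgz : g ^ 2 = g * y * g⁻¹ * y⁻¹ := by
        rcases Nat.even_or_odd' k with ⟨q, rfl | rfl⟩
        · exfalso
          apply hg2
          rw [hk, pow_mul, hzsq, one_pow]
        · rw [hk, pow_succ, pow_mul, hzsq, one_pow, one_mul]
      have hc : y * g ^ 2 = g ^ 2 * y := h.central _ hg2Z y hy
      have hyi : y⁻¹ = y := by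
        rw [inv_eq_iff_mul_eq_one, ← pow_two, hy2]
      calc (g * y) ^ 2 = (g * y * g⁻¹ * y⁻¹) * (y * g ^ 2) * y := by rw [pow_two, pow_two]; group
        _ = (g * y * g⁻¹ * y⁻¹) * (g ^ 2 * y) * y := by rw [hc]
        _ = (g * y * g⁻¹ * y⁻¹) * g ^ 2 * y ^ 2 := by rw [pow_two y]; group
        _ = 1 := by rw [hy2, mul_one, hgz, ← pow_two, hzsq]

/-- Let F be a saturated fusion system over a finite p-group S and P a subgroup of S strongly closed in F that is generalized extraspecial (its Frattini subgroup equals its commutator subgroup and has order p) and not isomorphic to E × A with A elementary abelian and E dihedral of order 8 (p = 2) or extraspecial of order p³ and exponent p (p odd). Then P is normal in F. -/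
theorem result {Ω : Type*} [Group Ω] {S : Subgroup Ω} [Finite S] (p : ℕ) [Fact p.Prime] (hS : IsPGroup p S) (F : Cfsg.FusionSystem S) (hF : F.IsSaturated p) (P : Subgroup Ω) (hP : F.StronglyClosed P) (hge : frattini ↥P = commutator ↥P ∧ Nat.card ↥(commutator ↥P) = p) (h2 : p = 2 → ¬ ∃ (A : Type) (_ : CommGroup A), (∀ a : A, a ^ 2 = 1) ∧ Nonempty (↥P ≃* DihedralGroup 4 × A)) (hodd : p ≠ 2 → ¬ ∃ (E : Type) (_ : Group E) (A : Type) (_ : CommGroup A), Cfsg.IsExtraspecial p E ∧ Nat.card E = p ^ 3 ∧ Monoid.exponent E = p ∧ (∀ a : A, a ^ p = 1) ∧ Nonempty (↥P ≃* E × A)) : F.IsNormal P := by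
  classical
  have hPS : P ≤ S := hP.1
  have hfinP : Finite P := finite_of_le hPS
  have hPp : IsPGroup p P := hS.to_le hPS
  obtain ⟨hfc, hc⟩ := hge
  have hCZ : commutator ↥P ≤ Subgroup.center ↥P :=
    Cfsg.Agent.Lib.Helper24.pf_le_center_of_card_prime hPp (commutator ↥P) hc
  have hpowP : ∀ a : ↥P, a ^ p ∈ commutator ↥P := fun a => by
    rw [← hfc]; exact Cfsg.Agent.Lib.Helper1.pgroup_pow_mem_frattini hPp a
  have hges : GES p P ((commutator ↥P).map P.subtype) :=
    { le := Subgroup.map_subtype_le _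
      card := by
        rw [Subgroup.card_map_of_injective (Subgroup.subtype_injective _)]; exact hc
      comm := fun a ha b hb =>
        ⟨⁅(⟨a, ha⟩ : P), ⟨b, hb⟩⁆,
          Subgroup.commutator_mem_commutator (Subgroup.mem_top _) (Subgroup.mem_top _), rfl⟩
      pow := fun a ha => ⟨⟨a, ha⟩ ^ p, hpowP _, rfl⟩
      central := by
        rintro _ ⟨z', hz', rfl⟩ a ha
        exact congrArg Subtype.val (Subgroup.mem_center_iff.mp (hCZ hz') ⟨a, ha⟩)
      nab := by
        by_contra hcon
        push Not at hcon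
        have hbot : commutator ↥P = ⊥ := by
          rw [commutator_eq_closure, Subgroup.closure_eq_bot_iff]
          rintro _ ⟨a, b, rfl⟩
          exact Subtype.ext (hcon a a.2 b b.2)
        rw [hbot, Subgroup.card_bot] at hc
        exact (Fact.out : p.Prime).one_lt.ne hc }
  have hne : NoExc p P := by
    intro y hyP ⟨g, hg, hgy⟩ hab hexp
    by_contra hcon
    have hex : ∃ t ∈ P, t * y ≠ y * t ∧ t ^ p = 1 := by
      by_cases hp2 : p = 2
      · subst hp2
        exact exists_invol hges hyP hg hgy (hexp y hyP rfl)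
      · by_contra hno
        push Not at hno
        exact hcon ⟨hp2, fun t ht hty => hno t ht hty⟩
    obtain ⟨t, htP, hty, htp⟩ := hex
    have H : Hyp p ↥P ⟨y, hyP⟩ ⟨t, htP⟩ :=
      { pgroup := hPp
        card := hc
        pow := hpowP
        hty := fun h1 => hty (congrArg Subtype.val h1)
        htp := Subtype.ext htp
        hab := fun a b ha hb => Subtype.ext
          (hab a a.2 b b.2 (congrArg Subtype.val ha) (congrArg Subtype.val hb))
        hexp := fun a ha => Subtype.ext (hexp a a.2 (congrArg Subtype.val ha)) }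
    by_cases hp2 : p = 2
    · subst hp2
      exact h2 rfl (hyp_two_case H)
    · exact hodd hp2 (hyp_odd_case H hp2)
  have hwc := weaklyClosed_Z hS F hF hP hges hne
  rw [Cfsg.Agent.S5226.result p hS F hF P]
  refine ⟨hP, 2, ![⊥, (commutator ↥P).map P.subtype, P], rfl, rfl, ?_, ?_, ?_⟩
  · rw [Fin.monotone_iff_le_succ]
    intro i
    fin_cases i
    · exact bot_le
    · exact hges.le
  · intro i
    fin_cases i
    · change ⁅(commutator ↥P).map P.subtype, P⁆ ≤ ⊥
      rw [Subgroup.commutator_le]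
      intro z hz a ha
      rw [Subgroup.mem_bot, commutatorElement_def, ← hges.central z hz a ha]
      group
    · change ⁅P, P⁆ ≤ (commutator ↥P).map P.subtype
      rw [Subgroup.commutator_le]
      intro a ha b hb
      exact hges.comm a ha b hb
  · intro i
    fin_cases i
    · exact Cfsg.Agent.S5226.weaklyClosed_of_stronglyClosed F (stronglyClosed_bot F)
    · exact hwc

end Cfsg.Agent.S5233
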