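import Cfsg.Statements.S5236
import Cfsg.Agent.Lib.Helper27.FusOmega
import Cfsg.Agent.Lib.Helper26.FusionSeries4
import Cfsg.Agent.Lib.Helper27.FusNormal
import Cfsg.Agent.S5085

set_option autoImplicit false
open Cfsg

namespace Cfsg.Agent.S5236

open Cfsg.FusionSystem Cfsg.Agent.Lib.Helper26 Cfsg.Agent.Lib.Helper27
open scoped commutatorElement

variable {Ω : Type*} [Group Ω] {S : Subgroup Ω}

theorem omegaOne_le (p : ℕ) (P : Subgroup Ω) : omegaOne p P ≤ P :=
  (Subgroup.closure_le _).mpr (fun _ hx => hx.1)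

theorem omegaOne_eq_map (p : ℕ) (P : Subgroup Ω) :
    omegaOne p P = (Subgroup.closure {x : P | x ^ p = 1}).map P.subtype := by
  rw [MonoidHom.map_closure]
  unfold omegaOne
  congr 1
  ext x
  constructor
  · rintro ⟨hx, hxp⟩
    exact ⟨⟨x, hx⟩, Subtype.ext hxp, rfl⟩
  · rintro ⟨y, hy, rfl⟩
    refine ⟨y.2, ?_⟩
    have := congrArg Subtype.val hy
    simpa using this

theorem omegaOne_characteristic (p : ℕ) (P : Subgroup Ω) :
    ((omegaOne p P).subgroupOf P).Characteristic := by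
  have e : (omegaOne p P).subgroupOf P = Subgroup.closure {x : P | x ^ p = 1} := by
    rw [omegaOne_eq_map]
    exact Subgroup.comap_map_eq_self_of_injective (Subgroup.subtype_injective _) _
  rw [e]
  refine Subgroup.characteristic_iff_map_le.mpr (fun ϕ => ?_)
  rw [MonoidHom.map_closure, Subgroup.closure_le]
  rintro _ ⟨x, hx, rfl⟩
  refine Subgroup.subset_closure ?_
  show (ϕ x) ^ p = 1
  rw [← map_pow, hx, map_one]

theorem forward [Finite S] (p : ℕ) [Fact p.Prime] (hS : IsPGroup p S) (F : FusionSystem S)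
    (P : Subgroup Ω) (hPn : F.IsNormal P) :
    ∃ (n : ℕ) (Q : Fin (n + 1) → Subgroup Ω), Q 0 = ⊥ ∧ Q (Fin.last n) = omegaOne p P ∧
      Monotone Q ∧ (∀ i : Fin (n + 1), F.StronglyClosed (Q i)) ∧
      ∀ i : Fin n, ⁅Q i.succ, P⁆ ≤ Q i.castSucc := by
  obtain ⟨m, hm⟩ := exists_ucs_eq hS hPn.1
  have hΩn : F.IsNormal (omegaOne p P) :=
    Cfsg.Agent.S5085.result F P _ hPn (omegaOne_le p P) (omegaOne_characteristic p P)
  have hΩ := stronglyClosed_of_isNormal F hΩn
  have hΩnorm := le_normalizer_of_stronglyClosed F hΩ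
  refine ⟨m, fun i => omegaOne p P ⊓ ucs P i, ?_, ?_, ?_, ?_, ?_⟩
  · show omegaOne p P ⊓ ucs P ((0 : Fin (m + 1)) : ℕ) = ⊥
    rw [Fin.val_zero, ucs_zero, inf_bot_eq]
  · show omegaOne p P ⊓ ucs P ((Fin.last m : Fin (m + 1)) : ℕ) = omegaOne p P
    rw [Fin.val_last, hm]
    exact inf_eq_left.mpr (omegaOne_le p P)
  · intro i j hij
    exact inf_le_inf_left _ (ucs_mono P hij)
  · intro i
    refine ⟨inf_le_left.trans hΩ.1, fun R hR φ hφ x => ?_⟩
    exact ⟨hΩ.2 R (hR.trans inf_le_left) φ hφ x,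
      (stronglyClosed_ucs_of_isNormal F hPn _).2 R (hR.trans inf_le_right) φ hφ x⟩
  · intro i
    show ⁅omegaOne p P ⊓ ucs P ((i.succ : Fin (m + 1)) : ℕ), P⁆ ≤
      omegaOne p P ⊓ ucs P ((Fin.castSucc i : Fin (m + 1)) : ℕ)
    rw [Fin.val_succ, Fin.val_castSucc]
    refine le_inf ?_ ?_
    · rw [Subgroup.commutator_le]
      intro a ha b hb
      have hbn : b ∈ Subgroup.normalizer ((omegaOne p P : Subgroup Ω) : Set Ω) :=
        hΩnorm (hPn.1 hb)
      have h1 : b * a⁻¹ * b⁻¹ ∈ omegaOne p P :=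
        (Subgroup.mem_normalizer_iff.mp hbn _).mp (Subgroup.inv_mem _ ha.1)
      have e : ⁅a, b⁆ = a * (b * a⁻¹ * b⁻¹) := by
        rw [commutatorElement_def]; group
      rw [e]
      exact Subgroup.mul_mem _ ha.1 h1
    · refine (Subgroup.commutator_mono inf_le_right le_rfl).trans ?_
      rw [Subgroup.commutator_comm]
      exact commutator_ucs_le P i

theorem backward [Finite S] (p : ℕ) [Fact p.Prime] (hS : IsPGroup p S) (F : FusionSystem S)
    (hF : F.IsSaturated p) (hp : p ≠ 2) (P : Subgroup Ω) (hP : F.StronglyClosed P)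
    (n : ℕ) (Qs : Fin (n + 1) → Subgroup Ω) (h0 : Qs 0 = ⊥)
    (hlast : Qs (Fin.last n) = omegaOne p P) (hsc : ∀ i : Fin (n + 1), F.StronglyClosed (Qs i))
    (hcomm : ∀ i : Fin n, ⁅Qs i.succ, P⁆ ≤ Qs i.castSucc) : F.IsNormal P := by
  have hPn := le_normalizer_of_stronglyClosed F hP
  refine isNormal_of_stronglyClosed_of_le_pCore hS F hF hP (fun R hess => ?_)
  have hRS : R ≤ S := hess.2.1.1
  have hfinR : Finite R := finite_of_le hRS
  have hnorm1 : ∀ i : Fin n, ((linkStab R (Qs (Fin.castSucc i)) (Qs i.succ)).subgroupOf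
      (F.autGroup R)).Normal := fun i =>
    linkStab_subgroupOf_normal _ (autInvariant_of_stronglyClosed F (hsc _) hRS)
      (autInvariant_of_stronglyClosed F (hsc _) hRS)
  have hnorm2 : ((linkStab R P R).subgroupOf (F.autGroup R)).Normal :=
    linkStab_subgroupOf_normal _ (autInvariant_of_stronglyClosed F hP hRS) (autInvariant_self _)
  have hKn : ((⨅ i : Fin n, (linkStab R (Qs (Fin.castSucc i)) (Qs i.succ)).subgroupOf
      (F.autGroup R)) ⊓ (linkStab R P R).subgroupOf (F.autGroup R)).Normal := by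
    have := Subgroup.normal_iInf_normal hnorm1
    exact Subgroup.normal_inf_normal _ _
  have hKp : IsPGroup p ↥((⨅ i : Fin n, (linkStab R (Qs (Fin.castSucc i)) (Qs i.succ)).subgroupOf
      (F.autGroup R)) ⊓ (linkStab R P R).subgroupOf (F.autGroup R)) := by
    refine isPGroup_of_forall_isPElementOn (P := R)
      ((F.autGroup R).subtype.comp (Subgroup.subtype _))
      ((F.autGroup R).subtype_injective.comp (Subgroup.subtype_injective _)) ?_
    rintro ⟨β, hβ⟩
    rw [Subgroup.mem_inf, Subgroup.mem_iInf] at hβ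
    obtain ⟨hβ1, hβ2⟩ := hβ
    show IsPElementOn p (β : MulAut R) R
    have hchain : ∀ i : Fin (n + 1), IsPElementOn p (β : MulAut R) (Qs i) := by
      intro i
      refine Fin.induction ?_ (fun j ih => ?_) i
      · rw [h0]
        exact isPElementOn_bot p _
      · refine isPElementOn_step hS (hsc _).1 _ ih (fun x hx => ?_)
        have := (Subgroup.mem_subgroupOf.mp (hβ1 j)) x hx
        exact ⟨this.1.1, this.2.1⟩
    have hΩ : IsPElementOn p (β : MulAut R) (omegaOne p P) := hlast ▸ hchain (Fin.last n)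
    have hinvP := autInvariant_of_stronglyClosed F hP hRS
    have hβP : IsPElementOn p (β : MulAut R) P :=
      isPElementOn_of_omegaOne hp hS hRS (β : MulAut R)
        (fun x hx => hinvP _ β.2 x hx)
        (fun x hx => hinvP _ ((F.autGroup R).inv_mem β.2) x hx) hΩ
    refine isPElementOn_step hS hP.1 _ hβP (fun x hx => ?_)
    have := (Subgroup.mem_subgroupOf.mp hβ2) x hx
    exact ⟨this.1.1, this.2.1⟩
  refine le_trans ?_ (Cfsg.Agent.Lib.Helper1.le_pCore hKn hKp)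
  intro b hb
  obtain ⟨g, hgQN, hg, hbg⟩ := mem_autInducedBy_iff'.mp (Subgroup.mem_subgroupOf.mp hb)
  have hgS : g ∈ S := hP.1 hgQN.1
  rw [Subgroup.mem_inf, Subgroup.mem_iInf]
  refine ⟨fun i => ?_, ?_⟩
  · rw [Subgroup.mem_subgroupOf, hbg]
    refine conjAut_mem_linkStab hg (le_normalizer_of_stronglyClosed F (hsc _) hgS)
      (fun x hx => ?_) (fun x hx => ?_)
    · have h1 : ⁅x⁻¹, g⁆ ∈ ⁅Qs i.succ, P⁆ :=
        Subgroup.commutator_mem_commutator (Subgroup.inv_mem _ hx) hgQN.1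
      have e : x⁻¹ * (g * x * g⁻¹) = ⁅x⁻¹, g⁆ := by
        rw [commutatorElement_def]; group
      rw [e]
      exact hcomm i h1
    · have h1 : ⁅x⁻¹, g⁻¹⁆ ∈ ⁅Qs i.succ, P⁆ :=
        Subgroup.commutator_mem_commutator (Subgroup.inv_mem _ hx) (Subgroup.inv_mem _ hgQN.1)
      have e : x⁻¹ * (g⁻¹ * x * g) = ⁅x⁻¹, g⁻¹⁆ := by
        rw [commutatorElement_def]; group
      rw [e]
      exact hcomm i h1
  · rw [Subgroup.mem_subgroupOf, hbg]
    refine conjAut_mem_linkStab hg hg (fun x hx => ?_) (fun x hx => ?_)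
    · have h1 : x⁻¹ * g * x⁻¹⁻¹ ∈ P :=
        (Subgroup.mem_normalizer_iff.mp (hPn (S.inv_mem (hRS hx))) g).mp hgQN.1
      have e : x⁻¹ * (g * x * g⁻¹) = (x⁻¹ * g * x⁻¹⁻¹) * g⁻¹ := by group
      rw [e]
      exact P.mul_mem h1 (P.inv_mem hgQN.1)
    · have h1 : x⁻¹ * g⁻¹ * x⁻¹⁻¹ ∈ P :=
        (Subgroup.mem_normalizer_iff.mp (hPn (S.inv_mem (hRS hx))) g⁻¹).mp (P.inv_mem hgQN.1)
      have e : x⁻¹ * (g⁻¹ * x * g) = (x⁻¹ * g⁻¹ * x⁻¹⁻¹) * g := by group
      rw [e]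
      exact P.mul_mem h1 hgQN.1

theorem result {Ω : Type*} [Group Ω] {S : Subgroup Ω} [Finite S] (p : ℕ) [Fact p.Prime] (hS : IsPGroup p S) (F : Cfsg.FusionSystem S) (hF : F.IsSaturated p) (hp : p ≠ 2) (P : Subgroup Ω) (hP : F.StronglyClosed P) : F.IsNormal P ↔ ∃ (n : ℕ) (Q : Fin (n + 1) → Subgroup Ω), Q 0 = ⊥ ∧ Q (Fin.last n) = Cfsg.omegaOne p P ∧ Monotone Q ∧ (∀ i : Fin (n + 1), F.StronglyClosed (Q i)) ∧ ∀ i : Fin n, ⁅Q i.succ, P⁆ ≤ Q i.castSucc := by
  constructor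
  · intro h
    exact forward p hS F P h
  · rintro ⟨n, Q, h0, hlast, -, hsc, hcomm⟩
    exact backward p hS F hF hp P hP n Q h0 hlast hsc hcomm

end Cfsg.Agent.S5236
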