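import Cfsg.Statements.S5238
import Cfsg.Agent.Lib.Helper20.PRLF1
import Cfsg.Agent.Lib.Helper1.MaxClass
import Cfsg.Agent.Lib.helper23.PRLPB
import Cfsg.Agent.Lib.Helper29.MCPGEN
import Cfsg.Agent.Lib.Helper29.MCPPA
import Cfsg.Agent.Lib.Helper24.MCPPN
import Cfsg.Agent.Lib.helper4.MCPSECb

set_option autoImplicit false
open Cfsg

namespace Cfsg.Agent.S5238

open Cfsg.Agent.Lib.Helper18.PRL Cfsg.Agent.Lib.helper4.MCP

theorem h4_transfer_gen {Ω : Type*} [Group Ω] {S : Subgroup Ω} (k : ℕ)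
    (h : ∀ H' : Subgroup ↥S, ∃ T' : Finset ↥S, T'.card ≤ k ∧ Subgroup.closure (T' : Set ↥S) = H') :
    ∀ H : Subgroup Ω, H ≤ S → ∃ T : Finset Ω, T.card ≤ k ∧ Subgroup.closure (T : Set Ω) = H := by
  classical
  intro H hHS
  obtain ⟨T', hT', hcl⟩ := h (H.subgroupOf S)
  refine ⟨T'.image Subtype.val, (Finset.card_image_le).trans hT', ?_⟩
  have h1 : ((T'.image Subtype.val : Finset Ω) : Set Ω) = S.subtype '' (T' : Set ↥S) := by
    ext x; simp
  rw [h1, ← MonoidHom.map_closure, hcl, Subgroup.map_subgroupOf_eq_of_le hHS]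

/-- Let p be an odd prime and F a saturated fusion system over a finite p-group S having a pearl: an F-essential subgroup E that is elementary abelian of order p² or nonabelian of order p³. Then S has maximal nilpotency class (if S has order pⁿ with n ≥ 3, the term of index n − 2 of its lower central series, counting S itself as the term of index 0, is nontrivial), and every subgroup of S can be generated by at most p elements (the sectional rank of S is at most p). -/
theorem result {Ω : Type*} [Group Ω] {S : Subgroup Ω} [Finite S] (p : ℕ) [Fact p.Prime] (hS : IsPGroup p S) (F : Cfsg.FusionSystem S) (hF : F.IsSaturated p) (hp : p ≠ 2) (E : Subgroup Ω) (hE : F.IsEssential p E) (hpearl : (Nat.card E = p ^ 2 ∧ ∀ x ∈ E, x ^ p = 1 ∧ IsMulCommutative ↥E) ∨ (Nat.card E = p ^ 3 ∧ ¬ IsMulCommutative ↥E)) : (∀ n : ℕ, Nat.card S = p ^ n → 3 ≤ n → Subgroup.lowerCentralSeries S (n - 2) ≠ ⊥) ∧ ∀ H : Subgroup Ω, H ≤ S → ∃ T : Finset Ω, T.card ≤ p ∧ Subgroup.closure (T : Set Ω) = H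 := by
  classical
  have hpp : p.Prime := Fact.out
  have hp3 : 3 ≤ p := by
    have := hpp.two_le
    omega
  obtain ⟨hES, hne, hcen⟩ := essential_basic hS F hF E hE
  obtain ⟨n, hn⟩ := IsPGroup.iff_card.mp hS
  have hEcard : Nat.card (E.subgroupOf S) = Nat.card E :=
    Nat.card_congr (Subgroup.subgroupOfEquivOfLe hES).toEquiv
  have hE'ne : E.subgroupOf S ≠ ⊤ := by
    intro htop
    apply hne
    exact le_antisymm hES (Subgroup.subgroupOf_eq_top.mp htop)
  have hE'cen : Subgroup.centralizer ((E.subgroupOf S : Subgroup ↥S) : Set ↥S) ≤ E.subgroupOf S := by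
    intro g hg
    rw [Subgroup.mem_subgroupOf]
    refine hcen g g.2 ?_
    intro e he
    have := Subgroup.mem_centralizer_iff.mp hg ⟨e, hES he⟩ (by
      show (⟨e, hES he⟩ : ↥S) ∈ E.subgroupOf S
      rw [Subgroup.mem_subgroupOf]; exact he)
    have h2 := congrArg Subtype.val this
    simpa using h2.symm
  -- the abelian case: `E` is self-centralizing
  have hab_cent : IsMulCommutative ↥E →
      Subgroup.centralizer ((E.subgroupOf S : Subgroup ↥S) : Set ↥S) = E.subgroupOf S := by
    intro hcomm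
    refine le_antisymm hE'cen ?_
    intro g hg
    rw [Subgroup.mem_subgroupOf] at hg
    rw [Subgroup.mem_centralizer_iff]
    intro e he
    rw [SetLike.mem_coe, Subgroup.mem_subgroupOf] at he
    have h1 : (⟨(e : Ω), he⟩ : ↥E) * ⟨(g : Ω), hg⟩ = ⟨(g : Ω), hg⟩ * ⟨(e : Ω), he⟩ :=
      hcomm.is_comm.comm _ _
    apply Subtype.ext
    have h2 := congrArg Subtype.val h1
    simpa using h2
  -- the nonabelian case
  have hna' : ¬ IsMulCommutative ↥E → ¬ IsMulCommutative ↥(E.subgroupOf S) := by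
    intro hna hc
    apply hna
    refine ⟨⟨fun a b => ?_⟩⟩
    have h1 : (⟨⟨(a : Ω), hES a.2⟩, Subgroup.mem_subgroupOf.mpr a.2⟩ : ↥(E.subgroupOf S)) *
        ⟨⟨(b : Ω), hES b.2⟩, Subgroup.mem_subgroupOf.mpr b.2⟩ =
        ⟨⟨(b : Ω), hES b.2⟩, Subgroup.mem_subgroupOf.mpr b.2⟩ *
        ⟨⟨(a : Ω), hES a.2⟩, Subgroup.mem_subgroupOf.mpr a.2⟩ := hc.is_comm.comm _ _
    apply Subtype.ext
    have h2 := congrArg (fun t : ↥(E.subgroupOf S) => ((t : ↥S) : Ω)) h1
    simpa using h2
  have hclass : Group.nilpotencyClass ↥S = n - 1 := by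
    rcases hpearl with ⟨h9, hab⟩ | ⟨h27, hna⟩
    · have hcomm : IsMulCommutative ↥E := (hab 1 E.one_mem).2
      exact Cfsg.Agent.Lib.Helper1.class_of_self_centralizing p n ↥S hn (E.subgroupOf S)
        (by rw [hEcard, h9]) (hab_cent hcomm)
    · exact class_of_nonabelian_centric p n ↥S hn (E.subgroupOf S)
        (by rw [hEcard, h27]) (hna' hna) hE'cen hE'ne
  have hMC : MC p ↥S n := ⟨hn, hclass⟩
  have hE9 : p ^ 2 ≤ Nat.card (E.subgroupOf S) := by
    rw [hEcard]
    rcases hpearl with ⟨h9, -⟩ | ⟨h27, -⟩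
    · rw [h9]
    · rw [h27]; exact Nat.pow_le_pow_right hpp.pos (by norm_num)
  have hlt : Nat.card (E.subgroupOf S) < Nat.card ↥S := by
    rcases lt_or_eq_of_le (Subgroup.card_le_card_group (E.subgroupOf S)) with h | h
    · exact h
    · exact absurd (Subgroup.eq_top_of_card_eq _ h) hE'ne
  have hn3 : 3 ≤ n := by
    by_contra hlt3
    have : Nat.card ↥S ≤ p ^ 2 := by
      rw [hn]
      exact Nat.pow_le_pow_right hpp.pos (by omega)
    omega
  have hnil : Group.IsNilpotent ↥S := hS.isNilpotent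
  refine ⟨?_, ?_⟩
  · intro m hm _ hbot
    have hmn : m = n := Nat.pow_right_injective hpp.two_le (show p ^ m = p ^ n by rw [← hm, ← hn])
    subst hmn
    have h1 : ((⊤ : Subgroup ↥S).lowerCentralSeries (m - 2)).map S.subtype =
        S.lowerCentralSeries (m - 2) := Subgroup.top_subtype_lowerCentralSeries S (m - 2)
    rw [hbot] at h1
    have h2 : (⊤ : Subgroup ↥S).lowerCentralSeries (m - 2) = ⊥ :=
      (Subgroup.map_eq_bot_iff_of_injective _ S.subtype_injective).1 h1
    have h3 : Group.nilpotencyClass ↥S ≤ m - 2 :=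
      Subgroup.lowerCentralSeries_eq_bot_iff_nilpotencyClass_le.mp h2
    omega
  · apply h4_transfer_gen p
    intro H'
    rcases Nat.lt_or_ge n 4 with hn4 | hn4
    · -- `|S| = p ^ 3`
      have hn3' : n = 3 := by omega
      subst hn3'
      obtain ⟨T, hT, hcl⟩ := gen_of_card_le_agemo (p := p) hS H' 3 (by
        have h1 : Nat.card H' ≤ p ^ 3 := hn ▸ Subgroup.card_le_card_group H'
        have h2 : 0 < Nat.card (Subgroup.closure {z : ↥S | ∃ x ∈ H', z = x ^ p}) := Nat.card_pos
        nlinarith)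
      exact ⟨T, hT.trans hp3, hcl⟩
    · have hs : ∃ s : ↥S, Nat.card (Subgroup.centralizer ({s} : Set ↥S)) ≤ p ^ 2 := by
        rcases hpearl with ⟨h9, hab⟩ | ⟨h27, hna⟩
        · have hcomm : IsMulCommutative ↥E := (hab 1 E.one_mem).2
          exact exists_small_centralizer_of_abelian hMC hn3 (E.subgroupOf S)
            (by rw [hEcard, h9]) (hab_cent hcomm)
        · exact exists_small_centralizer_of_nonabelian hMC hn4 (E.subgroupOf S)
            (by rw [hEcard, h27]) (hna' hna) hE'cen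
      obtain ⟨s, hs⟩ := hs
      exact sectional_rank_le hMC hn4 s hs H'

end Cfsg.Agent.S5238
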