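import Cfsg.Statements.S5239
import Cfsg.Agent.Lib.Helper18.PRL.Main
import Cfsg.Agent.Lib.Helper20.PRLF1
import Cfsg.Agent.Lib.Helper20.PRLF2
import Cfsg.Agent.Lib.Helper20.PRLF3
import Cfsg.Agent.Lib.helper23.PRLPB
import Cfsg.Agent.Lib.Helper12.PRLP27
import Cfsg.Agent.Lib.Helper12.PRLSYL
import Cfsg.Agent.Lib.Helper16.PRLB4
import Cfsg.Agent.S5234
import Cfsg.Agent.Lib.Helper1.MaxClass

set_option autoImplicit false
open Cfsg

namespace Cfsg.Agent.S5239

open Cfsg.Agent.Lib.Helper18.PRL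

theorem transfer_two_gen {Ω : Type*} [Group Ω] {S : Subgroup Ω}
    (h : ∀ H' : Subgroup ↥S, ∃ T' : Finset ↥S, T'.card ≤ 2 ∧ Subgroup.closure (T' : Set ↥S) = H') :
    ∀ H : Subgroup Ω, H ≤ S → ∃ T : Finset Ω, T.card ≤ 2 ∧ Subgroup.closure (T : Set Ω) = H := by
  classical
  intro H hHS
  obtain ⟨T', hT', hcl⟩ := h (H.subgroupOf S)
  refine ⟨T'.image Subtype.val, (Finset.card_image_le).trans hT', ?_⟩
  have h1 : ((T'.image Subtype.val : Finset Ω) : Set Ω) = S.subtype '' (T' : Set ↥S) := by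
    ext x; simp
  rw [h1, ← MonoidHom.map_closure, hcl, Subgroup.map_subgroupOf_eq_of_le hHS]

theorem result {Ω : Type*} [Group Ω] {S : Subgroup Ω} [Finite S] (hS : IsPGroup 3 S) (F : Cfsg.FusionSystem S) (hF : F.IsSaturated 3) [Fact (Nat.Prime 3)] (E : Subgroup Ω) (hE : F.IsEssential 3 E) (hpearl : (Nat.card E = 9 ∧ ∀ x ∈ E, x ^ 3 = 1 ∧ IsMulCommutative ↥E) ∨ (Nat.card E = 27 ∧ ¬ IsMulCommutative ↥E)) : (Cfsg.IsExtraspecial 3 ↥S ∧ Nat.card S = 27 ∧ Monoid.exponent ↥S = 3) ∨ (81 ≤ Nat.card S ∧ ∀ H : Subgroup Ω, H ≤ S → ∃ T : Finset Ω, T.card ≤ 2 ∧ Subgroup.closure (T : Set Ω) = H) ∨ (∃ W : Sylow 3 (Equiv.Perm (Fin 9)), Nonempty (↥S ≃* ↥(W : Subgroup (Equiv.Perm (Fin 9))))) := by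
  obtain ⟨hES, hne, hcen⟩ := essential_basic hS F hF E hE
  obtain ⟨n, hn⟩ := IsPGroup.iff_card.mp hS
  have hEcard : Nat.card (E.subgroupOf S) = Nat.card E :=
    Nat.card_congr (Subgroup.subgroupOfEquivOfLe hES).toEquiv
  have hE'ne : E.subgroupOf S ≠ ⊤ := by
    intro htop
    apply hne
    exact le_antisymm hES (Subgroup.subgroupOf_eq_top.mp htop)
  have hE'cen : Subgroup.centralizer ((E.subgroupOf S : Subgroup ↥S) : Set ↥S) ≤ E.subgroupOf S := by
    intro g hg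
    rw [Subgroup.mem_subgroupOf]
    refine hcen g g.2 ?_
    intro e he
    have := Subgroup.mem_centralizer_iff.mp hg ⟨e, hES he⟩ (by
      show (⟨e, hES he⟩ : ↥S) ∈ E.subgroupOf S
      rw [Subgroup.mem_subgroupOf]; exact he)
    have h2 := congrArg Subtype.val this
    simpa using h2.symm
  have hclass : Group.nilpotencyClass ↥S = n - 1 := by
    rcases hpearl with ⟨h9, hab⟩ | ⟨h27, hna⟩
    · have hcomm : IsMulCommutative ↥E := (hab 1 E.one_mem).2
      refine Cfsg.Agent.Lib.Helper1.class_of_self_centralizing 3 n ↥S hn (E.subgroupOf S)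
        (by rw [hEcard, h9]; norm_num) (le_antisymm hE'cen ?_)
      intro g hg
      rw [Subgroup.mem_subgroupOf] at hg
      rw [Subgroup.mem_centralizer_iff]
      intro e he
      rw [SetLike.mem_coe, Subgroup.mem_subgroupOf] at he
      have h1 : (⟨(e : Ω), he⟩ : ↥E) * ⟨(g : Ω), hg⟩ = ⟨(g : Ω), hg⟩ * ⟨(e : Ω), he⟩ :=
        hcomm.is_comm.comm _ _
      apply Subtype.ext
      have h2 := congrArg Subtype.val h1
      simpa using h2
    · refine class_of_nonabelian_centric 3 n ↥S hn (E.subgroupOf S)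
        (by rw [hEcard, h27]; norm_num) ?_ hE'cen hE'ne
      intro hc
      apply hna
      refine ⟨⟨fun a b => ?_⟩⟩
      have h1 : (⟨⟨(a : Ω), hES a.2⟩, Subgroup.mem_subgroupOf.mpr a.2⟩ : ↥(E.subgroupOf S)) *
          ⟨⟨(b : Ω), hES b.2⟩, Subgroup.mem_subgroupOf.mpr b.2⟩ =
          ⟨⟨(b : Ω), hES b.2⟩, Subgroup.mem_subgroupOf.mpr b.2⟩ *
          ⟨⟨(a : Ω), hES a.2⟩, Subgroup.mem_subgroupOf.mpr a.2⟩ := hc.is_comm.comm _ _
      apply Subtype.ext
      have h2 := congrArg (fun t : ↥(E.subgroupOf S) => ((t : ↥S) : Ω)) h1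
      simpa using h2
  have hMC : MC 3 ↥S n := ⟨hn, hclass⟩
  have hE9 : 9 ≤ Nat.card (E.subgroupOf S) := by
    rw [hEcard]
    rcases hpearl with ⟨h9, -⟩ | ⟨h27, -⟩
    · omega
    · omega
  have hlt : Nat.card (E.subgroupOf S) < Nat.card ↥S := by
    rcases lt_or_eq_of_le (Subgroup.card_le_card_group (E.subgroupOf S)) with h | h
    · exact h
    · exact absurd (Subgroup.eq_top_of_card_eq _ h) hE'ne
  have hn3 : 3 ≤ n := by
    by_contra hlt3
    have : Nat.card ↥S ≤ 3 ^ 2 := by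
      rw [hn]
      exact Nat.pow_le_pow_right (by norm_num) (by omega)
    omega
  rcases Nat.lt_or_ge n 4 with hn4 | hn4
  · -- n = 3
    have hn3' : n = 3 := by omega
    subst hn3'
    left
    have hnm : ¬ Cfsg.IsMetacyclic ↥S := by
      intro hm
      have hnorm : F.IsNormal S :=
        Cfsg.Agent.S5234.result 3 hS F hF S (stronglyClosed_self F) (by norm_num) hm
      exact not_essential_of_isNormal hS F hF hnorm E hE
    obtain ⟨h1, h2⟩ := extraspecial_of_not_metacyclic hMC hnm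
    exact ⟨h1, by rw [hn]; norm_num, h2⟩
  · right
    rcases Nat.lt_or_ge n 5 with hn5 | hn5
    · have hn4' : n = 4 := by omega
      subst hn4'
      rcases rank_two_or_core_free hMC with hall | ⟨K, hK, hKc⟩
      · left
        exact ⟨by rw [hn]; norm_num, transfer_two_gen hall⟩
      · right
        exact sylow_perm9 (by rw [hn]; norm_num) K hK hKc
    · left
      refine ⟨?_, transfer_two_gen (fun H' => rank_two hMC hn5 H')⟩
      rw [hn]
      calc 81 = 3 ^ 4 := by norm_num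
        _ ≤ 3 ^ n := Nat.pow_le_pow_right (by norm_num) (by omega)

end Cfsg.Agent.S5239
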