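import Cfsg.Statements.S5257
import Cfsg.Agent.Lib.Helper27.AiFus

set_option autoImplicit false
open Cfsg

namespace Cfsg.Agent.S5257

open Cfsg.FusionSystem Cfsg.Agent.Lib.Helper26 Cfsg.Agent.Lib.Helper27.XsFus
  Cfsg.Agent.Lib.Helper27.AiGroup Cfsg.Agent.Lib.Helper27.AiFus

theorem mkHyp {Ω : Type*} [Group Ω] {S : Subgroup Ω} (p : ℕ) (hna : ¬ IsMulCommutative ↥S)
    (A : Subgroup Ω) (hA : A ≤ S ∧ IsMulCommutative ↥A ∧ (A.subgroupOf S).index = p) :
    Hyp p S A := by
  refine ⟨hA.1, ?_, hA.2.2, ?_⟩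
  · intro a ha b hb
    exact congrArg Subtype.val (hA.2.1.is_comm.comm ⟨a, ha⟩ ⟨b, hb⟩)
  · by_contra hcon
    push Not at hcon
    exact hna ⟨⟨fun a b => Subtype.ext (hcon a a.2 b b.2)⟩⟩

/-- `Z₂(S) ≤ A` and `|Z₂(S) : Z(S)| = p` -/
theorem Z2_facts {Ω : Type*} [Group Ω] {S : Subgroup Ω} [Finite S] (p : ℕ) [hp : Fact p.Prime]
    (hS : IsPGroup p S) (F : Cfsg.FusionSystem S) (hF : F.IsSaturated p) (A : Subgroup Ω)
    (H : Hyp p S A)
    (huniq : ∀ B : Subgroup Ω, B ≤ S → IsMulCommutative ↥B → (B.subgroupOf S).index = p → B = A)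
    (P : Subgroup Ω) (hP : F.IsEssential p P) (hPA : P ≠ A) :
    Z2S S ≤ A ∧ (ZS S).relIndex (Z2S S) = p := by
  have hPnle : ¬ P ≤ A := by
    intro hle
    apply hPA
    apply le_antisymm hle
    intro a ha
    apply hP.1.2 P (isConj_refl F hP.1.1)
    exact ⟨H.hAS ha, Subgroup.mem_centralizer_iff.mpr (fun y hy => H.hab y (hle hy) a ha)⟩
  obtain ⟨x, hxP, hxA⟩ : ∃ x ∈ P, x ∉ A := by
    by_contra hcon
    push Not at hcon
    exact hPnle hcon
  have c : Ctx p S A F P x := ⟨H, hS, hF, hP, hxP, hxA⟩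
  by_cases hab : ∀ a ∈ P, ∀ b ∈ P, a * b = b * a
  swap
  · exact ⟨c.Z2S_le_A hab, c.relIndex_Z2S hab⟩
  have hrel := c.relIndex_of_abelian hab
  have hZ2A : Z2S S ≤ A := by
    intro y hy
    by_contra hyA
    obtain ⟨hyS, hyc⟩ := mem_Z2S.mp hy
    have hAle : A ≤ Z2S S := by
      intro b hb
      apply (mem_Z2S_iff_psi H hS hyS hyA ⟨b, hb⟩).mpr
      rw [psi_apply]
      have h1 := hyc b (H.hAS hb)
      have e : b * y * b⁻¹ * y⁻¹ = (y * b * y⁻¹ * b⁻¹)⁻¹ := by group
      rw [e]
      exact Subgroup.inv_mem _ h1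
    rw [inf_eq_right.mpr hAle] at hrel
    -- the subgroup `Z(S)⟨y⟩`
    obtain ⟨B, hB⟩ : ∃ B : Subgroup Ω, B = ZS S ⊔ Subgroup.zpowers y := ⟨_, rfl⟩
    have hBS : B ≤ S := by
      rw [hB]
      exact sup_le ZS_le (Subgroup.zpowers_le.mpr hyS)
    have hyB : y ∈ B := by
      rw [hB]
      exact Subgroup.mem_sup_right (Subgroup.mem_zpowers y)
    have hZB : ZS S ≤ B := by
      rw [hB]
      exact le_sup_left
    have hBc : B ≤ Subgroup.centralizer (B : Set Ω) := by
      have h1 : ZS S ≤ Subgroup.centralizer (B : Set Ω) := by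
        intro z hz
        rw [Subgroup.mem_centralizer_iff]
        intro b hb
        exact (mem_ZS.mp hz).2 b (hBS hb)
      have h2 : B ≤ Subgroup.centralizer ({y} : Set Ω) := by
        rw [hB]
        refine sup_le (fun z hz => ?_) (Subgroup.zpowers_le.mpr ?_)
        · rw [Subgroup.mem_centralizer_iff]
          rintro _ rfl
          exact ((mem_ZS.mp hz).2 _ hyS)
        · rw [Subgroup.mem_centralizer_iff]
          rintro _ rfl
          rfl
      have h3 : y ∈ Subgroup.centralizer (B : Set Ω) := by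
        rw [Subgroup.mem_centralizer_iff]
        intro b hb
        have := Subgroup.mem_centralizer_iff.mp (h2 hb) y rfl
        exact this.symm
      calc B = ZS S ⊔ Subgroup.zpowers y := hB
        _ ≤ Subgroup.centralizer (B : Set Ω) := sup_le h1 (Subgroup.zpowers_le.mpr h3)
    have hBab : IsMulCommutative ↥B :=
      ⟨⟨fun a b => Subtype.ext ((Subgroup.mem_centralizer_iff.mp (hBc b.2) a a.2))⟩⟩
    have hBidx : (B.subgroupOf S).index = p := by
      show B.relIndex S = p
      have h1 := Subgroup.relIndex_mul_relIndex (ZS S) B S hZB hBS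
      have h2 := Subgroup.relIndex_mul_relIndex (ZS S) A S (H.ZS_le hS) H.hAS
      rw [hrel] at h2
      have hAS : A.relIndex S = p := H.hidx
      rw [hAS] at h2
      rw [← h2] at h1
      have hne1 : (ZS S).relIndex B ≠ 1 := by
        intro h
        have := Subgroup.relIndex_eq_one.mp h hyB
        exact hyA (H.ZS_le hS this)
      have hne2 : B.relIndex S ≠ 1 := by
        intro h
        have hSB : S ≤ B := Subgroup.relIndex_eq_one.mp h
        obtain ⟨a, ha, b, hb, hne⟩ := H.hna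
        exact hne ((Subgroup.mem_centralizer_iff.mp (hBc (hSB hb)) a (hSB ha)))
      have hd : (ZS S).relIndex B ∣ p ^ 2 := by
        rw [pow_two]
        exact Dvd.intro _ h1
      obtain ⟨j, hj2, hj⟩ := (Nat.dvd_prime_pow hp.out).mp hd
      have hpp := hp.out.pos
      interval_cases j
      · rw [pow_zero] at hj
        exact absurd hj hne1
      · rw [pow_one] at hj
        rw [hj] at h1
        exact Nat.eq_of_mul_eq_mul_left hpp h1
      · rw [hj, pow_two] at h1
        have : p * p * B.relIndex S = p * p * 1 := by rw [h1, mul_one]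
        have := Nat.eq_of_mul_eq_mul_left (Nat.mul_pos hpp hpp) this
        exact absurd this hne2
    have := huniq B hBS hBab hBidx
    rw [← this] at hyA
    exact hyA hyB
  rw [inf_eq_left.mpr hZ2A] at hrel
  exact ⟨hZ2A, hrel⟩

/-- Let p be an odd prime, S a finite nonabelian p-group with a unique abelian subgroup A of index p, and F a saturated fusion system over S having an F-essential subgroup other than A. Then the second centre Z₂(S) lies in A; Z(S) ∩ [S, S] has order p; Z(S)[S, S] has index p in A; Z(S) has index p in Z₂(S); and S/Z(S) has maximal nilpotency class (if S/Z(S) has order pᵐ with m ≥ 3 then the term of index m − 2 of the lower central series of S, counting S as index 0, is not contained in Z(S)). -/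
theorem result {Ω : Type*} [Group Ω] {S : Subgroup Ω} [Finite S] (p : ℕ) [Fact p.Prime] (hS : IsPGroup p S) (F : Cfsg.FusionSystem S) (hF : F.IsSaturated p) (hp : p ≠ 2) (hna : ¬ IsMulCommutative ↥S) (A : Subgroup Ω) (hA : A ≤ S ∧ IsMulCommutative ↥A ∧ (A.subgroupOf S).index = p) (huniq : ∀ B : Subgroup Ω, B ≤ S → IsMulCommutative ↥B → (B.subgroupOf S).index = p → B = A) (P : Subgroup Ω) (hP : F.IsEssential p P) (hPA : P ≠ A) : ((upperCentralSeries ↥S 2).map S.subtype) ≤ A ∧ Nat.card ↥((S ⊓ Subgroup.centralizer (S : Set Ω)) ⊓ ((commutator ↥S).map S.subtype)) = p ∧ (((S ⊓ Subgroup.centralizer (S : Set Ω)) ⊔ ((commutator ↥S).map S.subtype)).subgroupOf A).index = p ∧ (((S ⊓ Subgroup.centralizer (S : Set Ω))).subgroupOf ((upperCentralSeries ↥S 2).map S.subtype)).index = p ∧ ∀ m : ℕ, ((S ⊓ Subgroup.centralizer (S : Set Ω)).subgroupOf S).index = p ^ m → 3 ≤ m → ¬ Subgroup.lowerCentralSeries S (m - 2) ≤ (S ⊓ Subgroup.centralizer (S : Set Ω)) := by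
  have H := mkHyp p hna A hA
  obtain ⟨hZ2A, hrel⟩ := Z2_facts p hS F hF A H huniq P hP hPA
  obtain ⟨h1, h2, h3⟩ := struct_of_Z2 H hS hZ2A hrel
  rw [inf_centralizer_eq_ZS]
  exact ⟨hZ2A, h1, h2, hrel, h3⟩

end Cfsg.Agent.S5257
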