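import Cfsg.Statements.S5244
import Cfsg.Agent.S5257
import Cfsg.Agent.Lib.Helper27.AiCore

set_option autoImplicit false
open Cfsg

namespace Cfsg.Agent.S5244

open Cfsg.FusionSystem Cfsg.Agent.Lib.Helper26 Cfsg.Agent.Lib.Helper27.XsFus
  Cfsg.Agent.Lib.Helper27.AiGroup Cfsg.Agent.Lib.Helper27.AiFus Cfsg.Agent.Lib.Helper27.AiCore

/-- Let p be an odd prime, S a finite nonabelian p-group with a unique abelian subgroup A of index p, and F a saturated fusion system over S with no nontrivial normal subgroup (O_p(F) = 1) in which A is not F-essential. Then some subgroup Z(S)⟨x⟩ with x ∈ S outside A is F-essential, the centre Z(S) is contained in the commutator subgroup of S, and S has maximal nilpotency class (if S has order pⁿ with n ≥ 3, the term of index n − 2 of its lower central series, counting S itself as the term of index 0, is nontrivial). -/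
theorem result {Ω : Type*} [Group Ω] {S : Subgroup Ω} [Finite S] (p : ℕ) [Fact p.Prime] (hS : IsPGroup p S) (F : Cfsg.FusionSystem S) (hF : F.IsSaturated p) (hp : p ≠ 2) (hna : ¬ IsMulCommutative ↥S) (A : Subgroup Ω) (hA : A ≤ S ∧ IsMulCommutative ↥A ∧ (A.subgroupOf S).index = p) (huniq : ∀ B : Subgroup Ω, B ≤ S → IsMulCommutative ↥B → (B.subgroupOf S).index = p → B = A) (hcore : F.core = ⊥) (hAe : ¬ F.IsEssential p A) : (∃ x ∈ S, x ∉ A ∧ F.IsEssential p ((S ⊓ Subgroup.centralizer (S : Set Ω)) ⊔ Subgroup.zpowers x)) ∧ (S ⊓ Subgroup.centralizer (S : Set Ω)) ≤ (commutator ↥S).map S.subtype ∧ ∀ n : ℕ, Nat.card S = p ^ n → 3 ≤ n → Subgroup.lowerCentralSeries S (n - 2) ≠ ⊥ := by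
  have H := Cfsg.Agent.S5257.mkHyp p hna A hA
  have hpr : p.Prime := Fact.out
  have hS1 : S ≠ ⊥ := by
    intro h
    obtain ⟨a, ha, b, hb, hne⟩ := H.hna
    rw [h, Subgroup.mem_bot] at ha hb
    rw [ha, hb] at hne
    exact hne rfl
  obtain ⟨E₀, hE₀⟩ := exists_essential hS F hF hS1 hcore
  have hE₀A : E₀ ≠ A := by
    rintro rfl
    exact hAe hE₀
  obtain ⟨hZ2A, hrel⟩ := Cfsg.Agent.S5257.Z2_facts p hS F hF A H huniq E₀ hE₀ hE₀A
  obtain ⟨hZ0', -, hmax⟩ := struct_of_Z2 H hS hZ2A hrel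
  have hZ0 : Nat.card (Z0 S) = p := hZ0'
  -- an abelian essential subgroup exists
  have part1 : ∃ x ∈ S, x ∉ A ∧ F.IsEssential p (ZS S ⊔ Subgroup.zpowers x) := by
    by_contra hcon
    push Not at hcon
    have hn : F.IsNormal (ZS S) := by
      refine normal_of_invariant hS F hF _ (fun P hP => ?_)
      rcases hP with hPS | hE
      · obtain rfl : S = P := hPS.symm
        exact ⟨ZS_le, fun α _ y hy => aut_ZS α hy⟩
      · have hPA : P ≠ A := by
          rintro rfl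
          exact hAe hE
        obtain ⟨x, c⟩ := exists_ctx H hS hF hE hPA
        have hab : ¬ ∀ a ∈ P, ∀ b ∈ P, a * b = b * a := by
          intro hab
          have h1 := c.eq_sup_of_abelian hab
          have h2 := hcon x c.hxS c.hxA
          rw [← h1] at h2
          exact h2 hE
        exact ⟨c.ZS_le_P, fun α _ y hy => aut_ZS_of_nonabelian c hab α y hy⟩
    have hbot := eq_bot_of_normal hcore hn
    have h0 : Z0 S = ⊥ := by
      rw [eq_bot_iff, ← hbot]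
      exact Z0_le_ZS
    rw [h0, Subgroup.card_bot] at hZ0
    exact hpr.one_lt.ne hZ0
  obtain ⟨x₁, hx₁S, hx₁A, hP₁⟩ := part1
  have c₁ : Ctx p S A F (ZS S ⊔ Subgroup.zpowers x₁) x₁ :=
    ⟨H, hS, hF, hP₁, Subgroup.mem_sup_right (Subgroup.mem_zpowers x₁), hx₁A⟩
  obtain ⟨b₁, hb₁2, hb₁Z⟩ := exists_Z2_not_ZS (p := p) hrel
  have d₁ : AbCtx p S A F (ZS S ⊔ Subgroup.zpowers x₁) x₁ b₁ :=
    ⟨c₁, ZS_sup_zpowers_comm hx₁S, hb₁2, hb₁Z, hZ2A⟩
  haveI : Finite ↥(ZS S ⊔ Subgroup.zpowers x₁) := finite_of_le c₁.hPS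
  obtain ⟨-, -, ⟨g₁, hg₁, hmov₁⟩, hmain₁⟩ := d₁.loc.main
  obtain ⟨τ₀, hτ₀, a₀, b₀, -⟩ := d₁.exists_tau hp hZ0 hg₁ hmov₁
  obtain ⟨key, hnormal⟩ := core_normal H hS F hF hp hAe hZ2A hrel hZ0 τ₀ hτ₀ a₀ b₀
  have hC0 := eq_bot_of_normal hcore hnormal
  -- Z(S) ≤ Z(S) ∩ [S,S]
  have hZle : ZS S ≤ Z0 S := by
    intro z hz
    obtain ⟨-, hdecZ, -, -, -, -⟩ := hmain₁ g₁ hg₁ hmov₁
    obtain ⟨c, ⟨hc1, hc2⟩, a, ha, hze⟩ :=
      hdecZ ⟨z, c₁.ZS_le_P hz⟩ (Subgroup.mem_subgroupOf.mpr hz)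
    have h1 := (key _ x₁ b₁ d₁ g₁ hg₁ hmov₁ ⟨c, Subgroup.mem_subgroupOf.mp hc1⟩).mpr
      (Subgroup.mem_subgroupOf.mp hc2)
    have h2 : ((c : ↥(ZS S ⊔ Subgroup.zpowers x₁)) : Ω) ∈ (fixSub τ₀).map (ZS S).subtype :=
      ⟨⟨c, Subgroup.mem_subgroupOf.mp hc1⟩, h1, rfl⟩
    rw [hC0, Subgroup.mem_bot] at h2
    have hc : c = 1 := Subtype.ext h2
    rw [hc, one_mul] at hze
    have h3 := d₁.W_le_Z0 ha
    rw [← hze] at h3
    exact h3
  have hZeq : ZS S = Z0 S := le_antisymm hZle Z0_le_ZS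
  have hcardZ : Nat.card (ZS S) = p := by rw [hZeq, hZ0]
  rw [inf_centralizer_eq_ZS]
  refine ⟨⟨x₁, hx₁S, hx₁A, hP₁⟩, hZle.trans Z0_le_SD, ?_⟩
  intro n hn h3
  have hidx : ((ZS S).subgroupOf S).index = p ^ (n - 1) := by
    have h1 := Subgroup.card_mul_index ((ZS S).subgroupOf S)
    rw [Nat.card_congr (Subgroup.subgroupOfEquivOfLe ZS_le).toEquiv, hcardZ, hn] at h1
    have h2 : p ^ n = p * p ^ (n - 1) := by
      rw [← pow_succ']
      congr 1
      omega
    rw [h2] at h1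
    exact Nat.eq_of_mul_eq_mul_left hpr.pos h1
  have hclaim : ¬ S.lowerCentralSeries (n - 3) ≤ ZS S := by
    by_cases hn3 : n = 3
    · subst hn3
      intro hle
      obtain ⟨a, ha, b, hb, hne⟩ := H.hna
      have hbZ : b ∈ ZS S := hle hb
      exact hne ((mem_ZS.mp hbZ).2 a ha)
    · have h4 := hmax (n - 1) hidx (by omega)
      have e : n - 1 - 2 = n - 3 := by omega
      rw [e] at h4
      exact h4
  intro hbot
  apply hclaim
  have e : n - 2 = (n - 3) + 1 := by omega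
  rw [e, Subgroup.lowerCentralSeries_succ, Subgroup.commutator_eq_bot_iff_le_centralizer] at hbot
  have hle : S.lowerCentralSeries (n - 3) ≤ S := by
    have := Subgroup.lowerCentralSeries_antitone (S := S) (Nat.zero_le (n - 3))
    rwa [Subgroup.lowerCentralSeries_zero] at this
  rw [← inf_centralizer_eq_ZS]
  exact le_inf hle hbot

end Cfsg.Agent.S5244
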