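import Cfsg.Statements.S5245
import Cfsg.Agent.S5083
import Cfsg.Agent.Lib.Helper27.AutSystem
import Cfsg.Agent.Lib.Helper27.FusInner
import Cfsg.Agent.Lib.Helper27.SmallStab
import Cfsg.Agent.Lib.Helper26.KNorm8
import Cfsg.Agent.Lib.Helper26.FusionFully
import Cfsg.Agent.Lib.Helper26.FusionHyp

set_option autoImplicit false
open Cfsg

namespace Cfsg.Agent.S5245

open Cfsg.FusionSystem Cfsg.Agent.Lib.Helper26 Cfsg.Agent.Lib.Helper27

variable {Ω : Type*} [Group Ω] {S : Subgroup Ω}

theorem exists_prime_order {A : Type*} [Group A] [Finite A] {p : ℕ} [Fact p.Prime]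
    (h : ¬ IsPGroup p A) : ∃ (q : ℕ) (β : A), q.Prime ∧ q ≠ p ∧ orderOf β = q := by
  by_contra hcon
  push Not at hcon
  apply h
  have hne : Nat.card A ≠ 0 := Nat.card_pos.ne'
  refine IsPGroup.of_card (Nat.eq_prime_pow_of_unique_prime_dvd hne ?_)
  intro q hq hdvd
  by_contra hqp
  haveI := Fact.mk hq
  obtain ⟨β, hβ⟩ := exists_prime_orderOf_dvd_card' q hdvd
  exact hcon q β hq hqp hβ

theorem inn_le_autGroup (F : FusionSystem S) {P : Subgroup Ω} (hP : P ≤ S) :
    Cfsg.Inn P ≤ F.autGroup P := by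
  rintro _ ⟨s, rfl⟩
  rw [mem_autGroup_iff F hP]
  exact mem_of_forall_eq F (F.conj_mem hP (hP s.2)) (fun x => rfl)

theorem autSystem_isSubsystemOf (F : FusionSystem S) {P : Subgroup Ω} (hP : P ≤ S)
    {A : Subgroup (MulAut P)} (hA : Cfsg.Inn P ≤ A) (hAF : A ≤ F.autGroup P) :
    (autSystem P A hA).IsSubsystemOf F := by
  rintro R φ ⟨hR, α, hα, h⟩
  have h1 := (mem_autGroup_iff F hP).mp (hAF hα)
  exact mem_of_forall_eq F (restrict_mem F h1 hR) (fun x => h x)

/-- If the system of `Inn P ⊔ K` is inner, the `p'`-elements of `K` are trivial. -/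
theorem eq_one_of_inner {P : Subgroup Ω} [Finite P] {p : ℕ} [Fact p.Prime] (hPp : IsPGroup p P)
    (K : Subgroup (MulAut P))
    (hinner : ∀ R : Subgroup Ω, (autSystem P (Cfsg.Inn P ⊔ K) le_sup_left).Hom R =
      (Cfsg.innerFusionSystem P).Hom R) {γ : MulAut P} (hγ : γ ∈ K)
    (hcop : (orderOf γ).Coprime p) : γ = 1 := by
  have h1 : P.subtype.comp γ.toMonoidHom ∈ (autSystem P (Cfsg.Inn P ⊔ K) le_sup_left).Hom P :=
    ⟨le_rfl, γ, le_sup_right (a := Cfsg.Inn P) (b := K) hγ, fun x => rfl⟩
  rw [hinner P] at h1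
  obtain ⟨-, g, hg, h⟩ := h1
  have h2 : γ = MulAut.conj (⟨g, hg⟩ : P) := by
    ext x
    exact h x
  obtain ⟨k, hk⟩ := hPp ⟨g, hg⟩
  have h3 : γ ^ (p ^ k) = 1 := by
    rw [h2, ← map_pow, hk, map_one]
  have h4 : orderOf γ ∣ p ^ k := orderOf_dvd_of_pow_eq_one h3
  have h5 : orderOf γ = 1 := Nat.Coprime.eq_one_of_dvd (hcop.pow_right k) h4
  exact orderOf_eq_one_iff.mp h5

/-- The subgroup `[S, β]`, inside `Ω`. -/
def autComm (β : MulAut S) : Subgroup Ω :=
  (Subgroup.closure {y : S | ∃ x : S, y = x⁻¹ * β x}).map S.subtype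

theorem autComm_le (β : MulAut S) : autComm β ≤ S := by
  rintro _ ⟨y, -, rfl⟩
  exact y.2

theorem gen_mem_autComm (β : MulAut S) (x : S) : ((x⁻¹ * β x : S) : Ω) ∈ autComm β :=
  ⟨_, Subgroup.subset_closure ⟨x, rfl⟩, rfl⟩

theorem apply_mem_autComm (β : MulAut S) {y : Ω} (hy : y ∈ autComm β) :
    ((β ⟨y, autComm_le β hy⟩ : S) : Ω) ∈ autComm β := by
  obtain ⟨z, hz, rfl⟩ := hy
  have key : β z ∈ Subgroup.closure {y : S | ∃ x : S, y = x⁻¹ * β x} := by
    induction hz using Subgroup.closure_induction with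
    | mem y hy =>
      obtain ⟨x, rfl⟩ := hy
      apply Subgroup.subset_closure
      exact ⟨β x, by rw [map_mul, map_inv]⟩
    | one => rw [map_one]; exact Subgroup.one_mem _
    | mul a b _ _ iha ihb => rw [map_mul]; exact Subgroup.mul_mem _ iha ihb
    | inv a _ iha => rw [map_inv]; exact Subgroup.inv_mem _ iha
  exact ⟨β z, key, rfl⟩

/-- Restriction of `β` to `[S, β]`. -/
noncomputable def resAut [Finite S] (β : MulAut S) : MulAut (autComm β) :=
  haveI : Finite (autComm β) := finite_of_le (autComm_le β)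
  MulEquiv.ofBijective
    ((S.subtype.comp (β.toMonoidHom.comp (Subgroup.inclusion (autComm_le β)))).codRestrict
      (autComm β) (fun x => apply_mem_autComm β x.2))
    (Finite.injective_iff_bijective.mp (by
      intro a b hab
      have h1 := congrArg Subtype.val hab
      have h2 : β (Subgroup.inclusion (autComm_le β) a) =
          β (Subgroup.inclusion (autComm_le β) b) := Subtype.ext h1
      have h3 := β.injective h2
      exact Subtype.ext (congrArg (fun z : S => (z : Ω)) h3)))

theorem resAut_apply [Finite S] (β : MulAut S) (x : autComm β) :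
    ((resAut β x : autComm β) : Ω) = ((β ⟨x, autComm_le β x.2⟩ : S) : Ω) := rfl

theorem resAut_pow_apply [Finite S] (β : MulAut S) (n : ℕ) (x : autComm β) :
    (((resAut β) ^ n) x : Ω) = (((β ^ n) ⟨x, autComm_le β x.2⟩ : S) : Ω) := by
  induction n generalizing x with
  | zero => simp
  | succ n ih =>
    rw [pow_succ, pow_succ, MulAut.mul_apply, MulAut.mul_apply, ih]
    rfl

/-- Let F be an extremely sparse fusion system over a finite p-group S (saturated, not the inner system, and every saturated fusion system over any subgroup T of S contained in F is F itself or the inner system of T). Then S is normal in F, the focal and hyperfocal subgroups of F are both S, and Aut_F(S) is generated by the inner automorphisms of S together with a single automorphism of prime order q ≠ p (F is the fusion system of the semidirect product of S by a cyclic group of prime order). -/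
theorem result {Ω : Type*} [Group Ω] {S : Subgroup Ω} [Finite S] (p : ℕ) [Fact p.Prime] (hS : IsPGroup p S) (F : Cfsg.FusionSystem S) (hF : F.IsSaturated p) (hxs : ¬ (∀ P : Subgroup Ω, F.Hom P = (Cfsg.innerFusionSystem S).Hom P) ∧ ∀ (T : Subgroup Ω) (E : Cfsg.FusionSystem T), E.IsSaturated p → E.IsSubsystemOf F → (T = S ∧ ∀ P : Subgroup Ω, E.Hom P = F.Hom P) ∨ (∀ P : Subgroup Ω, E.Hom P = (Cfsg.innerFusionSystem T).Hom P)) : F.IsNormal S ∧ F.focalSubgroup = S ∧ F.hyperfocalSubgroup p = S ∧ ∃ (q : ℕ) (β : MulAut ↥S), q.Prime ∧ q ≠ p ∧ β ∈ F.autGroup S ∧ orderOf β = q ∧ (F.autGroup S : Subgroup (MulAut ↥S)) = Cfsg.Inn ↥S ⊔ Subgroup.zpowers β := by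
  obtain ⟨hni, hmin⟩ := hxs
  -- Step 1: a subgroup with automizer not a p-group
  obtain ⟨P₀, hP₀S, hnp₀⟩ : ∃ P : Subgroup Ω, P ≤ S ∧ ¬ IsPGroup p (F.autGroup P) := by
    by_contra hcon
    push Not at hcon
    have := Cfsg.Agent.S5083.result p hS F hF hcon
    exact hni (fun P => by rw [this])
  obtain ⟨P, hconj, hfn⟩ := exists_fullyNormalized_conj F hP₀S
  obtain ⟨e, he⟩ := exists_iso_of_isConj F hconj
  have hPS : P ≤ S := hfn.1
  have hnp : ¬ IsPGroup p (F.autGroup P) := by
    intro hpg
    apply hnp₀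
    intro α
    obtain ⟨k, hk⟩ := hpg ⟨MulAut.congr e α, congr_mem_autGroup he α.2⟩
    refine ⟨k, ?_⟩
    have h1 := congrArg Subtype.val hk
    simp only [Subgroup.coe_pow, Subgroup.coe_one] at h1
    rw [← map_pow] at h1
    have h2 : (α : MulAut P₀) ^ p ^ k = 1 := by
      apply (MulAut.congr e).injective
      rw [h1, map_one]
    exact Subtype.ext h2
  haveI hfinP : Finite P := finite_of_le hPS
  haveI : Finite (F.autGroup P) := inferInstance
  -- Step 2: the normalizer system
  have hN := normalizerSystem_isNormalizerSystem F P hPS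
  have hNsat := normalizerSystem_saturated hS F hF hfn _ hN
  have hNsub : (normalizerSystem F P hPS).IsSubsystemOf F := by
    intro R φ hφ
    rw [hN R] at hφ
    exact hφ.1
  have hPT : P ≤ normalizerIn S P := le_normalizerIn_self hPS
  rcases hmin _ _ hNsat hNsub with ⟨hTS, hNHom⟩ | hNinner
  swap
  · exfalso
    apply hnp
    have hA := normalizerSystem_autGroup_eq F hPS _ hN
    have h1 : (normalizerSystem F P hPS).autGroup P =
        (Cfsg.innerFusionSystem (normalizerIn S P)).autGroup P := by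
      unfold FusionSystem.autGroup
      rw [hNinner P]
    rw [← hA, h1, inner_autGroup_eq _ hPT]
    exact isPGroup_autInducedBy (hS.to_le inf_le_left) P
  have hPnormal : F.IsNormal P := by
    have h1 := normalizerSystem_isNormal F hPS _ hN
    refine ⟨hPS, fun R φ hφ => ?_⟩
    rw [← hNHom R] at hφ
    obtain ⟨ψ, hψ, h2, h3⟩ := h1.2 R φ hφ
    rw [hNHom] at hψ
    exact ⟨ψ, hψ, h2, h3⟩
  -- Step 3: an automorphism of prime order
  obtain ⟨q, ⟨β, hβF⟩, hq, hqp, hβq⟩ := exists_prime_order hnp
  have hβq' : orderOf β = q := by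
    rw [← hβq]
    exact (Subgroup.orderOf_mk β hβF).symm
  have hcop : q.Coprime p := (Nat.coprime_primes hq (Fact.out : p.Prime)).mpr hqp
  -- Step 4: the system of Inn P ⊔ ⟨β⟩
  have hKcop : (Nat.card (Subgroup.zpowers β)).Coprime p := by
    rw [Nat.card_zpowers, hβq']
    exact hcop
  have hEsat := autSystem_saturated P (Subgroup.zpowers β) (hS.to_le hPS) hKcop
  have hAF : Cfsg.Inn P ⊔ Subgroup.zpowers β ≤ F.autGroup P :=
    sup_le (inn_le_autGroup F hPS) ((Subgroup.zpowers_le).mpr hβF)
  have hEsub := autSystem_isSubsystemOf F hPS le_sup_left hAF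
  rcases hmin _ _ hEsat hEsub with ⟨hPeq, hEHom⟩ | hEinner
  swap
  · exfalso
    have h1 := eq_one_of_inner (hS.to_le hPS) (Subgroup.zpowers β) hEinner
      (Subgroup.mem_zpowers β) (by rw [hβq']; exact hcop)
    rw [h1, orderOf_one] at hβq'
    exact hq.one_lt.ne hβq'
  -- Step 5: P = S
  subst hPeq
  have hβ1 : β ≠ 1 := by
    intro h
    rw [h, orderOf_one] at hβq'
    exact hq.one_lt.ne hβq'
  -- [S, β] = S
  have hH : autComm β = P := by
    haveI hfinH : Finite (autComm β) := finite_of_le (autComm_le β)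
    have hHS := autComm_le β
    have hKcop' : (Nat.card (Subgroup.zpowers (resAut β))).Coprime p := by
      rw [Nat.card_zpowers]
      have h1 : (resAut β) ^ q = 1 := by
        ext x
        rw [resAut_pow_apply, ← hβq', pow_orderOf_eq_one]
        rfl
      have h2 : orderOf (resAut β) ∣ q := orderOf_dvd_of_pow_eq_one h1
      exact Nat.Coprime.coprime_dvd_left h2 hcop
    have hE'sat := autSystem_saturated (autComm β) (Subgroup.zpowers (resAut β))
      (hS.to_le hHS) hKcop'
    have hresF : resAut β ∈ F.autGroup (autComm β) := by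
      rw [mem_autGroup_iff F hHS]
      exact mem_of_forall_eq F (restrict_mem F ((mem_autGroup_iff F hPS).mp hβF) hHS)
        (fun x => rfl)
    have hAF' : Cfsg.Inn (autComm β) ⊔ Subgroup.zpowers (resAut β) ≤ F.autGroup (autComm β) :=
      sup_le (inn_le_autGroup F hHS) ((Subgroup.zpowers_le).mpr hresF)
    have hE'sub := autSystem_isSubsystemOf F hHS le_sup_left hAF'
    rcases hmin _ _ hE'sat hE'sub with ⟨hHeq, -⟩ | hE'inner
    · exact hHeq
    · exfalso
      have hcop' : (orderOf (resAut β)).Coprime p := by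
        rw [← Nat.card_zpowers]; exact hKcop'
      have h1 := eq_one_of_inner (hS.to_le hHS) (Subgroup.zpowers (resAut β)) hE'inner
        (Subgroup.mem_zpowers _) hcop'
      apply hβ1
      ext x
      have hz : β (x⁻¹ * β x) = x⁻¹ * β x := by
        have h2 := resAut_apply β ⟨_, gen_mem_autComm β x⟩
        rw [h1] at h2
        exact (Subtype.ext h2).symm
      have hx : β x = x * (x⁻¹ * β x) := by group
      have h3 := pow_apply_of_fix' β x (x⁻¹ * β x) hx hz q
      rw [← hβq', pow_orderOf_eq_one, MulAut.one_apply] at h3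
      have h4 : (x⁻¹ * β x) ^ orderOf β = 1 := by
        have := mul_left_cancel (a := x) (b := 1) (c := (x⁻¹ * β x) ^ orderOf β)
          (by rw [mul_one]; exact h3)
        exact this.symm
      obtain ⟨k, hk⟩ := hS (x⁻¹ * β x)
      have o1 : orderOf (x⁻¹ * β x) ∣ orderOf β := orderOf_dvd_of_pow_eq_one h4
      have o2 : orderOf (x⁻¹ * β x) ∣ p ^ k := orderOf_dvd_of_pow_eq_one hk
      rw [hβq'] at o1
      have o3 : orderOf (x⁻¹ * β x) = 1 := by
        have h7 := Nat.dvd_gcd o1 o2
        rw [Nat.Coprime.gcd_eq_one (hcop.pow_right k)] at h7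
        exact Nat.dvd_one.mp h7
      have h5 : x⁻¹ * β x = 1 := orderOf_eq_one_iff.mp o3
      have h6 : β x = x := by
        have := hx
        rw [h5, mul_one] at this
        exact this
      rw [h6]
      rfl
  refine ⟨hPnormal, ?_, ?_, q, β, hq, hqp, hβF, hβq', ?_⟩
  · apply le_antisymm
    · refine (Subgroup.closure_le _).mpr ?_
      rintro _ ⟨R, φ, x, hφ, rfl⟩
      exact P.mul_mem (P.inv_mem (source_le F hφ x.2)) (apply_mem F hφ x)
    · intro y0 hy0
      have hy1 : y0 ∈ autComm β := by rw [hH]; exact hy0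
      revert hy1
      clear hy0
      revert y0
      rintro _ ⟨z, hz, rfl⟩
      induction hz using Subgroup.closure_induction with
      | mem y hy =>
        obtain ⟨x, rfl⟩ := hy
        apply Subgroup.subset_closure
        exact ⟨P, P.subtype.comp β.toMonoidHom, x, (mem_autGroup_iff F hPS).mp hβF, rfl⟩
      | one => exact Subgroup.one_mem _
      | mul a b _ _ iha ihb => exact Subgroup.mul_mem _ iha ihb
      | inv a _ iha => exact Subgroup.inv_mem _ iha
  · apply le_antisymm (hyperfocal_le F p)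
    have hβres : (⟨β, hβF⟩ : F.autGroup P) ∈ Cfsg.pResidual p (F.autGroup P) := by
      apply Subgroup.subset_closure
      show Nat.Coprime (orderOf (⟨β, hβF⟩ : F.autGroup P)) p
      rw [Subgroup.orderOf_mk, hβq']
      exact hcop
    intro y0 hy0
    have hy1 : y0 ∈ autComm β := by rw [hH]; exact hy0
    revert hy1
    clear hy0
    revert y0
    rintro _ ⟨z, hz, rfl⟩
    induction hz using Subgroup.closure_induction with
    | mem y hy =>
      obtain ⟨x, rfl⟩ := hy
      exact gen_mem_hyperfocal F p hPS ⟨β, hβF⟩ hβres x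
    | one => exact Subgroup.one_mem _
    | mul a b _ _ iha ihb => exact Subgroup.mul_mem _ iha ihb
    | inv a _ iha => exact Subgroup.inv_mem _ iha
  · have h1 : (autSystem P (Cfsg.Inn P ⊔ Subgroup.zpowers β) le_sup_left).autGroup P =
        F.autGroup P := by
      unfold FusionSystem.autGroup
      rw [hEHom P]
    rw [← h1, autSystem_autGroup]

end Cfsg.Agent.S5245
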