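import Cfsg.Statements.S5246
import Cfsg.Agent.Lib.Helper26.FusionGroup
import Cfsg.Agent.Lib.Helper26.FusionFully
import Cfsg.Agent.Lib.Helper26.FusionAut
import Cfsg.Agent.Lib.Helper27.PCoreOf

set_option autoImplicit false
open Cfsg

namespace Cfsg.Agent.S5246

open Cfsg.Agent.Lib.Helper26 Cfsg.Agent.Lib.Helper27
open scoped commutatorElement

section aux

variable {Ω : Type*} [Group Ω]

theorem mem_range_iff {Q : Subgroup Ω} {α : MulAut Q} :
    α ∈ (Subgroup.normalizerMonoidHom Q).range ↔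
      ∃ g : Ω, ∀ x : Q, ((α x : Q) : Ω) = g * (x : Ω) * g⁻¹ := by
  constructor
  · rintro ⟨⟨g, hg⟩, rfl⟩
    exact ⟨g, fun _ => rfl⟩
  · rintro ⟨g, h⟩
    refine ⟨⟨g, mem_normalizer_of_conj_aut h⟩, ?_⟩
    ext x
    rw [h x]
    rfl

theorem autGroup_eq_range {S Q : Subgroup Ω} (hQ : Q ≤ S) :
    (groupFusionSystem S).autGroup Q = (Subgroup.normalizerMonoidHom Q).range := by
  ext α
  rw [mem_autGroup_iff _ hQ, mem_range_iff, groupFS_mem_iff]
  constructor
  · rintro ⟨-, -, g, hg⟩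
    exact ⟨g, fun x => hg x⟩
  · rintro ⟨g, hg⟩
    exact ⟨hQ, fun x => hQ (α x).2, g, fun x => hg x⟩

theorem mem_pCore_of_equiv {G H : Type*} [Group G] [Group H] {p : ℕ} [Fact p.Prime]
    (e : G ≃* H) {x : G} (hx : x ∈ pCore p G) : e x ∈ pCore p H := by
  have hn : ((pCore p G).map e.toMonoidHom).Normal :=
    (Cfsg.Agent.Lib.Helper1.pCore_normal p).map _ e.surjective
  have hpg : IsPGroup p ((pCore p G).map e.toMonoidHom) := (Cfsg.Agent.Lib.Helper1.pCore_isPGroup p).map _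
  exact Cfsg.Agent.Lib.Helper1.le_pCore hn hpg ⟨x, hx, rfl⟩

theorem mk_mem_pCore_iff {N M : Type*} [Group N] [Group M] {p : ℕ} [Fact p.Prime]
    (f : N →* M) (K : Subgroup N) [hK : K.Normal] (hKf : K = f.ker) (n : N) :
    (QuotientGroup.mk n : N ⧸ K) ∈ pCore p (N ⧸ K) ↔
      f n ∈ ((pCore p ↥f.range).map f.range.subtype : Subgroup M) := by
  subst hKf
  have he : QuotientGroup.quotientKerEquivRange f (QuotientGroup.mk n) = ⟨f n, n, rfl⟩ := rfl
  constructor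
  · intro h
    exact ⟨QuotientGroup.quotientKerEquivRange f (QuotientGroup.mk n),
      mem_pCore_of_equiv (QuotientGroup.quotientKerEquivRange f) h, rfl⟩
  · rintro ⟨z, hz, hzn⟩
    have h1 : (QuotientGroup.quotientKerEquivRange f).symm z ∈ pCore p (N ⧸ f.ker) :=
      mem_pCore_of_equiv (QuotientGroup.quotientKerEquivRange f).symm hz
    have h2 : (QuotientGroup.quotientKerEquivRange f).symm z = QuotientGroup.mk n := by
      rw [MulEquiv.symm_apply_eq, he]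
      exact Subtype.ext hzn
    rwa [h2] at h1

theorem quad_fix {Q : Type*} [Group Q] (χ : MulAut Q)
    (h : ∀ a : Q, (χ a⁻¹) * a * (χ a⁻¹) * (χ (χ a)) = 1) (a : Q) :
    χ (a⁻¹ * χ a) = a⁻¹ * χ a := by
  have h1 := h a
  rw [map_inv] at h1
  rw [map_mul, map_inv]
  have h2 : (χ a)⁻¹ * χ (χ a) = ((χ a)⁻¹ * a)⁻¹ := by
    rw [mul_assoc] at h1
    exact eq_inv_of_mul_eq_one_right h1
  rw [h2]
  group

theorem quad_pow {Q : Type*} [Group Q] (χ : MulAut Q)
    (h : ∀ a : Q, (χ a⁻¹) * a * (χ a⁻¹) * (χ (χ a)) = 1) (a : Q) (n : ℕ) :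
    (χ ^ n) a = a * (a⁻¹ * χ a) ^ n := by
  induction n with
  | zero => simp
  | succ n ih =>
    rw [pow_succ', MulAut.mul_apply, ih, map_mul, map_pow, quad_fix χ h a, pow_succ', ← mul_assoc,
      mul_inv_cancel_left]

theorem conjAut_pow_apply {Q : Subgroup Ω} {g : Ω} (hg : g ∈ Subgroup.normalizer (Q : Set Ω))
    (n : ℕ) (b : Q) : (((conjAut Q g hg) ^ n) b : Ω) = g ^ n * (b : Ω) * (g ^ n)⁻¹ := by
  have h1 : (conjAut Q g hg) ^ n = Subgroup.normalizerMonoidHom Q (⟨g, hg⟩ ^ n) := by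
    rw [map_pow]
    rfl
  rw [h1]
  rfl

theorem comm_eq_bot_of_quad [Finite Ω] {Q : Subgroup Ω} {g : Ω}
    (hg : g ∈ Subgroup.normalizer (Q : Set Ω))
    (h : ∀ a : Q, (conjAut Q g hg a⁻¹) * a * (conjAut Q g hg a⁻¹) *
      (conjAut Q g hg (conjAut Q g hg a)) = 1) :
    ⁅⁅Q, Subgroup.zpowers g⁆, Subgroup.zpowers g⁆ = ⊥ := by
  rw [Subgroup.commutator_eq_bot_iff_le_centralizer, Subgroup.commutator_le]
  intro a ha z hz
  obtain ⟨n, rfl⟩ := (mem_powers_iff_mem_zpowers).mpr hz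
  let a' : Q := ⟨a, ha⟩
  let c : Q := a' * conjAut Q g hg a'⁻¹
  have hc : conjAut Q g hg c = c := by
    have := quad_fix (conjAut Q g hg) h a'⁻¹
    rw [inv_inv] at this
    exact this
  have hcg : g * (c : Ω) * g⁻¹ = (c : Ω) := by
    have := congrArg (Subtype.val) hc
    exact this
  have hcomm : Commute g (c : Ω) := by
    show g * (c : Ω) = (c : Ω) * g
    calc g * (c : Ω) = g * (c : Ω) * g⁻¹ * g := by group
      _ = (c : Ω) * g := by rw [hcg]
  have hpw := quad_pow (conjAut Q g hg) h a'⁻¹ n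
  rw [inv_inv] at hpw
  have hval : ⁅a, g ^ n⁆ = ((c ^ n : Q) : Ω) := by
    have e1 : ⁅a, g ^ n⁆ = a * (g ^ n * a⁻¹ * (g ^ n)⁻¹) := by
      rw [commutatorElement_def]
      group
    have e2 : g ^ n * a⁻¹ * (g ^ n)⁻¹ = ((((conjAut Q g hg) ^ n) a'⁻¹ : Q) : Ω) := by
      rw [conjAut_pow_apply]
      rfl
    rw [e1, e2, hpw]
    show a * ((a'⁻¹ * c ^ n : Q) : Ω) = _
    rw [Subgroup.coe_mul]
    show a * (a⁻¹ * _) = _
    rw [mul_inv_cancel_left]
  rw [hval, Subgroup.coe_pow, Subgroup.mem_centralizer_iff]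
  intro w hw
  obtain ⟨k, rfl⟩ := Subgroup.mem_zpowers_iff.mp hw
  exact ((hcomm.zpow_left k).pow_right n)

theorem quad_of_comm_eq_bot {Q : Subgroup Ω} {g : Ω}
    (hg : g ∈ Subgroup.normalizer (Q : Set Ω))
    (h : ⁅⁅Q, Subgroup.zpowers g⁆, Subgroup.zpowers g⁆ = ⊥) (a : Q) :
    (conjAut Q g hg a⁻¹) * a * (conjAut Q g hg a⁻¹) *
      (conjAut Q g hg (conjAut Q g hg a)) = 1 := by
  rw [Subgroup.commutator_eq_bot_iff_le_centralizer] at h
  have h1 : ⁅((a⁻¹ : Q) : Ω), g⁆ ∈ Subgroup.centralizer (Subgroup.zpowers g : Set Ω) :=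
    h (Subgroup.commutator_mem_commutator (a⁻¹ : Q).2 (Subgroup.mem_zpowers g))
  rw [Subgroup.mem_centralizer_iff] at h1
  have h2 := h1 g (Subgroup.mem_zpowers g)
  rw [commutatorElement_def] at h2
  apply Subtype.ext
  show g * ((a⁻¹ : Q) : Ω) * g⁻¹ * (a : Ω) * (g * ((a⁻¹ : Q) : Ω) * g⁻¹) *
    (g * (g * (a : Ω) * g⁻¹) * g⁻¹) = 1
  rw [Subgroup.coe_inv] at h2 ⊢
  set b : Ω := (a : Ω) with hb
  have hv : g * (g * b⁻¹ * g⁻¹ * b) = (g * b⁻¹ * g⁻¹ * b) * g := by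
    have h3 : (b⁻¹ * g * b⁻¹⁻¹ * g⁻¹)⁻¹ = g * b⁻¹ * g⁻¹ * b := by group
    rw [← h3]
    have h4 : Commute g (b⁻¹ * g * b⁻¹⁻¹ * g⁻¹) := h2
    exact h4.inv_right
  have e1 : g * b⁻¹ * g⁻¹ * b * (g * b⁻¹ * g⁻¹) * (g * (g * b * g⁻¹) * g⁻¹) =
      (g * b⁻¹ * g⁻¹ * b) * g * (g * b⁻¹ * g⁻¹ * b)⁻¹ * g⁻¹ := by group
  rw [e1, ← hv]
  group

theorem transport_pCore {p : ℕ} [Fact p.Prime] (P₀ : Subgroup Ω) (y : Ω) (x₀ : MulAut P₀)
    (h : MulAut.congr (P₀.equivMapOfInjective (MulAut.conj y).toMonoidHom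
        (MulAut.conj y).injective) x₀ ∈
      ((pCore p ↥(Subgroup.normalizerMonoidHom (cj P₀ y)).range).map
        (Subgroup.normalizerMonoidHom (cj P₀ y)).range.subtype : Subgroup (MulAut (cj P₀ y)))) :
    x₀ ∈ ((pCore p ↥(Subgroup.normalizerMonoidHom P₀).range).map
        (Subgroup.normalizerMonoidHom P₀).range.subtype : Subgroup (MulAut P₀)) := by
  set e := P₀.equivMapOfInjective (MulAut.conj y).toMonoidHom (MulAut.conj y).injective with he
  have hev : ∀ x : P₀, ((e x : cj P₀ y) : Ω) = y * x * y⁻¹ := fun x => rfl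
  have hes : ∀ z : cj P₀ y, ((e.symm z : P₀) : Ω) = y⁻¹ * z * y := by
    intro z
    have h1 := hev (e.symm z)
    rw [MulEquiv.apply_symm_apply] at h1
    rw [h1]
    group
  refine pCoreMap_of_equiv (MulAut.congr e) (fun α => ?_) h
  rw [mem_range_iff, mem_range_iff]
  constructor
  · rintro ⟨n, hn⟩
    refine ⟨y * n * y⁻¹, fun z => ?_⟩
    show ((e (α (e.symm z)) : cj P₀ y) : Ω) = _
    rw [hev, hn, hes]
    group
  · rintro ⟨m, hm⟩
    refine ⟨y⁻¹ * m * y, fun x => ?_⟩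
    have h1 : α x = e.symm (MulAut.congr e α (e x)) := by
      show α x = e.symm (e (α (e.symm (e x))))
      rw [MulEquiv.symm_apply_apply, MulEquiv.symm_apply_apply]
    rw [h1, hes, hm, hev]
    group

end aux

/-- Let p be an odd prime, G a finite group and P a Sylow p-subgroup. Call a fusion system F p-stable when, for every fully normalized subgroup Q and every χ ∈ Aut_F(Q) acting quadratically on Q (that is, χ fixes a⁻¹χ(a) for every a ∈ Q; equivalently χ(a⁻¹)·a·χ(a⁻¹)·χ(χ(a)) = 1), χ lies in O_p(Aut_F(Q)). Then G is p-stable in the normalizer form (for every p-subgroup Q and x ∈ N_G(Q) with [Q, x, x] = 1, the image of x lies in O_p(N_G(Q)/C_G(Q))) if and only if the fusion system of G on P is p-stable. -/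
theorem result {Ω : Type*} [Group Ω] [Finite Ω] {p : ℕ} [Fact p.Prime] (hp : p ≠ 2) (P : Sylow p Ω) : Cfsg.IsNormalizerPStable p Ω ↔ (∀ Q : Subgroup Ω, (Cfsg.groupFusionSystem (P : Subgroup Ω)).IsFullyNormalized Q → ∀ χ : MulAut ↥Q, χ ∈ (Cfsg.groupFusionSystem (P : Subgroup Ω)).autGroup Q → (∀ a : ↥Q, (χ a⁻¹) * a * (χ a⁻¹) * (χ (χ a)) = 1) → χ ∈ ((Cfsg.pCore p ↥((Cfsg.groupFusionSystem (P : Subgroup Ω)).autGroup Q)).map ((Cfsg.groupFusionSystem (P : Subgroup Ω)).autGroup Q).subtype : Subgroup (MulAut ↥Q))) := by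
  constructor
  · intro hst Q hQ χ hχ hquad
    have hQP : Q ≤ P := hQ.1
    rw [autGroup_eq_range hQP] at hχ ⊢
    obtain ⟨⟨g, hg⟩, rfl⟩ := hχ
    have hcomm := comm_eq_bot_of_quad hg hquad
    have hpQ : IsPGroup p Q := P.isPGroup'.to_le hQP
    have h1 := hst Q hpQ g hg hcomm
    exact (mk_mem_pCore_iff (Subgroup.normalizerMonoidHom Q) _
      (Subgroup.normalizerMonoidHom_ker Q).symm ⟨g, hg⟩).mp h1
  · intro h P₀ hP₀ g hg hcomm
    rw [mk_mem_pCore_iff (Subgroup.normalizerMonoidHom P₀) _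
      (Subgroup.normalizerMonoidHom_ker P₀).symm ⟨g, hg⟩]
    obtain ⟨x, hx⟩ := exists_conj_le_sylow P hP₀
    obtain ⟨Q, hconj, hfn⟩ :=
      exists_fullyNormalized_conj (groupFusionSystem (P : Subgroup Ω)) hx
    obtain ⟨-, hQP, y, hy⟩ := groupFS_isConj_iff.mp hconj
    rw [cj_cj] at hy
    subst hy
    apply transport_pCore P₀ (y * x)
    set e := P₀.equivMapOfInjective (MulAut.conj (y * x)).toMonoidHom
      (MulAut.conj (y * x)).injective with he
    have hquad := quad_of_comm_eq_bot hg hcomm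
    have key := h _ hfn (MulAut.congr e (conjAut P₀ g hg)) ?_ ?_
    · rw [autGroup_eq_range hQP] at key
      exact key
    · rw [autGroup_eq_range hQP, mem_range_iff]
      refine ⟨(y * x) * g * (y * x)⁻¹, fun z => ?_⟩
      have hev : ∀ w : P₀, ((e w : cj P₀ (y * x)) : Ω) = (y * x) * w * (y * x)⁻¹ := fun w => rfl
      have hes : ((e.symm z : P₀) : Ω) = (y * x)⁻¹ * z * (y * x) := by
        have h1 := hev (e.symm z)
        rw [MulEquiv.apply_symm_apply] at h1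
        rw [h1]
        group
      show ((e (conjAut P₀ g hg (e.symm z)) : cj P₀ (y * x)) : Ω) = _
      rw [hev, conjAut_apply, hes]
      group
    · intro b
      have hb := hquad (e.symm b)
      have hχ : ∀ w : cj P₀ (y * x), MulAut.congr e (conjAut P₀ g hg) w =
          e (conjAut P₀ g hg (e.symm w)) := fun w => rfl
      rw [hχ, hχ, hχ, MulEquiv.symm_apply_apply, map_inv e.symm]
      have hb' := congrArg e hb
      rw [map_mul e, map_mul e, map_mul e, map_one e, MulEquiv.apply_symm_apply] at hb'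
      exact hb'

end Cfsg.Agent.S5246
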