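import Cfsg.Statements.S5247
import Cfsg.Agent.Lib.Helper27.PCoreOf
import Cfsg.Agent.Lib.Helper26.KNorm8
import Cfsg.Agent.Lib.Helper26.FusionFully

set_option autoImplicit false
open Cfsg

namespace Cfsg.Agent.S5247

open Cfsg.FusionSystem Cfsg.Agent.Lib.Helper26 Cfsg.Agent.Lib.Helper27

theorem quad_congr {Q Q' : Type*} [Group Q] [Group Q'] (e : Q ≃* Q') (χ : MulAut Q)
    (h : ∀ a : Q, (χ a⁻¹) * a * (χ a⁻¹) * (χ (χ a)) = 1) (b : Q') :
    (MulAut.congr e χ b⁻¹) * b * (MulAut.congr e χ b⁻¹) *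
      (MulAut.congr e χ (MulAut.congr e χ b)) = 1 := by
  have h1 := h (e.symm b)
  have h2 : ∀ y : Q', MulAut.congr e χ y = e (χ (e.symm y)) := fun y => rfl
  rw [h2, h2, h2, MulEquiv.symm_apply_apply]
  have h3 := congrArg e h1
  rw [map_mul, map_mul, map_mul, map_one, MulEquiv.apply_symm_apply, map_inv] at h3
  simp only [map_inv] at h3 ⊢
  exact h3

theorem isCyclic_mulAut_comm {Q : Type*} [Group Q] [IsCyclic Q] (α β : MulAut Q) :
    α * β = β * α := by
  obtain ⟨g, hg⟩ := IsCyclic.exists_generator (α := Q)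
  ext x
  obtain ⟨m, rfl⟩ := Subgroup.mem_zpowers_iff.mp (hg x)
  obtain ⟨i, hi⟩ := Subgroup.mem_zpowers_iff.mp (hg (α g))
  obtain ⟨j, hj⟩ := Subgroup.mem_zpowers_iff.mp (hg (β g))
  simp only [MulAut.mul_apply, map_zpow]
  congr 1
  rw [← hi, ← hj, map_zpow, map_zpow, ← hi, ← hj, ← zpow_mul, ← zpow_mul, mul_comm]

/-- Let p be an odd prime and F a saturated fusion system over a finite p-group S. Call a fusion system E (over any subgroup) p-stable when, for every fully E-normalized subgroup Q and every χ ∈ Aut_E(Q) with χ(a⁻¹)·a·χ(a⁻¹)·χ(χ(a)) = 1 for all a ∈ Q (χ acts quadratically), χ lies in O_p(Aut_E(Q)). Then F is p-stable if and only if every normalizer fusion system N_F(R) of every non-cyclic fully F-normalized subgroup R of S is p-stable. -/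
theorem result {Ω : Type*} [Group Ω] {S : Subgroup Ω} [Finite S] (p : ℕ) [Fact p.Prime] (hS : IsPGroup p S) (F : Cfsg.FusionSystem S) (hF : F.IsSaturated p) (hp : p ≠ 2) : (∀ Q : Subgroup Ω, F.IsFullyNormalized Q → ∀ χ : MulAut ↥Q, χ ∈ F.autGroup Q → (∀ a : ↥Q, (χ a⁻¹) * a * (χ a⁻¹) * (χ (χ a)) = 1) → χ ∈ ((Cfsg.pCore p ↥(F.autGroup Q)).map (F.autGroup Q).subtype : Subgroup (MulAut ↥Q))) ↔ ∀ R : Subgroup Ω, F.IsFullyNormalized R → ¬ IsCyclic ↥R → ∀ N : Cfsg.FusionSystem (Cfsg.FusionSystem.normalizerIn S R), F.IsNormalizerSystem R N → (∀ Q : Subgroup Ω, N.IsFullyNormalized Q → ∀ χ : MulAut ↥Q, χ ∈ N.autGroup Q → (∀ a : ↥Q, (χ a⁻¹) * a * (χ a⁻¹) * (χ (χ a)) = 1) → χ ∈ ((Cfsg.pCore p ↥(N.autGroup Q)).map (N.autGroup Q).subtype : Subgroup (MulAut ↥Q))) := by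
  constructor
  · intro hF1 R hR hRnc N hN Q hQ χ hχ hquad
    have hQT : Q ≤ normalizerIn S R := hQ.1
    have hQS : Q ≤ S := hQT.trans inf_le_left
    have hle : N.autGroup Q ≤ F.autGroup Q := by
      intro α hα
      rw [mem_autGroup_iff N hQT, hN Q] at hα
      rw [mem_autGroup_iff F hQS]
      exact hα.1
    obtain ⟨Q', hconj, hQ'⟩ := exists_fullyNormalized_conj F hQS
    obtain ⟨e, he⟩ := exists_iso_of_isConj F hconj
    have h1 : MulAut.congr e χ ∈ F.autGroup Q' := congr_mem_autGroup he (hle hχ)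
    have h3 := hF1 Q' hQ' _ h1 (quad_congr e χ hquad)
    have h4 : χ ∈ ((Cfsg.pCore p ↥(F.autGroup Q)).map (F.autGroup Q).subtype :
        Subgroup (MulAut ↥Q)) := by
      refine pCoreMap_of_equiv (MulAut.congr e) (fun a => ⟨congr_mem_autGroup he, fun h => ?_⟩) h3
      have h5 := congr_mem_autGroup he.symm h
      have h6 : MulAut.congr e.symm (MulAut.congr e a) = a := by
        ext x
        show ((e.symm (e (a (e.symm (e x)))) : Q) : Ω) = a x
        rw [MulEquiv.symm_apply_apply, MulEquiv.symm_apply_apply]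
      rw [h6] at h5
      exact h5
    exact pCoreMap_inf_le hle ⟨h4, hχ⟩
  · intro hN Q hQ χ hχ hquad
    have hQS : Q ≤ S := hQ.1
    have : Finite Q := finite_of_le hQS
    by_cases hcyc : IsCyclic Q
    · have hQp : IsPGroup p Q := hS.to_le hQS
      obtain ⟨k, hk⟩ := hQp.exists_card_eq
      have hpow : χ ^ (p ^ k) = 1 := by
        rw [← hk]
        exact quad_pow_card_eq_one χ hquad
      refine mem_pCoreMap_of_zpowers hχ (fun a _ => ?_) hpow
      have : a * χ * a⁻¹ = χ := by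
        rw [isCyclic_mulAut_comm a χ, mul_inv_cancel_right]
      rw [this]
      exact Subgroup.mem_zpowers χ
    · have hE := normalizerSystem_isNormalizerSystem F Q hQS
      have hQT : Q ≤ normalizerIn S Q := le_normalizerIn_self hQS
      have hfn : (normalizerSystem F Q hQS).IsFullyNormalized Q := by
        refine ⟨hQT, fun Q' hQ' => ?_⟩
        obtain ⟨φ, hφ, hr⟩ := hQ'
        rw [hE Q] at hφ
        obtain ⟨-, -, -, ψ, -, hψφ, hψQ⟩ := hφ
        have : Q' = Q := by
          rw [← hr]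
          ext y
          have hy : y ∈ Q ↔ y ∈ (Q.subgroupOf (Q ⊔ Q)).map ψ := by rw [hψQ]
          rw [hy, map_subgroupOf_sup_eq]
          constructor
          · rintro ⟨x, rfl⟩
            refine ⟨x, ?_⟩
            rw [← hψφ x]
          · rintro ⟨x, rfl⟩
            refine ⟨x, ?_⟩
            rw [← hψφ x]
        rw [this]
      have hA := normalizerSystem_autGroup_eq F hQS _ hE
      have h1 := hN Q hQ hcyc _ hE Q hfn χ (by rw [hA]; exact hχ) hquad
      rw [hA] at h1
      exact h1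

end Cfsg.Agent.S5247
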