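import Cfsg.Statements.S5249
import Cfsg.Agent.Lib.Helper27.QdSolv
import Cfsg.Agent.Lib.Helper27.FusSolvable2
import Cfsg.Agent.Lib.Helper27.FusFactorSat

set_option autoImplicit false
open Cfsg

namespace Cfsg.Agent.S5249

open Cfsg.FusionSystem Cfsg.Agent.Lib.Helper27 Cfsg.Agent.Lib.Helper26

theorem mem_normalizer_of_conj_mem {G : Type*} [Group G] [Finite G] {R : Subgroup G} {g : G}
    (h : ∀ r ∈ R, g * r * g⁻¹ ∈ R) : g ∈ Subgroup.normalizer (R : Set G) := by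
  rw [Subgroup.mem_normalizer_iff_map_conj_eq]
  have hle : R.map (MulAut.conj g).toMonoidHom ≤ R := by
    rintro _ ⟨r, hr, rfl⟩
    exact h r hr
  refine Subgroup.eq_of_le_of_card_ge hle ?_
  rw [Subgroup.card_map_of_injective (MulAut.conj g).injective]

/-- Let p be an odd prime, G a finite group in which Qd(p) (the natural semidirect product of an elementary abelian group of order p² by SL₂(p)) is not involved, and P a Sylow p-subgroup of G. Then the fusion system of G on P is a solvable fusion system. -/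
theorem result {G : Type*} [Group G] [Finite G] {p : ℕ} [Fact p.Prime] (hp : p ≠ 2) (hqd : ¬ Cfsg.Involves ↥(Cfsg.qd p) G) (P : Sylow p G) : (Cfsg.groupFusionSystem (P : Subgroup G)).IsSolvableSystem := by
  intro R hR hne hnorm E hE
  set S : Subgroup G := (P : Subgroup G) with hS
  set F := Cfsg.groupFusionSystem S with hF
  set θ := QuotientGroup.mk' (R.subgroupOf S) with hθ
  have hPN : S ≤ Subgroup.normalizer (R : Set G) := le_normalizer_of_stronglyClosed F hR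
  have hθeq : ∀ a b : ↥S, (a : G)⁻¹ * (b : G) ∈ R → θ a = θ b := by
    intro a b h
    show (QuotientGroup.mk a : ↥S ⧸ R.subgroupOf S) = QuotientGroup.mk b
    rw [QuotientGroup.eq, Subgroup.mem_subgroupOf]
    exact h
  obtain ⟨Wt, hRW, hWP, hWne, hmain⟩ := QdSolv.group_level hp hqd P R hR.1 hPN hne
  set W := (Wt.subgroupOf S).map θ with hW
  suffices hWn : E.IsNormal W by
    intro hcore
    have hle : W ≤ E.core := le_sSup hWn
    rw [hcore, le_bot_iff] at hle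
    apply hWne
    apply le_antisymm _ hRW
    intro w hw
    have h1 : θ ⟨w, hWP hw⟩ ∈ W := ⟨⟨w, hWP hw⟩, Subgroup.mem_subgroupOf.mpr hw, rfl⟩
    rw [hle, Subgroup.mem_bot] at h1
    exact (hE.2.1 _).mp h1
  refine ⟨le_top, fun P' φ' hφ' => ?_⟩
  obtain ⟨hP'top, φ, hφ, hind⟩ := (hE.2.2.2 P' φ').mp hφ'
  have hRPt : R ≤ preimageAlong θ P' := ker_le_preimageAlong hE P'
  have hφ0 := hφ
  obtain ⟨hPtS, hφS, g, hg⟩ := hφ
  have hgR : g ∈ Subgroup.normalizer (R : Set G) := by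
    apply mem_normalizer_of_conj_mem
    intro r hr
    rw [← hg ⟨r, hRPt hr⟩]
    exact Cfsg.Agent.Lib.Helper27.apply_mem_of_stronglyClosed F hR hφ0 ⟨r, hRPt hr⟩ hr
  obtain ⟨n, hnR, hnW, hny⟩ := hmain (preimageAlong θ P') g hPtS hgR (fun y hy => by
    rw [← hg ⟨y, hy⟩]; exact hφS _)
  have hQS : preimageAlong θ P' ⊔ Wt ≤ S := sup_le hPtS hWP
  have hRQ : R ≤ preimageAlong θ P' ⊔ Wt := hRPt.trans le_sup_left
  have hnPt : ∀ y ∈ preimageAlong θ P', n * y * n⁻¹ ∈ S := by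
    intro y hy
    have h1 := hny y hy
    have h2 : g * y * g⁻¹ ∈ S := by rw [← hg ⟨y, hy⟩]; exact hφS _
    have e : n * y * n⁻¹ = (g * y * g⁻¹) * ((n * y * n⁻¹)⁻¹ * (g * y * g⁻¹))⁻¹ := by group
    rw [e]
    exact S.mul_mem h2 (S.inv_mem (hR.1 h1))
  have hnWt : ∀ w ∈ Wt, n * w * n⁻¹ ∈ Wt := fun w hw =>
    (Subgroup.mem_normalizer_iff.mp hnW w).mp hw
  have hnWt' : ∀ w ∈ Wt, n⁻¹ * w * n ∈ Wt := by
    intro w hw
    have := (Subgroup.mem_normalizer_iff.mp hnW (n⁻¹ * w * n)).mpr (by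
      have e : n * (n⁻¹ * w * n) * n⁻¹ = w := by group
      rw [e]; exact hw)
    exact this
  have hnQ : ∀ x ∈ preimageAlong θ P' ⊔ Wt, n * x * n⁻¹ ∈ S := by
    have hle : preimageAlong θ P' ⊔ Wt ≤ S.comap (MulAut.conj n).toMonoidHom :=
      sup_le (fun y hy => hnPt y hy) (fun w hw => hWP (hnWt w hw))
    exact fun x hx => hle hx
  let ψ : ↥(preimageAlong θ P' ⊔ Wt) →* G :=
    (MulAut.conj n).toMonoidHom.comp (Subgroup.subtype _)
  have hψ : ψ ∈ F.Hom (preimageAlong θ P' ⊔ Wt) := ⟨hQS, fun x => hnQ x x.2, n, fun x => rfl⟩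
  obtain ⟨ψ', hψ', hψ'e⟩ := factor_induce_hom hR hE hQS hRQ hψ
  have himg : ((preimageAlong θ P' ⊔ Wt).subgroupOf S).map θ = P' ⊔ W := by
    rw [Subgroup.subgroupOf_sup hPtS hWP, Subgroup.map_sup, map_preimageAlong hE.2.2.1 hP'top]
  obtain ⟨ψ'', hψ'', hcast⟩ := hom_cast E himg ψ' hψ'
  refine ⟨ψ'', hψ'', ?_, ?_⟩
  · intro x
    obtain ⟨y, hy⟩ := exists_preimage_of_mem_range hE.2.2.1 hP'top x
    obtain ⟨hP, hφS', hmem, hi⟩ := hind
    have hyQ : (y : G) ∈ preimageAlong θ P' ⊔ Wt := (le_sup_left : _ ≤ preimageAlong θ P' ⊔ Wt) y.2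
    have hx1 : θ ⟨y, hQS hyQ⟩ ∈ ((preimageAlong θ P' ⊔ Wt).subgroupOf S).map θ :=
      ⟨⟨y, hQS hyQ⟩, Subgroup.mem_subgroupOf.mpr hyQ, rfl⟩
    have e1 : Subgroup.inclusion (le_sup_left : P' ≤ P' ⊔ W) x =
        ⟨θ ⟨y, hQS hyQ⟩, himg ▸ hx1⟩ := Subtype.ext hy.symm
    rw [e1, hcast _ hx1, hψ'e ⟨y, hyQ⟩ hx1]
    have e2 : x = ⟨θ ⟨y, hP y.2⟩, hmem y⟩ := Subtype.ext hy.symm
    rw [e2, hi y]
    apply hθeq
    show (n * (y : G) * n⁻¹)⁻¹ * φ y ∈ R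
    rw [hg y]
    exact hny y y.2
  · ext z
    constructor
    · rintro ⟨x, hx, rfl⟩
      have hxW : (x : ↥S ⧸ R.subgroupOf S) ∈ W := Subgroup.mem_subgroupOf.mp hx
      obtain ⟨s, hs, hsx⟩ := hxW
      have hsW : (s : G) ∈ Wt := Subgroup.mem_subgroupOf.mp hs
      have hsQ : (s : G) ∈ preimageAlong θ P' ⊔ Wt := (le_sup_right : Wt ≤ _) hsW
      have hx1 : θ ⟨s, hQS hsQ⟩ ∈ ((preimageAlong θ P' ⊔ Wt).subgroupOf S).map θ :=
        ⟨⟨s, hQS hsQ⟩, Subgroup.mem_subgroupOf.mpr hsQ, rfl⟩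
      have e1 : x = ⟨θ ⟨s, hQS hsQ⟩, himg ▸ hx1⟩ := Subtype.ext hsx.symm
      rw [e1, hcast _ hx1, hψ'e ⟨s, hsQ⟩ hx1]
      exact ⟨⟨n * (s : G) * n⁻¹, hWP (hnWt _ hsW)⟩, Subgroup.mem_subgroupOf.mpr (hnWt _ hsW), rfl⟩
    · rintro ⟨s, hs, rfl⟩
      have hsW : (s : G) ∈ Wt := Subgroup.mem_subgroupOf.mp hs
      have htW : n⁻¹ * (s : G) * n ∈ Wt := hnWt' _ hsW
      have htQ : n⁻¹ * (s : G) * n ∈ preimageAlong θ P' ⊔ Wt := (le_sup_right : Wt ≤ _) htW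
      have hx1 : θ ⟨n⁻¹ * (s : G) * n, hQS htQ⟩ ∈
          ((preimageAlong θ P' ⊔ Wt).subgroupOf S).map θ :=
        ⟨⟨_, hQS htQ⟩, Subgroup.mem_subgroupOf.mpr htQ, rfl⟩
      have hxW : θ ⟨n⁻¹ * (s : G) * n, hQS htQ⟩ ∈ W :=
        ⟨⟨_, hQS htQ⟩, Subgroup.mem_subgroupOf.mpr htW, rfl⟩
      refine ⟨⟨θ ⟨n⁻¹ * (s : G) * n, hQS htQ⟩, himg ▸ hx1⟩, Subgroup.mem_subgroupOf.mpr hxW, ?_⟩
      rw [hcast _ hx1, hψ'e ⟨_, htQ⟩ hx1]
      congr 1
      apply Subtype.ext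
      show n * (n⁻¹ * (s : G) * n) * n⁻¹ = s
      group

end Cfsg.Agent.S5249
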