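import Cfsg.Statements.S5251
import Cfsg.Agent.Lib.Helper27.ChainCore
import Cfsg.Agent.Lib.Helper27.PCoreOf
import Cfsg.Agent.Lib.Helper26.FusionFully
import Cfsg.Agent.Lib.Helper26.FusionSat3

set_option autoImplicit false
open Cfsg

namespace Cfsg.Agent.S5251

open Cfsg.FusionSystem Cfsg.Agent.Lib.Helper26 Cfsg.Agent.Lib.Helper27

variable {Ω : Type*} [Group Ω] {S : Subgroup Ω}

/-- a map of `F` reflects membership in a strongly closed subgroup -/
theorem mem_of_apply_mem (F : FusionSystem S) {T : Subgroup Ω} (hT : F.StronglyClosed T)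
    {R : Subgroup Ω} {φ : R →* Ω} (hφ : φ ∈ F.Hom R) {x : R} (hx : φ x ∈ T) : (x : Ω) ∈ T := by
  obtain ⟨ψ, hψ, hinv⟩ := F.inv_mem hφ
  have h1 := hT.2 (φ.range ⊓ T) inf_le_right _ (restrict_mem F hψ inf_le_left)
    ⟨φ x, ⟨x, rfl⟩, hx⟩
  have h2 : (ψ.comp (Subgroup.inclusion (inf_le_left : φ.range ⊓ T ≤ φ.range)))
      ⟨φ x, ⟨x, rfl⟩, hx⟩ = ψ ⟨φ x, ⟨x, rfl⟩⟩ := rfl
  rw [h2, hinv x] at h1
  exact h1

theorem apply_mem_of_mem (F : FusionSystem S) {T : Subgroup Ω} (hT : F.StronglyClosed T)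
    {R : Subgroup Ω} {φ : R →* Ω} (hφ : φ ∈ F.Hom R) {x : R} (hx : (x : Ω) ∈ T) : φ x ∈ T := by
  have h1 := hT.2 (R ⊓ T) inf_le_right _ (restrict_mem F hφ inf_le_left) ⟨x, x.2, hx⟩
  exact h1

/-- Let F be a saturated fusion system over a finite p-group S, E a normal subsystem of F over T, and P an F-centric subgroup of S such that P ∩ T is not E-centric. Then some F-conjugate P* of P satisfies Out_S(P*) ∩ O_p(Out_F(P*)) ≠ 1: there is an element of N_S(P*) outside P* whose conjugation action on P* lies in O_p(Aut_F(P*)). In particular P is not both centric and radical in F. -/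
theorem result {Ω : Type*} [Group Ω] {S : Subgroup Ω} [Finite S] (p : ℕ) [Fact p.Prime] (hS : IsPGroup p S) (F : Cfsg.FusionSystem S) (hF : F.IsSaturated p) {T : Subgroup Ω} (E : Cfsg.FusionSystem T) (hE : E.IsNormalIn F p) (P : Subgroup Ω) (hP : F.IsCentric P) (hPT : ¬ E.IsCentric (P ⊓ T)) : (∃ φ ∈ F.Hom P, ∃ x ∈ S ⊓ Subgroup.normalizer (φ.range : Set Ω), x ∉ φ.range ∧ ∃ α ∈ ((Cfsg.pCore p ↥(F.autGroup φ.range)).map (F.autGroup φ.range).subtype : Subgroup (MulAut ↥φ.range)), ∀ y : ↥φ.range, ((α y : ↥φ.range) : Ω) = x * (y : Ω) * x⁻¹) ∧ ¬ F.IsRadical p P := by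
  obtain ⟨⟨-, -, hsub, hT, -, -⟩, -⟩ := hE
  have hTS : T ≤ S := hT.1
  have hPS : P ≤ S := hP.1
  have hTn : S ≤ Subgroup.normalizer (T : Set Ω) := le_normalizer_of_stronglyClosed F hT
  -- Step 1: an E-conjugate of P ⊓ T with large centralizer
  obtain ⟨U', hUU'E, hU'c⟩ : ∃ U', E.IsConj (P ⊓ T) U' ∧ ¬ centralizerIn T U' ≤ U' := by
    by_contra hcon
    push Not at hcon
    exact hPT ⟨inf_le_right, hcon⟩
  have hUU' : F.IsConj (P ⊓ T) U' := by
    obtain ⟨ψ, hψ, hr⟩ := hUU'E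
    exact ⟨ψ, hsub _ hψ, hr⟩
  have hU'S : U' ≤ S := isConj_le_right F hUU'
  obtain ⟨V, hU'V, hVfn⟩ := exists_fullyNormalized_conj F hU'S
  obtain ⟨-, hVa, hVr⟩ := saturated_fullyNormalized hS F hF hVfn
  have hVS : V ≤ S := hVfn.1
  obtain ⟨χ, hχ, -, hχU'⟩ := exists_normalizer_hom hS F hVa hVr hU'V
  -- Step 4: the centralizer of V in T is not inside V
  obtain ⟨c', hc'C, hc'U⟩ := SetLike.not_le_iff_exists.mp hU'c
  have hc'N : c' ∈ normalizerIn S U' :=
    ⟨hTS hc'C.1, Subgroup.centralizer_le_normalizer _ hc'C.2⟩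
  have hU'N : U' ≤ normalizerIn S U' := le_normalizerIn_self hU'S
  have hVχ : ∀ v ∈ V, ∃ u : Ω, ∃ hu : u ∈ U', χ ⟨u, hU'N hu⟩ = v := by
    intro v hv
    rw [← hχU'] at hv
    obtain ⟨y, hy, rfl⟩ := hv
    exact ⟨y, Subgroup.mem_subgroupOf.mp hy, rfl⟩
  have hcV : ¬ centralizerIn T V ≤ V := by
    intro hle
    have hcT : χ ⟨c', hc'N⟩ ∈ T := apply_mem_of_mem F hT hχ hc'C.1
    have hcC : χ ⟨c', hc'N⟩ ∈ Subgroup.centralizer (V : Set Ω) := by
      rw [Subgroup.mem_centralizer_iff]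
      intro v hv
      obtain ⟨u, hu, rfl⟩ := hVχ v hv
      rw [← map_mul, ← map_mul]
      congr 1
      apply Subtype.ext
      exact (Subgroup.mem_centralizer_iff.mp hc'C.2) u hu
    obtain ⟨u, hu, hu'⟩ := hVχ _ (hle ⟨hcT, hcC⟩)
    have := F.injective_of_mem hχ hu'
    apply hc'U
    have h2 := congrArg Subtype.val this
    simp only at h2
    rw [← h2]
    exact hu
  -- Step 5: move P
  have hUV : F.IsConj (P ⊓ T) V := isConj_trans F hUU' hU'V
  obtain ⟨θ, hθ, -, hθU⟩ := exists_normalizer_hom hS F hVa hVr hUV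
  have hPN : P ≤ normalizerIn S (P ⊓ T) := by
    intro g hg
    refine ⟨hPS hg, ?_⟩
    show g ∈ Subgroup.normalizer ((P ⊓ T : Subgroup Ω) : Set Ω)
    rw [Subgroup.mem_normalizer_iff]
    intro h
    have hgT := hTn (hPS hg)
    rw [Subgroup.mem_normalizer_iff] at hgT
    constructor
    · rintro ⟨h1, h2⟩
      exact ⟨P.mul_mem (P.mul_mem hg h1) (P.inv_mem hg), (hgT h).mp h2⟩
    · rintro ⟨h1, h2⟩
      refine ⟨?_, (hgT h).mpr h2⟩
      have : h = g⁻¹ * (g * h * g⁻¹) * g := by group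
      rw [this]
      exact P.mul_mem (P.mul_mem (P.inv_mem hg) h1) hg
  have hφ : θ.comp (Subgroup.inclusion hPN) ∈ F.Hom P := restrict_mem F hθ hPN
  set φ : P →* Ω := θ.comp (Subgroup.inclusion hPN) with hφdef
  have hconj : F.IsConj P φ.range := ⟨φ, hφ, rfl⟩
  have hRS : φ.range ≤ S := isConj_le_right F hconj
  -- Step 7: φ.range ⊓ T = V
  have hVT : V ≤ T := by
    intro v hv
    rw [← hθU] at hv
    obtain ⟨y, hy, rfl⟩ := hv
    exact apply_mem_of_mem F hT hθ (Subgroup.mem_subgroupOf.mp hy).2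
  have hRT : φ.range ⊓ T = V := by
    apply le_antisymm
    · rintro y ⟨⟨x, rfl⟩, hyT⟩
      have hxT : (x : Ω) ∈ T := mem_of_apply_mem F hT hφ hyT
      rw [← hθU]
      exact ⟨Subgroup.inclusion hPN x, Subgroup.mem_subgroupOf.mpr ⟨x.2, hxT⟩, rfl⟩
    · intro v hv
      refine ⟨?_, hVT hv⟩
      rw [← hθU] at hv
      obtain ⟨y, hy, rfl⟩ := hv
      exact ⟨⟨y, (Subgroup.mem_subgroupOf.mp hy).1⟩, rfl⟩
  -- Step 8: an element of the centralizer normalizing φ.range
  have hRnV : φ.range ≤ Subgroup.normalizer (V : Set Ω) := by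
    intro g hg
    rw [Subgroup.mem_normalizer_iff]
    intro h
    have hgT := hTn (hRS hg)
    rw [Subgroup.mem_normalizer_iff] at hgT
    rw [← hRT]
    constructor
    · rintro ⟨h1, h2⟩
      exact ⟨Subgroup.mul_mem _ (Subgroup.mul_mem _ hg h1) (Subgroup.inv_mem _ hg), (hgT h).mp h2⟩
    · rintro ⟨h1, h2⟩
      refine ⟨?_, (hgT h).mpr h2⟩
      have : h = g⁻¹ * (g * h * g⁻¹) * g := by group
      rw [this]
      exact Subgroup.mul_mem _ (Subgroup.mul_mem _ (Subgroup.inv_mem _ hg) h1) hg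
  have hRnC : φ.range ≤ Subgroup.normalizer ((centralizerIn T V : Subgroup Ω) : Set Ω) := by
    intro g hg
    have hgT := hTn (hRS hg)
    have hgV := hRnV hg
    rw [Subgroup.mem_normalizer_iff] at hgT hgV ⊢
    have key : ∀ (k : Ω), (∀ v, v ∈ V ↔ k * v * k⁻¹ ∈ V) → ∀ h,
        h ∈ Subgroup.centralizer (V : Set Ω) → k * h * k⁻¹ ∈ Subgroup.centralizer (V : Set Ω) := by
      intro k hk h hh
      rw [Subgroup.mem_centralizer_iff] at hh ⊢
      intro v hv
      have hv' : k⁻¹ * v * k ∈ V := by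
        have := (hk (k⁻¹ * v * k)).mpr (by
          have : k * (k⁻¹ * v * k) * k⁻¹ = v := by group
          rw [this]; exact hv)
        exact this
      have h1 := hh _ hv'
      calc v * (k * h * k⁻¹) = k * ((k⁻¹ * v * k) * h) * k⁻¹ := by group
        _ = k * (h * (k⁻¹ * v * k)) * k⁻¹ := by rw [h1]
        _ = k * h * k⁻¹ * v := by group
    intro h
    constructor
    · rintro ⟨h1, h2⟩
      exact ⟨(hgT h).mp h1, key g hgV h h2⟩
    · rintro ⟨h1, h2⟩
      refine ⟨(hgT h).mpr h1, ?_⟩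
      have hgV' : ∀ v, v ∈ V ↔ g⁻¹ * v * g⁻¹⁻¹ ∈ V := by
        intro v
        rw [inv_inv]
        constructor
        · intro hv
          have : g * (g⁻¹ * v * g) * g⁻¹ = v := by group
          exact (hgV _).mpr (by rw [this]; exact hv)
        · intro hv
          have : v = g * (g⁻¹ * v * g) * g⁻¹ := by group
          rw [this]
          exact (hgV _).mp hv
      have := key g⁻¹ hgV' _ h2
      have e : g⁻¹ * (g * h * g⁻¹) * g⁻¹⁻¹ = h := by group
      rw [e] at this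
      exact this
  have hCS : centralizerIn T V ≤ S := inf_le_left.trans hTS
  have hLS : φ.range ⊔ centralizerIn T V ≤ S := sup_le hRS hCS
  haveI : Finite ↥(φ.range ⊔ centralizerIn T V) := finite_of_le hLS
  have hne : φ.range ≠ φ.range ⊔ centralizerIn T V := by
    intro h
    apply hcV
    intro z hz
    have : z ∈ φ.range := by rw [h]; exact (le_sup_right : centralizerIn T V ≤ _) hz
    rw [← hRT]
    exact ⟨this, hz.1⟩
  obtain ⟨x, hxL, hxR, hxN⟩ := exists_normalizing_of_lt (hS.to_le hLS) le_sup_left hne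
  have hxL' : x ∈ ((φ.range ⊔ centralizerIn T V : Subgroup Ω) : Set Ω) := hxL
  rw [Subgroup.coe_mul_of_left_le_normalizer_right _ _ hRnC] at hxL'
  obtain ⟨a, ha, c, hc, rfl⟩ := Set.mem_mul.mp hxL'
  have hcN : c ∈ Subgroup.normalizer (φ.range : Set Ω) := by
    have := Subgroup.mul_mem _ (Subgroup.inv_mem _ (Subgroup.le_normalizer (H := φ.range) ha)) hxN
    rwa [inv_mul_cancel_left] at this
  have hcR : c ∉ φ.range := fun h => hxR (Subgroup.mul_mem _ ha h)
  have hcS : c ∈ S := hCS hc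
  -- Step 9: the chain argument
  have hVinv : AutInvariant (F.autGroup φ.range) V := by
    intro α hα y hy
    rw [← hRT] at hy ⊢
    exact ⟨(α y).2, autInvariant_of_stronglyClosed F hT hRS α hα y hy.2⟩
  have hcT : c ∈ T := hc.1
  have hmem := conjAut_mem_pCoreMap_of_chain (p := p) hS F hRS hVS hVinv hcS hcN hc.2
    (fun y hy => by
      rw [← hRT]
      refine ⟨Subgroup.mul_mem _ (Subgroup.inv_mem _ hy) ((Subgroup.mem_normalizer_iff.mp hcN y).mp hy), ?_⟩
      have h1 : y⁻¹ * c * y⁻¹⁻¹ ∈ T :=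
        (Subgroup.mem_normalizer_iff.mp (hTn (S.inv_mem (hRS hy))) c).mp hcT
      have e : y⁻¹ * (c * y * c⁻¹) = (y⁻¹ * c * y⁻¹⁻¹) * c⁻¹ := by group
      rw [e]
      exact T.mul_mem h1 (T.inv_mem hcT))
    (fun y hy => by
      rw [← hRT]
      refine ⟨Subgroup.mul_mem _ (Subgroup.inv_mem _ hy)
        ((Subgroup.mem_normalizer_iff''.mp hcN y).mp hy), ?_⟩
      have h1 : y⁻¹ * c⁻¹ * y⁻¹⁻¹ ∈ T :=
        (Subgroup.mem_normalizer_iff.mp (hTn (S.inv_mem (hRS hy))) c⁻¹).mp (T.inv_mem hcT)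
      have e : y⁻¹ * (c⁻¹ * y * c) = (y⁻¹ * c⁻¹ * y⁻¹⁻¹) * c := by group
      rw [e]
      exact T.mul_mem h1 hcT)
  refine ⟨⟨φ, hφ, c, ⟨hcS, hcN⟩, hcR, conjAut φ.range c hcN, hmem, fun y => rfl⟩, ?_⟩
  -- Step 11: P is not radical
  intro hrad
  obtain ⟨e, he⟩ := exists_iso_of_isConj F hconj
  have hx : MulAut.congr e (MulAut.congr e.symm (conjAut φ.range c hcN)) =
      conjAut φ.range c hcN := by
    ext y
    show ((e (e.symm ((conjAut φ.range c hcN) (e (e.symm y)))) : φ.range) : Ω) = _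
    rw [MulEquiv.apply_symm_apply, MulEquiv.apply_symm_apply]
  have h1 : MulAut.congr e.symm (conjAut φ.range c hcN) ∈
      ((Cfsg.pCore p ↥(F.autGroup P)).map (F.autGroup P).subtype : Subgroup (MulAut ↥P)) := by
    refine pCoreMap_of_equiv (MulAut.congr e)
      (fun a => ⟨congr_mem_autGroup he, fun h => ?_⟩) (by rw [hx]; exact hmem)
    have h5 := congr_mem_autGroup he.symm h
    have h6 : MulAut.congr e.symm (MulAut.congr e a) = a := by
      ext y
      show ((e.symm (e (a (e.symm (e y)))) : P) : Ω) = a y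
      rw [MulEquiv.symm_apply_apply, MulEquiv.symm_apply_apply]
    rw [h6] at h5
    exact h5
  rw [hrad.2] at h1
  obtain ⟨s, hs⟩ := h1
  -- conjugation by c on φ.range equals conjugation by e s
  have h2 : ∀ y : φ.range, c * (y : Ω) * c⁻¹ = ((e s : φ.range) : Ω) * y * ((e s : φ.range) : Ω)⁻¹ := by
    intro y
    have h3 : conjAut φ.range c hcN = MulAut.congr e (MulAut.conj s) := by
      rw [hs, hx]
    have h4 : ((conjAut φ.range c hcN y : φ.range) : Ω) =
        ((MulAut.congr e (MulAut.conj s) y : φ.range) : Ω) := by rw [h3]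
    rw [conjAut_apply] at h4
    rw [h4]
    show ((e (MulAut.conj s (e.symm y)) : φ.range) : Ω) = _
    rw [MulAut.conj_apply, map_mul, map_mul, map_inv, MulEquiv.apply_symm_apply]
    rfl
  have h5 : ((e s : φ.range) : Ω)⁻¹ * c ∈ centralizerIn S φ.range := by
    refine ⟨S.mul_mem (S.inv_mem (hRS (e s).2)) hcS, ?_⟩
    show _ ∈ Subgroup.centralizer ((φ.range : Subgroup Ω) : Set Ω)
    rw [Subgroup.mem_centralizer_iff]
    intro y hy
    have := h2 ⟨y, hy⟩
    calc y * (((e s : φ.range) : Ω)⁻¹ * c)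
        = ((e s : φ.range) : Ω)⁻¹ * (((e s : φ.range) : Ω) * y * ((e s : φ.range) : Ω)⁻¹) * c := by
          group
      _ = ((e s : φ.range) : Ω)⁻¹ * (c * y * c⁻¹) * c := by rw [this]
      _ = ((e s : φ.range) : Ω)⁻¹ * c * y := by group
  have h6 := hP.2 φ.range hconj h5
  apply hcR
  have : c = ((e s : φ.range) : Ω) * (((e s : φ.range) : Ω)⁻¹ * c) := by group
  rw [this]
  exact Subgroup.mul_mem _ (e s).2 h6

end Cfsg.Agent.S5251
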