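import Cfsg.Statements.S5253
import Cfsg.Agent.Lib.helper17.CW5
import Cfsg.Agent.Lib.helper17.CW6
-- import your own Cfsg.Agent.* helpers here

set_option autoImplicit false
universe u
open Cfsg

namespace Cfsg.Agent.S5253

open Cfsg.FusionSystem Cfsg.Agent.Lib.Helper26 Cfsg.Agent.Lib.Helper27 Cfsg.Agent.Lib.helper17.CW

/-- Let p be a prime and W a positive characteristic p-functor with Z(Q) ≤ W(Q): W assigns to every finite p-group Q (in a fixed universe) a subgroup W(Q), nontrivial when Q is, carried to W(R) by every isomorphism Q ≅ R, and containing the centre of Q. Suppose that for every finite group G with Sylow p-subgroup P in which W(P) is not normal there is g ∈ P outside O_p(G) with [Z(O_p(G)), g, g] = 1. Then for every saturated fusion system F over a finite p-group S and every normalizer fusion system N of W(S) in F, every p-th power of an element of Z(S) that lies in the centre of N lies in the centre of F. -/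
theorem result {p : ℕ} [Fact p.Prime] (W : ∀ (Q : Type u) [Group Q], Subgroup Q) (hW1 : ∀ (Q : Type u) [Group Q] [Finite Q], IsPGroup p Q → Nontrivial Q → W Q ≠ ⊥) (hW2 : ∀ (Q R : Type u) [Group Q] [Group R] [Finite Q], IsPGroup p Q → ∀ φ : Q ≃* R, (W Q).map φ.toMonoidHom = W R) (hWZ : ∀ (Q : Type u) [Group Q] [Finite Q], IsPGroup p Q → Subgroup.center Q ≤ W Q) (hq : ∀ (G : Type u) [Group G] [Finite G] (P : Sylow p G), ¬ (((W ↥(P : Subgroup G)).map (P : Subgroup G).subtype : Subgroup G)).Normal → ∃ g : G, g ∈ (P : Subgroup G) ∧ g ∉ Cfsg.pCore p G ∧ ⁅⁅Subgroup.center ↥(Cfsg.pCore p G) |>.map (Cfsg.pCore p G).subtype, Subgroup.zpowers g⁆, Subgroup.zpowers g⁆ = ⊥) {Ω : Type u} [Group Ω] {S : Subgroup Ω} [Finite S] (hS : IsPGroup p S) (F : Cfsg.FusionSystem S) (hF : F.IsSaturated p) (N : Cfsg.FusionSystem (Cfsg.FusionSystem.normalizerIn S ((W ↥S).map S.subtype))) (hN : F.IsNormalizerSystem ((W ↥S).map S.subtype) N) : Subgroup.closure ((fun z => z ^ p)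 '' ((S ⊓ Subgroup.centralizer (S : Set Ω) : Subgroup Ω) : Set Ω)) ⊓ N.center ≤ F.center := by
  let 𝒲 : PFun.{u} p := PFun.ofW W hW2 hWZ
  have hL : LocalHyp p p 𝒲 := localHyp_of_quadratic 𝒲 (fun G _ _ P hn => hq G P hn)
  have hSV : S ≤ Subgroup.normalizer (((W ↥S).map S.subtype : Subgroup Ω) : Set Ω) :=
    Subgroup.le_normalizer.trans (𝒲.normalizer_le S hS)
  have : Finite ↥(normalizerIn S ((W ↥S).map S.subtype)) := finite_of_le (normalizerIn_le _ _)
  rintro z ⟨hzcl, hzN⟩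
  -- `z` is a `p`-th power of an element of `Z(S)`
  have hpow : ∃ y ∈ (S ⊓ Subgroup.centralizer (S : Set Ω) : Subgroup Ω), z = y ^ p := by
    refine Subgroup.closure_induction (p := fun x _ =>
      ∃ y ∈ (S ⊓ Subgroup.centralizer (S : Set Ω) : Subgroup Ω), x = y ^ p) ?_ ?_ ?_ ?_ hzcl
    · rintro x ⟨y, hy, rfl⟩
      exact ⟨y, hy, rfl⟩
    · exact ⟨1, Subgroup.one_mem _, (one_pow p).symm⟩
    · rintro a b _ _ ⟨y₁, hy₁, rfl⟩ ⟨y₂, hy₂, rfl⟩
      refine ⟨y₁ * y₂, Subgroup.mul_mem _ hy₁ hy₂, ?_⟩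
      have hc : Commute y₁ y₂ := ((Subgroup.mem_centralizer_iff.mp hy₂.2) y₁ hy₁.1)
      exact (hc.mul_pow p).symm
    · rintro a _ ⟨y, hy, rfl⟩
      exact ⟨y⁻¹, Subgroup.inv_mem _ hy, (inv_pow y p).symm⟩
  obtain ⟨y, hy, rfl⟩ := hpow
  have hyS : y ∈ S := hy.1
  have hyc : ∀ s ∈ S, s * y = y * s := fun s hs => (Subgroup.mem_centralizer_iff.mp hy.2) s hs
  have hfixN : Fixes N (y ^ p) := fixes_of_mem_center N hzN
  have hfix : FixOn F (𝒲.W S) (y ^ p) := FixOn.of_fixes_normalizerSystem F N hN hfixN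
  have hall := main 𝒲 hL (Nat.card S + 1) S (Nat.lt_succ_self _) hS F hF y hyS hyc hfix
  exact mem_center_of_forall_centralizerHom F (S.pow_mem hyS p) hall

end Cfsg.Agent.S5253
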