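import Cfsg.Statements.S5254
import Cfsg.Agent.Lib.Helper27.AiFus

set_option autoImplicit false
open Cfsg

namespace Cfsg.Agent.S5254

open Cfsg.FusionSystem Cfsg.Agent.Lib.Helper26 Cfsg.Agent.Lib.Helper27.XsFus
  Cfsg.Agent.Lib.Helper27.AiGroup Cfsg.Agent.Lib.Helper27.AiFus

theorem mkHyp {Ω : Type*} [Group Ω] {S : Subgroup Ω} (p : ℕ) (hna : ¬ IsMulCommutative ↥S)
    (A : Subgroup Ω) (hA : A ≤ S ∧ IsMulCommutative ↥A ∧ (A.subgroupOf S).index = p) :
    Hyp p S A := by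
  refine ⟨hA.1, ?_, hA.2.2, ?_⟩
  · intro a ha b hb
    exact congrArg Subtype.val (hA.2.1.is_comm.comm ⟨a, ha⟩ ⟨b, hb⟩)
  · by_contra hcon
    push Not at hcon
    exact hna ⟨⟨fun a b => Subtype.ext (hcon a a.2 b b.2)⟩⟩

theorem main {Ω : Type*} [Group Ω] {S : Subgroup Ω} [Finite S] (p : ℕ) [Fact p.Prime]
    (hS : IsPGroup p S) (F : Cfsg.FusionSystem S) (hF : F.IsSaturated p) (A : Subgroup Ω)
    (H : Hyp p S A) (P : Subgroup Ω) (hP : F.IsEssential p P) :
    (P = A ∨ (∃ x ∈ S, x ∉ A ∧ P = ZS S ⊔ Subgroup.zpowers x) ∨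
      (Z2S S ≤ A ∧ ∃ x ∈ S, x ∉ A ∧ P = Z2S S ⊔ Subgroup.zpowers x)) ∧
    (P.subgroupOf (normalizerIn S P)).index = p := by
  by_cases hPA : P ≤ A
  · have hPeq : P = A := by
      apply le_antisymm hPA
      intro a ha
      apply hP.1.2 P (isConj_refl F hP.1.1)
      exact ⟨H.hAS ha, Subgroup.mem_centralizer_iff.mpr (fun y hy => H.hab y (hPA hy) a ha)⟩
    refine ⟨Or.inl hPeq, ?_⟩
    subst hPeq
    have hN : normalizerIn S P = S := by
      apply le_antisymm inf_le_left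
      intro s hs
      refine ⟨hs, mem_normalizer_of_forall (H.normal hS s hs) (fun y hy => ?_)⟩
      have := H.normal hS s⁻¹ (S.inv_mem hs) y hy
      rwa [inv_inv] at this
    rw [hN]
    exact H.hidx
  · obtain ⟨x, hxP, hxA⟩ : ∃ x ∈ P, x ∉ A := by
      by_contra hcon
      push Not at hcon
      exact hPA hcon
    have c : Ctx p S A F P x := ⟨H, hS, hF, hP, hxP, hxA⟩
    by_cases hab : ∀ a ∈ P, ∀ b ∈ P, a * b = b * a
    · exact ⟨Or.inr (Or.inl ⟨x, c.hxS, hxA, c.eq_sup_of_abelian hab⟩), c.index_of_abelian hab⟩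
    · exact ⟨Or.inr (Or.inr ⟨c.Z2S_le_A hab, x, c.hxS, hxA, c.eq_sup_of_nonabelian hab⟩),
        c.index_of_nonabelian hab⟩

/-- Let p be an odd prime, S a finite nonabelian p-group with a unique abelian subgroup A of index p, and F a saturated fusion system over S. Then every F-essential subgroup P is A, or Z(S)⟨x⟩ for some x ∈ S outside A, or (when the second centre Z₂(S) lies in A) Z₂(S)⟨x⟩ for some x ∈ S outside A; and P has index p in its normalizer in S. -/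
theorem result {Ω : Type*} [Group Ω] {S : Subgroup Ω} [Finite S] (p : ℕ) [Fact p.Prime] (hS : IsPGroup p S) (F : Cfsg.FusionSystem S) (hF : F.IsSaturated p) (hp : p ≠ 2) (hna : ¬ IsMulCommutative ↥S) (A : Subgroup Ω) (hA : A ≤ S ∧ IsMulCommutative ↥A ∧ (A.subgroupOf S).index = p) (huniq : ∀ B : Subgroup Ω, B ≤ S → IsMulCommutative ↥B → (B.subgroupOf S).index = p → B = A) (P : Subgroup Ω) (hP : F.IsEssential p P) : (P = A ∨ (∃ x ∈ S, x ∉ A ∧ P = (S ⊓ Subgroup.centralizer (S : Set Ω)) ⊔ Subgroup.zpowers x) ∨ (((upperCentralSeries ↥S 2).map S.subtype) ≤ A ∧ ∃ x ∈ S, x ∉ A ∧ P = ((upperCentralSeries ↥S 2).map S.subtype) ⊔ Subgroup.zpowers x)) ∧ (P.subgroupOf (S ⊓ Subgroup.normalizer (P : Set Ω))).index = p := by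
  have H := mkHyp p hna A hA
  have h := main p hS F hF A H P hP
  rw [inf_centralizer_eq_ZS]
  exact h

end Cfsg.Agent.S5254
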