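import Cfsg.Statements.S5255
import Cfsg.Agent.Lib.Helper27.FusLift

set_option autoImplicit false
open Cfsg

namespace Cfsg.Agent.S5255

open Cfsg.FusionSystem Cfsg.Agent.Lib.Helper26 Cfsg.Agent.Lib.Helper27

/-- Let F be a saturated fusion system over a finite p-group S and T a subgroup of S strongly closed in F. Then T·C_S(T) is strongly closed in F. -/
theorem result {Ω : Type*} [Group Ω] {S : Subgroup Ω} [Finite S] (p : ℕ) [Fact p.Prime] (hS : IsPGroup p S) (F : Cfsg.FusionSystem S) (hF : F.IsSaturated p) (T : Subgroup Ω) (hT : F.StronglyClosed T) : F.StronglyClosed (T ⊔ Cfsg.FusionSystem.centralizerIn S T) := by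
  have hCS : centralizerIn S T ≤ S := inf_le_left
  have hSn := le_normalizer_of_stronglyClosed F hT
  refine ⟨sup_le hT.1 hCS, fun R hR φ hφ x => ?_⟩
  obtain ⟨ψ, hψ, hψe⟩ := exists_lift hS F hF hT R φ hφ
  have hx : (x : Ω) ∈ centralizerIn S T ⊔ T := by
    rw [sup_comm]
    exact hR x.2
  obtain ⟨c, hc, t, ht, hxct⟩ := exists_mul_of_mem_sup (hCS.trans hSn) hx
  have hcRT : c ∈ R ⊔ T := by
    have e : c = (x : Ω) * t⁻¹ := by rw [hxct]; group
    rw [e]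
    exact Subgroup.mul_mem _ ((le_sup_left : R ≤ R ⊔ T) x.2)
      ((le_sup_right : T ≤ R ⊔ T) (T.inv_mem ht))
  have hx' : Subgroup.inclusion (le_sup_left : R ≤ R ⊔ T) x =
      (⟨c, hcRT⟩ : ↥(R ⊔ T)) * Subgroup.inclusion (le_sup_right : T ≤ R ⊔ T) ⟨t, ht⟩ :=
    Subtype.ext hxct
  have hψt : ψ (Subgroup.inclusion (le_sup_right : T ≤ R ⊔ T) ⟨t, ht⟩) ∈ T :=
    apply_mem_of_stronglyClosed F hT hψ _ ht
  have hψc : ψ ⟨c, hcRT⟩ ∈ centralizerIn S T := by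
    refine ⟨apply_mem F hψ _, ?_⟩
    intro t' ht'
    obtain ⟨y, hyT, hy⟩ := exists_preimage_of_stronglyClosed F hT le_sup_right hψ ht'
    have hcomm : (⟨c, hcRT⟩ : ↥(R ⊔ T)) * y = y * ⟨c, hcRT⟩ := by
      apply Subtype.ext
      show c * (y : Ω) = (y : Ω) * c
      exact (hc.2 (y : Ω) hyT).symm
    rw [← hy, ← map_mul, ← map_mul, hcomm]
  have h1 := hψe x
  rw [hx', map_mul] at h1
  have e : φ x = (ψ ⟨c, hcRT⟩ * ψ (Subgroup.inclusion (le_sup_right : T ≤ R ⊔ T) ⟨t, ht⟩)) *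
      ((φ x)⁻¹ * (ψ ⟨c, hcRT⟩ * ψ (Subgroup.inclusion (le_sup_right : T ≤ R ⊔ T) ⟨t, ht⟩)))⁻¹ := by
    group
  rw [e]
  refine Subgroup.mul_mem _ (Subgroup.mul_mem _ ?_ ?_) ?_
  · exact (le_sup_right : centralizerIn S T ≤ T ⊔ centralizerIn S T) hψc
  · exact (le_sup_left : T ≤ T ⊔ centralizerIn S T) hψt
  · exact (le_sup_left : T ≤ T ⊔ centralizerIn S T) (T.inv_mem h1)

end Cfsg.Agent.S5255
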