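import Cfsg.Statements.S5265
import Cfsg.Agent.Lib.Helper27.XsTwo

set_option autoImplicit false
open Cfsg

namespace Cfsg.Agent.S5265

/-- Let p be a prime, S a nontrivial finite p-group whose centre has index at most p², and F a saturated fusion system over S with no nontrivial normal subgroup and with hyperfocal subgroup equal to S. Then S is extraspecial of order p³; for odd p it has exponent p, and for p = 2 it is dihedral of order 8. -/
theorem result {Ω : Type*} [Group Ω] {S : Subgroup Ω} [Finite S] (p : ℕ) [Fact p.Prime] (hS : IsPGroup p ↥S) (F : Cfsg.FusionSystem S) (hF : F.IsSaturated p) (hS1 : S ≠ ⊥) (hcore : F.core = ⊥) (hhyp : F.hyperfocalSubgroup p = S) (hZ : (Subgroup.center ↥S).index ≤ p ^ 2) : Cfsg.IsExtraspecial p ↥S ∧ Nat.card S = p ^ 3 ∧ (p ≠ 2 → Monoid.exponent ↥S = p) ∧ (p = 2 → Nonempty (↥S ≃* DihedralGroup 4)) := by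
  by_cases hp2 : p = 2
  · subst hp2
    obtain ⟨e⟩ := Cfsg.Agent.Lib.Helper27.XsTwo.two_final hS F hF hS1 hcore hhyp hZ
    have hcard : Nat.card S = 2 ^ 3 := by
      rw [Nat.card_congr e.toEquiv, DihedralGroup.nat_card]
      norm_num
    obtain ⟨E, hE⟩ := Cfsg.Agent.Lib.Helper27.XsFus.exists_essential hS F hF hS1 hcore
    obtain ⟨y, d⟩ := Cfsg.Agent.Lib.Helper27.XsFus.exists_essData hS F hF hZ hE
    have hnc := Cfsg.Agent.Lib.Helper27.XsFus.not_comm_of_essData d
    exact ⟨Cfsg.Agent.Lib.Helper27.isExtraspecial_of_nonabelian hcard hnc, hcard,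
      fun h => absurd rfl h, fun _ => ⟨e⟩⟩
  · obtain ⟨hcard, hnc, hexp⟩ :=
      Cfsg.Agent.Lib.Helper27.XsFus.odd_final hS F hF hS1 hcore hZ hp2
    refine ⟨Cfsg.Agent.Lib.Helper27.isExtraspecial_of_nonabelian hcard hnc, hcard, fun _ => ?_,
      fun h => absurd h hp2⟩
    have hd : Monoid.exponent ↥S ∣ p := Monoid.exponent_dvd_of_forall_pow_eq_one hexp
    rcases (Nat.dvd_prime (Fact.out : p.Prime)).mp hd with h1 | h1
    · exfalso
      haveI := Monoid.exp_eq_one_iff.mp h1
      exact hS1 (Subgroup.eq_bot_of_subsingleton S)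
    · exact h1

end Cfsg.Agent.S5265
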