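import Cfsg.Statements.S5270
import Cfsg.Agent.S5081
import Cfsg.Agent.Lib.Helper26.FusionSat3
import Cfsg.Agent.Lib.Helper27.MaxClassSetup

set_option autoImplicit false
open Cfsg

namespace Cfsg.Agent.S5270

open Cfsg.FusionSystem Cfsg.Agent.Lib.Helper26

theorem eq_of_card_mul_prime {Ω : Type*} [Group Ω] {S : Subgroup Ω} [Finite S] {p : ℕ}
    [hp : Fact p.Prime] {Q K : Subgroup Ω} (hQK : Q ≤ K) (hKS : K ≤ S)
    (hc : Nat.card Q * p = Nat.card S) (hne : Q ≠ K) : K = S := by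
  have hfK : Finite K := finite_of_le hKS
  have hfQ : Finite Q := finite_of_le (hQK.trans hKS)
  obtain ⟨d, hd⟩ := Subgroup.card_dvd_of_le hQK
  have h2 := Subgroup.card_dvd_of_le hKS
  rw [hd, ← hc] at h2
  have hQpos : 0 < Nat.card Q := Nat.card_pos
  have hdp : d ∣ p := (Nat.mul_dvd_mul_iff_left hQpos).mp h2
  rcases (Nat.dvd_prime hp.out).mp hdp with h1 | h1
  · exfalso
    apply hne
    exact Subgroup.eq_of_le_of_card_ge hQK (by rw [hd, h1, mul_one])
  · exact Subgroup.eq_of_le_of_card_ge hKS (by rw [hd, h1, hc])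

theorem fn_of_normal {Ω : Type*} [Group Ω] {S : Subgroup Ω} [Finite S] (F : FusionSystem S)
    {P : Subgroup Ω} (hPS : P ≤ S) (hn : ∀ s ∈ S, ∀ x ∈ P, s * x * s⁻¹ ∈ P) :
    F.IsFullyNormalized P := by
  refine ⟨hPS, fun Q _ => ?_⟩
  have h1 : normalizerIn S Q ≤ normalizerIn S P := by
    intro x hx
    refine ⟨hx.1, mem_normalizer_of_forall (hn x hx.1) (fun y hy => ?_)⟩
    have := hn x⁻¹ (S.inv_mem hx.1) y hy
    rwa [inv_inv] at this
  have hfin : Finite ↥(normalizerIn S P) := finite_of_le inf_le_left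
  exact Nat.card_le_card_of_injective (Subgroup.inclusion h1) (Subgroup.inclusion_injective _)

theorem fus_main {Ω : Type*} [Group Ω] {S : Subgroup Ω} [Finite S] (p : ℕ) [hp : Fact p.Prime]
    (hS : IsPGroup p S) (F : FusionSystem S) (hF : F.IsSaturated p)
    (Z Z2 : Subgroup Ω) (hZ2S : Z2 ≤ S) (hcZ : Nat.card Z = p) (hcZ2 : Nat.card Z2 = p ^ 2)
    (hZc : ∀ x ∈ S, x ∈ Z ↔ ∀ s ∈ S, s * x = x * s)
    (hZ2n : ∀ s ∈ S, ∀ x ∈ Z2, s * x * s⁻¹ ∈ Z2)
    (hidx : Nat.card ↥(S ⊓ Subgroup.centralizer (Z2 : Set Ω)) * p = Nat.card S)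
    (φ : Z2 →* Ω) (hφ : φ ∈ F.Hom Z2) (hφZ : φ.range = Z2)
    (hmove : ∃ (z : Ω) (hz : z ∈ Z2), z ∈ Z ∧ φ ⟨z, hz⟩ ∉ Z) :
    F.IsEssential p (S ⊓ Subgroup.centralizer (Z2 : Set Ω)) := by
  obtain ⟨M, hM⟩ : ∃ M : Subgroup Ω, M = S ⊓ Subgroup.centralizer (Z2 : Set Ω) := ⟨_, rfl⟩
  rw [← hM] at hidx ⊢
  have hMS : M ≤ S := hM ▸ inf_le_left
  have hMC : ∀ m ∈ M, ∀ y ∈ Z2, y * m = m * y := by
    intro m hm y hy
    rw [hM] at hm
    exact Subgroup.mem_centralizer_iff.mp hm.2 y hy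
  have hfZ2 : Finite Z2 := finite_of_le hZ2S
  have hfM : Finite M := finite_of_le hMS
  have hZ2ab : ∀ a ∈ Z2, ∀ b ∈ Z2, a * b = b * a := by
    intro a ha b hb
    have := IsPGroup.commutative_of_card_eq_prime_sq hcZ2 ⟨a, ha⟩ ⟨b, hb⟩
    exact congrArg Subtype.val this
  have hZ2M : Z2 ≤ M := by
    intro x hx
    rw [hM]
    exact ⟨hZ2S hx, Subgroup.mem_centralizer_iff.mpr (fun y hy => hZ2ab y hy x hx)⟩
  have hMn : ∀ s ∈ S, ∀ m ∈ M, s * m * s⁻¹ ∈ M := by
    intro s hs m hm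
    rw [hM]
    refine ⟨S.mul_mem (S.mul_mem hs (hMS hm)) (S.inv_mem hs), Subgroup.mem_centralizer_iff.mpr ?_⟩
    intro y hy
    have h1 := hZ2n s⁻¹ (S.inv_mem hs) y hy
    rw [inv_inv] at h1
    have h2 := hMC m hm _ h1
    have e1 : y * (s * m * s⁻¹) = s * ((s⁻¹ * y * s) * m) * s⁻¹ := by group
    rw [e1, h2]
    group
  have hMne : M ≠ S := by
    intro h
    rw [h] at hidx
    have hpos : 0 < Nat.card S := Nat.card_pos
    have h1 : Nat.card S * p = Nat.card S * 1 := by rw [hidx, mul_one]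
    have := Nat.eq_of_mul_eq_mul_left hpos h1
    exact hp.out.one_lt.ne' this
  have hMlt : M < S := lt_of_le_of_ne hMS hMne
  have hfnM : F.IsFullyNormalized M := fn_of_normal F hMS hMn
  have hfnZ2 : F.IsFullyNormalized Z2 := fn_of_normal F hZ2S hZ2n
  -- the criterion
  rcases Cfsg.Agent.S5081.result p hS F hF M hMlt hfnM _ rfl with ⟨-, hH⟩ | ⟨hess, -⟩
  swap
  · exact hess
  exfalso
  -- every element of the closure preserves the centre
  have hclos : ∀ α : MulAut M, α ∈ Subgroup.closure {α : MulAut M | ∃ (Q : Subgroup Ω) (hPQ : M < Q)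
      (φ' : Q →* Ω), φ' ∈ F.Hom Q ∧ ∀ x : M, φ' (Subgroup.inclusion hPQ.le x) = α x} →
      ∀ z : M, (z : Ω) ∈ Z ↔ ((α z : M) : Ω) ∈ Z := by
    intro α hα
    refine Subgroup.closure_induction (p := fun α _ => ∀ z : M, (z : Ω) ∈ Z ↔ ((α z : M) : Ω) ∈ Z)
      ?_ ?_ ?_ ?_ hα
    · rintro β ⟨Q, hPQ, φ', hφ', hβ⟩ z
      have hQS : Q ≤ S := source_le F hφ'
      have hQeq : Q = S := eq_of_card_mul_prime hPQ.le hQS hidx hPQ.ne
      subst hQeq
      have hinj := F.injective_of_mem hφ'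
      have hsurj : ∀ s ∈ Q, ∃ t : Q, φ' t = s := by
        have hr : φ'.range = Q := by
          have hle : φ'.range ≤ Q := range_le F hφ'
          refine Subgroup.eq_of_le_of_card_ge hle ?_
          exact (Nat.card_congr (MonoidHom.ofInjective hinj).toEquiv).le
        intro s hs
        rw [← hr] at hs
        exact hs
      rw [← hβ z]
      have hzS : (z : Ω) ∈ Q := hMS z.2
      constructor
      · intro hz
        rw [hZc _ (apply_mem F hφ' _)]
        intro s hs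
        obtain ⟨t, rfl⟩ := hsurj s hs
        rw [← map_mul, ← map_mul]
        congr 1
        apply Subtype.ext
        exact (hZc _ hzS).mp hz t t.2
      · intro hz
        rw [hZc _ hzS]
        intro t ht
        have h1 := (hZc _ (apply_mem F hφ' _)).mp hz (φ' ⟨t, ht⟩) (apply_mem F hφ' _)
        rw [← map_mul, ← map_mul] at h1
        have h2 := hinj h1
        exact congrArg Subtype.val h2
    · intro z
      rfl
    · intro a b _ _ ha hb z
      rw [MulAut.mul_apply, hb z, ha (b z)]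
    · intro a _ ha z
      have := ha (a⁻¹ z)
      rw [MulAut.apply_inv_self] at this
      exact this.symm
  -- an automorphism of `M` extending `φ`
  have hrec : F.IsReceptive Z2 := (saturated_fullyNormalized hS F hF hfnZ2).2.2
  obtain ⟨ψ, hψ, hψφ⟩ := hrec.2 Z2 φ hφ hφZ
  have hMN : M ≤ extender S Z2 φ := by
    rw [hM]
    exact centralizerIn_le_extender S Z2 φ
  have hZ2N : Z2 ≤ extender S Z2 φ := hZ2M.trans hMN
  have hψM : ψ.comp (Subgroup.inclusion hMN) ∈ F.Hom M := restrict_mem F hψ hMN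
  have hmaps : ∀ m : M, (ψ.comp (Subgroup.inclusion hMN)) m ∈ M := by
    intro m
    have hmemM : ∀ x : Ω, x ∈ S → x ∈ Subgroup.centralizer (Z2 : Set Ω) → x ∈ M := by
      intro x h1 h2
      rw [hM]
      exact ⟨h1, h2⟩
    refine hmemM _ (apply_mem F hψM m) (Subgroup.mem_centralizer_iff.mpr ?_)
    intro y hy
    rw [← hφZ] at hy
    obtain ⟨y', rfl⟩ := hy
    rw [← hψφ y' y'.2 (hZ2N y'.2)]
    show ψ ⟨y', _⟩ * ψ (Subgroup.inclusion hMN m) = ψ (Subgroup.inclusion hMN m) * ψ ⟨y', _⟩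
    rw [← map_mul, ← map_mul]
    congr 1
    apply Subtype.ext
    exact hMC m m.2 y' y'.2
  have hr : (ψ.comp (Subgroup.inclusion hMN)).range = M := by
    have hle : (ψ.comp (Subgroup.inclusion hMN)).range ≤ M := by
      rintro _ ⟨m, rfl⟩
      exact hmaps m
    refine Subgroup.eq_of_le_of_card_ge hle ?_
    exact (Nat.card_congr (MonoidHom.ofInjective (F.injective_of_mem hψM)).toEquiv).le
  have hmem : autOfHom F hψM hr ∈ F.autGroup M := autOfHom_mem F hψM hr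
  rw [← hH] at hmem
  obtain ⟨z, hz, hzZ, hzφ⟩ := hmove
  have h1 := (hclos _ hmem ⟨z, hZ2M hz⟩).mp hzZ
  apply hzφ
  rw [autOfHom_apply] at h1
  have h2 : (ψ.comp (Subgroup.inclusion hMN)) ⟨z, hZ2M hz⟩ = φ ⟨z, hz⟩ :=
    hψφ z hz (hZ2N hz)
  rw [h2] at h1
  exact h1

/-- Let p ≥ 5 be a prime, S a finite p-group of maximal class of order p^n with n ≥ 4, and F a saturated fusion system over S. If some map of F defined on the second centre Z₂(S) with image Z₂(S) does not carry Z(S) into itself, then the centralizer C_S(Z₂(S)) is an F-essential subgroup. -/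
theorem result {Ω : Type*} [Group Ω] {S : Subgroup Ω} [Finite S] (p : ℕ) [Fact p.Prime] (hS : IsPGroup p ↥S) (n : ℕ) (hn : Nat.card S = p ^ n) (h4 : 4 ≤ n) (hmax : Subgroup.lowerCentralSeries S (n - 2) ≠ ⊥) (F : Cfsg.FusionSystem S) (hF : F.IsSaturated p) (hp : 5 ≤ p) (φ : ↥((Subgroup.upperCentralSeries ↥S 2).map S.subtype) →* Ω) (hφ : φ ∈ F.Hom ((Subgroup.upperCentralSeries ↥S 2).map S.subtype)) (hφZ : φ.range = ((Subgroup.upperCentralSeries ↥S 2).map S.subtype)) (hmove : ∃ (z : Ω) (hz : z ∈ ((Subgroup.upperCentralSeries ↥S 2).map S.subtype)), z ∈ ((Subgroup.center ↥S).map S.subtype) ∧ φ ⟨z, hz⟩ ∉ ((Subgroup.center ↥S).map S.subtype)) : F.IsEssential p (S ⊓ Subgroup.centralizer (((Subgroup.upperCentralSeries ↥S 2).map S.subtype) : Set Ω)) := by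
  obtain ⟨h1, -, h3, h4', h5, h6, h7⟩ := Cfsg.Agent.Lib.Helper27.MaxClassSetup.setup hn h4 hmax
  exact fus_main p hS F hF _ _ h1 h3 h4' h5 h6 h7 φ hφ hφZ hmove

end Cfsg.Agent.S5270
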