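import Cfsg.Statements.S5271
import Cfsg.Agent.Lib.Helper27.WE8

set_option autoImplicit false
open Cfsg

namespace Cfsg.Agent.S5271

open Cfsg.FusionSystem Cfsg.Agent.Lib.Helper26 Cfsg.Agent.Lib.Helper27 Cfsg.Agent.Lib.Helper27.WE

universe u

/-- a subgroup of index `p` of a finite `p`-group is normalized by the group -/
theorem le_normalizer_of_card {Ω : Type u} [Group Ω] {S : Subgroup Ω} [Finite S] {p : ℕ}
    [Fact p.Prime] {n : ℕ} (hSc : Nat.card S = p ^ (n + 1)) {Q : Subgroup Ω} (hQS : Q ≤ S)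
    (hQc : Nat.card Q = p ^ n) : S ≤ Subgroup.normalizer (Q : Set Ω) := by
  have hp : p.Prime := Fact.out
  have hidx : (Q.subgroupOf S).index = (Nat.card S).minFac := by
    have h1 : Nat.card (Q.subgroupOf S) = p ^ n := by
      rw [← hQc]
      exact Nat.card_congr (Subgroup.subgroupOfEquivOfLe hQS).toEquiv
    have h2 := Subgroup.card_mul_index (Q.subgroupOf S)
    rw [h1, hSc, pow_succ] at h2
    have h3 : (Q.subgroupOf S).index = p :=
      Nat.eq_of_mul_eq_mul_left (pow_pos hp.pos n) h2
    rw [h3, hSc, Nat.Prime.pow_minFac hp (Nat.succ_ne_zero n)]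
  have hn : (Q.subgroupOf S).Normal := Subgroup.normal_of_index_eq_minFac_card hidx
  exact (Subgroup.normal_subgroupOf_iff_le_normalizer hQS).mp hn

/-- in the inner system the subgroups normalized by `S` are strongly closed -/
theorem stronglyClosed_of_inner {Ω : Type u} [Group Ω] {S : Subgroup Ω} (F : FusionSystem S)
    (hin : ∀ P : Subgroup Ω, F.Hom P = (innerFusionSystem S).Hom P) {Q : Subgroup Ω}
    (hQS : Q ≤ S) (hQn : S ≤ Subgroup.normalizer (Q : Set Ω)) : F.StronglyClosed Q := by
  refine ⟨hQS, fun R hR φ hφ x => ?_⟩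
  rw [hin R] at hφ
  obtain ⟨-, g, hg, h⟩ := inner_mem_iff.mp hφ
  rw [h x]
  exact WE.conj_mem_of_le_normalizer hQn hg (hR x.2)

/-- in the inner system all normalizer systems are inner -/
theorem normalizer_inner_of_inner {Ω : Type u} [Group Ω] {S : Subgroup Ω} [Finite S]
    (F : FusionSystem S)
    (hin : ∀ P : Subgroup Ω, F.Hom P = (innerFusionSystem S).Hom P) {H : Subgroup Ω}
    (hHS : H ≤ S) (N : FusionSystem (normalizerIn S H)) (hN : F.IsNormalizerSystem H N) :
    ∀ P : Subgroup Ω, N.Hom P = (innerFusionSystem (normalizerIn S H)).Hom P := by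
  refine GT.inner_of_le (fun P φ hφ => ?_)
  rw [hN P] at hφ
  obtain ⟨-, hPN, -, ψ, hψ, hext, hmap⟩ := hφ
  rw [hin _] at hψ
  obtain ⟨-, g, hg, hgx⟩ := inner_mem_iff.mp hψ
  have h1 : ∀ y ∈ H, g * y * g⁻¹ ∈ H := by
    intro y hy
    have hy' : y ∈ P ⊔ H := (le_sup_right : H ≤ P ⊔ H) hy
    have : ψ ⟨y, hy'⟩ ∈ (H.subgroupOf (P ⊔ H)).map ψ :=
      ⟨⟨y, hy'⟩, Subgroup.mem_subgroupOf.mpr hy, rfl⟩
    rw [hmap, hgx] at this
    exact this
  have h2 : ∀ y ∈ H, g⁻¹ * y * g ∈ H := by
    intro y hy
    rw [← hmap] at hy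
    obtain ⟨w, hw, hwy⟩ := hy
    rw [hgx] at hwy
    have e : g⁻¹ * y * g = (w : Ω) := by
      rw [← hwy]
      group
    rw [e]
    exact Subgroup.mem_subgroupOf.mp hw
  refine inner_mem_iff.mpr ⟨hPN, g, ⟨hg, mem_normalizer_of_forall h1 h2⟩, fun x => ?_⟩
  rw [← hext x, hgx]
  rfl

/-- A nilpotency criterion for fusion systems. Let F be a saturated fusion system over a finite p-group S of order at least p². Call a subgroup Q of S weakly embedded in F when there is a subgroup P of S strongly closed in F such that both the product QP and the intersection Q ∩ P are strongly closed in F. Then F is the inner fusion system of S if and only if there is a subgroup D of S with 1 < D < S such that every subgroup of S of the same order as D is weakly embedded in F and, for every fully normalized subgroup H of S of that order, the normalizer fusion system of H in F is the inner fusion system of N_S(H). -/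
theorem result {Ω : Type*} [Group Ω] {S : Subgroup Ω} [Finite S] (p : ℕ) [Fact p.Prime] (hS : IsPGroup p ↥S) (F : Cfsg.FusionSystem S) (hF : F.IsSaturated p) (hcard : p ^ 2 ≤ Nat.card S) : (∀ P : Subgroup Ω, F.Hom P = (Cfsg.innerFusionSystem S).Hom P) ↔ ∃ D : Subgroup Ω, ⊥ < D ∧ D < S ∧ (∀ Q : Subgroup Ω, Q ≤ S → Nat.card ↥Q = Nat.card ↥D → ∃ P : Subgroup Ω, F.StronglyClosed P ∧ F.StronglyClosed (Q ⊔ P) ∧ F.StronglyClosed (Q ⊓ P)) ∧ (∀ H : Subgroup Ω, F.IsFullyNormalized H → Nat.card ↥H = Nat.card ↥D → ∀ N : Cfsg.FusionSystem (Cfsg.FusionSystem.normalizerIn S H), F.IsNormalizerSystem H N → ∀ P : Subgroup Ω, N.Hom P = (Cfsg.innerFusionSystem (Cfsg.FusionSystem.normalizerIn S H)).Hom P) := by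
  classical
  have hp : p.Prime := Fact.out
  constructor
  · intro hin
    obtain ⟨n, hn⟩ := IsPGroup.iff_card.mp hS
    have hn2 : 2 ≤ n := by
      rw [hn] at hcard
      exact (Nat.pow_le_pow_iff_right hp.one_lt).mp hcard
    obtain ⟨m, rfl⟩ : ∃ m, n = m + 1 := ⟨n - 1, by omega⟩
    have hm1 : 1 ≤ m := by omega
    obtain ⟨K, hK⟩ := Sylow.exists_subgroup_card_pow_prime (G := ↥S) p
      (show p ^ m ∣ Nat.card S by rw [hn]; exact pow_dvd_pow p (Nat.le_succ m))
    have hDc : Nat.card (K.map S.subtype) = p ^ m := by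
      rw [Subgroup.card_map_of_injective S.subtype_injective, hK]
    have hDS : K.map S.subtype ≤ S := by
      rintro _ ⟨s, -, rfl⟩
      exact s.2
    have hpm : 1 < p ^ m := Nat.one_lt_pow (by omega) hp.one_lt
    refine ⟨K.map S.subtype, ?_, ?_, ?_, ?_⟩
    · rw [bot_lt_iff_ne_bot]
      intro h
      rw [h, Subgroup.card_bot] at hDc
      omega
    · refine lt_of_le_of_ne hDS (fun h => ?_)
      rw [h, hn] at hDc
      have := (Nat.pow_right_injective hp.two_le) hDc
      omega
    · intro Q hQS hQc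
      rw [hDc] at hQc
      have hsc := stronglyClosed_of_inner F hin hQS (le_normalizer_of_card hn hQS hQc)
      refine ⟨Q, hsc, ?_, ?_⟩
      · rw [sup_idem]
        exact hsc
      · rw [inf_idem]
        exact hsc
    · intro H hH _ N hN
      exact normalizer_inner_of_inner F hin hH.1 N hN
  · rintro ⟨D, hDbot, hDS, hi, hii⟩
    have hfinD : Finite D := finite_of_le hDS.le
    obtain ⟨k, hk⟩ := IsPGroup.iff_card.mp (hS.to_le hDS.le)
    have hW : WEmb F (p ^ k) := by
      intro Q hQS hQc
      exact hi Q hQS (hQc.trans hk.symm)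
    have hkS : p ^ k < Nat.card S := by
      rw [← hk]
      exact card_lt_card_of_lt hDS
    have hinnD : ∀ D' : Subgroup Ω, F.StronglyClosed D' → Nat.card D' = p ^ k →
        InnerAbove F D' := by
      intro D' hD' hD'c
      exact innerAbove_of_normalizer_inner F hD'
        (hii D' (fullyNormalized_of_stronglyClosed F hD') (hD'c.trans hk.symm))
    exact inner_of_all_stable hS F hF (fun lam => all_stable hS F hF hW hkS hinnD lam)

end Cfsg.Agent.S5271
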