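import Cfsg.Statements.S5272
import Cfsg.Agent.Lib.Helper27.Gax6

set_option autoImplicit false
open Cfsg

namespace Cfsg.Agent.S5272

/-- An axiomatic Glauberman–Thompson nilpotency criterion for fusion systems. Let p be an odd prime, F a saturated fusion system over a finite p-group S, and 𝒜 a nonempty family of abelian subgroups of S. For Q ≤ S write I(Q) for the intersection of the members of 𝒜 contained in Q. Assume (invariance) that for every Q ≤ S containing a member of 𝒜, every F-automorphism of Q maps I(Q) into itself, and (replacement) that for every subgroup B of S of nilpotency class at most 2, if some member of 𝒜 contains [B,B] but not B, then B normalizes some member of 𝒜 that contains [B,B] but not B. Then F is the inner fusion system of S if and only if the normalizer fusion system of I(S) in F is the inner fusion system of N_S(I(S)). -/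
theorem result {Ω : Type*} [Group Ω] {S : Subgroup Ω} [Finite S] (p : ℕ) [Fact p.Prime] (hS : IsPGroup p ↥S) (F : Cfsg.FusionSystem S) (hF : F.IsSaturated p) (hp : p ≠ 2) (𝒜 : Set (Subgroup Ω)) (h𝒜 : ∀ A ∈ 𝒜, A ≤ S ∧ IsMulCommutative ↥A) (hne : 𝒜.Nonempty) (hinv : ∀ Q : Subgroup Ω, Q ≤ S → (∃ A ∈ 𝒜, A ≤ Q) → ∀ α ∈ F.autGroup Q, ∀ x : ↥Q, (x : Ω) ∈ (⨅ A ∈ {A : Subgroup Ω | A ∈ 𝒜 ∧ A ≤ Q}, A) → (((α : MulAut ↥Q) x : ↥Q) : Ω) ∈ (⨅ A ∈ {A : Subgroup Ω | A ∈ 𝒜 ∧ A ≤ Q}, A)) (hrep : ∀ B : Subgroup Ω, B ≤ S → ⁅⁅B, B⁆, B⁆ = ⊥ → (∃ A ∈ 𝒜, ⁅B, B⁆ ≤ A ∧ ¬ B ≤ A) → ∃ A ∈ 𝒜, ⁅B, B⁆ ≤ A ∧ ¬ B ≤ A ∧ B ≤ Subgroup.normalizer (A : Set Ω)) : (∀ P : Subgroup Ω, F.Hom P = (Cfsg.innerFusionSystem S).Hom P) ↔ ∀ N : Cfsg.FusionSystem (Cfsg.FusionSystem.normalizerIn S (⨅ A ∈ 𝒜, A)), F.IsNormalizerSystem (⨅ A ∈ 𝒜, A) N → ∀ P : Subgroup Ω, N.Hom P = (Cfsg.innerFusionSystem (Cfsg.FusionSystem.normalizerIn S (⨅ A ∈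 𝒜, A))).Hom P := by
  have hax : Cfsg.Agent.Lib.Helper27.Gax.FAx F 𝒜 :=
    { le := fun A hA => (h𝒜 A hA).1
      comm := fun A hA => (h𝒜 A hA).2
      ne := hne
      inv := by
        intro Q hQ hex α hα x hall A hA hAQ
        have h1 := hinv Q hQ hex α hα x
          (Subgroup.mem_iInf.mpr fun A' => Subgroup.mem_iInf.mpr fun hA' => hall A' hA'.1 hA'.2)
        exact Subgroup.mem_iInf.mp (Subgroup.mem_iInf.mp h1 A) ⟨hA, hAQ⟩
      rep := hrep }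
  rw [← sInf_eq_iInf]
  have hNW : S ≤ Subgroup.normalizer ((sInf 𝒜 : Subgroup Ω) : Set Ω) :=
    Cfsg.Agent.Lib.Helper27.Gax.le_normalizer_sInf hax
  constructor
  · intro hin N hN
    refine Cfsg.Agent.Lib.Helper27.GT.inner_of_le (fun P φ hφ => ?_)
    rw [hN P] at hφ
    obtain ⟨hφF, hPN, -, -⟩ := hφ
    rw [hin P] at hφF
    obtain ⟨-, g, hg, h⟩ := hφF
    exact ⟨hPN, g, Subgroup.mem_inf.mpr ⟨hg, hNW hg⟩, h⟩
  · intro h
    by_contra hni
    have hw := Cfsg.Agent.Lib.Helper27.Gax.gax_main hp hS F hF 𝒜 hax hni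
    have hle : sInf 𝒜 ≤ S := by
      obtain ⟨A₀, hA₀⟩ := hne
      exact (sInf_le hA₀).trans (h𝒜 A₀ hA₀).1
    have hNN := Cfsg.Agent.Lib.Helper26.normalizerSystem_isNormalizerSystem F (sInf 𝒜) hle
    exact Cfsg.Agent.Lib.Helper27.GT.not_inner_of_normWit hS hw hNN (h _ hNN)

end Cfsg.Agent.S5272
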