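import Cfsg.Statements.S5273
import Cfsg.Agent.Lib.helper17.BGH2
-- import your own Cfsg.Agent.* helpers here

set_option autoImplicit false
open Cfsg

namespace Cfsg.Agent.S5273

open Cfsg.FusionSystem Cfsg.Agent.Lib.Helper26 Cfsg.Agent.Lib.helper17.BGH1
  Cfsg.Agent.Lib.helper17.BGH2

/-- Small-exponent abelian subgroups control fusion. Let E and F be saturated fusion systems over the same finite p-group S with E contained in F. Suppose that E and F have the same maps between A and B for all subgroups A, B of S that are elementary abelian when p is odd, respectively abelian of exponent dividing 4 when p = 2. Then E = F (they have the same maps on every subgroup). -/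
theorem result {Ω : Type*} [Group Ω] {S : Subgroup Ω} [Finite S] (p : ℕ) [Fact p.Prime] (hS : IsPGroup p ↥S) (E F : Cfsg.FusionSystem S) (hE : E.IsSaturated p) (hF : F.IsSaturated p) (hEF : E.IsSubsystemOf F) (hodd : p ≠ 2 → ∀ A B : Subgroup Ω, A ≤ S → B ≤ S → Cfsg.IsElementaryAbelian p A → Cfsg.IsElementaryAbelian p B → E.homSet A B = F.homSet A B) (htwo : p = 2 → ∀ A B : Subgroup Ω, A ≤ S → B ≤ S → IsMulCommutative ↥A → IsMulCommutative ↥B → (∀ a ∈ A, a ^ 4 = 1) → (∀ b ∈ B, b ^ 4 = 1) → E.homSet A B = F.homSet A B) : ∀ P : Subgroup Ω, E.Hom P = F.Hom P := by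
  have hcommA : ∀ A : Subgroup Ω, (∀ a ∈ A, ∀ b ∈ A, a * b = b * a) → IsMulCommutative ↥A :=
    fun A h => ⟨⟨fun a b => Subtype.ext (h a a.2 b b.2)⟩⟩
  have key : ∀ m : ℕ, IsExp p m → ∀ P : Subgroup Ω, F.Hom P ⊆ E.Hom P := by
    intro m hm
    have ctx : Ctx p m E F S := by
      refine ⟨hm, hS, hE, hF, hEF, le_rfl, ?_, ?_, ?_, ?_⟩
      · intro s hs h hh
        exact S.mul_mem (S.mul_mem hs hh) (S.inv_mem hs)
      · intro P φ hφ x _
        exact apply_mem F hφ x
      · intro P hPS α _ _ x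
        exact S.mul_mem (S.inv_mem (hPS x.2)) (hPS (α x).2)
      · intro A hAS hAc hAm ψ hψ
        have hBS : ψ.range ≤ S := range_le F hψ
        have hBc : ∀ a ∈ ψ.range, ∀ b ∈ ψ.range, a * b = b * a := by
          rintro _ ⟨a, rfl⟩ _ ⟨b, rfl⟩
          rw [← map_mul, ← map_mul]
          congr 1
          exact Subtype.ext (hAc a a.2 b b.2)
        have hBm : ∀ b ∈ ψ.range, b ^ m = 1 := by
          rintro _ ⟨a, rfl⟩
          rw [← map_pow]
          have : a ^ m = 1 := Subtype.ext (by simpa using hAm a a.2)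
          rw [this, map_one]
        have hmem : ψ ∈ F.homSet A ψ.range := ⟨hψ, fun x => ⟨x, rfl⟩⟩
        rcases hm with ⟨hp2, rfl⟩ | ⟨hp2, rfl⟩
        · have := hodd hp2 A ψ.range hAS hBS ⟨hcommA A hAc, hAm⟩ ⟨hcommA _ hBc, hBm⟩
          rw [← this] at hmem
          exact hmem.1
        · have := htwo hp2 A ψ.range hAS hBS (hcommA A hAc) (hcommA _ hBc) hAm hBm
          rw [← this] at hmem
          exact hmem.1
    exact le_of_ctx ctx
  intro P
  apply Set.Subset.antisymm (hEF P)
  by_cases hp2 : p = 2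
  · exact key 4 (Or.inr ⟨hp2, rfl⟩) P
  · exact key p (Or.inl ⟨hp2, rfl⟩) P

end Cfsg.Agent.S5273
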