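import Cfsg.Statements.S5275
import Cfsg.Agent.Lib.Helper27.GTZJ
import Cfsg.Agent.Lib.Helper27.GTRel2
import Cfsg.Agent.S3082

set_option autoImplicit false
open Cfsg

namespace Cfsg.Agent.S5275

/-- A Glauberman–Thompson nilpotency criterion for fusion systems relative to a strongly closed subgroup. Let p be an odd prime, F a saturated fusion system over a finite p-group S, and D a subgroup of S that is strongly closed in F. Let Z(J(D)) be the centre of the subgroup of D generated by the abelian subgroups of D of largest order. Then F is the inner fusion system of S if and only if the normalizer fusion system of Z(J(D)) in F is the inner fusion system of N_S(Z(J(D))) = S. -/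
theorem result {Ω : Type*} [Group Ω] {S : Subgroup Ω} [Finite S] (p : ℕ) [Fact p.Prime] (hS : IsPGroup p ↥S) (F : Cfsg.FusionSystem S) (hF : F.IsSaturated p) (hp : p ≠ 2) (D : Subgroup Ω) (hD : F.StronglyClosed D) : (∀ P : Subgroup Ω, F.Hom P = (Cfsg.innerFusionSystem S).Hom P) ↔ ∀ N : Cfsg.FusionSystem (Cfsg.FusionSystem.normalizerIn S (Cfsg.centerThompsonAOf D)), F.IsNormalizerSystem (Cfsg.centerThompsonAOf D) N → ∀ P : Subgroup Ω, N.Hom P = (Cfsg.innerFusionSystem (Cfsg.FusionSystem.normalizerIn S (Cfsg.centerThompsonAOf D))).Hom P := by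
  have hSD : S ≤ Subgroup.normalizer (D : Set Ω) :=
    Cfsg.Agent.Lib.Helper27.GT.stronglyClosed_normalizer hD
  have hNW : S ≤ Subgroup.normalizer (Cfsg.centerThompsonAOf D : Set Ω) :=
    hSD.trans ((Cfsg.Agent.Lib.Helper27.GT.zjFunctor p hp).normalizer_le D)
  constructor
  · intro hin N hN
    refine Cfsg.Agent.Lib.Helper27.GT.inner_of_le (fun P φ hφ => ?_)
    rw [hN P] at hφ
    obtain ⟨hφF, hPN, -, -⟩ := hφ
    rw [hin P] at hφF
    obtain ⟨-, g, hg, h⟩ := hφF
    exact ⟨hPN, g, Subgroup.mem_inf.mpr ⟨hg, hNW hg⟩, h⟩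
  · intro h
    by_contra hni
    have hw := Cfsg.Agent.Lib.Helper27.GT.gt_rel (Cfsg.Agent.Lib.Helper27.GT.zjFunctor p hp)
      (fun T D' hsc hnpc => Cfsg.Agent.S3082.result hp T D' hsc (Or.inl hnpc))
      (Nat.card S) S rfl hS F hF D hD hni
    have hle : Cfsg.centerThompsonAOf D ≤ S :=
      (Cfsg.Agent.Lib.Helper27.ZJ.centerThompsonAOf_le D).trans hD.1
    have hNN := Cfsg.Agent.Lib.Helper26.normalizerSystem_isNormalizerSystem F
      (Cfsg.centerThompsonAOf D) hle
    exact Cfsg.Agent.Lib.Helper27.GT.not_inner_of_normWit hS hw hNN (h _ hNN)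

end Cfsg.Agent.S5275
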