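import Cfsg.Statements.S5279
import Cfsg.Agent.S5246
import Cfsg.Agent.Lib.Helper26.NPSQ9
import Cfsg.Agent.Lib.Helper10.ZJfree1
import Cfsg.Agent.Lib.Helper10.ZJctl3
import Cfsg.Agent.Lib.Helper13.NPS3D

set_option autoImplicit false
open Cfsg

namespace Cfsg.Agent.S5279

universe u

theorem core_ne_bot {Ω : Type u} [Group Ω] [Finite Ω] (p : ℕ) [Fact p.Prime] (hp : p ≠ 2) (P : Sylow p Ω) (hP : (P : Subgroup Ω) ≠ ⊥) (hst : (∀ Q : Subgroup Ω, (Cfsg.groupFusionSystem (P : Subgroup Ω)).IsFullyNormalized Q → ∀ χ : MulAut ↥Q, χ ∈ (Cfsg.groupFusionSystem (P : Subgroup Ω)).autGroup Q → (∀ a : ↥Q, (χ a⁻¹) * a * (χ a⁻¹) * (χ (χ a)) = 1) → χ ∈ ((Cfsg.pCore p ↥((Cfsg.groupFusionSystem (P : Subgroup Ω)).autGroup Q)).map ((Cfsg.groupFusionSystem (P : Subgroup Ω)).autGroup Q).subtype : Subgroup (MulAut ↥Q)))) : (Cfsg.groupFusionSystem (P : Subgroup Ω)).core ≠ ⊥ := by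
  have hpp : p.Prime := Fact.out
  have hnps : Cfsg.IsNormalizerPStable p Ω := (Cfsg.Agent.S5246.result hp P).mpr hst
  have hQf := Cfsg.Agent.Lib.Helper10.ZJnpc.qfam_comm (p := p) hp
  have h𝓦 := Cfsg.Agent.Lib.Helper10.ZJfree.hW_singleton hQf
  have hcons : ∀ (Γ : Type u) [Group Γ] [Finite Γ], Cfsg.IsNormalizerPStable p Γ →
      Subgroup.centralizer ((Cfsg.pCore p Γ : Subgroup Γ) : Set Γ) ≤ Cfsg.pCore p Γ →
      Cfsg.Agent.Lib.Helper13.FCS p {Cfsg.Agent.Lib.Helper10.ZJfree.Wz.{u} (fun (X : Type u) [Group X] (A : Subgroup X) => IsMulCommutative ↥A)} Γ := by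
    intro Γ _ _ hstΓ hc
    apply Cfsg.Agent.Lib.Helper13.fcs_singleton_of_normal
    intro T
    rw [Cfsg.Agent.Lib.Helper10.ZJfree.inducedFunctor_Wz hQf]
    exact Cfsg.Agent.Lib.Helper10.ZJsc.zfam_normal_sc _ T (hQf.hyp Γ T) T
      ⟨le_rfl, fun x _ g hg => hg⟩ hc hstΓ
  have hfcs : Cfsg.Agent.Lib.Helper13.FCS p {Cfsg.Agent.Lib.Helper10.ZJfree.Wz.{u} (fun (X : Type u) [Group X] (A : Subgroup X) => IsMulCommutative ↥A)} Ω := by
    by_cases h3 : p = 3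
    · exact Cfsg.Agent.Lib.Helper13.NPS3.nps_main3 h3 h𝓦 hcons _ Ω rfl hnps
    · have hp5 : 5 ≤ p := by
        have h2 := hpp.two_le
        rcases Nat.lt_or_ge 4 p with h | h
        · exact h
        · exfalso
          have h4 : p = 4 := by omega
          rw [h4] at hpp
          exact (by decide : ¬ Nat.Prime 4) hpp
      exact Cfsg.Agent.Lib.Helper26.NPSQ.nps_main hp5 h𝓦 hcons _ Ω rfl hnps
  have hTi : ¬ p ∣ (P : Subgroup Ω).relIndex ⊤ := by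
    rw [Subgroup.relIndex_top_right]; exact P.not_dvd_index
  have hR := Cfsg.Agent.Lib.Helper13.family_fusion_of_sylow
    (Cfsg.Agent.Lib.Helper13.indFam_isConjugacyFunctor h𝓦 Ω) hfcs le_top P.isPGroup' hTi
  obtain ⟨Q, hQdef⟩ : ∃ Q : Subgroup Ω, Q = Cfsg.inducedFunctor (G := Ω)
      (Cfsg.Agent.Lib.Helper10.ZJfree.Wz.{u} (fun (X : Type u) [Group X] (A : Subgroup X) => IsMulCommutative ↥A)) (P : Subgroup Ω) := ⟨_, rfl⟩
  have hQP : Q ≤ (P : Subgroup Ω) := hQdef ▸ Cfsg.Agent.Lib.Helper13.inducedFunctor_le _ _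
  have hQne : Q ≠ ⊥ := by
    rw [hQdef]
    exact ((Cfsg.Agent.Lib.Helper13.inducedFunctor_isConjugacyFunctor (G := Ω) _
      (h𝓦 _ rfl)) _ P.isPGroup').2.1 hP
  have hctl : ∀ (A : Set Ω) (g : Ω), A ⊆ ((P : Subgroup Ω) : Set Ω) →
      (fun a => g * a * g⁻¹) '' A ⊆ ((P : Subgroup Ω) : Set Ω) →
      ∃ c ∈ Subgroup.normalizer (Q : Set Ω), ∀ a ∈ A, c * a * c⁻¹ = g * a * g⁻¹ := by
    intro A g hA hg
    obtain ⟨c, hc, hca⟩ := hR A g (Subgroup.mem_top _) hA hg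
    exact ⟨c, hQdef ▸ Cfsg.Agent.Lib.Helper13.freach_singleton_mem_normalizer _ hc, hca⟩
  have hnormal : (Cfsg.groupFusionSystem (P : Subgroup Ω)).IsNormal Q := by
    refine ⟨hQP, ?_⟩
    rintro P' φ ⟨hP', hφS, g, hg⟩
    obtain ⟨c, hcN, hca⟩ := hctl (P' : Set Ω) g hP' (by
      rintro _ ⟨a, ha, rfl⟩
      have := hφS ⟨a, ha⟩
      rw [hg] at this
      exact this)
    have hcQ : ∀ y ∈ Q, c * y * c⁻¹ ∈ Q := fun y hy =>
      (Subgroup.mem_normalizer_iff.mp hcN y).mp hy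
    have hsupP : P' ⊔ Q ≤ (P : Subgroup Ω) := sup_le hP' hQP
    have hsup : P' ⊔ Q ≤ (P : Subgroup Ω).comap (MulAut.conj c).toMonoidHom := by
      apply sup_le
      · intro x hx
        show c * x * c⁻¹ ∈ (P : Subgroup Ω)
        rw [hca x hx, ← hg ⟨x, hx⟩]
        exact hφS _
      · intro x hx
        exact hQP (hcQ x hx)
    refine ⟨conjHom (P' ⊔ Q) c, ⟨hsupP, fun x => hsup x.2, c, fun x => rfl⟩, ?_, ?_⟩
    · intro x
      show c * (x : Ω) * c⁻¹ = φ x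
      rw [hca x x.2, hg]
    · ext y
      constructor
      · rintro ⟨x, hx, rfl⟩
        exact hcQ _ (Subgroup.mem_subgroupOf.mp hx)
      · intro hy
        have h1 : c⁻¹ * y * c ∈ Q := (Subgroup.mem_normalizer_iff''.mp hcN y).mp hy
        refine ⟨⟨c⁻¹ * y * c, (le_sup_right : Q ≤ P' ⊔ Q) h1⟩, Subgroup.mem_subgroupOf.mpr h1, ?_⟩
        show c * (c⁻¹ * y * c) * c⁻¹ = y
        group
  intro hcore
  apply hQne
  rw [eq_bot_iff, ← hcore]
  exact le_sSup hnormal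


/-- Let p be an odd prime, G a finite group with a nontrivial Sylow p-subgroup P, and F the fusion system of G on P. Suppose F is p-stable: for every fully normalized subgroup Q and every χ in Aut_F(Q) acting quadratically on Q (χ(a⁻¹)·a·χ(a⁻¹)·χ(χ(a)) = 1 for all a in Q), χ lies in O_p(Aut_F(Q)). Then some nontrivial subgroup of P is normal in F. -/
theorem result {Ω : Type*} [Group Ω] [Finite Ω] (p : ℕ) [Fact p.Prime] (hp : p ≠ 2) (P : Sylow p Ω) (hP : (P : Subgroup Ω) ≠ ⊥) (hst : (∀ Q : Subgroup Ω, (Cfsg.groupFusionSystem (P : Subgroup Ω)).IsFullyNormalized Q → ∀ χ : MulAut ↥Q, χ ∈ (Cfsg.groupFusionSystem (P : Subgroup Ω)).autGroup Q → (∀ a : ↥Q, (χ a⁻¹) * a * (χ a⁻¹) * (χ (χ a)) = 1) → χ ∈ ((Cfsg.pCore p ↥((Cfsg.groupFusionSystem (P : Subgroup Ω)).autGroup Q)).map ((Cfsg.groupFusionSystem (P : Subgroup Ω)).autGroup Q).subtype : Subgroup (MulAut ↥Q)))) : (Cfsg.groupFusionSystem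 (P : Subgroup Ω)).core ≠ ⊥ :=
  core_ne_bot p hp P hP hst

end Cfsg.Agent.S5279
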