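import Cfsg.Statements.S5281
import Cfsg.Agent.Lib.helper17.PStab3

set_option autoImplicit false
open Cfsg

namespace Cfsg.Agent.S5281

open Cfsg.FusionSystem Cfsg.Agent.Lib.Helper26 Cfsg.Agent.Lib.Helper27
open Cfsg.Agent.Lib.helper17.PStab Cfsg.Agent.Lib.helper17.PStab2 Cfsg.Agent.Lib.helper17.PStab3

theorem quad_congr {Q Q' : Type*} [Group Q] [Group Q'] (e : Q ≃* Q') (χ : MulAut Q)
    (h : ∀ a : Q, (χ a⁻¹) * a * (χ a⁻¹) * (χ (χ a)) = 1) (b : Q') :
    (MulAut.congr e χ b⁻¹) * b * (MulAut.congr e χ b⁻¹) *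
      (MulAut.congr e χ (MulAut.congr e χ b)) = 1 := by
  have h1 := h (e.symm b)
  have h2 : ∀ y : Q', MulAut.congr e χ y = e (χ (e.symm y)) := fun y => rfl
  rw [h2, h2, h2, MulEquiv.symm_apply_apply]
  have h3 := congrArg e h1
  rw [map_mul, map_mul, map_mul, map_one, MulEquiv.apply_symm_apply, map_inv] at h3
  simp only [map_inv] at h3 ⊢
  exact h3

/-- Let p be an odd prime and F a saturated fusion system over a finite p-group S. Call a fusion system E (over any subgroup) p-stable when, for every fully E-normalized subgroup Q and every χ in Aut_E(Q) with χ(a⁻¹)·a·χ(a⁻¹)·χ(χ(a)) = 1 for all a in Q (χ acts quadratically), χ lies in O_p(Aut_E(Q)). Then F is p-stable if and only if the normalizer fusion system of R in F is p-stable for every fully F-normalized, F-centric, F-radical subgroup R of S. -/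
theorem result {Ω : Type*} [Group Ω] {S : Subgroup Ω} [Finite S] (p : ℕ) [Fact p.Prime] (hS : IsPGroup p ↥S) (F : Cfsg.FusionSystem S) (hF : F.IsSaturated p) (hp : p ≠ 2) : (∀ Q : Subgroup Ω, F.IsFullyNormalized Q → ∀ χ : MulAut ↥Q, χ ∈ F.autGroup Q → (∀ a : ↥Q, (χ a⁻¹) * a * (χ a⁻¹) * (χ (χ a)) = 1) → χ ∈ ((Cfsg.pCore p ↥(F.autGroup Q)).map (F.autGroup Q).subtype : Subgroup (MulAut ↥Q))) ↔ ∀ R : Subgroup Ω, F.IsFullyNormalized R → F.IsCentric R → F.IsRadical p R → ∀ N : Cfsg.FusionSystem (Cfsg.FusionSystem.normalizerIn S R), F.IsNormalizerSystem R N → (∀ Q : Subgroup Ω, N.IsFullyNormalized Q → ∀ χ : MulAut ↥Q, χ ∈ N.autGroup Q → (∀ a : ↥Q, (χ a⁻¹) * a * (χ a⁻¹) * (χ (χ a)) = 1) → χ ∈ ((Cfsg.pCore p ↥(N.autGroup Q)).map (N.autGroup Q).subtype : Subgroup (MulAut ↥Q))) := by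
  constructor
  · intro hF1 R hR _ _ N hN Q hQ χ hχ hquad
    have hQT : Q ≤ normalizerIn S R := hQ.1
    have hQS : Q ≤ S := hQT.trans inf_le_left
    have hle : N.autGroup Q ≤ F.autGroup Q := by
      intro α hα
      rw [mem_autGroup_iff N hQT, hN Q] at hα
      rw [mem_autGroup_iff F hQS]
      exact hα.1
    obtain ⟨Q', hconj, hQ'⟩ := exists_fullyNormalized_conj F hQS
    obtain ⟨e, he⟩ := exists_iso_of_isConj F hconj
    have h1 : MulAut.congr e χ ∈ F.autGroup Q' := congr_mem_autGroup he (hle hχ)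
    have h3 := hF1 Q' hQ' _ h1 (quad_congr e χ hquad)
    have h4 : χ ∈ ((Cfsg.pCore p ↥(F.autGroup Q)).map (F.autGroup Q).subtype :
        Subgroup (MulAut ↥Q)) := by
      refine pCoreMap_of_equiv (MulAut.congr e) (fun a => ⟨congr_mem_autGroup he, fun h => ?_⟩) h3
      have h5 := congr_mem_autGroup he.symm h
      have h6 : MulAut.congr e.symm (MulAut.congr e a) = a := by
        ext x
        show ((e.symm (e (a (e.symm (e x)))) : Q) : Ω) = a x
        rw [MulEquiv.symm_apply_apply, MulEquiv.symm_apply_apply]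
      rw [h6] at h5
      exact h5
    exact pCoreMap_inf_le hle ⟨h4, hχ⟩
  · intro hN Q hQ χ hχ hquad
    have hQS : Q ≤ S := hQ.1
    obtain ⟨R, hQR, hRfn, hRc, hRr⟩ := exists_ext_centric_radical hS F hF hQS
    obtain ⟨Q', hQ'R, hconj, hext⟩ := hQR.exists_conj
    have hRS : R ≤ S := hRfn.1
    have hQ'S : Q' ≤ S := hQ'R.trans hRS
    have hE := normalizerSystem_isNormalizerSystem F R hRS
    have hstab := hN R hRfn hRc hRr _ hE
    have hRT : R ≤ normalizerIn S R := le_normalizerIn_self hRS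
    have hQ'T : Q' ≤ normalizerIn S R := hQ'R.trans hRT
    have hfinT : Finite (normalizerIn S R) := finite_of_le inf_le_left
    -- `Aut_N(Q') = Aut_F(Q')`
    have hA : (normalizerSystem F R hRS).autGroup Q' = F.autGroup Q' := by
      ext α
      rw [mem_autGroup_iff _ hQ'T, mem_autGroup_iff F hQ'S, hE Q']
      constructor
      · intro h
        exact h.1
      · intro hα
        have hα' : α ∈ F.autGroup Q' := (mem_autGroup_iff F hQ'S).mpr hα
        obtain ⟨β, hβ, hb⟩ := hext α hα'
        have hβ' := (mem_autGroup_iff F hRS).mp hβ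
        have hle : Q' ⊔ R ≤ R := sup_le hQ'R le_rfl
        refine ⟨hα, hQ'T, fun x => hQ'T (α x).2, _, restrict_mem F hβ' hle, fun x => ?_, ?_⟩
        · exact hb x
        · ext z
          rw [map_subgroupOf_sup_eq]
          constructor
          · rintro ⟨q, rfl⟩
            exact (β _).2
          · intro hz
            refine ⟨β⁻¹ ⟨z, hz⟩, ?_⟩
            show ((β (β⁻¹ ⟨z, hz⟩) : R) : Ω) = z
            rw [MulAut.apply_inv_self]
    -- transport to `Q'`
    obtain ⟨e, he⟩ := exists_iso_of_isConj F hconj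
    have h1 : MulAut.congr e χ ∈ F.autGroup Q' := congr_mem_autGroup he hχ
    have hq1 := quad_congr e χ hquad
    -- transport to a fully `N`-normalized conjugate
    obtain ⟨Q'', hconj', hQ''⟩ := exists_fullyNormalized_conj (normalizerSystem F R hRS) hQ'T
    obtain ⟨e', he'⟩ := exists_iso_of_isConj _ hconj'
    have h1' : MulAut.congr e χ ∈ (normalizerSystem F R hRS).autGroup Q' := by
      rw [hA]
      exact h1
    have h2 := congr_mem_autGroup he' h1'
    have h3 := hstab Q'' hQ'' _ h2 (quad_congr e' _ hq1)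
    have h4 : MulAut.congr e χ ∈ ((Cfsg.pCore p ↥((normalizerSystem F R hRS).autGroup Q')).map
        ((normalizerSystem F R hRS).autGroup Q').subtype : Subgroup (MulAut ↥Q')) := by
      refine pCoreMap_of_equiv (MulAut.congr e')
        (fun a => ⟨congr_mem_autGroup he', fun h => ?_⟩) h3
      have h5 := congr_mem_autGroup he'.symm h
      have h6 : MulAut.congr e'.symm (MulAut.congr e' a) = a := by
        ext x
        show ((e'.symm (e' (a (e'.symm (e' x)))) : Q') : Ω) = a x
        rw [MulEquiv.symm_apply_apply, MulEquiv.symm_apply_apply]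
      rw [h6] at h5
      exact h5
    rw [hA] at h4
    refine pCoreMap_of_equiv (MulAut.congr e) (fun a => ⟨congr_mem_autGroup he, fun h => ?_⟩) h4
    have h5 := congr_mem_autGroup he.symm h
    have h6 : MulAut.congr e.symm (MulAut.congr e a) = a := by
      ext x
      show ((e.symm (e (a (e.symm (e x)))) : Q) : Ω) = a x
      rw [MulEquiv.symm_apply_apply, MulEquiv.symm_apply_apply]
    rw [h6] at h5
    exact h5

end Cfsg.Agent.S5281
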