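import Cfsg.Statements.S5284
import Cfsg.Agent.S5283
import Cfsg.Agent.Lib.Helper27.AbInv
import Cfsg.Agent.Lib.Helper27.AbInvNeg
import Cfsg.Agent.Lib.Helper27.FusAbelian
import Cfsg.Agent.Lib.Helper27.FusTop

set_option autoImplicit false
open Cfsg

namespace Cfsg.Agent.S5284

open Cfsg.FusionSystem Cfsg.Agent.Lib.Helper26 Cfsg.Agent.Lib.Helper27
  Cfsg.Agent.Lib.Helper27.AbInv Cfsg.Agent.Lib.Helper27.AbInvNeg

theorem isNormal_of_abelian {Ω : Type*} [Group Ω] {S : Subgroup Ω} [Finite S] {p : ℕ}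
    [Fact p.Prime] (hS : IsPGroup p ↥S) (hab : ∀ x ∈ S, ∀ y ∈ S, x * y = y * x)
    (F : Cfsg.FusionSystem S) (hF : F.IsSaturated p) : F.IsNormal S := by
  apply isNormal_top_of_le_topExt
  intro P φ hφ
  obtain ⟨α, hα, hαφ⟩ := abelian_extend hS F hF hab hφ
  exact ⟨hφ, S.subtype.comp α.toMonoidHom, (mem_autGroup_iff F le_rfl).mp hα,
    fun x _ => hαφ x⟩

/-- Let S be a finite abelian p-group. Every saturated fusion system over S is supersoluble (S has a chain of F-strongly closed subgroups from 1 to S with cyclic steps) if and only if the invariants of S are pairwise distinct, that is, S is not isomorphic to a direct product (Z/p^n × Z/p^n) × H with n ≥ 1. -/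
theorem result {Ω : Type*} [Group Ω] {S : Subgroup Ω} [Finite S] (p : ℕ) [Fact p.Prime] (hS : IsPGroup p ↥S) (hab : IsMulCommutative ↥S) : (∀ F : Cfsg.FusionSystem S, F.IsSaturated p → (∃ (m : ℕ) (c : Fin (m + 1) → Subgroup Ω), c 0 = ⊥ ∧ c (Fin.last m) = S ∧ (∀ i : Fin (m + 1), F.StronglyClosed (c i)) ∧ ∀ i : Fin m, c i.castSucc ≤ c i.succ ∧ ∃ x ∈ S, c i.succ = c i.castSucc ⊔ Subgroup.zpowers x)) ↔ ¬ ∃ (n : ℕ) (H : Type) (_ : CommGroup H), 0 < n ∧ Nonempty (↥S ≃* (Multiplicative (ZMod (p ^ n)) × Multiplicative (ZMod (p ^ n))) × H) := by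
  rw [Cfsg.Agent.S5283.result p hS]
  have hab' : ∀ x ∈ S, ∀ y ∈ S, x * y = y * x := fun x hx y hy =>
    congrArg Subtype.val (hab.is_comm.comm ⟨x, hx⟩ ⟨y, hy⟩)
  letI : CommGroup ↥S := { (inferInstance : Group ↥S) with mul_comm := hab.is_comm.comm }
  constructor
  · rintro ⟨-, hQ⟩ ⟨n, H, hH, hn, ⟨e⟩⟩
    have h1 : SmallAut p ↥S := hQ
    have h2 : SmallAut p ((Multiplicative (ZMod (p ^ n)) × Multiplicative (ZMod (p ^ n))) × H) :=
      smallAut_of_equiv e.symm h1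
    exact not_smallAut_square hn (smallAut_of_prod h2)
  · intro hno
    refine ⟨fun F hF => isNormal_of_abelian hS hab' F hF, fun K hcop => ?_⟩
    obtain ⟨n, hn⟩ := IsPGroup.iff_card.mp hS
    have hcyc := cyc_of_no_square (A := ↥S) hS hno
    obtain ⟨h1, h2⟩ := aut_of_cyc p hn hcyc K hcop
    exact ⟨⟨⟨fun a b => Subtype.ext (h1 a a.2 b b.2)⟩⟩, h2⟩

end Cfsg.Agent.S5284
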