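import Cfsg.Statements.S5286
import Cfsg.Agent.Lib.Helper27.VF.NF
import Cfsg.Agent.Lib.Helper26.VFSIG
import Cfsg.Agent.Lib.Helper26.VFT5
import Cfsg.Agent.Lib.Helper22.VFT3
import Cfsg.Agent.Lib.Helper13.VFT4

set_option autoImplicit false
universe u
open Cfsg

namespace Cfsg.Agent.S5286

open Cfsg.Agent.Lib.Helper27.VF

variable {Ω : Type u} [Group Ω] {S : Subgroup Ω}

/-- a homomorphism `P → Ω` with values in `S`, `P ≤ S`, read inside `S` -/
def liftHom (P : Subgroup Ω) (hP : P ≤ S) (φ : P →* Ω) (hφ : ∀ x : P, φ x ∈ S) :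
    P.subgroupOf S →* ↥S :=
  (φ.comp (Subgroup.subgroupOfEquivOfLe hP).toMonoidHom).codRestrict S (fun _ => hφ _)

theorem liftHom_val (P : Subgroup Ω) (hP : P ≤ S) (φ : P →* Ω) (hφ : ∀ x : P, φ x ∈ S)
    (a : P.subgroupOf S) :
    ((liftHom P hP φ hφ a : ↥S) : Ω) = φ ⟨((a : ↥S) : Ω), Subgroup.mem_subgroupOf.mp a.2⟩ := rfl

/-- the index type: all maps of the system -/
abbrev Idx (F : FusionSystem S) : Type u := Σ P : Subgroup Ω, {φ : P →* Ω // φ ∈ F.Hom P}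

/-- the map `A_i → S` -/
def fHom (F : FusionSystem S) (i : Idx F) : i.1.subgroupOf S →* ↥S :=
  liftHom i.1 (F.le_of_mem i.2.2).1 i.2.1 (F.le_of_mem i.2.2).2

theorem fHom_injective (F : FusionSystem S) (i : Idx F) : Function.Injective (fHom F i) := by
  intro a b hab
  have h1 : ((fHom F i a : ↥S) : Ω) = ((fHom F i b : ↥S) : Ω) := by rw [hab]
  unfold fHom at h1
  rw [liftHom_val, liftHom_val] at h1
  have h2 := F.injective_of_mem i.2.2 h1
  have h3 : ((a : ↥S) : Ω) = ((b : ↥S) : Ω) := congrArg (fun z : ↥i.1 => (z : Ω)) h2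
  exact Subtype.ext (Subtype.ext h3)

theorem fHom_range (F : FusionSystem S) (i : Idx F) :
    (fHom F i).range = i.2.1.range.subgroupOf S := by
  ext s
  rw [Subgroup.mem_subgroupOf]
  constructor
  · rintro ⟨a, rfl⟩
    unfold fHom
    rw [liftHom_val]
    exact ⟨_, rfl⟩
  · rintro ⟨p, hp⟩
    refine ⟨⟨⟨(p : Ω), (F.le_of_mem i.2.2).1 p.2⟩, Subgroup.mem_subgroupOf.mpr p.2⟩, ?_⟩
    apply Subtype.ext
    unfold fHom
    rw [liftHom_val]
    exact hp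

/-- the isomorphism `A_i ≃* B_i` -/
noncomputable def eI (F : FusionSystem S) (i : Idx F) :
    i.1.subgroupOf S ≃* i.2.1.range.subgroupOf S :=
  (MonoidHom.ofInjective (fHom_injective F i)).trans (MulEquiv.subgroupCongr (fHom_range F i))

theorem eI_val (F : FusionSystem S) (i : Idx F) (a : i.1.subgroupOf S) :
    (((eI F i a : i.2.1.range.subgroupOf S) : ↥S) : Ω) =
      i.2.1 ⟨((a : ↥S) : Ω), Subgroup.mem_subgroupOf.mp a.2⟩ := rfl

/-- the datum -/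
noncomputable def datum (F : FusionSystem S) [Finite S] : Datum ↥S where
  I := Idx F
  A i := i.1.subgroupOf S
  B i := i.2.1.range.subgroupOf S
  e i := eI F i
  σ i := Classical.choose (exists_perm _ _ (eI F i))
  hσ i := Classical.choose_spec (exists_perm _ _ (eI F i))

/-- the closure predicate used for `fusion_sub` -/
def CP (F : FusionSystem S) (P' : Subgroup ↥S) (ψ : P' →* ↥S) : Prop :=
  ∃ (P₁ : Subgroup Ω) (φ₁ : P₁ →* Ω), φ₁ ∈ F.Hom P₁ ∧ P₁.subgroupOf S = P' ∧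
    ∀ (u : P') (hu : ((u : ↥S) : Ω) ∈ P₁), φ₁ ⟨((u : ↥S) : Ω), hu⟩ = ((ψ u : ↥S) : Ω)

theorem CP_mem_of_mem {P' : Subgroup ↥S} {P₁ : Subgroup Ω}
    (hsub : P₁.subgroupOf S = P') (hP₁ : P₁ ≤ S) (x : P₁) :
    (⟨(x : Ω), hP₁ x.2⟩ : ↥S) ∈ P' := by
  rw [← hsub, Subgroup.mem_subgroupOf]
  exact x.2

theorem CP1 (F : FusionSystem S) (P' : Subgroup ↥S) (s : ↥S) :
    CP F P' ((MulAut.conj s).toMonoidHom.comp P'.subtype) := by
  refine ⟨P'.map S.subtype, conjHom _ (s : Ω), F.conj_mem (Subgroup.map_subtype_le P') s.2, ?_, ?_⟩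
  · ext t
    rw [Subgroup.mem_subgroupOf, Subgroup.mem_map]
    constructor
    · rintro ⟨t', ht', h⟩
      have : t' = t := Subtype.ext h
      rwa [← this]
    · intro ht
      exact ⟨t, ht, rfl⟩
  · intro u hu
    rfl

theorem CP2 (F : FusionSystem S) [Finite S] (P' : Subgroup ↥S) (ψ : P' →* ↥S) (i : Idx F)
    (h : ∀ u, ψ u ∈ i.1.subgroupOf S) (hC : CP F P' ψ) :
    CP F P' ((i.2.1.range.subgroupOf S).subtype.comp
      ((eI F i).toMonoidHom.comp (ψ.codRestrict (i.1.subgroupOf S) h))) := by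
  obtain ⟨P₁, φ₁, hφ₁, hsub, hval⟩ := hC
  have hP₁ := (F.le_of_mem hφ₁).1
  have hcod : ∀ x : P₁, φ₁ x ∈ i.1 := by
    intro x
    have h1 := hval ⟨⟨(x : Ω), hP₁ x.2⟩, CP_mem_of_mem hsub hP₁ x⟩ x.2
    have h2 : φ₁ x = _ := h1
    rw [h2]
    exact Subgroup.mem_subgroupOf.mp (h _)
  refine ⟨P₁, i.2.1.comp (φ₁.codRestrict i.1 hcod), F.comp_mem hφ₁ i.2.2 hcod, hsub, ?_⟩
  intro u hu
  show i.2.1 ⟨φ₁ ⟨((u : ↥S) : Ω), hu⟩, _⟩ = _
  have h3 : (((eI F i ⟨ψ u, h u⟩ : i.2.1.range.subgroupOf S) : ↥S) : Ω) =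
      i.2.1 ⟨((ψ u : ↥S) : Ω), Subgroup.mem_subgroupOf.mp (h u)⟩ := eI_val F i _
  refine Eq.trans ?_ h3.symm
  exact congrArg i.2.1 (Subtype.ext (hval u hu))

theorem CP3 (F : FusionSystem S) [Finite S] (P' : Subgroup ↥S) (ψ : P' →* ↥S) (i : Idx F)
    (h : ∀ u, ψ u ∈ i.2.1.range.subgroupOf S) (hC : CP F P' ψ) :
    CP F P' ((i.1.subgroupOf S).subtype.comp
      ((eI F i).symm.toMonoidHom.comp (ψ.codRestrict (i.2.1.range.subgroupOf S) h))) := by
  obtain ⟨P₁, φ₁, hφ₁, hsub, hval⟩ := hC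
  have hP₁ := (F.le_of_mem hφ₁).1
  obtain ⟨χ, hχ, hχv⟩ := F.inv_mem i.2.2
  have hcod : ∀ x : P₁, φ₁ x ∈ i.2.1.range := by
    intro x
    have h1 := hval ⟨⟨(x : Ω), hP₁ x.2⟩, CP_mem_of_mem hsub hP₁ x⟩ x.2
    have h2 : φ₁ x = _ := h1
    rw [h2]
    exact Subgroup.mem_subgroupOf.mp (h _)
  refine ⟨P₁, χ.comp (φ₁.codRestrict i.2.1.range hcod), F.comp_mem hφ₁ hχ hcod, hsub, ?_⟩
  intro u hu
  show χ ⟨φ₁ ⟨((u : ↥S) : Ω), hu⟩, _⟩ = _
  set a := (eI F i).symm ⟨ψ u, h u⟩ with ha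
  have h3 : ((ψ u : ↥S) : Ω) = i.2.1 ⟨((a : ↥S) : Ω), Subgroup.mem_subgroupOf.mp a.2⟩ := by
    rw [← eI_val F i a, ha, MulEquiv.apply_symm_apply]
  have h4 : (⟨φ₁ ⟨((u : ↥S) : Ω), hu⟩, hcod _⟩ : i.2.1.range) =
      ⟨i.2.1 ⟨((a : ↥S) : Ω), Subgroup.mem_subgroupOf.mp a.2⟩, ⟨_, rfl⟩⟩ := by
    apply Subtype.ext
    show φ₁ ⟨((u : ↥S) : Ω), hu⟩ = _
    rw [hval u hu, h3]
  rw [h4, hχv]
  rfl

theorem CP4 (F : FusionSystem S) (P' : Subgroup ↥S) (ψ : P' →* ↥S) (s : ↥S) (hC : CP F P' ψ) :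
    CP F P' ((MulAut.conj s).toMonoidHom.comp ψ) := by
  obtain ⟨P₁, φ₁, hφ₁, hsub, hval⟩ := hC
  have hcod : ∀ x : P₁, φ₁ x ∈ S := (F.le_of_mem hφ₁).2
  refine ⟨P₁, (conjHom S (s : Ω)).comp (φ₁.codRestrict S hcod),
    F.comp_mem hφ₁ (F.conj_mem le_rfl s.2) hcod, hsub, ?_⟩
  intro u hu
  show (s : Ω) * φ₁ ⟨((u : ↥S) : Ω), hu⟩ * (s : Ω)⁻¹ = _
  rw [hval u hu]
  rfl

theorem realized (F : FusionSystem S) [Finite S] :
    F.IsRealizedBy (datum F).ι := by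
  set D := datum F with hD
  refine ⟨?_, ?_⟩
  · intro a b hab
    apply ι₀_injective D
    exact congrArg Subtype.val hab
  · intro P hP φ hφ
    constructor
    · intro hmem
      let i : Idx F := ⟨P, φ, hmem⟩
      refine ⟨⟨D.t i, D.t_mem i⟩, ?_⟩
      intro x
      apply Subtype.ext
      have h1 := t_rel D i ⟨⟨(x : Ω), hP x.2⟩, Subgroup.mem_subgroupOf.mpr x.2⟩
      show D.ι₀ ⟨φ x, hφ x⟩ = D.t i * D.ι₀ ⟨(x : Ω), hP x.2⟩ * (D.t i)⁻¹
      rw [h1]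
      congr 1
    · rintro ⟨g, hg⟩
      have h1 : CP F (P.subgroupOf S) (liftHom P hP φ hφ) := by
        refine fusion_sub D (CP F) (CP1 F) (fun P' ψ i h hC => CP2 F P' ψ i h hC)
          (fun P' ψ i h hC => CP3 F P' ψ i h hC) (CP4 F) (g : D.G₀) g.2 _ _ ?_
        intro u
        have := hg ⟨((u : ↥S) : Ω), Subgroup.mem_subgroupOf.mp u.2⟩
        exact congrArg Subtype.val this
      obtain ⟨P₁, φ₁, hφ₁, hsub, hval⟩ := h1
      have hP₁ := (F.le_of_mem hφ₁).1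
      have hPP : P₁ = P := by
        have := Subgroup.subgroupOf_inj.mp hsub
        rwa [inf_eq_left.mpr hP₁, inf_eq_left.mpr hP] at this
      subst hPP
      have : φ₁ = φ := by
        ext x
        exact hval ⟨⟨(x : Ω), hP x.2⟩, Subgroup.mem_subgroupOf.mpr x.2⟩ x.2
      rw [← this]
      exact hφ₁

theorem finite_conj' (F : FusionSystem S) [Finite S] (H : Subgroup ↥(datum F).G) (hH : Finite ↥H) :
    ∃ g : ↥(datum F).G, ∀ h ∈ H, g * h * g⁻¹ ∈ (datum F).ι.range := by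
  have hfin : Finite ↥(H.map (datum F).G.subtype) :=
    Finite.of_equiv _
      (H.equivMapOfInjective (datum F).G.subtype (datum F).G.subtype_injective).toEquiv
  obtain ⟨g, hg, hall⟩ := finite_conj (datum F) (H.map (datum F).G.subtype)
    (Subgroup.map_subtype_le H)
  refine ⟨⟨g, hg⟩, ?_⟩
  intro h hh
  obtain ⟨s, hs⟩ := hall (h : (datum F).G₀) (Subgroup.mem_map_of_mem _ hh)
  exact ⟨s, Subtype.ext hs⟩

/-- Every fusion system F over a finite p-group S, saturated or not, is realized by a possibly infinite group: there are a group G and an injective homomorphism ι of S into G such that the maps of F are exactly the conjugations by elements of G between subgroups of ι(S), every finite subgroup of G is conjugate to a subgroup of ι(S), and G has a free normal subgroup whose index divides (#S)!. -/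
theorem result {Ω : Type u} [Group Ω] {S : Subgroup Ω} [Finite S] (p : ℕ) [Fact p.Prime] (hS : IsPGroup p ↥S) (F : Cfsg.FusionSystem S) : ∃ (G : Type u) (_ : Group G) (ι : ↥S →* G), F.IsRealizedBy ι ∧ (∀ H : Subgroup G, Finite ↥H → ∃ g : G, ∀ h ∈ H, g * h * g⁻¹ ∈ ι.range) ∧ ∃ N : Subgroup G, N.Normal ∧ IsFreeGroup ↥N ∧ N.index ∣ (Nat.card ↥S).factorial := by
  exact ⟨↥(datum F).G, inferInstance, (datum F).ι, realized F, finite_conj' F,
    exists_free_normal (datum F) (datum F).G⟩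

end Cfsg.Agent.S5286
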