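import Cfsg.Statements.S5287
import Cfsg.Agent.S5283
import Cfsg.Agent.S5284
import Cfsg.Agent.S5212
import Cfsg.Agent.S5234
import Cfsg.Agent.Lib.Helper27.MSS.Base
import Cfsg.Agent.Lib.Helper27.MSSMSD
import Cfsg.Agent.Lib.Helper29.MSSMQ
import Cfsg.Agent.Lib.Helper20.MSSMDcore
import Cfsg.Agent.Lib.Helper22.MSSNT
import Cfsg.Agent.Lib.Helper27.MSSDATA
import Cfsg.Agent.Lib.Helper12.MSSCARD1
import Cfsg.Agent.Lib.Helper19.MSSQDTC
import Cfsg.Agent.Lib.Helper19.MSSSYLcore
import Cfsg.Agent.Lib.Helper11.MSSNR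
import Cfsg.Agent.Lib.Helper1.MSSV4
import Cfsg.Agent.Lib.Helper12.MSSQ8
import Cfsg.Agent.Lib.Helper1.MSSPOW2
import Cfsg.Agent.Lib.Helper11.MSSAB
import Cfsg.Agent.Lib.Helper21.MSSODD
import Cfsg.Agent.Lib.Helper22.MSSTWO

set_option autoImplicit false
open Cfsg

namespace Cfsg.Agent.S5287

open Cfsg.FusionSystem Cfsg.Agent.Lib.Helper26 Cfsg.Agent.Lib.Helper27
  Cfsg.Agent.Lib.Helper27.AbInvNeg Cfsg.Agent.Lib.Helper27.MSS

/-- the dihedral family (wrapper around `mssmd_of_data`) -/
theorem badModel_dih' (j : ℕ) (hj : 2 ≤ j) : HasBadModel 2 (DihedralGroup (2 ^ j)) := by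
  obtain ⟨q, hqp, hq⟩ := exists_prime_mod (j + 1) (by omega)
  have : Fact q.Prime := ⟨hqp⟩
  obtain ⟨D⟩ := exists_glData q (j + 1) (by omega) hq
  obtain ⟨T, hT⟩ := msssyl_core q (j + 1) D (card_gl_two q (j + 1) (by omega) hq)
    (qdt_card (by omega) D.hr D.hs D.hrs)
  exact mssmd_of_data j hj q D T hT

theorem result {Ω : Type*} [Group Ω] {S : Subgroup Ω} [Finite S] (p : ℕ) [Fact p.Prime] (hS : IsPGroup p ↥S) (hm : Cfsg.IsMetacyclic ↥S) : (∀ F : Cfsg.FusionSystem S, F.IsSaturated p → (∃ (m : ℕ) (c : Fin (m + 1) → Subgroup Ω), c 0 = ⊥ ∧ c (Fin.last m) = S ∧ (∀ i : Fin (m + 1), F.StronglyClosed (c i)) ∧ ∀ i : Fin m, c i.castSucc ≤ c i.succ ∧ ∃ x ∈ S, c i.succ = c i.castSucc ⊔ Subgroup.zpowers x)) ↔ ¬ ((∃ n : ℕ, 0 < n ∧ Nonempty (↥S ≃* Multiplicative (ZMod (p ^ n)) × Multiplicative (ZMod (p ^ n)))) ∨ (p = 2 ∧ ((∃ n : ℕ, 2 ≤ n ∧ Nonempty (↥S ≃* DihedralGroup n)) ∨ Cfsg.IsQuasiDihedral ↥S ∨ (∃ n : ℕ, 2 ≤ n ∧ Nonempty (↥S ≃* QuaternionGroup n))))) := by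
  constructor
  · intro hyp hshape
    obtain ⟨hres, haut⟩ := (Cfsg.Agent.S5283.result p hS).mp hyp
    have hbad : HasBadModel p ↥S → False := by
      intro hb
      obtain ⟨F, hF, hn⟩ := not_resistant_of_badModel hb
      exact hn (hres F hF)
    rcases hshape with ⟨n, hn, ⟨e⟩⟩ | ⟨rfl, ⟨n, hn, ⟨e⟩⟩ | hqd | ⟨n, hn, ⟨e⟩⟩⟩
    · exact not_smallAut_square hn (smallAut_of_equiv e.symm haut)
    · obtain ⟨j, rfl⟩ := dihedral_pow_two hS n e
      have hj1 : 1 ≤ j := by
        rcases j with _ | j
        · simp at hn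
        · omega
      rcases Nat.lt_or_ge j 2 with hj | hj
      · have hj' : j = 1 := by omega
        subst hj'
        exact not_smallAut_dihedral_two (smallAut_of_equiv e.symm haut)
      · exact hbad ((badModel_dih' j hj).of_equiv e)
    · exact hbad (badModel_qd hqd)
    · obtain ⟨j, rfl⟩ := quaternion_pow_two hS n e
      have hj1 : 1 ≤ j := by
        rcases j with _ | j
        · simp at hn
        · omega
      rcases Nat.lt_or_ge j 2 with hj | hj
      · have hj' : j = 1 := by omega
        subst hj'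
        exact not_smallAut_quaternion_two (smallAut_of_equiv e.symm haut)
      · exact hbad ((badModel_quat j hj).of_equiv e)
  · intro hno
    have hno1 : ¬ ∃ n : ℕ, 0 < n ∧
        Nonempty (↥S ≃* Multiplicative (ZMod (p ^ n)) × Multiplicative (ZMod (p ^ n))) :=
      fun h => hno (Or.inl h)
    by_cases hab : ∀ a b : ↥S, a * b = b * a
    · have hab' : IsMulCommutative ↥S := ⟨⟨hab⟩⟩
      exact (Cfsg.Agent.S5284.result p hS hab').mpr (no_square_of_metacyclic hS hm hno1)
    · refine (Cfsg.Agent.S5283.result p hS).mpr ?_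
      by_cases hp : p = 2
      · subst hp
        have h1 : ¬ ∃ n : ℕ, 2 ≤ n ∧ Nonempty (↥S ≃* DihedralGroup n) :=
          fun h => hno (Or.inr ⟨rfl, Or.inl h⟩)
        have h2 : ¬ Cfsg.IsQuasiDihedral ↥S := fun h => hno (Or.inr ⟨rfl, Or.inr (Or.inl h)⟩)
        have h3 : ¬ ∃ n : ℕ, 2 ≤ n ∧ Nonempty (↥S ≃* QuaternionGroup n) :=
          fun h => hno (Or.inr ⟨rfl, Or.inr (Or.inr h)⟩)
        apply two_case hS
        intro F hF
        refine Cfsg.Agent.S5212.result hS F hF hm ?_ ?_ ?_ h2
        · rintro ⟨n, k, ⟨e⟩⟩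
          apply hab
          intro a b
          apply e.injective
          rw [map_mul, map_mul, mul_comm]
        · rintro ⟨m, ⟨e⟩⟩
          rcases Nat.lt_or_ge m 2 with hm2 | hm2
          · interval_cases m
            · have hinf : Infinite (DihedralGroup 0) :=
                Infinite.of_injective (DihedralGroup.r : ZMod 0 → DihedralGroup 0)
                  (fun a b h => by injection h)
              exact hinf.not_finite (Finite.of_equiv _ e.toEquiv)
            · apply hab
              intro a b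
              apply e.injective
              rw [map_mul, map_mul]
              generalize e a = x
              generalize e b = y
              revert x y
              decide
          · exact h1 ⟨m, hm2, ⟨e⟩⟩
        · rintro ⟨m, ⟨e⟩⟩
          rcases Nat.lt_or_ge m 2 with hm2 | hm2
          · interval_cases m
            · have hZ : Infinite (ZMod (2 * 0)) := (inferInstance : Infinite ℤ)
              have hinf : Infinite (QuaternionGroup 0) :=
                Infinite.of_injective (QuaternionGroup.a : ZMod (2 * 0) → QuaternionGroup 0)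
                  (fun a b h => by injection h)
              exact hinf.not_finite (Finite.of_equiv _ e.toEquiv)
            · apply hab
              intro a b
              apply e.injective
              rw [map_mul, map_mul]
              generalize e a = x
              generalize e b = y
              revert x y
              decide
          · exact h3 ⟨m, hm2, ⟨e⟩⟩
      · refine ⟨fun F hF => ?_, smallAut_odd_meta hp hS hm hab⟩
        exact Cfsg.Agent.S5234.result p hS F hF S
          ⟨le_refl S, fun R _ φ hφ x => (F.le_of_mem hφ).2 x⟩ hp hm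

end Cfsg.Agent.S5287
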