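import Cfsg.Statements.S5290
import Cfsg.Agent.S5106
import Cfsg.Agent.Lib.Helper27.FusNormal
import Cfsg.Agent.Lib.Helper27.FusInner

set_option autoImplicit false
open Cfsg

namespace Cfsg.Agent.S5290

open Cfsg.FusionSystem Cfsg.Agent.Lib.Helper26 Cfsg.Agent.Lib.Helper27

/-- Let F be a saturated fusion system over a finite p-group S and Q a subgroup of S. Then Q is normal in F (F = N_F(Q)) if and only if the inner fusion system of Q, consisting of the conjugations by elements of Q on subgroups of Q, is a weakly normal subsystem of F (both saturated, Q strongly closed, invariant under F-conjugation, with the Frattini property). -/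
theorem result {Ω : Type*} [Group Ω] {S : Subgroup Ω} [Finite S] (p : ℕ) [Fact p.Prime] (hS : IsPGroup p S)
    (F : Cfsg.FusionSystem S) (hF : F.IsSaturated p)
    (Q : Subgroup Ω) (hQ : Q ≤ S) :
    F.IsNormal Q ↔ (Cfsg.innerFusionSystem Q).IsWeaklyNormalIn F p := by
  have hfinQ : Finite Q := finite_of_le hQ
  constructor
  · intro hN
    refine ⟨inner_saturated (hS.to_le hQ), hF, ?_, stronglyClosed_of_isNormal F hN, ?_, ?_⟩
    · rintro P φ ⟨hPQ, g, hg, h⟩
      exact mem_of_forall_eq F (F.conj_mem (hPQ.trans hQ) (hQ hg)) (fun x => h x)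
    · intro P hPT φ hφ α hα
      obtain ⟨-, g, hg, h⟩ := hφ
      have hle : (P.subgroupOf Q).map (Q.subtype.comp α.toMonoidHom) ≤ Q := by
        rintro _ ⟨y, -, rfl⟩
        exact (α y).2
      refine ⟨conjHom _ ((α ⟨g, hg⟩ : Q) : Ω), ⟨hle, _, (α ⟨g, hg⟩).2, fun x => rfl⟩,
        fun x hφx hαx => ?_⟩
      show ((α ⟨g, hg⟩ : Q) : Ω) * ((α ⟨x, hPT x.2⟩ : Q) : Ω) * ((α ⟨g, hg⟩ : Q) : Ω)⁻¹ = _
      have e : (⟨φ x, hφx⟩ : Q) = ⟨g, hg⟩ * ⟨x, hPT x.2⟩ * (⟨g, hg⟩ : Q)⁻¹ := by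
        apply Subtype.ext
        exact h x
      rw [e, map_mul, map_mul, map_inv]
      rfl
    · intro P hPQ φ hφ
      obtain ⟨α, hα, hαφ⟩ := (Cfsg.Agent.S5106.result p hS F hF Q hQ).mp hN P hPQ φ hφ
      refine ⟨α, hα, P.subtype, subtype_mem _ hPQ, fun x hx => ?_⟩
      exact (hαφ x).symm
  · rintro ⟨-, -, -, hsc, -, hfr⟩
    rw [Cfsg.Agent.S5106.result p hS F hF Q hQ]
    intro P hPQ φ hφ
    obtain ⟨α, hα, φ₀, ⟨-, g, hg, hg'⟩, hx⟩ := hfr P hPQ φ hφ
    have hgN : g ∈ Subgroup.normalizer (Q : Set Ω) := Subgroup.le_normalizer hg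
    have hc : conjAut Q g hgN ∈ F.autGroup Q :=
      autInducedBy_le_autGroup F hQ (conjAut_mem_autInducedBy (hQ hg) hgN)
    refine ⟨α * conjAut Q g hgN, Subgroup.mul_mem _ hα hc, fun x => ?_⟩
    have hmem : φ₀ x ∈ Q := by
      rw [hg' x]
      exact Q.mul_mem (Q.mul_mem hg (hPQ x.2)) (Q.inv_mem hg)
    rw [hx x hmem, MulAut.mul_apply]
    congr 2
    apply Subtype.ext
    rw [conjAut_apply]
    exact (hg' x).symm

end Cfsg.Agent.S5290
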