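import Cfsg.Statements.S5291
import Cfsg.Agent.Lib.Helper27.FusInvariant
import Cfsg.Agent.Lib.Helper27.FusJoin
import Cfsg.Agent.Lib.Helper27.FusNormal

set_option autoImplicit false
open Cfsg

namespace Cfsg.Agent.S5291

open Cfsg.FusionSystem Cfsg.Agent.Lib.Helper26 Cfsg.Agent.Lib.Helper27
open scoped commutatorElement

variable {Ω : Type*} [Group Ω] {S : Subgroup Ω}

theorem main [Finite S] (p : ℕ) [Fact p.Prime] (hS : IsPGroup p S)
    (F : FusionSystem S) (hF : F.IsSaturated p)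
    {T : Subgroup Ω} (E : FusionSystem T) (hE : E.IsWeaklyNormalIn F p)
    (R : Subgroup Ω) (hR : E.IsNormal R) (Q : Subgroup Ω)
    (hQdef : Q = Subgroup.closure {x : Ω | ∃ φ ∈ F.Hom R, ∃ r : R, x = φ r}) :
    F.IsNormal Q := by
  obtain ⟨hEsat, -, hinv⟩ := hE
  have hT : F.StronglyClosed T := hinv.2.1
  have hTS : T ≤ S := hT.1
  have hfinT : Finite T := finite_of_le hTS
  have hTp : IsPGroup p T := hS.to_le hTS
  have hRT : R ≤ T := hR.1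
  have hRsc : E.StronglyClosed R := stronglyClosed_of_isNormal E hR
  have hQT : Q ≤ T := by
    rw [hQdef, Subgroup.closure_le]
    rintro _ ⟨φ, hφ, r, rfl⟩
    exact hT.2 R hRT φ hφ r
  have hi : ∀ α ∈ F.autGroup T, preAut α⁻¹ R ≤ Q := by
    intro α hα y hy
    obtain ⟨hyT, hy'⟩ := mem_preAut.mp hy
    have hφ : (T.subtype.comp α.toMonoidHom).comp (Subgroup.inclusion hRT) ∈ F.Hom R :=
      restrict_mem F ((mem_autGroup_iff F hTS).mp hα) hRT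
    rw [hQdef]
    refine Subgroup.subset_closure ⟨_, hφ, ⟨_, hy'⟩, ?_⟩
    show y = ((α (Subgroup.inclusion hRT ⟨_, hy'⟩) : T) : Ω)
    have e : Subgroup.inclusion hRT ⟨(((α⁻¹ : MulAut T) ⟨y, hyT⟩ : T) : Ω), hy'⟩ =
        (α⁻¹ : MulAut T) ⟨y, hyT⟩ := Subtype.ext rfl
    rw [e, MulAut.apply_inv_self]
  have hpred := sSup_mem_of_sup_closed T (fun X => E.IsNormal X ∧ X ≤ Q) (fun X h => h.1.1)
    ⟨isNormal_bot E, bot_le⟩ (fun X Y hX hY => ⟨isNormal_sup E hX.1 hY.1, sup_le hX.2 hY.2⟩)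
  have hQle : Q ≤ sSup {X | E.IsNormal X ∧ X ≤ Q} := by
    have h1 : Subgroup.closure {x : Ω | ∃ φ ∈ F.Hom R, ∃ r : R, x = φ r} ≤
        sSup {X | E.IsNormal X ∧ X ≤ Q} := by
      rw [Subgroup.closure_le]
      rintro _ ⟨φ, hφ, r, rfl⟩
      obtain ⟨α, hα, φ₀, hφ₀, h⟩ := hinv.2.2.2 R hRT φ hφ
      have hφ₀r : φ₀ r ∈ R := hRsc.2 R le_rfl φ₀ hφ₀ r
      have hmem : φ r ∈ preAut α⁻¹ R := by
        rw [h r (hRT hφ₀r)]
        exact apply_mem_preAut_inv α hφ₀r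
      exact (le_sSup (⟨preAut_isNormal hTp hEsat hinv ((F.autGroup T).inv_mem hα) hR,
        hi α hα⟩ : E.IsNormal (preAut α⁻¹ R) ∧ preAut α⁻¹ R ≤ Q) :
          preAut α⁻¹ R ≤ sSup {X | E.IsNormal X ∧ X ≤ Q}) hmem
    rw [hQdef]
    rw [hQdef] at h1
    exact h1
  have hQeq : sSup {X | E.IsNormal X ∧ X ≤ Q} = Q :=
    le_antisymm (sSup_le fun X hX => hX.2) hQle
  have hQE : E.IsNormal Q := by
    have := hpred.1
    rwa [hQeq] at this
  have hQinv : ∀ β ∈ F.autGroup T, ∀ x : T, (x : Ω) ∈ Q → ((β x : T) : Ω) ∈ Q := by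
    intro β hβ
    have key : Subgroup.closure {x : Ω | ∃ φ ∈ F.Hom R, ∃ r : R, x = φ r} ≤ preAut β Q := by
      rw [Subgroup.closure_le]
      rintro _ ⟨φ, hφ, r, rfl⟩
      have hφT : ∀ x : R, φ x ∈ T := fun x => hT.2 R hRT φ hφ x
      refine mem_preAut.mpr ⟨hφT r, ?_⟩
      have hψ := F.comp_mem hφ ((mem_autGroup_iff F hTS).mp hβ) hφT
      rw [hQdef]
      exact Subgroup.subset_closure ⟨_, hψ, r, rfl⟩
    intro x hx
    rw [hQdef] at hx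
    obtain ⟨_, h⟩ := mem_preAut.mp (key hx)
    exact h
  obtain ⟨m, hm⟩ := exists_ucs_eq hS (hQT.trans hTS)
  refine isNormal_of_chain hS F hF Q m (fun i => ucs Q i) (ucs_zero Q) ?_
    (fun i => ⟨?_, ?_⟩)
  · show ucs Q ((Fin.last m : Fin (m + 1)) : ℕ) = Q
    rw [Fin.val_last, hm]
  · refine stronglyClosed_of_invSC hinv ⟨stronglyClosed_ucs_of_isNormal E hQE _,
      fun β hβ x hx => ?_⟩
    have hxQ : (x : Ω) ∈ Q := ucs_le Q _ hx
    let e : Q ≃* Q :=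
      { toFun := fun q => ⟨β ⟨q, hQT q.2⟩, hQinv β hβ _ q.2⟩
        invFun := fun q => ⟨(β⁻¹ : MulAut T) ⟨q, hQT q.2⟩,
          hQinv β⁻¹ ((F.autGroup T).inv_mem hβ) _ q.2⟩
        left_inv := by
          intro q
          apply Subtype.ext
          show (((β⁻¹ : MulAut T) ⟨((β ⟨q, hQT q.2⟩ : T) : Ω), _⟩ : T) : Ω) = q
          have e1 : (⟨((β ⟨q, hQT q.2⟩ : T) : Ω), (β ⟨q, hQT q.2⟩).2⟩ : T) = β ⟨q, hQT q.2⟩ := rfl
          rw [e1, MulAut.inv_apply_self]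
        right_inv := by
          intro q
          apply Subtype.ext
          show ((β ⟨(((β⁻¹ : MulAut T) ⟨q, hQT q.2⟩ : T) : Ω), _⟩ : T) : Ω) = q
          have e1 : (⟨(((β⁻¹ : MulAut T) ⟨q, hQT q.2⟩ : T) : Ω),
              ((β⁻¹ : MulAut T) ⟨q, hQT q.2⟩).2⟩ : T) = (β⁻¹ : MulAut T) ⟨q, hQT q.2⟩ := rfl
          rw [e1, MulAut.apply_inv_self]
        map_mul' := by
          intro a b
          apply Subtype.ext
          show ((β ⟨((a * b : Q) : Ω), _⟩ : T) : Ω) =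
            ((β ⟨a, hQT a.2⟩ : T) : Ω) * ((β ⟨b, hQT b.2⟩ : T) : Ω)
          have e1 : (⟨((a * b : Q) : Ω), hQT (a * b).2⟩ : T) =
              ⟨a, hQT a.2⟩ * ⟨b, hQT b.2⟩ := rfl
          rw [e1, map_mul]
          rfl }
    have h1 := apply_mem_ucs e (x := ⟨x, hxQ⟩) hx
    exact h1
  · show ⁅Q, ucs Q ((i.succ : Fin (m + 1)) : ℕ)⁆ ≤ ucs Q ((Fin.castSucc i : Fin (m + 1)) : ℕ)
    rw [Fin.val_succ, Fin.val_castSucc]
    exact commutator_ucs_le Q i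

theorem result {Ω : Type*} [Group Ω] {S : Subgroup Ω} [Finite S] (p : ℕ) [Fact p.Prime] (hS : IsPGroup p S)
    (F : Cfsg.FusionSystem S) (hF : F.IsSaturated p)
    {T : Subgroup Ω} (E : Cfsg.FusionSystem T) (hE : E.IsWeaklyNormalIn F p)
    (R : Subgroup Ω) (hR : E.IsNormal R) :
    F.IsNormal (Subgroup.closure {x : Ω | ∃ φ ∈ F.Hom R, ∃ r : R, x = φ r}) := by
  exact main p hS F hF E hE R hR _ rfl

end Cfsg.Agent.S5291
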