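import Cfsg.Statements.S5294
import Cfsg.Agent.Lib.Helper27.FusNormal
import Cfsg.Agent.Lib.Helper27.TraceFactor

set_option autoImplicit false
universe u
open Cfsg

namespace Cfsg.Agent.S5294

open Cfsg.FusionSystem Cfsg.Agent.Lib.Helper26 Cfsg.Agent.Lib.Helper27
open scoped IsMulCommutative

/-- Let F be a saturated fusion system over a finite p-group S whose centre Z(S) lies in the largest subgroup O_p(F) normal in F. Then the centre Z(F) of F is a direct factor of Z(S): there is a subgroup K of Z(S) with Z(F) ∩ K = 1 and Z(F)K = Z(S). -/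
theorem result {Ω : Type u} [Group Ω] {S : Subgroup Ω} [Finite S] (p : ℕ) [Fact p.Prime] (hS : IsPGroup p S)
    (F : Cfsg.FusionSystem S) (hF : F.IsSaturated p) (hZ : (S ⊓ Subgroup.centralizer (S : Set Ω)) ≤ F.core) :
    ∃ K : Subgroup Ω, K ≤ (S ⊓ Subgroup.centralizer (S : Set Ω)) ∧ F.center ⊓ K = ⊥ ∧ F.center ⊔ K = (S ⊓ Subgroup.centralizer (S : Set Ω)) := by
  have hp : p.Prime := Fact.out
  have hQn : F.IsNormal F.core := isNormal_core F
  have hQS : F.core ≤ S := hQn.1
  have hfinQ : Finite F.core := finite_of_le hQS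
  have hfn := fullyNormalized_of_isNormal F hQn
  obtain ⟨-, ⟨-, R, hR⟩, -⟩ := saturated_fullyNormalized hS F hF hfn
  -- the action on the centre of `Q`
  let ρ : F.autGroup F.core →* MulAut (Subgroup.center F.core) :=
    (MulAut.characteristic (Subgroup.center F.core)).comp (F.autGroup F.core).subtype
  have hρ : ∀ (a : F.autGroup F.core) (v : Subgroup.center F.core),
      (((ρ a v : Subgroup.center F.core) : F.core) : Ω) = ((a : MulAut F.core) (v : F.core) : F.core) :=
    fun a v => rfl
  let ι : Subgroup.center F.core →* Ω := F.core.subtype.comp (Subgroup.center F.core).subtype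
  have hι : Function.Injective ι :=
    (Subgroup.subtype_injective _).comp (Subgroup.subtype_injective _)
  have hUidx : ¬ p ∣ ((autInducedBy S F.core).subgroupOf (F.autGroup F.core)).index := by
    rw [← hR]
    exact R.not_dvd_index
  have hcop : (((autInducedBy S F.core).subgroupOf (F.autGroup F.core)).index).Coprime
      (Nat.card (Subgroup.center F.core)) := by
    have hVp : IsPGroup p (Subgroup.center F.core) := (hS.to_le hQS).to_subgroup _
    obtain ⟨k, hk⟩ := IsPGroup.iff_card.mp hVp
    rw [hk]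
    apply Nat.Coprime.pow_right
    exact ((Nat.Prime.coprime_iff_not_dvd hp).mpr hUidx).symm
  -- elements of Z(S) are in the centre of Q
  have hcenter : ∀ x : Ω, x ∈ S ⊓ Subgroup.centralizer (S : Set Ω) →
      ∃ v : Subgroup.center F.core, ι v = x := by
    intro x hx
    have hxQ : x ∈ F.core := hZ hx
    refine ⟨⟨⟨x, hxQ⟩, ?_⟩, rfl⟩
    rw [Subgroup.mem_center_iff]
    intro q
    apply Subtype.ext
    exact (Subgroup.mem_centralizer_iff.mp hx.2 q (hQS q.2))
  have hZS : S ⊓ Subgroup.centralizer (S : Set Ω) =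
      (fixedPts (V := Subgroup.center F.core) ρ ((autInducedBy S F.core).subgroupOf (F.autGroup F.core))).map ι := by
    apply le_antisymm
    · intro x hx
      obtain ⟨v, rfl⟩ := hcenter x hx
      refine ⟨v, ?_, rfl⟩
      rintro ⟨α, hαA⟩ ha
      obtain ⟨g, hg, hgα⟩ := mem_autInducedBy_iff.mp (Subgroup.mem_subgroupOf.mp ha)
      apply Subtype.ext
      apply Subtype.ext
      rw [hρ]
      show ((α (v : F.core) : F.core) : Ω) = ι v
      rw [hgα]
      have := Subgroup.mem_centralizer_iff.mp hx.2 g hg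
      show g * ι v * g⁻¹ = ι v
      rw [this, mul_inv_cancel_right]
    · rintro _ ⟨v, hv, rfl⟩
      refine ⟨hQS (v : F.core).2, ?_⟩
      apply Subgroup.mem_centralizer_iff.mpr
      intro g hg
      have hgN := mem_normalizer_of_isNormal F hQn hg
      have hu := conjAut_mem_autInducedBy (P := F.core) hg hgN
      have huA := autInducedBy_le_autGroup F hQS hu
      have h1 := hv ⟨conjAut F.core g hgN, huA⟩ (Subgroup.mem_subgroupOf.mpr hu)
      have h2 : (((ρ ⟨conjAut F.core g hgN, huA⟩ v : Subgroup.center F.core) : F.core) : Ω) = ι v := by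
        rw [h1]
        rfl
      rw [hρ] at h2
      have h3 : g * ι v * g⁻¹ = ι v := h2
      calc g * ι v = (g * ι v * g⁻¹) * g := by group
        _ = ι v * g := by rw [h3]
  have hcen : F.IsCentral F.center := isCentral_center F
  have hcenZ : F.center ≤ S ⊓ Subgroup.centralizer (S : Set Ω) := by
    intro x hx
    have hxS : x ∈ S := hcen.1 hx
    refine ⟨hxS, ?_⟩
    apply Subgroup.mem_centralizer_iff.mpr
    intro g hg
    obtain ⟨ψ, -, hext, hfix⟩ := hcen.2 S _ (F.conj_mem le_rfl hg)
    have h1 := hext ⟨x, hxS⟩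
    have h2 := hfix ⟨x, hx⟩
    have e : Subgroup.inclusion (le_sup_left : S ≤ S ⊔ F.center) ⟨x, hxS⟩ =
        Subgroup.inclusion (le_sup_right : F.center ≤ S ⊔ F.center) ⟨x, hx⟩ := rfl
    rw [e, h2] at h1
    have h3 : x = g * x * g⁻¹ := h1
    calc g * x = (g * x * g⁻¹) * g := by group
      _ = x * g := by rw [← h3]
  have hZF : F.center = (fixedPts (V := Subgroup.center F.core) ρ ⊤).map ι := by
    apply le_antisymm
    · intro x hx
      obtain ⟨v, rfl⟩ := hcenter x (hcenZ hx)
      refine ⟨v, ?_, rfl⟩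
      rintro ⟨α, hαA⟩ -
      have hαF := (mem_autGroup_iff F hQS).mp hαA
      obtain ⟨ψ, -, hext, hfix⟩ := hcen.2 F.core _ hαF
      have h1 := hext (v : F.core)
      have h2 := hfix ⟨ι v, hx⟩
      have e : Subgroup.inclusion (le_sup_left : F.core ≤ F.core ⊔ F.center) (v : F.core) =
          Subgroup.inclusion (le_sup_right : F.center ≤ F.core ⊔ F.center) ⟨ι v, hx⟩ := rfl
      rw [e, h2] at h1
      apply Subtype.ext
      apply Subtype.ext
      rw [hρ]
      exact h1.symm
    · apply le_sSup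
      have hle : (fixedPts (V := Subgroup.center F.core) ρ ⊤).map ι ≤ F.core := by
        rintro _ ⟨v, -, rfl⟩
        exact (v : F.core).2
      refine ⟨hle.trans hQS, fun P φ hφ => ?_⟩
      obtain ⟨ψ, hψ, hext, hmap⟩ := hQn.2 P φ hφ
      have hsup : P ⊔ (fixedPts (V := Subgroup.center F.core) ρ ⊤).map ι ≤ P ⊔ F.core := sup_le_sup_left hle P
      refine ⟨_, restrict_mem F hψ hsup, fun x => hext x, ?_⟩
      rintro ⟨_, v, hv, rfl⟩
      have hψQ := restrict_mem F hψ (le_sup_right : F.core ≤ P ⊔ F.core)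
      have hr := range_eq_of_isNormal F hQn hψQ
      have h1 := hv ⟨autOfHom F hψQ hr, autOfHom_mem F hψQ hr⟩ (Subgroup.mem_top _)
      have h2 : (((ρ ⟨autOfHom F hψQ hr, autOfHom_mem F hψQ hr⟩ v : Subgroup.center F.core) :
          F.core) : Ω) = ι v := by
        rw [h1]
        rfl
      rw [hρ, autOfHom_apply] at h2
      exact h2
  obtain ⟨K', hK'U, hK'inf, hK'sup⟩ := exists_compl_fixedPts (V := Subgroup.center F.core) ρ
    ((autInducedBy S F.core).subgroupOf (F.autGroup F.core)) hcop
  refine ⟨K'.map ι, ?_, ?_, ?_⟩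
  · rw [hZS]
    exact Subgroup.map_mono hK'U
  · rw [hZF, ← Subgroup.map_inf _ _ ι hι, hK'inf, Subgroup.map_bot]
  · rw [hZF, hZS, ← Subgroup.map_sup, hK'sup]

end Cfsg.Agent.S5294
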