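import Cfsg.Statements.S5295
import Cfsg.Agent.Lib.helper17.GB4
import Cfsg.Agent.Lib.helper17.CW7
import Cfsg.Agent.Lib.helper17.DF1
-- import your own Cfsg.Agent.* helpers here

set_option autoImplicit false
universe u
open Cfsg

namespace Cfsg.Agent.S5295

open Cfsg.FusionSystem Cfsg.Agent.Lib.Helper26 Cfsg.Agent.Lib.Helper27 Cfsg.Agent.Lib.helper17.CW
  Cfsg.Agent.Lib.helper17.GB Cfsg.Agent.Lib.helper17.DF Cfsg.Agent.Lib.Helper1.GNPC2

/-- Let F be a saturated fusion system over a finite p-group S with p odd. Then the centre Z(F) of F is a direct factor of Z(S): there is a subgroup K of Z(S) with Z(F) ∩ K = 1 and Z(F)K = Z(S). (At the prime 2 this can fail.) -/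
theorem result {Ω : Type u} [Group Ω] {S : Subgroup Ω} [Finite S] (p : ℕ) [Fact p.Prime] (hp : p ≠ 2) (hS : IsPGroup p S)
    (F : Cfsg.FusionSystem S) (hF : F.IsSaturated p) :
    ∃ K : Subgroup Ω, K ≤ (S ⊓ Subgroup.centralizer (S : Set Ω)) ∧ F.center ⊓ K = ⊥ ∧ F.center ⊔ K = (S ⊓ Subgroup.centralizer (S : Set Ω)) := by
  classical
  have hL : LocalHyp p 1 (thompsonFun.{u} p) := localHyp_thompson_odd hp
  obtain ⟨J, hJ⟩ : ∃ J : Subgroup Ω, J = Cfsg.thompsonSubgroupAOf S := ⟨_, rfl⟩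
  have hJS : J ≤ S := hJ ▸ tja_le S
  have hZJ : S ⊓ Subgroup.centralizer (S : Set Ω) ≤ J := hJ ▸ center_le_tja S
  have hSJ : S ≤ Subgroup.normalizer (J : Set Ω) :=
    hJ ▸ Subgroup.le_normalizer.trans (normalizer_le_normalizer_tja S)
  have hJfin : Finite ↥J := finite_of_le hJS
  -- `J` is fully normalized
  have hJn : F.IsFullyNormalized J := by
    refine ⟨hJS, fun Q _ => ?_⟩
    have h1 : normalizerIn S J = S := inf_eq_left.mpr hSJ
    rw [h1]
    exact card_le_card_of_le_of_finite (normalizerIn_le S Q)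
  obtain ⟨-, ⟨-, R, hR⟩, -⟩ := saturated_fullyNormalized hS F hF hJn
  -- the action of `Aut_F(J)` on `Z(J)`
  have hchar : ∀ (γ : MulAut ↥J) (u : ↥J), u ∈ Subgroup.center ↥J → γ u ∈ Subgroup.center ↥J := by
    intro γ u hu
    rw [Subgroup.mem_center_iff] at hu ⊢
    intro g
    have h1 := hu (γ.symm g)
    have h2 := congrArg γ h1
    rw [map_mul, map_mul, MulEquiv.apply_symm_apply] at h2
    exact h2
  let cg : CommGroup ↥(Subgroup.center ↥J) :=
    { (inferInstance : Group ↥(Subgroup.center ↥J)) with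
      mul_comm := fun a b => Subtype.ext ((Subgroup.mem_center_iff.mp a.2 (b : ↥J)).symm) }
  let act : MulDistribMulAction ↥(F.autGroup J) ↥(Subgroup.center ↥J) :=
    { smul := fun γ u => ⟨(γ : MulAut ↥J) u, hchar γ u u.2⟩
      one_smul := fun u => Subtype.ext rfl
      mul_smul := fun γ δ u => Subtype.ext rfl
      smul_mul := fun γ u v => Subtype.ext (map_mul (γ : MulAut ↥J) (u : ↥J) (v : ↥J))
      smul_one := fun γ => Subtype.ext (map_one (γ : MulAut ↥J)) }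
  have hsmul : ∀ (γ : ↥(F.autGroup J)) (u : ↥(Subgroup.center ↥J)),
      ((γ • u : ↥(Subgroup.center ↥J)) : ↥J) = (γ : MulAut ↥J) u := fun _ _ => rfl
  have hΓfin : Finite ↥(F.autGroup J) := inferInstance
  have hidx : Nat.Coprime ((autInducedBy S J).subgroupOf (F.autGroup J)).index p := by
    rw [← hR]
    have hpp : p.Prime := Fact.out
    exact ((Nat.Prime.coprime_iff_not_dvd hpp).mpr R.not_dvd_index).symm
  have hU : ∀ u : ↥(Subgroup.center ↥J), ∃ k : ℕ, u ^ (p ^ k) = 1 := by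
    intro u
    obtain ⟨k, hk⟩ := hS ⟨((u : ↥J) : Ω), hJS (u : ↥J).2⟩
    refine ⟨k, ?_⟩
    apply Subtype.ext
    apply Subtype.ext
    have := congrArg Subtype.val hk
    simpa using this
  obtain ⟨K₀, hK1, hK2, hK3⟩ := exists_complement
    ((autInducedBy S J).subgroupOf (F.autGroup J)) hidx hU
  -- membership in the image of `K₀`
  have hmemK : ∀ z : Ω, z ∈ (K₀.map (Subgroup.center ↥J).subtype).map J.subtype ↔
      ∃ (hzJ : z ∈ J) (hzc : (⟨z, hzJ⟩ : ↥J) ∈ Subgroup.center ↥J),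
        (⟨⟨z, hzJ⟩, hzc⟩ : ↥(Subgroup.center ↥J)) ∈ K₀ := by
    intro z
    constructor
    · rintro ⟨_, ⟨w, hw, rfl⟩, rfl⟩
      exact ⟨(w : ↥J).2, w.2, hw⟩
    · rintro ⟨hzJ, hzc, hw⟩
      exact ⟨⟨z, hzJ⟩, ⟨⟨⟨z, hzJ⟩, hzc⟩, hw, rfl⟩, rfl⟩
  -- elements of `Z(S)` give fixed points of `Aut_S(J)`
  have hcenJ : ∀ z : Ω, z ∈ S ⊓ Subgroup.centralizer (S : Set Ω) →
      ∃ (hzJ : z ∈ J), (⟨z, hzJ⟩ : ↥J) ∈ Subgroup.center ↥J := by
    intro z hz
    refine ⟨hZJ hz, ?_⟩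
    rw [Subgroup.mem_center_iff]
    intro g
    apply Subtype.ext
    exact (Subgroup.mem_centralizer_iff.mp (Subgroup.mem_inf.mp hz).2) g (hJS g.2)
  have hfixS : ∀ (z : Ω) (hz : z ∈ S ⊓ Subgroup.centralizer (S : Set Ω)) (hzJ : z ∈ J)
      (hzc : (⟨z, hzJ⟩ : ↥J) ∈ Subgroup.center ↥J),
      ∀ g ∈ (autInducedBy S J).subgroupOf (F.autGroup J),
        g • (⟨⟨z, hzJ⟩, hzc⟩ : ↥(Subgroup.center ↥J)) = ⟨⟨z, hzJ⟩, hzc⟩ := by
    intro z hz hzJ hzc g hg
    rw [Subgroup.mem_subgroupOf] at hg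
    obtain ⟨s, hs, hsg⟩ := mem_autInducedBy_iff.mp hg
    apply Subtype.ext
    apply Subtype.ext
    rw [hsmul, hsg]
    show s * z * s⁻¹ = z
    have := (Subgroup.mem_centralizer_iff.mp (Subgroup.mem_inf.mp hz).2) s hs
    rw [this, mul_inv_cancel_right]
  -- `K` lies in `Z(S)`
  have hKZ : (K₀.map (Subgroup.center ↥J).subtype).map J.subtype ≤
      S ⊓ Subgroup.centralizer (S : Set Ω) := by
    intro z hz
    obtain ⟨hzJ, hzc, hw⟩ := (hmemK z).mp hz
    refine Subgroup.mem_inf.mpr ⟨hJS hzJ, ?_⟩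
    rw [Subgroup.mem_centralizer_iff]
    intro s hs
    have hsN : s ∈ Subgroup.normalizer (J : Set Ω) := hSJ hs
    have hmem : conjAut J s hsN ∈ F.autGroup J :=
      autInducedBy_le_autGroup F hJS (conjAut_mem_autInducedBy hs hsN)
    have h1 := hK1 _ hw ⟨conjAut J s hsN, hmem⟩ (by
      rw [Subgroup.mem_subgroupOf]
      exact conjAut_mem_autInducedBy hs hsN)
    have h2 : s * z * s⁻¹ = z := by
      have := congrArg (fun w : ↥(Subgroup.center ↥J) => ((w : ↥J) : Ω)) h1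
      exact this
    calc s * z = (s * z * s⁻¹) * s := by group
      _ = z * s := by rw [h2]
  -- the centre of `F` lies in `Z(S)` and is fixed by `Aut_F(J)`
  have hFc := isCentral_center F
  have hFZ : F.center ≤ S ⊓ Subgroup.centralizer (S : Set Ω) := by
    intro z hz
    have hzS : z ∈ S := hFc.1 hz
    refine Subgroup.mem_inf.mpr ⟨hzS, ?_⟩
    rw [Subgroup.mem_centralizer_iff]
    intro s hs
    have h1 := fixes_of_mem_center F hz _ _ (F.conj_mem (le_refl S) hs) hzS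
    have h2 : s * z * s⁻¹ = z := h1
    calc s * z = (s * z * s⁻¹) * s := by group
      _ = z * s := by rw [h2]
  have hFfix : ∀ (z : Ω) (hz : z ∈ F.center) (hzJ : z ∈ J)
      (hzc : (⟨z, hzJ⟩ : ↥J) ∈ Subgroup.center ↥J) (γ : ↥(F.autGroup J)),
      γ • (⟨⟨z, hzJ⟩, hzc⟩ : ↥(Subgroup.center ↥J)) = ⟨⟨z, hzJ⟩, hzc⟩ := by
    intro z hz hzJ hzc γ
    have hγ := (mem_autGroup_iff F hJS).mp γ.2
    have h1 := fixes_of_mem_center F hz _ _ hγ hzJ
    apply Subtype.ext
    apply Subtype.ext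
    rw [hsmul]
    exact h1
  refine ⟨(K₀.map (Subgroup.center ↥J).subtype).map J.subtype, hKZ, ?_, ?_⟩
  · -- trivial intersection
    rw [eq_bot_iff]
    intro z hz
    obtain ⟨hzF, hzK⟩ := Subgroup.mem_inf.mp hz
    obtain ⟨hzJ, hzc, hw⟩ := (hmemK z).mp hzK
    have h1 := hK2 _ hw (hFfix z hzF hzJ hzc)
    have h2 : z = 1 := by
      have := congrArg (fun w : ↥(Subgroup.center ↥J) => ((w : ↥J) : Ω)) h1
      exact this
    rw [Subgroup.mem_bot]
    exact h2
  · -- the product is `Z(S)`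
    apply le_antisymm (sup_le hFZ hKZ)
    intro z hz
    obtain ⟨hzJ, hzc⟩ := hcenJ z hz
    obtain ⟨v, w, hv, hw, huvw⟩ := hK3 ⟨⟨z, hzJ⟩, hzc⟩ (hfixS z hz hzJ hzc)
    have hzvw : z = ((v : ↥J) : Ω) * ((w : ↥J) : Ω) := by
      have := congrArg (fun w : ↥(Subgroup.center ↥J) => ((w : ↥J) : Ω)) huvw
      exact this
    have hwK : ((w : ↥J) : Ω) ∈ (K₀.map (Subgroup.center ↥J).subtype).map J.subtype :=
      (hmemK _).mpr ⟨(w : ↥J).2, w.2, hw⟩
    have hwZ := hKZ hwK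
    have hvZ : ((v : ↥J) : Ω) ∈ S ⊓ Subgroup.centralizer (S : Set Ω) := by
      have e : ((v : ↥J) : Ω) = z * (((w : ↥J) : Ω))⁻¹ := by
        rw [hzvw, mul_inv_cancel_right]
      rw [e]
      exact Subgroup.mul_mem _ hz (Subgroup.inv_mem _ hwZ)
    have hvS : ((v : ↥J) : Ω) ∈ S := (Subgroup.mem_inf.mp hvZ).1
    have hvc : ∀ s ∈ S, s * ((v : ↥J) : Ω) = ((v : ↥J) : Ω) * s := fun s hs =>
      (Subgroup.mem_centralizer_iff.mp (Subgroup.mem_inf.mp hvZ).2) s hs
    -- `v` is fixed by the maps normalizing `J`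
    have hfix : FixOn F ((thompsonFun.{u} p).W S) (((v : ↥J) : Ω) ^ 1) := by
      rw [pow_one, thompsonFun_W, ← hJ]
      intro P φ hφ hJP hPN hinv hvP
      have hφJ : φ.comp (Subgroup.inclusion hJP) ∈ F.Hom J := restrict_mem F hφ hJP
      have hr : (φ.comp (Subgroup.inclusion hJP)).range = J := by
        apply le_antisymm
        · rintro _ ⟨x, rfl⟩
          exact hinv _ x.2
        · intro t ht
          obtain ⟨x, hxJ, hxt⟩ := exists_preimage_of_invariant hJP (F.injective_of_mem hφ)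
            hinv ht
          exact ⟨⟨x, hxJ⟩, hxt⟩
      have hα := autOfHom_mem F hφJ hr
      have h1 := hv ⟨autOfHom F hφJ hr, hα⟩
      have h2 : ((autOfHom F hφJ hr (v : ↥J) : ↥J) : Ω) = ((v : ↥J) : Ω) := by
        have := congrArg (fun w : ↥(Subgroup.center ↥J) => ((w : ↥J) : Ω)) h1
        exact this
      rw [autOfHom_apply] at h2
      exact h2
    have hall := main (thompsonFun.{u} p) hL (Nat.card S + 1) S (Nat.lt_succ_self _) hS F hF
      _ hvS hvc hfix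
    have hvF := mem_center_of_forall_centralizerHom F (S.pow_mem hvS 1) hall
    rw [pow_one] at hvF
    rw [hzvw]
    exact Subgroup.mul_mem _ ((le_sup_left : F.center ≤ _) hvF) ((le_sup_right : _ ≤ F.center ⊔ _) hwK)

end Cfsg.Agent.S5295
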