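import Cfsg.Statements.S5296
import Cfsg.Agent.Lib.helper17.BGH2
import Cfsg.Agent.Lib.Helper26.FusionHyp2
-- import your own Cfsg.Agent.* helpers here

set_option autoImplicit false
universe u
open Cfsg

namespace Cfsg.Agent.S5296

open Cfsg.FusionSystem Cfsg.Agent.Lib.Helper26 Cfsg.Agent.Lib.helper17.BGH1
  Cfsg.Agent.Lib.helper17.BGH2

/-- Small-exponent abelian subgroups of the hyperfocal subgroup control fusion. Let E and F be saturated fusion systems over the same finite p-group S with E contained in F. Suppose that E and F have the same maps between A and B for all subgroups A, B of the hyperfocal subgroup of F that are elementary abelian when p is odd, respectively abelian of exponent dividing 4 when p = 2. Then E = F. -/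
theorem result {Ω : Type u} [Group Ω] {S : Subgroup Ω} [Finite S] (p : ℕ) [Fact p.Prime] (hS : IsPGroup p S)
    (E F : Cfsg.FusionSystem S) (hE : E.IsSaturated p) (hF : F.IsSaturated p) (hEF : E.IsSubsystemOf F)
    (hodd : p ≠ 2 → ∀ A B : Subgroup Ω, A ≤ (F.hyperfocalSubgroup p) → B ≤ (F.hyperfocalSubgroup p) →
      Cfsg.IsElementaryAbelian p A → Cfsg.IsElementaryAbelian p B → E.homSet A B = F.homSet A B)
    (htwo : p = 2 → ∀ A B : Subgroup Ω, A ≤ (F.hyperfocalSubgroup p) → B ≤ (F.hyperfocalSubgroup p) →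
      IsMulCommutative ↥A → IsMulCommutative ↥B → (∀ a ∈ A, a ^ 4 = 1) → (∀ b ∈ B, b ^ 4 = 1) → E.homSet A B = F.homSet A B) :
    ∀ P : Subgroup Ω, E.Hom P = F.Hom P := by
  have hcommA : ∀ A : Subgroup Ω, (∀ a ∈ A, ∀ b ∈ A, a * b = b * a) → IsMulCommutative ↥A :=
    fun A h => ⟨⟨fun a b => Subtype.ext (h a a.2 b b.2)⟩⟩
  have hnorm := le_normalizer_hyperfocal F p
  have hSH : ∀ s ∈ S, ∀ h ∈ F.hyperfocalSubgroup p, s * h * s⁻¹ ∈ F.hyperfocalSubgroup p :=
    fun s hs h hh => conj_mem_of_le_normalizer hnorm hs hh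
  have hclosed : ∀ (P : Subgroup Ω) (φ : P →* Ω), φ ∈ F.Hom P → ∀ x : P,
      (x : Ω) ∈ F.hyperfocalSubgroup p → φ x ∈ F.hyperfocalSubgroup p := by
    intro P φ hφ x hx
    obtain ⟨-, hcos⟩ := le_cosetSystem hS F hF (F.hyperfocalSubgroup p) hnorm le_rfl P hφ
    obtain ⟨s, hs, hsn⟩ := hcos x
    have h1 := hSH s hs _ hx
    have := Subgroup.mul_mem _ h1 hsn
    rwa [mul_inv_cancel_left] at this
  have key : ∀ m : ℕ, IsExp p m → ∀ P : Subgroup Ω, F.Hom P ⊆ E.Hom P := by
    intro m hm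
    have ctx : Ctx p m E F (F.hyperfocalSubgroup p) := by
      refine ⟨hm, hS, hE, hF, hEF, hyperfocal_le F p, hSH, hclosed, ?_, ?_⟩
      · intro P hPS α hα hcop x
        refine gen_mem_hyperfocal F p hPS ⟨α, hα⟩ ?_ x
        refine Subgroup.subset_closure ?_
        show Nat.Coprime (orderOf (⟨α, hα⟩ : F.autGroup P)) p
        rw [Subgroup.orderOf_mk]
        exact hcop
      · intro A hAH hAc hAm ψ hψ
        have hBH : ψ.range ≤ F.hyperfocalSubgroup p := by
          rintro _ ⟨a, rfl⟩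
          exact hclosed A ψ hψ a (hAH a.2)
        have hBc : ∀ a ∈ ψ.range, ∀ b ∈ ψ.range, a * b = b * a := by
          rintro _ ⟨a, rfl⟩ _ ⟨b, rfl⟩
          rw [← map_mul, ← map_mul]
          congr 1
          exact Subtype.ext (hAc a a.2 b b.2)
        have hBm : ∀ b ∈ ψ.range, b ^ m = 1 := by
          rintro _ ⟨a, rfl⟩
          rw [← map_pow]
          have : a ^ m = 1 := Subtype.ext (by simpa using hAm a a.2)
          rw [this, map_one]
        have hmem : ψ ∈ F.homSet A ψ.range := ⟨hψ, fun x => ⟨x, rfl⟩⟩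
        rcases hm with ⟨hp2, rfl⟩ | ⟨hp2, rfl⟩
        · have := hodd hp2 A ψ.range hAH hBH ⟨hcommA A hAc, hAm⟩ ⟨hcommA _ hBc, hBm⟩
          rw [← this] at hmem
          exact hmem.1
        · have := htwo hp2 A ψ.range hAH hBH (hcommA A hAc) (hcommA _ hBc) hAm hBm
          rw [← this] at hmem
          exact hmem.1
    exact le_of_ctx ctx
  intro P
  apply Set.Subset.antisymm (hEF P)
  by_cases hp2 : p = 2
  · exact key 4 (Or.inr ⟨hp2, rfl⟩) P
  · exact key p (Or.inl ⟨hp2, rfl⟩) P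

end Cfsg.Agent.S5296
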