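import Cfsg.Statements.S5301
import Cfsg.Agent.S5080
import Cfsg.Agent.S5082
import Cfsg.Agent.Lib.Helper27.FusTop

set_option autoImplicit false
open Cfsg

universe u

namespace Cfsg.Agent.S5301

open Cfsg.FusionSystem Cfsg.Agent.Lib.Helper26 Cfsg.Agent.Lib.Helper27

/-- Let F be a saturated fusion system over a finite p-group S. If for every subgroup P of S that is fully normalized, centric and radical in F the automorphism group that F induces on P has a normal Sylow p-subgroup, then S is normal in F. -/
theorem result {Ω : Type u} [Group Ω] {S : Subgroup Ω} [Finite S] (p : ℕ) [Fact p.Prime] (hS : IsPGroup p S)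
    (F : Cfsg.FusionSystem S) (hF : F.IsSaturated p)
    (hcl : ∀ P : Subgroup Ω, F.IsFullyNormalized P → F.IsCentric P → F.IsRadical p P →
      ∃ R : Sylow p ↥(F.autGroup P), (R : Subgroup ↥(F.autGroup P)).Normal) :
    F.IsNormal S := by
  apply isNormal_top_of_le_topExt
  apply Cfsg.Agent.S5082.result p hS F hF
  rintro P (rfl | hess)
  · exact autGroup_top_le_topExt F
  · exfalso
    have hrad := Cfsg.Agent.S5080.result p hS F hF P hess
    obtain ⟨hcen, hfn, hnorm, E, hdvd, -, -⟩ := hess
    obtain ⟨R, hR⟩ := hcl P hfn hcen hrad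
    have hPS : P ≤ S := hcen.1
    have hfinP : Finite P := finite_of_le hPS
    have hRle : (R : Subgroup (F.autGroup P)) ≤ pCore p (F.autGroup P) :=
      le_sSup ⟨hR, R.isPGroup'⟩
    have hcore : pCore p (F.autGroup P) = (Inn P).subgroupOf (F.autGroup P) := by
      rw [← hrad.2]
      exact (Subgroup.comap_map_eq_self_of_injective (Subgroup.subtype_injective _) _).symm
    rw [hcore] at hRle
    have h1 : ((Inn P).subgroupOf (F.autGroup P)).index ∣ (R : Subgroup (F.autGroup P)).index :=
      Subgroup.index_dvd_of_le hRle
    have h2 : p ∣ ((Inn P).subgroupOf (F.autGroup P)).index := by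
      rw [Subgroup.index_eq_card]
      exact hdvd
    exact R.not_dvd_index (h2.trans h1)

end Cfsg.Agent.S5301
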