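import Cfsg.Statements.S5300
import Cfsg.Agent.Lib.Helper27.SmallStab
import Cfsg.Agent.Lib.Helper27.FusSolvable
import Cfsg.Agent.Lib.Helper26.FusionSeries3
import Cfsg.Agent.Lib.Helper24.POrderFourClass

set_option autoImplicit false
open Cfsg

universe u

namespace Cfsg.Agent.S5300

open Cfsg.FusionSystem Cfsg.Agent.Lib.Helper26 Cfsg.Agent.Lib.Helper27

variable {Ω : Type*} [Group Ω] {S : Subgroup Ω}

theorem commSub_le_focal (F : FusionSystem S) {P : Subgroup Ω} (hPS : P ≤ S) (x : P)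
    (hx : x ∈ commSub (F.autGroup P)) : (x : Ω) ∈ F.focalSubgroup := by
  have key : commSub (F.autGroup P) ≤ (F.focalSubgroup).subgroupOf P := by
    unfold commSub
    rw [Subgroup.closure_le]
    rintro _ ⟨α, hα, x, rfl⟩
    show ((x⁻¹ * α x : P) : Ω) ∈ F.focalSubgroup
    refine Subgroup.subset_closure ⟨P, P.subtype.comp α.toMonoidHom, x,
      (mem_autGroup_iff F hPS).mp hα, ?_⟩
    simp
  exact Subgroup.mem_subgroupOf.mp (key hx)

theorem conj_eq_self_of_normal [Finite S] {p : ℕ} [Fact p.Prime] (hS : IsPGroup p S)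
    {x : Ω} (hxS : x ∈ S) (hxp : x ^ p = 1)
    (hnorm : ∀ s ∈ S, s * x * s⁻¹ ∈ Subgroup.zpowers x) {g : Ω} (hg : g ∈ S) :
    g * x * g⁻¹ = x := by
  by_cases hx1 : x = 1
  · rw [hx1]; group
  have hord : orderOf (⟨x, hxS⟩ : S) = p := by
    refine orderOf_eq_prime ?_ ?_
    · apply Subtype.ext
      simpa using hxp
    · intro h
      exact hx1 (congrArg Subtype.val h)
  have hK : (Subgroup.zpowers (⟨x, hxS⟩ : S)).Normal := by
    constructor
    intro n hn s
    obtain ⟨k, rfl⟩ := Subgroup.mem_zpowers_iff.mp hn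
    have h1 : s * (⟨x, hxS⟩ : S) * s⁻¹ ∈ Subgroup.zpowers (⟨x, hxS⟩ : S) := by
      obtain ⟨j, hj⟩ := Subgroup.mem_zpowers_iff.mp (hnorm s s.2)
      refine Subgroup.mem_zpowers_iff.mpr ⟨j, ?_⟩
      apply Subtype.ext
      simpa using hj
    have e : s * (⟨x, hxS⟩ : S) ^ k * s⁻¹ = (s * (⟨x, hxS⟩ : S) * s⁻¹) ^ k := by
      rw [conj_zpow]
    rw [e]
    exact Subgroup.zpow_mem _ h1 k
  have hcard : Nat.card (Subgroup.zpowers (⟨x, hxS⟩ : S)) = p := by
    rw [Nat.card_zpowers, hord]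
  have hcen := Cfsg.Agent.Lib.Helper24.pf_le_center_of_card_prime hS
    (Subgroup.zpowers (⟨x, hxS⟩ : S)) hcard (Subgroup.mem_zpowers _)
  have h2 := Subgroup.mem_center_iff.mp hcen ⟨g, hg⟩
  have h3 : g * x = x * g := congrArg Subtype.val h2
  rw [h3]; group

theorem result {Ω : Type u} [Group Ω] {S : Subgroup Ω} [Finite S] (p : ℕ) [Fact p.Prime] (hS : IsPGroup p S)
    (F : Cfsg.FusionSystem S) (hF : F.IsSaturated p)
    (hnorm : ∀ x ∈ F.focalSubgroup, (x ^ p = 1 ∨ (p = 2 ∧ x ^ 4 = 1)) → ∀ s ∈ S, s * x * s⁻¹ ∈ Subgroup.zpowers x) :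
    F.IsNormal S := by
  refine isNormal_of_stronglyClosed_of_le_pCore hS F hF (stronglyClosed_top F) (fun P hess => ?_)
  have hPS : P ≤ S := hess.2.1.1
  have hfinP : Finite P := finite_of_le hPS
  have hpP : IsPGroup p P := hS.to_le hPS
  have hMn : ((smallStab p (commSub (F.autGroup P))).subgroupOf (F.autGroup P)).Normal :=
    smallStab_normal _ (fun β hβ x hx => apply_mem_commSub hβ hx)
  have hMp := isPGroup_smallStab hpP (F.autGroup P)
  refine le_trans ?_ (Cfsg.Agent.Lib.Helper1.le_pCore hMn hMp)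
  have key : ∀ (g : Ω) (_ : g ∈ S) (hg : g ∈ Subgroup.normalizer (P : Set Ω)),
      SmallCond p (commSub (F.autGroup P)) (conjAut P g hg) := by
    intro g hgS hg x hx hs
    have hxf : (x : Ω) ∈ F.focalSubgroup := commSub_le_focal F hPS x hx
    have hsΩ : (x : Ω) ^ p = 1 ∨ (p = 2 ∧ (x : Ω) ^ 4 = 1) := by
      rcases hs with h | ⟨h2, h⟩
      · left
        have := congrArg Subtype.val h
        simpa using this
      · right
        refine ⟨h2, ?_⟩
        have := congrArg Subtype.val h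
        simpa using this
    have h1 := hnorm x hxf hsΩ g hgS
    refine ⟨?_, fun hp2 => ?_⟩
    · obtain ⟨k, hk⟩ := Subgroup.mem_zpowers_iff.mp h1
      refine Subgroup.mem_zpowers_iff.mpr ⟨k, ?_⟩
      apply Subtype.ext
      rw [Subgroup.coe_zpow, hk, conjAut_apply]
    · have hxp : (x : Ω) ^ p = 1 := by
        rcases hsΩ with h | ⟨h2, -⟩
        · exact h
        · exact absurd h2 hp2
      apply Subtype.ext
      rw [conjAut_apply]
      exact conj_eq_self_of_normal hS (hPS x.2) hxp (hnorm x hxf hsΩ) hgS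
  intro b hb
  obtain ⟨g, hgSN, hg, hbg⟩ := mem_autInducedBy_iff'.mp (Subgroup.mem_subgroupOf.mp hb)
  rw [Subgroup.mem_subgroupOf, hbg]
  refine ⟨key g hgSN.1 hg, ?_⟩
  have hinv : (conjAut P g hg)⁻¹ = conjAut P g⁻¹ (Subgroup.inv_mem _ hg) := by
    ext x
    rw [conjAut_inv_apply, conjAut_apply, inv_inv]
  rw [hinv]
  exact key g⁻¹ (S.inv_mem hgSN.1) _

end Cfsg.Agent.S5300
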