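import Cfsg.Statements.S5315
import Cfsg.Agent.Lib.Helper27.FusFactor3
import Cfsg.Agent.S5084

set_option autoImplicit false
open Cfsg

namespace Cfsg.Agent.S5315

open Cfsg.FusionSystem Cfsg.Agent.Lib.Helper26 Cfsg.Agent.Lib.Helper27

variable {Ω : Type*} [Group Ω] {S : Subgroup Ω} {Ω' : Type*} [Group Ω'] {S' : Subgroup Ω'}

theorem pow_restrict_apply' {G : Type*} [Group G] {Q T : Subgroup G} (hTQ : T ≤ Q) (γ : MulAut Q)
    (γT : MulAut T)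
    (h : ∀ t : T, ((γT t : T) : G) = ((γ (Subgroup.inclusion hTQ t) : Q) : G)) (n : ℕ) (t : T) :
    (((γT ^ n) t : T) : G) = (((γ ^ n) (Subgroup.inclusion hTQ t) : Q) : G) := by
  induction n generalizing t with
  | zero => rfl
  | succ n ih =>
    rw [pow_succ, pow_succ, MulAut.mul_apply, MulAut.mul_apply, ih]
    have : Subgroup.inclusion hTQ (γT t) = γ (Subgroup.inclusion hTQ t) := Subtype.ext (h t)
    rw [this]

/-- Step A: maps of `F` move `w` only inside `w Z(F)`. -/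
theorem stepA [Finite S] (F : FusionSystem S) {θ : ↥S →* Ω'} {E : FusionSystem S'}
    (hE : F.IsFactorSystem F.center θ E) {Q' : Subgroup Ω'} (hQ' : E.IsCentral Q')
    {P : Subgroup Ω} (hPS : P ≤ S) (hZP : F.center ≤ P) {ψ : P →* Ω} (hψ : ψ ∈ F.Hom P)
    (w : P) (hw : θ ⟨w, hPS w.2⟩ ∈ Q') :
    θ ⟨ψ w, apply_mem F hψ w⟩ = θ ⟨w, hPS w.2⟩ := by
  have hZsc : F.StronglyClosed F.center := stronglyClosed_of_isCentral' F (isCentral_center F)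
  obtain ⟨ψ', hψ', hψ'e⟩ := factor_induce_hom hZsc hE hPS hZP hψ
  obtain ⟨χ', -, hχext, hχfix⟩ := hQ'.2 _ ψ' hψ'
  have hmem : θ ⟨w, hPS w.2⟩ ∈ (P.subgroupOf S).map θ :=
    ⟨⟨w, hPS w.2⟩, Subgroup.mem_subgroupOf.mpr w.2, rfl⟩
  have h1 := hχext ⟨θ ⟨w, hPS w.2⟩, hmem⟩
  have h2 := hχfix ⟨θ ⟨w, hPS w.2⟩, hw⟩
  have e : Subgroup.inclusion (le_sup_left : (P.subgroupOf S).map θ ≤ (P.subgroupOf S).map θ ⊔ Q')
      ⟨θ ⟨w, hPS w.2⟩, hmem⟩ =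
      Subgroup.inclusion (le_sup_right : Q' ≤ (P.subgroupOf S).map θ ⊔ Q') ⟨θ ⟨w, hPS w.2⟩, hw⟩ :=
    Subtype.ext rfl
  rw [e, h2] at h1
  rw [← hψ'e w hmem, ← h1]

/-- Step B: automorphisms of order prime to `p` fix `w`. -/
theorem stepB [Finite S] {p : ℕ} [Fact p.Prime] (hS : IsPGroup p S) (F : FusionSystem S)
    {θ : ↥S →* Ω'} {E : FusionSystem S'}
    (hE : F.IsFactorSystem F.center θ E) {Q' : Subgroup Ω'} (hQ' : E.IsCentral Q')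
    {P : Subgroup Ω} (hPS : P ≤ S) (hZP : F.center ≤ P) {γ : MulAut P} (hγ : γ ∈ F.autGroup P)
    (hord : (orderOf γ).Coprime p) (w : P) (hw : θ ⟨w, hPS w.2⟩ ∈ Q') : γ w = w := by
  have hZc := isCentral_center F
  have hγF : P.subtype.comp γ.toMonoidHom ∈ F.Hom P := (mem_autGroup_iff F hPS).mp hγ
  have hA := stepA F hE hQ' hPS hZP hγF w hw
  have hcZ : ((w⁻¹ * γ w : P) : Ω) ∈ F.center := by
    have h1 : θ (⟨w, hPS w.2⟩⁻¹ * ⟨γ w, hPS (γ w).2⟩) = 1 := by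
      rw [map_mul, map_inv, inv_mul_eq_one]
      exact hA.symm
    exact (hE.2.1 _).mp h1
  have hγc : γ (w⁻¹ * γ w) = w⁻¹ * γ w :=
    Subtype.ext (apply_eq_of_isCentral F hZc hγF (w⁻¹ * γ w) hcZ)
  have hγw : γ w = w * (w⁻¹ * γ w) := by group
  have hpow := pow_apply_of_fix γ w (w⁻¹ * γ w) hγw hγc (orderOf γ)
  rw [pow_orderOf_eq_one, MulAut.one_apply] at hpow
  have hc1 : (w⁻¹ * γ w) ^ orderOf γ = 1 := by
    have := hpow.symm
    rwa [mul_eq_left] at this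
  obtain ⟨k, hk⟩ := (hS.to_le hPS) (w⁻¹ * γ w)
  have hd1 : orderOf (w⁻¹ * γ w) ∣ orderOf γ := orderOf_dvd_of_pow_eq_one hc1
  have hd2 : orderOf (w⁻¹ * γ w) ∣ p ^ k := orderOf_dvd_of_pow_eq_one hk
  have hcop : (orderOf γ).Coprime (p ^ k) := Nat.Coprime.pow_right k hord
  have h1 : orderOf (w⁻¹ * γ w) = 1 := Nat.eq_one_of_dvd_coprimes hcop hd1 hd2
  have h2 : w⁻¹ * γ w = 1 := orderOf_eq_one_iff.mp h1
  rw [inv_mul_eq_one] at h2
  exact h2.symm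

theorem finite_of_factor [Finite S] {F : FusionSystem S} {T : Subgroup Ω} {θ : ↥S →* Ω'}
    {E : FusionSystem S'} (hE : F.IsFactorSystem T θ E) : Finite S' := by
  rw [← hE.2.2.1]
  exact Finite.of_surjective θ.rangeRestrict θ.rangeRestrict_surjective

theorem le_normalizer_of_isCentral (E : FusionSystem S') {Q' : Subgroup Ω'} (hQ' : E.IsCentral Q') :
    S' ≤ Subgroup.normalizer (Q' : Set Ω') := by
  have hQc : Q' ≤ E.center := le_sSup hQ'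
  intro s hs
  have key : ∀ g ∈ S', ∀ q ∈ Q', g * q * g⁻¹ ∈ Q' := by
    intro g hg q hq
    have h1 : g * q = q * g := E.center_le_centralizer (hQc hq) g hg
    rw [h1, mul_inv_cancel_right]
    exact hq
  refine mem_normalizer_of_forall (key s hs) (fun q hq => ?_)
  have := key s⁻¹ (S'.inv_mem hs) q hq
  rwa [inv_inv] at this

/-- Step C, core case. -/
theorem stepC_core [Finite S] {p : ℕ} [Fact p.Prime] (hS : IsPGroup p S) (F : FusionSystem S)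
    (hF : F.IsSaturated p) {θ : ↥S →* Ω'} {E : FusionSystem S'}
    (hE : F.IsFactorSystem F.center θ E) {Q' : Subgroup Ω'} (hQ' : E.IsCentral Q')
    (w : S) (hw : θ w ∈ Q') {P₀ : Subgroup Ω} (hP₀S : P₀ ≤ S) (β : F.autGroup P₀)
    (hord : (orderOf β).Coprime p) (x : P₀) :
    (w : Ω) * ((x : Ω)⁻¹ * (((β : MulAut P₀) x : P₀) : Ω)) =
      ((x : Ω)⁻¹ * (((β : MulAut P₀) x : P₀) : Ω)) * (w : Ω) := by
  have hZc := isCentral_center F
  have hZsc : F.StronglyClosed F.center := stronglyClosed_of_isCentral' F hZc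
  have hfinS' : Finite S' := finite_of_factor hE
  have hord' : (orderOf (β : MulAut P₀)).Coprime p := by
    rw [Subgroup.orderOf_coe]; exact hord
  obtain ⟨γ₁, hγ₁, hγ₁ord, hγ₁β⟩ := exists_aut_lift_pprime hS F hF hZsc hP₀S β.2 hord'
  have hQ₁S : P₀ ⊔ F.center ≤ S := sup_le hP₀S hZsc.1
  obtain ⟨γ₁', hγ₁', hγ₁'e⟩ := factor_induce_aut hZsc hE hQ₁S le_sup_right hγ₁
  have hP'S' := map_le_of_factor hE (P₀ ⊔ F.center)
  have hγ₁'F : (((P₀ ⊔ F.center).subgroupOf S).map θ).subtype.comp γ₁'.toMonoidHom ∈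
      E.Hom (((P₀ ⊔ F.center).subgroupOf S).map θ) := (mem_autGroup_iff E hP'S').mp hγ₁'
  obtain ⟨χ', hχ', hχext, hχfix⟩ := hQ'.2 _ _ hγ₁'F
  have hP'Q'S' : ((P₀ ⊔ F.center).subgroupOf S).map θ ⊔ Q' ≤ S' := sup_le hP'S' hQ'.1
  have hle : χ'.range ≤ ((P₀ ⊔ F.center).subgroupOf S).map θ ⊔ Q' := by
    rintro _ ⟨y, rfl⟩
    obtain ⟨a, ha, b, hb, hy⟩ := exists_mul_of_mem_sup
      (hP'S'.trans (le_normalizer_of_isCentral E hQ')) y.2
    have hy' : y = Subgroup.inclusion le_sup_left (⟨a, ha⟩ : ↥(((P₀ ⊔ F.center).subgroupOf S).map θ)) *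
        Subgroup.inclusion le_sup_right (⟨b, hb⟩ : Q') := Subtype.ext hy
    rw [hy', map_mul, hχext, hχfix]
    exact Subgroup.mul_mem _ ((le_sup_left : ((P₀ ⊔ F.center).subgroupOf S).map θ ≤ _) (γ₁' ⟨a, ha⟩).2)
      ((le_sup_right : Q' ≤ _) hb)
  have hr := range_eq_of_range_le E hχ' hle
  obtain ⟨γ₃, hγ₃, hγ₃e⟩ := factor_lift_aut hE hP'Q'S' (autOfHom_mem E hχ' hr)
  have hPhS : preimageAlong θ (((P₀ ⊔ F.center).subgroupOf S).map θ ⊔ Q') ≤ S := preimageAlong_le θ _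
  have hfinPh : Finite ↥(preimageAlong θ (((P₀ ⊔ F.center).subgroupOf S).map θ ⊔ Q')) :=
    finite_of_le hPhS
  obtain ⟨k, hk, hkord⟩ := exists_pprime_pow p γ₃ hγ₁ord
  have hγ₄ : γ₃ ^ k ∈ F.autGroup (preimageAlong θ (((P₀ ⊔ F.center).subgroupOf S).map θ ⊔ Q')) :=
    Subgroup.pow_mem _ hγ₃ k
  have hpow := pow_lift_apply hPhS γ₃ (autOfHom E hχ' hr) hγ₃e k
  have hZPh : F.center ≤ preimageAlong θ (((P₀ ⊔ F.center).subgroupOf S).map θ ⊔ Q') := by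
    intro z hz
    refine mem_preimageAlong.mpr ⟨hZsc.1 hz, ?_⟩
    rw [(hE.2.1 ⟨z, hZsc.1 hz⟩).mpr hz]
    exact Subgroup.one_mem _
  have hwPh : (w : Ω) ∈ preimageAlong θ (((P₀ ⊔ F.center).subgroupOf S).map θ ⊔ Q') :=
    mem_preimageAlong.mpr ⟨w.2, (le_sup_right : Q' ≤ _) hw⟩
  have hxPh : (x : Ω) ∈ preimageAlong θ (((P₀ ⊔ F.center).subgroupOf S).map θ ⊔ Q') := by
    refine mem_preimageAlong.mpr ⟨hP₀S x.2, (le_sup_left : ((P₀ ⊔ F.center).subgroupOf S).map θ ≤ _) ?_⟩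
    exact ⟨⟨x, hP₀S x.2⟩, Subgroup.mem_subgroupOf.mpr ((le_sup_left : P₀ ≤ P₀ ⊔ F.center) x.2), rfl⟩
  have hγ₄w : (γ₃ ^ k) ⟨w, hwPh⟩ = ⟨w, hwPh⟩ :=
    stepB hS F hE hQ' hPhS hZPh hγ₄ hkord ⟨w, hwPh⟩ hw
  have hxQ₁ : (x : Ω) ∈ P₀ ⊔ F.center := (le_sup_left : P₀ ≤ P₀ ⊔ F.center) x.2
  have hmemx : θ ⟨x, hP₀S x.2⟩ ∈ ((P₀ ⊔ F.center).subgroupOf S).map θ :=
    ⟨⟨x, hP₀S x.2⟩, Subgroup.mem_subgroupOf.mpr hxQ₁, rfl⟩
  have hθg : θ ⟨((γ₃ ^ k) ⟨x, hxPh⟩ : ↥(preimageAlong θ _)), hPhS ((γ₃ ^ k) ⟨x, hxPh⟩).2⟩ =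
      θ ⟨((β : MulAut P₀) x : P₀), hP₀S ((β : MulAut P₀) x).2⟩ := by
    rw [hpow ⟨x, hxPh⟩]
    have hres : ∀ a : ↥(((P₀ ⊔ F.center).subgroupOf S).map θ),
        ((γ₁' a : ↥(((P₀ ⊔ F.center).subgroupOf S).map θ)) : Ω') =
        ((autOfHom E hχ' hr (Subgroup.inclusion le_sup_left a) :
          ↥(((P₀ ⊔ F.center).subgroupOf S).map θ ⊔ Q')) : Ω') := by
      intro a
      rw [autOfHom_apply, hχext]
      rfl
    have h1 := pow_restrict_apply' le_sup_left (autOfHom E hχ' hr) γ₁' hres k ⟨θ ⟨x, hP₀S x.2⟩, hmemx⟩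
    have e1 : (⟨θ ⟨((⟨x, hxPh⟩ : ↥(preimageAlong θ _)) : Ω), hPhS hxPh⟩,
        (mem_preimageAlong.mp hxPh).2⟩ : ↥(((P₀ ⊔ F.center).subgroupOf S).map θ ⊔ Q')) =
        Subgroup.inclusion le_sup_left ⟨θ ⟨x, hP₀S x.2⟩, hmemx⟩ := Subtype.ext rfl
    rw [e1, ← h1, pow_induce_apply hQ₁S γ₁ γ₁' hγ₁'e k ⟨x, hxQ₁⟩ hmemx]
    have hγ₁k : γ₁ ^ k = γ₁ := by
      rw [← pow_mod_orderOf, hk, pow_mod_orderOf, pow_one]
    rw [hγ₁k]
    have h2 := hγ₁β x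
    have h3 : θ (⟨((β : MulAut P₀) x : P₀), hP₀S ((β : MulAut P₀) x).2⟩⁻¹ *
        ⟨γ₁ ⟨x, hxQ₁⟩, hQ₁S (γ₁ ⟨x, hxQ₁⟩).2⟩) = 1 := (hE.2.1 _).mpr h2
    rw [map_mul, map_inv, inv_mul_eq_one] at h3
    exact h3.symm
  have hgβZ : (((γ₃ ^ k) ⟨x, hxPh⟩ : ↥(preimageAlong θ _)) : Ω)⁻¹ *
      (((β : MulAut P₀) x : P₀) : Ω) ∈ F.center := by
    have h1 : θ (⟨((γ₃ ^ k) ⟨x, hxPh⟩ : ↥(preimageAlong θ _)), hPhS ((γ₃ ^ k) ⟨x, hxPh⟩).2⟩⁻¹ *
        ⟨((β : MulAut P₀) x : P₀), hP₀S ((β : MulAut P₀) x).2⟩) = 1 := by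
      rw [map_mul, map_inv, inv_mul_eq_one]
      exact hθg
    exact (hE.2.1 _).mp h1
  have hconjF : conjHom S (x : Ω)⁻¹ ∈ F.Hom S := F.conj_mem le_rfl (S.inv_mem (hP₀S x.2))
  have hA := stepA F hE hQ' le_rfl hZsc.1 hconjF w hw
  have hz₁ : (w : Ω)⁻¹ * ((x : Ω)⁻¹ * (w : Ω) * (x : Ω)⁻¹⁻¹) ∈ F.center := by
    have h1 : θ (w⁻¹ * ⟨conjHom S (x : Ω)⁻¹ w, apply_mem F hconjF w⟩) = 1 := by
      rw [map_mul, map_inv, inv_mul_eq_one]
      exact hA.symm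
    exact (hE.2.1 _).mp h1
  have hcent : ∀ z ∈ F.center, ∀ s ∈ S, s * z = z * s := fun z hz s hs =>
    F.center_le_centralizer hz s hs
  have hγ₄F := (mem_autGroup_iff F hPhS).mp hγ₄
  have hz₁Ph := hZPh hz₁
  have hrel : (⟨w, hwPh⟩ : ↥(preimageAlong θ _)) * ⟨x, hxPh⟩ * (⟨w, hwPh⟩ : ↥(preimageAlong θ _))⁻¹ =
      ⟨x, hxPh⟩ * ⟨_, hz₁Ph⟩ := by
    apply Subtype.ext
    show (w : Ω) * (x : Ω) * (w : Ω)⁻¹ =
      (x : Ω) * ((w : Ω)⁻¹ * ((x : Ω)⁻¹ * (w : Ω) * (x : Ω)⁻¹⁻¹))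
    have hc := hcent _ hz₁ (w : Ω) w.2
    have e : (w : Ω) * (x : Ω) * (w : Ω)⁻¹ = (x : Ω) *
        ((w : Ω) * ((w : Ω)⁻¹ * ((x : Ω)⁻¹ * (w : Ω) * (x : Ω)⁻¹⁻¹)) * (w : Ω)⁻¹) := by group
    rw [e, hc]
    group
  have hrel2 := congrArg (γ₃ ^ k) hrel
  rw [map_mul, map_mul, map_inv, hγ₄w, map_mul] at hrel2
  have hfixz : (γ₃ ^ k) ⟨_, hz₁Ph⟩ = ⟨_, hz₁Ph⟩ :=
    Subtype.ext (apply_eq_of_isCentral F hZc hγ₄F ⟨_, hz₁Ph⟩ hz₁)
  rw [hfixz] at hrel2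
  have hrel3 : (w : Ω) * (((γ₃ ^ k) ⟨x, hxPh⟩ : ↥(preimageAlong θ _)) : Ω) * (w : Ω)⁻¹ =
      (((γ₃ ^ k) ⟨x, hxPh⟩ : ↥(preimageAlong θ _)) : Ω) *
        ((w : Ω)⁻¹ * ((x : Ω)⁻¹ * (w : Ω) * (x : Ω)⁻¹⁻¹)) := congrArg Subtype.val hrel2
  have hrel1 : (w : Ω) * (x : Ω) * (w : Ω)⁻¹ =
      (x : Ω) * ((w : Ω)⁻¹ * ((x : Ω)⁻¹ * (w : Ω) * (x : Ω)⁻¹⁻¹)) := congrArg Subtype.val hrel
  have hgS : (((γ₃ ^ k) ⟨x, hxPh⟩ : ↥(preimageAlong θ _)) : Ω) ∈ S := hPhS ((γ₃ ^ k) ⟨x, hxPh⟩).2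
  have hcomm1 : (w : Ω) * ((x : Ω)⁻¹ * (((γ₃ ^ k) ⟨x, hxPh⟩ : ↥(preimageAlong θ _)) : Ω)) =
      ((x : Ω)⁻¹ * (((γ₃ ^ k) ⟨x, hxPh⟩ : ↥(preimageAlong θ _)) : Ω)) * (w : Ω) := by
    have hc2 := hcent _ hz₁ _ (S.mul_mem (S.inv_mem (hP₀S x.2)) hgS)
    have e : (w : Ω) * ((x : Ω)⁻¹ * (((γ₃ ^ k) ⟨x, hxPh⟩ : ↥(preimageAlong θ _)) : Ω)) =
        ((w : Ω) * (x : Ω) * (w : Ω)⁻¹)⁻¹ *
        ((w : Ω) * (((γ₃ ^ k) ⟨x, hxPh⟩ : ↥(preimageAlong θ _)) : Ω) * (w : Ω)⁻¹) * (w : Ω) := by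
      group
    rw [e, hrel1, hrel3]
    have e2 : ((x : Ω) * ((w : Ω)⁻¹ * ((x : Ω)⁻¹ * (w : Ω) * (x : Ω)⁻¹⁻¹)))⁻¹ *
        ((((γ₃ ^ k) ⟨x, hxPh⟩ : ↥(preimageAlong θ _)) : Ω) *
          ((w : Ω)⁻¹ * ((x : Ω)⁻¹ * (w : Ω) * (x : Ω)⁻¹⁻¹))) =
        ((w : Ω)⁻¹ * ((x : Ω)⁻¹ * (w : Ω) * (x : Ω)⁻¹⁻¹))⁻¹ *
        (((x : Ω)⁻¹ * (((γ₃ ^ k) ⟨x, hxPh⟩ : ↥(preimageAlong θ _)) : Ω)) *
          ((w : Ω)⁻¹ * ((x : Ω)⁻¹ * (w : Ω) * (x : Ω)⁻¹⁻¹))) := by group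
    rw [e2, hc2]
    group
  have hc3 := hcent _ hgβZ (w : Ω) w.2
  have e3 : (x : Ω)⁻¹ * (((β : MulAut P₀) x : P₀) : Ω) =
      ((x : Ω)⁻¹ * (((γ₃ ^ k) ⟨x, hxPh⟩ : ↥(preimageAlong θ _)) : Ω)) *
      ((((γ₃ ^ k) ⟨x, hxPh⟩ : ↥(preimageAlong θ _)) : Ω)⁻¹ * (((β : MulAut P₀) x : P₀) : Ω)) := by
    group
  rw [e3, ← mul_assoc, hcomm1, mul_assoc, hc3]
  simp only [mul_assoc]

/-- Step C: `w` centralizes `S`. -/
theorem stepC [Finite S] {p : ℕ} [Fact p.Prime] (hS : IsPGroup p S) (F : FusionSystem S)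
    (hF : F.IsSaturated p) (hperf : F.hyperfocalSubgroup p = S) {θ : ↥S →* Ω'}
    {E : FusionSystem S'} (hE : F.IsFactorSystem F.center θ E) {Q' : Subgroup Ω'}
    (hQ' : E.IsCentral Q') (w : S) (hw : θ w ∈ Q') : ∀ s ∈ S, Commute (w : Ω) s := by
  have key : ∀ (P₀ : Subgroup Ω) (_ : P₀ ≤ S) (α : F.autGroup P₀),
      α ∈ pResidual p (F.autGroup P₀) →
      ∀ x : P₀, Commute (w : Ω) ((x : Ω)⁻¹ * (((α : MulAut P₀) x : P₀) : Ω)) := by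
    intro P₀ hP₀S α hα
    unfold pResidual at hα
    induction hα using Subgroup.closure_induction with
    | mem β hβ => exact fun x => stepC_core hS F hF hE hQ' w hw hP₀S β hβ x
    | one =>
      intro x
      have : (x : Ω)⁻¹ * ((((1 : F.autGroup P₀) : MulAut P₀) x : P₀) : Ω) = 1 := by
        rw [Subgroup.coe_one, MulAut.one_apply, inv_mul_cancel]
      rw [this]
      exact Commute.one_right _
    | mul a b _ _ iha ihb =>
      intro x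
      have e : (x : Ω)⁻¹ * ((((a * b : F.autGroup P₀) : MulAut P₀) x : P₀) : Ω) =
          ((x : Ω)⁻¹ * (((b : MulAut P₀) x : P₀) : Ω)) *
          ((((b : MulAut P₀) x : P₀) : Ω)⁻¹ *
            (((a : MulAut P₀) ((b : MulAut P₀) x) : P₀) : Ω)) := by
        rw [Subgroup.coe_mul, MulAut.mul_apply]
        group
      rw [e]
      exact (ihb x).mul_right (iha ((b : MulAut P₀) x))
    | inv a _ iha =>
      intro x
      have h1 := iha ((a : MulAut P₀)⁻¹ x)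
      rw [MulAut.apply_inv_self] at h1
      have e : (x : Ω)⁻¹ * ((((a⁻¹ : F.autGroup P₀) : MulAut P₀) x : P₀) : Ω) =
          ((((a : MulAut P₀)⁻¹ x : P₀) : Ω)⁻¹ * (x : Ω))⁻¹ := by
        rw [Subgroup.coe_inv]
        group
      rw [e]
      exact h1.inv_right
  intro s hs
  rw [← hperf] at hs
  unfold hyperfocalSubgroup at hs
  induction hs using Subgroup.closure_induction with
  | mem y hy =>
    obtain ⟨P, α, x, hPS, hα, rfl⟩ := hy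
    exact key P hPS α hα x
  | one => exact Commute.one_right _
  | mul a b _ _ iha ihb => exact iha.mul_right ihb
  | inv a _ iha => exact iha.inv_right

theorem card_autGroup_coprime_of_central [Finite S] {p : ℕ} [Fact p.Prime] (hS : IsPGroup p S)
    (F : FusionSystem S) (hF : F.IsSaturated p) {R : Subgroup Ω} (hRS : R ≤ S)
    (hR : ∀ r ∈ R, ∀ s ∈ S, s * r = r * s) : (Nat.card (F.autGroup R)).Coprime p := by
  have hfinR : Finite R := finite_of_le hRS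
  have hN : normalizerIn S R = S := by
    apply le_antisymm inf_le_left
    intro s hs
    refine ⟨hs, ?_⟩
    have key : ∀ g ∈ S, ∀ r ∈ R, g * r * g⁻¹ ∈ R := by
      intro g hg r hr
      rw [hR r hr g hg, mul_inv_cancel_right]
      exact hr
    refine mem_normalizer_of_forall (key s hs) (fun q hq => ?_)
    have := key s⁻¹ (S.inv_mem hs) q hq
    rwa [inv_inv] at this
  have hfn : F.IsFullyNormalized R := by
    refine ⟨hRS, fun Q _ => ?_⟩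
    rw [hN]
    exact card_le_card_of_le_of_finite inf_le_left
  obtain ⟨-, ⟨-, Rs, hRs⟩, -⟩ := saturated_fullyNormalized hS F hF hfn
  have hbot : autInducedBy S R = ⊥ := by
    rw [eq_bot_iff]
    intro α hα
    obtain ⟨g, hg, hgα⟩ := mem_autInducedBy_iff.mp hα
    rw [Subgroup.mem_bot]
    ext x
    rw [hgα x, hR x x.2 g hg, mul_inv_cancel_right]
    rfl
  have hRsbot : (Rs : Subgroup (F.autGroup R)) = ⊥ := by
    rw [hRs, hbot]
    exact Subgroup.bot_subgroupOf _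
  have h1 := Rs.not_dvd_index
  rw [hRsbot, Subgroup.index_bot] at h1
  exact (Nat.Prime.coprime_iff_not_dvd Fact.out).mpr h1 |>.symm

/-- Step D: no map of `F` moves `w`. -/
theorem stepD [Finite S] {p : ℕ} [Fact p.Prime] (hS : IsPGroup p S) (F : FusionSystem S)
    (hF : F.IsSaturated p) (hperf : F.hyperfocalSubgroup p = S) {θ : ↥S →* Ω'}
    {E : FusionSystem S'} (hE : F.IsFactorSystem F.center θ E) {Q' : Subgroup Ω'}
    (hQ' : E.IsCentral Q') (w : S) (hw : θ w ∈ Q') (y : Ω) (hy : F.IsConjElt (w : Ω) y) :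
    y = w := by
  obtain ⟨φ, hφ, rfl⟩ := hy
  have hZc := isCentral_center F
  have hZS : F.center ≤ S := hZc.1
  obtain ⟨ψ, hψ, hψext, hψfix⟩ := hZc.2 _ φ hφ
  have hwS : Subgroup.zpowers (w : Ω) ≤ S := Subgroup.zpowers_le.mpr w.2
  have hRS : Subgroup.zpowers (w : Ω) ⊔ F.center ≤ S := sup_le hwS hZS
  have hZR : F.center ≤ Subgroup.zpowers (w : Ω) ⊔ F.center := le_sup_right
  have hwR : (w : Ω) ∈ Subgroup.zpowers (w : Ω) ⊔ F.center :=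
    (le_sup_left : Subgroup.zpowers (w : Ω) ≤ _) (Subgroup.mem_zpowers _)
  have hA := stepA F hE hQ' hRS hZR hψ ⟨w, hwR⟩ hw
  have hzZ : (w : Ω)⁻¹ * ψ ⟨w, hwR⟩ ∈ F.center := by
    have h1 : θ (w⁻¹ * ⟨ψ ⟨w, hwR⟩, apply_mem F hψ ⟨w, hwR⟩⟩) = 1 := by
      rw [map_mul, map_inv, inv_mul_eq_one]
      exact hA.symm
    exact (hE.2.1 _).mp h1
  have hψwR : ψ ⟨w, hwR⟩ ∈ Subgroup.zpowers (w : Ω) ⊔ F.center := by
    have e : ψ ⟨w, hwR⟩ = (w : Ω) * ((w : Ω)⁻¹ * ψ ⟨w, hwR⟩) := by group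
    rw [e]
    exact Subgroup.mul_mem _ hwR (hZR hzZ)
  have hle : ψ.range ≤ Subgroup.zpowers (w : Ω) ⊔ F.center := by
    rintro _ ⟨r, rfl⟩
    obtain ⟨a, ha, z, hz, hr⟩ := exists_mul_of_mem_sup
      (hwS.trans (le_normalizer_of_isCentral F hZc)) r.2
    have hr' : r = Subgroup.inclusion le_sup_left (⟨a, ha⟩ : Subgroup.zpowers (w : Ω)) *
        Subgroup.inclusion le_sup_right (⟨z, hz⟩ : F.center) := Subtype.ext hr
    rw [hr', map_mul, hψfix]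
    refine Subgroup.mul_mem _ ?_ (hZR hz)
    obtain ⟨n, hn⟩ := Subgroup.mem_zpowers_iff.mp ha
    have e : Subgroup.inclusion (le_sup_left : Subgroup.zpowers (w : Ω) ≤ _) ⟨a, ha⟩ =
        (⟨w, hwR⟩ : ↥(Subgroup.zpowers (w : Ω) ⊔ F.center)) ^ n := by
      apply Subtype.ext
      rw [Subgroup.coe_zpow]
      exact hn.symm
    rw [e, map_zpow]
    exact Subgroup.zpow_mem _ hψwR n
  have hr := range_eq_of_range_le F hψ hle
  have hcen : ∀ r ∈ Subgroup.zpowers (w : Ω) ⊔ F.center, ∀ s ∈ S, s * r = r * s := by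
    have hC := stepC hS F hF hperf hE hQ' w hw
    have hle2 : Subgroup.zpowers (w : Ω) ⊔ F.center ≤ Subgroup.centralizer (S : Set Ω) := by
      refine sup_le (Subgroup.zpowers_le.mpr ?_) F.center_le_centralizer
      intro s hs
      exact (hC s hs).symm
    intro r hr s hs
    exact hle2 hr s hs
  have hcop := card_autGroup_coprime_of_central hS F hF hRS hcen
  have hfinR : Finite ↥(Subgroup.zpowers (w : Ω) ⊔ F.center) := finite_of_le hRS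
  have hγmem := autOfHom_mem F hψ hr
  have hord : (orderOf (autOfHom F hψ hr)).Coprime p := by
    have h1 : orderOf (⟨autOfHom F hψ hr, hγmem⟩ : F.autGroup _) ∣ Nat.card (F.autGroup _) :=
      orderOf_dvd_natCard _
    rw [← Subgroup.orderOf_coe] at h1
    exact Nat.Coprime.coprime_dvd_left h1 hcop
  have hB := stepB hS F hE hQ' hRS hZR hγmem hord ⟨w, hwR⟩ hw
  have hB' : ψ ⟨w, hwR⟩ = (w : Ω) := by
    have := congrArg Subtype.val hB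
    rwa [autOfHom_apply] at this
  rw [← hψext ⟨w, Subgroup.mem_zpowers _⟩]
  exact hB'

/-- An analogue of Grün's lemma for fusion systems. Let F be a saturated fusion system over a finite p-group S that is perfect in the sense that its hyperfocal subgroup is all of S (F coincides with its p-residual subsystem). Then the second centre of F equals its centre: every fusion system over S/(Z(F) ∩ S) that is the factor system of F modulo its centre Z(F), read through the quotient map, has trivial centre. -/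
theorem result {Ω : Type*} [Group Ω] {S : Subgroup Ω} [Finite S] (p : ℕ) [Fact p.Prime] (hS : IsPGroup p S) (F : Cfsg.FusionSystem S) (hF : F.IsSaturated p)
    (hperf : F.hyperfocalSubgroup p = S)
    (E : Cfsg.FusionSystem (⊤ : Subgroup (↥S ⧸ (F.center).subgroupOf S)))
    (hE : F.IsFactorSystem F.center (QuotientGroup.mk' ((F.center).subgroupOf S)) E) : E.center = ⊥ := by
  have hdef : E.center = sSup {Q' | E.IsCentral Q'} := rfl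
  rw [hdef, sSup_eq_bot]
  intro Q' hQ'
  rw [eq_bot_iff]
  intro y' hy'
  rw [Subgroup.mem_bot]
  obtain ⟨w, rfl⟩ := QuotientGroup.mk'_surjective _ y'
  have hcentral : F.IsCentral (Subgroup.zpowers (w : Ω)) := by
    rw [Cfsg.Agent.S5084.result p hS F hF]
    refine ⟨Subgroup.zpowers_le.mpr w.2, ?_⟩
    intro x hx y hy
    obtain ⟨n, rfl⟩ := Subgroup.mem_zpowers_iff.mp hx
    have hxw : (QuotientGroup.mk' ((F.center).subgroupOf S)) (w ^ n) ∈ Q' := by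
      rw [map_zpow]
      exact Subgroup.zpow_mem _ hy' n
    have hy2 : F.IsConjElt ((w ^ n : S) : Ω) y := by
      rw [Subgroup.coe_zpow]
      exact hy
    have h3 := stepD hS F hF hperf hE hQ' (w ^ n) hxw y hy2
    rw [h3, Subgroup.coe_zpow]
  have hwZ : (w : Ω) ∈ F.center := by
    have h1 : Subgroup.zpowers (w : Ω) ≤ F.center := le_sSup hcentral
    exact h1 (Subgroup.mem_zpowers _)
  exact (hE.2.1 w).mpr hwZ

end Cfsg.Agent.S5315
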