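import Cfsg.Statements.S5317
import Cfsg.Agent.Lib.Helper27.FusSimple
import Cfsg.Agent.S0261
import Cfsg.Agent.S2431
import Cfsg.Agent.S0809

set_option autoImplicit false
open Cfsg

namespace Cfsg.Agent.S5317

open Cfsg.FusionSystem Cfsg.Agent.Lib.Helper26

/-- the quaternion group is generated by the elements `xa i` -/
theorem quaternion_closure_xa (n : ℕ) :
    Subgroup.closure (Set.range (QuaternionGroup.xa : ZMod (2 * n) → QuaternionGroup n)) = ⊤ := by
  rw [eq_top_iff]
  intro q _
  cases q with
  | a i =>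
    have h : (QuaternionGroup.a i : QuaternionGroup n) =
        QuaternionGroup.xa 0 * QuaternionGroup.xa (i - (n : ZMod (2 * n))) := by
      rw [QuaternionGroup.xa_mul_xa]
      congr 1
      ring
    rw [h]
    exact Subgroup.mul_mem _ (Subgroup.subset_closure ⟨0, rfl⟩)
      (Subgroup.subset_closure ⟨_, rfl⟩)
  | xa i => exact Subgroup.subset_closure ⟨i, rfl⟩

section
variable {F : Type*} [Field F] [Fintype F]


omit [Fintype F] in
theorem neg_one_mem_center : (-1 : Matrix.SpecialLinearGroup (Fin 2) F) ∈ Subgroup.center (Matrix.SpecialLinearGroup (Fin 2) F) := by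
  rw [Subgroup.mem_center_iff]
  intro g
  rw [mul_neg, neg_mul, mul_one, one_mul]

theorem center_le (hodd : Fintype.card F % 2 = 1) (u : Matrix.SpecialLinearGroup (Fin 2) F) (hu : u ∈ Subgroup.center (Matrix.SpecialLinearGroup (Fin 2) F)) :
    u = 1 ∨ u = -1 := by
  by_cases h1 : u = 1
  · exact Or.inl h1
  · right
    apply Cfsg.Agent.S0261.eq_neg_one_of_sq (Cfsg.Agent.S0261.two_ne_zero_of_odd hodd) u _ h1
    obtain ⟨r, hr, hru⟩ := Matrix.SpecialLinearGroup.mem_center_iff.mp hu
    rw [Fintype.card_fin] at hr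
    apply Subtype.ext
    rw [Matrix.SpecialLinearGroup.coe_mul, ← hru, Matrix.SpecialLinearGroup.coe_one,
      ← map_mul, ← sq, hr, map_one]

end

/-- Let F be a finite field of odd order q with q² ≡ 1 mod 16 (so that a Sylow 2-subgroup of PSL(2,q), dihedral of order the 2-part of (q²−1)/2, has order at least 8). Then the 2-fusion system of PSL(2,F) on a Sylow 2-subgroup is simple: saturated, over a nontrivial 2-group, with no normal subsystem other than the trivial one and itself. -/
theorem result {F : Type*} [Field F] [Fintype F] (hodd : Fintype.card F % 2 = 1) (h16 : 16 ∣ Fintype.card F ^ 2 - 1)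
    (S : Sylow 2 (Matrix.ProjectiveSpecialLinearGroup (Fin 2) F)) :
    (Cfsg.groupFusionSystem (S : Subgroup (Matrix.ProjectiveSpecialLinearGroup (Fin 2) F))).IsSimple 2 := by
  classical
  have hq1 : 1 < Fintype.card F := Fintype.one_lt_card
  have hoddq : Odd (Fintype.card F) := Nat.odd_iff.mpr hodd
  have h2 : (2 : F) ≠ 0 := Cfsg.Agent.S0261.two_ne_zero_of_odd hodd
  -- `q ≡ ±1 mod 8`
  have hq8 : Fintype.card F % 8 = 1 ∨ Fintype.card F % 8 = 7 := by
    obtain ⟨c, hc⟩ := h16
    have hpos : 1 ≤ Fintype.card F ^ 2 := Nat.one_le_pow _ _ (by omega)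
    have h1 : Fintype.card F ^ 2 % 16 = 1 := by omega
    have h3 : (Fintype.card F % 16) ^ 2 % 16 = 1 := by rw [← Nat.pow_mod]; exact h1
    have h4 : Fintype.card F % 16 < 16 := Nat.mod_lt _ (by norm_num)
    have h5 : Fintype.card F % 8 = (Fintype.card F % 16) % 8 := by omega
    rw [h5]
    generalize Fintype.card F % 16 = r at h3 h4
    interval_cases r <;> simp_all
  set SL := Matrix.SpecialLinearGroup (Fin 2) F with hSL
  let π : SL →* Matrix.ProjectiveSpecialLinearGroup (Fin 2) F :=
    QuotientGroup.mk' (Subgroup.center SL)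
  have hπs : Function.Surjective π := QuotientGroup.mk'_surjective _
  have hπ1 : ∀ u : SL, π u = 1 ↔ u ∈ Subgroup.center SL := fun u =>
    QuotientGroup.eq_one_iff u
  obtain ⟨P, hP⟩ := Sylow.mapSurjective_surjective hπs 2 S
  have hS : (S : Subgroup (Matrix.ProjectiveSpecialLinearGroup (Fin 2) F)) =
      (P : Subgroup SL).map π := by rw [← hP]; rfl
  obtain ⟨k, hk1, ⟨e⟩⟩ := Cfsg.Agent.S0261.result hoddq P
  have hn2 : 2 ≤ 2 ^ k := by
    calc 2 = 2 ^ 1 := by norm_num
      _ ≤ 2 ^ k := Nat.pow_le_pow_right (by norm_num) hk1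
  have hn0 : ((2 ^ k : ℕ) : ZMod (2 * 2 ^ k)) ≠ 0 := by
    intro h0
    rw [ZMod.natCast_eq_zero_iff] at h0
    have := Nat.le_of_dvd (by positivity) h0
    omega
  -- `-1 ∈ P`
  have hxasq : ∀ i : ZMod (2 * 2 ^ k), ((e.symm (QuaternionGroup.xa i) : ↥(P : Subgroup SL)) : SL) *
      ((e.symm (QuaternionGroup.xa i) : ↥(P : Subgroup SL)) : SL) = -1 := by
    intro i
    have h1 : (QuaternionGroup.xa i : QuaternionGroup (2 ^ k)) * QuaternionGroup.xa i =
        QuaternionGroup.a ((2 ^ k : ℕ) : ZMod (2 * 2 ^ k)) := by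
      rw [QuaternionGroup.xa_mul_xa]; congr 1; ring
    have hz : ((e.symm (QuaternionGroup.a ((2 ^ k : ℕ) : ZMod (2 * 2 ^ k))) :
        ↥(P : Subgroup SL)) : SL) = -1 := by
      apply Cfsg.Agent.S0261.eq_neg_one_of_sq h2
      · rw [← Subgroup.coe_mul, ← map_mul, QuaternionGroup.a_mul_a]
        have : ((2 ^ k : ℕ) : ZMod (2 * 2 ^ k)) + ((2 ^ k : ℕ) : ZMod (2 * 2 ^ k)) = 0 := by
          rw [← two_mul, ← Nat.cast_ofNat (R := ZMod (2 * 2 ^ k)), ← Nat.cast_mul,
            ZMod.natCast_self]
        rw [this, ← QuaternionGroup.one_def, map_one, Subgroup.coe_one]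
      · intro h
        have h' : e.symm (QuaternionGroup.a ((2 ^ k : ℕ) : ZMod (2 * 2 ^ k))) = 1 :=
          Subtype.ext h
        rw [map_eq_one_iff _ e.symm.injective, QuaternionGroup.one_def] at h'
        exact hn0 (QuaternionGroup.a.inj h')
    rw [← Subgroup.coe_mul, ← map_mul, h1, hz]
  have hnegP : (-1 : SL) ∈ (P : Subgroup SL) := by
    rw [← hxasq 0]
    exact Subgroup.mul_mem _ (Subtype.mem _) (Subtype.mem _)
  have hZP : Subgroup.center SL ≤ (P : Subgroup SL) := by
    intro u hu
    rcases center_le hodd u hu with h | h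
    · rw [h]; exact Subgroup.one_mem _
    · rw [h]; exact hnegP
  have hcomap : ∀ h : SL, π h ∈ (S : Subgroup (Matrix.ProjectiveSpecialLinearGroup (Fin 2) F)) ↔
      h ∈ (P : Subgroup SL) := by
    intro h
    rw [hS]
    constructor
    · rintro ⟨h', hh', hh⟩
      have h1 : π (h'⁻¹ * h) = 1 := by rw [map_mul, map_inv, hh, inv_mul_cancel]
      have h2 := hZP ((hπ1 _).mp h1)
      have : h = h' * (h'⁻¹ * h) := (mul_inv_cancel_left h' h).symm
      rw [this]
      exact Subgroup.mul_mem _ hh' h2
    · intro hh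
      exact ⟨h, hh, rfl⟩
  apply Cfsg.Agent.Lib.Helper27.FusSimple.isSimple_of_stronglyClosed 2 S
  · -- `S ≠ ⊥`
    intro hbot
    have hPc : (P : Subgroup SL) ≤ Subgroup.center SL := by
      intro h hh
      have : π h ∈ (S : Subgroup (Matrix.ProjectiveSpecialLinearGroup (Fin 2) F)) :=
        (hcomap h).mpr hh
      rw [hbot, Subgroup.mem_bot] at this
      exact (hπ1 h).mp this
    have hcomm : (QuaternionGroup.a 1 : QuaternionGroup (2 ^ k)) * QuaternionGroup.xa 0 =
        QuaternionGroup.xa 0 * QuaternionGroup.a 1 := by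
      have h1 := Subgroup.mem_center_iff.mp (hPc (e.symm (QuaternionGroup.a 1)).2)
        ((e.symm (QuaternionGroup.xa 0) : ↥(P : Subgroup SL)) : SL)
      have h2 : e.symm (QuaternionGroup.xa 0) * e.symm (QuaternionGroup.a 1) =
          e.symm (QuaternionGroup.a 1) * e.symm (QuaternionGroup.xa 0) := Subtype.ext h1
      rw [← map_mul, ← map_mul] at h2
      exact (e.symm.injective h2).symm
    rw [QuaternionGroup.a_mul_xa, QuaternionGroup.xa_mul_a] at hcomm
    have h3 := QuaternionGroup.xa.inj hcomm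
    have h4 : ((2 : ℕ) : ZMod (2 * 2 ^ k)) = 0 := by
      have : (0 : ZMod (2 * 2 ^ k)) - 1 = 0 + 1 := h3
      push_cast
      linear_combination -this
    rw [ZMod.natCast_eq_zero_iff] at h4
    have := Nat.le_of_dvd (by norm_num) h4
    omega
  · -- normalizer
    intro g hg
    obtain ⟨h, rfl⟩ := hπs g
    have hhN : h ∈ Subgroup.normalizer ((P : Subgroup SL) : Set SL) := by
      rw [Subgroup.mem_normalizer_iff]
      intro x
      rw [← hcomap x, ← hcomap (h * x * h⁻¹), map_mul, map_mul, map_inv]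
      exact Subgroup.mem_normalizer_iff.mp hg (π x)
    rw [(Cfsg.Agent.S2431.result hoddq P).2.1 hq8] at hhN
    exact ⟨π h, (hcomap h).mpr hhN, fun _ _ => rfl⟩
  · -- strongly closed subgroups
    intro T hT hTne
    apply le_antisymm hT.1
    -- an involution in `T`
    have hT2 : IsPGroup 2 ↥T := S.isPGroup'.to_le hT.1
    have hTnt : Nontrivial ↥T := (Subgroup.nontrivial_iff_ne_bot T).mpr hTne
    obtain ⟨m, hm⟩ := hT2.exists_card_eq
    have hm0 : m ≠ 0 := by
      intro h0
      rw [h0, pow_zero] at hm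
      have := Finite.one_lt_card_iff_nontrivial.mpr hTnt
      omega
    obtain ⟨t, ht⟩ := exists_prime_orderOf_dvd_card' (G := ↥T) 2 (by
      rw [hm]; exact dvd_pow_self 2 hm0)
    have ht2 : orderOf (t : Matrix.ProjectiveSpecialLinearGroup (Fin 2) F) = 2 := by
      rw [Subgroup.orderOf_coe]; exact ht
    have hconj := (Cfsg.Agent.S0809.result (q := Fintype.card F) rfl hoddq
      (Subgroup.zpowers ((e.symm (QuaternionGroup.xa 0) : ↥(P : Subgroup SL)) : SL)) (by
        rw [Nat.card_zpowers]
        have h1 := hxasq 0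
        apply orderOf_eq_of_pow_and_pow_div_prime (by norm_num)
        · have : ((e.symm (QuaternionGroup.xa 0) : ↥(P : Subgroup SL)) : SL) ^ 4 =
              (((e.symm (QuaternionGroup.xa 0) : ↥(P : Subgroup SL)) : SL) *
              ((e.symm (QuaternionGroup.xa 0) : ↥(P : Subgroup SL)) : SL)) *
              (((e.symm (QuaternionGroup.xa 0) : ↥(P : Subgroup SL)) : SL) *
              ((e.symm (QuaternionGroup.xa 0) : ↥(P : Subgroup SL)) : SL)) := by
            rw [show (4 : ℕ) = 2 + 2 from rfl, pow_add, sq]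
          rw [this, h1, neg_mul_neg, one_mul]
        · intro p hp hp4
          have hp2 : p = 2 := by
            have : p ∣ 2 ^ 2 := by norm_num; exact hp4
            exact (Nat.prime_dvd_prime_iff_eq hp Nat.prime_two).mp (hp.dvd_of_dvd_pow this)
          subst hp2
          norm_num
          rw [sq, h1]
          intro hneg
          have : (2 : F) = 0 := by
            have h00 := congrArg (fun M : SL => (M : Matrix (Fin 2) (Fin 2) F) 0 0) hneg
            simp at h00
            linear_combination -h00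
          exact h2 this)).2.2.2
    have hinvT : ∀ s ∈ (S : Subgroup (Matrix.ProjectiveSpecialLinearGroup (Fin 2) F)),
        orderOf s = 2 → s ∈ T := by
      intro s hs hs2
      obtain ⟨g, hg⟩ := isConj_iff.mp (hconj (t : Matrix.ProjectiveSpecialLinearGroup (Fin 2) F) s ht2 hs2)
      have hle : Subgroup.zpowers (t : Matrix.ProjectiveSpecialLinearGroup (Fin 2) F) ≤ T :=
        (Subgroup.zpowers_le).mpr t.2
      have hφ : conjHom (Subgroup.zpowers (t : Matrix.ProjectiveSpecialLinearGroup (Fin 2) F)) g ∈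
          (Cfsg.groupFusionSystem (S : Subgroup (Matrix.ProjectiveSpecialLinearGroup (Fin 2) F))).Hom
            (Subgroup.zpowers (t : Matrix.ProjectiveSpecialLinearGroup (Fin 2) F)) := by
        refine ⟨hle.trans hT.1, ?_, g, fun x => rfl⟩
        rintro ⟨x, n, rfl⟩
        show g * (t : Matrix.ProjectiveSpecialLinearGroup (Fin 2) F) ^ n * g⁻¹ ∈ _
        have : g * (t : Matrix.ProjectiveSpecialLinearGroup (Fin 2) F) ^ n * g⁻¹ = s ^ n := by
          rw [← hg, conj_zpow]
        rw [this]
        exact Subgroup.zpow_mem _ hs n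
      have := hT.2 _ hle _ hφ ⟨t, Subgroup.mem_zpowers _⟩
      rw [conjHom_apply] at this
      rw [← hg]
      exact this
    -- every generator lies in `T`
    have hgen : ∀ q : QuaternionGroup (2 ^ k), π ((e.symm q : ↥(P : Subgroup SL)) : SL) ∈ T := by
      intro q
      have hq : q ∈ Subgroup.closure (Set.range
          (QuaternionGroup.xa : ZMod (2 * 2 ^ k) → QuaternionGroup (2 ^ k))) := by
        rw [quaternion_closure_xa]; trivial
      let f : QuaternionGroup (2 ^ k) →* Matrix.ProjectiveSpecialLinearGroup (Fin 2) F :=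
        π.comp ((P : Subgroup SL).subtype.comp e.symm.toMonoidHom)
      have hle : Subgroup.closure (Set.range
          (QuaternionGroup.xa : ZMod (2 * 2 ^ k) → QuaternionGroup (2 ^ k))) ≤ T.comap f := by
        rw [Subgroup.closure_le]
        rintro _ ⟨i, rfl⟩
        show π ((e.symm (QuaternionGroup.xa i) : ↥(P : Subgroup SL)) : SL) ∈ T
        by_cases h1 : π ((e.symm (QuaternionGroup.xa i) : ↥(P : Subgroup SL)) : SL) = 1
        · rw [h1]; exact T.one_mem
        · apply hinvT
          · exact (hcomap _).mpr (Subtype.mem _)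
          · apply orderOf_eq_prime _ h1
            rw [sq, ← map_mul, hxasq i]
            exact (hπ1 _).mpr neg_one_mem_center
      exact hle hq
    intro y hy
    obtain ⟨h, rfl⟩ := hπs y
    have hh : h ∈ (P : Subgroup SL) := (hcomap h).mp hy
    have := hgen (e ⟨h, hh⟩)
    rwa [MulEquiv.symm_apply_apply] at this

end Cfsg.Agent.S5317
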