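import Cfsg.Statements.S5318
import Cfsg.Agent.Lib.Helper27.QDWr
import Cfsg.Agent.S1219
import Cfsg.Agent.S1217
import Cfsg.Agent.S0249

set_option autoImplicit false
open Cfsg

namespace Cfsg.Agent.S5318

open Cfsg.FusionSystem Cfsg.Agent.Lib.Helper27.QDWr

section
variable {F : Type*} [Field F] [Fintype F]

/-- the standard involution of PSL(3,F) has order two -/
theorem orderOf_t0 (h2 : (2 : F) ≠ 0) :
    orderOf (Cfsg.Agent.S1219.mkP (Cfsg.Agent.S1219.DS (F := F))) = 2 := by
  apply orderOf_eq_prime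
  · rw [sq, ← map_mul, Cfsg.Agent.S1219.DS_mul_self, map_one]
  · rw [Ne, Cfsg.Agent.S1219.mkP_eq_one_iff]
    intro hc
    have h1 := Cfsg.Agent.S1219.center_eq_one_of_sq _ hc (by
      rw [sq]; exact Cfsg.Agent.S1219.DS_mul_self)
    have h00 : (Cfsg.Agent.S1219.Dm : Matrix (Fin 3) (Fin 3) F) 0 0 =
        (1 : Matrix (Fin 3) (Fin 3) F) 0 0 :=
      congrArg (fun M : Matrix.SpecialLinearGroup (Fin 3) F =>
        (M : Matrix (Fin 3) (Fin 3) F) 0 0) h1
    have e1 : (Cfsg.Agent.S1219.Dm : Matrix (Fin 3) (Fin 3) F) 0 0 = -1 := rfl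
    rw [e1, Matrix.one_apply_eq] at h00
    apply h2
    linear_combination -h00

/-- all involutions of PSL(3,F) are conjugate -/
theorem involutions_conj (h2 : (2 : F) ≠ 0) (t s : Matrix.ProjectiveSpecialLinearGroup (Fin 3) F)
    (ht : orderOf t = 2) (hs : orderOf s = 2) : ∃ g, g * t * g⁻¹ = s := by
  obtain ⟨T, hTt, hTT, hT1⟩ := Cfsg.Agent.S1219.exists_lift t ht
  obtain ⟨P, hP⟩ := Cfsg.Agent.S1219.exists_conj_DS h2 T hTT hT1
  obtain ⟨T', hTs, hTT', hT1'⟩ := Cfsg.Agent.S1219.exists_lift s hs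
  obtain ⟨P', hP'⟩ := Cfsg.Agent.S1219.exists_conj_DS h2 T' hTT' hT1'
  refine ⟨Cfsg.Agent.S1219.mkP (P' * P⁻¹), ?_⟩
  rw [← hTt, ← hTs, ← map_inv, ← map_mul, ← map_mul, hP, hP']
  congr 1
  group

/-- a Sylow 2-subgroup of PSL(3,F) is quasi-dihedral or wreathed -/
theorem sylow_structure (hodd : Fintype.card F % 2 = 1)
    (S : Sylow 2 (Matrix.ProjectiveSpecialLinearGroup (Fin 3) F)) :
    Cfsg.IsQuasiDihedral ↥(S : Subgroup (Matrix.ProjectiveSpecialLinearGroup (Fin 3) F)) ∨
      Cfsg.IsWreathed ↥(S : Subgroup (Matrix.ProjectiveSpecialLinearGroup (Fin 3) F)) := by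
  classical
  have hF : Odd (Fintype.card F) := Nat.odd_iff.mpr hodd
  have h2 : (2 : F) ≠ 0 := Cfsg.Agent.S1219.two_ne_zero_of_odd hF
  have hdvd : 2 ∣ Nat.card (Matrix.ProjectiveSpecialLinearGroup (Fin 3) F) := by
    rw [← orderOf_t0 h2]
    exact orderOf_dvd_natCard _
  have hSne : (S : Subgroup (Matrix.ProjectiveSpecialLinearGroup (Fin 3) F)) ≠ ⊥ :=
    S.ne_bot_of_dvd_card hdvd
  have hSnt : Nontrivial ↥(S : Subgroup (Matrix.ProjectiveSpecialLinearGroup (Fin 3) F)) :=
    (Subgroup.nontrivial_iff_ne_bot _).mpr hSne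
  have hS2 : IsPGroup 2 ↥(S : Subgroup (Matrix.ProjectiveSpecialLinearGroup (Fin 3) F)) :=
    S.isPGroup'
  have hZnt := hS2.center_nontrivial
  have hZ2 : IsPGroup 2 ↥(Subgroup.center
      ↥(S : Subgroup (Matrix.ProjectiveSpecialLinearGroup (Fin 3) F))) :=
    hS2.to_subgroup _
  obtain ⟨m, hm⟩ := hZ2.exists_card_eq
  have hm0 : m ≠ 0 := by
    intro h0
    rw [h0, pow_zero] at hm
    have := Finite.one_lt_card_iff_nontrivial.mpr hZnt
    omega
  obtain ⟨c, hc⟩ := exists_prime_orderOf_dvd_card' (G := ↥(Subgroup.center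
      ↥(S : Subgroup (Matrix.ProjectiveSpecialLinearGroup (Fin 3) F)))) 2 (by
    rw [hm]; exact dvd_pow_self 2 hm0)
  set t : Matrix.ProjectiveSpecialLinearGroup (Fin 3) F :=
    ((c : ↥(S : Subgroup (Matrix.ProjectiveSpecialLinearGroup (Fin 3) F))) :
      Matrix.ProjectiveSpecialLinearGroup (Fin 3) F) with htdef
  have ht : orderOf t = 2 := by
    rw [htdef, Subgroup.orderOf_coe, Subgroup.orderOf_coe]; exact hc
  have hSC : (S : Subgroup (Matrix.ProjectiveSpecialLinearGroup (Fin 3) F)) ≤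
      Subgroup.centralizer ({t} : Set (Matrix.ProjectiveSpecialLinearGroup (Fin 3) F)) := by
    intro s hs
    rw [Subgroup.mem_centralizer_singleton_iff]
    have := Subgroup.mem_center_iff.mp c.2 ⟨s, hs⟩
    exact congrArg Subtype.val this
  obtain ⟨Z, hZn, hZc, hZcard, ⟨e⟩⟩ := Cfsg.Agent.S1219.result hF t ht
  let π : Matrix.GeneralLinearGroup (Fin 2) F →* Matrix.GeneralLinearGroup (Fin 2) F ⧸ Z :=
    QuotientGroup.mk' Z
  let ψ : Matrix.GeneralLinearGroup (Fin 2) F →*
      ↥(Subgroup.centralizer ({t} : Set (Matrix.ProjectiveSpecialLinearGroup (Fin 3) F))) :=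
    e.symm.toMonoidHom.comp π
  have hψ : Function.Surjective ψ :=
    e.symm.surjective.comp (QuotientGroup.mk'_surjective Z)
  have hker : ∀ a, ψ a = 1 → a ∈ Z := by
    intro a ha
    have h1 : π a = 1 := by
      apply e.symm.injective
      rw [map_one]
      exact ha
    exact (QuotientGroup.eq_one_iff a).mp h1
  obtain ⟨P, hP⟩ := Sylow.mapSurjective_surjective hψ 2 (S.subtype hSC)
  have hPmap : (P : Subgroup (Matrix.GeneralLinearGroup (Fin 2) F)).map ψ =
      (S : Subgroup (Matrix.ProjectiveSpecialLinearGroup (Fin 3) F)).subgroupOf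
        (Subgroup.centralizer ({t} : Set (Matrix.ProjectiveSpecialLinearGroup (Fin 3) F))) := by
    rw [← Sylow.coe_mapSurjective hψ P, hP, Sylow.coe_subtype]
  have hmemS : ∀ a : ↥(P : Subgroup (Matrix.GeneralLinearGroup (Fin 2) F)),
      ((ψ a : ↥(Subgroup.centralizer
        ({t} : Set (Matrix.ProjectiveSpecialLinearGroup (Fin 3) F)))) :
        Matrix.ProjectiveSpecialLinearGroup (Fin 3) F) ∈
        (S : Subgroup (Matrix.ProjectiveSpecialLinearGroup (Fin 3) F)) := by
    intro a
    have h1 : ψ a ∈ (P : Subgroup (Matrix.GeneralLinearGroup (Fin 2) F)).map ψ :=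
      ⟨a, a.2, rfl⟩
    rw [hPmap, Subgroup.mem_subgroupOf] at h1
    exact h1
  let f : ↥(P : Subgroup (Matrix.GeneralLinearGroup (Fin 2) F)) →*
      ↥(S : Subgroup (Matrix.ProjectiveSpecialLinearGroup (Fin 3) F)) :=
    { toFun := fun a => ⟨((ψ a : ↥(Subgroup.centralizer
        ({t} : Set (Matrix.ProjectiveSpecialLinearGroup (Fin 3) F)))) :
        Matrix.ProjectiveSpecialLinearGroup (Fin 3) F), hmemS a⟩
      map_one' := by
        apply Subtype.ext
        simp
      map_mul' := by
        intro a b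
        apply Subtype.ext
        simp }
  have hZ3 : Nat.card Z ∣ 3 := by
    rw [hZcard]
    exact Nat.gcd_dvd_right _ _
  have hfinj : Function.Injective f := by
    rw [injective_iff_map_eq_one]
    intro a ha
    have h0 : ((f a : ↥(S : Subgroup (Matrix.ProjectiveSpecialLinearGroup (Fin 3) F))) :
        Matrix.ProjectiveSpecialLinearGroup (Fin 3) F) = 1 := by
      rw [ha]; rfl
    have h1 : ψ a = 1 := by
      apply Subtype.ext
      exact h0
    have haZ : (a : Matrix.GeneralLinearGroup (Fin 2) F) ∈ Z := hker _ h1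
    have hoa : orderOf (a : Matrix.GeneralLinearGroup (Fin 2) F) ∣ Nat.card Z := by
      have h3 := orderOf_dvd_natCard (⟨a, haZ⟩ : Z)
      rwa [Subgroup.orderOf_mk] at h3
    obtain ⟨k, hk⟩ := (IsPGroup.iff_orderOf.mp P.isPGroup') a
    rw [Subgroup.orderOf_coe, hk] at hoa
    have h3 : 2 ^ k ∣ 3 := hoa.trans hZ3
    have hk0 : k = 0 := by
      by_contra hk0
      have h4 : 2 ∣ 2 ^ k := dvd_pow_self 2 hk0
      have h5 : 2 ∣ 3 := h4.trans h3
      omega
    rw [hk0, pow_zero, orderOf_eq_one_iff] at hk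
    exact hk
  have hfsurj : Function.Surjective f := by
    intro s
    have h1 : (⟨s, hSC s.2⟩ : ↥(Subgroup.centralizer
        ({t} : Set (Matrix.ProjectiveSpecialLinearGroup (Fin 3) F)))) ∈
        (S : Subgroup (Matrix.ProjectiveSpecialLinearGroup (Fin 3) F)).subgroupOf _ := by
      rw [Subgroup.mem_subgroupOf]
      exact s.2
    rw [← hPmap] at h1
    obtain ⟨a, ha, hav⟩ := h1
    refine ⟨⟨a, ha⟩, Subtype.ext ?_⟩
    show ((ψ a : ↥(Subgroup.centralizer
      ({t} : Set (Matrix.ProjectiveSpecialLinearGroup (Fin 3) F)))) :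
      Matrix.ProjectiveSpecialLinearGroup (Fin 3) F) = s
    rw [hav]
  let E := MulEquiv.ofBijective f ⟨hfinj, hfsurj⟩
  have hq4 : Fintype.card F % 4 = 3 ∨ Fintype.card F % 4 = 1 := by omega
  rcases hq4 with h | h
  · exact Or.inl (isQuasiDihedral_of_mulEquiv E ((Cfsg.Agent.S1217.result P).1 h))
  · exact Or.inr (isWreathed_of_mulEquiv E ((Cfsg.Agent.S1217.result P).2 h))

end

/-- For a finite field F of odd order, the 2-fusion system of PSL(3,F) on a Sylow 2-subgroup (semidihedral or wreathed according as |F| ≡ 3 or 1 mod 4) is simple. -/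
theorem result {F : Type*} [Field F] [Fintype F] (hodd : Fintype.card F % 2 = 1) (S : Sylow 2 (Matrix.ProjectiveSpecialLinearGroup (Fin 3) F)) :
    (Cfsg.groupFusionSystem (S : Subgroup (Matrix.ProjectiveSpecialLinearGroup (Fin 3) F))).IsSimple 2 := by
  classical
  have hF : Odd (Fintype.card F) := Nat.odd_iff.mpr hodd
  have h2 : (2 : F) ≠ 0 := Cfsg.Agent.S1219.two_ne_zero_of_odd hF
  have hsimple : IsSimpleGroup (Matrix.ProjectiveSpecialLinearGroup (Fin 3) F) :=
    Cfsg.Agent.S0249.result 3 le_rfl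
  have hinv := involutions_conj (F := F) h2
  have hstruct := sylow_structure hodd S
  have hcard8 : 8 ≤ Nat.card ↥(S : Subgroup (Matrix.ProjectiveSpecialLinearGroup (Fin 3) F)) := by
    rcases hstruct with ⟨n, hn, hc, -⟩ | ⟨n, hn, hc, -⟩
    · rw [hc]
      calc 8 = 2 ^ 3 := by norm_num
        _ ≤ 2 ^ (n + 1) := Nat.pow_le_pow_right (by norm_num) (by omega)
    · rw [hc]
      calc 8 = 2 ^ 3 := by norm_num
        _ ≤ 2 ^ (2 * n + 1) := Nat.pow_le_pow_right (by norm_num) (by omega)
  have hperf : commutator (Matrix.ProjectiveSpecialLinearGroup (Fin 3) F) = ⊤ := by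
    rcases hsimple.eq_bot_or_eq_top_of_normal (commutator _) inferInstance with h | h
    · exfalso
      have hcomm : ∀ a b : Matrix.ProjectiveSpecialLinearGroup (Fin 3) F, a * b = b * a := by
        intro a b
        have h1 := Subgroup.commutator_mem_commutator (Subgroup.mem_top a) (Subgroup.mem_top b)
        rw [← commutator_def, h, Subgroup.mem_bot, commutatorElement_eq_one_iff_mul_comm] at h1
        exact h1
      have hnorm : (Subgroup.zpowers (Cfsg.Agent.S1219.mkP (Cfsg.Agent.S1219.DS (F := F)))).Normal := by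
        constructor
        intro n hn g
        rw [hcomm g n, mul_inv_cancel_right]
        exact hn
      rcases hsimple.eq_bot_or_eq_top_of_normal _ hnorm with h3 | h3
      · rw [Subgroup.zpowers_eq_bot] at h3
        have := orderOf_t0 (F := F) h2
        rw [h3, orderOf_one] at this
        omega
      · have h4 : Nat.card (Matrix.ProjectiveSpecialLinearGroup (Fin 3) F) = 2 := by
          rw [← orderOf_t0 (F := F) h2, ← Nat.card_zpowers, h3, Subgroup.card_top]
        have h5 := Subgroup.card_subgroup_dvd_card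
          (S : Subgroup (Matrix.ProjectiveSpecialLinearGroup (Fin 3) F))
        rw [h4] at h5
        have := Nat.le_of_dvd (by norm_num) h5
        omega
    · exact h
  apply Cfsg.Agent.Lib.Helper27.FusSimple.isSimple_of_stronglyClosed 2 S
  · intro hbot
    rw [hbot, Subgroup.card_bot] at hcard8
    omega
  · apply normalizer_inner_of_mulAut_isPGroup 2 S
    rcases hstruct with h | h
    · exact Cfsg.Agent.S3116.result S.isPGroup' (Or.inr h)
    · exact mulAut_isPGroup_of_isWreathed h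
  · intro T hT hT1
    apply eq_of_stronglyClosed S hperf hinv _ T hT hT1
    intro N _ hN
    rcases hstruct with h | h
    · exact exists_sup_zpowers_of_isQuasiDihedral h N hN
    · exact exists_sup_zpowers_of_isWreathed h N hN

end Cfsg.Agent.S5318
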