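import Cfsg.Statements.S5319
import Cfsg.Agent.Lib.Helper27.QDWr
import Cfsg.Agent.S1219
import Cfsg.Agent.S1218
import Cfsg.Agent.S0283
import Cfsg.Agent.S0279
import Cfsg.Agent.S2390
import Cfsg.Agent.Lib.Lead.Unitary

set_option autoImplicit false
open Cfsg

namespace Cfsg.Agent.S5319

open Cfsg.FusionSystem Cfsg.Agent.Lib.Helper27.QDWr Cfsg.Agent.Lib.Lead
open scoped Matrix

section
variable {F : Type*} [Field F] [Fintype F] {q : ℕ}

/-- the standard involution lies in `SU(3,q)` -/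
theorem DS_mem_SU (hodd : q % 2 = 1) :
    (Cfsg.Agent.S1219.DS : Matrix.SpecialLinearGroup (Fin 3) F) ∈ Cfsg.SU 3 F q := by
  intro u v
  show Cfsg.hermForm 3 F q ((Cfsg.Agent.S1219.Dm : Matrix (Fin 3) (Fin 3) F) *ᵥ u)
    ((Cfsg.Agent.S1219.Dm : Matrix (Fin 3) (Fin 3) F) *ᵥ v) = Cfsg.hermForm 3 F q u v
  have hq : Odd q := Nat.odd_iff.mpr hodd
  have e : ∀ w : Fin 3 → F, (Cfsg.Agent.S1219.Dm : Matrix (Fin 3) (Fin 3) F) *ᵥ w =
      ![-w 0, -w 1, w 2] := by
    intro w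
    rw [Cfsg.Agent.S1219.Dm_eq_diagonal]
    funext i
    rw [Matrix.mulVec_diagonal]
    fin_cases i <;> simp
  rw [e u, e v]
  simp only [Cfsg.hermForm, Fin.sum_univ_three, Matrix.cons_val_zero, Matrix.cons_val_one,
    Matrix.cons_val_two, Matrix.head_cons, Matrix.tail_cons, hq.neg_pow]
  ring

/-- the standard involution of `SU(3,q)` -/
def T0 (hodd : q % 2 = 1) : ↥(Cfsg.SU 3 F q) := ⟨Cfsg.Agent.S1219.DS, DS_mem_SU hodd⟩

theorem T0_mul_self (hodd : q % 2 = 1) : T0 (F := F) hodd * T0 hodd = 1 := by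
  apply Subtype.ext
  exact Cfsg.Agent.S1219.DS_mul_self

theorem center_pow_three (hF : Fintype.card F = q ^ 2) (z : ↥(Cfsg.SU 3 F q))
    (hz : z ∈ Subgroup.center ↥(Cfsg.SU 3 F q)) : z ^ 3 = 1 := by
  have hc := Cfsg.Agent.S0279.result hF 3 le_rfl
  have h1 : orderOf (⟨z, hz⟩ : Subgroup.center ↥(Cfsg.SU 3 F q)) ∣ 3 := by
    have h2 := orderOf_dvd_natCard (⟨z, hz⟩ : Subgroup.center ↥(Cfsg.SU 3 F q))
    rw [hc] at h2
    exact h2.trans (Nat.gcd_dvd_left _ _)
  rw [Subgroup.orderOf_mk] at h1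
  exact orderOf_dvd_iff_pow_eq_one.mp h1

theorem center_eq_one_of_sq (hF : Fintype.card F = q ^ 2) (z : ↥(Cfsg.SU 3 F q))
    (hz : z ∈ Subgroup.center ↥(Cfsg.SU 3 F q)) (h2 : z ^ 2 = 1) : z = 1 := by
  have h3 := center_pow_three hF z hz
  rw [pow_succ, h2, one_mul] at h3
  exact h3

/-- involutions of `PSU(3,q)` lift to involutions of `SU(3,q)` -/
theorem exists_lift (hF : Fintype.card F = q ^ 2) (t : Cfsg.PSU 3 F q) (ht : orderOf t = 2) :
    ∃ T : ↥(Cfsg.SU 3 F q), (QuotientGroup.mk T : Cfsg.PSU 3 F q) = t ∧ T * T = 1 ∧ T ≠ 1 := by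
  obtain ⟨g, rfl⟩ := QuotientGroup.mk_surjective t
  have h2 : (QuotientGroup.mk g : Cfsg.PSU 3 F q) ^ 2 = 1 := by
    rw [← ht]
    exact pow_orderOf_eq_one _
  have hc : g ^ 2 ∈ Subgroup.center ↥(Cfsg.SU 3 F q) := by
    rw [← QuotientGroup.eq_one_iff, QuotientGroup.mk_pow]
    exact h2
  have h3 := center_pow_three hF (g ^ 2) hc
  have hg3 : (QuotientGroup.mk (g ^ 3) : Cfsg.PSU 3 F q) = QuotientGroup.mk g := by
    rw [QuotientGroup.mk_pow, pow_succ, h2, one_mul]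
  refine ⟨g ^ 3, hg3, ?_, ?_⟩
  · rw [← pow_two, ← pow_mul, show 3 * 2 = 2 * 3 from rfl, pow_mul]
    exact h3
  · intro h1
    rw [h1, QuotientGroup.mk_one] at hg3
    rw [← hg3, orderOf_one] at ht
    omega

/-- involutions of `SU(3,q)` all have the characteristic polynomial of the standard one -/
theorem charpoly_eq (h2 : (2 : F) ≠ 0) (T : ↥(Cfsg.SU 3 F q)) (hTT : T * T = 1) (hT1 : T ≠ 1) :
    ((T : Matrix.SpecialLinearGroup (Fin 3) F) : Matrix (Fin 3) (Fin 3) F).charpoly =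
      (Cfsg.Agent.S1219.Dm : Matrix (Fin 3) (Fin 3) F).charpoly := by
  have hTT' : (T : Matrix.SpecialLinearGroup (Fin 3) F) * (T : Matrix.SpecialLinearGroup (Fin 3) F)
      = 1 := congrArg Subtype.val hTT
  have hT1' : (T : Matrix.SpecialLinearGroup (Fin 3) F) ≠ 1 := fun h => hT1 (Subtype.ext h)
  obtain ⟨P, hP⟩ := Cfsg.Agent.S1219.exists_conj_DS h2 (T : Matrix.SpecialLinearGroup (Fin 3) F)
    hTT' hT1'
  rw [hP, Matrix.SpecialLinearGroup.coe_mul, Matrix.SpecialLinearGroup.coe_mul,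
    Cfsg.Agent.S1219.DS_coe, mul_assoc, Matrix.charpoly_mul_comm, mul_assoc,
    ← Matrix.SpecialLinearGroup.coe_mul, inv_mul_cancel, Matrix.SpecialLinearGroup.coe_one, mul_one]

/-- all involutions of `SU(3,q)` are conjugate -/
theorem isConj_of_involutions (hF : Fintype.card F = q ^ 2) (hodd : q % 2 = 1)
    (T T' : ↥(Cfsg.SU 3 F q)) (hTT : T * T = 1) (hT1 : T ≠ 1) (hTT' : T' * T' = 1) (hT1' : T' ≠ 1) :
    IsConj T T' := by
  obtain ⟨p, hchar⟩ := CharP.exists F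
  have hp : p.Prime := by
    rcases CharP.char_is_prime_or_zero F p with h | h
    · exact h
    · exfalso
      subst h
      have := CharP.charP_to_charZero F
      exact not_finite F
  have : Fact p.Prime := ⟨hp⟩
  -- `p` divides `q`, so it is odd
  have hpq : p ∣ q := by
    have h1 : p ∣ Fintype.card F :=
      (CharP.cast_eq_zero_iff F p _).mp (Nat.cast_card_eq_zero F)
    rw [hF] at h1
    exact hp.dvd_of_dvd_pow h1
  have hp2 : p ≠ 2 := by
    rintro rfl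
    have := Nat.mod_eq_zero_of_dvd hpq
    omega
  have h2 : (2 : F) ≠ 0 := by
    intro h
    have h3 : ((2 : ℕ) : F) = 0 := by exact_mod_cast h
    rw [CharP.cast_eq_zero_iff F p] at h3
    exact hp2 ((Nat.prime_dvd_prime_iff_eq hp Nat.prime_two).mp h3)
  have ho : ∀ X : ↥(Cfsg.SU 3 F q), X * X = 1 → X ≠ 1 → (orderOf X).Coprime p := by
    intro X hX hX1
    have : orderOf X = 2 := orderOf_eq_prime (by rw [sq]; exact hX) hX1
    rw [this]
    exact (Nat.coprime_primes Nat.prime_two hp).mpr (Ne.symm hp2)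
  exact Cfsg.Agent.S2390.result hF p 3 T T' (ho T hTT hT1) (ho T' hTT' hT1')
    ((charpoly_eq h2 T hTT hT1).trans (charpoly_eq h2 T' hTT' hT1').symm)

omit [Fintype F] in
theorem det_unitary (σ : F →+* F) (A : Matrix (Fin 2) (Fin 2) F) (h : Aᵀ * A.map σ = 1) :
    A.det * σ A.det = 1 := by
  have := congrArg Matrix.det h
  rw [Matrix.det_mul, Matrix.det_transpose, Matrix.det_one] at this
  rw [RingHom.map_det, RingHom.mapMatrix_apply]
  exact this

omit [Fintype F] in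
theorem iotaM_unitary_iff (σ : F →+* F) (A : Matrix (Fin 2) (Fin 2) F) :
    (Cfsg.Agent.S1219.iotaM A)ᵀ * (Cfsg.Agent.S1219.iotaM A).map σ = 1 ↔ Aᵀ * A.map σ = 1 := by
  constructor
  · intro h
    have h00 := congrFun (congrFun h 0) 0
    have h01 := congrFun (congrFun h 0) 1
    have h10 := congrFun (congrFun h 1) 0
    have h11 := congrFun (congrFun h 1) 1
    simp [Cfsg.Agent.S1219.iotaM, Matrix.mul_apply, Fin.sum_univ_three] at h00 h01 h10 h11
    ext i j
    fin_cases i <;> fin_cases j <;> simp [Matrix.mul_apply, Fin.sum_univ_two]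
    · linear_combination h00
    · linear_combination h01
    · linear_combination h10
    · linear_combination h11
  · intro h
    have hd := det_unitary σ A h
    have h00 := congrFun (congrFun h 0) 0
    have h01 := congrFun (congrFun h 0) 1
    have h10 := congrFun (congrFun h 1) 0
    have h11 := congrFun (congrFun h 1) 1
    simp [Matrix.mul_apply, Fin.sum_univ_two] at h00 h01 h10 h11
    have h22 : (A.det)⁻¹ * (σ A.det)⁻¹ = 1 := by
      rw [← mul_inv, hd, inv_one]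
    ext i j
    fin_cases i <;> fin_cases j <;>
      simp [Cfsg.Agent.S1219.iotaM, Matrix.mul_apply, Fin.sum_univ_three]
    · linear_combination h00
    · linear_combination h01
    · linear_combination h10
    · linear_combination h11
    · exact h22

theorem iota_mem_SU_iff (hF : Fintype.card F = q ^ 2) (A : Matrix.GeneralLinearGroup (Fin 2) F) :
    Cfsg.Agent.S1219.iota A ∈ Cfsg.SU 3 F q ↔ A ∈ Cfsg.GU 2 F q := by
  obtain ⟨σ, hσ⟩ := exists_frob hF
  have h3 : Cfsg.Agent.S1219.iota A ∈ Cfsg.SU 3 F q ↔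
      (Cfsg.Agent.S1219.iotaM (A : Matrix (Fin 2) (Fin 2) F))ᵀ *
        (Cfsg.Agent.S1219.iotaM (A : Matrix (Fin 2) (Fin 2) F)).map σ = 1 := by
    rw [← preserves_iff σ hσ]
    exact Iff.rfl
  have h2 : A ∈ Cfsg.GU 2 F q ↔
      (A : Matrix (Fin 2) (Fin 2) F)ᵀ * (A : Matrix (Fin 2) (Fin 2) F).map σ = 1 := by
    rw [← preserves_iff σ hσ]
    exact Iff.rfl
  rw [h3, h2]
  exact iotaM_unitary_iff σ _

/-- the embedding `GU(2,q) → SU(3,q)` -/
def iotaU (hF : Fintype.card F = q ^ 2) : ↥(Cfsg.GU 2 F q) →* ↥(Cfsg.SU 3 F q) :=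
  (Cfsg.Agent.S1219.iota.comp (Cfsg.GU 2 F q).subtype).codRestrict (Cfsg.SU 3 F q)
    (fun A => (iota_mem_SU_iff hF A.1).mpr A.2)

theorem iotaU_coe (hF : Fintype.card F = q ^ 2) (A : ↥(Cfsg.GU 2 F q)) :
    ((iotaU hF A : ↥(Cfsg.SU 3 F q)) : Matrix.SpecialLinearGroup (Fin 3) F) =
      Cfsg.Agent.S1219.iota (A : Matrix.GeneralLinearGroup (Fin 2) F) := rfl

theorem iotaU_injective (hF : Fintype.card F = q ^ 2) : Function.Injective (iotaU (F := F) hF) := by
  intro A B h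
  have h1 : Cfsg.Agent.S1219.iota (A : Matrix.GeneralLinearGroup (Fin 2) F) =
      Cfsg.Agent.S1219.iota (B : Matrix.GeneralLinearGroup (Fin 2) F) := congrArg Subtype.val h
  have h2 : Cfsg.Agent.S1219.iotaM ((A : Matrix.GeneralLinearGroup (Fin 2) F) :
      Matrix (Fin 2) (Fin 2) F) = Cfsg.Agent.S1219.iotaM
        ((B : Matrix.GeneralLinearGroup (Fin 2) F) : Matrix (Fin 2) (Fin 2) F) :=
    congrArg Subtype.val h1
  have h00 := congrFun (congrFun h2 0) 0
  have h01 := congrFun (congrFun h2 0) 1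
  have h10 := congrFun (congrFun h2 1) 0
  have h11 := congrFun (congrFun h2 1) 1
  simp [Cfsg.Agent.S1219.iotaM] at h00 h01 h10 h11
  apply Subtype.ext
  apply Units.ext
  ext i j
  fin_cases i <;> fin_cases j
  · exact h00
  · exact h01
  · exact h10
  · exact h11

/-- the map `GU(2,q) → PSU(3,q)` -/
def phi (hF : Fintype.card F = q ^ 2) : ↥(Cfsg.GU 2 F q) →* Cfsg.PSU 3 F q :=
  (QuotientGroup.mk' (Subgroup.center ↥(Cfsg.SU 3 F q))).comp (iotaU hF)

theorem phi_apply (hF : Fintype.card F = q ^ 2) (A : ↥(Cfsg.GU 2 F q)) :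
    phi hF A = (QuotientGroup.mk (iotaU hF A) : Cfsg.PSU 3 F q) := rfl

theorem phi_comm (hF : Fintype.card F = q ^ 2) (hodd : q % 2 = 1) (A : ↥(Cfsg.GU 2 F q)) :
    phi hF A * (QuotientGroup.mk (T0 hodd) : Cfsg.PSU 3 F q) =
      (QuotientGroup.mk (T0 hodd) : Cfsg.PSU 3 F q) * phi hF A := by
  rw [phi_apply, ← QuotientGroup.mk_mul, ← QuotientGroup.mk_mul]
  congr 1
  apply Subtype.ext
  exact Cfsg.Agent.S1219.iota_comm_DS _

theorem exists_phi_of_comm (hF : Fintype.card F = q ^ 2) (hodd : q % 2 = 1) (h2 : (2 : F) ≠ 0)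
    (y : Cfsg.PSU 3 F q)
    (hy : y * (QuotientGroup.mk (T0 hodd) : Cfsg.PSU 3 F q) =
      (QuotientGroup.mk (T0 hodd) : Cfsg.PSU 3 F q) * y) : ∃ A, phi hF A = y := by
  obtain ⟨g, rfl⟩ := QuotientGroup.mk_surjective y
  have hTT := T0_mul_self (F := F) hodd
  have hz : g * T0 hodd * g⁻¹ * (T0 hodd)⁻¹ ∈ Subgroup.center ↥(Cfsg.SU 3 F q) := by
    rw [← QuotientGroup.eq_one_iff, QuotientGroup.mk_mul, QuotientGroup.mk_mul,
      QuotientGroup.mk_mul, QuotientGroup.mk_inv, QuotientGroup.mk_inv, hy]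
    group
  have hzc : T0 hodd * (g * T0 hodd * g⁻¹ * (T0 hodd)⁻¹) =
      (g * T0 hodd * g⁻¹ * (T0 hodd)⁻¹) * T0 hodd := Subgroup.mem_center_iff.mp hz (T0 hodd)
  have hw : (g * T0 hodd * g⁻¹ * (T0 hodd)⁻¹) * T0 hodd = g * T0 hodd * g⁻¹ := by group
  have hww : (g * T0 hodd * g⁻¹) * (g * T0 hodd * g⁻¹) = 1 := by
    have : (g * T0 hodd * g⁻¹) * (g * T0 hodd * g⁻¹) = g * (T0 hodd * T0 hodd) * g⁻¹ := by group
    rw [this, hTT]
    group
  have hz2 : (g * T0 hodd * g⁻¹ * (T0 hodd)⁻¹) ^ 2 = 1 := by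
    calc (g * T0 hodd * g⁻¹ * (T0 hodd)⁻¹) ^ 2
        = (g * T0 hodd * g⁻¹ * (T0 hodd)⁻¹) * (g * T0 hodd * g⁻¹ * (T0 hodd)⁻¹) *
            (T0 hodd * T0 hodd) := by rw [hTT, mul_one, sq]
      _ = (g * T0 hodd * g⁻¹ * (T0 hodd)⁻¹) * ((g * T0 hodd * g⁻¹ * (T0 hodd)⁻¹) * T0 hodd) *
            T0 hodd := by simp only [mul_assoc]
      _ = (g * T0 hodd * g⁻¹ * (T0 hodd)⁻¹) * (T0 hodd * (g * T0 hodd * g⁻¹ * (T0 hodd)⁻¹)) *
            T0 hodd := by rw [hzc]
      _ = ((g * T0 hodd * g⁻¹ * (T0 hodd)⁻¹) * T0 hodd) *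
            ((g * T0 hodd * g⁻¹ * (T0 hodd)⁻¹) * T0 hodd) := by simp only [mul_assoc]
      _ = 1 := by rw [hw, hww]
  have hz1 := center_eq_one_of_sq hF _ hz hz2
  have hcomm : g * T0 hodd = T0 hodd * g := by
    have h3 : g * T0 hodd * g⁻¹ = T0 hodd := by
      rw [← hw, hz1, one_mul]
    calc g * T0 hodd = (g * T0 hodd * g⁻¹) * g := by group
      _ = T0 hodd * g := by rw [h3]
  have hcomm' : (g : Matrix.SpecialLinearGroup (Fin 3) F) * Cfsg.Agent.S1219.DS =
      Cfsg.Agent.S1219.DS * (g : Matrix.SpecialLinearGroup (Fin 3) F) :=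
    congrArg Subtype.val hcomm
  obtain ⟨A, hA⟩ := Cfsg.Agent.S1219.exists_iota h2 (g : Matrix.SpecialLinearGroup (Fin 3) F) hcomm'
  have hAU : A ∈ Cfsg.GU 2 F q := (iota_mem_SU_iff hF A).mp (by rw [hA]; exact g.2)
  refine ⟨⟨A, hAU⟩, ?_⟩
  rw [phi_apply]
  congr 1
  apply Subtype.ext
  exact hA

theorem pow_three_of_phi_eq_one (hF : Fintype.card F = q ^ 2) (A : ↥(Cfsg.GU 2 F q))
    (h : phi hF A = 1) : A ^ 3 = 1 := by
  have hc : iotaU hF A ∈ Subgroup.center ↥(Cfsg.SU 3 F q) := (QuotientGroup.eq_one_iff _).mp h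
  have h3 := center_pow_three hF _ hc
  apply iotaU_injective hF
  rw [map_pow, h3, map_one]

theorem orderOf_t0 (hF : Fintype.card F = q ^ 2) (hodd : q % 2 = 1) (h2 : (2 : F) ≠ 0) :
    orderOf (QuotientGroup.mk (T0 hodd) : Cfsg.PSU 3 F q) = 2 := by
  apply orderOf_eq_prime
  · rw [sq, ← QuotientGroup.mk_mul, T0_mul_self, QuotientGroup.mk_one]
  · rw [Ne, QuotientGroup.eq_one_iff]
    intro hc
    have h1 := center_eq_one_of_sq hF _ hc (by rw [sq]; exact T0_mul_self hodd)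
    have h1' : (Cfsg.Agent.S1219.DS : Matrix.SpecialLinearGroup (Fin 3) F) = 1 :=
      congrArg Subtype.val h1
    have h00 : (Cfsg.Agent.S1219.Dm : Matrix (Fin 3) (Fin 3) F) 0 0 =
        (1 : Matrix (Fin 3) (Fin 3) F) 0 0 :=
      congrArg (fun M : Matrix.SpecialLinearGroup (Fin 3) F =>
        (M : Matrix (Fin 3) (Fin 3) F) 0 0) h1'
    have e1 : (Cfsg.Agent.S1219.Dm : Matrix (Fin 3) (Fin 3) F) 0 0 = -1 := rfl
    rw [e1, Matrix.one_apply_eq] at h00
    apply h2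
    linear_combination -h00

/-- all involutions of `PSU(3,q)` are conjugate -/
theorem involutions_conj (hF : Fintype.card F = q ^ 2) (hodd : q % 2 = 1)
    (t s : Cfsg.PSU 3 F q) (ht : orderOf t = 2) (hs : orderOf s = 2) : ∃ g, g * t * g⁻¹ = s := by
  obtain ⟨T, hTt, hTT, hT1⟩ := exists_lift hF t ht
  obtain ⟨T', hTs, hTT', hT1'⟩ := exists_lift hF s hs
  obtain ⟨c, hc⟩ := isConj_iff.mp (isConj_of_involutions hF hodd T T' hTT hT1 hTT' hT1')
  refine ⟨QuotientGroup.mk c, ?_⟩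
  rw [← hTt, ← hTs, ← hc, QuotientGroup.mk_mul, QuotientGroup.mk_mul, QuotientGroup.mk_inv]

/-- a Sylow 2-subgroup of `PSU(3,q)` is quasi-dihedral or wreathed -/
theorem sylow_structure (hF : Fintype.card F = q ^ 2) (hodd : q % 2 = 1)
    (S : Sylow 2 (Cfsg.PSU 3 F q)) :
    Cfsg.IsQuasiDihedral ↥(S : Subgroup (Cfsg.PSU 3 F q)) ∨
      Cfsg.IsWreathed ↥(S : Subgroup (Cfsg.PSU 3 F q)) := by
  classical
  have hqodd : Odd q := Nat.odd_iff.mpr hodd
  have h2 : (2 : F) ≠ 0 := Cfsg.Agent.S1219.two_ne_zero_of_odd (by rw [hF]; exact hqodd.pow)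
  have ht0 := orderOf_t0 hF hodd h2
  have hdvd : 2 ∣ Nat.card (Cfsg.PSU 3 F q) := by
    rw [← ht0]
    exact orderOf_dvd_natCard _
  have hSne : (S : Subgroup (Cfsg.PSU 3 F q)) ≠ ⊥ := S.ne_bot_of_dvd_card hdvd
  have hSnt : Nontrivial ↥(S : Subgroup (Cfsg.PSU 3 F q)) :=
    (Subgroup.nontrivial_iff_ne_bot _).mpr hSne
  have hS2 : IsPGroup 2 ↥(S : Subgroup (Cfsg.PSU 3 F q)) := S.isPGroup'
  have hZnt := hS2.center_nontrivial
  have hZ2 : IsPGroup 2 ↥(Subgroup.center ↥(S : Subgroup (Cfsg.PSU 3 F q))) :=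
    hS2.to_subgroup _
  obtain ⟨m, hm⟩ := hZ2.exists_card_eq
  have hm0 : m ≠ 0 := by
    intro h0
    rw [h0, pow_zero] at hm
    have := Finite.one_lt_card_iff_nontrivial.mpr hZnt
    omega
  obtain ⟨c, hc⟩ := exists_prime_orderOf_dvd_card'
    (G := ↥(Subgroup.center ↥(S : Subgroup (Cfsg.PSU 3 F q)))) 2 (by
    rw [hm]; exact dvd_pow_self 2 hm0)
  set t : Cfsg.PSU 3 F q := ((c : ↥(S : Subgroup (Cfsg.PSU 3 F q))) : Cfsg.PSU 3 F q) with htdef
  have ht : orderOf t = 2 := by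
    rw [htdef, Subgroup.orderOf_coe, Subgroup.orderOf_coe]; exact hc
  have hSC : (S : Subgroup (Cfsg.PSU 3 F q)) ≤
      Subgroup.centralizer ({t} : Set (Cfsg.PSU 3 F q)) := by
    intro s hs
    rw [Subgroup.mem_centralizer_singleton_iff]
    have := Subgroup.mem_center_iff.mp c.2 ⟨s, hs⟩
    exact congrArg Subtype.val this
  obtain ⟨x, hx⟩ := involutions_conj hF hodd _ t ht0 ht
  have hψmem : ∀ A : ↥(Cfsg.GU 2 F q),
      ((MulAut.conj x).toMonoidHom.comp (phi hF)) A ∈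
        Subgroup.centralizer ({t} : Set (Cfsg.PSU 3 F q)) := by
    intro A
    show x * phi hF A * x⁻¹ ∈ _
    rw [Subgroup.mem_centralizer_singleton_iff, ← hx]
    have h1 := phi_comm hF hodd A
    calc x * phi hF A * x⁻¹ * (x * (QuotientGroup.mk (T0 hodd) : Cfsg.PSU 3 F q) * x⁻¹)
        = x * (phi hF A * (QuotientGroup.mk (T0 hodd) : Cfsg.PSU 3 F q)) * x⁻¹ := by group
      _ = x * ((QuotientGroup.mk (T0 hodd) : Cfsg.PSU 3 F q) * phi hF A) * x⁻¹ := by rw [h1]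
      _ = x * (QuotientGroup.mk (T0 hodd) : Cfsg.PSU 3 F q) * x⁻¹ * (x * phi hF A * x⁻¹) := by
        group
  let ψ : ↥(Cfsg.GU 2 F q) →* ↥(Subgroup.centralizer ({t} : Set (Cfsg.PSU 3 F q))) :=
    ((MulAut.conj x).toMonoidHom.comp (phi hF)).codRestrict _ hψmem
  have hψval : ∀ A, ((ψ A : ↥(Subgroup.centralizer ({t} : Set (Cfsg.PSU 3 F q)))) :
      Cfsg.PSU 3 F q) = x * phi hF A * x⁻¹ := fun A => rfl
  have hψ : Function.Surjective ψ := by
    rintro ⟨y, hy⟩
    rw [Subgroup.mem_centralizer_singleton_iff, ← hx] at hy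
    have hy' : (x⁻¹ * y * x) * (QuotientGroup.mk (T0 hodd) : Cfsg.PSU 3 F q) =
        (QuotientGroup.mk (T0 hodd) : Cfsg.PSU 3 F q) * (x⁻¹ * y * x) := by
      calc x⁻¹ * y * x * (QuotientGroup.mk (T0 hodd) : Cfsg.PSU 3 F q)
          = x⁻¹ * (y * (x * (QuotientGroup.mk (T0 hodd) : Cfsg.PSU 3 F q) * x⁻¹)) * x := by group
        _ = x⁻¹ * ((x * (QuotientGroup.mk (T0 hodd) : Cfsg.PSU 3 F q) * x⁻¹) * y) * x := by
          rw [hy]
        _ = (QuotientGroup.mk (T0 hodd) : Cfsg.PSU 3 F q) * (x⁻¹ * y * x) := by group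
    obtain ⟨A, hA⟩ := exists_phi_of_comm hF hodd h2 _ hy'
    refine ⟨A, Subtype.ext ?_⟩
    rw [hψval, hA]
    group
  have hker : ∀ a, ψ a = 1 → a ^ 3 = 1 := by
    intro a ha
    apply pow_three_of_phi_eq_one hF
    have h1 : x * phi hF a * x⁻¹ = 1 := by
      rw [← hψval, ha]; rfl
    calc phi hF a = x⁻¹ * (x * phi hF a * x⁻¹) * x := by group
      _ = 1 := by rw [h1]; group
  obtain ⟨P, hP⟩ := Sylow.mapSurjective_surjective hψ 2 (S.subtype hSC)
  have hPmap : (P : Subgroup ↥(Cfsg.GU 2 F q)).map ψ =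
      (S : Subgroup (Cfsg.PSU 3 F q)).subgroupOf
        (Subgroup.centralizer ({t} : Set (Cfsg.PSU 3 F q))) := by
    rw [← Sylow.coe_mapSurjective hψ P, hP, Sylow.coe_subtype]
  have hmemS : ∀ a : ↥(P : Subgroup ↥(Cfsg.GU 2 F q)),
      ((ψ a : ↥(Subgroup.centralizer ({t} : Set (Cfsg.PSU 3 F q)))) : Cfsg.PSU 3 F q) ∈
        (S : Subgroup (Cfsg.PSU 3 F q)) := by
    intro a
    have h1 : ψ a ∈ (P : Subgroup ↥(Cfsg.GU 2 F q)).map ψ := ⟨a, a.2, rfl⟩
    rw [hPmap, Subgroup.mem_subgroupOf] at h1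
    exact h1
  let f : ↥(P : Subgroup ↥(Cfsg.GU 2 F q)) →* ↥(S : Subgroup (Cfsg.PSU 3 F q)) :=
    { toFun := fun a => ⟨((ψ a : ↥(Subgroup.centralizer ({t} : Set (Cfsg.PSU 3 F q)))) :
        Cfsg.PSU 3 F q), hmemS a⟩
      map_one' := by
        apply Subtype.ext
        simp
      map_mul' := by
        intro a b
        apply Subtype.ext
        simp }
  have hfinj : Function.Injective f := by
    rw [injective_iff_map_eq_one]
    intro a ha
    have h0 : ((f a : ↥(S : Subgroup (Cfsg.PSU 3 F q))) : Cfsg.PSU 3 F q) = 1 := by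
      rw [ha]; rfl
    have h1 : ψ a = 1 := by
      apply Subtype.ext
      exact h0
    have h3 : (a : ↥(Cfsg.GU 2 F q)) ^ 3 = 1 := hker _ h1
    have hoa : orderOf (a : ↥(Cfsg.GU 2 F q)) ∣ 3 := orderOf_dvd_of_pow_eq_one h3
    obtain ⟨k, hk⟩ := (IsPGroup.iff_orderOf.mp P.isPGroup') a
    rw [Subgroup.orderOf_coe, hk] at hoa
    have hk0 : k = 0 := by
      by_contra hk0
      have h4 : 2 ∣ 2 ^ k := dvd_pow_self 2 hk0
      have h5 : 2 ∣ 3 := h4.trans hoa
      omega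
    rw [hk0, pow_zero, orderOf_eq_one_iff] at hk
    exact hk
  have hfsurj : Function.Surjective f := by
    intro s
    have h1 : (⟨s, hSC s.2⟩ : ↥(Subgroup.centralizer ({t} : Set (Cfsg.PSU 3 F q)))) ∈
        (S : Subgroup (Cfsg.PSU 3 F q)).subgroupOf _ := by
      rw [Subgroup.mem_subgroupOf]
      exact s.2
    rw [← hPmap] at h1
    obtain ⟨a, ha, hav⟩ := h1
    refine ⟨⟨a, ha⟩, Subtype.ext ?_⟩
    show ((ψ a : ↥(Subgroup.centralizer ({t} : Set (Cfsg.PSU 3 F q)))) : Cfsg.PSU 3 F q) = s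
    rw [hav]
  let E := MulEquiv.ofBijective f ⟨hfinj, hfsurj⟩
  have hq4 : q % 4 = 1 ∨ q % 4 = 3 := by omega
  rcases hq4 with h | h
  · exact Or.inl (isQuasiDihedral_of_mulEquiv E ((Cfsg.Agent.S1218.result q hF hqodd P).1 h))
  · exact Or.inr (isWreathed_of_mulEquiv E ((Cfsg.Agent.S1218.result q hF hqodd P).2 h))

end

/-- Let q be an odd prime power and F a field with q² elements. Then the 2-fusion system of PSU(3,q) (realised as the special unitary group of the standard Hermitian form over F modulo its centre) on a Sylow 2-subgroup is simple. -/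
theorem result {F : Type*} [Field F] [Fintype F] (q : ℕ) (hq : Fintype.card F = q ^ 2) (hodd : q % 2 = 1) (S : Sylow 2 (Cfsg.PSU 3 F q)) :
    (Cfsg.groupFusionSystem (S : Subgroup (Cfsg.PSU 3 F q))).IsSimple 2 := by
  classical
  have hqodd : Odd q := Nat.odd_iff.mpr hodd
  have h2 : (2 : F) ≠ 0 := Cfsg.Agent.S1219.two_ne_zero_of_odd (by rw [hq]; exact hqodd.pow)
  have hsimple : IsSimpleGroup (Cfsg.PSU 3 F q) :=
    Cfsg.Agent.S0283.result hq 3 le_rfl (by
      rintro ⟨-, h⟩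
      omega)
  have hinv := involutions_conj (F := F) hq hodd
  have hstruct := sylow_structure hq hodd S
  have ht0 := orderOf_t0 (F := F) hq hodd h2
  have hcard8 : 8 ≤ Nat.card ↥(S : Subgroup (Cfsg.PSU 3 F q)) := by
    rcases hstruct with ⟨n, hn, hc, -⟩ | ⟨n, hn, hc, -⟩
    · rw [hc]
      calc 8 = 2 ^ 3 := by norm_num
        _ ≤ 2 ^ (n + 1) := Nat.pow_le_pow_right (by norm_num) (by omega)
    · rw [hc]
      calc 8 = 2 ^ 3 := by norm_num
        _ ≤ 2 ^ (2 * n + 1) := Nat.pow_le_pow_right (by norm_num) (by omega)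
  have hperf : commutator (Cfsg.PSU 3 F q) = ⊤ := by
    rcases hsimple.eq_bot_or_eq_top_of_normal (commutator _) inferInstance with h | h
    · exfalso
      have hcomm : ∀ a b : Cfsg.PSU 3 F q, a * b = b * a := by
        intro a b
        have h1 := Subgroup.commutator_mem_commutator (Subgroup.mem_top a) (Subgroup.mem_top b)
        rw [← commutator_def, h, Subgroup.mem_bot, commutatorElement_eq_one_iff_mul_comm] at h1
        exact h1
      have hnorm : (Subgroup.zpowers (QuotientGroup.mk (T0 hodd) : Cfsg.PSU 3 F q)).Normal := by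
        constructor
        intro n hn g
        rw [hcomm g n, mul_inv_cancel_right]
        exact hn
      rcases hsimple.eq_bot_or_eq_top_of_normal _ hnorm with h3 | h3
      · rw [Subgroup.zpowers_eq_bot] at h3
        rw [h3, orderOf_one] at ht0
        omega
      · have h4 : Nat.card (Cfsg.PSU 3 F q) = 2 := by
          rw [← ht0, ← Nat.card_zpowers, h3, Subgroup.card_top]
        have h5 := Subgroup.card_subgroup_dvd_card (S : Subgroup (Cfsg.PSU 3 F q))
        rw [h4] at h5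
        have := Nat.le_of_dvd (by norm_num) h5
        omega
    · exact h
  apply Cfsg.Agent.Lib.Helper27.FusSimple.isSimple_of_stronglyClosed 2 S
  · intro hbot
    rw [hbot, Subgroup.card_bot] at hcard8
    omega
  · apply normalizer_inner_of_mulAut_isPGroup 2 S
    rcases hstruct with h | h
    · exact Cfsg.Agent.S3116.result S.isPGroup' (Or.inr h)
    · exact mulAut_isPGroup_of_isWreathed h
  · intro T hT hT1
    apply eq_of_stronglyClosed S hperf hinv _ T hT hT1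
    intro N _ hN
    rcases hstruct with h | h
    · exact exists_sup_zpowers_of_isQuasiDihedral h N hN
    · exact exists_sup_zpowers_of_isWreathed h N hN

end Cfsg.Agent.S5319
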