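import Cfsg.Statements.S5320
import Cfsg.Agent.Lib.Helper16.PS4.Glue
import Cfsg.Agent.Lib.Helper16.O5F.PartA
import Cfsg.Agent.Lib.Helper19.PS4I
import Cfsg.Agent.Lib.Helper19.PS4CZ
import Cfsg.Agent.Lib.Helper20.PS4FA
import Cfsg.Agent.Lib.Helper20.PS4FB
import Cfsg.Agent.Lib.Helper1.PS4FS
import Cfsg.Agent.Lib.Helper1.PS4QS2
import Cfsg.Agent.Lib.Helper11.PS4QS1
import Cfsg.Agent.Lib.Helper11.PS4Y
import Cfsg.Agent.Lib.Helper24.PS4HS
import Cfsg.Agent.Lib.Helper24.PS4NS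

set_option autoImplicit false
open Cfsg

namespace Cfsg.Agent.S5320

/-- For a finite field F of odd order, the 2-fusion system of the projective symplectic group PSp(4,F) on a Sylow 2-subgroup is simple. -/
theorem result {F : Type*} [Field F] [Fintype F] (hodd : Fintype.card F % 2 = 1) (S : Sylow 2 (Cfsg.PSp 2 F)) :
    (Cfsg.groupFusionSystem (S : Subgroup (Cfsg.PSp 2 F))).IsSimple 2 := by
  have hodd' : Odd (Fintype.card F) := Nat.odd_iff.mpr hodd
  have h2 : (2 : F) ≠ 0 := by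
    intro h
    have : CharP F 2 := CharTwo.of_one_ne_zero_of_two_eq_zero one_ne_zero h
    have hchar : ringChar F = 2 := ringChar.eq F 2
    have heven := FiniteField.even_card_of_char_two hchar
    omega
  have hcases : (Fintype.card F % 8 = 1 ∨ Fintype.card F % 8 = 7) ∨
      (Fintype.card F % 8 = 3 ∨ Fintype.card F % 8 = 5) := by omega
  rcases hcases with hq | hq
  · -- part B: q ≡ ±1 (mod 8), the Sp4 picture, S = Q ≀ 2
    have L : Cfsg.Agent.Lib.Helper16.PS4.Leaf F :=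
      { blk_injective := Cfsg.Agent.Lib.Helper19.PS4.blk_injective F
        sw_mul_self := Cfsg.Agent.Lib.Helper19.PS4.sw_mul_self F
        sw_conj_blk := Cfsg.Agent.Lib.Helper19.PS4.sw_conj_blk F
        blk_mul_sw_ne_blk := Cfsg.Agent.Lib.Helper19.PS4.blk_mul_sw_ne_blk F
        blk_neg_one := Cfsg.Agent.Lib.Helper19.PS4.blk_neg_one F
        mem_S4_iff := Cfsg.Agent.Lib.Helper19.PS4.mem_S4_iff F
        sl2_sq_eq_one := Cfsg.Agent.Lib.Helper19.PS4.sl2_sq_eq_one F h2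
        neg_one_ne_one := Cfsg.Agent.Lib.Helper19.PS4.neg_one_ne_one F h2
        cent_zt := Cfsg.Agent.Lib.Helper19.PS4.cent_zt F h2
        conj_zt := Cfsg.Agent.Lib.Helper20.PS4.conj_zt F h2
        conj_blk_of_sq := Cfsg.Agent.Lib.Helper20.PS4.conj_blk_of_sq F h2
        conj_sl2_of_sq := Cfsg.Agent.Lib.Helper1.PS4.conj_sl2_of_sq F h2
        neg_one_mem := Cfsg.Agent.Lib.Helper11.PS4.neg_one_mem F
        Q_exists_sq := Cfsg.Agent.Lib.Helper11.PS4.Q_exists_sq F hodd'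
        Q_closure_sq := Cfsg.Agent.Lib.Helper11.PS4.Q_closure_sq F hodd'
        Q_closure_prod := Cfsg.Agent.Lib.Helper11.PS4.Q_closure_prod F hodd'
        Q_norm := Cfsg.Agent.Lib.Helper1.PS4.Q_norm F
        card_S4 := Cfsg.Agent.Lib.Helper11.PS4.card_S4 F hodd' }
    exact Cfsg.Agent.Lib.Helper16.PS4.partB L
      (fun Q T => Cfsg.Agent.Lib.Helper24.PS4.S4_hsc L Q T)
      (fun Q g => Cfsg.Agent.Lib.Helper24.PS4.S4_norm L hq Q g) S
  · -- part A: q ≡ ±3 (mod 8), the Ω₅ picture, S = 2^4 : 2^2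
    exact Cfsg.Agent.Lib.Helper16.O5F.partA h2 hq S

end Cfsg.Agent.S5320
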