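import Cfsg.Statements.S5322
import Cfsg.Agent.Lib.helper4.J3FMain

set_option autoImplicit false
open Cfsg

namespace Cfsg.Agent.S5322

/-- For a finite group G isomorphic to the third Janko group J₃, the 2-fusion system of G on a Sylow 2-subgroup is simple: saturated, over a nontrivial 2-group, with no normal subsystem other than the trivial one and itself. -/
theorem result {G : Type*} [Group G] [Finite G] (hG : Cfsg.Spor.IsoJ3 G) (S : Sylow 2 G) : (Cfsg.groupFusionSystem (S : Subgroup G)).IsSimple 2 := by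
  obtain ⟨F, instF, instFt, ω, hF, hω, ⟨e⟩⟩ := hG
  have h2 : (2 : F) = 0 := Cfsg.Agent.Lib.Lead.F4.char_two_of_card hF
  have hω' : ω * ω = ω + 1 := by linear_combination hω - (ω + 1) * h2
  let Ψ : Cfsg.Spor.threeJ3 F ω →* G :=
    e.symm.toMonoidHom.comp (QuotientGroup.mk' (Subgroup.center (Cfsg.Spor.threeJ3 F ω)))
  have hs : Function.Surjective Ψ := by
    intro g
    obtain ⟨x, hx⟩ := QuotientGroup.mk'_surjective (Subgroup.center (Cfsg.Spor.threeJ3 F ω)) (e g)
    refine ⟨x, ?_⟩
    show e.symm (QuotientGroup.mk' _ x) = g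
    rw [hx, MulEquiv.symm_apply_apply]
  have hk : Ψ.ker = Subgroup.center (Cfsg.Spor.threeJ3 F ω) := by
    ext x
    rw [MonoidHom.mem_ker]
    show e.symm (QuotientGroup.mk' _ x) = 1 ↔ _
    rw [MulEquiv.map_eq_one_iff, ← MonoidHom.mem_ker, QuotientGroup.ker_mk']
  exact Cfsg.Agent.Lib.helper4.jg_fus_simple ω h2 hω' Ψ hF hs hk S

end Cfsg.Agent.S5322
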