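import Cfsg.Statements.S5327
import Cfsg.Agent.Lib.Helper26.FusionAut
import Cfsg.Agent.Lib.Helper26.FusionFully

set_option autoImplicit false
open Cfsg

namespace Cfsg.Agent.S5327

open Cfsg.FusionSystem Cfsg.Agent.Lib.Helper26

section Filt

variable {Ω : Type*} [Group Ω] {S : Subgroup Ω}

/-- The maps of `F` that lie in `E` whenever their source satisfies `C`. -/
def filt (F E : FusionSystem S) (C : Subgroup Ω → Prop)
    (hC : ∀ (P Q : Subgroup Ω) (φ : P →* Ω), φ ∈ F.Hom P → (∀ x, φ x ∈ Q) → Q ≤ S → C P → C Q) :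
    FusionSystem S where
  Hom P := {φ | φ ∈ F.Hom P ∧ (C P → φ ∈ E.Hom P)}
  le_of_mem h := F.le_of_mem h.1
  injective_of_mem h := F.injective_of_mem h.1
  conj_mem hP hg := ⟨F.conj_mem hP hg, fun _ => E.conj_mem hP hg⟩
  comp_mem := by
    rintro P Q φ ψ ⟨hφ, hφE⟩ ⟨hψ, hψE⟩ h
    refine ⟨F.comp_mem hφ hψ h, fun hCP => ?_⟩
    have hCQ : C Q := hC P Q φ hφ h (F.le_of_mem hψ).1 hCP
    exact E.comp_mem (hφE hCP) (hψE hCQ) h
  inv_mem := by
    rintro P φ ⟨hφ, hφE⟩
    obtain ⟨ψ, hψ, hinv⟩ := F.inv_mem hφ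
    refine ⟨ψ, ⟨hψ, fun hCr => ?_⟩, hinv⟩
    have hψP : ∀ y : φ.range, ψ y ∈ P := by
      rintro ⟨_, x, rfl⟩
      rw [hinv x]
      exact x.2
    have hCP : C P := hC φ.range P ψ hψ hψP (F.le_of_mem hφ).1 hCr
    obtain ⟨ψ', hψ', hinv'⟩ := E.inv_mem (hφE hCP)
    have : ψ = ψ' := by
      ext ⟨_, x, rfl⟩
      rw [hinv x, hinv' x]
    rw [this]
    exact hψ'

theorem card_le_of_hom [Finite S] (F : FusionSystem S) {P Q : Subgroup Ω} {φ : P →* Ω}
    (hφ : φ ∈ F.Hom P) (h : ∀ x, φ x ∈ Q) (hQ : Q ≤ S) : Nat.card P ≤ Nat.card Q := by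
  have : Finite Q := Finite.of_injective (fun x : Q => (⟨x, hQ x.2⟩ : S))
    (fun a b hab => Subtype.ext (congrArg (fun z : S => (z : Ω)) hab))
  exact Nat.card_le_card_of_injective (fun x => (⟨φ x, h x⟩ : Q))
    (fun a b hab => F.injective_of_mem hφ (congrArg Subtype.val hab))

theorem isConj_of_card_eq [Finite S] (F : FusionSystem S) {P Q : Subgroup Ω} {φ : P →* Ω}
    (hφ : φ ∈ F.Hom P) (h : ∀ x, φ x ∈ Q) (hQ : Q ≤ S) (hc : Nat.card Q = Nat.card P) :
    F.IsConj P Q := by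
  have : Finite Q := Finite.of_injective (fun x : Q => (⟨x, hQ x.2⟩ : S))
    (fun a b hab => Subtype.ext (congrArg (fun z : S => (z : Ω)) hab))
  refine ⟨φ, hφ, ?_⟩
  apply Subgroup.eq_of_le_of_card_ge
  · rintro _ ⟨x, rfl⟩
    exact h x
  · rw [hc]
    exact (Nat.card_congr (MonoidHom.ofInjective (F.injective_of_mem hφ)).toEquiv).le

end Filt

/-- Let F be a saturated fusion system over a finite p-group S. Call a family of subgroups of S generating when every fusion system over S whose automorphism group of each member R contains Aut_F(R) contains every map of F. If two families are each closed under F-conjugacy and each generating, then their intersection is generating. -/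
theorem result {Ω : Type*} [Group Ω] {S : Subgroup Ω} [Finite S] (p : ℕ) [Fact p.Prime] (hS : IsPGroup p S) (F : Cfsg.FusionSystem S) (hF : F.IsSaturated p) (𝒬₁ 𝒬₂ : Set (Subgroup Ω)) (h₁ : ∀ R ∈ 𝒬₁, ∀ R' : Subgroup Ω, F.IsConj R R' → R' ∈ 𝒬₁) (h₂ : ∀ R ∈ 𝒬₂, ∀ R' : Subgroup Ω, F.IsConj R R' → R' ∈ 𝒬₂) (hg₁ : ∀ E : Cfsg.FusionSystem S, (∀ R ∈ 𝒬₁, F.autGroup R ≤ E.autGroup R) → F ≤ E) (hg₂ : ∀ E : Cfsg.FusionSystem S, (∀ R ∈ 𝒬₂, F.autGroup R ≤ E.autGroup R) → F ≤ E) (E : Cfsg.FusionSystem S) (hE : ∀ R ∈ 𝒬₁ ∩ 𝒬₂, F.autGroup R ≤ E.autGroup R) : F ≤ E := by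
  have hautE : ∀ R ∈ 𝒬₁ ∩ 𝒬₂, ∀ α : MulAut R, R.subtype.comp α.toMonoidHom ∈ F.Hom R →
      R.subtype.comp α.toMonoidHom ∈ E.Hom R := by
    intro R hR α hα
    have hRS : R ≤ S := (F.le_of_mem hα).1
    exact (mem_autGroup_iff E hRS).mp (hE R hR (Subgroup.subset_closure hα))
  have claim : ∀ d n : ℕ, Nat.card S + 1 ≤ n + d →
      ∀ P : Subgroup Ω, n ≤ Nat.card P → F.Hom P ⊆ E.Hom P := by
    intro d
    induction d with
    | zero =>
      intro n hn P hP φ hφ
      have hPS := (F.le_of_mem hφ).1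
      have := card_le_card_of_le_of_finite hPS
      omega
    | succ d ih =>
      intro n hn
      have IH := ih (n + 1) (by omega)
      -- Step A
      have hCA : ∀ (P Q : Subgroup Ω) (φ : P →* Ω), φ ∈ F.Hom P → (∀ x, φ x ∈ Q) → Q ≤ S →
          (n < Nat.card P ∨ (Nat.card P = n ∧ P ∉ 𝒬₂)) →
          (n < Nat.card Q ∨ (Nat.card Q = n ∧ Q ∉ 𝒬₂)) := by
        intro P Q φ hφ h hQ hc
        have hle := card_le_of_hom F hφ h hQ
        rcases hc with hc | ⟨hc, hP2⟩
        · left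
          omega
        · by_cases hQn : Nat.card Q = n
          · right
            refine ⟨hQn, fun hQ2 => hP2 ?_⟩
            have hconj := isConj_of_card_eq F hφ h hQ (hQn.trans hc.symm)
            exact h₂ Q hQ2 P (isConj_symm F hconj)
          · left
            omega
      have stepA : F ≤ filt F E (fun P => n < Nat.card P ∨ (Nat.card P = n ∧ P ∉ 𝒬₂)) hCA := by
        apply hg₂
        intro R hR
        apply Subgroup.closure_mono
        intro α hα
        refine ⟨hα, fun hc => ?_⟩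
        rcases hc with hc | ⟨-, hc⟩
        · exact IH R hc hα
        · exact absurd hR hc
      -- Step B
      have hCB : ∀ (P Q : Subgroup Ω) (φ : P →* Ω), φ ∈ F.Hom P → (∀ x, φ x ∈ Q) → Q ≤ S →
          n ≤ Nat.card P → n ≤ Nat.card Q := by
        intro P Q φ hφ h hQ hc
        have hle := card_le_of_hom F hφ h hQ
        omega
      have stepB : F ≤ filt F E (fun P => n ≤ Nat.card P) hCB := by
        apply hg₁
        intro R hR
        apply Subgroup.closure_mono
        intro α hα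
        refine ⟨hα, fun hc => ?_⟩
        by_cases hlt : n < Nat.card R
        · exact IH R hlt hα
        · have hRn : Nat.card R = n := by omega
          by_cases hR2 : R ∈ 𝒬₂
          · exact hautE R ⟨hR, hR2⟩ α hα
          · exact (stepA R hα).2 (Or.inr ⟨hRn, hR2⟩)
      intro P hP φ hφ
      exact (stepB P hφ).2 hP
  intro P φ hφ
  exact claim (Nat.card S + 1) 0 (by omega) P (Nat.zero_le _) hφ

end Cfsg.Agent.S5327
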