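import Cfsg.Statements.S5330
import Cfsg.Agent.Lib.Helper27.FusAbelian

set_option autoImplicit false
open Cfsg

namespace Cfsg.Agent.S5330

open Cfsg.FusionSystem Cfsg.Agent.Lib.Helper26 Cfsg.Agent.Lib.Helper27
open scoped IsMulCommutative

/-- Let F be a saturated fusion system over a finite abelian p-group S. Then S is the internal direct product of the centre of the system and the focal subgroup: Z(F) ∩ foc(F) = 1 and Z(F)·foc(F) = S. -/
theorem result {Ω : Type*} [Group Ω] {S : Subgroup Ω} [Finite S] (p : ℕ) [Fact p.Prime] (hS : IsPGroup p S) (F : Cfsg.FusionSystem S) (hF : F.IsSaturated p) (hab : ∀ x ∈ S, ∀ y ∈ S, x * y = y * x) : F.center ⊓ F.focalSubgroup = ⊥ ∧ F.center ⊔ F.focalSubgroup = S := by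
  have : IsMulCommutative S := ⟨⟨fun a b => Subtype.ext (hab a a.2 b b.2)⟩⟩
  have hcop := autGroup_coprime_of_abelian hS F hF hab
  have hfoc := focal_eq_of_abelian hS F hF hab
  have hcen1 := center_le_autFixed F
  have hcen2 := autFixed_le_center hS F hF hab
  have hfocS : F.focalSubgroup ≤ S := by
    rw [hfoc]
    rintro _ ⟨y, -, rfl⟩
    exact y.2
  have hcenS : F.center ≤ S := (isCentral_center F).1
  constructor
  · rw [eq_bot_iff]
    rintro x ⟨hxc, hxf⟩
    obtain ⟨hxS, hfix⟩ := (mem_autFixed_iff F).mp (hcen1 hxc)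
    rw [SetLike.mem_coe, hfoc] at hxf
    obtain ⟨y, hy, hyx⟩ := hxf
    have hyx' : y = ⟨x, hxS⟩ := Subtype.ext hyx
    rw [hyx'] at hy
    have h1 : (⟨x, hxS⟩ : S) = 1 := coprime_fixed_inter (F.autGroup S) hcop hfix hy
    rw [Subgroup.mem_bot]
    exact congrArg Subtype.val h1
  · apply le_antisymm (sup_le hcenS hfocS)
    intro x hx
    obtain ⟨c, w, hc, hw, hxcw⟩ := coprime_decomp (F.autGroup S) hcop (⟨x, hx⟩ : S)
    have hx' : x = (c : Ω) * (w : Ω) := congrArg Subtype.val hxcw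
    rw [hx']
    apply Subgroup.mul_mem_sup
    · exact hcen2 ((mem_autFixed_iff F).mpr ⟨c.2, hc⟩)
    · rw [hfoc]
      exact ⟨w, hw, rfl⟩

end Cfsg.Agent.S5330
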