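import Cfsg.Statements.S5331
import Cfsg.Agent.Lib.Helper27.FusInner

set_option autoImplicit false
open Cfsg

namespace Cfsg.Agent.S5331

open Cfsg.FusionSystem Cfsg.Agent.Lib.Helper26 Cfsg.Agent.Lib.Helper27

theorem tors (a : ℕ) (z : ZMod (2 ^ a)) (h2 : 2 • z = 0) (hz : z ≠ 0) :
    ∃ b, a = b + 1 ∧ z = ((2 ^ b : ℕ) : ZMod (2 ^ a)) := by
  rcases a with _ | b
  · exfalso
    apply hz
    have : Subsingleton (ZMod (2 ^ 0)) := by
      rw [pow_zero]; infer_instance
    exact Subsingleton.elim _ _
  · refine ⟨b, rfl, ?_⟩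
    have hN : NeZero (2 ^ (b + 1)) := ⟨by positivity⟩
    have h1 : ((2 * z.val : ℕ) : ZMod (2 ^ (b + 1))) = 0 := by
      rw [Nat.cast_mul, ZMod.natCast_zmod_val]
      rw [← h2]; simp [two_mul]
    rw [ZMod.natCast_eq_zero_iff] at h1
    have h1' : 2 * 2 ^ b ∣ 2 * z.val := (dvd_of_eq (pow_succ' 2 b).symm).trans h1
    have h3 : 2 ^ b ∣ z.val := Nat.dvd_of_mul_dvd_mul_left (by norm_num) h1'
    obtain ⟨c, hc⟩ := h3
    have hlt : z.val < 2 ^ (b + 1) := ZMod.val_lt z
    have hne : z.val ≠ 0 := by
      intro h0
      exact hz ((ZMod.val_eq_zero z).mp h0)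
    have hc1 : c = 1 := by
      have hpos : 0 < 2 ^ b := by positivity
      have hlt' : 2 ^ b * c < 2 ^ b * 2 := by
        rw [← hc, ← pow_succ]
        exact hlt
      have : c < 2 := Nat.lt_of_mul_lt_mul_left hlt'
      have : c ≠ 0 := by
        rintro rfl
        exact hne (by rw [hc, mul_zero])
      omega
    rw [hc1, mul_one] at hc
    rw [← hc, ZMod.natCast_zmod_val]

theorem Z1 (a : ℕ) (z z' : ZMod (2 ^ a)) (h2 : 2 • z = 0) (hz : z ≠ 0) (h2' : 2 • z' = 0)
    (hz' : z' ≠ 0) : z = z' := by
  obtain ⟨b, hb, rfl⟩ := tors a z h2 hz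
  obtain ⟨b', hb', rfl⟩ := tors a z' h2' hz'
  have : b = b' := by omega
  rw [this]

theorem Z2 (a h : ℕ) (y : ZMod (2 ^ a)) (hne : 2 ^ h • y ≠ 0) : h < a := by
  by_contra hle
  push Not at hle
  apply hne
  rw [nsmul_eq_mul]
  have : ((2 ^ h : ℕ) : ZMod (2 ^ a)) = 0 := by
    rw [ZMod.natCast_eq_zero_iff]
    exact pow_dvd_pow 2 hle
  rw [this, zero_mul]

theorem Z3 (a k : ℕ) (z : ZMod (2 ^ a)) (h2 : 2 • z = 0) (hz : z ≠ 0) (hk : k < a) :
    ∃ y : ZMod (2 ^ a), z = 2 ^ k • y := by
  obtain ⟨b, hb, rfl⟩ := tors a z h2 hz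
  refine ⟨((2 ^ (b - k) : ℕ) : ZMod (2 ^ a)), ?_⟩
  rw [nsmul_eq_mul, ← Nat.cast_mul, ← pow_add]
  congr 2
  omega

/-- stability lemma -/
theorem stab {M : Type*} [AddCommGroup M] (β : M ≃+ M) (m : ℕ) (hm : Odd m)
    (hβ : ∀ x, β^[m] x = x)
    (x t : M) (hx : β x = x + t) (ht : β t = t) (k : ℕ) (h2 : 2 ^ k • t = 0) : t = 0 := by
  have hj : ∀ j : ℕ, β^[j] x = x + j • t := by
    intro j
    induction j with
    | zero => simp
    | succ j ih =>
      rw [Function.iterate_succ_apply', ih, map_add, map_nsmul, hx, ht, succ_nsmul]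
      abel
  have h1 := hj m
  rw [hβ] at h1
  have h3 : m • t = 0 := by
    have := h1.symm
    rwa [add_eq_left] at this
  have hd1 : addOrderOf t ∣ m := addOrderOf_dvd_of_nsmul_eq_zero h3
  have hd2 : addOrderOf t ∣ 2 ^ k := addOrderOf_dvd_of_nsmul_eq_zero h2
  have hcop : Nat.Coprime m (2 ^ k) := by
    apply Nat.Coprime.pow_right
    exact Nat.coprime_two_right.mpr hm
  have : addOrderOf t = 1 := Nat.eq_one_of_dvd_coprimes hcop hd1 hd2
  exact AddMonoid.addOrderOf_eq_one_iff.mp this

section Core

variable {n : ℕ} {a : Fin n → ℕ}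

/-- the characteristic subgroups `W_h` as predicates -/
def W (a : Fin n → ℕ) (h : ℕ) (x : (i : Fin n) → ZMod (2 ^ a i)) : Prop :=
  2 • x = 0 ∧ ∃ y : (i : Fin n) → ZMod (2 ^ a i), x = 2 ^ h • y

theorem W_map (β : ((i : Fin n) → ZMod (2 ^ a i)) ≃+ ((i : Fin n) → ZMod (2 ^ a i))) {h : ℕ}
    {x : (i : Fin n) → ZMod (2 ^ a i)} (hx : W a h x) : W a h (β x) := by
  obtain ⟨h2, y, rfl⟩ := hx
  refine ⟨?_, β y, map_nsmul β _ _⟩
  rw [← map_nsmul, h2, map_zero]

theorem W_coord {h : ℕ} {x : (i : Fin n) → ZMod (2 ^ a i)} (hx : W a h x) (i : Fin n) :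
    2 • x i = 0 ∧ (x i ≠ 0 → h < a i) := by
  obtain ⟨h2, y, rfl⟩ := hx
  constructor
  · have := congrFun h2 i
    simpa using this
  · intro hne
    exact Z2 (a i) h (y i) hne

theorem W_of_coord {h : ℕ} {x : (i : Fin n) → ZMod (2 ^ a i)}
    (hx : ∀ i, 2 • x i = 0 ∧ (x i ≠ 0 → h < a i)) : W a h x := by
  constructor
  · funext i
    exact (hx i).1
  · have : ∀ i, ∃ y : ZMod (2 ^ a i), x i = 2 ^ h • y := by
      intro i
      by_cases h0 : x i = 0
      · exact ⟨0, by rw [h0, smul_zero]⟩
      · exact Z3 (a i) h (x i) (hx i).1 h0 ((hx i).2 h0)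
    choose y hy using this
    exact ⟨y, funext hy⟩

theorem core (ha : Function.Injective a)
    (β : ((i : Fin n) → ZMod (2 ^ a i)) ≃+ ((i : Fin n) → ZMod (2 ^ a i))) (m : ℕ) (hm : Odd m)
    (hβ : ∀ x, β^[m] x = x) : ∀ x, β x = x := by
  classical
  set H : ℕ := ∑ i, a i with hH
  have haH : ∀ i, a i ≤ H := fun i => Finset.single_le_sum (fun _ _ => Nat.zero_le _) (Finset.mem_univ i)
  have hβs : ∀ x, β.symm^[m] x = x := by
    intro x
    have h1 : Function.LeftInverse (β.symm^[m]) (β^[m]) :=
      Function.LeftInverse.iterate β.symm_apply_apply m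
    have := h1 x
    rw [hβ] at this
    exact this
  -- Stage 1
  have stage1 : ∀ d h : ℕ, H ≤ h + d → ∀ x, W a h x → β x = x := by
    intro d
    induction d with
    | zero =>
      intro h hh x hx
      have hx0 : x = 0 := by
        funext i
        by_contra hne
        have := (W_coord hx i).2 hne
        have := haH i
        omega
      rw [hx0, map_zero]
    | succ d ih =>
      intro h hh x hx
      have ih' := ih (h + 1) (by omega)
      -- t := β x - x is in W (h+1)
      have hβx : W a h (β x) := W_map β hx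
      have key : W a (h + 1) (β x - x) := by
        apply W_of_coord
        intro i
        have hxi := W_coord hx i
        have hbi := W_coord hβx i
        constructor
        · rw [Pi.sub_apply, smul_sub, hxi.1, hbi.1, sub_zero]
        · intro hne
          rw [Pi.sub_apply] at hne
          have hlt : h < a i := by
            by_cases h0 : x i = 0
            · apply hbi.2
              intro hb0
              apply hne
              rw [h0, hb0, sub_zero]
            · exact hxi.2 h0
          by_contra hnot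
          have hai : a i = h + 1 := by omega
          -- membership in W (h+1) is detected by coordinate i
          have hdet : ∀ z, W a h z → (W a (h + 1) z ↔ z i = 0) := by
            intro z hz
            constructor
            · intro hz1
              by_contra hzi
              have := (W_coord hz1 i).2 hzi
              omega
            · intro hzi
              apply W_of_coord
              intro j
              have hzj := W_coord hz j
              refine ⟨hzj.1, fun hne' => ?_⟩
              have h1 := hzj.2 hne'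
              have hij : j ≠ i := by
                rintro rfl
                exact hne' hzi
              have : a j ≠ a i := fun he => hij (ha he)
              omega
          have hx1 : W a (h + 1) x ↔ W a (h + 1) (β x) := by
            constructor
            · exact fun hw => W_map β hw
            · intro hw
              have := W_map β.symm hw
              rwa [β.symm_apply_apply] at this
          rw [hdet x hx, hdet (β x) hβx] at hx1
          by_cases h0 : x i = 0
          · apply hne
            rw [h0, hx1.mp h0, sub_zero]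
          · have hb0 : β x i ≠ 0 := fun hb => h0 (hx1.mpr hb)
            apply hne
            rw [Z1 (a i) (β x i) (x i) hbi.1 hb0 hxi.1 h0, sub_self]
      have ht : β (β x - x) = β x - x := ih' _ key
      have ht0 : β x - x = 0 := by
        apply stab β m hm hβ x (β x - x) (by abel) ht 1
        rw [pow_one]
        exact key.1
      exact sub_eq_zero.mp ht0
  have hOmega1 : ∀ x : (i : Fin n) → ZMod (2 ^ a i), 2 • x = 0 → β x = x := by
    intro x hx
    exact stage1 H 0 (by omega) x ⟨hx, x, by rw [pow_zero, one_smul]⟩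
  -- Stage 2
  have stage2 : ∀ k : ℕ, ∀ x : (i : Fin n) → ZMod (2 ^ a i), 2 ^ k • x = 0 → β x = x := by
    intro k
    induction k with
    | zero =>
      intro x hx
      rw [pow_zero, one_smul] at hx
      rw [hx, map_zero]
    | succ k ih =>
      intro x hx
      have h2x : β (2 • x) = 2 • x := by
        apply ih
        rw [smul_smul, ← pow_succ]
        exact hx
      have ht2 : 2 • (β x - x) = 0 := by
        rw [smul_sub, ← map_nsmul, h2x, sub_self]
      have ht : β (β x - x) = β x - x := hOmega1 _ ht2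
      have ht0 : β x - x = 0 := by
        apply stab β m hm hβ x (β x - x) (by abel) ht 1
        rw [pow_one]
        exact ht2
      exact sub_eq_zero.mp ht0
  intro x
  apply stage2 H
  funext i
  rw [Pi.smul_apply, Pi.zero_apply, nsmul_eq_mul]
  have : ((2 ^ H : ℕ) : ZMod (2 ^ a i)) = 0 := by
    rw [ZMod.natCast_eq_zero_iff]
    exact pow_dvd_pow 2 (haH i)
  rw [this, zero_mul]

end Core


/-- Let S be a finite abelian 2-group that is a direct product of cyclic groups of pairwise distinct orders 2^{a_1} < 2^{a_2} < ⋯ < 2^{a_n} (all a_i ≥ 1). Then every saturated fusion system over S is the inner one: its maps are exactly the conjugations by elements of S. -/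
theorem result {Ω : Type*} [Group Ω] {S : Subgroup Ω} [Finite S] (n : ℕ) (a : Fin n → ℕ) (ha : StrictMono a) (ha1 : ∀ i, 1 ≤ a i) (e : ↥S ≃* Multiplicative ((i : Fin n) → ZMod (2 ^ a i))) (F : Cfsg.FusionSystem S) (hF : F.IsSaturated 2) (P : Subgroup Ω) : F.Hom P = (Cfsg.innerFusionSystem S).Hom P := by
  have hab : ∀ x ∈ S, ∀ y ∈ S, x * y = y * x := by
    intro x hx y hy
    have : (⟨x, hx⟩ : S) * ⟨y, hy⟩ = ⟨y, hy⟩ * ⟨x, hx⟩ := by
      apply e.injective
      rw [map_mul, map_mul, mul_comm]
    exact congrArg Subtype.val this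
  have hS : IsPGroup 2 S := by
    apply IsPGroup.of_card (n := ∑ i, a i)
    rw [Nat.card_congr e.toEquiv]
    show Nat.card ((i : Fin n) → ZMod (2 ^ a i)) = _
    rw [Nat.card_pi]
    simp only [Nat.card_zmod]
    exact Finset.prod_pow_eq_pow_sum _ _ _
  apply Set.Subset.antisymm
  · intro φ hφ
    obtain ⟨α, hα, hαφ⟩ := abelian_extend hS F hF hab hφ
    have hnd := autGroup_not_dvd_of_abelian hS F hF hab
    have hm : Odd (orderOf α) := by
      rw [← Nat.not_even_iff_odd, even_iff_two_dvd]
      intro h2
      apply hnd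
      have h1 : orderOf (⟨α, hα⟩ : F.autGroup S) ∣ Nat.card (F.autGroup S) := orderOf_dvd_natCard _
      rw [← Subgroup.orderOf_coe] at h1
      exact h2.trans h1
    have hpow : α ^ orderOf α = 1 := pow_orderOf_eq_one α
    let β : ((i : Fin n) → ZMod (2 ^ a i)) ≃+ ((i : Fin n) → ZMod (2 ^ a i)) :=
      AddEquiv.toMultiplicative.symm ((e.symm.trans α).trans e)
    have hβapp : ∀ x, β x = Multiplicative.toAdd (e (α (e.symm (Multiplicative.ofAdd x)))) :=
      fun x => rfl
    have hiter : ∀ (j : ℕ) x, β^[j] x =
        Multiplicative.toAdd (e ((α ^ j) (e.symm (Multiplicative.ofAdd x)))) := by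
      intro j
      induction j with
      | zero =>
        intro x
        simp
      | succ j ih =>
        intro x
        rw [Function.iterate_succ_apply', ih, hβapp, pow_succ', MulAut.mul_apply]
        simp
    have hβ : ∀ x, β^[orderOf α] x = x := by
      intro x
      rw [hiter, hpow]
      simp
    have hfix := core ha.injective β (orderOf α) hm hβ
    have hα1 : ∀ y : S, α y = y := by
      intro y
      have h1 := hfix (Multiplicative.toAdd (e y))
      rw [hβapp] at h1
      have h2 : e (α (e.symm (Multiplicative.ofAdd (Multiplicative.toAdd (e y))))) = e y :=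
        Multiplicative.toAdd.injective h1
      have h3 := e.injective h2
      simpa using h3
    refine inner_mem_iff.mpr ⟨source_le F hφ, 1, S.one_mem, fun x => ?_⟩
    rw [← hαφ x, hα1]
    simp
  · rintro φ ⟨hPS, g, hg, h⟩
    exact mem_of_forall_eq F (F.conj_mem hPS hg) (fun x => h x)

end Cfsg.Agent.S5331
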