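import Cfsg.Statements.S5333
import Cfsg.Agent.Lib.Helper26.FusionNC
import Cfsg.Agent.Lib.Helper26.FusionSat2
import Cfsg.Agent.Lib.Helper27.FusJoin

set_option autoImplicit false
open Cfsg

namespace Cfsg.Agent.S5333

open Cfsg.FusionSystem Cfsg.Agent.Lib.Helper26 Cfsg.Agent.Lib.Helper27

section Aux

variable {Ω : Type*} [Group Ω] {S : Subgroup Ω}

/-- Move `P ≥ Z` (with `Z` central in `P`) by a map of the saturated system `F'` so that the image
of `Z` is fully centralized. -/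
theorem transport [Finite S] {p : ℕ} [Fact p.Prime] (hS : IsPGroup p S) (F' : FusionSystem S)
    (hF' : F'.IsSaturated p) {P Z : Subgroup Ω} (hPS : P ≤ S) (hZP : Z ≤ P)
    (hcent : ∀ x ∈ P, ∀ z ∈ Z, x * z = z * x) :
    ∃ (P₁ Z₁ : Subgroup Ω) (e : P ≃* P₁), IsIso F' e ∧ F'.IsFullyCentralized Z₁ ∧ Z₁ ≤ P₁ ∧
      (∀ x : P, (x : Ω) ∈ Z ↔ ((e x : P₁) : Ω) ∈ Z₁) ∧ Nat.card Z₁ = Nat.card Z ∧
      (∀ y ∈ P₁, ∀ w ∈ Z₁, y * w = w * y) := by
  have hZS : Z ≤ S := hZP.trans hPS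
  obtain ⟨Z₁, hconj, hfc⟩ := exists_fullyCentralized_conj F' hZS
  obtain ⟨θ, hθ, hθr⟩ := hconj
  have hrec := saturated_fullyCentralized hS F' hF' hfc
  obtain ⟨θ', hθ', hθ'θ⟩ := hrec.2 Z θ hθ hθr
  have hPext : P ≤ extender S Z θ := by
    intro x hx
    apply centralizerIn_le_extender S Z θ
    refine ⟨hPS hx, ?_⟩
    intro z hz
    exact (hcent x hx z hz).symm
  have hθP := restrict_mem F' hθ' hPext
  obtain ⟨e, he, hex⟩ := exists_iso_of_hom F' hθP rfl
  have hexZ : ∀ (z : Ω) (hz : z ∈ Z), ((e ⟨z, hZP hz⟩ : _) : Ω) = θ ⟨z, hz⟩ := by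
    intro z hz
    rw [hex]
    exact hθ'θ z hz (hPext (hZP hz))
  have hiff : ∀ x : P, (x : Ω) ∈ Z ↔ ((e x : _) : Ω) ∈ Z₁ := by
    intro x
    constructor
    · intro hx
      have := hexZ x hx
      rw [show (⟨(x : Ω), hZP hx⟩ : P) = x from rfl] at this
      rw [this, ← hθr]
      exact ⟨_, rfl⟩
    · intro hx
      rw [← hθr] at hx
      obtain ⟨z, hz⟩ := hx
      have h1 := hexZ z z.2
      have h2 : e ⟨z, hZP z.2⟩ = e x := Subtype.ext (h1.trans hz)
      have h3 := e.injective h2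
      rw [← h3]
      exact z.2
  refine ⟨_, Z₁, e, he, hfc, ?_, hiff, ?_, ?_⟩
  · intro w hw
    rw [← hθr] at hw
    obtain ⟨z, rfl⟩ := hw
    rw [← hexZ z z.2]
    exact (e _).2
  · have : Nat.card Z = Nat.card Z₁ := by
      rw [← hθr]
      exact Nat.card_congr (MonoidHom.ofInjective (F'.injective_of_mem hθ)).toEquiv
    exact this.symm
  · intro y hy w hw
    obtain ⟨x, rfl⟩ : ∃ x : P, ((e x : _) : Ω) = y := ⟨e.symm ⟨y, hy⟩, by simp⟩
    rw [← hθr] at hw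
    obtain ⟨z, rfl⟩ := hw
    rw [← hexZ z z.2, ← Subgroup.coe_mul, ← Subgroup.coe_mul, ← map_mul, ← map_mul]
    congr 2
    exact Subtype.ext (hcent x x.2 z z.2)

theorem isIso_mono' {F F' : FusionSystem S} (h : F' ≤ F) {Q P : Subgroup Ω} {e : Q ≃* P}
    (he : IsIso F' e) : IsIso F e := h _ he

theorem exists_central_order_p [Finite S] {p : ℕ} [hp : Fact p.Prime] (hS : IsPGroup p S)
    {P : Subgroup Ω} (hPS : P ≤ S) (hbot : P ≠ ⊥) :
    ∃ Z : Subgroup Ω, Z ≤ P ∧ Nat.card Z = p ∧ ∀ x ∈ P, ∀ w ∈ Z, x * w = w * x := by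
  have hfinP : Finite P := finite_of_le hPS
  have hPp : IsPGroup p P := hS.to_le hPS
  have hnt : Nontrivial P := (Subgroup.nontrivial_iff_ne_bot P).mpr hbot
  have hcnt : Nontrivial (Subgroup.center P) := hPp.center_nontrivial
  have hcp : IsPGroup p (Subgroup.center P) := hPp.to_subgroup _
  have hpdvd : p ∣ Nat.card (Subgroup.center P) := by
    obtain ⟨n, hn⟩ := IsPGroup.iff_card.mp hcp
    rw [hn]
    rcases n with _ | n
    · exfalso
      rw [pow_zero] at hn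
      have := (Nat.card_eq_one_iff_unique.mp hn).1
      exact not_subsingleton _ this
    · exact dvd_pow_self p (Nat.succ_ne_zero n)
  obtain ⟨z, hz⟩ := exists_prime_orderOf_dvd_card' p hpdvd
  have hzord : orderOf (((z : Subgroup.center P) : P) : Ω) = p := by
    rw [Subgroup.orderOf_coe, Subgroup.orderOf_coe, hz]
  refine ⟨Subgroup.zpowers (((z : Subgroup.center P) : P) : Ω), ?_, ?_, ?_⟩
  · rw [Subgroup.zpowers_le]
    exact (z : P).2
  · rw [Nat.card_zpowers, hzord]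
  · intro x hx w hw
    obtain ⟨k, rfl⟩ := Subgroup.mem_zpowers_iff.mp hw
    have h1 : (⟨x, hx⟩ : P) * (z : P) ^ k = (z : P) ^ k * ⟨x, hx⟩ :=
      (Subgroup.mem_center_iff.mp (Subgroup.zpow_mem _ z.2 k) ⟨x, hx⟩)
    have := congrArg (Subtype.val) h1
    simpa using this

end Aux

/-- Let F′ ≤ F be saturated fusion systems over the same finite p-group S. Suppose that for every subgroup Z ≤ S of order p that is fully centralized in F′, the maps of F and of F′ with source Z coincide and the centralizer systems C_F(Z) and C_{F′}(Z) coincide. Then F = F′. -/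
theorem result {Ω : Type*} [Group Ω] {S : Subgroup Ω} [Finite S] (p : ℕ) [Fact p.Prime] (hS : IsPGroup p S) (F : Cfsg.FusionSystem S) (hF : F.IsSaturated p) (F' : Cfsg.FusionSystem S) (hF' : F'.IsSaturated p) (hle : F' ≤ F) (hZ : ∀ Z : Subgroup Ω, Z ≤ S → Nat.card Z = p → F'.IsFullyCentralized Z → F.Hom Z = F'.Hom Z ∧ ∀ (C C' : Cfsg.FusionSystem (Cfsg.FusionSystem.centralizerIn S Z)), F.IsCentralizerSystem Z C → F'.IsCentralizerSystem Z C' → ∀ P : Subgroup Ω, C.Hom P = C'.Hom P) (P : Subgroup Ω) : F.Hom P = F'.Hom P := by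
  have hp : p.Prime := Fact.out
  apply Set.Subset.antisymm _ (hle P)
  intro φ hφ
  have hPS : P ≤ S := source_le F hφ
  have hfinP : Finite P := finite_of_le hPS
  have hPp : IsPGroup p P := hS.to_le hPS
  by_cases hbot : P = ⊥
  · subst hbot
    refine mem_of_forall_eq F' (subtype_mem F' bot_le) (fun x => ?_)
    have : x = 1 := Subsingleton.elim _ _
    rw [this, map_one, map_one]
  obtain ⟨Z, hZP, hZcard, hcent⟩ := exists_central_order_p hS hPS hbot
  -- first transport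
  obtain ⟨P₁, Z₁, e₁, he₁, hfc₁, hZ₁P₁, hiff₁, hcard₁, hcent₁⟩ :=
    transport hS F' hF' hPS hZP hcent
  -- the image
  obtain ⟨eφ, heφ, hφx⟩ := exists_iso_of_hom F hφ rfl
  have hQS : φ.range ≤ S := range_le F hφ
  have hWQ : (Z.subgroupOf P).map φ ≤ φ.range := by
    rintro _ ⟨x, -, rfl⟩
    exact ⟨x, rfl⟩
  have hcentW : ∀ y ∈ φ.range, ∀ w ∈ (Z.subgroupOf P).map φ,
      y * w = w * y := by
    rintro _ ⟨x, rfl⟩ _ ⟨x', hx', rfl⟩
    rw [← map_mul, ← map_mul]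
    congr 1
    exact Subtype.ext (hcent x x.2 x' (Subgroup.mem_subgroupOf.mp hx'))
  obtain ⟨P₂, W₁, e₂, he₂, hfc₂, hW₁P₂, hiff₂, hcard₂, hcent₂⟩ :=
    transport hS F' hF' hQS hWQ hcentW
  have hWcard : Nat.card W₁ = p := by
    rw [hcard₂, ← hZcard]
    have hinj : Function.Injective
        (φ.comp (Subgroup.inclusion hZP)) :=
      (F.injective_of_mem hφ).comp (Subgroup.inclusion_injective hZP)
    have hrange : (φ.comp (Subgroup.inclusion hZP)).range =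
        (Z.subgroupOf P).map φ := by
      ext y
      constructor
      · rintro ⟨x, rfl⟩
        exact ⟨Subgroup.inclusion hZP x, Subgroup.mem_subgroupOf.mpr x.2, rfl⟩
      · rintro ⟨x, hx, rfl⟩
        exact ⟨⟨x, Subgroup.mem_subgroupOf.mp hx⟩, rfl⟩
    rw [← hrange]
    exact (Nat.card_congr (MonoidHom.ofInjective hinj).toEquiv).symm
  have hZ₁card : Nat.card Z₁ = p := hcard₁.trans hZcard
  -- the transported isomorphism
  have hφ' : IsIso F (e₁.symm.trans (eφ.trans e₂)) :=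
    (isIso_mono' hle he₁).symm.trans (heφ.trans (isIso_mono' hle he₂))
  have hP₁S : P₁ ≤ S := he₁.target_le
  have hP₂S : P₂ ≤ S := he₂.target_le
  -- it maps `Z₁` onto `W₁`
  have hφ'Z : ∀ y : P₁, (y : Ω) ∈ Z₁ ↔ (((e₁.symm.trans (eφ.trans e₂)) y : P₂) : Ω) ∈ W₁ := by
    intro y
    have h1 := hiff₁ (e₁.symm y)
    rw [e₁.apply_symm_apply] at h1
    rw [← h1]
    have h2 := hiff₂ (eφ (e₁.symm y))
    show _ ↔ ((e₂ (eφ (e₁.symm y)) : P₂) : Ω) ∈ W₁
    rw [← h2]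
    constructor
    · intro h
      exact ⟨e₁.symm y, Subgroup.mem_subgroupOf.mpr h, (hφx _).symm⟩
    · rintro ⟨x, hx, hxe⟩
      have : x = e₁.symm y := by
        apply F.injective_of_mem hφ
        rw [hxe, hφx]
      rw [← this]
      exact Subgroup.mem_subgroupOf.mp hx
  obtain ⟨φ', hφ'def⟩ : ∃ φ' : P₁ ≃* P₂, φ' = e₁.symm.trans (eφ.trans e₂) := ⟨_, rfl⟩
  rw [← hφ'def] at hφ' hφ'Z
  have hZ₁S : Z₁ ≤ S := hZ₁P₁.trans hP₁S
  have hW₁S : W₁ ≤ S := hW₁P₂.trans hP₂S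
  -- the restriction `σ` of `φ'` to `Z₁`
  have hσ : (P₂.subtype.comp φ'.toMonoidHom).comp (Subgroup.inclusion hZ₁P₁) ∈ F.Hom Z₁ :=
    restrict_mem F hφ' hZ₁P₁
  have hσ' : (P₂.subtype.comp φ'.toMonoidHom).comp (Subgroup.inclusion hZ₁P₁) ∈ F'.Hom Z₁ := by
    rw [← (hZ Z₁ hZ₁S hZ₁card hfc₁).1]
    exact hσ
  have hσr : ((P₂.subtype.comp φ'.toMonoidHom).comp (Subgroup.inclusion hZ₁P₁)).range = W₁ := by
    ext w
    constructor
    · rintro ⟨y, rfl⟩
      exact (hφ'Z (Subgroup.inclusion hZ₁P₁ y)).mp y.2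
    · intro hw
      have hy : ((φ'.symm ⟨w, hW₁P₂ hw⟩ : P₁) : Ω) ∈ Z₁ := by
        rw [hφ'Z, φ'.apply_symm_apply]
        exact hw
      refine ⟨⟨_, hy⟩, ?_⟩
      show ((φ' (φ'.symm ⟨w, hW₁P₂ hw⟩) : P₂) : Ω) = w
      rw [φ'.apply_symm_apply]
  have hrecW := saturated_fullyCentralized hS F' hF' hfc₂
  obtain ⟨τ, hτ, hτσ⟩ := hrecW.2 Z₁ _ hσ' hσr
  have hP₁ext : P₁ ≤ extender S Z₁
      ((P₂.subtype.comp φ'.toMonoidHom).comp (Subgroup.inclusion hZ₁P₁)) := by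
    intro y hy
    apply centralizerIn_le_extender S Z₁ _
    exact ⟨hP₁S hy, fun w hw => (hcent₁ y hy w hw).symm⟩
  have hτP := restrict_mem F' hτ hP₁ext
  obtain ⟨e₃, he₃, he₃x⟩ := exists_iso_of_hom F' hτP rfl
  have hχ : IsIso F (e₃.symm.trans φ') := (isIso_mono' hle he₃).symm.trans hφ'
  have he₃Z : ∀ y : P₁, (y : Ω) ∈ Z₁ → ((e₃ y : _) : Ω) = ((φ' y : P₂) : Ω) := by
    intro y hy
    rw [he₃x]
    exact hτσ y hy (hP₁ext y.2)
  have hW₁P₃ : W₁ ≤ (τ.comp (Subgroup.inclusion hP₁ext)).range := by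
    intro w hw
    rw [← hσr] at hw
    obtain ⟨y, rfl⟩ := hw
    exact ⟨Subgroup.inclusion hZ₁P₁ y, hτσ y y.2 _⟩
  have hχfix : ∀ w : (τ.comp (Subgroup.inclusion hP₁ext)).range, (w : Ω) ∈ W₁ →
      (((e₃.symm.trans φ') w : P₂) : Ω) = w := by
    intro w hw
    obtain ⟨y, rfl⟩ := e₃.surjective w
    have hyZ : (y : Ω) ∈ Z₁ := by
      rw [← hσr] at hw
      obtain ⟨y₀, hy₀⟩ := hw
      have h1 : ((e₃ (Subgroup.inclusion hZ₁P₁ y₀) : _) : Ω) = ((e₃ y : _) : Ω) := by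
        rw [he₃Z _ y₀.2]
        exact hy₀
      have h2 := e₃.injective (Subtype.ext h1)
      rw [← h2]
      exact y₀.2
    show ((φ' (e₃.symm (e₃ y)) : P₂) : Ω) = _
    rw [e₃.symm_apply_apply, he₃Z y hyZ]
  have hχC : P₂.subtype.comp (e₃.symm.trans φ').toMonoidHom ∈
      F.centralizerHom W₁ (τ.comp (Subgroup.inclusion hP₁ext)).range := by
    refine ⟨hχ, ?_, ?_, ?_⟩
    · rintro _ ⟨x, rfl⟩
      refine ⟨apply_mem F' hτP x, ?_⟩
      intro w hw
      rw [← hσr] at hw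
      obtain ⟨u, rfl⟩ := hw
      have hu : ((P₂.subtype.comp φ'.toMonoidHom).comp (Subgroup.inclusion hZ₁P₁)) u =
          (τ.comp (Subgroup.inclusion hP₁ext)) (Subgroup.inclusion hZ₁P₁ u) :=
        (hτσ u u.2 _).symm
      rw [hu, ← map_mul, ← map_mul]
      congr 1
      exact Subtype.ext (hcent₁ x x.2 u u.2).symm
    · intro y
      refine ⟨hP₂S ((e₃.symm.trans φ') y).2, fun w hw => ?_⟩
      exact (hcent₂ _ ((e₃.symm.trans φ') y).2 w hw).symm
    · have heq : (τ.comp (Subgroup.inclusion hP₁ext)).range =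
          (τ.comp (Subgroup.inclusion hP₁ext)).range ⊔ W₁ := (sup_eq_left.mpr hW₁P₃).symm
      obtain ⟨ψ, hψ, hψeq⟩ := hom_cast F heq _ hχ
      refine ⟨ψ, hψ, fun x => hψeq x x.2 _, fun w => ?_⟩
      have := hψeq (w : Ω) (hW₁P₃ w.2) (le_sup_right (a := (τ.comp (Subgroup.inclusion hP₁ext)).range) w.2)
      exact this.trans (hχfix ⟨w, hW₁P₃ w.2⟩ w.2)
  have hCeq := (hZ W₁ hW₁S hWcard hfc₂).2 (centralizerSystem F W₁ hW₁S)
    (centralizerSystem F' W₁ hW₁S) (centralizerSystem_isCentralizerSystem F W₁ hW₁S)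
    (centralizerSystem_isCentralizerSystem F' W₁ hW₁S) (τ.comp (Subgroup.inclusion hP₁ext)).range
  have hχC' : P₂.subtype.comp (e₃.symm.trans φ').toMonoidHom ∈
      F'.centralizerHom W₁ (τ.comp (Subgroup.inclusion hP₁ext)).range := by
    have h1 : P₂.subtype.comp (e₃.symm.trans φ').toMonoidHom ∈
        (centralizerSystem F W₁ hW₁S).Hom (τ.comp (Subgroup.inclusion hP₁ext)).range := hχC
    rw [hCeq] at h1
    exact h1
  have hχ' : IsIso F' (e₃.symm.trans φ') := hχC'.1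
  have hφ'F' : IsIso F' φ' := by
    have h1 := he₃.trans hχ'
    have heq : e₃.trans (e₃.symm.trans φ') = φ' := by
      apply MulEquiv.ext
      intro x
      show φ' (e₃.symm (e₃ x)) = φ' x
      rw [e₃.symm_apply_apply]
    rwa [heq] at h1
  have hfinal : IsIso F' (e₁.trans (φ'.trans e₂.symm)) := he₁.trans (hφ'F'.trans he₂.symm)
  have heq : e₁.trans (φ'.trans e₂.symm) = eφ := by
    ext x
    simp [hφ'def]
  rw [heq] at hfinal
  exact mem_of_forall_eq F' hfinal (fun x => (hφx x).symm)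

end Cfsg.Agent.S5333
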