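import Cfsg.Statements.S5336
import Cfsg.Agent.S5118
import Cfsg.Agent.Lib.Helper26.FusionGroup

set_option autoImplicit false
open Cfsg

namespace Cfsg.Agent.S5336

open Cfsg.FusionSystem Cfsg.Agent.Lib.Helper26

theorem coprime_card_of_inf_eq_bot {G : Type*} [Group G] [Finite G] (p : ℕ) [Fact p.Prime]
    (S : Sylow p G) (N : Subgroup G) [N.Normal] (h : (S : Subgroup G) ⊓ N = ⊥) :
    (Nat.card N).Coprime p := by
  have hp : p.Prime := Fact.out
  rw [Nat.coprime_comm, hp.coprime_iff_not_dvd]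
  intro hdvd
  obtain ⟨x, hx⟩ := exists_prime_orderOf_dvd_card' p hdvd
  have hxp : IsPGroup p (Subgroup.zpowers (x : G)) := by
    apply IsPGroup.of_card (n := 1)
    rw [Nat.card_zpowers, Subgroup.orderOf_coe, hx, pow_one]
  obtain ⟨g, hg⟩ := exists_conj_le_sylow S hxp
  have h1 : g * (x : G) * g⁻¹ ∈ (S : Subgroup G) := hg ⟨x, Subgroup.mem_zpowers _, rfl⟩
  have h2 : g * (x : G) * g⁻¹ ∈ N := ‹N.Normal›.conj_mem _ x.2 g
  have h3 : g * (x : G) * g⁻¹ ∈ (S : Subgroup G) ⊓ N := ⟨h1, h2⟩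
  rw [h, Subgroup.mem_bot] at h3
  have h4 : (x : G) = 1 := by
    have : (x : G) = g⁻¹ * (g * (x : G) * g⁻¹) * g := by group
    rw [this, h3]
    group
  have h5 : x = 1 := Subtype.ext h4
  rw [h5, orderOf_one] at hx
  exact hp.one_lt.ne hx

/-- Let G be a finite group with Sylow p-subgroup S whose fusion system F_S(G) is simple. If G has no nontrivial normal subgroup of order prime to p and no proper subgroup H containing S induces the same fusion system on S as G does, then G is a simple group. -/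
theorem result {G : Type*} [Group G] [Finite G] (p : ℕ) [Fact p.Prime] (S : Sylow p G) (hsimple : (Cfsg.groupFusionSystem (S : Subgroup G)).IsSimple p) (hcore : Cfsg.pPrimeCore p G = ⊥) (hmin : ∀ (H : Subgroup G) (hSH : (S : Subgroup G) ≤ H), H ≠ ⊤ → ∃ P : Subgroup G, (Cfsg.fusionSystemOfSubgroup H (S : Subgroup G) hSH).Hom P ≠ (Cfsg.groupFusionSystem (S : Subgroup G)).Hom P) : IsSimpleGroup G := by
  have hnt : Nontrivial G := by
    by_contra hnt
    rw [not_nontrivial_iff_subsingleton] at hnt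
    exact hsimple.2.1 (Subsingleton.elim _ _)
  refine { toNontrivial := hnt, eq_bot_or_eq_top_of_normal := ?_ }
  intro N hN
  have hnorm := Cfsg.Agent.S5118.result p S N
  rcases hsimple.2.2 _ _ hnorm with h | ⟨h1, h2⟩
  · left
    have hcop := coprime_card_of_inf_eq_bot p S N h
    have hle : N ≤ Cfsg.pPrimeCore p G := le_sSup ⟨hN, hcop⟩
    rw [hcore] at hle
    exact eq_bot_iff.mpr hle
  · right
    by_contra hne
    have hSN : (S : Subgroup G) ≤ N := inf_eq_left.mp h1
    obtain ⟨P, hP⟩ := hmin N hSN hne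
    apply hP
    rw [← h2 P]
    ext φ
    constructor
    · rintro ⟨hPS, hφS, g, hg, hφ⟩
      exact ⟨h1.symm ▸ hPS, fun x => h1.symm ▸ hφS x, g, hg, hφ⟩
    · rintro ⟨hPS, hφS, g, hg, hφ⟩
      exact ⟨h1 ▸ hPS, fun x => h1 ▸ hφS x, g, hg, hφ⟩

end Cfsg.Agent.S5336
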