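import Cfsg.Statements.S5338
import Cfsg.Agent.Lib.Helper27.FusDown

set_option autoImplicit false
open Cfsg

namespace Cfsg.Agent.S5338

open Cfsg.FusionSystem Cfsg.Agent.Lib.Helper26 Cfsg.Agent.Lib.Helper27

/-- Let F be a saturated fusion system over a finite p-group S and F′ ≤ F a saturated subsystem over all of S that is invariant under F in the conjugation sense: for every map φ of F with source Q and every map ψ of F′ between subgroups R ≤ Q (with values in Q), the transported map φψφ⁻¹ defined on φ(R) is again a map of F′. If moreover Aut_{F′}(S) = Aut_F(S), then F′ = F. -/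
theorem result {Ω : Type*} [Group Ω] {S : Subgroup Ω} [Finite S] (p : ℕ) [Fact p.Prime] (hS : IsPGroup p S) (F : Cfsg.FusionSystem S) (hF : F.IsSaturated p) (F' : Cfsg.FusionSystem S) (hF' : F'.IsSaturated p) (hle : F' ≤ F) (hinv : ∀ (Q : Subgroup Ω) (φ : ↥Q →* Ω), φ ∈ F.Hom Q → ∀ (R : Subgroup Ω) (hRQ : R ≤ Q) (ψ : ↥R →* Ω), ψ ∈ F'.Hom R → ∀ (hψQ : ∀ x : R, ψ x ∈ Q), ∃ χ ∈ F'.Hom ((R.subgroupOf Q).map φ), ∀ (x : R) (hx : φ ⟨(x : Ω), hRQ x.2⟩ ∈ (R.subgroupOf Q).map φ), χ ⟨φ ⟨(x : Ω), hRQ x.2⟩, hx⟩ = φ ⟨ψ x, hψQ x⟩) (htop : F'.autGroup S = F.autGroup S) (P : Subgroup Ω) : F'.Hom P = F.Hom P := by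
  apply Set.Subset.antisymm (hle P)
  revert P
  show F ≤ F'
  apply le_of_aut_induction hS F hF F' hle (hom_top_subset' F F' htop.ge)
  intro P hfn hne IH
  have hPS : P ≤ S := hfn.1
  have hfinP : Finite P := finite_of_le hPS
  obtain ⟨-, ⟨-, R, hR⟩, hrec⟩ := saturated_fullyNormalized hS F hF hfn
  have hA'A : F'.autGroup P ≤ F.autGroup P := Subgroup.closure_mono (fun β hβ => hle P hβ)
  have hnormal : ((F'.autGroup P).subgroupOf (F.autGroup P)).Normal := by
    constructor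
    rintro ⟨β, hβA⟩ hβ ⟨γ, hγA⟩
    rw [Subgroup.mem_subgroupOf] at hβ ⊢
    show γ * β * γ⁻¹ ∈ F'.autGroup P
    have hγF := (mem_autGroup_iff F hPS).mp hγA
    have hβF' := (mem_autGroup_iff F' hPS).mp hβ
    obtain ⟨χ, hχ, hχeq⟩ := hinv P _ hγF P le_rfl _ hβF' (fun x => (β x).2)
    have hmap : (P.subgroupOf P).map (P.subtype.comp γ.toMonoidHom) = P := by
      rw [Subgroup.subgroupOf_self, ← MonoidHom.range_eq_map]
      exact range_subtype_comp_equiv γ
    obtain ⟨χ', hχ', hχ'eq⟩ := hom_cast F' hmap χ hχ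
    rw [mem_autGroup_iff F' hPS]
    refine mem_of_forall_eq F' hχ' (fun y => ?_)
    obtain ⟨x, rfl⟩ : ∃ x, y = γ x := ⟨γ.symm y, by simp⟩
    have h1 : ((γ x : P) : Ω) ∈ (P.subgroupOf P).map (P.subtype.comp γ.toMonoidHom) := by
      rw [hmap]
      exact (γ x).2
    have h2 := hχ'eq ((γ x : P) : Ω) h1 (γ x).2
    have h3 := hχeq x h1
    show ((γ * β * γ⁻¹) (γ x) : Ω) = χ' ⟨((γ x : P) : Ω), (γ x).2⟩
    rw [h2]
    refine Eq.trans ?_ h3.symm
    simp [MulAut.mul_apply]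
  have hRle : (R : Subgroup (F.autGroup P)) ≤ (F'.autGroup P).subgroupOf (F.autGroup P) := by
    rw [hR]
    exact Subgroup.comap_mono (autInducedBy_le_autGroup F' hPS)
  have hfr := Sylow.normalizer_sup_eq_top' R hRle
  intro α hα
  have hmem : (⟨α, hα⟩ : F.autGroup P) ∈ (⊤ : Subgroup (F.autGroup P)) := Subgroup.mem_top _
  rw [← hfr] at hmem
  obtain ⟨⟨γ, hγA⟩, hγN, ⟨β, hβA⟩, hβN, hprod⟩ := Subgroup.mem_sup_of_normal_right.mp hmem
  have hαeq : α = γ * β := (congrArg Subtype.val hprod).symm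
  rw [hαeq]
  apply Subgroup.mul_mem _ _ (Subgroup.mem_subgroupOf.mp hβN)
  -- γ normalizes Aut_S(P), so extends to N_S(P)
  have hnorm : ∀ u ∈ autInducedBy S P, γ * u * γ⁻¹ ∈ autInducedBy S P := by
    intro u hu
    have huA : u ∈ F.autGroup P := autInducedBy_le_autGroup F hPS hu
    have h1 : (⟨u, huA⟩ : F.autGroup P) ∈ (R : Subgroup (F.autGroup P)) := by
      rw [hR]
      exact Subgroup.mem_subgroupOf.mpr hu
    have h2 := (Subgroup.mem_normalizer_iff.mp hγN ⟨u, huA⟩).mp h1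
    have h2' : (⟨γ, hγA⟩ * ⟨u, huA⟩ * ⟨γ, hγA⟩⁻¹ : F.autGroup P) ∈
        (R : Subgroup (F.autGroup P)) := h2
    rw [hR] at h2'
    exact Subgroup.mem_subgroupOf.mp h2'
  obtain ⟨N, hN⟩ := exists_normalizerHom_of_normalizes F hrec hγA hnorm
  have hfinN : Finite ↥(normalizerIn S P) := finite_of_le inf_le_left
  have hN' : N.φ ∈ F'.Hom (normalizerIn S P) :=
    IH (normalizerIn S P) inf_le_left (card_lt_card_of_lt (lt_normalizerIn hS hPS hne)) N.mem
  rw [mem_autGroup_iff F' hPS]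
  exact mem_of_forall_eq F' (restrict_mem F' hN' (le_normalizerIn_self hPS)) (fun x => (hN x).symm)

end Cfsg.Agent.S5338
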