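import Cfsg.Statements.S5340

set_option autoImplicit false
open Cfsg

namespace Cfsg.Agent.S5340

theorem simple_of_inn {Ω : Type*} [Group Ω] {S : Subgroup Ω} (p : ℕ) (F : Cfsg.FusionSystem S) (hF : F.IsSaturated p) (hS1 : S ≠ ⊥) (htop : F.autGroup S = Cfsg.Inn ↥S) (hsc : ∀ T : Subgroup Ω, F.StronglyClosed T → T = ⊥ ∨ T = S) : F.IsSimple p := by
  refine ⟨hF, hS1, ?_⟩
  intro T E hE
  obtain ⟨⟨-, -, hsub, hTsc, -, hfrat⟩, -⟩ := hE
  rcases hsc T hTsc with hT | hT
  · exact Or.inl hT
  · right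
    refine ⟨hT, ?_⟩
    subst hT
    intro P
    apply Set.eq_of_subset_of_subset (hsub P)
    intro φ hφ
    have hPT : P ≤ T := (F.le_of_mem hφ).1
    obtain ⟨α, hα, φ₀, hφ₀, h⟩ := hfrat P hPT φ hφ
    rw [htop] at hα
    obtain ⟨s, rfl⟩ := hα
    have hφ₀T : ∀ x : P, φ₀ x ∈ T := (E.le_of_mem hφ₀).2
    have hc : conjHom T (s : Ω) ∈ E.Hom T := E.conj_mem le_rfl s.2
    have hcomp := E.comp_mem hφ₀ hc hφ₀T
    have : φ = (conjHom T (s : Ω)).comp (φ₀.codRestrict T hφ₀T) := by
      ext x
      rw [h x (hφ₀T x)]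
      rfl
    rw [this]
    exact hcomp

/-- Let F be a saturated fusion system over a nontrivial finite p-group S such that S is generated by its elements of order p, any two subgroups of S of order p are F-conjugate, and Aut_F(S) consists of inner automorphisms only. Then F is simple. -/
theorem result {Ω : Type*} [Group Ω] {S : Subgroup Ω} [Finite S] (p : ℕ) [Fact p.Prime] (hS : IsPGroup p S) (F : Cfsg.FusionSystem S) (hF : F.IsSaturated p) (hS1 : S ≠ ⊥) (hgen : Subgroup.closure {x : Ω | x ∈ S ∧ orderOf x = p} = S) (htr : ∀ A B : Subgroup Ω, A ≤ S → B ≤ S → Nat.card A = p → Nat.card B = p → F.IsConj A B) (htop : F.autGroup S = Cfsg.Inn ↥S) : F.IsSimple p := by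
  apply simple_of_inn p F hF hS1 htop
  intro T hT
  by_cases hTb : T = ⊥
  · exact Or.inl hTb
  · right
    obtain ⟨hTS, hclosed⟩ := hT
    apply le_antisymm hTS
    haveI : Finite T := Finite.of_injective (Subgroup.inclusion hTS) (Subgroup.inclusion_injective hTS)
    have hTp : IsPGroup p T := hS.of_injective (Subgroup.inclusion hTS) (Subgroup.inclusion_injective hTS)
    haveI : Nontrivial T := (Subgroup.nontrivial_iff_ne_bot T).mpr hTb
    have hdvd : p ∣ Nat.card T := by
      obtain ⟨k, hk⟩ := hTp.exists_card_eq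
      have hk0 : k ≠ 0 := by
        rintro rfl
        have : Nat.card T = 1 := by simpa using hk
        have h1 : 1 < Nat.card T := Finite.one_lt_card
        omega
      rw [hk]
      exact dvd_pow_self p hk0
    obtain ⟨t, ht⟩ := exists_prime_orderOf_dvd_card' p hdvd
    have ht' : orderOf (t : Ω) = p := by rw [Subgroup.orderOf_coe]; exact ht
    have hAT : Subgroup.zpowers (t : Ω) ≤ T := by
      rw [Subgroup.zpowers_le]; exact t.2
    have hAcard : Nat.card (Subgroup.zpowers (t : Ω)) = p := by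
      rw [Nat.card_zpowers]; exact ht'
    rw [← hgen, Subgroup.closure_le]
    rintro x ⟨hxS, hxp⟩
    have hBS : Subgroup.zpowers x ≤ S := by rw [Subgroup.zpowers_le]; exact hxS
    have hBcard : Nat.card (Subgroup.zpowers x) = p := by rw [Nat.card_zpowers]; exact hxp
    obtain ⟨φ, hφ, hrange⟩ := htr _ _ (hAT.trans hTS) hBS hAcard hBcard
    have hx : x ∈ φ.range := by rw [hrange]; exact Subgroup.mem_zpowers x
    obtain ⟨a, rfl⟩ := hx
    exact hclosed _ hAT φ hφ a

end Cfsg.Agent.S5340
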