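import Cfsg.Statements.S5342
import Cfsg.Agent.Lib.Helper27.ConstrainedSub

set_option autoImplicit false
open Cfsg

namespace Cfsg.Agent.S5342

/-- Let F be a constrained saturated fusion system over a finite p-group S. Then every subsystem of F that is subnormal in F (reached from F by a finite chain of successive normal subsystems) is constrained. -/
theorem result {Ω : Type*} [Group Ω] {S : Subgroup Ω} [Finite S] (p : ℕ) [Fact p.Prime] (hS : IsPGroup p S) (F : Cfsg.FusionSystem S) (hF : F.IsConstrained p) {T : Subgroup Ω} (E : Cfsg.FusionSystem T) (hE : E.IsSubnormalIn F p) : E.IsConstrained p := by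
  have key : ∀ {T' S' : Subgroup Ω} (E' : Cfsg.FusionSystem T') (F' : Cfsg.FusionSystem S') (q : ℕ),
      E'.IsSubnormalIn F' q → ∀ [Fact q.Prime] [Finite S'], IsPGroup q S' → F'.IsConstrained q →
        E'.IsConstrained q := by
    intro T' S' E' F' q h
    induction h with
    | refl F'' q' => intro _ _ _ hc; exact hc
    | step hED hDF ih =>
      intro _ _ hS' hc
      have hD := hDF.1
      have hUS := hD.2.2.2.1.1
      have : Finite _ := Cfsg.Agent.Lib.Helper26.finite_of_le hUS
      exact ih (hS'.to_le hUS)
        (Cfsg.Agent.Lib.Helper27.constrained_of_subsystem hS' _ hc _ hD.1 hD.2.2.1 hD.2.2.2.1)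
  exact key E F p hE hS hF

end Cfsg.Agent.S5342
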