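import Cfsg.Statements.S5343
import Cfsg.Agent.Lib.Helper27.RealizeQuot

set_option autoImplicit false
universe u
open Cfsg

namespace Cfsg.Agent.S5343

/-- Let F be a simple saturated fusion system over a finite p-group S that is realized by some finite group on a Sylow p-subgroup. Then F is realized by a finite simple group on a Sylow p-subgroup. -/
theorem result {Ω : Type u} [Group Ω] {S : Subgroup Ω} [Finite S] (p : ℕ) [Fact p.Prime] (hS : IsPGroup p S) (F : Cfsg.FusionSystem S) (hsimple : F.IsSimple p) (hreal : F.IsRealizable p) : ∃ (G : Type u) (_ : Group G) (_ : Finite G) (_ : IsSimpleGroup G) (ι : ↥S →* G), F.IsRealizedBy ι ∧ ∃ T : Sylow p G, (T : Subgroup G) = ι.range := by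
  classical
  obtain ⟨hsat, hSne, hsimp⟩ := hsimple
  have hex : ∃ n : ℕ, ∃ (G : Type u) (_ : Group G) (_ : Finite G) (ι : ↥S →* G),
      F.IsRealizedBy ι ∧ (∃ T : Sylow p G, (T : Subgroup G) = ι.range) ∧ Nat.card G = n := by
    obtain ⟨G, iG, iF, ι, h1, h2⟩ := hreal
    exact ⟨Nat.card G, G, iG, iF, ι, h1, h2, rfl⟩
  obtain ⟨G, iG, iF, ι, hR, ⟨TG, hTG⟩, hcard⟩ := Nat.find_spec hex
  have hmin : ∀ m < Nat.find hex, ¬ ∃ (G : Type u) (_ : Group G) (_ : Finite G) (ι : ↥S →* G),
      F.IsRealizedBy ι ∧ (∃ T : Sylow p G, (T : Subgroup G) = ι.range) ∧ Nat.card G = m :=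
    fun m hm => Nat.find_min hex hm
  refine ⟨G, iG, iF, ?_, ι, hR, TG, hTG⟩
  have hnt : Nontrivial G := by
    obtain ⟨x, hx1⟩ := (Subgroup.ne_bot_iff_exists_ne_one.mp hSne)
    refine ⟨ι x, 1, fun h => hx1 ?_⟩
    rw [← map_one ι] at h
    exact hR.1 h
  refine { exists_pair_ne := hnt.exists_pair_ne, eq_bot_or_eq_top_of_normal := ?_ }
  intro N hNn
  by_contra hcon
  have hNbot : N ≠ ⊥ := fun h => hcon (Or.inl h)
  have hNtop : N ≠ ⊤ := fun h => hcon (Or.inr h)
  have hnorm := Cfsg.Agent.Lib.Helper27.pullFS_normal F hsat hR N TG hTG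
  rcases hsimp _ _ hnorm with hT | ⟨hT, hHom⟩
  · obtain ⟨hR', T', hT'⟩ := Cfsg.Agent.Lib.Helper27.realized_quotient F hR N TG hTG hT
    have hlt : Nat.card (G ⧸ N) < Nat.find hex := by
      rw [← hcard, ← Subgroup.index_eq_card, ← Subgroup.index_mul_card N]
      have h1 : 1 < Nat.card N := by
        rw [Subgroup.one_lt_card_iff_ne_bot]
        exact hNbot
      have h2 : 0 < N.index := Nat.pos_of_ne_zero Subgroup.index_ne_zero_of_finite
      nlinarith
    exact hmin _ hlt ⟨G ⧸ N, inferInstance, inferInstance, _, hR', ⟨T', hT'⟩, rfl⟩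
  · obtain ⟨ι', hR', T', hT'⟩ :=
      Cfsg.Agent.Lib.Helper27.realized_subgroup F hR N TG hTG hT hHom
    have hlt : Nat.card N < Nat.find hex := by
      rw [← hcard]
      have h1 : Nat.card N ≤ Nat.card G := Subgroup.card_le_card_group N
      have h2 : Nat.card N ≠ Nat.card G := fun h => hNtop ((Subgroup.card_eq_iff_eq_top N).mp h)
      omega
    exact hmin _ hlt ⟨↥N, inferInstance, inferInstance, ι', hR', ⟨T', hT'⟩, rfl⟩

end Cfsg.Agent.S5343
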