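import Cfsg.Statements.S5346
import Cfsg.Agent.Lib.Helper27.Width1

set_option autoImplicit false
open Cfsg

namespace Cfsg.Agent.S5346

/-- Let D be a conjugation-invariant generating set of 3-transpositions of a finite group G and d a member of D. Then D has width 1 (no two different members of D commute) if and only if G is the product of the subgroup generated by d with the largest normal 3-subgroup of G. -/
theorem result {G : Type*} [Group G] [Finite G] {D : Set G} (hD : Cfsg.IsThreeTranspositionGroup D) {d : G} (hd : d ∈ D) : Cfsg.commutingWidth D = 1 ↔ Subgroup.zpowers d ⊔ Cfsg.pCore 3 G = ⊤ := by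
  classical
  have : Fact (Nat.Prime 3) := ⟨Nat.prime_three⟩
  obtain ⟨⟨hord, hprod⟩, hconj, hgen⟩ := hD
  have sq : ∀ x ∈ D, x * x = 1 := fun x hx => by
    have := pow_orderOf_eq_one x
    rw [hord x hx, pow_two] at this
    exact this
  have inv : ∀ x ∈ D, x⁻¹ = x := fun x hx => inv_eq_of_mul_eq_one_right (sq x hx)
  have ne1 : ∀ x ∈ D, x ≠ 1 := by
    intro x hx h1
    have := hord x hx
    rw [h1, orderOf_one] at this
    omega
  constructor
  · intro hw
    -- no two different members commute
    have hnc : ∀ a ∈ D, ∀ b ∈ D, a ≠ b → ¬ Commute a b := by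
      intro a ha b hb hab hc
      have h2 : 2 ∈ {n : ℕ | ∃ E : Set G, E ⊆ D ∧ E.Finite ∧ (∀ x ∈ E, ∀ y ∈ E, Commute x y) ∧
          E.ncard = n} := by
        refine ⟨{a, b}, ?_, Set.toFinite _, ?_, Set.ncard_pair hab⟩
        · intro x hx
          rcases hx with rfl | rfl
          · exact ha
          · exact hb
        · intro x hx y hy
          rcases hx with rfl | rfl <;> rcases hy with rfl | rfl
          · exact Commute.refl _
          · exact hc
          · exact hc.symm
          · exact Commute.refl _
      have hbdd : BddAbove {n : ℕ | ∃ E : Set G, E ⊆ D ∧ E.Finite ∧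
          (∀ x ∈ E, ∀ y ∈ E, Commute x y) ∧ E.ncard = n} := by
        refine ⟨Nat.card G, ?_⟩
        rintro n ⟨E, -, -, -, rfl⟩
        exact Set.ncard_le_card E
      have := le_csSup hbdd h2
      unfold Cfsg.commutingWidth at hw
      rw [hw] at this
      omega
    have hcube : Cfsg.Agent.Lib.Helper27.W1.CubeClass D := by
      refine ⟨sq, hconj, ?_⟩
      intro a ha b hb
      by_cases hab : a = b
      · rw [hab, sq b hb, one_pow]
      · rcases hprod a ha b hb with h | h
        · exfalso
          apply hnc a ha b hb hab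
          have h3 : a * b = (a * b)⁻¹ := by
            rw [eq_inv_iff_mul_eq_one, ← pow_two]; exact h
          rw [mul_inv_rev, inv a ha, inv b hb] at h3
          exact h3
        · exact h
    exact Cfsg.Agent.Lib.Helper27.W1.width_one hcube hgen hd
  · intro htop
    set N := Cfsg.pCore 3 G with hN
    have hNn : N.Normal := Cfsg.Agent.Lib.Helper1.pCore_normal 3
    have hNp : IsPGroup 3 N := Cfsg.Agent.Lib.Helper1.pCore_isPGroup 3
    -- an element of order 2 does not lie in `N`
    have hnot : ∀ x : G, x * x = 1 → x ≠ 1 → x ∉ N := by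
      intro x hx2 hx1 hxN
      obtain ⟨k, hk⟩ := hNp ⟨x, hxN⟩
      have hk' : x ^ 3 ^ k = 1 := by
        have := congrArg Subtype.val hk
        simpa using this
      have h1 : orderOf x ∣ 3 ^ k := orderOf_dvd_of_pow_eq_one hk'
      have h2 : orderOf x ∣ 2 := orderOf_dvd_of_pow_eq_one (by rw [pow_two]; exact hx2)
      have hcop : Nat.Coprime (3 ^ k) 2 := Nat.Coprime.pow_left k (by norm_num)
      have := Nat.dvd_gcd h1 h2
      rw [hcop] at this
      exact hx1 (orderOf_eq_one_iff.mp (Nat.dvd_one.mp this))
    -- every element is in `N` or in `d N`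
    have hcos : ∀ x : G, x ∈ N ∨ d * x ∈ N := by
      intro x
      have hx : x ∈ Subgroup.zpowers d ⊔ N := by rw [htop]; trivial
      have hset : x ∈ ((Subgroup.zpowers d ⊔ N : Subgroup G) : Set G) := hx
      rw [Subgroup.mul_normal] at hset
      obtain ⟨h, hh, n, hn, rfl⟩ := hset
      obtain ⟨k, rfl⟩ := Subgroup.mem_zpowers_iff.mp hh
      rcases Int.even_or_odd k with hk | hk
      · left
        obtain ⟨j, rfl⟩ := hk
        have : d ^ (j + j) = 1 := by
          rw [zpow_add, ← (Commute.refl d).mul_zpow, sq d hd, one_zpow]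
        show d ^ (j + j) * n ∈ N
        rw [this, one_mul]; exact hn
      · right
        obtain ⟨j, rfl⟩ := hk
        have : d ^ (2 * j + 1) = d := by
          rw [zpow_add, zpow_one, two_mul, zpow_add, ← (Commute.refl d).mul_zpow, sq d hd, one_zpow, one_mul]
        show d * (d ^ (2 * j + 1) * n) ∈ N
        rw [this, ← mul_assoc, sq d hd, one_mul]; exact hn
    unfold Cfsg.commutingWidth
    apply IsGreatest.csSup_eq
    constructor
    · refine ⟨{d}, ?_, Set.toFinite _, ?_, Set.ncard_singleton d⟩
      · intro x hx
        rw [Set.mem_singleton_iff] at hx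
        rw [hx]; exact hd
      · intro x hx y hy
        rw [Set.mem_singleton_iff] at hx hy
        rw [hx, hy]
    · rintro n ⟨E, hED, hEfin, hEc, rfl⟩
      by_contra hgt
      have hgt' : 1 < E.ncard := by omega
      obtain ⟨a, b, ha, hb, hab⟩ := (Set.one_lt_ncard_iff hEfin).mp hgt'
      have haD := hED ha
      have hbD := hED hb
      have hc : a * b = b * a := hEc a ha b hb
      have h1 : d * a ∈ N := (hcos a).resolve_left (hnot a (sq a haD) (ne1 a haD))
      have h2 : d * b ∈ N := (hcos b).resolve_left (hnot b (sq b hbD) (ne1 b hbD))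
      have h3 : (d * a)⁻¹ * (d * b) ∈ N := N.mul_mem (N.inv_mem h1) h2
      have h4 : (d * a)⁻¹ * (d * b) = a * b := by
        rw [mul_inv_rev, inv a haD, inv d hd, mul_assoc, ← mul_assoc d d b, sq d hd, one_mul]
      rw [h4] at h3
      apply hnot (a * b) _ _ h3
      · calc a * b * (a * b) = a * (b * a) * b := by group
          _ = a * (a * b) * b := by rw [hc]
          _ = (a * a) * (b * b) := by group
          _ = 1 := by rw [sq a haD, sq b hbD, one_mul]
      · intro h
        apply hab
        have : a = b⁻¹ := eq_inv_of_mul_eq_one_left h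
        rw [this, inv b hbD]

end Cfsg.Agent.S5346
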