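import Cfsg.Statements.S5347

set_option autoImplicit false
open Cfsg

namespace Cfsg.Agent.S5347

/-- Let D be a conjugation-invariant generating set of 3-transpositions of a finite group G, p a prime bigger than 3, and P a p-subgroup of G. If a member d of D normalizes P then d centralizes P. -/
theorem result {G : Type*} [Group G] [Finite G] {D : Set G} (hD : Cfsg.IsThreeTranspositionGroup D) {p : ℕ} (hp : p.Prime) (hp3 : 3 < p) (P : Subgroup G) (hP : IsPGroup p P) {d : G} (hd : d ∈ D) (hnorm : d ∈ Subgroup.normalizer (P : Set G)) : ∀ x ∈ P, Commute d x := by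
  intro x hx
  obtain ⟨⟨hord, hprod⟩, hconj, -⟩ := hD
  have hd2 : d * d = 1 := by
    have := hord d hd
    rw [← pow_two, ← this, pow_orderOf_eq_one]
  have hdinv : d⁻¹ = d := inv_eq_of_mul_eq_one_right hd2
  have he : x⁻¹ * d * x ∈ D := by
    have := hconj x⁻¹ d hd
    simpa using this
  have hmem : d * (x⁻¹ * d * x) ∈ P := by
    have h1 : d * x⁻¹ * d⁻¹ ∈ P := (Subgroup.mem_normalizer_iff.mp hnorm x⁻¹).mp (P.inv_mem hx)
    have : d * (x⁻¹ * d * x) = (d * x⁻¹ * d⁻¹) * x := by rw [hdinv]; group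
    rw [this]
    exact P.mul_mem h1 hx
  obtain ⟨k, hk⟩ := hP ⟨_, hmem⟩
  have hk' : (d * (x⁻¹ * d * x)) ^ p ^ k = 1 := by
    have := congrArg Subtype.val hk
    simpa using this
  have hone : d * (x⁻¹ * d * x) = 1 := by
    have hdvd : orderOf (d * (x⁻¹ * d * x)) ∣ p ^ k := orderOf_dvd_of_pow_eq_one hk'
    rcases hprod d hd _ he with h2 | h3
    · have h2' : orderOf (d * (x⁻¹ * d * x)) ∣ 2 := orderOf_dvd_of_pow_eq_one h2
      have hcop : Nat.Coprime (p ^ k) 2 := by
        apply Nat.Coprime.pow_left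
        rw [Nat.coprime_primes hp Nat.prime_two]
        omega
      have := Nat.dvd_gcd hdvd h2'
      rw [hcop] at this
      exact orderOf_eq_one_iff.mp (Nat.dvd_one.mp this)
    · have h3' : orderOf (d * (x⁻¹ * d * x)) ∣ 3 := orderOf_dvd_of_pow_eq_one h3
      have hcop : Nat.Coprime (p ^ k) 3 := by
        apply Nat.Coprime.pow_left
        rw [Nat.coprime_primes hp Nat.prime_three]
        omega
      have := Nat.dvd_gcd hdvd h3'
      rw [hcop] at this
      exact orderOf_eq_one_iff.mp (Nat.dvd_one.mp this)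
  have h4 : x⁻¹ * d * x = d := by
    have : x⁻¹ * d * x = d⁻¹ := (inv_eq_of_mul_eq_one_right hone).symm
    rw [this, hdinv]
  show d * x = x * d
  calc d * x = x * (x⁻¹ * d * x) := by group
    _ = x * d := by rw [h4]

end Cfsg.Agent.S5347
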