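import Cfsg.Statements.S5348

set_option autoImplicit false
open Cfsg

namespace Cfsg.Agent.S5348

/-- Let D be a conjugation-invariant generating set of 3-transpositions of a finite group G and d a member of D. Let V be the set of members of D commuting with exactly the same members of D as d, and W the set of members w of D such that the members of D other than w commuting with w are precisely the members of D other than d commuting with d. Then V = {d} or W = {d}. -/
theorem result {G : Type*} [Group G] [Finite G] {D : Set G} (hD : Cfsg.IsThreeTranspositionGroup D) {d : G} (hd : d ∈ D) : {v : G | v ∈ D ∧ ∀ e ∈ D, Commute v e ↔ Commute d e} = {d} ∨ {w : G | w ∈ D ∧ {y : G | y ∈ D ∧ y ≠ d ∧ Commute d y} = {y : G | y ∈ D ∧ y ≠ w ∧ Commute w y}} = {d} := by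
  by_cases hV : {v : G | v ∈ D ∧ ∀ e ∈ D, Commute v e ↔ Commute d e} = {d}
  · exact Or.inl hV
  · right
    have hdV : d ∈ {v : G | v ∈ D ∧ ∀ e ∈ D, Commute v e ↔ Commute d e} := ⟨hd, fun e _ => Iff.rfl⟩
    obtain ⟨v, ⟨hvD, hv⟩, hvd⟩ : ∃ v ∈ {v : G | v ∈ D ∧ ∀ e ∈ D, Commute v e ↔ Commute d e}, v ≠ d := by
      by_contra hcon
      push Not at hcon
      exact hV (Set.eq_singleton_iff_unique_mem.mpr ⟨hdV, hcon⟩)
    apply Set.eq_singleton_iff_unique_mem.mpr
    refine ⟨⟨hd, rfl⟩, ?_⟩
    rintro w ⟨hwD, hw⟩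
    by_contra hwd
    have hvd' : Commute v d := (hv d hd).mpr (Commute.refl d)
    have hdw : ¬ Commute d w := by
      intro hc
      have : w ∈ {y : G | y ∈ D ∧ y ≠ d ∧ Commute d y} := ⟨hwD, hwd, hc⟩
      rw [hw] at this
      exact this.2.1 rfl
    have hv1 : v ∈ {y : G | y ∈ D ∧ y ≠ d ∧ Commute d y} := ⟨hvD, hvd, hvd'.symm⟩
    rw [hw] at hv1
    have hwv : Commute w v := hv1.2.2
    have : Commute d w := (hv w hwD).mp hwv.symm
    exact hdw this

end Cfsg.Agent.S5348
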