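import Cfsg.Statements.S5351
import Cfsg.Agent.Lib.Helper27.TTFitting
import Cfsg.Agent.S5349
import Cfsg.Agent.S5350

set_option autoImplicit false
open Cfsg

namespace Cfsg.Agent.S5351

/-- Let D be a conjugacy class of 3-transpositions generating the finite group G, with at least two members. Then for every prime p > 3 the largest normal p-subgroup of G is central, and exactly one of the following holds: the largest normal 2-subgroup of G is not central; the largest normal 3-subgroup of G is not central; the layer of G (the product of its components) is non-trivial. -/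
theorem result {G : Type*} [Group G] [Finite G] {D : Set G} (hD : Cfsg.IsThreeTranspositionClass D) (hD2 : ∃ a ∈ D, ∃ b ∈ D, a ≠ b) : (∀ p : ℕ, p.Prime → 3 < p → Cfsg.pCore p G ≤ Subgroup.center G) ∧ ((¬ Cfsg.pCore 2 G ≤ Subgroup.center G ∧ Cfsg.pCore 3 G ≤ Subgroup.center G ∧ Cfsg.layer G = ⊥) ∨ (Cfsg.pCore 2 G ≤ Subgroup.center G ∧ ¬ Cfsg.pCore 3 G ≤ Subgroup.center G ∧ Cfsg.layer G = ⊥) ∨ (Cfsg.pCore 2 G ≤ Subgroup.center G ∧ Cfsg.pCore 3 G ≤ Subgroup.center G ∧ Cfsg.layer G ≠ ⊥)) := by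
  classical
  obtain ⟨hDs, ⟨d₀, hd₀, hDc⟩, hgen⟩ := hD
  have hconj : ∀ g : G, ∀ x ∈ D, g * x * g⁻¹ ∈ D := by
    intro g x hx
    rw [hDc] at hx ⊢
    have hx' : IsConj d₀ x := hx
    show IsConj d₀ (g * x * g⁻¹)
    exact hx'.trans (isConj_iff.mpr ⟨g, rfl⟩)
  have hall : ∀ a ∈ D, ∀ b ∈ D, ∃ g : G, g * a * g⁻¹ = b := by
    intro a ha b hb
    rw [hDc] at ha hb
    have h1 : IsConj d₀ a := ha
    have h2 : IsConj d₀ b := hb
    exact isConj_iff.mp (h1.symm.trans h2)
  have hD' : Cfsg.IsThreeTranspositionClass D := ⟨hDs, ⟨d₀, hd₀, hDc⟩, hgen⟩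
  have h2n : (Cfsg.pCore 2 G).Normal := Cfsg.Agent.Lib.Helper1.pCore_normal 2
  have h3n : (Cfsg.pCore 3 G).Normal := Cfsg.Agent.Lib.Helper1.pCore_normal 3
  -- primes above 3
  have hbig : ∀ p : ℕ, p.Prime → 3 < p → Cfsg.pCore p G ≤ Subgroup.center G := fun p hp h3 =>
    Cfsg.Agent.Lib.Helper27.TTFitting.pCore_le_center_of_gt_three hDs hconj hgen hp h3
  -- not both non-central
  have hnotboth : Cfsg.pCore 2 G ≤ Subgroup.center G ∨ Cfsg.pCore 3 G ≤ Subgroup.center G := by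
    by_contra hcon
    push Not at hcon
    obtain ⟨hA, hB⟩ := hcon
    obtain ⟨h, hh, hv⟩ := Cfsg.Agent.Lib.Helper27.TTFitting.exists_conj_ne_of_not_le_center hgen hall
      h2n hA hd₀
    obtain ⟨g, hg, hw⟩ := Cfsg.Agent.Lib.Helper27.TTFitting.exists_conj_ne_of_not_le_center hgen hall
      h3n hB hd₀
    have hV := (Cfsg.Agent.S5349.result hD' hD2 hd₀).2
    have hW := (Cfsg.Agent.S5350.result hD' hD2 hd₀).2
    have hvV : h * d₀ * h⁻¹ ∈ {v : G | ∃ g ∈ Cfsg.pCore 2 G, v = g * d₀ * g⁻¹} := ⟨h, hh, rfl⟩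
    rw [← hV] at hvV
    have hwW : g * d₀ * g⁻¹ ∈ {w : G | ∃ g ∈ Cfsg.pCore 3 G, w = g * d₀ * g⁻¹} := ⟨g, hg, rfl⟩
    rw [← hW] at hwW
    set v : G := h * d₀ * h⁻¹ with hvdef
    set w : G := g * d₀ * g⁻¹ with hwdef
    obtain ⟨hvD, hvP⟩ := hvV
    obtain ⟨hwD, hwP⟩ := hwW
    have hvd : Commute d₀ v := ((hvP d₀ hd₀).mpr (Commute.refl d₀)).symm
    have h1 : v ∈ {y : G | y ∈ D ∧ y ≠ d₀ ∧ Commute d₀ y} := ⟨hvD, hv, hvd⟩
    rw [hwP] at h1
    have hwv : Commute w v := h1.2.2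
    have hdw : Commute d₀ w := (hvP w hwD).mp hwv.symm
    have h2 : w ∈ {y : G | y ∈ D ∧ y ≠ d₀ ∧ Commute d₀ y} := ⟨hwD, hw, hdw⟩
    rw [hwP] at h2
    exact h2.2.1 rfl
  -- a non-central core kills the layer
  have hlayer2 : ¬ Cfsg.pCore 2 G ≤ Subgroup.center G → Cfsg.layer G = ⊥ := by
    intro hA
    apply Cfsg.Agent.Lib.Helper27.TTFitting.layer_eq_bot_of_two hDs hconj hgen
    intro d hd
    exact Cfsg.Agent.Lib.Helper27.TTFitting.exists_conj_ne_of_not_le_center hgen hall h2n hA hd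
  have hlayer3 : ¬ Cfsg.pCore 3 G ≤ Subgroup.center G → Cfsg.layer G = ⊥ := by
    intro hB
    apply Cfsg.Agent.Lib.Helper27.TTFitting.layer_eq_bot_of_three hDs hconj hgen
    intro d hd
    exact Cfsg.Agent.Lib.Helper27.TTFitting.exists_conj_ne_of_not_le_center hgen hall h3n hB hd
  -- both central gives a component
  have hcomp : Cfsg.pCore 2 G ≤ Subgroup.center G → Cfsg.pCore 3 G ≤ Subgroup.center G →
      Cfsg.layer G ≠ ⊥ := by
    intro hA hB
    have hF : Cfsg.fittingSubgroup G ≤ Subgroup.center G := by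
      rw [Cfsg.Agent.Lib.Helper1.fittingSubgroup_eq_iSup_pCore]
      apply iSup_le
      intro p
      have hp : (p : ℕ).Prime := p.2
      by_cases h2 : (p : ℕ) = 2
      · rw [h2]; exact hA
      by_cases h3 : (p : ℕ) = 3
      · rw [h3]; exact hB
      apply hbig _ hp
      have := hp.two_le
      omega
    have hna : ∃ a b : G, a * b ≠ b * a := by
      obtain ⟨a, ha, b, hb, hab⟩ := hD2
      obtain ⟨g, hg⟩ := hall a ha b hb
      refine ⟨g, a, ?_⟩
      intro h
      apply hab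
      rw [← hg, h, mul_inv_cancel_right]
    obtain ⟨K, hK⟩ := Cfsg.Agent.Lib.Helper9.exists_component_of_fitting_central hF hna
    intro hbot
    have hKle : K ≤ Cfsg.layer G := Cfsg.Agent.Lib.Helper10.component_le_layer hK
    rw [hbot] at hKle
    have hsolv : Group.IsSolvable (⊥ : Subgroup G) := inferInstance
    exact Cfsg.Agent.Lib.Helper10.isComponent_not_le_of_isSolvable hK hsolv hKle
  refine ⟨hbig, ?_⟩
  by_cases hA : Cfsg.pCore 2 G ≤ Subgroup.center G
  · by_cases hB : Cfsg.pCore 3 G ≤ Subgroup.center G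
    · right; right
      exact ⟨hA, hB, hcomp hA hB⟩
    · right; left
      exact ⟨hA, hB, hlayer3 hB⟩
  · left
    refine ⟨hA, ?_, hlayer2 hA⟩
    rcases hnotboth with h | h
    · exact absurd h hA
    · exact h

end Cfsg.Agent.S5351
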