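import Cfsg.Statements.S5354
import Cfsg.Agent.Lib.Helper27.TTModule
import Cfsg.Agent.S5352
import Cfsg.Agent.S5353

set_option autoImplicit false
open Cfsg

namespace Cfsg.Agent.S5354

/-- Let D be a conjugation-invariant generating set of 3-transpositions of the finite group G on which G acts primitively by conjugation, and suppose two different members of D commute (width at least 2). Then G has a quasisimple normal subgroup L of index at most 2 with the generalized Fitting subgroup of G equal to L times the centre, the commuting graph of D is connected, and for d in D the subgroup generated by the members of D commuting with d is a maximal D-subgroup: it is proper, and every subgroup generated by members of D that contains it is either it or G. -/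
theorem result {G : Type*} [Group G] [Finite G] {D : Set G} (hD : Cfsg.IsThreeTranspositionGroup D) (hprim : Cfsg.IsPrimitiveUnderConj D) (hw : ∃ a ∈ D, ∃ b ∈ D, a ≠ b ∧ Commute a b) : (∃ L : Subgroup G, L.Normal ∧ Cfsg.IsQuasisimple L ∧ L.index ≤ 2 ∧ Cfsg.generalizedFittingSubgroup G = L ⊔ Subgroup.center G) ∧ (Cfsg.commutingGraph D).Connected ∧ ∀ d ∈ D, Subgroup.closure {y : G | y ∈ D ∧ Commute d y} ≠ ⊤ ∧ ∀ H : Subgroup G, Cfsg.IsDSubgroup D H → Subgroup.closure {y : G | y ∈ D ∧ Commute d y} ≤ H → H = Subgroup.closure {y : G | y ∈ D ∧ Commute d y} ∨ H = ⊤ := by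
  classical
  obtain ⟨hDs, hconj, hgen⟩ := hD
  have hprim' := hprim
  obtain ⟨hall, hD2, hblk⟩ := hprim'
  obtain ⟨a₀, ha₀, b₀, hb₀, hab₀⟩ := hD2
  have hD2 : ∃ a ∈ D, ∃ b ∈ D, a ≠ b := ⟨a₀, ha₀, b₀, hb₀, hab₀⟩
  have hclass : Cfsg.IsThreeTranspositionClass D := by
    refine ⟨hDs, ⟨a₀, ha₀, ?_⟩, hgen⟩
    ext x
    constructor
    · intro hx
      obtain ⟨g, hg⟩ := hall a₀ ha₀ x hx
      show IsConj a₀ x
      exact isConj_iff.mpr ⟨g, hg⟩
    · intro hx
      have hx' : IsConj a₀ x := hx
      obtain ⟨g, hg⟩ := isConj_iff.mp hx'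
      rw [← hg]
      exact hconj g a₀ ha₀
  have h2 := Cfsg.Agent.Lib.Helper27.TTPrim2.pCore_two_le_center_of_prim hclass hprim
  have h3 := Cfsg.Agent.Lib.Helper27.TTPrim2.pCore_three_le_center_of_prim hclass hprim hw
  have hconn := Cfsg.Agent.Lib.Helper27.TTPrim2.connected_of_prim hclass hprim hw
  refine ⟨?_, hconn, ?_⟩
  · obtain ⟨L, hLn, hLq, hF, -⟩ := Cfsg.Agent.S5352.result hclass hD2 h2 h3
    haveI := hLn
    have h53 := Cfsg.Agent.S5353.result hclass hD2 h2 h3 L hLq hF
    exact ⟨L, hLn, hLq, h53.2 hconn, hF⟩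
  · intro d hd
    refine ⟨?_, ?_⟩
    · intro htop
      -- `d` would be central
      have hle : Subgroup.closure {y : G | y ∈ D ∧ Commute d y} ≤ Subgroup.centralizer {d} := by
        rw [Subgroup.closure_le]
        intro w hw
        rw [SetLike.mem_coe, Subgroup.mem_centralizer_iff]
        intro y hy
        rw [Set.mem_singleton_iff] at hy
        rw [hy]
        exact hw.2.eq
      rw [htop] at hle
      have hone : ∀ x ∈ D, x = d := by
        intro x hx
        obtain ⟨g, hg⟩ := hall d hd x hx
        have hgc : g ∈ Subgroup.centralizer {d} := hle (Subgroup.mem_top g)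
        rw [Subgroup.mem_centralizer_iff] at hgc
        have := hgc d rfl
        rw [← hg, ← this, mul_inv_cancel_right]
      exact hab₀ ((hone a₀ ha₀).trans (hone b₀ hb₀).symm)
    · intro H hH hle
      exact Cfsg.Agent.Lib.Helper27.TTModule.perp_maximal hDs hconj hgen hprim hw hd H hH hle

end Cfsg.Agent.S5354
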