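import Cfsg.Statements.S5355
import Cfsg.Agent.Lib.Helper27.FischerLines
import Cfsg.Agent.S5344

set_option autoImplicit false
open Cfsg

namespace Cfsg.Agent.S5355

theorem s4_e03 : Equiv.swap (0 : Fin 4) 3 = Equiv.swap 1 3 * Equiv.swap 0 1 * (Equiv.swap 1 3)⁻¹ := by
  decide

theorem s4_e02 : Equiv.swap (0 : Fin 4) 2 = Equiv.swap 1 2 * Equiv.swap 0 1 * (Equiv.swap 1 2)⁻¹ := by
  decide

theorem s4_e13 : Equiv.swap (1 : Fin 4) 3 = Equiv.swap 1 2 * Equiv.swap 2 3 * (Equiv.swap 1 2)⁻¹ := by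
  decide

theorem s4_e13' : Equiv.swap (1 : Fin 4) 3 =
    (Equiv.swap 0 1 * Equiv.swap 2 3 * Equiv.swap 1 2) * Equiv.swap 0 1 *
      (Equiv.swap 0 1 * Equiv.swap 2 3 * Equiv.swap 1 2)⁻¹ := by
  decide

theorem s4_c1 : Equiv.swap (1 : Fin 4) 2 * Equiv.swap 0 3 = Equiv.swap 0 3 * Equiv.swap 1 2 := by
  decide

theorem s4_c2 : Equiv.swap (0 : Fin 4) 2 * Equiv.swap 1 3 = Equiv.swap 1 3 * Equiv.swap 0 2 := by
  decide

theorem s4_n1 : Equiv.swap (0 : Fin 4) 3 ≠ Equiv.swap 1 2 := by decide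

theorem s4_n2 : Equiv.swap (1 : Fin 4) 3 ≠ Equiv.swap 0 2 := by decide

theorem s4_prod : Equiv.swap (0 : Fin 4) 2 * Equiv.swap 1 3 =
    (Equiv.swap 0 1 * Equiv.swap 2 3) * (Equiv.swap 1 2 * Equiv.swap 0 3) := by
  decide

/-- the local picture: for non-commuting `a, e` in a class where every member has exactly one
commuting partner `σ`, with the same commuting behaviour -/
theorem local_s4 {G : Type*} [Group G] {D : Set G} (hDs : Cfsg.IsThreeTranspositionSet D)
    (hconj : ∀ g : G, ∀ x ∈ D, g * x * g⁻¹ ∈ D) (σ : G → G) (hσD : ∀ a ∈ D, σ a ∈ D)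
    (hσne : ∀ a ∈ D, σ a ≠ a) (hσc : ∀ a ∈ D, Commute a (σ a))
    (hσu : ∀ a ∈ D, ∀ y ∈ D, Commute a y → y = a ∨ y = σ a)
    (hsp : ∀ a ∈ D, ∀ v ∈ D, Commute a v → ∀ e ∈ D, (Commute v e ↔ Commute a e))
    {a e : G} (ha : a ∈ D) (he : e ∈ D) (hae : ¬ Commute a e) :
    ∃ φ : Equiv.Perm (Fin 4) →* G, Function.Injective φ ∧ φ (Equiv.swap 0 1) = a ∧
      φ (Equiv.swap 1 2) = e ∧ φ (Equiv.swap 2 3) = σ a ∧ φ (Equiv.swap 0 3) = σ e ∧
      φ (Equiv.swap 0 2) = e * a * e⁻¹ ∧ φ (Equiv.swap 1 3) = σ (e * a * e⁻¹) := by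
  have hsae : ¬ Commute e (σ a) := by
    intro h
    exact hae ((hsp a ha (σ a) (hσD a ha) (hσc a ha) e he).mp h.symm)
  obtain ⟨φ, hφinj, hφ1, hφ2, hφ3⟩ := Cfsg.Agent.S5344.result hDs ha he (hσD a ha)
    (fun h => hσne a ha h.symm) (hσc a ha) hae hsae
  have h03D : φ (Equiv.swap 0 3) ∈ D := by
    rw [s4_e03, map_mul, map_mul, map_inv, hφ1]
    exact hconj _ a ha
  have h02 : φ (Equiv.swap 0 2) = e * a * e⁻¹ := by
    rw [s4_e02, map_mul, map_mul, map_inv, hφ1, hφ2]
  have h02D : φ (Equiv.swap 0 2) ∈ D := by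
    rw [h02]; exact hconj e a ha
  have h13D : φ (Equiv.swap 1 3) ∈ D := by
    rw [s4_e13', map_mul, map_mul, map_inv, hφ1]
    exact hconj _ a ha
  have h03 : φ (Equiv.swap 0 3) = σ e := by
    have hc : Commute e (φ (Equiv.swap 0 3)) := by
      show e * φ (Equiv.swap 0 3) = φ (Equiv.swap 0 3) * e
      rw [← hφ2, ← map_mul, ← map_mul, s4_c1]
    rcases hσu e he _ h03D hc with h | h
    · exfalso
      rw [← hφ2] at h
      exact s4_n1 (hφinj h)
    · exact h
  have h13 : φ (Equiv.swap 1 3) = σ (e * a * e⁻¹) := by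
    have hc : Commute (e * a * e⁻¹) (φ (Equiv.swap 1 3)) := by
      show e * a * e⁻¹ * φ (Equiv.swap 1 3) = φ (Equiv.swap 1 3) * (e * a * e⁻¹)
      rw [← h02, ← map_mul, ← map_mul, s4_c2]
    rcases hσu _ (hconj e a ha) _ h13D hc with h | h
    · exfalso
      rw [← h02] at h
      exact s4_n2 (hφinj h)
    · exact h
  exact ⟨φ, hφinj, hφ1, hφ2, hφ3, h03, h02, h13⟩

/-- Let D be a conjugacy class of 3-transpositions generating the finite group G, with at least two members, and d a member of D. Suppose that every member of D commuting with d commutes with exactly the same members of D as d does, and that exactly one member of D other than d commutes with d. Then G is isomorphic to the symmetric group of degree 4. -/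
theorem result {G : Type*} [Group G] [Finite G] {D : Set G} (hD : Cfsg.IsThreeTranspositionClass D) (hD2 : ∃ a ∈ D, ∃ b ∈ D, a ≠ b) {d : G} (hd : d ∈ D) (hV : {y : G | y ∈ D ∧ Commute d y} = {v : G | v ∈ D ∧ ∀ e ∈ D, Commute v e ↔ Commute d e}) (hm : {y : G | y ∈ D ∧ Commute d y}.ncard = 2) : Nonempty (G ≃* Equiv.Perm (Fin 4)) := by
  classical
  obtain ⟨hDs, ⟨d₀, hd₀, hDc⟩, hgen⟩ := hD
  have hconj : ∀ g : G, ∀ x ∈ D, g * x * g⁻¹ ∈ D := by
    intro g x hx
    rw [hDc] at hx ⊢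
    have hx' : IsConj d₀ x := hx
    show IsConj d₀ (g * x * g⁻¹)
    exact hx'.trans (isConj_iff.mpr ⟨g, rfl⟩)
  have sq : ∀ x ∈ D, x * x = 1 := fun x hx => Cfsg.Agent.Lib.Helper27.tt_sq hDs hx
  have inv : ∀ x ∈ D, x⁻¹ = x := fun x hx => Cfsg.Agent.Lib.Helper27.tt_inv hDs hx
  -- every member of `D` is conjugate to `d`
  have hall : ∀ a ∈ D, ∃ g : G, g * d * g⁻¹ = a := by
    intro a ha
    rw [hDc] at ha hd
    have h1 : IsConj d₀ a := ha
    have h2 : IsConj d₀ d := hd
    exact isConj_iff.mp (h2.symm.trans h1)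
  -- the partner of `d`
  have hdmem : d ∈ {y : G | y ∈ D ∧ Commute d y} := ⟨hd, Commute.refl d⟩
  have hpart : ∃ d', d' ∈ D ∧ d' ≠ d ∧ Commute d d' ∧ ∀ y ∈ D, Commute d y → y = d ∨ y = d' := by
    obtain ⟨x, y, hxy, hset⟩ := Set.ncard_eq_two.mp hm
    have hx : x ∈ {y : G | y ∈ D ∧ Commute d y} := by rw [hset]; simp
    have hy : y ∈ {y : G | y ∈ D ∧ Commute d y} := by rw [hset]; simp
    rw [hset] at hdmem
    rcases hdmem with h | h
    · refine ⟨y, hy.1, ?_, hy.2, ?_⟩
      · rw [h]; exact fun h' => hxy h'.symm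
      · intro w hw hc
        have : w ∈ ({x, y} : Set G) := by rw [← hset]; exact ⟨hw, hc⟩
        rcases this with h' | h'
        · left; rw [h', h]
        · right; exact h'
    · rw [Set.mem_singleton_iff] at h
      refine ⟨x, hx.1, ?_, hx.2, ?_⟩
      · rw [h]; exact hxy
      · intro w hw hc
        have : w ∈ ({x, y} : Set G) := by rw [← hset]; exact ⟨hw, hc⟩
        rcases this with h' | h'
        · right; exact h'
        · left; rw [Set.mem_singleton_iff] at h'; rw [h', h]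
  have hspd : ∀ v ∈ D, Commute d v → ∀ e ∈ D, (Commute v e ↔ Commute d e) := by
    intro v hv hc
    have : v ∈ {v : G | v ∈ D ∧ ∀ e ∈ D, Commute v e ↔ Commute d e} := by
      rw [← hV]; exact ⟨hv, hc⟩
    exact this.2
  -- transport to every member
  have hex : ∀ a, a ∈ D →
      ∃ a', a' ∈ D ∧ a' ≠ a ∧ Commute a a' ∧ ∀ y ∈ D, Commute a y → y = a ∨ y = a' := by
    intro a ha
    obtain ⟨g, rfl⟩ := hall a ha
    obtain ⟨d', hd'D, hd'ne, hd'c, hd'u⟩ := hpart
    refine ⟨g * d' * g⁻¹, hconj g d' hd'D, ?_, ?_, ?_⟩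
    · intro h
      apply hd'ne
      have : g⁻¹ * (g * d' * g⁻¹) * g = g⁻¹ * (g * d * g⁻¹) * g := by rw [h]
      calc d' = g⁻¹ * (g * d' * g⁻¹) * g := by group
        _ = g⁻¹ * (g * d * g⁻¹) * g := this
        _ = d := by group
    · exact (Commute.conj_iff g).mpr hd'c
    · intro y hy hc
      have hy' : g⁻¹ * y * g⁻¹⁻¹ ∈ D := hconj g⁻¹ y hy
      have hc' : Commute d (g⁻¹ * y * g⁻¹⁻¹) := by
        rw [← Commute.conj_iff g]
        have e1 : g * (g⁻¹ * y * g⁻¹⁻¹) * g⁻¹ = y := by group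
        rw [e1]; exact hc
      rcases hd'u _ hy' hc' with h | h
      · left
        calc y = g * (g⁻¹ * y * g⁻¹⁻¹) * g⁻¹ := by group
          _ = g * d * g⁻¹ := by rw [h]
      · right
        calc y = g * (g⁻¹ * y * g⁻¹⁻¹) * g⁻¹ := by group
          _ = g * d' * g⁻¹ := by rw [h]
  have hsp : ∀ a ∈ D, ∀ v ∈ D, Commute a v → ∀ e ∈ D, (Commute v e ↔ Commute a e) := by
    intro a ha v hv hc
    obtain ⟨g, rfl⟩ := hall a ha
    have hv' : g⁻¹ * v * g⁻¹⁻¹ ∈ D := hconj g⁻¹ v hv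
    have hc' : Commute d (g⁻¹ * v * g⁻¹⁻¹) := by
      rw [← Commute.conj_iff g]
      have e1 : g * (g⁻¹ * v * g⁻¹⁻¹) * g⁻¹ = v := by group
      rw [e1]; exact hc
    have h1 : Cfsg.Agent.Lib.Helper27.SamePerp D (g⁻¹ * v * g⁻¹⁻¹) d := hspd _ hv' hc'
    have h2 := Cfsg.Agent.Lib.Helper27.SamePerp.conj hconj h1 g
    have e1 : g * (g⁻¹ * v * g⁻¹⁻¹) * g⁻¹ = v := by group
    rw [e1] at h2
    exact h2
  choose! σ hσD hσne hσc hσu using hex
  -- the product of a member with its partner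
  have hz1 : ∀ a ∈ D, a * σ a ≠ 1 := by
    intro a ha h
    apply hσne a ha
    have : σ a = a⁻¹ := (eq_inv_of_mul_eq_one_right h)
    rw [this, inv a ha]
  have hzsq : ∀ a ∈ D, (a * σ a) * (a * σ a) = 1 := by
    intro a ha
    calc a * σ a * (a * σ a) = a * (σ a * a) * σ a := by group
      _ = a * (a * σ a) * σ a := by rw [(hσc a ha).eq]
      _ = (a * a) * (σ a * σ a) := by group
      _ = 1 := by rw [sq a ha, sq _ (hσD a ha), one_mul]
  have hKL : ∀ a ∈ D, ∀ e ∈ D, ¬ Commute a e →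
      (e * a * e⁻¹) * σ (e * a * e⁻¹) = (a * σ a) * (e * σ e) := by
    intro a ha e he hae
    obtain ⟨φ, -, h1, h2, h3, h03, h02, h13⟩ :=
      local_s4 hDs hconj σ hσD hσne hσc hσu hsp ha he hae
    rw [← h13, ← h02, ← h3, ← h03, ← h1, ← h2, ← map_mul, ← map_mul, ← map_mul, ← map_mul,
      s4_prod]
  have hz2 : ∀ a ∈ D, ∀ a' ∈ D, a * σ a = a' * σ a' → Commute a a' := by
    intro a ha a' ha' h
    by_contra hnc
    have := hKL a ha a' ha' hnc
    rw [← h, hzsq a ha] at this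
    exact hz1 _ (hconj a' a ha) this
  -- a member not commuting with `d`
  have hexb : ∃ b ∈ D, ¬ Commute d b := by
    by_contra hcon
    push Not at hcon
    have hcen : d ∈ Subgroup.center G := by
      have : (⊤ : Subgroup G) ≤ Subgroup.centralizer {d} := by
        rw [← hgen, Subgroup.closure_le]
        intro x hx
        rw [SetLike.mem_coe, Subgroup.mem_centralizer_iff]
        intro y hy
        rw [Set.mem_singleton_iff] at hy
        rw [hy]
        exact (hcon x hx).eq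
      rw [Subgroup.mem_center_iff]
      intro g
      have hg : g ∈ Subgroup.centralizer {d} := this (Subgroup.mem_top g)
      rw [Subgroup.mem_centralizer_iff] at hg
      exact (hg d rfl).symm
    obtain ⟨a, ha, b, hb, hab⟩ := hD2
    have hone : ∀ x ∈ D, x = d := by
      intro x hx
      obtain ⟨g, rfl⟩ := hall x hx
      rw [Subgroup.mem_center_iff] at hcen
      rw [hcen g, mul_inv_cancel_right]
    exact hab ((hone a ha).trans (hone b hb).symm)
  obtain ⟨b, hb, hdb⟩ := hexb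
  obtain ⟨φ, hφinj, h1, h2, h3, h03, h02, h13⟩ :=
    local_s4 hDs hconj σ hσD hσne hσc hσu hsp hd hb hdb
  set c : G := b * d * b⁻¹ with hc
  have hcD : c ∈ D := hconj b d hd
  -- every member of `D` is in the range
  have hrange : ∀ w ∈ D, w ∈ φ.range := by
    intro w hw
    by_cases hwd : Commute d w
    · rcases hσu d hd w hw hwd with h | h
      · exact ⟨_, h1.trans h.symm⟩
      · exact ⟨_, h3.trans h.symm⟩
    by_cases hwb : Commute b w
    · rcases hσu b hb w hw hwb with h | h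
      · exact ⟨_, h2.trans h.symm⟩
      · exact ⟨_, h03.trans h.symm⟩
    by_cases hwc : Commute c w
    · rcases hσu c hcD w hw hwc with h | h
      · exact ⟨_, h02.trans h.symm⟩
      · exact ⟨_, h13.trans h.symm⟩
    exfalso
    -- the two members
    set e : G := w * b * w⁻¹ with he
    have heD : e ∈ D := hconj w b hb
    have hde : ¬ Commute d e := by
      intro hcde
      have hthird : e = b * w * b⁻¹ :=
        Cfsg.Agent.Lib.Helper27.fl_third_eq hDs hb hw hwb
      have hw' : ∀ x : G, e = x → w = b * x * b⁻¹ := by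
        intro x hx
        rw [← hx, hthird, inv b hb]
        calc w = (b * b) * w * (b * b) := by rw [sq b hb, one_mul, mul_one]
          _ = b * (b * w * b) * b := by group
      rcases hσu d hd e heD hcde with h | h
      · apply hwc
        rw [hw' d h]
      · apply hwc
        have h4 : w = σ c := by
          rw [hw' _ h, ← h13, ← h2, ← h3, ← map_inv, ← map_mul, ← map_mul, ← s4_e13]
        rw [h4]
        exact hσc c hcD
    set p1 : G := w * c * w⁻¹ with hp1
    set p2 : G := e * d * e⁻¹ with hp2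
    have hz1' : p1 * σ p1 = (d * σ d) * (b * σ b) * (w * σ w) := by
      rw [hp1, hKL c hcD w hw hwc, hc, hKL d hd b hb hdb]
    have hz2' : p2 * σ p2 = (d * σ d) * (b * σ b) * (w * σ w) := by
      rw [hp2, hKL d hd e heD hde, he, hKL b hb w hw hwb]
      simp only [mul_assoc]
    have hcomm : Commute p1 p2 :=
      hz2 p1 (hconj w c hcD) p2 (hconj e d hd) (hz1'.trans hz2'.symm)
    have e1 : p1 = (w * b) * d * (w * b)⁻¹ := by
      rw [hp1, hc]; group
    have hww : w⁻¹ * d * w = w * d * w⁻¹ := by rw [inv w hw]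
    have e2 : p2 = (w * b) * (w * d * w⁻¹) * (w * b)⁻¹ := by
      rw [← hww, hp2, he]; group
    rw [e1, e2, Commute.conj_iff] at hcomm
    exact Cfsg.Agent.Lib.Helper27.fl_nc_third_left hDs hd hw hwd hcomm
  have hsurj : Function.Surjective φ := by
    have : (⊤ : Subgroup G) ≤ φ.range := by
      rw [← hgen, Subgroup.closure_le]
      exact hrange
    intro g
    exact this (Subgroup.mem_top g)
  exact ⟨(MulEquiv.ofBijective φ ⟨hφinj, hsurj⟩).symm⟩

end Cfsg.Agent.S5355
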