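import Cfsg.Statements.S5357
import Cfsg.Agent.Lib.Lead.ReflF3

set_option autoImplicit false
open Cfsg

namespace Cfsg.Agent.S5357

open Cfsg.Agent.Lib.Lead Cfsg.Agent.Lib.Lead.RF3 Cfsg.Agent.Lib.Helper16 Matrix

theorem reflG_ne_one {n : ℕ} (Q : QuadraticForm (ZMod 3) (Fin n → ZMod 3)) (v : Fin n → ZMod 3)
    (hv : Q v ≠ 0) : reflG Q v hv ≠ 1 := by
  intro h
  have h1 := congrArg (fun g : ↥(Cfsg.isometryGroup (ZMod 3) ⇑Q) =>
    ((g : Matrix.GeneralLinearGroup (Fin n) (ZMod 3)) : Matrix (Fin n) (Fin n) (ZMod 3)) *ᵥ v) h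
  simp only [reflG_coe, iso_one_coe, Matrix.one_mulVec] at h1
  rw [refl_mulVec Q v v hv, polar_self'] at h1
  have hs : Q v * -Q v = -1 := by
    have := z3_sq (Q v) hv
    linear_combination (-1) * this
  rw [hs] at h1
  have hv0 : v = 0 := by
    have h2 : (2 : ZMod 3) • v = 0 := by
      have : v - (-1 : ZMod 3) • v = (2 : ZMod 3) • v := by module
      rw [this] at h1
      have h3 : (2 : ZMod 3) • v - v = 0 := sub_eq_zero.mpr h1
      have h4 : (2 : ZMod 3) • v - v = (2 : ZMod 3) • ((2 : ZMod 3) • v) := by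
        rw [smul_smul]
        have : (2 : ZMod 3) * 2 = 1 := by decide
        rw [this]
        module
      rw [h4] at h3
      exact (smul_eq_zero.mp h3).resolve_left two_ne
    exact (smul_eq_zero.mp h2).resolve_left two_ne
  rw [hv0, QuadraticMap.map_zero] at hv
  exact hv rfl

/-- Let Q be a non-degenerate quadratic form on the n-dimensional coordinate space over the field with three elements, n ≥ 5, and c a non-zero scalar. In the subgroup of the isometry group of Q generated by the reflections in vectors v with Q(v) = c, these reflections form a single conjugacy class of 3-transpositions generating that subgroup. -/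
theorem result (n : ℕ) (hn : 5 ≤ n) (Q : QuadraticForm (ZMod 3) (Fin n → ZMod 3)) (hQ : (QuadraticMap.polarBilin Q).Nondegenerate) (c : ZMod 3) (hc : c ≠ 0) : Cfsg.IsThreeTranspositionClass {g : ↥(Cfsg.reflectionSubgroup (⇑Q) c) | (g : ↥(Cfsg.isometryGroup (ZMod 3) (⇑Q))) ∈ Cfsg.reflectionsOfNorm (⇑Q) c} := by
  refine ⟨⟨?_, ?_⟩, ?_, ?_⟩
  · rintro ⟨d, hdK⟩ hd
    obtain ⟨v, hv0, hv, rfl⟩ := mem_norm Q c hc d hd
    apply orderOf_eq_prime
    · apply Subtype.ext
      rw [Subgroup.coe_pow, pow_two]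
      exact reflG_mul_self Q v hv0
    · intro h
      exact reflG_ne_one Q v hv0 (congrArg Subtype.val h)
  · rintro ⟨d, hdK⟩ hd ⟨e, heK⟩ he
    obtain ⟨u, hu0, hu, rfl⟩ := mem_norm Q c hc d hd
    obtain ⟨v, hv0, hv, rfl⟩ := mem_norm Q c hc e he
    rcases three_transp Q c hc u v hu hv hu0 hv0 with h | h
    · left
      apply Subtype.ext
      rw [Subgroup.coe_pow]
      exact h
    · right
      apply Subtype.ext
      rw [Subgroup.coe_pow]
      exact h
  · obtain ⟨v, hv⟩ := OI.exists_value two_ne (by omega) Q hQ c hc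
    have hv0 : Q v ≠ 0 := by rw [hv]; exact hc
    have hmem : reflG Q v hv0 ∈ Cfsg.reflectionSubgroup (⇑Q) c :=
      Subgroup.subset_closure (reflG_mem Q c v hv hv0)
    refine ⟨⟨reflG Q v hv0, hmem⟩, reflG_mem Q c v hv hv0, ?_⟩
    ext ⟨e, heK⟩
    show _ ↔ IsConj _ _
    rw [isConj_iff]
    constructor
    · intro he
      obtain ⟨u, hu0, hu, rfl⟩ := mem_norm Q c hc e he
      obtain ⟨k, hk, hk'⟩ := conj_all Q hQ hn c hc v u hv hu hv0 hu0
      exact ⟨⟨k, hk⟩, Subtype.ext hk'⟩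
    · rintro ⟨⟨k, hk⟩, hke⟩
      have h1 : k * reflG Q v hv0 * k⁻¹ = e := congrArg Subtype.val hke
      have hx : Q (((k : Matrix.GeneralLinearGroup (Fin n) (ZMod 3)) :
          Matrix (Fin n) (Fin n) (ZMod 3)) *ᵥ v) = c := by rw [iso_pres (⇑Q) k, hv]
      have hx0 : Q (((k : Matrix.GeneralLinearGroup (Fin n) (ZMod 3)) :
          Matrix (Fin n) (Fin n) (ZMod 3)) *ᵥ v) ≠ 0 := by rw [hx]; exact hc
      rw [refl_conj Q k v hv0 hx0] at h1
      show e ∈ Cfsg.reflectionsOfNorm (⇑Q) c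
      rw [← h1]
      exact reflG_mem Q c _ hx hx0
  · exact Subgroup.closure_closure_coe_preimage

end Cfsg.Agent.S5357
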