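import Cfsg.Statements.S5359
import Cfsg.Agent.Lib.Lead.ReflF3

set_option autoImplicit false
open Cfsg

namespace Cfsg.Agent.S5359

open Cfsg.Agent.Lib.Lead Cfsg.Agent.Lib.Lead.RF3 Cfsg.Agent.Lib.Helper16 Matrix

variable {n : ℕ} (Q : QuadraticForm (ZMod 3) (Fin n → ZMod 3))

theorem K_normal (c : ZMod 3) (hc : c ≠ 0) : (Cfsg.reflectionSubgroup (⇑Q) c).Normal := by
  rw [← Subgroup.normalizer_eq_top_iff, eq_top_iff]
  unfold Cfsg.reflectionSubgroup
  rw [Subgroup.le_normalizer_closure_iff]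
  intro h _ g hg
  obtain ⟨v, hv0, hv, rfl⟩ := mem_norm Q c hc g hg
  apply Subgroup.subset_closure
  have hx : Q (((h : Matrix.GeneralLinearGroup (Fin n) (ZMod 3)) :
      Matrix (Fin n) (Fin n) (ZMod 3)) *ᵥ v) = c := by rw [iso_pres (⇑Q) h, hv]
  have hx0 : Q (((h : Matrix.GeneralLinearGroup (Fin n) (ZMod 3)) :
      Matrix (Fin n) (Fin n) (ZMod 3)) *ᵥ v) ≠ 0 := by rw [hx]; exact hc
  rw [refl_conj Q h v hv0 hx0]
  exact reflG_mem Q c _ hx hx0

theorem mul_mulVec' (g h : ↥(Cfsg.isometryGroup (ZMod 3) ⇑Q)) (x : Fin n → ZMod 3) :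
    (((g * h : ↥(Cfsg.isometryGroup (ZMod 3) ⇑Q)) : Matrix.GeneralLinearGroup (Fin n) (ZMod 3)) :
      Matrix (Fin n) (Fin n) (ZMod 3)) *ᵥ x =
    ((g : Matrix.GeneralLinearGroup (Fin n) (ZMod 3)) : Matrix (Fin n) (Fin n) (ZMod 3)) *ᵥ
      (((h : Matrix.GeneralLinearGroup (Fin n) (ZMod 3)) : Matrix (Fin n) (Fin n) (ZMod 3)) *ᵥ x) := by
  rw [iso_mul_coe, Matrix.mulVec_mulVec]

theorem move (hQ : (QuadraticMap.polarBilin Q).Nondegenerate) (hn : 5 ≤ n)
    (c : ZMod 3) (hc : c ≠ 0) (w w' : Fin n → ZMod 3) (hw : Q w = -c) (hw' : Q w' = -c) :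
    ∃ k ∈ Cfsg.reflectionSubgroup (⇑Q) c,
      ((k : Matrix.GeneralLinearGroup (Fin n) (ZMod 3)) : Matrix (Fin n) (Fin n) (ZMod 3)) *ᵥ w = w' := by
  have hw0 : Q w ≠ 0 := by rw [hw]; exact neg_ne c hc
  by_cases hb : QuadraticMap.polar ⇑Q w w' = 0
  · have hq : Q (w - w') = c := by
      rw [Q_sub', hw, hw', hb]
      have := z3_two c
      linear_combination (-1) * this
    have hq0 : Q (w - w') ≠ 0 := by rw [hq]; exact hc
    exact ⟨reflG Q (w - w') hq0, Subgroup.subset_closure (reflG_mem Q c _ hq hq0),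
      swap_step Q w w' (by rw [hw, hw']) hq0⟩
  · obtain ⟨z, hz, hzw, hzw'⟩ := exists_perp Q hQ hn w w' hw0 (-c) (neg_ne c hc)
    have hq1 : Q (w - z) = c := by
      rw [Q_sub', hw, hz, hzw]
      have := z3_two c
      linear_combination (-1) * this
    have hq2 : Q (z - w') = c := by
      rw [Q_sub', hw', hz, QuadraticMap.polar_comm, hzw']
      have := z3_two c
      linear_combination (-1) * this
    have hq10 : Q (w - z) ≠ 0 := by rw [hq1]; exact hc
    have hq20 : Q (z - w') ≠ 0 := by rw [hq2]; exact hc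
    refine ⟨reflG Q (z - w') hq20 * reflG Q (w - z) hq10,
      Subgroup.mul_mem _ (Subgroup.subset_closure (reflG_mem Q c _ hq2 hq20))
        (Subgroup.subset_closure (reflG_mem Q c _ hq1 hq10)), ?_⟩
    rw [mul_mulVec', swap_step Q w z (by rw [hw, hz]) hq10, swap_step Q z w' (by rw [hz, hw']) hq20]

theorem pair_mem (hQ : (QuadraticMap.polarBilin Q).Nondegenerate) (hn : 5 ≤ n)
    (c : ZMod 3) (hc : c ≠ 0) (w w' : Fin n → ZMod 3) (hw : Q w = -c) (hw' : Q w' = -c)
    (hw0 : Q w ≠ 0) (hw0' : Q w' ≠ 0) :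
    reflG Q w hw0 * reflG Q w' hw0' ∈ Cfsg.reflectionSubgroup (⇑Q) c := by
  obtain ⟨k, hk, hkw⟩ := move Q hQ hn c hc w w' hw hw'
  have hN := K_normal Q c hc
  have h1 := conj_of_map Q k w w' hw0 hw0' hkw
  rw [← h1]
  have h2 : reflG Q w hw0 * (k * reflG Q w hw0 * k⁻¹) =
      (reflG Q w hw0 * k * (reflG Q w hw0)⁻¹) * k⁻¹ := by
    rw [reflG_inv]; group
  rw [h2]
  exact Subgroup.mul_mem _ (hN.conj_mem k hk _) (Subgroup.inv_mem _ hk)

theorem dichotomy (hQ : (QuadraticMap.polarBilin Q).Nondegenerate) (hn : 5 ≤ n)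
    (c : ZMod 3) (hc : c ≠ 0) (w0 : Fin n → ZMod 3) (hw : Q w0 = -c) (hw0 : Q w0 ≠ 0)
    (g : ↥(Cfsg.isometryGroup (ZMod 3) ⇑Q)) :
    g ∈ Cfsg.reflectionSubgroup (⇑Q) c ∨ g * reflG Q w0 hw0 ∈ Cfsg.reflectionSubgroup (⇑Q) c := by
  obtain ⟨vs, hvs, rfl⟩ := OI.exists_list two_ne Q hQ g
  have hN := K_normal Q c hc
  induction vs with
  | nil =>
    left
    simp
  | cons v vs ih =>
    have hv0 := hvs v List.mem_cons_self
    have hvs' : ∀ w ∈ vs, Q w ≠ 0 := fun w hw => hvs w (List.mem_cons_of_mem _ hw)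
    rw [List.map_cons, List.prod_cons, reflG'_eq Q v hv0]
    set g' := (vs.map (reflG' Q)).prod with hg'
    set a := reflG Q v hv0 with ha
    set r0 := reflG Q w0 hw0 with hr0
    have hr00 : r0 * r0 = 1 := reflG_mul_self Q w0 hw0
    rcases ne_of_sq c hc (Q v) hv0 with hv | hv
    · have haK : a ∈ Cfsg.reflectionSubgroup (⇑Q) c :=
        Subgroup.subset_closure (reflG_mem Q c v hv hv0)
      rcases ih hvs' with h | h
      · left; exact Subgroup.mul_mem _ haK h
      · right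
        rw [mul_assoc]
        exact Subgroup.mul_mem _ haK h
    · have har : a * r0 ∈ Cfsg.reflectionSubgroup (⇑Q) c :=
        pair_mem Q hQ hn c hc v w0 hv hw hv0 hw0
      rcases ih hvs' with h | h
      · right
        have : a * g' * r0 = (a * g' * a⁻¹) * (a * r0) := by group
        rw [this]
        exact Subgroup.mul_mem _ (hN.conj_mem g' h a) har
      · left
        have : a * g' = (a * (g' * r0) * a⁻¹) * (a * r0) := by
          have e : a * (g' * r0) * a⁻¹ * (a * r0) = a * g' * (r0 * r0) := by group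
          rw [e, hr00, mul_one]
        rw [this]
        exact Subgroup.mul_mem _ (hN.conj_mem _ h a) har

theorem isSquare_z3 (x : ZMod 3) : IsSquare x ↔ x = 0 ∨ x = 1 := by
  constructor
  · rintro ⟨r, rfl⟩
    revert r; decide
  · rintro (rfl | rfl)
    · exact ⟨0, by decide⟩
    · exact ⟨1, by decide⟩

theorem sqSign_neg (c : ZMod 3) (hc : c ≠ 0) : sqSign (-c) = - sqSign c := by
  classical
  unfold sqSign
  have h : c = 1 ∨ c = 2 := by revert c; decide
  have h1 : IsSquare (1 : ZMod 3) := (isSquare_z3 1).mpr (Or.inr rfl)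
  have h2 : ¬ IsSquare (2 : ZMod 3) := fun h => by
    rcases (isSquare_z3 2).mp h with h | h <;> exact absurd h (by decide)
  have e1 : (-1 : ZMod 3) = 2 := by decide
  have e2 : (-2 : ZMod 3) = 1 := by decide
  rcases h with rfl | rfl
  · rw [e1, if_neg h2, if_pos h1]
  · rw [e2, if_pos h1, if_neg h2]
    simp

theorem detSign_refl (hQ : (QuadraticMap.polarBilin Q).Nondegenerate) (v : Fin n → ZMod 3)
    (hv0 : Q v ≠ 0) : OI.detSign two_ne Q hQ (reflG Q v hv0) = -1 := by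
  have := OI.detSign_prod two_ne Q hQ [v] (by simpa using hv0)
  simpa [reflG'_eq Q v hv0] using this

theorem not_mem (hQ : (QuadraticMap.polarBilin Q).Nondegenerate) (hn : 5 ≤ n)
    (c : ZMod 3) (hc : c ≠ 0) (w0 : Fin n → ZMod 3) (hw : Q w0 = -c) (hw0 : Q w0 ≠ 0) :
    reflG Q w0 hw0 ∉ Cfsg.reflectionSubgroup (⇑Q) c := by
  obtain ⟨χ, κ, hχ⟩ := spin_char_formula two_ne Q
  set ε := κ * sqSign c with hε
  have h1 : ∀ (v : Fin n → ZMod 3) (hv0 : Q v ≠ 0), Q v = c → χ (reflG Q v hv0) = ε := by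
    intro v hv0 hv
    rw [hχ v hv0, hv]
  have h2 : χ (reflG Q w0 hw0) = -ε := by
    rw [hχ w0 hw0, hw, sqSign_neg c hc, mul_neg]
  rcases Int.units_eq_one_or ε with he | he
  · intro hmem
    have hle : Cfsg.reflectionSubgroup (⇑Q) c ≤ χ.ker := by
      unfold Cfsg.reflectionSubgroup
      rw [Subgroup.closure_le]
      intro g hg
      obtain ⟨v, hv0, hv, rfl⟩ := mem_norm Q c hc g hg
      rw [SetLike.mem_coe, MonoidHom.mem_ker, h1 v hv0 hv, he]
    have := hle hmem
    rw [MonoidHom.mem_ker, h2, he] at this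
    exact absurd this (by decide)
  · intro hmem
    have hle : Cfsg.reflectionSubgroup (⇑Q) c ≤ (χ * OI.detSign two_ne Q hQ).ker := by
      unfold Cfsg.reflectionSubgroup
      rw [Subgroup.closure_le]
      intro g hg
      obtain ⟨v, hv0, hv, rfl⟩ := mem_norm Q c hc g hg
      rw [SetLike.mem_coe, MonoidHom.mem_ker, MonoidHom.mul_apply, h1 v hv0 hv, he,
        detSign_refl Q hQ v hv0]
      decide
    have := hle hmem
    rw [MonoidHom.mem_ker, MonoidHom.mul_apply, h2, he, detSign_refl Q hQ w0 hw0] at this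
    exact absurd this (by decide)

/-- Let Q be a non-degenerate quadratic form on the n-dimensional coordinate space over the field with three elements, n odd and at least 5, and c a non-zero scalar. Then the subgroup of the isometry group of Q generated by the reflections in vectors of norm c has index 2 in the isometry group. -/
theorem result (n : ℕ) (hn : 5 ≤ n) (hodd : Odd n) (Q : QuadraticForm (ZMod 3) (Fin n → ZMod 3)) (hQ : (QuadraticMap.polarBilin Q).Nondegenerate) (c : ZMod 3) (hc : c ≠ 0) : (Cfsg.reflectionSubgroup (⇑Q) c).index = 2 := by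
  obtain ⟨w0, hw⟩ := OI.exists_value two_ne (by omega) Q hQ (-c) (neg_ne c hc)
  have hw0 : Q w0 ≠ 0 := by rw [hw]; exact neg_ne c hc
  rw [Subgroup.index_eq_two_iff]
  refine ⟨reflG Q w0 hw0, fun b => ?_⟩
  have hnot := not_mem Q hQ hn c hc w0 hw hw0
  rcases dichotomy Q hQ hn c hc w0 hw hw0 b with h | h
  · right
    refine ⟨h, fun h' => hnot ?_⟩
    have : reflG Q w0 hw0 = b⁻¹ * (b * reflG Q w0 hw0) := by group
    rw [this]
    exact Subgroup.mul_mem _ (Subgroup.inv_mem _ h) h'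
  · left
    refine ⟨h, fun h' => hnot ?_⟩
    have : reflG Q w0 hw0 = b⁻¹ * (b * reflG Q w0 hw0) := by group
    rw [this]
    exact Subgroup.mul_mem _ (Subgroup.inv_mem _ h') h

end Cfsg.Agent.S5359
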