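import Cfsg.Statements.S5360
import Cfsg.Agent.Lib.Helper27.ReflPrim
import Cfsg.Agent.S5352
import Cfsg.Agent.S5353
import Cfsg.Agent.S5357

set_option autoImplicit false
open scoped MatrixGroups
open Cfsg

namespace Cfsg.Agent.S5360

/-- Let Q be a non-degenerate quadratic form on the n-dimensional coordinate space over the field with three elements, n ≥ 5, c a non-zero scalar, and R the subgroup of the isometry group generated by the reflections of norm c. Then the commutator subgroup of R is quasisimple of index at most 2, the generalized Fitting subgroup of R is the product of the centre and the commutator subgroup, and R acts primitively by conjugation on its reflections of norm c. -/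
theorem result (n : ℕ) (hn : 5 ≤ n) (Q : QuadraticForm (ZMod 3) (Fin n → ZMod 3)) (hQ : (QuadraticMap.polarBilin Q).Nondegenerate) (c : ZMod 3) (hc : c ≠ 0) : Cfsg.IsQuasisimple (commutator ↥(Cfsg.reflectionSubgroup (⇑Q) c)) ∧ (commutator ↥(Cfsg.reflectionSubgroup (⇑Q) c)).index ≤ 2 ∧ Cfsg.generalizedFittingSubgroup ↥(Cfsg.reflectionSubgroup (⇑Q) c) = Subgroup.center ↥(Cfsg.reflectionSubgroup (⇑Q) c) ⊔ commutator ↥(Cfsg.reflectionSubgroup (⇑Q) c) ∧ Cfsg.IsPrimitiveUnderConj {g : ↥(Cfsg.reflectionSubgroup (⇑Q) c) | (g : ↥(Cfsg.isometryGroup (ZMod 3) (⇑Q))) ∈ Cfsg.reflectionsOfNorm (⇑Q) c} := by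
  classical
  have hclass := Cfsg.Agent.S5357.result n hn Q hQ c hc
  -- a reflection of norm `c` and a commuting one
  obtain ⟨u₀, hu₀⟩ := Cfsg.Agent.Lib.Lead.OI.exists_value Cfsg.Agent.Lib.Lead.RF3.two_ne
    (by omega) Q hQ c hc
  have hu₀0 : Q u₀ ≠ 0 := by rw [hu₀]; exact hc
  obtain ⟨z₀, hz₀, hz₀u, -⟩ := Cfsg.Agent.Lib.Lead.RF3.exists_perp Q hQ hn u₀ u₀ hu₀0 c hc
  have hz₀0 : Q z₀ ≠ 0 := by rw [hz₀]; exact hc
  have hD2 : ∃ a ∈ {g : ↥(Cfsg.reflectionSubgroup (⇑Q) c) |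
      (g : ↥(Cfsg.isometryGroup (ZMod 3) (⇑Q))) ∈ Cfsg.reflectionsOfNorm (⇑Q) c},
      ∃ b ∈ {g : ↥(Cfsg.reflectionSubgroup (⇑Q) c) |
      (g : ↥(Cfsg.isometryGroup (ZMod 3) (⇑Q))) ∈ Cfsg.reflectionsOfNorm (⇑Q) c}, a ≠ b := by
    refine ⟨_, Cfsg.Agent.Lib.Helper27.ReflPrim.mkD_mem Q c u₀ hu₀ hu₀0, _,
      Cfsg.Agent.Lib.Helper27.ReflPrim.mkD_mem Q c z₀ hz₀ hz₀0, ?_⟩
    intro e
    exact Cfsg.Agent.Lib.Helper27.ReflPrim.reflG_ne_of_perp Q u₀ z₀ hu₀0 hz₀0 hz₀u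
      (congrArg Subtype.val e)
  have h2 := Cfsg.Agent.Lib.Helper27.ReflPrim.pCore_two_le_center_of_trivial hclass hD2
    (fun d hd v hv h => Cfsg.Agent.Lib.Helper27.ReflPrim.refl_V_trivial Q hQ hn c hc d v hd hv h)
  have h3 := Cfsg.Agent.Lib.Helper27.ReflPrim.pCore_three_le_center_of_trivial hclass hD2
    (fun d hd w hw h => Cfsg.Agent.Lib.Helper27.ReflPrim.refl_W_trivial Q hQ c hc d w hd hw h)
  -- the commuting graph is connected
  have hconn : (Cfsg.commutingGraph {g : ↥(Cfsg.reflectionSubgroup (⇑Q) c) |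
      (g : ↥(Cfsg.isometryGroup (ZMod 3) (⇑Q))) ∈ Cfsg.reflectionsOfNorm (⇑Q) c}).Connected := by
    have hne : Nonempty {g : ↥(Cfsg.reflectionSubgroup (⇑Q) c) |
        (g : ↥(Cfsg.isometryGroup (ZMod 3) (⇑Q))) ∈ Cfsg.reflectionsOfNorm (⇑Q) c} :=
      ⟨⟨_, Cfsg.Agent.Lib.Helper27.ReflPrim.mkD_mem Q c u₀ hu₀ hu₀0⟩⟩
    refine (SimpleGraph.connected_iff _).mpr ⟨?_, hne⟩
    rintro ⟨d, hd⟩ ⟨e, he⟩
    obtain ⟨u, hu, hu0, rfl⟩ := Cfsg.Agent.Lib.Helper27.ReflPrim.eq_mkD Q c hc d hd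
    obtain ⟨v, hv, hv0, rfl⟩ := Cfsg.Agent.Lib.Helper27.ReflPrim.eq_mkD Q c hc e he
    obtain ⟨z, hz, hzu, hzv⟩ := Cfsg.Agent.Lib.Lead.RF3.exists_perp Q hQ hn u v hu0 c hc
    have hz0 : Q z ≠ 0 := by rw [hz]; exact hc
    have hzm := Cfsg.Agent.Lib.Helper27.ReflPrim.mkD_mem Q c z hz hz0
    have hadj1 : (Cfsg.commutingGraph {g : ↥(Cfsg.reflectionSubgroup (⇑Q) c) |
        (g : ↥(Cfsg.isometryGroup (ZMod 3) (⇑Q))) ∈ Cfsg.reflectionsOfNorm (⇑Q) c}).Adj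
        ⟨_, hd⟩ ⟨_, hzm⟩ := by
      unfold Cfsg.commutingGraph
      rw [SimpleGraph.fromRel_adj]
      refine ⟨?_, Or.inl ?_⟩
      · intro e
        have e1 := congrArg Subtype.val e
        exact Cfsg.Agent.Lib.Helper27.ReflPrim.reflG_ne_of_perp Q u z hu0 hz0 hzu
          (congrArg Subtype.val e1)
      · exact (Cfsg.Agent.Lib.Helper27.ReflPrim.mkD_commute_iff Q c u z hu hu0 hz hz0).mpr
          (Cfsg.Agent.Lib.Helper27.ReflPrim.reflG_commute_of_perp Q hQ u z hu0 hz0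
            (hu.trans hz.symm) hzu)
    have hadj2 : (Cfsg.commutingGraph {g : ↥(Cfsg.reflectionSubgroup (⇑Q) c) |
        (g : ↥(Cfsg.isometryGroup (ZMod 3) (⇑Q))) ∈ Cfsg.reflectionsOfNorm (⇑Q) c}).Adj
        ⟨_, he⟩ ⟨_, hzm⟩ := by
      unfold Cfsg.commutingGraph
      rw [SimpleGraph.fromRel_adj]
      refine ⟨?_, Or.inl ?_⟩
      · intro e
        have e1 := congrArg Subtype.val e
        exact Cfsg.Agent.Lib.Helper27.ReflPrim.reflG_ne_of_perp Q v z hv0 hz0 hzv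
          (congrArg Subtype.val e1)
      · exact (Cfsg.Agent.Lib.Helper27.ReflPrim.mkD_commute_iff Q c v z hv hv0 hz hz0).mpr
          (Cfsg.Agent.Lib.Helper27.ReflPrim.reflG_commute_of_perp Q hQ v z hv0 hz0
            (hv.trans hz.symm) hzv)
    exact hadj1.reachable.trans hadj2.reachable.symm
  obtain ⟨L, hLn, hLq, hF, -⟩ := Cfsg.Agent.S5352.result hclass hD2 h2 h3
  haveI := hLn
  have h53 := Cfsg.Agent.S5353.result hclass hD2 h2 h3 L hLq hF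
  have hidx := h53.2 hconn
  have hprim := h53.1 hidx
  have heq : commutator ↥(Cfsg.reflectionSubgroup (⇑Q) c) = L :=
    Cfsg.Agent.Lib.Helper27.TTPrim2.commutator_eq_of_index_le_two hLn hLq.1 hidx
  rw [heq]
  refine ⟨hLq, hidx, ?_, hprim⟩
  rw [hF, sup_comm]

end Cfsg.Agent.S5360
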