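import Cfsg.Statements.S5361
import Cfsg.Agent.Lib.Helper27.TTPrim2
import Cfsg.Agent.Lib.Helper27.TTComp
import Cfsg.Agent.S5352
import Cfsg.Agent.S5353

set_option autoImplicit false
open Cfsg

namespace Cfsg.Agent.S5361

/-- Let D be a conjugacy class of 3-transpositions generating the finite group G, and suppose the centre of G is trivial and some two different members of D commute. Then the following are equivalent: (1) the commutator subgroup of G is simple (possibly of prime order); (2) G acts primitively on D by conjugation; (3) the largest normal 2-subgroup and the largest normal 3-subgroup of G are trivial and the commuting graph of D is connected. -/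
theorem result {G : Type*} [Group G] [Finite G] {D : Set G} (hD : Cfsg.IsThreeTranspositionClass D) (hZ : Subgroup.center G = ⊥) (hw : ∃ a ∈ D, ∃ b ∈ D, a ≠ b ∧ Commute a b) : (IsSimpleGroup (commutator G) ↔ Cfsg.IsPrimitiveUnderConj D) ∧ (Cfsg.IsPrimitiveUnderConj D ↔ (Cfsg.pCore 2 G = ⊥ ∧ Cfsg.pCore 3 G = ⊥ ∧ (Cfsg.commutingGraph D).Connected)) := by
  classical
  have hDorig := hD
  obtain ⟨hDs, ⟨d₀, hd₀, hDc⟩, hgen⟩ := hD
  have hconj : ∀ g : G, ∀ x ∈ D, g * x * g⁻¹ ∈ D := by
    intro g x hx
    rw [hDc] at hx ⊢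
    have hx' : IsConj d₀ x := hx
    show IsConj d₀ (g * x * g⁻¹)
    exact hx'.trans (isConj_iff.mpr ⟨g, rfl⟩)
  have hall : ∀ a ∈ D, ∀ b ∈ D, ∃ g : G, g * a * g⁻¹ = b := by
    intro a ha b hb
    rw [hDc] at ha hb
    have h1 : IsConj d₀ a := ha
    have h2' : IsConj d₀ b := hb
    exact isConj_iff.mp (h1.symm.trans h2')
  have sq : ∀ x ∈ D, x * x = 1 := fun x hx => Cfsg.Agent.Lib.Helper27.tt_sq hDs hx
  have inv : ∀ x ∈ D, x⁻¹ = x := fun x hx => Cfsg.Agent.Lib.Helper27.tt_inv hDs hx
  have hw' := hw
  obtain ⟨a, ha, b, hb, hab, hcab⟩ := hw'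
  have hD2 : ∃ a ∈ D, ∃ b ∈ D, a ≠ b := ⟨a, ha, b, hb, hab⟩
  -- primitivity gives trivial cores and connectedness
  have hA : Cfsg.IsPrimitiveUnderConj D →
      (Cfsg.pCore 2 G = ⊥ ∧ Cfsg.pCore 3 G = ⊥ ∧ (Cfsg.commutingGraph D).Connected) := by
    intro hprim
    refine ⟨?_, ?_, ?_⟩
    · have := Cfsg.Agent.Lib.Helper27.TTPrim2.pCore_two_le_center_of_prim hDorig hprim
      rw [hZ] at this
      exact le_bot_iff.mp this
    · have := Cfsg.Agent.Lib.Helper27.TTPrim2.pCore_three_le_center_of_prim hDorig hprim hw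
      rw [hZ] at this
      exact le_bot_iff.mp this
    · exact Cfsg.Agent.Lib.Helper27.TTPrim2.connected_of_prim hDorig hprim hw
  -- the structure coming from central cores and connectedness
  have hstruct : Cfsg.pCore 2 G ≤ Subgroup.center G → Cfsg.pCore 3 G ≤ Subgroup.center G →
      (Cfsg.commutingGraph D).Connected →
      ∃ L : Subgroup G, L.Normal ∧ Cfsg.IsQuasisimple L ∧ L.index ≤ 2 ∧
        Cfsg.IsPrimitiveUnderConj D := by
    intro h2 h3 hconn
    obtain ⟨L, hLn, hLq, hF, -⟩ := Cfsg.Agent.S5352.result hDorig hD2 h2 h3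
    haveI := hLn
    have h53 := Cfsg.Agent.S5353.result hDorig hD2 h2 h3 L hLq hF
    have hidx := h53.2 hconn
    exact ⟨L, hLn, hLq, hidx, h53.1 hidx⟩
  have hB : (Cfsg.pCore 2 G = ⊥ ∧ Cfsg.pCore 3 G = ⊥ ∧ (Cfsg.commutingGraph D).Connected) →
      Cfsg.IsPrimitiveUnderConj D := by
    rintro ⟨h2, h3, hconn⟩
    obtain ⟨L, -, -, -, hp⟩ :=
      hstruct (by rw [h2]; exact bot_le) (by rw [h3]; exact bot_le) hconn
    exact hp
  have hC : Cfsg.IsPrimitiveUnderConj D → IsSimpleGroup (commutator G) := by
    intro hprim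
    obtain ⟨h2, h3, hconn⟩ := hA hprim
    have h2' : Cfsg.pCore 2 G ≤ Subgroup.center G := by rw [h2]; exact bot_le
    have h3' : Cfsg.pCore 3 G ≤ Subgroup.center G := by rw [h3]; exact bot_le
    obtain ⟨L, hLn, hLq, hidx, -⟩ := hstruct h2' h3' hconn
    have hFit := Cfsg.Agent.Lib.Helper27.TTPrim2.fitting_le_center hDs hconj hgen h2' h3'
    have hcen : Subgroup.center L = ⊥ :=
      Cfsg.Agent.Lib.Helper27.TTPrim2.center_eq_bot_of_normal hLn hFit hZ
    have hsimple : IsSimpleGroup L :=
      Cfsg.Agent.Lib.Helper27.TTPrim2.isSimpleGroup_of_quasisimple hLq hcen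
    have heq : commutator G = L :=
      Cfsg.Agent.Lib.Helper27.TTPrim2.commutator_eq_of_index_le_two hLn hLq.1 hidx
    rw [heq]
    exact hsimple
  have hDd : IsSimpleGroup (commutator G) → Cfsg.IsPrimitiveUnderConj D := by
    intro hS
    haveI := hS
    -- all members of `D` are congruent modulo the commutator subgroup
    have hsame : ∀ x ∈ D, (QuotientGroup.mk' (commutator G)) x =
        (QuotientGroup.mk' (commutator G)) d₀ := by
      intro x hx
      obtain ⟨g, rfl⟩ := hall d₀ hd₀ x hx
      apply QuotientGroup.eq.mpr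
      have hm : (g * d₀ * g⁻¹)⁻¹ * d₀ = g * d₀⁻¹ * g⁻¹ * d₀⁻¹⁻¹ := by group
      rw [hm]
      exact Subgroup.commutator_mem_commutator (Subgroup.mem_top g) (Subgroup.mem_top d₀⁻¹)
    have hcos := Cfsg.Agent.Lib.Helper27.TTPrim2.coset_dichotomy (N := commutator G) hgen
      (sq d₀ hd₀) hsame
    have hidx : (commutator G).index ≤ 2 :=
      Cfsg.Agent.Lib.Helper27.TTPrim2.index_le_two_of_coset_dichotomy hcos
    -- the commutator subgroup is not commutative
    have hnc : ¬ ∀ x y : commutator G, x * y = y * x := by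
      intro hcomm
      have hmem : ∀ g : G, (QuotientGroup.mk' (commutator G)) g = 1 → g ∈ commutator G := by
        intro g hg
        exact (QuotientGroup.eq_one_iff g).mp hg
      have habS : a * b ∈ commutator G := by
        have h1 : (QuotientGroup.mk' (commutator G)) a = (QuotientGroup.mk' (commutator G)) b :=
          (hsame a ha).trans (hsame b hb).symm
        have := QuotientGroup.eq.mp h1
        rwa [inv a ha] at this
      have hcS : ∀ s ∈ commutator G, s * (a * b) = (a * b) * s := by
        intro s hs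
        have := hcomm ⟨s, hs⟩ ⟨a * b, habS⟩
        exact congrArg Subtype.val this
      have hca : a * (a * b) = (a * b) * a := by
        calc a * (a * b) = a * (b * a) := by rw [hcab.eq]
          _ = (a * b) * a := by rw [mul_assoc]
      have hcen : a * b ∈ Subgroup.center G := by
        rw [Subgroup.mem_center_iff]
        intro g
        rcases hcos g with h | h
        · exact hcS g (hmem g h)
        · have h1 : (QuotientGroup.mk' (commutator G)) a = (QuotientGroup.mk' (commutator G)) g :=
            (hsame a ha).trans h.symm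
          have h2 : a⁻¹ * g ∈ commutator G := QuotientGroup.eq.mp h1
          have h3 := hcS _ h2
          calc g * (a * b) = a * ((a⁻¹ * g) * (a * b)) := by group
            _ = a * ((a * b) * (a⁻¹ * g)) := by rw [h3]
            _ = (a * (a * b)) * (a⁻¹ * g) := by group
            _ = ((a * b) * a) * (a⁻¹ * g) := by rw [hca]
            _ = (a * b) * g := by group
      rw [hZ, Subgroup.mem_bot] at hcen
      apply hab
      have : b = a⁻¹ := (inv_eq_of_mul_eq_one_right hcen).symm
      rw [this, inv a ha]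
    have hSq : Cfsg.IsQuasisimple (commutator G) :=
      Cfsg.Agent.Lib.Helper27.TTPrim2.quasisimple_of_isSimpleGroup hnc
    haveI : Group.IsPerfect (commutator G) := hSq.1
    have hnsolv : ¬ Group.IsSolvable (commutator G) := Group.IsPerfect.not_isSolvable _
    -- the cores are central
    have hcore : ∀ p : ℕ, [Fact p.Prime] → Cfsg.pCore p G ≤ Subgroup.center G := by
      intro p _
      rcases Cfsg.Agent.Lib.Helper27.TTPrim2.normal_le_center_or_commutator_le
        (Cfsg.Agent.Lib.Helper1.pCore_normal (G := G) p) with h | h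
      · exact h
      · exfalso
        apply hnsolv
        have hp : IsPGroup p (commutator G) :=
          (Cfsg.Agent.Lib.Helper1.pCore_isPGroup (G := G) p).to_le h
        haveI := hp.isNilpotent
        exact IsNilpotent.to_isSolvable
    haveI : Fact (Nat.Prime 2) := ⟨Nat.prime_two⟩
    haveI : Fact (Nat.Prime 3) := ⟨Nat.prime_three⟩
    have h2 := hcore 2
    have h3 := hcore 3
    obtain ⟨L', hL'n, hL'q, hF, -⟩ := Cfsg.Agent.S5352.result hDorig hD2 h2 h3
    have hSn : (commutator G).Normal := inferInstance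
    have hcomp : Cfsg.IsComponent (commutator G) := ⟨Subgroup.Normal.isSubnormal hSn, hSq⟩
    have hcomp' : Cfsg.IsComponent L' := ⟨Subgroup.Normal.isSubnormal hL'n, hL'q⟩
    have hLL' : L' = commutator G :=
      Cfsg.Agent.Lib.Helper27.TTComp.component_unique hDs hconj hgen hall hcomp' hcomp
    rw [hLL'] at hF
    exact (Cfsg.Agent.S5353.result hDorig hD2 h2 h3 (commutator G) hSq hF).1 hidx
  exact ⟨⟨hDd, hC⟩, ⟨hA, hB⟩⟩

end Cfsg.Agent.S5361
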