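import Cfsg.Statements.S5363

set_option autoImplicit false
open Cfsg

namespace Cfsg.Agent.S5363

theorem inv_pow_conj {G : Type*} [Group G] (a r : G) (h : a * r * a⁻¹ = r⁻¹) (j : ℕ) :
    a * r ^ j = (r ^ j)⁻¹ * a := by
  have h1 : a * r ^ j * a⁻¹ = (r ^ j)⁻¹ := by
    rw [← conj_pow, h, inv_pow]
  calc a * r ^ j = (a * r ^ j * a⁻¹) * a := by group
    _ = (r ^ j)⁻¹ * a := by rw [h1]

theorem conj_eq {G : Type*} [Group G] (a r : G) (h : a * r * a⁻¹ = r⁻¹) (j : ℕ) :
    (r ^ j)⁻¹ * a * ((r ^ j)⁻¹)⁻¹ = a * r ^ (j + j) := by
  rw [inv_inv, ← inv_pow_conj a r h j, mul_assoc, ← pow_add]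

theorem sq_one {G : Type*} [Group G] (d : G) (h : orderOf d = 2) : d * d = 1 := by
  rw [← pow_two, ← h, pow_orderOf_eq_one]

/-- Let D be a conjugation-invariant set of involutions of a finite group G. Then every product of two members of D has odd order or order 2 if and only if, for every a in D and every b in D different from a and commuting with a, the members of D commuting with a b are exactly those commuting with both a and b. -/
theorem result {G : Type*} [Group G] [Finite G] {D : Set G} (hinv : ∀ d ∈ D, orderOf d = 2) (hconj : ∀ g : G, ∀ d ∈ D, g * d * g⁻¹ ∈ D) : (∀ a ∈ D, ∀ b ∈ D, Odd (orderOf (a * b)) ∨ orderOf (a * b) = 2) ↔ ∀ a ∈ D, ∀ b ∈ D, b ≠ a → Commute a b → {y : G | y ∈ D ∧ Commute (a * b) y} = {y : G | y ∈ D ∧ Commute a y} ∩ {y : G | y ∈ D ∧ Commute b y} := by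
  have sq : ∀ d ∈ D, d * d = 1 := fun d hd => sq_one d (hinv d hd)
  have inv : ∀ d ∈ D, d⁻¹ = d := fun d hd => inv_eq_of_mul_eq_one_right (sq d hd)
  constructor
  · intro H a ha b hb hba hab
    ext y
    constructor
    · rintro ⟨hy, hty⟩
      suffices hya : Commute a y by
        refine ⟨⟨hy, hya⟩, hy, ?_⟩
        have hb' : b = a * (a * b) := by rw [← mul_assoc, sq a ha, one_mul]
        rw [hb']
        exact hya.mul_left hty
      set t := a * b with ht
      have hta : Commute t a := (Commute.refl a).mul_left hab.symm
      have ht2 : t * t = 1 := by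
        rw [ht]
        calc a * b * (a * b) = a * (b * a) * b := by group
          _ = a * (a * b) * b := by rw [hab.eq]
          _ = (a * a) * (b * b) := by group
          _ = 1 := by rw [sq a ha, sq b hb, one_mul]
      have ht1 : t ≠ 1 := by
        intro h1
        apply hba
        have : b = a⁻¹ := by
          rw [eq_inv_iff_mul_eq_one, ← hab.eq]; exact h1
        rw [this, inv a ha]
      have hto : orderOf t = 2 := by
        apply orderOf_eq_prime
        · rw [pow_two]; exact ht2
        · exact ht1
      set r := y * a with hr
      have htr : Commute t r := hty.mul_right hta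
      have hrinv : r⁻¹ = a * y := by rw [hr, mul_inv_rev, inv a ha, inv y hy]
      have har : a * r * a⁻¹ = r⁻¹ := by
        rw [hrinv, hr, inv a ha]
        calc a * (y * a) * a = a * y * (a * a) := by group
          _ = a * y := by rw [sq a ha, mul_one]
      rcases Nat.even_or_odd (orderOf r) with hev | hodd
      · rcases H y hy a ha with h | h
        · exact absurd hev (Nat.not_even_iff_odd.mpr h)
        · have : r * r = 1 := by rw [← pow_two, ← h, pow_orderOf_eq_one]
          have h2 : y * a = (y * a)⁻¹ := by
            rw [eq_inv_iff_mul_eq_one]; exact this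
          rw [mul_inv_rev, inv a ha, inv y hy] at h2
          exact h2.symm
      · obtain ⟨k, hk⟩ := hodd
        set g := r ^ (k + 1) with hgdef
        have h1 : a * g = g⁻¹ * a := inv_pow_conj a r har (k + 1)
        have h2 : g * g = r := by
          rw [hgdef, ← pow_add]
          have : k + 1 + (k + 1) = orderOf r + 1 := by omega
          rw [this, pow_succ, pow_orderOf_eq_one, one_mul]
        have hg : g * a * g⁻¹ = y := by
          calc g * a * g⁻¹ = (g * (a * g)) * (g * g)⁻¹ := by group
            _ = (g * (g⁻¹ * a)) * r⁻¹ := by rw [h1, h2]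
            _ = a * (a * y) := by rw [hrinv]; group
            _ = y := by rw [← mul_assoc, sq a ha, one_mul]
        have htg : Commute t g := htr.pow_right (k + 1)
        have hb' : b = a * t := by rw [ht, ← mul_assoc, sq a ha, one_mul]
        have hyt : y * t ∈ D := by
          have h3 := hconj g b hb
          have h4 : g * b * g⁻¹ = y * t := by
            rw [hb']
            calc g * (a * t) * g⁻¹ = g * a * (t * g⁻¹) := by group
              _ = g * a * (g⁻¹ * t) := by rw [(htg.inv_right).eq]
              _ = (g * a * g⁻¹) * t := by group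
              _ = y * t := by rw [hg]
          rw [← h4]; exact h3
        have h5 : a * (y * t) = r⁻¹ * t := by rw [hrinv, mul_assoc]
        have hcop : (orderOf r⁻¹).Coprime (orderOf t) := by
          rw [orderOf_inv, hto, hk]
          exact Nat.coprime_two_right.mpr ⟨k, rfl⟩
        have h6 : orderOf (r⁻¹ * t) = orderOf r⁻¹ * orderOf t :=
          (htr.symm.inv_left).orderOf_mul_eq_mul_orderOf_of_coprime hcop
        rw [orderOf_inv, hto, hk] at h6
        have hk0 : k = 0 := by
          rcases H a ha (y * t) hyt with h | h
          · rw [h5, h6] at h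
            exact absurd h (by rw [Nat.not_odd_iff_even]; exact ⟨2 * k + 1, by ring⟩)
          · rw [h5, h6] at h
            omega
        have hr1 : r = 1 := by
          rw [← orderOf_eq_one_iff, hk, hk0]
          norm_num
        have : y = a := by
          have : y = a⁻¹ := by rw [eq_inv_iff_mul_eq_one]; exact hr1
          rw [this, inv a ha]
        rw [this]
    · rintro ⟨⟨hy, hay⟩, -, hby⟩
      exact ⟨hy, hay.mul_left hby⟩
  · intro K a ha b hb
    set r := a * b with hr
    have hrpos : 0 < orderOf r := orderOf_pos r
    rcases Nat.even_or_odd (orderOf r) with hev | hodd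
    · right
      obtain ⟨k, hk⟩ := hev
      by_contra hne
      have hk2 : 2 ≤ k := by omega
      have hrinv : r⁻¹ = b * a := by rw [hr, mul_inv_rev, inv a ha, inv b hb]
      have har : a * r * a⁻¹ = r⁻¹ := by
        rw [hrinv, hr, inv a ha]
        calc a * (a * b) * a = (a * a) * b * a := by group
          _ = b * a := by rw [sq a ha, one_mul]
      have hbr : b * r * b⁻¹ = r⁻¹ := by
        rw [hrinv, hr, inv b hb]
        calc b * (a * b) * b = b * a * (b * b) := by group
          _ = b * a := by rw [sq b hb, mul_one]
      set z := r ^ k with hz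
      have hz1 : z ≠ 1 := pow_ne_one_of_lt_orderOf (by omega) (by omega)
      have hzz : z * z = 1 := by rw [hz, ← pow_add, ← hk, pow_orderOf_eq_one]
      have hzinv : z⁻¹ = z := inv_eq_of_mul_eq_one_right hzz
      have haz : Commute a z := by
        have := inv_pow_conj a r har k
        rw [← hz, hzinv] at this
        exact this
      have hbz : Commute b z := by
        have := inv_pow_conj b r hbr k
        rw [← hz, hzinv] at this
        exact this
      have hb'D : a * z ∈ D := by
        rcases Nat.even_or_odd k with ⟨j, hj⟩ | ⟨j, hj⟩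
        · have h1 := hconj (r ^ j)⁻¹ a ha
          rw [conj_eq a r har j, ← hj] at h1
          exact h1
        · have h1 := hconj (r ^ j)⁻¹ b hb
          have h2 : (r ^ j)⁻¹ * b * ((r ^ j)⁻¹)⁻¹ = a * z := by
            have hb' : b = a * r := by rw [hr, ← mul_assoc, sq a ha, one_mul]
            have h3 : (r ^ j)⁻¹ * a = a * r ^ j := (inv_pow_conj a r har j).symm
            rw [inv_inv]
            calc (r ^ j)⁻¹ * b * r ^ j = ((r ^ j)⁻¹ * a) * r * r ^ j := by rw [hb']; group
              _ = a * (r ^ j * r * r ^ j) := by rw [h3]; group
              _ = a * z := by rw [hz, hj, ← pow_succ, ← pow_add]; congr 2; ring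
          rw [h2] at h1
          exact h1
      have hne' : a * z ≠ a := by
        intro h
        apply hz1
        exact mul_left_cancel (a := a) (by rw [h, mul_one])
      have hcomm : Commute a (a * z) := (Commute.refl a).mul_right haz
      have hK := K a ha (a * z) hb'D hne' hcomm
      have haaz : a * (a * z) = z := by rw [← mul_assoc, sq a ha, one_mul]
      rw [haaz] at hK
      have hbmem : b ∈ {y : G | y ∈ D ∧ Commute z y} := ⟨hb, hbz.symm⟩
      rw [hK] at hbmem
      have hab : Commute a b := hbmem.1.2
      have hr2 : r ^ 2 = 1 := by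
        rw [pow_two, hr]
        calc a * b * (a * b) = a * (b * a) * b := by group
          _ = a * (a * b) * b := by rw [hab.eq]
          _ = (a * a) * (b * b) := by group
          _ = 1 := by rw [sq a ha, sq b hb, one_mul]
      have := orderOf_dvd_of_pow_eq_one hr2
      have := Nat.le_of_dvd (by norm_num) this
      omega
    · left; exact hodd

end Cfsg.Agent.S5363
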