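import Cfsg.Statements.S5364

set_option autoImplicit false
open Cfsg

namespace Cfsg.Agent.S5364

theorem mem_zpowers_inv {G : Type*} [Group G] (t : G) (ht : orderOf t = 2) (x : G)
    (hx : x ∈ Subgroup.zpowers t) : x = 1 ∨ x = t := by
  obtain ⟨k, rfl⟩ := Subgroup.mem_zpowers_iff.mp hx
  rw [← zpow_mod_orderOf, ht]
  have h1 : (0 : ℤ) ≤ k % 2 := Int.emod_nonneg k (by norm_num)
  have h2 : k % 2 < 2 := Int.emod_lt_of_pos k (by norm_num)
  have : k % 2 = 0 ∨ k % 2 = 1 := by omega
  rcases this with h | h
  · left; simp [h]
  · right; simp [h]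

/-- Let D be a conjugation-invariant set of involutions of a finite group G and t an involution in the centre of G such that d t does not lie in D for any d in D. If the images of the members of D in G modulo the subgroup generated by t satisfy the 3-transposition order conditions (each has order 2 and any two have product of order at most 3), then so do the members of D. -/
theorem result {G : Type*} [Group G] [Finite G] {D : Set G} (hinv : ∀ d ∈ D, orderOf d = 2) (hconj : ∀ g : G, ∀ d ∈ D, g * d * g⁻¹ ∈ D) (t : G) (ht : orderOf t = 2) (htZ : t ∈ Subgroup.center G) (hDt : ∀ d ∈ D, d * t ∉ D) [(Subgroup.zpowers t).Normal] (himg : Cfsg.IsThreeTranspositionSet ((QuotientGroup.mk : G → G ⧸ Subgroup.zpowers t) '' D)) : Cfsg.IsThreeTranspositionSet D := by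
  refine ⟨hinv, ?_⟩
  intro a ha b hb
  have sq : ∀ d ∈ D, d * d = 1 := by
    intro d hd
    have := hinv d hd
    rw [← pow_two, ← this, pow_orderOf_eq_one]
  have inv : ∀ d ∈ D, d⁻¹ = d := fun d hd => inv_eq_of_mul_eq_one_right (sq d hd)
  have key := himg.2 _ ⟨a, ha, rfl⟩ _ ⟨b, hb, rfl⟩
  rcases key with h2 | h3
  · left
    have hmem : (a * b) ^ 2 ∈ Subgroup.zpowers t := by
      rw [← QuotientGroup.eq_one_iff]
      simpa using h2
    rcases mem_zpowers_inv t ht _ hmem with h | h
    · exact h
    · exfalso
      apply hDt a ha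
      have h1 : b * a * b⁻¹ ∈ D := hconj b a ha
      have h2 : b * a * b⁻¹ = a * t := by
        rw [← h, inv b hb, pow_two]
        calc b * a * b = (a * a) * (b * a * b) := by rw [sq a ha, one_mul]
          _ = a * (a * b * (a * b)) := by group
      rw [← h2]; exact h1
  · right
    have hmem : (a * b) ^ 3 ∈ Subgroup.zpowers t := by
      rw [← QuotientGroup.eq_one_iff]
      simpa using h3
    rcases mem_zpowers_inv t ht _ hmem with h | h
    · exact h
    · exfalso
      apply hDt a ha
      have h1 : (b * a) * b * (b * a)⁻¹ ∈ D := hconj (b * a) b hb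
      have h2 : (b * a) * b * (b * a)⁻¹ = a * t := by
        rw [← h, mul_inv_rev, inv b hb, inv a ha, pow_succ, pow_two]
        calc b * a * b * (a * b) = (a * a) * (b * a * b * (a * b)) := by rw [sq a ha, one_mul]
          _ = a * (a * b * (a * b) * (a * b)) := by group
      rw [← h2]; exact h1

end Cfsg.Agent.S5364
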