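import Cfsg.Statements.S5365
import Cfsg.Agent.Lib.Helper27.TTLoc3A
import Cfsg.Agent.Lib.Helper27.TTLoc3B

set_option autoImplicit false
open Cfsg

namespace Cfsg.Agent.S5365


open Cfsg.Agent.Lib.Helper27 Cfsg.Agent.Lib.Helper27.WClass Cfsg.Agent.Lib.Helper27.TTLoc3

theorem mem_Dp_sub {G : Type*} [Group G] {D : Set G} (N : Subgroup G) (s x : ↥N) :
    s ∈ Dp {t : ↥N | (t : G) ∈ D} x ↔ (s : G) ∈ Dp D (x : G) := by
  constructor
  · rintro ⟨h1, h2, h3⟩
    refine ⟨h1, fun h => h2 (Subtype.ext h), ?_⟩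
    have := congrArg Subtype.val h3.eq
    exact this
  · rintro ⟨h1, h2, h3⟩
    refine ⟨h1, fun h => h2 (congrArg Subtype.val h), ?_⟩
    apply Subtype.ext
    exact h3.eq

theorem generated_case {G : Type*} [Group G] [Finite G] {D : Set G}
    (hD : Cfsg.IsThreeTranspositionSet D) (hconj : ∀ g : G, ∀ d ∈ D, g * d * g⁻¹ ∈ D)
    (hne : D.Nonempty) (h3 : Loc3 D) (hW : ∀ x ∈ D, ∀ y ∈ D, Dp D x = Dp D y → x = y) :
    Nonempty (↥(Subgroup.closure D) ≃* Equiv.Perm (Fin 5)) := by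
  set N := Subgroup.closure D with hN
  have hDN : ∀ s ∈ D, s ∈ N := fun s hs => Subgroup.subset_closure hs
  have hD' : Cfsg.IsThreeTranspositionSet {t : ↥N | (t : G) ∈ D} := by
    constructor
    · intro d hd
      rw [← Subgroup.orderOf_coe]
      exact hD.1 _ hd
    · intro d hd e he
      rcases hD.2 _ hd _ he with h | h
      · left
        apply Subtype.ext
        exact h
      · right
        apply Subtype.ext
        exact h
  have hconj' : ∀ g : ↥N, ∀ d ∈ {t : ↥N | (t : G) ∈ D}, g * d * g⁻¹ ∈ {t : ↥N | (t : G) ∈ D} := by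
    intro g d hd
    exact hconj g d hd
  have hgen' : Subgroup.closure {t : ↥N | (t : G) ∈ D} = ⊤ :=
    Subgroup.closure_closure_coe_preimage
  have hne' : ({t : ↥N | (t : G) ∈ D}).Nonempty := by
    obtain ⟨d, hd⟩ := hne
    exact ⟨⟨d, hDN d hd⟩, hd⟩
  have h3' : Loc3 {t : ↥N | (t : G) ∈ D} := by
    refine ⟨?_, ?_, ?_⟩
    · intro d hd
      obtain ⟨p, hp, q, hq, hpq⟩ := h3.two _ hd
      refine ⟨⟨p, hDN p hp.1⟩, (mem_Dp_sub N _ _).mpr hp, ⟨q, hDN q hq.1⟩,
        (mem_Dp_sub N _ _).mpr hq, ?_⟩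
      intro h
      exact hpq (congrArg Subtype.val h)
    · intro d hd p hp q hq hpq hc
      apply h3.nc _ hd _ ((mem_Dp_sub N _ _).mp hp) _ ((mem_Dp_sub N _ _).mp hq)
        (fun h => hpq (Subtype.ext h))
      exact congrArg Subtype.val hc.eq
    · intro d hd p hp q hq r hr s hs hpq hpr hqr
      rcases h3.four _ hd _ ((mem_Dp_sub N _ _).mp hp) _ ((mem_Dp_sub N _ _).mp hq) _
        ((mem_Dp_sub N _ _).mp hr) _ ((mem_Dp_sub N _ _).mp hs) (fun h => hpq (Subtype.ext h))
        (fun h => hpr (Subtype.ext h)) (fun h => hqr (Subtype.ext h)) with h | h | h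
      · exact Or.inl (Subtype.ext h)
      · exact Or.inr (Or.inl (Subtype.ext h))
      · exact Or.inr (Or.inr (Subtype.ext h))
  have hW' : ∀ x ∈ {t : ↥N | (t : G) ∈ D}, ∀ y ∈ {t : ↥N | (t : G) ∈ D},
      Dp {t : ↥N | (t : G) ∈ D} x = Dp {t : ↥N | (t : G) ∈ D} y → x = y := by
    intro x hx y hy hxy
    apply Subtype.ext
    apply hW _ hx _ hy
    ext s
    constructor
    · intro hs
      have h1 : (⟨s, hDN s hs.1⟩ : ↥N) ∈ Dp {t : ↥N | (t : G) ∈ D} x := (mem_Dp_sub N _ _).mpr hs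
      rw [hxy] at h1
      exact (mem_Dp_sub N _ _).mp h1
    · intro hs
      have h1 : (⟨s, hDN s hs.1⟩ : ↥N) ∈ Dp {t : ↥N | (t : G) ∈ D} y := (mem_Dp_sub N _ _).mpr hs
      rw [← hxy] at h1
      exact (mem_Dp_sub N _ _).mp h1
  exact Cfsg.Agent.Lib.Helper27.TTLoc3B.caseB hD' hconj' hgen' hne' h3' hW'

/-- Let D be a non-empty conjugation-invariant set of involutions of a finite group G satisfying the 3-transposition order conditions, and suppose that for every d in D the members of D other than d commuting with d generate a subgroup isomorphic to the symmetric group of degree 3, and the largest normal 3-subgroup of the centralizer of d has order 3. Then the subgroup generated by D is isomorphic to the symmetric group of degree 5 or to the direct product of two symmetric groups of degree 3. -/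
theorem result {G : Type*} [Group G] [Finite G] {D : Set G} (hD : Cfsg.IsThreeTranspositionSet D) (hconj : ∀ g : G, ∀ d ∈ D, g * d * g⁻¹ ∈ D) (hne : D.Nonempty) (hloc : ∀ d ∈ D, Nonempty (↥(Subgroup.closure {y : G | y ∈ D ∧ y ≠ d ∧ Commute d y}) ≃* Equiv.Perm (Fin 3)) ∧ Nat.card (Cfsg.pCore 3 ↥(Subgroup.centralizer ({d} : Set G))) = 3) : Nonempty (↥(Subgroup.closure D) ≃* Equiv.Perm (Fin 5)) ∨ Nonempty (↥(Subgroup.closure D) ≃* Equiv.Perm (Fin 3) × Equiv.Perm (Fin 3)) := by
  classical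
  have hiso : ∀ d ∈ D, Nonempty (↥(Subgroup.closure (Dp D d)) ≃* Equiv.Perm (Fin 3)) :=
    fun d hd => (hloc d hd).1
  have hO : ∀ n ∈ D, Nat.card (Cfsg.pCore 3 ↥(Subgroup.centralizer ({n} : Set G))) = 3 :=
    fun n hn => (hloc n hn).2
  have h3 : Loc3 D := loc3_of_iso hD hiso
  by_cases hW : ∀ x ∈ D, ∀ y ∈ D, Dp D x = Dp D y → x = y
  · left
    exact generated_case hD hconj hne h3 hW
  · right
    push Not at hW
    obtain ⟨x, hx, y, hy, hxy, hne'⟩ := hW
    exact Cfsg.Agent.Lib.Helper27.TTLoc3A.caseA hD hconj h3 hiso hO hx hy hne' hxy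

end Cfsg.Agent.S5365
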