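import Cfsg.Statements.S5367
import Cfsg.Agent.Lib.Helper27.FischerAffine

set_option autoImplicit false
open Cfsg

namespace Cfsg.Agent.S5367

/-- Let D be a conjugation-invariant generating set of 3-transpositions of a finite group G. Then the line system on D whose lines are the triples {x, y, y x y⁻¹} for non-commuting members x, y of D is a Fischer space: two points lie on at most one line, lines have three points, and two different meeting lines generate a subspace isomorphic to the dual affine plane of order two or to the affine plane of order three. -/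
theorem result {G : Type*} [Group G] [Finite G] {D : Set G} (hD : Cfsg.IsThreeTranspositionGroup D) : Cfsg.IsFischerSpace (Cfsg.threeTranspositionLines D) := by
  obtain ⟨hD1, hconj, -⟩ := hD
  refine ⟨Cfsg.Agent.Lib.Helper27.lines_partialLinear hD1 hconj,
    Cfsg.Agent.Lib.Helper27.lines_ncard hconj, ?_⟩
  rintro l hl m hm hlm ⟨p, hpl, hpm⟩
  have hex : ∀ l' ∈ Cfsg.threeTranspositionLines D, p ∈ l' → ∃ b ∈ l', b ≠ p := by
    rintro l' ⟨x, y, hxy, rfl⟩ -
    by_cases hx : x = p
    · refine ⟨y, Cfsg.Agent.Lib.Helper27.right_mem_tline D x y, fun hy => hxy ?_⟩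
      rw [hx, hy]
    · exact ⟨x, Cfsg.Agent.Lib.Helper27.left_mem_tline D x y, hx⟩
  by_cases hcase : ∃ b ∈ l, b ≠ p ∧ ∃ c ∈ m, c ≠ p ∧ Commute (b : G) (c : G)
  · obtain ⟨b, hbl, hbp, c, hcm, hcp, hbc⟩ := hcase
    obtain ⟨hpb, hl'⟩ := Cfsg.Agent.Lib.Helper27.line_eq_of_mem hD1 hconj hl hpl hbl (Ne.symm hbp)
    obtain ⟨hpc, hm'⟩ := Cfsg.Agent.Lib.Helper27.line_eq_of_mem hD1 hconj hm hpm hcm (Ne.symm hcp)
    have hne : b ≠ c := by
      intro h
      apply hlm
      rw [h] at hbl
      exact Cfsg.Agent.Lib.Helper27.lines_partialLinear hD1 hconj l hl m hm p c (Ne.symm hcp)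
        hpl hbl hpm hcm
    left
    rw [hl', hm']
    exact Cfsg.Agent.Lib.Helper27.fischer_caseA hD1 hconj p b c hpb hpc hbc hne
  · obtain ⟨b, hbl, hbp⟩ := hex l hl hpl
    obtain ⟨c, hcm, hcp⟩ := hex m hm hpm
    obtain ⟨hpb, hl'⟩ := Cfsg.Agent.Lib.Helper27.line_eq_of_mem hD1 hconj hl hpl hbl (Ne.symm hbp)
    obtain ⟨hpc, hm'⟩ := Cfsg.Agent.Lib.Helper27.line_eq_of_mem hD1 hconj hm hpm hcm (Ne.symm hcp)
    have hbc : ¬ Commute (b : G) (c : G) := fun h => hcase ⟨b, hbl, hbp, c, hcm, hcp, h⟩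
    have hb' : (p : G) * b * (p : G)⁻¹ ∈ D := hconj _ _ b.2
    have hb'l : (⟨(p : G) * b * (p : G)⁻¹, hb'⟩ : D) ∈ l := by
      rw [hl']
      refine Or.inr (Or.inr ?_)
      exact (Cfsg.Agent.Lib.Helper27.fl_third_eq hD1 p.2 b.2 hpb).symm
    have hb'p : (⟨(p : G) * b * (p : G)⁻¹, hb'⟩ : D) ≠ p := by
      intro h
      have h2 : (p : G) * b * (p : G)⁻¹ = p := congrArg Subtype.val h
      apply hpb
      have h3 : (b : G) = p := by
        have : (p : G) * b = p * p := by
          calc (p : G) * b = (p : G) * b * (p : G)⁻¹ * p := by group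
            _ = p * p := by rw [h2]
        exact mul_left_cancel this
      rw [h3]
    have h1 : ¬ Commute ((p : G) * b * (p : G)⁻¹) (c : G) :=
      fun h => hcase ⟨_, hb'l, hb'p, c, hcm, hcp, h⟩
    right
    rw [hl', hm']
    exact Cfsg.Agent.Lib.Helper27.fischer_caseB hD1 hconj p b c hpb hpc hbc h1

end Cfsg.Agent.S5367
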