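import Mathlib
import Cfsg.Statements.S5393
import Cfsg.Agent.Lib.helper3.GolayModule

set_option autoImplicit false
open Cfsg

namespace Cfsg.Agent.S5393

/-- The length-24 code built from the squares modulo 23 contains the all-ones word, and the code modulo the all-ones word is an irreducible module over the field with two elements for the code's automorphism group: a subspace of the code that contains the all-ones word and is invariant under every coordinate permutation preserving the code is either the span of the all-ones word or the whole code. -/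
theorem result : (fun _ : Cfsg.GolayPt => (1 : ZMod 2)) ∈ Cfsg.golayCode ∧ ∀ W : Submodule (ZMod 2) (Cfsg.GolayPt → ZMod 2), (fun _ => (1 : ZMod 2)) ∈ W → W ≤ Cfsg.golayCode → (∀ σ ∈ Cfsg.M24, ∀ w ∈ W, (fun p => w (σ.symm p)) ∈ W) → W = Submodule.span (ZMod 2) {fun _ => (1 : ZMod 2)} ∨ W = Cfsg.golayCode := by
  refine ⟨Cfsg.Agent.Lib.helper3.one_word_mem, fun W h1 hle hinv => ?_⟩
  have hinv' : Cfsg.Agent.Lib.helper3.PermInv W := hinv
  by_cases h : ∃ c ∈ W, c ≠ 0 ∧ c ≠ 1
  · obtain ⟨c, hcW, h0, h1'⟩ := h
    right
    exact le_antisymm hle (Cfsg.Agent.Lib.helper3.code_le_of_mem hinv' hcW (hle hcW) h0 h1')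
  · left
    push Not at h
    apply le_antisymm
    · intro w hw
      by_cases h0 : w = 0
      · rw [h0]; exact Submodule.zero_mem _
      · rw [h _ hw h0]; exact Submodule.subset_span rfl
    · rw [Submodule.span_le]
      rintro _ rfl
      exact h1

end Cfsg.Agent.S5393
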