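import Mathlib
import Cfsg.Statements.S5396
import Cfsg.Agent.Lib.Helper21.XS2E

set_option autoImplicit false
open Cfsg

namespace Cfsg.Agent.S5396

open Cfsg.Agent.Lib.Helper21

theorem sSup_eq {E : Type} [Group E] [Finite E] {z : E} (h : XS2 E z) (n : ℕ)
    (hcard : Nat.card E = 2 ^ (2 * n + 1)) :
    (xsS E < 0 → sSup {k : ℕ | ∃ A : Subgroup E, Cfsg.IsElementaryAbelian 2 A ∧ Nat.card A = 2 ^ k} = n) ∧
    (0 < xsS E → sSup {k : ℕ | ∃ A : Subgroup E, Cfsg.IsElementaryAbelian 2 A ∧ Nat.card A = 2 ^ k} = n + 1) := by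
  obtain ⟨A, hAsq, hApos, hAneg⟩ := h.exists_elemAb_card n hcard
  have hAc : IsMulCommutative ↥A :=
    ⟨⟨fun a b => Subtype.ext (XS2.comm_of_sq_one A hAsq a a.2 b b.2)⟩⟩
  constructor
  · intro hneg
    apply IsGreatest.csSup_eq
    constructor
    · exact ⟨A, ⟨hAc, hAsq⟩, hAneg hneg⟩
    · rintro k ⟨B, ⟨-, hB⟩, hBc⟩
      have := (h.rank_bound n hcard B hB).2 hneg
      rw [hBc] at this
      exact (Nat.pow_le_pow_iff_right (by norm_num)).mp this
  · intro hpos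
    apply IsGreatest.csSup_eq
    constructor
    · exact ⟨A, ⟨hAc, hAsq⟩, hApos hpos⟩
    · rintro k ⟨B, ⟨-, hB⟩, hBc⟩
      have := (h.rank_bound n hcard B hB).1
      rw [hBc] at this
      exact (Nat.pow_le_pow_iff_right (by norm_num)).mp this

/-- both ranks occur -/
theorem result (n : ℕ) (hn : 1 ≤ n) : ∀ r ∈ ({n, n + 1} : Set ℕ), ∃ (E : Type) (_ : Group E) (_ : Finite E), Cfsg.IsExtraspecial 2 E ∧ Nat.card E = 2 ^ (2 * n + 1) ∧ sSup {k : ℕ | ∃ A : Subgroup E, Cfsg.IsElementaryAbelian 2 A ∧ Nat.card A = 2 ^ k} = r := by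
  obtain ⟨m, rfl⟩ : ∃ m, n = m + 1 := ⟨n - 1, by omega⟩
  intro r hr
  rcases hr with rfl | rfl
  · obtain ⟨E, _, _, z, h, hcard, hs⟩ := exists_model m false
    simp only [Bool.false_eq_true, ↓reduceIte] at hs
    exact ⟨E, inferInstance, inferInstance, h.isExtraspecial, hcard, (sSup_eq h (m + 1) hcard).1 hs⟩
  · obtain ⟨E, _, _, z, h, hcard, hs⟩ := exists_model m true
    simp only [↓reduceIte] at hs
    exact ⟨E, inferInstance, inferInstance, h.isExtraspecial, hcard, (sSup_eq h (m + 1) hcard).2 hs⟩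

end Cfsg.Agent.S5396
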