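import Cfsg.Statements.S5420

set_option autoImplicit false
open Cfsg

namespace Cfsg.Agent.S5420

theorem pCore_isPGroup {G : Type*} [Group G] (p : ℕ) [hp : Fact p.Prime] :
    IsPGroup p (Cfsg.pCore p G) :=
  Sylow.sSup_of_normal _ (fun _ h => h.2) (fun _ h => h.1)

theorem pCore_normal {G : Type*} [Group G] (p : ℕ) : (Cfsg.pCore p G).Normal :=
  Subgroup.sSup_normal _ (fun _ h => h.1)

theorem inf_eq_bot_of_odd_of_two_group {G : Type*} [Group G] [Finite G] (K P : Subgroup G)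
    (hK : Odd (Nat.card K)) (hP : IsPGroup 2 P) : K ⊓ P = ⊥ := by
  have : Fact (Nat.Prime 2) := ⟨Nat.prime_two⟩
  obtain ⟨n, hn⟩ := (IsPGroup.iff_card).mp hP
  apply disjoint_iff.mp
  apply Subgroup.disjoint_of_coprime_natCard
  rw [hn]
  exact Nat.Coprime.pow_right n (Nat.coprime_two_right.mpr hK)

theorem result {G : Type*} [Group G] [Finite G] (Q : Subgroup G) (hL1 : Cfsg.IsExtraspecial 2 ↥Q) (hL2 : Subgroup.centralizer (Q : Set G) = ((Subgroup.center ↥Q).map Q.subtype)) (hL3 : Subgroup.centralizer (((Subgroup.center ↥Q).map Q.subtype) : Set G) ≤ Subgroup.normalizer (Q : Set G)) (hZ : ((Subgroup.center ↥Q).map Q.subtype) ≤ Cfsg.pCore 2 G) : Cfsg.IsLargeExtraspecial Q := by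
  have : Fact (Nat.Prime 2) := ⟨Nat.prime_two⟩
  refine ⟨hL1, hL2, hL3, ?_⟩
  intro K hK hQK
  have hQ2 : IsPGroup 2 Q := hL1.1.1
  have hZQ : ((Subgroup.center ↥Q).map Q.subtype) ≤ Q := by
    rintro _ ⟨x, _, rfl⟩
    exact x.2
  have hO2 : K ⊓ Cfsg.pCore 2 G = ⊥ :=
    inf_eq_bot_of_odd_of_two_group K _ hK (pCore_isPGroup 2)
  have hKQ : K ⊓ Q = ⊥ := inf_eq_bot_of_odd_of_two_group K _ hK hQ2
  have := pCore_normal (G := G) 2
  have h1 : K ≤ Subgroup.centralizer (((Subgroup.center ↥Q).map Q.subtype) : Set G) := by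
    intro k hk
    rw [Subgroup.mem_centralizer_iff]
    intro c hc
    have hcK : c * k * c⁻¹ ∈ K := by
      have := hQK (hZQ hc)
      rw [Subgroup.mem_normalizer_iff] at this
      exact (this k).mp hk
    have hmem1 : c * k * c⁻¹ * k⁻¹ ∈ K := K.mul_mem hcK (K.inv_mem hk)
    have hmem2 : c * k * c⁻¹ * k⁻¹ ∈ Cfsg.pCore 2 G := by
      have hc' : c ∈ Cfsg.pCore 2 G := hZ hc
      have : k * c⁻¹ * k⁻¹ ∈ Cfsg.pCore 2 G :=
        (inferInstance : (Cfsg.pCore 2 G).Normal).conj_mem _ (inv_mem hc') k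
      have h := mul_mem hc' this
      simpa [mul_assoc] using h
    have : c * k * c⁻¹ * k⁻¹ ∈ K ⊓ Cfsg.pCore 2 G := ⟨hmem1, hmem2⟩
    rw [hO2, Subgroup.mem_bot] at this
    have h3 : c * k * c⁻¹ = k := by
      have := mul_inv_eq_one.mp this
      exact this
    calc c * k = c * k * c⁻¹ * c := by group
      _ = k * c := by rw [h3]
  have h2 : K ≤ Subgroup.normalizer (Q : Set G) := h1.trans hL3
  have h3 : K ≤ Subgroup.centralizer (Q : Set G) := by
    intro k hk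
    rw [Subgroup.mem_centralizer_iff]
    intro q hq
    have hqK : q * k * q⁻¹ ∈ K := by
      have := hQK hq
      rw [Subgroup.mem_normalizer_iff] at this
      exact (this k).mp hk
    have hmem1 : q * k * q⁻¹ * k⁻¹ ∈ K := K.mul_mem hqK (K.inv_mem hk)
    have hmem2 : q * k * q⁻¹ * k⁻¹ ∈ Q := by
      have hkN := h2 hk
      rw [Subgroup.mem_normalizer_iff] at hkN
      have : k * q⁻¹ * k⁻¹ ∈ Q := (hkN q⁻¹).mp (Q.inv_mem hq)
      have h := Q.mul_mem hq this
      simpa [mul_assoc] using h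
    have : q * k * q⁻¹ * k⁻¹ ∈ K ⊓ Q := ⟨hmem1, hmem2⟩
    rw [hKQ, Subgroup.mem_bot] at this
    have h3 : q * k * q⁻¹ = k := mul_inv_eq_one.mp this
    calc q * k = q * k * q⁻¹ * q := by group
      _ = k * q := by rw [h3]
  have h4 : K ≤ Q := by
    rw [hL2] at h3
    exact h3.trans hZQ
  have : K ≤ K ⊓ Q := le_inf le_rfl h4
  rw [hKQ] at this
  exact le_bot_iff.mp this

end Cfsg.Agent.S5420
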