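import Cfsg.Statements.S5421

set_option autoImplicit false
open Cfsg

namespace Cfsg.Agent.S5421

theorem pCore_isPGroup {G : Type*} [Group G] (p : ℕ) [Fact p.Prime] :
    IsPGroup p (Cfsg.pCore p G) :=
  Sylow.sSup_of_normal _ (fun _ h => h.2) (fun _ h => h.1)

theorem pCore_normal {G : Type*} [Group G] (p : ℕ) : (Cfsg.pCore p G).Normal :=
  Subgroup.sSup_normal _ (fun _ h => h.1)

theorem inf_eq_bot_of_odd_of_two_group {G : Type*} [Group G] [Finite G] (K P : Subgroup G)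
    (hK : Odd (Nat.card K)) (hP : IsPGroup 2 P) : K ⊓ P = ⊥ := by
  have : Fact (Nat.Prime 2) := ⟨Nat.prime_two⟩
  obtain ⟨n, hn⟩ := (IsPGroup.iff_card).mp hP
  apply disjoint_iff.mp
  apply Subgroup.disjoint_of_coprime_natCard
  rw [hn]
  exact Nat.Coprime.pow_right n (Nat.coprime_two_right.mpr hK)

theorem inverts_of_fpf {G : Type*} [Group G] [Finite G] (K : Subgroup G) (t : G) (ht : t * t = 1)
    (hn : ∀ k ∈ K, t * k * t⁻¹ ∈ K) (hf : ∀ k ∈ K, t * k * t⁻¹ = k → k = 1) :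
    ∀ k ∈ K, t * k * t⁻¹ = k⁻¹ := by
  let φ : K →* K := MonoidHom.mk' (fun k => ⟨t * k * t⁻¹, hn k k.2⟩) (by
    intro a b
    ext
    show t * (a * b) * t⁻¹ = (t * a * t⁻¹) * (t * b * t⁻¹)
    group)
  have hφ : MonoidHom.FixedPointFree φ := by
    intro k hk
    have h1 : t * (k : G) * t⁻¹ = k := congrArg Subtype.val hk
    ext
    exact hf k k.2 h1
  have hinv : Function.Involutive φ := by
    intro k
    ext
    show t * (t * (k : G) * t⁻¹) * t⁻¹ = k
    have htinv : t⁻¹ = t := inv_eq_of_mul_eq_one_left ht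
    rw [htinv]
    calc t * (t * (k : G) * t) * t = (t * t) * k * (t * t) := by group
      _ = k := by rw [ht]; group
  have key := hφ.coe_eq_inv_of_involutive hinv
  intro k hk
  have := congrFun key ⟨k, hk⟩
  exact congrArg Subtype.val this

theorem result {G : Type*} [Group G] [Finite G] (Q : Subgroup G) (hL1 : Cfsg.IsExtraspecial 2 ↥Q) (hL2 : Subgroup.centralizer (Q : Set G) = ((Subgroup.center ↥Q).map Q.subtype)) (hL3 : Subgroup.centralizer (((Subgroup.center ↥Q).map Q.subtype) : Set G) ≤ Subgroup.normalizer (Q : Set G)) (b : G) (hbQ : b ∈ Q) (hbZ : b ∉ ((Subgroup.center ↥Q).map Q.subtype)) (hb : orderOf b = 2) (hZ : ((Subgroup.center ↥Q).map Q.subtype) ≤ (Cfsg.pCore 2 ↥(Subgroup.centralizer ({b} : Set G))).map (Subgroup.centralizer ({b} : Set G)).subtype) : Cfsg.IsLargeExtraspecial Q := by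
  have : Fact (Nat.Prime 2) := ⟨Nat.prime_two⟩
  refine ⟨hL1, hL2, hL3, ?_⟩
  intro K hK hQK
  have hQ2 : IsPGroup 2 Q := hL1.1.1
  have hcardZ : Nat.card (Subgroup.center Q) = 2 := hL1.2
  obtain ⟨c₀, hc₀u⟩ := (Nat.card_eq_two_iff' (1 : Subgroup.center Q)).mp hcardZ
  have hc₀ : c₀ ≠ 1 := hc₀u.1
  set z : G := ((c₀ : Q) : G) with hz
  have hzQ : z ∈ Q := (c₀ : Q).2
  have hz1 : z ≠ 1 := by
    intro h
    apply hc₀
    ext
    exact h
  have hzZ : z ∈ (Subgroup.center ↥Q).map Q.subtype := ⟨c₀, c₀.2, rfl⟩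
  have hZeq : ∀ y ∈ (Subgroup.center ↥Q).map Q.subtype, y = 1 ∨ y = z := by
    rintro _ ⟨y, hy, rfl⟩
    by_cases hy1 : (⟨y, hy⟩ : Subgroup.center Q) = 1
    · left
      have : y = 1 := congrArg Subtype.val hy1
      rw [this]; rfl
    · right
      have hyc₀ : (⟨y, hy⟩ : Subgroup.center Q) = c₀ := hc₀u.2 _ hy1
      have : y = (c₀ : Q) := congrArg Subtype.val hyc₀
      rw [this]; rfl
  have hzz : z * z = 1 := by
    have h2 : c₀ ^ 2 = 1 := by
      have := pow_card_eq_one' (G := Subgroup.center Q) (x := c₀)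
      rwa [hcardZ] at this
    have h3 : ((c₀ ^ 2 : Subgroup.center Q) : Q) = 1 := by rw [h2]; rfl
    have h4 : (((c₀ ^ 2 : Subgroup.center Q) : Q) : G) = 1 := by rw [h3]; rfl
    rw [← h4, sq]
    rfl
  have hzcomm : ∀ q ∈ Q, z * q = q * z := by
    intro q hq
    have := (Subgroup.mem_center_iff.mp c₀.2) ⟨q, hq⟩
    exact (congrArg Subtype.val this).symm
  have hZQ : ((Subgroup.center ↥Q).map Q.subtype) ≤ Q := by
    rintro _ ⟨x, _, rfl⟩
    exact x.2
  have hKQ : K ⊓ Q = ⊥ := inf_eq_bot_of_odd_of_two_group K _ hK hQ2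
  have hnorm : ∀ q ∈ Q, ∀ k ∈ K, q * k * q⁻¹ ∈ K := by
    intro q hq k hk
    have := hQK hq
    rw [Subgroup.mem_normalizer_iff] at this
    exact (this k).mp hk
  have hfz : ∀ k ∈ K, z * k * z⁻¹ = k → k = 1 := by
    intro k hk hzk
    have hkz : k * z = z * k := by
      calc k * z = (z * k * z⁻¹) * z := by rw [hzk]
        _ = z * k := by group
    have hkC : k ∈ Subgroup.centralizer (((Subgroup.center ↥Q).map Q.subtype) : Set G) := by
      rw [Subgroup.mem_centralizer_iff]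
      intro y hy
      rcases hZeq y hy with rfl | rfl
      · simp
      · exact hkz.symm
    have hkN : k ∈ Subgroup.normalizer (Q : Set G) := hL3 hkC
    have hkCQ : k ∈ Subgroup.centralizer (Q : Set G) := by
      rw [Subgroup.mem_centralizer_iff]
      intro q hq
      have hmem1 : q * k * q⁻¹ * k⁻¹ ∈ K := K.mul_mem (hnorm q hq k hk) (K.inv_mem hk)
      have hmem2 : q * k * q⁻¹ * k⁻¹ ∈ Q := by
        rw [Subgroup.mem_normalizer_iff] at hkN
        have : k * q⁻¹ * k⁻¹ ∈ Q := (hkN q⁻¹).mp (Q.inv_mem hq)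
        have h := Q.mul_mem hq this
        simpa [mul_assoc] using h
      have : q * k * q⁻¹ * k⁻¹ ∈ K ⊓ Q := ⟨hmem1, hmem2⟩
      rw [hKQ, Subgroup.mem_bot] at this
      have h3 : q * k * q⁻¹ = k := mul_inv_eq_one.mp this
      calc q * k = q * k * q⁻¹ * q := by group
        _ = k * q := by rw [h3]
    rw [hL2] at hkCQ
    have : k ∈ K ⊓ Q := ⟨hk, hZQ hkCQ⟩
    rw [hKQ, Subgroup.mem_bot] at this
    exact this
  have hbb : b * b = 1 := by
    have := pow_orderOf_eq_one b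
    rw [hb, sq] at this
    exact this
  have hfb : ∀ k ∈ K, b * k * b⁻¹ = k → k = 1 := by
    intro k hk hbk
    apply hfz k hk
    have hkb : k ∈ Subgroup.centralizer ({b} : Set G) := by
      rw [Subgroup.mem_centralizer_singleton_iff]
      calc k * b = (b * k * b⁻¹) * b := by rw [hbk]
        _ = b * k := by group
    obtain ⟨zH, hzH, hzHeq⟩ := hZ hzZ
    have hN := pCore_normal (G := ↥(Subgroup.centralizer ({b} : Set G))) 2
    have h1 : (⟨k, hkb⟩ : ↥(Subgroup.centralizer ({b} : Set G))) * zH⁻¹ * (⟨k, hkb⟩ : ↥(Subgroup.centralizer ({b} : Set G)))⁻¹ ∈ Cfsg.pCore 2 ↥(Subgroup.centralizer ({b} : Set G)) :=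
      hN.conj_mem _ (inv_mem hzH) _
    have h2 : zH * ((⟨k, hkb⟩ : ↥(Subgroup.centralizer ({b} : Set G))) * zH⁻¹ * (⟨k, hkb⟩ : ↥(Subgroup.centralizer ({b} : Set G)))⁻¹) ∈ Cfsg.pCore 2 ↥(Subgroup.centralizer ({b} : Set G)) :=
      mul_mem hzH h1
    have hmem2 : z * k * z⁻¹ * k⁻¹ ∈ (Cfsg.pCore 2 ↥(Subgroup.centralizer ({b} : Set G))).map (Subgroup.centralizer ({b} : Set G)).subtype := by
      refine ⟨_, h2, ?_⟩
      have hzH' : ((zH : ↥(Subgroup.centralizer ({b} : Set G))) : G) = z := hzHeq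
      simp only [Subgroup.coe_subtype, Subgroup.coe_mul, Subgroup.coe_inv, hzH']
      group
    have hmem1 : z * k * z⁻¹ * k⁻¹ ∈ K := K.mul_mem (hnorm z hzQ k hk) (K.inv_mem hk)
    have hP : IsPGroup 2 ((Cfsg.pCore 2 ↥(Subgroup.centralizer ({b} : Set G))).map (Subgroup.centralizer ({b} : Set G)).subtype) :=
      (pCore_isPGroup 2).map _
    have hdisj := inf_eq_bot_of_odd_of_two_group K _ hK hP
    have : z * k * z⁻¹ * k⁻¹ ∈ K ⊓ (Cfsg.pCore 2 ↥(Subgroup.centralizer ({b} : Set G))).map (Subgroup.centralizer ({b} : Set G)).subtype := ⟨hmem1, hmem2⟩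
    rw [hdisj, Subgroup.mem_bot] at this
    exact mul_inv_eq_one.mp this
  have hbnc : ∃ q ∈ Q, q * b * q⁻¹ = b * z := by
    have hbnc' : (⟨b, hbQ⟩ : Q) ∉ Subgroup.center Q := by
      intro h
      exact hbZ ⟨⟨b, hbQ⟩, h, rfl⟩
    rw [Subgroup.mem_center_iff] at hbnc'
    push_neg at hbnc'
    obtain ⟨⟨q, hq⟩, hqb⟩ := hbnc'
    refine ⟨q, hq, ?_⟩
    have hcomm : (⟨q, hq⟩ : Q) * ⟨b, hbQ⟩ * (⟨q, hq⟩ : Q)⁻¹ * (⟨b, hbQ⟩ : Q)⁻¹ ∈ commutator Q := by
      rw [commutator_def]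
      have := Subgroup.commutator_mem_commutator (H₁ := (⊤ : Subgroup Q)) (H₂ := (⊤ : Subgroup Q)) (Subgroup.mem_top (⟨q, hq⟩ : Q)) (Subgroup.mem_top (⟨b, hbQ⟩ : Q))
      rwa [commutatorElement_def] at this
    rw [hL1.1.2.2] at hcomm
    have hmemZ : q * b * q⁻¹ * b⁻¹ ∈ (Subgroup.center ↥Q).map Q.subtype := ⟨_, hcomm, rfl⟩
    rcases hZeq _ hmemZ with h | h
    · exfalso
      apply hqb
      ext
      show q * b = b * q
      have h3 : q * b * q⁻¹ = b := mul_inv_eq_one.mp h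
      calc q * b = (q * b * q⁻¹) * q := by group
        _ = b * q := by rw [h3]
    · have : q * b * q⁻¹ = z * b := by
        calc q * b * q⁻¹ = (q * b * q⁻¹ * b⁻¹) * b := by group
          _ = z * b := by rw [h]
      rw [this, hzcomm b hbQ]
  obtain ⟨q, hq, hqb⟩ := hbnc
  have hfbz : ∀ k ∈ K, (b * z) * k * (b * z)⁻¹ = k → k = 1 := by
    intro k hk hk'
    have hk2 : q⁻¹ * k * q ∈ K := by
      have := hnorm q⁻¹ (Q.inv_mem hq) k hk
      simpa using this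
    have h1 : b * (q⁻¹ * k * q) * b⁻¹ = q⁻¹ * k * q := by
      rw [← hqb] at hk'
      calc b * (q⁻¹ * k * q) * b⁻¹ = q⁻¹ * ((q * b * q⁻¹) * k * (q * b * q⁻¹)⁻¹) * q := by group
        _ = q⁻¹ * k * q := by rw [hk']
    have h2 := hfb _ hk2 h1
    calc k = q * (q⁻¹ * k * q) * q⁻¹ := by group
      _ = 1 := by rw [h2]; group
  have hinvz := inverts_of_fpf K z hzz (hnorm z hzQ) hfz
  have hinvb := inverts_of_fpf K b hbb (hnorm b hbQ) hfb
  rw [eq_bot_iff]
  intro k hk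
  rw [Subgroup.mem_bot]
  apply hfbz k hk
  calc (b * z) * k * (b * z)⁻¹ = b * (z * k * z⁻¹) * b⁻¹ := by group
    _ = b * k⁻¹ * b⁻¹ := by rw [hinvz k hk]
    _ = k⁻¹⁻¹ := hinvb k⁻¹ (K.inv_mem hk)
    _ = k := inv_inv k

end Cfsg.Agent.S5421
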