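import Cfsg.Statements.S5422
import Cfsg.Agent.Lib.Helper10.LargeXS13
import Cfsg.Agent.Lib.Helper10.LargeXS5

set_option autoImplicit false
open Cfsg

namespace Cfsg.Agent.S5422

open Cfsg.Agent.Lib.Helper10.LargeXS in
theorem result {G : Type*} [Group G] [Finite G] (Q : Subgroup G) (hL1 : Cfsg.IsExtraspecial 2 ↥Q) (hL2 : Subgroup.centralizer (Q : Set G) = ((Subgroup.center ↥Q).map Q.subtype)) (hL3 : Subgroup.centralizer (((Subgroup.center ↥Q).map Q.subtype) : Set G) ≤ Subgroup.normalizer (Q : Set G)) (w : ℕ) (hw : 2 ≤ w) (hcard : Nat.card ↥Q = 2 ^ (2 * w + 1)) (g : G) (hg : g ∉ Subgroup.normalizer (((Subgroup.center ↥Q).map Q.subtype) : Set G)) (hZg : (((Subgroup.center ↥Q).map Q.subtype)).map (MulAut.conj g).toMonoidHom ≤ Q) : ((Subgroup.center ↥Q).map Q.subtype) ≤ (Q).map (MulAut.conj g).toMonoidHom ∧ (Subgroup.centralizer ((((Subgroup.center ↥Q).map Q.subtype) ⊔ (((Subgroup.center ↥Q).map Q.subtype)).map (MulAut.conj g).toMonoidHom : Subgroup G)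 : Set G)).relIndex (Subgroup.normalizer ((((Subgroup.center ↥Q).map Q.subtype) ⊔ (((Subgroup.center ↥Q).map Q.subtype)).map (MulAut.conj g).toMonoidHom : Subgroup G) : Set G)) = 6 ∧ Cfsg.IsLargeExtraspecial Q := by
  obtain ⟨z, hxs, hZmap⟩ := exists_xs hL1
  obtain ⟨Z, hZdef⟩ : ∃ Z : Subgroup G, Z = (Subgroup.center ↥Q).map Q.subtype := ⟨_, rfl⟩
  rw [← hZdef] at hL2 hL3 hg hZg hZmap ⊢
  have h2Q : IsPGroup 2 ↥Q := hL1.1.1
  have hz2 : z * z = 1 := hxs.z_sq
  have hz1 : z ≠ 1 := hxs.z_ne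
  have hzZ : z ∈ Z := (hZmap z).2 (Or.inr rfl)
  have hNz : ∀ h : G, h * z = z * h → ∀ k ∈ Q, h * k * h⁻¹ ∈ Q := by
    intro h hh k hk
    have h1 : h ∈ Subgroup.centralizer (Z : Set G) := by
      rw [Subgroup.mem_centralizer_iff]
      intro x hx
      rcases (hZmap x).1 hx with rfl | rfl
      · rw [one_mul, mul_one]
      · exact hh.symm
    exact (Subgroup.mem_normalizer_iff.1 (hL3 h1) k).1 hk
  have hCz' : ∀ c : G, (∀ k ∈ Q, c * k = k * c) → c ∈ Z := by
    intro c hc
    rw [← hL2, Subgroup.mem_centralizer_iff]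
    intro k hk
    exact (hc k hk).symm
  have hCz : ∀ c : G, (∀ k ∈ Q, c * k = k * c) → c ∈ Q := by
    intro c hc
    rcases (hZmap c).1 (hCz' c hc) with rfl | rfl
    · exact Q.one_mem
    · exact hxs.z_mem
  obtain ⟨u, hudef⟩ : ∃ u, u = g * z * g⁻¹ := ⟨_, rfl⟩
  have huQ : u ∈ Q := by
    apply hZg
    exact ⟨z, hzZ, hudef.symm⟩
  have huz : u ≠ z := by
    intro h
    apply hg
    apply mem_normalizer_of_conj_mem
    intro x hx
    rcases (hZmap x).1 hx with rfl | rfl
    · rw [mul_one, mul_inv_cancel]; exact Z.one_mem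
    · rw [← hudef, h]; exact hzZ
  have hu2 : u * u = 1 := by
    rw [hudef]
    calc g * z * g⁻¹ * (g * z * g⁻¹) = g * (z * z) * g⁻¹ := by group
      _ = 1 := by rw [hz2, mul_one, mul_inv_cancel]
  have hu1 : u ≠ 1 := by
    intro h
    rw [h] at hudef
    apply hz1
    have : z = g⁻¹ * (g * z * g⁻¹) * g := by group
    rw [this, ← hudef]
    group
  have hzucomm : z * u = u * z := (hxs.z_comm u huQ).symm
  have hw' : g⁻¹ * z * g ∈ Q := symm_conj hxs h2Q hNz hCz g (by rw [← hudef]; exact huQ)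
  have hZgmem : ∀ x, x ∈ Z.map (MulAut.conj g).toMonoidHom ↔ (x = 1 ∨ x = u) := by
    intro x
    constructor
    · rintro ⟨y, hy, rfl⟩
      rcases (hZmap y).1 hy with rfl | rfl
      · left; exact map_one _
      · right
        rw [hudef]; rfl
    · rintro (rfl | rfl)
      · exact Subgroup.one_mem _
      · exact ⟨z, hzZ, hudef.symm⟩
  refine ⟨?_, ?_, hL1, ?_, ?_, ?_⟩
  · intro x hx
    rcases (hZmap x).1 hx with rfl | rfl
    · exact Subgroup.one_mem _
    · refine ⟨g⁻¹ * x * g, hw', ?_⟩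
      show g * (g⁻¹ * x * g) * g⁻¹ = x
      group
  · obtain ⟨V, hVdef⟩ : ∃ V : Subgroup G, V = Z ⊔ Z.map (MulAut.conj g).toMonoidHom := ⟨_, rfl⟩
    rw [← hVdef]
    have hV : ∀ x, x ∈ V ↔ x = 1 ∨ x = z ∨ x = u ∨ x = z * u := by
      intro x
      constructor
      · intro hx
        apply four_mem_of_closure hz2 hu2 hzucomm
        have hle : V ≤ Subgroup.closure ({z, u} : Set G) := by
          rw [hVdef]
          apply sup_le
          · intro y hy
            rcases (hZmap y).1 hy with rfl | rfl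
            · exact Subgroup.one_mem _
            · exact Subgroup.subset_closure (Set.mem_insert _ _)
          · intro y hy
            rcases (hZgmem y).1 hy with rfl | rfl
            · exact Subgroup.one_mem _
            · exact Subgroup.subset_closure (Set.mem_insert_of_mem _ rfl)
        exact hle hx
      · have hzV : z ∈ V := by rw [hVdef]; exact Subgroup.mem_sup_left hzZ
        have huV : u ∈ V := by
          rw [hVdef]; exact Subgroup.mem_sup_right ((hZgmem u).2 (Or.inr rfl))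
        rintro (rfl | rfl | rfl | rfl)
        · exact V.one_mem
        · exact hzV
        · exact huV
        · exact V.mul_mem hzV huV
    obtain ⟨q, hq, hqu⟩ := hxs.exists_noncomm huQ hu1 huz
    have hquq : q * u * q⁻¹ = z * u := by
      rw [hqu, mul_assoc, mul_assoc, mul_inv_cancel, mul_one]
    have hqz : q * z * q⁻¹ = z := by
      rw [hxs.z_comm q hq, mul_inv_cancel_right]
    have hw1 : g⁻¹ * z * g ≠ 1 := by
      intro h
      apply hz1
      calc z = g * (g⁻¹ * z * g) * g⁻¹ := by group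
        _ = 1 := by rw [h]; group
    have hwz : g⁻¹ * z * g ≠ z := by
      intro h
      apply huz
      rw [hudef]
      calc g * z * g⁻¹ = g * (g⁻¹ * z * g) * g⁻¹ := by rw [h]
        _ = z := by group
    obtain ⟨q0, hq0, hq0w⟩ := hxs.exists_noncomm hw' hw1 hwz
    have hq0w' : q0 * (g⁻¹ * z * g) * q0⁻¹ = z * (g⁻¹ * z * g) := by
      rw [hq0w, mul_assoc, mul_assoc, mul_inv_cancel, mul_one]
    have hq0z : q0 * z * q0⁻¹ = z := by
      rw [hxs.z_comm q0 hq0, mul_inv_cancel_right]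
    have hq'u : (g * q0 * g⁻¹) * u * (g * q0 * g⁻¹)⁻¹ = u := by
      rw [hudef]
      calc (g * q0 * g⁻¹) * (g * z * g⁻¹) * (g * q0 * g⁻¹)⁻¹ = g * (q0 * z * q0⁻¹) * g⁻¹ := by group
        _ = g * z * g⁻¹ := by rw [hq0z]
    have hq'z : (g * q0 * g⁻¹) * z * (g * q0 * g⁻¹)⁻¹ = z * u := by
      calc (g * q0 * g⁻¹) * z * (g * q0 * g⁻¹)⁻¹ = g * (q0 * (g⁻¹ * z * g) * q0⁻¹) * g⁻¹ := by group
        _ = g * (z * (g⁻¹ * z * g)) * g⁻¹ := by rw [hq0w']
        _ = (g * z * g⁻¹) * z := by group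
        _ = z * u := by rw [← hudef, hzucomm]
    exact four_group_relIndex V z u q (g * q0 * g⁻¹) hz1 hu1 (Ne.symm huz) hz2 hu2 hzucomm hV
      hqz hquq hq'u hq'z
  · rw [← hZdef]; exact hL2
  · rw [← hZdef]; exact hL3
  · intro K hK hQK
    exact odd_normalized_eq_bot hxs h2Q hNz hCz g (by rw [← hudef]; exact huQ)
      (by rw [← hudef]; exact huz) K hK hQK

end Cfsg.Agent.S5422
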