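import Cfsg.Statements.S5423
import Cfsg.Agent.Lib.Helper28.AffC

set_option autoImplicit false
open Cfsg

namespace Cfsg.Agent.S5423

open Cfsg.Agent.Lib.Helper28.Tv

/-- Let G be a finite group that is the split extension of an elementary abelian normal subgroup U of order 2^(n+1), n ≥ 1, by its full automorphism group: U has a complement M in G whose conjugation action on U is faithful and realizes every automorphism of U. Let Z be a subgroup of U of order 2 and Q the largest normal 2-subgroup of the centralizer C of Z. Then Q is extraspecial of order 2^(2n+1) with an elementary abelian subgroup of order 2^(n+1) (plus type), Q is a large extraspecial 2-subgroup of G, and C is the split extension of Q by the general linear group of degree n over the field with two elements. -/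
theorem result {G : Type*} [Group G] [Finite G] (n : ℕ) (hn : 1 ≤ n) (U M : Subgroup G) [U.Normal] (hU : Cfsg.IsElementaryAbelian 2 U) (hUcard : Nat.card ↥U = 2 ^ (n + 1)) (hUM : U ⊓ M = ⊥) (hUM' : U ⊔ M = ⊤) (hfaith : ∀ m ∈ M, (∀ u ∈ U, m * u * m⁻¹ = u) → m = 1) (hfull : ∀ φ : ↥U ≃* ↥U, ∃ m ∈ M, ∀ u : ↥U, ((φ u : ↥U) : G) = m * u * m⁻¹) (Z : Subgroup G) (hZU : Z ≤ U) (hZ : Nat.card ↥Z = 2) (Q : Subgroup G) (hQ : Q = (Cfsg.pCore 2 ↥(Subgroup.centralizer (Z : Set G))).map (Subgroup.centralizer (Z : Set G)).subtype) : Cfsg.IsExtraspecial 2 ↥Q ∧ Nat.card ↥Q = 2 ^ (2 * n + 1) ∧ (∃ E : Subgroup G, E ≤ Q ∧ Cfsg.IsElementaryAbelian 2 E ∧ Nat.card ↥E = 2 ^ (n + 1)) ∧ Cfsg.IsLargeExtraspecial Q ∧ ∃ K : Subgroup G, K ≤ Subgroup.centralizer (Z : Set G) ∧ Q ⊓ K = ⊥ ∧ Q ⊔ K = Subgroup.centralizer (Z : Set G) ∧ Nonempty (↥K ≃* Matrix.GeneralLinearGroup (Fin n) (ZMod 2)) := by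
  -- a generator of `Z`
  haveI : Fact (Nat.Prime 2) := ⟨Nat.prime_two⟩
  obtain ⟨z, hzZ, hz1⟩ : ∃ z ∈ Z, z ≠ 1 := by
    by_contra hcon
    push_neg at hcon
    have : Z = ⊥ := (Subgroup.eq_bot_iff_forall Z).mpr hcon
    rw [this, Subgroup.card_bot] at hZ
    omega
  have hZz : Z = Subgroup.zpowers z := by
    have h1 : Subgroup.zpowers z ≤ Z := Subgroup.zpowers_le.mpr hzZ
    have h2 : Nat.card ↥(Subgroup.zpowers z) = 2 := by
      rw [Nat.card_zpowers]
      have h3 : orderOf z ∣ 2 := by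
        have := Subgroup.orderOf_dvd_natCard Z hzZ
        rwa [hZ] at this
      rcases (Nat.dvd_prime Nat.prime_two).mp h3 with h | h
      · exact absurd (orderOf_eq_one_iff.mp h) hz1
      · exact h
    exact (Subgroup.eq_of_le_of_card_ge h1 (by rw [h2, hZ])).symm
  have hcent : Subgroup.centralizer (Z : Set G) = Subgroup.centralizer {z} := by
    rw [hZz]
    ext g
    rw [Subgroup.mem_centralizer_iff, Subgroup.mem_centralizer_iff]
    constructor
    · intro h x hx
      rw [Set.mem_singleton_iff] at hx; subst hx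
      exact h _ (Subgroup.mem_zpowers _)
    · intro h x hx
      obtain ⟨k, rfl⟩ := Subgroup.mem_zpowers_iff.mp hx
      have hc : Commute z g := h z rfl
      exact (hc.zpow_left k).eq
  rw [hcent] at hQ ⊢
  -- the embedding
  have hcompl : U.IsComplement' M := by
    apply Subgroup.isComplement'_of_disjoint_and_mul_eq_univ (disjoint_iff.mpr hUM)
    rw [← Subgroup.normal_mul, hUM']; rfl
  have hzU : z ∈ U := hZU hzZ
  obtain ⟨e, he⟩ := exists_coords (A := ↥U) (n := n)
    (fun a b => by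
      haveI := hU.1
      exact mul_comm' a b)
    (fun a => Subtype.ext (hU.2 a.1 a.2)) hUcard ⟨z, hzU⟩
    (fun h => hz1 (congrArg Subtype.val h))
  have hι := iota_injective U e M hcompl hfaith
  have hr := Cz_le_range_iota U e M hcompl hfull
  have hz : iota U e M hcompl z = z0 n := by
    have := iota_of_mem U e M hcompl ⟨z, hzU⟩
    rw [he] at this
    rw [z0_eq_tr]; exact this
  have hQ' : Q = (Qs n).comap (iota U e M hcompl) :=
    hQ.trans (pCore_centralizer _ hι z hz hr)
  subst hQ'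
  obtain ⟨hE1, hE2, hE3⟩ := comap_Es_props _ hι z hz hr
  refine ⟨comap_Qs_extraspecial _ hι z hz hr hn, card_comap_Qs _ hι z hz hr,
    ⟨_, hE1, hE2, hE3⟩, comap_Qs_large _ hι z hz hr hn, ?_⟩
  obtain ⟨hK1, hK2, hK3, hK4⟩ := comap_Ks_props _ hι z hz hr
  exact ⟨_, hK1, hK2, hK3, hK4⟩

end Cfsg.Agent.S5423
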