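import Cfsg.Statements.S5424
import Cfsg.Agent.Lib.Helper28.TvE

set_option autoImplicit false

open Cfsg

namespace Cfsg.Agent.S5424

open Cfsg.Agent.Lib.Helper28.Tv

/-- Let G be the special linear group of degree n + 2 over the field with two elements, n ≥ 2, let z be a transvection, and let Q be the largest normal 2-subgroup of the centralizer C of z. Then Q is extraspecial of order 2^(2n+1) with an elementary abelian subgroup of order 2^(n+1) (plus type), Q is a large extraspecial 2-subgroup of G, and C is the split extension of Q by the special linear group of degree n over the field with two elements. -/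
theorem result (n : ℕ) (hn : 2 ≤ n) (z : Matrix.SpecialLinearGroup (Fin (n + 2)) (ZMod 2)) (hz : (z : Matrix (Fin (n + 2)) (Fin (n + 2)) (ZMod 2)) = Matrix.transvection 0 1 1) (Q : Subgroup (Matrix.SpecialLinearGroup (Fin (n + 2)) (ZMod 2))) (hQ : Q = (Cfsg.pCore 2 ↥(Subgroup.centralizer ({z} : Set (Matrix.SpecialLinearGroup (Fin (n + 2)) (ZMod 2))))).map (Subgroup.centralizer ({z} : Set (Matrix.SpecialLinearGroup (Fin (n + 2)) (ZMod 2)))).subtype) : Cfsg.IsExtraspecial 2 ↥Q ∧ Nat.card ↥Q = 2 ^ (2 * n + 1) ∧ (∃ E : Subgroup (Matrix.SpecialLinearGroup (Fin (n + 2)) (ZMod 2)), E ≤ Q ∧ Cfsg.IsElementaryAbelian 2 E ∧ Nat.card ↥E = 2 ^ (n + 1)) ∧ Cfsg.IsLargeExtraspecial Q ∧ ∃ K : Subgroup (Matrix.SpecialLinearGroup (Fin (n + 2)) (ZMod 2)), K ≤ Subgroup.centralizer ({z} : Set (Matrix.SpecialLinearGroup (Fin (n + 2)) (ZMod 2))) ∧ Q ⊓ K = ⊥ ∧ Q ⊔ K = Subgroup.centralizer ({z} : Set (Matrix.SpecialLinearGroup (Fin (n + 2)) (ZMod 2))) ∧ Nonempty (↥K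 ≃* Matrix.SpecialLinearGroup (Fin n) (ZMod 2)) := by
  have hz0 : z = z0 n := Subtype.ext (by rw [hz, z0_coe])
  subst hz0
  have hQs : Q = Qs n := hQ.trans (pCore_Cz hn)
  subst hQs
  have hn1 : 1 ≤ n := by omega
  refine ⟨Qs_extraspecial hn1, card_Qs, ⟨Es n, Es_le_Qs, Es_elementary, card_Es⟩,
    ⟨Qs_extraspecial hn1, centralizer_Qs.trans center_Qs_map.symm,
      centralizer_center_le_normalizer, fun K hK hQK => odd_normalized_trivial hn1 K hK hQK⟩,
    ⟨Ks n, Ks_le_Cz, Qs_inf_Ks, Qs_sup_Ks, ⟨KsEquiv n⟩⟩⟩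

end Cfsg.Agent.S5424
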