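import Cfsg.Statements.S5426
import Cfsg.Agent.Lib.Helper10.LXS8

set_option autoImplicit false
open Cfsg
open Cfsg.Agent.Lib.Helper10.LXS Cfsg.Agent.Lib.Helper10.LargeXS Cfsg.Agent.Lib.Helper18

namespace Cfsg.Agent.S5426

/-- Let Q be a large extraspecial 2-subgroup of the finite group G (extraspecial; centralizer equal to its centre; normal in the centralizer of its centre; normalizing no non-trivial subgroup of odd order) with centre generated by z, and let M be the normal closure of z in G. Then one of the following holds: Q is normal in G; or M is abelian and the generalized Fitting subgroup of G is its largest normal 2-subgroup; or M is the generalized Fitting subgroup of G and is a non-abelian simple group; or M is the generalized Fitting subgroup of G and is the direct product of a non-abelian simple subgroup L and its conjugate u L u⁻¹ by some u in Q (the two meet trivially and commute elementwise), with z = z₁ (u z₁ u⁻¹) for some z₁ in L whose centralizer in L is a Sylow 2-subgroup of L with Frattini subgroup inside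 the subgroup generated by z₁, and Q is not the largest normal 2-subgroup of the centralizer of z. -/
theorem result {G : Type*} [Group G] [Finite G] (Q : Subgroup G) (hQ : Cfsg.IsLargeExtraspecial Q) (z : G) (hz : ((Subgroup.center ↥Q).map Q.subtype) = Subgroup.zpowers z) (M : Subgroup G) (hM : M = Subgroup.normalClosure ({z} : Set G)) : Q.Normal ∨ (IsMulCommutative ↥M ∧ Cfsg.generalizedFittingSubgroup G = Cfsg.pCore 2 G) ∨ (M = Cfsg.generalizedFittingSubgroup G ∧ IsSimpleGroup ↥M ∧ ¬ IsMulCommutative ↥M) ∨ (M = Cfsg.generalizedFittingSubgroup G ∧ ∃ (L : Subgroup G) (u : G), u ∈ Q ∧ IsSimpleGroup ↥L ∧ ¬ IsMulCommutative ↥L ∧ L ⊓ (L).map (MulAut.conj u).toMonoidHom = ⊥ ∧ (∀ x ∈ L, ∀ y ∈ (L).map (MulAut.conj u).toMonoidHom, x * y = y * x) ∧ L ⊔ (L).map (MulAut.conj u).toMonoidHom = M ∧ ∃ z₁ ∈ L, z = z₁ * (u * z₁ * u⁻¹) ∧ (∃ R : Sylow 2 ↥L, (R : Subgroup ↥L) = (Subgroup.centralizer ({z₁} : Set G)).subgroupOf L ∧ (frattini ↥(R : Subgroup ↥L)).map ((L.subtype).comp (R : Subgroup ↥L).subtype) ≤ Subgroup.zpowers z₁) ∧ Q ≠ (Cfsg.pCore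 2 ↥(Subgroup.centralizer ({z} : Set G))).map (Subgroup.centralizer ({z} : Set G)).subtype) := by
  have hf2 : Fact (Nat.Prime 2) := ⟨Nat.prime_two⟩
  have h := lx_of_large Q hQ z hz
  by_cases hT : Cfsg.pCore 2 G = ⊥
  swap
  · exact Or.inr (Or.inl (h.case_two hT M hM))
  obtain ⟨hlayer, hfit⟩ := h.layer_eq hT
  have hML : M = Cfsg.layer G := by rw [hM, hlayer]
  have hMF : M = Cfsg.generalizedFittingSubgroup G := by
    unfold Cfsg.generalizedFittingSubgroup
    rw [hfit, sup_bot_eq]
    exact hML
  have hzM : z ∈ M := by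
    rw [hM]; exact Subgroup.subset_normalClosure (Set.mem_singleton z)
  obtain ⟨K, hK⟩ : ∃ K : Subgroup G, Cfsg.IsComponent K := by
    by_contra hno
    push Not at hno
    have hb : Cfsg.layer G = ⊥ := by
      unfold Cfsg.layer
      rw [eq_bot_iff]
      apply sSup_le
      intro K hK
      exact absurd hK (hno K)
    rw [hML, hb, Subgroup.mem_bot] at hzM
    exact h.xs.z_ne hzM
  obtain ⟨hs, hn⟩ := h.comp_simple hT hK
  by_cases hall : ∀ u ∈ Q, conjSub u K = K
  · right; right; left
    have hMK : M = K := by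
      rw [hML]
      apply le_antisymm
      · unfold Cfsg.layer
        apply sSup_le
        intro K' hK'
        obtain ⟨v, hv, rfl⟩ := h.transitive hK hK'
        rw [hall v hv]
      · exact Cfsg.Agent.Lib.Helper10.component_le_layer hK
    refine ⟨hMF, ?_, ?_⟩
    · rw [hMK]; exact hs
    · rw [hMK]; exact hn
  · right; right; right
    push Not at hall
    obtain ⟨u, hu, hne⟩ := hall
    obtain ⟨z₁, z', c, hz1, hzsq⟩ := h.exists_coord hT hK
    have hKu := conj_le_cent hK hne
    have hKuC : conjSub u K ≤ Subgroup.centralizer (K : Set G) :=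
      comp_commute_of_ne hK (conj_comp hK u) (Ne.symm hne)
    have hz' := h.z'_eq hT hK hu hne c
    refine ⟨hMF, K, u, hu, hs, hn, ?_, ?_, ?_, z₁, c.z₁_mem, ?_, ?_, ?_⟩
    · rw [eq_bot_iff]
      intro x hx
      rw [Subgroup.mem_inf] at hx
      rw [Subgroup.mem_bot]
      exact c.triv x hx.1 (hKuC hx.2)
    · intro x hx y hy
      exact (Coord.comm_cent hx (hKuC hy)).symm
    · rw [hML]
      exact (h.layer_two hT hK hu hne).symm
    · rw [← hz']; exact c.z_eq
    · obtain ⟨R, hR⟩ := (h.sylow_X1 hK c hzsq hu hne).exists_sylow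
      have hR' : (R : Subgroup ↥K) = (Subgroup.centralizer ({z₁} : Set G)).subgroupOf K := by
        rw [hR, Subgroup.inf_subgroupOf_right]
      exact ⟨R, hR', h.frattini_X1 c hu hKu R hR'⟩
    · intro hQeq
      obtain ⟨C, hC⟩ : ∃ C : Subgroup G, C = Subgroup.centralizer ({z} : Set G) := ⟨_, rfl⟩
      rw [← hC] at hQeq
      have hln : (Cfsg.layer G).Normal := by
        have := Cfsg.Agent.Lib.Helper12.layer_characteristic G
        infer_instance
      have hNn : ((Cfsg.layer G).subgroupOf C).Normal := inferInstance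
      have hNp : IsPGroup 2 ↥((Cfsg.layer G).subgroupOf C) := by
        intro g
        refine ⟨2, ?_⟩
        apply Subtype.ext
        apply Subtype.ext
        have hg : ((g : ↥C) : G) ∈ Cfsg.layer G := Subgroup.mem_subgroupOf.1 g.2
        have hgz : ((g : ↥C) : G) * z = z * ((g : ↥C) : G) := by
          have h3 : ((g : ↥C) : G) ∈ Subgroup.centralizer ({z} : Set G) := by
            rw [← hC]; exact (g : ↥C).2
          rw [Subgroup.mem_centralizer_singleton_iff] at h3
          exact h3
        have := h.fourth_pow hT hK hu hne c hzsq hg hgz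
        push_cast
        exact this
      have hle := Cfsg.Agent.Lib.Helper1.le_pCore hNn hNp
      apply small_false K hs hn z₁ c.z₁_mem hz1 hzsq
      intro x hx hxz
      apply c.claimG h hu hKu hx
      have hxC : x ∈ C := by
        rw [hC, Subgroup.mem_centralizer_singleton_iff]
        exact c.comm_z hx hxz
      have hxN : (⟨x, hxC⟩ : ↥C) ∈ (Cfsg.layer G).subgroupOf C := by
        rw [Subgroup.mem_subgroupOf]
        exact Cfsg.Agent.Lib.Helper10.component_le_layer hK hx
      rw [hQeq]
      exact ⟨⟨x, hxC⟩, hle hxN, rfl⟩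

end Cfsg.Agent.S5426
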