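import Cfsg.Statements.S5427
import Cfsg.Agent.Lib.Helper10.LargeXS22
import Cfsg.Agent.Lib.Helper12.Symplectic
import Cfsg.Agent.S1265

set_option autoImplicit false
open Cfsg

namespace Cfsg.Agent.S5427

open Cfsg.Agent.Lib.Helper10.LargeXS in
theorem result {G : Type*} [Group G] [Finite G] (z : G) (hz : orderOf z = 2) (Q : Subgroup G) (hQC : Q ≤ Subgroup.centralizer ({z} : Set G)) (hF : (Cfsg.generalizedFittingSubgroup ↥(Subgroup.centralizer ({z} : Set G))).map (Subgroup.centralizer ({z} : Set G)).subtype = Q) (hQ : Cfsg.IsExtraspecial 2 ↥Q) (w : ℕ) (hw : 2 ≤ w) (hcard : Nat.card ↥Q = 2 ^ (2 * w + 1)) (K U : Subgroup G) (hU : U = Subgroup.closure {x : G | ∃ k ∈ K, x = k * z * k⁻¹}) (hUab : IsMulCommutative ↥U) (hgen : Subgroup.closure {x : G | ∃ c ∈ Subgroup.centralizer ({z} : Set G), ∃ u ∈ U, x = c * u * c⁻¹} = Subgroup.centralizer ({z} : Set G)) (h3 : (∃ k ∈ K, k * z * k⁻¹ ∈ Q ∧ k * z * k⁻¹ ≠ z) ∨ ∃ u ∈ U ⊓ Q, u ∉ Subgroup.zpowers z ∧ (∃ hz' : z ∈ Subgroup.centralizer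 ({u} : Set G), (⟨z, hz'⟩ : ↥(Subgroup.centralizer ({u} : Set G))) ∈ Cfsg.pCore 2 ↥(Subgroup.centralizer ({u} : Set G)))) : IsSimpleGroup G ∧ Cfsg.IsLargeExtraspecial Q := by
  have hzz : z * z = 1 := by rw [← pow_two, ← hz, pow_orderOf_eq_one]
  have hz1 : z ≠ 1 := by
    intro h
    rw [h, orderOf_one] at hz
    omega
  obtain ⟨C, hC⟩ : ∃ C : Subgroup G, C = Subgroup.centralizer ({z} : Set G) := ⟨_, rfl⟩
  have hzQ : z ∈ Q := by
    rw [← hF]
    exact ⟨Cfsg.Agent.Lib.Helper12.zC z, Cfsg.Agent.Lib.Helper12.zC_mem_generalizedFittingSubgroup z, rfl⟩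
  have hzcomm : ∀ x ∈ Q, x * z = z * x := by
    intro x hx
    have := hQC hx
    rw [Subgroup.mem_centralizer_singleton_iff] at this
    exact this
  have hxs : XS Q z := xs_of_extraspecial hQ hz1 hzz hzQ hzcomm
  have h2Q : IsPGroup 2 ↥Q := hQ.1.1
  have hFn : (Cfsg.generalizedFittingSubgroup ↥(Subgroup.centralizer ({z} : Set G))).Normal :=
    Cfsg.Agent.Lib.Helper12.generalizedFittingSubgroup_normal _
  have hNz : ∀ h : G, h * z = z * h → ∀ k ∈ Q, h * k * h⁻¹ ∈ Q := by
    intro h hh k hk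
    rw [← hF] at hk ⊢
    obtain ⟨k', hk', rfl⟩ := hk
    have hhC : h ∈ Subgroup.centralizer ({z} : Set G) := by
      rw [Subgroup.mem_centralizer_singleton_iff]; exact hh
    exact ⟨⟨h, hhC⟩ * k' * ⟨h, hhC⟩⁻¹, hFn.conj_mem k' hk' ⟨h, hhC⟩, rfl⟩
  have hCzQ : ∀ c : G, (∀ k ∈ Q, c * k = k * c) → c ∈ Q := by
    intro c hc
    have hcC : c ∈ Subgroup.centralizer ({z} : Set G) := by
      rw [Subgroup.mem_centralizer_singleton_iff]; exact hc z hzQ
    have h1 : (⟨c, hcC⟩ : ↥(Subgroup.centralizer ({z} : Set G))) ∈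
        Subgroup.centralizer ((Cfsg.generalizedFittingSubgroup
          ↥(Subgroup.centralizer ({z} : Set G)) : Subgroup _) : Set _) := by
      rw [Subgroup.mem_centralizer_iff]
      intro f hf
      apply Subtype.ext
      have hfQ : (f : G) ∈ Q := by
        rw [← hF]; exact ⟨f, hf, rfl⟩
      exact (hc _ hfQ).symm
    have h2 := Cfsg.Agent.S1265.result h1
    rw [← hF]
    exact ⟨⟨c, hcC⟩, h2, rfl⟩
  have hCz : ∀ c : G, (∀ k ∈ Q, c * k = k * c) → c = 1 ∨ c = z := by
    intro c hc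
    exact hxs.center c (hCzQ c hc) hc
  have hZmap : ∀ x : G, x ∈ (Subgroup.center ↥Q).map Q.subtype ↔ (x = 1 ∨ x = z) := by
    intro x
    constructor
    · rintro ⟨y, hy, rfl⟩
      apply hxs.center y.1 y.2
      intro w' hw'
      have h1 := Subgroup.mem_center_iff.1 hy ⟨w', hw'⟩
      exact (congrArg Subtype.val h1).symm
    · rintro (h1 | h1)
      · rw [h1]; exact Subgroup.one_mem _
      · rw [h1]
        refine ⟨⟨z, hzQ⟩, ?_, rfl⟩
        rw [SetLike.mem_coe, Subgroup.mem_center_iff]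
        intro y
        apply Subtype.ext
        exact hzcomm y.1 y.2
  have hL2 : Subgroup.centralizer (Q : Set G) = (Subgroup.center ↥Q).map Q.subtype := by
    ext c
    rw [hZmap, Subgroup.mem_centralizer_iff]
    constructor
    · intro h
      exact hCz c (fun k hk => (h k hk).symm)
    · rintro (rfl | rfl) k hk
      · rw [one_mul, mul_one]
      · exact hzcomm k hk
  have hL3 : Subgroup.centralizer (((Subgroup.center ↥Q).map Q.subtype : Subgroup G) : Set G) ≤
      Subgroup.normalizer (Q : Set G) := by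
    intro h hh
    rw [Subgroup.mem_centralizer_iff] at hh
    have hhz : h * z = z * h := (hh z ((hZmap z).2 (Or.inr rfl))).symm
    exact mem_normalizer_of_conj_mem (hNz h hhz)
  have hL4 : ∀ K' : Subgroup G, Odd (Nat.card ↥K') → Q ≤ Subgroup.normalizer (K' : Set G) →
      K' = ⊥ := by
    intro K' hK' hQK'
    rcases h3 with ⟨k, -, hkQ, hkz⟩ | ⟨u, hu, huz, hz', hzO⟩
    · exact odd_normalized_eq_bot hxs h2Q hNz hCzQ k hkQ hkz K' hK' hQK'
    · obtain ⟨huU, huQ⟩ := Subgroup.mem_inf.1 hu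
      have hUsq : ∀ x ∈ U, x * x = 1 := by
        intro x hx
        have hx' : x ∈ Subgroup.closure {x : G | ∃ k ∈ K, x = k * z * k⁻¹} := by
          rw [← hU]; exact hx
        have hle : Subgroup.closure {x : G | ∃ k ∈ K, x = k * z * k⁻¹} ≤ U := by rw [← hU]
        refine Subgroup.closure_induction (p := fun x _ => x * x = 1) ?_ ?_ ?_ ?_ hx'
        · rintro y ⟨k, -, rfl⟩
          calc k * z * k⁻¹ * (k * z * k⁻¹) = k * (z * z) * k⁻¹ := by group
            _ = 1 := by rw [hzz, mul_one, mul_inv_cancel]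
        · rw [one_mul]
        · intro a b ha hb iha ihb
          have hab : a * b = b * a := by
            have := hUab.is_comm.comm (⟨a, hle ha⟩ : ↥U) ⟨b, hle hb⟩
            exact congrArg Subtype.val this
          calc a * b * (a * b) = a * (b * a) * b := by group
            _ = a * (a * b) * b := by rw [hab]
            _ = (a * a) * (b * b) := by group
            _ = 1 := by rw [iha, ihb, one_mul]
        · intro a _ iha
          have : a⁻¹ * a⁻¹ = (a * a)⁻¹ := by group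
          rw [this, iha, inv_one]
      have hu2 : u * u = 1 := hUsq u huU
      have hu1 : u ≠ 1 := by
        intro h
        apply huz
        rw [h]; exact Subgroup.one_mem _
      have huz' : u ≠ z := by
        intro h
        apply huz
        rw [h]; exact Subgroup.mem_zpowers z
      have hzOu : z ∈ O2C u := ⟨⟨z, hz'⟩, hzO, rfl⟩
      obtain ⟨q, hq, hqu⟩ := hxs.exists_noncomm huQ hu1 huz'
      have hquq : q * u * q⁻¹ = z * u := by rw [hqu]; group
      have hqz : q * z * q⁻¹ = z := by rw [hxs.z_comm q hq, mul_inv_cancel_right]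
      apply odd_normalized_eq_bot_gen hxs h2Q hNz hCzQ u huQ hu2 ?_ K' hK' hQK'
      intro v hv
      rcases hv with rfl | rfl
      · exact ⟨O2C v, O2C_isPGroup v, hzOu, fun x hx k hk => O2C_conj_mem hx hk⟩
      · refine ⟨O2C (z * u), O2C_isPGroup _, ?_, fun x hx k hk => O2C_conj_mem hx hk⟩
        have h1 := conj_mem_O2C q u z hzOu
        rw [hquq, hqz] at h1
        exact h1
  have hlarge : Cfsg.IsLargeExtraspecial Q := ⟨hQ, hL2, hL3, hL4⟩
  refine ⟨?_, hlarge⟩
  apply simple_of_large hxs h2Q hNz hCz hL4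
  intro N hN hzN
  have hUN : U ≤ N := by
    rw [hU, Subgroup.closure_le]
    rintro x ⟨k, -, rfl⟩
    exact hN.conj_mem z hzN k
  rw [← hgen, Subgroup.closure_le]
  rintro x ⟨c, -, u, hu, rfl⟩
  exact hN.conj_mem u (hUN hu) c

end Cfsg.Agent.S5427
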