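import Cfsg.Statements.S5428
import Cfsg.Agent.Lib.Helper10.LargeXS27
import Cfsg.Agent.Lib.Helper10.LargeXS14
import Cfsg.Agent.Lib.Helper10.LargeXS10
import Cfsg.Agent.Lib.Helper10.LargeXS5
import Cfsg.Agent.Lib.Helper12.Symplectic
import Cfsg.Agent.S1265

set_option autoImplicit false
set_option maxHeartbeats 1600000
open Cfsg

namespace Cfsg.Agent.S5428

open Cfsg.Agent.Lib.Helper10.LargeXS in
theorem result {G : Type*} [Group G] [Finite G] (z : G) (hz : orderOf z = 2) (Q : Subgroup G) (hQC : Q ≤ Subgroup.centralizer ({z} : Set G)) (hF : (Cfsg.generalizedFittingSubgroup ↥(Subgroup.centralizer ({z} : Set G))).map (Subgroup.centralizer ({z} : Set G)).subtype = Q) (hQ : Cfsg.IsExtraspecial 2 ↥Q) (A : Subgroup G) (hA : A ≤ Subgroup.centralizer ({z} : Set G)) (hAodd : Odd (Nat.card ↥A)) (R : Subgroup G) (hR : R = Q ⊓ Subgroup.centralizer (A : Set G)) (hR32 : 32 ≤ Nat.card ↥R) (hO : (Cfsg.oddCore ↥(Subgroup.centralizer ((A ⊔ R : Subgroup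 G) : Set G))).map (Subgroup.centralizer ((A ⊔ R : Subgroup G) : Set G)).subtype ≤ A) (h4 : ¬ 4 ∣ Nat.card ↥(Subgroup.centralizer ((A ⊔ R : Subgroup G) : Set G))) (g : G) (hgR : g * z * g⁻¹ ∈ R) (hgZ : g * z * g⁻¹ ∉ ((Subgroup.center ↥Q).map Q.subtype)) (M : Subgroup G) (hM : M = Subgroup.centralizer (A : Set G) ⊔ A) [hn : (A.subgroupOf M).Normal] : (M ⊓ Subgroup.centralizer ((R ⊔ A : Subgroup G) : Set G)) ⊔ A = A ⊔ ((Subgroup.center ↥Q).map Q.subtype) ∧ Cfsg.IsLargeExtraspecial ((R.subgroupOf M).map (QuotientGroup.mk' (A.subgroupOf M))) ∧ ∃ x ∈ R ⊔ ((Q).map (MulAut.conj g).toMonoidHom ⊓ Subgroup.centralizer (A : Set G)), x * (g * z * g⁻¹) * x⁻¹ = z := by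
  have hf2 : Fact (Nat.Prime 2) := ⟨Nat.prime_two⟩
  have hzz : z * z = 1 := by rw [← pow_two, ← hz, pow_orderOf_eq_one]
  have hz1 : z ≠ 1 := by
    intro h
    rw [h, orderOf_one] at hz
    omega
  have hzQ : z ∈ Q := by
    rw [← hF]
    exact ⟨Cfsg.Agent.Lib.Helper12.zC z, Cfsg.Agent.Lib.Helper12.zC_mem_generalizedFittingSubgroup z, rfl⟩
  have hzcomm : ∀ x ∈ Q, x * z = z * x := by
    intro x hx
    have := hQC hx
    rw [Subgroup.mem_centralizer_singleton_iff] at this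
    exact this
  have hxs : XS Q z := xs_of_extraspecial hQ hz1 hzz hzQ hzcomm
  have h2Q : IsPGroup 2 ↥Q := hQ.1.1
  have hFn : (Cfsg.generalizedFittingSubgroup ↥(Subgroup.centralizer ({z} : Set G))).Normal :=
    Cfsg.Agent.Lib.Helper12.generalizedFittingSubgroup_normal _
  have hNz : ∀ h : G, h * z = z * h → ∀ k ∈ Q, h * k * h⁻¹ ∈ Q := by
    intro h hh k hk
    rw [← hF] at hk ⊢
    obtain ⟨k', hk', rfl⟩ := hk
    have hhC : h ∈ Subgroup.centralizer ({z} : Set G) := by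
      rw [Subgroup.mem_centralizer_singleton_iff]; exact hh
    exact ⟨⟨h, hhC⟩ * k' * ⟨h, hhC⟩⁻¹, hFn.conj_mem k' hk' ⟨h, hhC⟩, rfl⟩
  have hCzQ : ∀ c : G, (∀ k ∈ Q, c * k = k * c) → c ∈ Q := by
    intro c hc
    have hcC : c ∈ Subgroup.centralizer ({z} : Set G) := by
      rw [Subgroup.mem_centralizer_singleton_iff]; exact hc z hzQ
    have h1 : (⟨c, hcC⟩ : ↥(Subgroup.centralizer ({z} : Set G))) ∈
        Subgroup.centralizer ((Cfsg.generalizedFittingSubgroup
          ↥(Subgroup.centralizer ({z} : Set G)) : Subgroup _) : Set _) := by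
      rw [Subgroup.mem_centralizer_iff]
      intro f hf
      apply Subtype.ext
      have hfQ : (f : G) ∈ Q := by
        rw [← hF]; exact ⟨f, hf, rfl⟩
      exact (hc _ hfQ).symm
    have h2 := Cfsg.Agent.S1265.result h1
    rw [← hF]
    exact ⟨⟨c, hcC⟩, h2, rfl⟩
  have hZmap : ∀ x : G, x ∈ (Subgroup.center ↥Q).map Q.subtype ↔ (x = 1 ∨ x = z) := by
    intro x
    constructor
    · rintro ⟨y, hy, rfl⟩
      apply hxs.center y.1 y.2
      intro w' hw'
      have h1 := Subgroup.mem_center_iff.1 hy ⟨w', hw'⟩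
      exact (congrArg Subtype.val h1).symm
    · rintro (h1 | h1)
      · rw [h1]; exact Subgroup.one_mem _
      · rw [h1]
        refine ⟨⟨z, hxs.z_mem⟩, ?_, rfl⟩
        rw [SetLike.mem_coe, Subgroup.mem_center_iff]
        intro y
        apply Subtype.ext
        exact hxs.z_comm y.1 y.2
  obtain ⟨u, hudef⟩ : ∃ u, u = g * z * g⁻¹ := ⟨_, rfl⟩
  obtain ⟨Qg, hQgdef⟩ : ∃ Qg : Subgroup G, Qg = Q.map (MulAut.conj g).toMonoidHom := ⟨_, rfl⟩
  rw [← hudef] at hgR hgZ
  rw [← hudef, ← hQgdef]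
  have hRmem : ∀ x, x ∈ R ↔ x ∈ Q ∧ ∀ a ∈ A, a * x = x * a := by
    intro x
    rw [hR, Subgroup.mem_inf, Subgroup.mem_centralizer_iff]
    rfl
  have hRQ : R ≤ Q := by rw [hR]; exact inf_le_left
  have hAz : ∀ a ∈ A, a * z = z * a := by
    intro a ha
    have := hA ha
    rw [Subgroup.mem_centralizer_singleton_iff] at this
    exact this
  have hANQ : A ≤ Subgroup.normalizer (Q : Set G) := by
    intro a ha
    exact mem_normalizer_of_conj_mem (hNz a (hAz a ha))
  have hzR : z ∈ R := (hRmem z).2 ⟨hzQ, hAz⟩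
  have huR : u ∈ R := hgR
  have huQ : u ∈ Q := hRQ huR
  have huA : ∀ a ∈ A, a * u = u * a := ((hRmem u).1 huR).2
  have huz : u ≠ z := by
    intro h
    apply hgZ
    rw [h, hZmap]
    exact Or.inr rfl
  have hQgmem : ∀ x, x ∈ Qg ↔ g⁻¹ * x * g ∈ Q := by
    intro x; rw [hQgdef]; exact mem_map_conj_iff Q g x
  have hxsg : XS Qg u := by
    rw [hQgdef, hudef]; exact hxs.map_conj g
  have hu2 : u * u = 1 := hxsg.z_sq
  have hu1 : u ≠ 1 := hxsg.z_ne
  have hzQg : z ∈ Qg := by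
    rw [hQgmem]
    exact symm_conj hxs h2Q hNz hCzQ g (by rw [← hudef]; exact huQ)
  have hzucomm : z * u = u * z := (hxs.z_comm u huQ).symm
  have hRcenter : ∀ x ∈ R, (∀ y ∈ R, x * y = y * x) → x = 1 ∨ x = z := by
    have h1 := cQA_center hxs h2Q A hANQ hAodd
    rw [← hR] at h1
    exact h1
  have hxsR : XS R z := hxs.of_le hRQ hzR hRcenter
  have h2R : IsPGroup 2 ↥R := h2Q.to_le hRQ
  have hRA : ∀ x ∈ R, x ∈ A → x = 1 := by
    intro x hx hxA
    obtain ⟨k, hk⟩ := h2R ⟨x, hx⟩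
    exact eq_one_of_odd_of_pow_two hAodd x hxA k (congrArg Subtype.val hk)
  obtain ⟨q, hqR, hqu⟩ : ∃ q ∈ R, q * u = z * (u * q) := by
    by_contra hne
    have hall : ∀ r ∈ R, u * r = r * u := by
      intro r hr
      rcases hxsR.comm r hr u huR with h1 | h1
      · exact h1.symm
      · exact absurd ⟨r, hr, h1⟩ hne
    rcases hRcenter u huR hall with h | h
    · exact hu1 h
    · exact huz h
  have hqQ : q ∈ Q := hRQ hqR
  have hquq : q * u * q⁻¹ = z * u := by rw [hqu]; group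
  have hqz : q * z * q⁻¹ = z := by rw [hxs.z_comm q hqQ, mul_inv_cancel_right]
  have hqgz : (q * g) * z * (q * g)⁻¹ = z * u := by
    calc (q * g) * z * (q * g)⁻¹ = q * (g * z * g⁻¹) * q⁻¹ := by group
      _ = z * u := by rw [← hudef, hquq]
  have hqgzQ : (q * g)⁻¹ * z * (q * g) ∈ Q := by
    have h1 : q⁻¹ * z * q = z := by
      calc q⁻¹ * z * q = q⁻¹ * (q * z * q⁻¹) * q := by rw [hqz]
        _ = z := by group
    have h2 : (q * g)⁻¹ * z * (q * g) = g⁻¹ * (q⁻¹ * z * q) * g := by group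
    rw [h2, h1]
    exact (hQgmem z).1 hzQg
  have hzD : z ∈ Subgroup.centralizer ((A ⊔ R : Subgroup G) : Set G) := by
    rw [Subgroup.mem_centralizer_iff]
    intro h hh
    have hle : A ⊔ R ≤ Subgroup.centralizer ({z} : Set G) := sup_le hA (hRQ.trans hQC)
    have := hle hh
    rw [Subgroup.mem_centralizer_singleton_iff] at this
    exact this
  have hD : ∀ d : G, (∀ a ∈ A, a * d = d * a) → (∀ r ∈ R, r * d = d * r) →
      d ∈ A ∨ d * z ∈ A := by
    intro d hdA hdR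
    have hdD : d ∈ Subgroup.centralizer ((A ⊔ R : Subgroup G) : Set G) := by
      rw [Subgroup.mem_centralizer_iff]
      intro h hh
      have hle : A ⊔ R ≤ Subgroup.centralizer ({d} : Set G) := by
        apply sup_le
        · intro a ha
          rw [Subgroup.mem_centralizer_singleton_iff]; exact hdA a ha
        · intro r hr
          rw [Subgroup.mem_centralizer_singleton_iff]; exact hdR r hr
      have := hle hh
      rw [Subgroup.mem_centralizer_singleton_iff] at this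
      exact this
    have hzo : orderOf (⟨z, hzD⟩ : ↥(Subgroup.centralizer ((A ⊔ R : Subgroup G) : Set G))) = 2 := by
      apply orderOf_eq_prime
      · rw [pow_two]; exact Subtype.ext hzz
      · intro h
        exact hz1 (congrArg Subtype.val h)
    rcases two_odd_decomp _ hzo h4 ⟨d, hdD⟩ with h | h
    · left
      exact hO ⟨_, h, rfl⟩
    · right
      exact hO ⟨_, h, rfl⟩
  have hCAM : Subgroup.centralizer (A : Set G) ≤ M := by rw [hM]; exact le_sup_left
  have hAM : A ≤ M := by rw [hM]; exact le_sup_right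
  have hRCA : R ≤ Subgroup.centralizer (A : Set G) := by rw [hR]; exact inf_le_right
  have hRM : R ≤ M := hRCA.trans hCAM
  have hzM : z ∈ M := hRM hzR
  have huM : u ∈ M := hRM huR
  have hMdecomp : ∀ m ∈ M, ∃ c ∈ Subgroup.centralizer (A : Set G), ∃ a ∈ A, m = c * a := by
    let S : Subgroup G :=
      { carrier := {m | ∃ c ∈ Subgroup.centralizer (A : Set G), ∃ a ∈ A, m = c * a}
        mul_mem' := by
          rintro _ _ ⟨c1, hc1, a1, ha1, rfl⟩ ⟨c2, hc2, a2, ha2, rfl⟩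
          refine ⟨c1 * c2, Subgroup.mul_mem _ hc1 hc2, a1 * a2, A.mul_mem ha1 ha2, ?_⟩
          have h1 : a1 * c2 = c2 * a1 := (Subgroup.mem_centralizer_iff.1 hc2) a1 ha1
          calc c1 * a1 * (c2 * a2) = c1 * (a1 * c2) * a2 := by group
            _ = c1 * (c2 * a1) * a2 := by rw [h1]
            _ = c1 * c2 * (a1 * a2) := by group
        one_mem' := ⟨1, Subgroup.one_mem _, 1, A.one_mem, by rw [mul_one]⟩
        inv_mem' := by
          rintro _ ⟨c1, hc1, a1, ha1, rfl⟩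
          refine ⟨c1⁻¹, Subgroup.inv_mem _ hc1, a1⁻¹, A.inv_mem ha1, ?_⟩
          have h1 : a1⁻¹ * c1⁻¹ = c1⁻¹ * a1⁻¹ :=
            (Subgroup.mem_centralizer_iff.1 (Subgroup.inv_mem _ hc1)) a1⁻¹ (A.inv_mem ha1)
          rw [mul_inv_rev, h1] }
    have hle : M ≤ S := by
      rw [hM]
      apply sup_le
      · intro c hc
        exact ⟨c, hc, 1, A.one_mem, by rw [mul_one]⟩
      · intro a ha
        exact ⟨1, Subgroup.one_mem _, a, ha, by rw [one_mul]⟩
    intro m hm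
    exact hle hm
  have hRnorm : ∀ c : G, c * z = z * c → (∀ a ∈ A, a * c = c * a) → ∀ x ∈ R, c * x * c⁻¹ ∈ R := by
    intro c hcz hcA x hx
    obtain ⟨hxQ, hxA⟩ := (hRmem x).1 hx
    rw [hRmem]
    refine ⟨hNz c hcz x hxQ, ?_⟩
    intro a ha
    have h1 := hcA a ha
    have h2 := hxA a ha
    have h3 : a * c⁻¹ = c⁻¹ * a := by
      calc a * c⁻¹ = c⁻¹ * (c * a) * c⁻¹ := by group
        _ = c⁻¹ * (a * c) * c⁻¹ := by rw [h1]
        _ = c⁻¹ * a := by group
    calc a * (c * x * c⁻¹) = (a * c) * x * c⁻¹ := by group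
      _ = (c * a) * x * c⁻¹ := by rw [h1]
      _ = c * (a * x) * c⁻¹ := by group
      _ = c * (x * a) * c⁻¹ := by rw [h2]
      _ = c * x * (a * c⁻¹) := by group
      _ = c * x * (c⁻¹ * a) := by rw [h3]
      _ = c * x * c⁻¹ * a := by group
  refine ⟨?_, ?_, ?_⟩
  · apply le_antisymm
    · apply sup_le
      · intro d hd
        obtain ⟨hdM, hdC⟩ := Subgroup.mem_inf.1 hd
        rw [Subgroup.mem_centralizer_iff] at hdC
        rcases hD d (fun a ha => hdC a (Subgroup.mem_sup_right ha))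
          (fun r hr => hdC r (Subgroup.mem_sup_left hr)) with h | h
        · exact Subgroup.mem_sup_left h
        · have h1 : d = (d * z) * z := by rw [mul_assoc, hzz, mul_one]
          rw [h1]
          exact Subgroup.mul_mem _ (Subgroup.mem_sup_left h)
            (Subgroup.mem_sup_right ((hZmap z).2 (Or.inr rfl)))
      · exact le_sup_left
    · apply sup_le
      · exact le_sup_right
      · intro x hx
        rw [hZmap] at hx
        rcases hx with rfl | rfl
        · exact Subgroup.one_mem _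
        · apply Subgroup.mem_sup_left
          rw [Subgroup.mem_inf]
          refine ⟨hzM, ?_⟩
          rw [sup_comm]
          exact hzD
  · obtain ⟨π, hπ⟩ : ∃ π : ↥M →* ↥M ⧸ A.subgroupOf M,
        π = QuotientGroup.mk' (A.subgroupOf M) := ⟨_, rfl⟩
    rw [← hπ]
    have hπsurj : Function.Surjective π := by
      rw [hπ]; exact QuotientGroup.mk'_surjective _
    have hπeq : ∀ a b : ↥M, π a = π b ↔ (a : G)⁻¹ * (b : G) ∈ A := by
      intro a b
      rw [hπ, QuotientGroup.mk'_apply, QuotientGroup.mk'_apply, QuotientGroup.eq,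
        Subgroup.mem_subgroupOf]
      rfl
    have hπone : ∀ a : ↥M, π a = 1 ↔ (a : G) ∈ A := by
      intro a
      rw [hπ, QuotientGroup.mk'_apply, QuotientGroup.eq_one_iff, Subgroup.mem_subgroupOf]
    have hrep : ∀ xb : ↥M ⧸ A.subgroupOf M, ∃ c : ↥M, (∀ a ∈ A, a * (c : G) = c * a) ∧ π c = xb := by
      intro xb
      obtain ⟨m, rfl⟩ := hπsurj xb
      obtain ⟨c, hc, a, ha, hm⟩ := hMdecomp m.1 m.2
      refine ⟨⟨c, hCAM hc⟩, Subgroup.mem_centralizer_iff.1 hc, ?_⟩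
      rw [hπeq]
      show c⁻¹ * (m : G) ∈ A
      rw [hm, inv_mul_cancel_left]
      exact ha
    obtain ⟨Pb, hPb⟩ : ∃ Pb : Subgroup (↥M ⧸ A.subgroupOf M),
        Pb = (R.subgroupOf M).map π := ⟨_, rfl⟩
    rw [← hPb]
    have hPbmem : ∀ xb, xb ∈ Pb ↔ ∃ x, ∃ hx : x ∈ R, π ⟨x, hRM hx⟩ = xb := by
      intro xb
      rw [hPb]
      constructor
      · rintro ⟨x', hx', rfl⟩
        rw [SetLike.mem_coe, Subgroup.mem_subgroupOf] at hx'
        exact ⟨x'.1, hx', rfl⟩
      · rintro ⟨x, hx, rfl⟩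
        exact Subgroup.mem_map_of_mem _ (Subgroup.mem_subgroupOf.2 hx)
    obtain ⟨zb, hzb⟩ : ∃ zb, zb = π ⟨z, hzM⟩ := ⟨_, rfl⟩
    obtain ⟨ub, hub⟩ : ∃ ub, ub = π ⟨u, huM⟩ := ⟨_, rfl⟩
    have hzbPb : zb ∈ Pb := (hPbmem zb).2 ⟨z, hzR, hzb.symm⟩
    have hubPb : ub ∈ Pb := (hPbmem ub).2 ⟨u, huR, hub.symm⟩
    have hxsb : XS Pb zb := by
      rw [hPb, hzb]
      apply (hxsR.subgroupOf hRM).map_injOn π
      intro x hx hx1
      rw [Subgroup.mem_subgroupOf] at hx
      rw [hπone] at hx1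
      exact Subtype.ext (hRA _ hx hx1)
    have h2Pb : IsPGroup 2 ↥Pb := by
      rw [hPb]
      exact (h2R.comap_subtype).map _
    have hlift : ∀ (c : ↥M) (r : G) (hr : r ∈ R),
        π c * π ⟨r, hRM hr⟩ = π ⟨r, hRM hr⟩ * π c → (c : G) * r = r * c := by
      intro c r hr h
      rw [← map_mul, ← map_mul, hπeq] at h
      have h1 : ((c : G) * r)⁻¹ * (r * (c : G)) ∈ A := h
      obtain ⟨k, hk⟩ := h2R ⟨r, hr⟩
      have hk' : r ^ (2 ^ k) = 1 := congrArg Subtype.val hk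
      have hra : r * (((c : G) * r)⁻¹ * (r * (c : G))) = (((c : G) * r)⁻¹ * (r * (c : G))) * r :=
        (((hRmem r).1 hr).2 _ h1).symm
      have h2 : r * (((c : G) * r)⁻¹ * (r * (c : G))) = (c : G)⁻¹ * r * (c : G)⁻¹⁻¹ := by group
      have h3 : (r * (((c : G) * r)⁻¹ * (r * (c : G)))) ^ (2 ^ k) = 1 := by
        rw [h2, conj_pow, hk']
        group
      have h4 := eq_one_of_two_mul_odd hAodd r _ h1 hra k hk' h3
      have h5 : (c : G) * r = ((c : G) * r) * (((c : G) * r)⁻¹ * (r * (c : G))) := by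
        rw [h4, mul_one]
      rw [h5]
      group
    have hCb : ∀ cb : ↥M ⧸ A.subgroupOf M, (∀ xb ∈ Pb, cb * xb = xb * cb) → cb ∈ Pb := by
      intro cb hcb
      obtain ⟨c, hcA, rfl⟩ := hrep cb
      have hcR : ∀ r ∈ R, r * (c : G) = c * r := by
        intro r hr
        exact (hlift c r hr (hcb _ ((hPbmem _).2 ⟨r, hr, rfl⟩))).symm
      rcases hD c.1 hcA hcR with h | h
      · have : π c = 1 := (hπone c).2 h
        rw [this]
        exact Subgroup.one_mem _
      · have h1 : π (c * ⟨z, hzM⟩) = 1 := (hπone _).2 h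
        rw [map_mul, ← hzb] at h1
        have h2 : π c = zb := by
          calc π c = π c * zb * zb := by rw [mul_assoc, hxsb.z_sq, mul_one]
            _ = zb := by rw [h1, one_mul]
        rw [h2]
        exact hzbPb
    have hNb : ∀ cb : ↥M ⧸ A.subgroupOf M, cb * zb = zb * cb → ∀ xb ∈ Pb, cb * xb * cb⁻¹ ∈ Pb := by
      intro cb hcb xb hxb
      obtain ⟨c, hcA, rfl⟩ := hrep cb
      obtain ⟨x, hx, rfl⟩ := (hPbmem xb).1 hxb
      have hcz : (c : G) * z = z * c := hlift c z hzR (by rw [← hzb]; exact hcb)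
      have h1 := hRnorm c.1 hcz hcA x hx
      rw [hPbmem]
      refine ⟨_, h1, ?_⟩
      rw [← map_inv, ← map_mul, ← map_mul]
      congr 1
    apply large_of_xs hxsb h2Pb
    · refine ⟨ub, hubPb, π ⟨q, hRM hqR⟩, (hPbmem _).2 ⟨q, hqR, rfl⟩, ?_⟩
      intro h
      rw [hub] at h
      have h1 : u * q = q * u := hlift ⟨u, huM⟩ q hqR h
      rw [h1] at hqu
      apply hz1
      have h3 : 1 * (q * u) = z * (q * u) := by rw [one_mul]; exact hqu
      exact (mul_right_cancel h3).symm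
    · exact hCb
    · exact hNb
    · intro K hK hPK
      have hnormK : ∀ pb ∈ Pb, ∀ xb ∈ K, pb * xb * pb⁻¹ ∈ K := by
        intro pb hpb xb hxb
        exact (Subgroup.mem_normalizer_iff.1 (hPK hpb) xb).1 hxb
      have hfz := fpf_of_large h2Pb hCb hNb K hK hPK
      have hfv : ∀ a : G, a⁻¹ * z * a ∈ Q → ∀ hv : a * z * a⁻¹ ∈ R,
          ∀ xb ∈ K, π ⟨a * z * a⁻¹, hRM hv⟩ * xb = xb * π ⟨a * z * a⁻¹, hRM hv⟩ → xb = 1 := by
        intro a haz hv xb hxb hcomm
        obtain ⟨x, hxA, rfl⟩ := hrep xb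
        have hxv : (x : G) * (a * z * a⁻¹) = (a * z * a⁻¹) * x := hlift x _ hv hcomm.symm
        have hyz : (a⁻¹ * x * a) * z = z * (a⁻¹ * x * a) := by
          calc (a⁻¹ * x * a) * z = a⁻¹ * ((x : G) * (a * z * a⁻¹)) * a := by group
            _ = a⁻¹ * ((a * z * a⁻¹) * x) * a := by rw [hxv]
            _ = z * (a⁻¹ * x * a) := by group
        have h1 := hNz _ hyz _ haz
        have h2 : (a⁻¹ * x * a) * (a⁻¹ * z * a) * (a⁻¹ * x * a)⁻¹ * (a⁻¹ * z * a)⁻¹ ∈ Q :=
          Q.mul_mem h1 (Q.inv_mem haz)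
        obtain ⟨k, hk⟩ := h2Q ⟨_, h2⟩
        have hk' : ((a⁻¹ * x * a) * (a⁻¹ * z * a) * (a⁻¹ * x * a)⁻¹ * (a⁻¹ * z * a)⁻¹) ^ (2 ^ k) = 1 :=
          congrArg Subtype.val hk
        have h3 : (a⁻¹ * x * a) * (a⁻¹ * z * a) * (a⁻¹ * x * a)⁻¹ * (a⁻¹ * z * a)⁻¹
            = a⁻¹ * ((x : G) * z * (x : G)⁻¹ * z⁻¹) * a⁻¹⁻¹ := by group
        rw [h3, conj_pow] at hk'
        have h4 : ((x : G) * z * (x : G)⁻¹ * z⁻¹) ^ (2 ^ k) = 1 := by
          calc ((x : G) * z * (x : G)⁻¹ * z⁻¹) ^ (2 ^ k)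
              = a * (a⁻¹ * ((x : G) * z * (x : G)⁻¹ * z⁻¹) ^ (2 ^ k) * a⁻¹⁻¹) * a⁻¹ := by group
            _ = 1 := by rw [hk']; group
        have hcb : x * ⟨z, hzM⟩ * x⁻¹ * ⟨z, hzM⟩⁻¹ ∈ K.comap π := by
          rw [Subgroup.mem_comap, map_mul, map_mul, map_mul, map_inv, map_inv, ← hzb]
          have : π x * zb * (π x)⁻¹ * zb⁻¹ = π x * (zb * (π x)⁻¹ * zb⁻¹) := by group
          rw [this]
          exact K.mul_mem hxb (hnormK zb hzbPb _ (K.inv_mem hxb))
        have hcb1 : π (x * ⟨z, hzM⟩ * x⁻¹ * ⟨z, hzM⟩⁻¹) = 1 := by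
          apply eq_one_of_odd_of_pow_two hK _ hcb k
          rw [← map_pow]
          have : (x * ⟨z, hzM⟩ * x⁻¹ * ⟨z, hzM⟩⁻¹ : ↥M) ^ (2 ^ k) = 1 := by
            apply Subtype.ext
            rw [Subgroup.coe_pow]
            exact h4
          rw [this, map_one]
        rw [map_mul, map_mul, map_mul, map_inv, map_inv, ← hzb] at hcb1
        apply hfz _ hxb
        have h5 : π x * zb * (π x)⁻¹ = zb := mul_inv_eq_one.1 hcb1
        calc zb * π x = (π x * zb * (π x)⁻¹) * π x := by rw [h5]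
          _ = π x * zb := by group
      have hfu : ∀ xb ∈ K, ub * xb = xb * ub → xb = 1 := by
        intro xb hxb hcomm
        have hv : g * z * g⁻¹ ∈ R := by rw [← hudef]; exact huR
        have h1 := hfv g ((hQgmem z).1 hzQg) hv xb hxb
        apply h1
        have h2 : (⟨g * z * g⁻¹, hRM hv⟩ : ↥M) = ⟨u, huM⟩ := Subtype.ext hudef.symm
        rw [h2, ← hub]
        exact hcomm
      have hzuR : z * u ∈ R := R.mul_mem hzR huR
      have hfzu : ∀ xb ∈ K, (zb * ub) * xb = xb * (zb * ub) → xb = 1 := by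
        intro xb hxb hcomm
        have hv : (q * g) * z * (q * g)⁻¹ ∈ R := by rw [hqgz]; exact hzuR
        have h1 := hfv (q * g) hqgzQ hv xb hxb
        apply h1
        have h2 : (⟨(q * g) * z * (q * g)⁻¹, hRM hv⟩ : ↥M) = ⟨z, hzM⟩ * ⟨u, huM⟩ :=
          Subtype.ext hqgz
        rw [h2, map_mul, ← hzb, ← hub]
        exact hcomm
      apply eq_bot_of_three_fpf K zb ub hxsb.z_sq ?_ (hnormK zb hzbPb) (hnormK ub hubPb)
        hfz hfu hfzu
      rw [hub, ← map_mul]
      have : (⟨u, huM⟩ : ↥M) * ⟨u, huM⟩ = 1 := Subtype.ext hu2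
      rw [this, map_one]
  · have h2Qg : IsPGroup 2 ↥Qg := by
      rw [hQgdef]
      exact h2Q.map _
    have hAQg : A ≤ Subgroup.normalizer (Qg : Set G) := by
      intro a ha
      apply mem_normalizer_of_conj_mem
      intro x hx
      rw [hQgmem] at hx ⊢
      have h1 : (g⁻¹ * a * g) * z = z * (g⁻¹ * a * g) := by
        have h2 := huA a ha
        rw [hudef] at h2
        calc (g⁻¹ * a * g) * z = g⁻¹ * (a * (g * z * g⁻¹)) * g := by group
          _ = g⁻¹ * ((g * z * g⁻¹) * a) * g := by rw [h2]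
          _ = z * (g⁻¹ * a * g) := by group
      have h3 := hNz _ h1 _ hx
      have h4 : g⁻¹ * (a * x * a⁻¹) * g = (g⁻¹ * a * g) * (g⁻¹ * x * g) * (g⁻¹ * a * g)⁻¹ := by
        group
      rw [h4]
      exact h3
    have hQgcenter := cQA_center hxsg h2Qg A hAQg hAodd
    have hzQgA : z ∈ Qg ⊓ Subgroup.centralizer (A : Set G) := by
      rw [Subgroup.mem_inf, Subgroup.mem_centralizer_iff]
      exact ⟨hzQg, hAz⟩
    obtain ⟨q', hq', hq'z⟩ : ∃ q' ∈ Qg ⊓ Subgroup.centralizer (A : Set G),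
        q' * z = u * (z * q') := by
      by_contra hne
      have hall : ∀ r ∈ Qg ⊓ Subgroup.centralizer (A : Set G), z * r = r * z := by
        intro r hr
        rcases hxsg.comm r (Subgroup.mem_inf.1 hr).1 z hzQg with h1 | h1
        · exact h1.symm
        · exact absurd ⟨r, hr, h1⟩ hne
      rcases hQgcenter z hzQgA hall with h | h
      · exact hz1 h
      · exact huz h.symm
    refine ⟨(q * q')⁻¹, ?_, ?_⟩
    · apply Subgroup.inv_mem
      apply Subgroup.mul_mem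
      · exact Subgroup.mem_sup_left hqR
      · exact Subgroup.mem_sup_right hq'
    · have hq'zq : q' * z * q'⁻¹ = u * z := by rw [hq'z]; group
      have h1 : (q * q') * z * (q * q')⁻¹ = u := by
        calc (q * q') * z * (q * q')⁻¹ = q * (q' * z * q'⁻¹) * q⁻¹ := by group
          _ = q * (u * z) * q⁻¹ := by rw [hq'zq]
          _ = (q * u * q⁻¹) * (q * z * q⁻¹) := by group
          _ = (z * u) * z := by rw [hquq, hqz]
          _ = u := by rw [hzucomm, mul_assoc, hzz, mul_one]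
      rw [← h1]
      group

end Cfsg.Agent.S5428
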