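import Cfsg.Statements.S5429
import Cfsg.Agent.Lib.Helper10.LargeXS25
import Cfsg.Agent.Lib.Helper10.LargeXS26
import Cfsg.Agent.Lib.Helper10.LargeXS14
import Cfsg.Agent.Lib.Helper10.LargeXS10
import Cfsg.Agent.Lib.Helper10.LargeXS5
import Cfsg.Agent.Lib.Helper12.Symplectic
import Cfsg.Agent.S1265

set_option autoImplicit false
set_option maxHeartbeats 1600000
open Cfsg

namespace Cfsg.Agent.S5429

open Cfsg.Agent.Lib.Helper10.LargeXS in
theorem result {G : Type*} [Group G] [Finite G] (z : G) (hz : orderOf z = 2) (Q : Subgroup G) (hQC : Q ≤ Subgroup.centralizer ({z} : Set G)) (hF : (Cfsg.generalizedFittingSubgroup ↥(Subgroup.centralizer ({z} : Set G))).map (Subgroup.centralizer ({z} : Set G)).subtype = Q) (hQ : Cfsg.IsExtraspecial 2 ↥Q) (w : ℕ) (hw : 3 ≤ w) (hcard : Nat.card ↥Q = 2 ^ (2 * w + 1)) (g : G) (hgQ : g * z * g⁻¹ ∈ Q) (hgZ : g * z * g⁻¹ ∉ ((Subgroup.center ↥Q).map Q.subtype)) (t : G) (ht : orderOf t = 2) (htQ : t ∈ Q ⊓ (Q).map (MulAut.conj g).toMonoidHom) (htz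 : ¬ IsConj z t) (P : Subgroup G) (hP : P = Q ⊓ Subgroup.centralizer ({t} : Set G)) (hCP : ∀ c ∈ Subgroup.centralizer ({z} : Set G), (∀ x ∈ P, ∃ y ∈ Subgroup.closure ({t, z} : Set G), c * x * c⁻¹ = x * y) ↔ c ∈ Q) [hn : ((Subgroup.zpowers t).subgroupOf (Subgroup.centralizer ({t} : Set G))).Normal] : Cfsg.IsLargeExtraspecial ((P.subgroupOf (Subgroup.centralizer ({t} : Set G))).map (QuotientGroup.mk' ((Subgroup.zpowers t).subgroupOf (Subgroup.centralizer ({t} : Set G))))) ∧ ∃ x ∈ P ⊔ ((Q).map (MulAut.conj g).toMonoidHom ⊓ Subgroup.centralizer ({t} : Set G)), x * (g * z * g⁻¹) * x⁻¹ = z := by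
  have hf2 : Fact (Nat.Prime 2) := ⟨Nat.prime_two⟩
  have hzz : z * z = 1 := by rw [← pow_two, ← hz, pow_orderOf_eq_one]
  have hz1 : z ≠ 1 := by
    intro h
    rw [h, orderOf_one] at hz
    omega
  have ht2 : t * t = 1 := by rw [← pow_two, ← ht, pow_orderOf_eq_one]
  have ht1 : t ≠ 1 := by
    intro h
    rw [h, orderOf_one] at ht
    omega
  have htinv : t⁻¹ = t := by rw [inv_eq_iff_mul_eq_one]; exact ht2
  have hzQ : z ∈ Q := by
    rw [← hF]
    exact ⟨Cfsg.Agent.Lib.Helper12.zC z, Cfsg.Agent.Lib.Helper12.zC_mem_generalizedFittingSubgroup z, rfl⟩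
  have hzcomm : ∀ x ∈ Q, x * z = z * x := by
    intro x hx
    have := hQC hx
    rw [Subgroup.mem_centralizer_singleton_iff] at this
    exact this
  have hxs : XS Q z := xs_of_extraspecial hQ hz1 hzz hzQ hzcomm
  have h2Q : IsPGroup 2 ↥Q := hQ.1.1
  have hFn : (Cfsg.generalizedFittingSubgroup ↥(Subgroup.centralizer ({z} : Set G))).Normal :=
    Cfsg.Agent.Lib.Helper12.generalizedFittingSubgroup_normal _
  have hNz : ∀ h : G, h * z = z * h → ∀ k ∈ Q, h * k * h⁻¹ ∈ Q := by
    intro h hh k hk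
    rw [← hF] at hk ⊢
    obtain ⟨k', hk', rfl⟩ := hk
    have hhC : h ∈ Subgroup.centralizer ({z} : Set G) := by
      rw [Subgroup.mem_centralizer_singleton_iff]; exact hh
    exact ⟨⟨h, hhC⟩ * k' * ⟨h, hhC⟩⁻¹, hFn.conj_mem k' hk' ⟨h, hhC⟩, rfl⟩
  have hCzQ : ∀ c : G, (∀ k ∈ Q, c * k = k * c) → c ∈ Q := by
    intro c hc
    have hcC : c ∈ Subgroup.centralizer ({z} : Set G) := by
      rw [Subgroup.mem_centralizer_singleton_iff]; exact hc z hzQ
    have h1 : (⟨c, hcC⟩ : ↥(Subgroup.centralizer ({z} : Set G))) ∈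
        Subgroup.centralizer ((Cfsg.generalizedFittingSubgroup
          ↥(Subgroup.centralizer ({z} : Set G)) : Subgroup _) : Set _) := by
      rw [Subgroup.mem_centralizer_iff]
      intro f hf
      apply Subtype.ext
      have hfQ : (f : G) ∈ Q := by
        rw [← hF]; exact ⟨f, hf, rfl⟩
      exact (hc _ hfQ).symm
    have h2 := Cfsg.Agent.S1265.result h1
    rw [← hF]
    exact ⟨⟨c, hcC⟩, h2, rfl⟩
  obtain ⟨u, hudef⟩ : ∃ u, u = g * z * g⁻¹ := ⟨_, rfl⟩
  obtain ⟨Qg, hQgdef⟩ : ∃ Qg : Subgroup G, Qg = Q.map (MulAut.conj g).toMonoidHom := ⟨_, rfl⟩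
  rw [← hudef] at hgQ hgZ
  rw [← hQgdef] at htQ
  rw [← hudef, ← hQgdef]
  have huQ : u ∈ Q := hgQ
  have huz : u ≠ z := by
    intro h
    apply hgZ
    rw [h]
    refine ⟨⟨z, hzQ⟩, ?_, rfl⟩
    rw [SetLike.mem_coe, Subgroup.mem_center_iff]
    intro y
    apply Subtype.ext
    exact hzcomm y.1 y.2
  have hconj_zu : IsConj z u := isConj_iff.2 ⟨g, hudef.symm⟩
  have hQgmem : ∀ x, x ∈ Qg ↔ g⁻¹ * x * g ∈ Q := by
    intro x; rw [hQgdef]; exact mem_map_conj_iff Q g x
  have hxsg : XS Qg u := by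
    rw [hQgdef, hudef]; exact hxs.map_conj g
  have hu2 : u * u = 1 := hxsg.z_sq
  have hu1 : u ≠ 1 := hxsg.z_ne
  have hzQg : z ∈ Qg := by
    rw [hQgmem]
    exact symm_conj hxs h2Q hNz hCzQ g (by rw [← hudef]; exact huQ)
  obtain ⟨htQ1, htQ2⟩ := Subgroup.mem_inf.1 htQ
  have htz' : t ≠ z := by
    intro h
    apply htz
    rw [h]
  have htu : t ≠ u := by
    intro h
    apply htz
    rw [h]; exact hconj_zu
  have htzc : t * z = z * t := hxs.z_comm t htQ1
  have htuc : t * u = u * t := hxsg.z_comm t htQ2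
  have hzucomm : z * u = u * z := (hxs.z_comm u huQ).symm
  have hPmem : ∀ x, x ∈ P ↔ x ∈ Q ∧ x * t = t * x := by
    intro x
    rw [hP, Subgroup.mem_inf, Subgroup.mem_centralizer_singleton_iff]
  have hzP : z ∈ P := (hPmem z).2 ⟨hzQ, htzc.symm⟩
  have huP : u ∈ P := (hPmem u).2 ⟨huQ, htuc.symm⟩
  have hPCt : P ≤ Subgroup.centralizer ({t} : Set G) := by rw [hP]; exact inf_le_right
  have h2P : IsPGroup 2 ↥P := h2Q.to_le (by rw [hP]; exact inf_le_left)
  obtain ⟨k0, hk0, hk0t⟩ := hxs.exists_noncomm htQ1 ht1 htz'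
  have hPcenter : ∀ x ∈ Q, (∀ r ∈ P, x * r = r * x) → x = 1 ∨ x = z ∨ x = t ∨ x = z * t := by
    intro x hx hall
    have h1 := hxs.double_centralizer hk0 htQ1 hx hk0t
      (fun r hr hrt => hall r ((hPmem r).2 ⟨hr, hrt⟩))
    rcases h1 with h | h | h | h
    · exact Or.inl h
    · exact Or.inr (Or.inl h)
    · exact Or.inr (Or.inr (Or.inl (hxs.eq_of_mul_eq_one ht2 h)))
    · exact Or.inr (Or.inr (Or.inr (hxs.eq_of_mul_eq_z ht2 h)))
  have hNgen : ∀ a : G, a⁻¹ * t * a ∈ Q → a⁻¹ * t * a ≠ z →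
      ∀ c : G, c * (a * z * a⁻¹) * c⁻¹ ≠ (a * z * a⁻¹) * t := by
    intro a hta htaz c hc
    have hta1 : a⁻¹ * t * a ≠ 1 := by
      intro h
      apply ht1
      calc t = a * (a⁻¹ * t * a) * a⁻¹ := by group
        _ = 1 := by rw [h]; group
    obtain ⟨k, hk, hkt⟩ := hxs.exists_noncomm hta hta1 htaz
    have hkt' : k * (a⁻¹ * t * a) * k⁻¹ = z * (a⁻¹ * t * a) := by rw [hkt]; group
    apply htz
    rw [isConj_iff]
    refine ⟨(k * a⁻¹)⁻¹ * (a⁻¹ * c * a), ?_⟩
    have h1 : (a⁻¹ * c * a) * z * (a⁻¹ * c * a)⁻¹ = z * (a⁻¹ * t * a) := by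
      calc (a⁻¹ * c * a) * z * (a⁻¹ * c * a)⁻¹ = a⁻¹ * (c * (a * z * a⁻¹) * c⁻¹) * a := by group
        _ = a⁻¹ * ((a * z * a⁻¹) * t) * a := by rw [hc]
        _ = z * (a⁻¹ * t * a) := by group
    calc (k * a⁻¹)⁻¹ * (a⁻¹ * c * a) * z * ((k * a⁻¹)⁻¹ * (a⁻¹ * c * a))⁻¹
        = (k * a⁻¹)⁻¹ * ((a⁻¹ * c * a) * z * (a⁻¹ * c * a)⁻¹) * (k * a⁻¹) := by group
      _ = (k * a⁻¹)⁻¹ * (k * (a⁻¹ * t * a) * k⁻¹) * (k * a⁻¹) := by rw [h1, hkt']
      _ = t := by group
  have hN1 : ∀ c : G, c * z * c⁻¹ ≠ z * t := by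
    intro c
    have h1 := hNgen 1 (by rw [inv_one, one_mul, mul_one]; exact htQ1)
      (by rw [inv_one, one_mul, mul_one]; exact htz') c
    rw [one_mul, inv_one, mul_one] at h1
    exact h1
  obtain ⟨q, hqP, hqu⟩ : ∃ q ∈ P, q * u = z * (u * q) := by
    by_contra hne
    have hall : ∀ r ∈ P, u * r = r * u := by
      intro r hr
      rcases hxs.comm r ((hPmem r).1 hr).1 u huQ with h1 | h1
      · exact h1.symm
      · exact absurd ⟨r, hr, h1⟩ hne
    rcases hPcenter u huQ hall with h | h | h | h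
    · exact hu1 h
    · exact huz h
    · exact htu h.symm
    · apply hN1 g
      rw [← hudef]; exact h
  have hqQ : q ∈ Q := ((hPmem q).1 hqP).1
  have hqt : q * t = t * q := ((hPmem q).1 hqP).2
  have hquq : q * u * q⁻¹ = z * u := by rw [hqu]; group
  have hqz : q * z * q⁻¹ = z := by rw [hxs.z_comm q hqQ, mul_inv_cancel_right]
  have hgt : g⁻¹ * t * g ∈ Q := (hQgmem t).1 htQ2
  have hgtz : g⁻¹ * t * g ≠ z := by
    intro h
    apply htu
    rw [hudef, ← h]; group
  have hNu1 : ∀ c : G, c * u * c⁻¹ ≠ u * t := by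
    intro c
    have h1 := hNgen g hgt hgtz c
    rw [← hudef] at h1
    exact h1
  have hqgz : (q * g) * z * (q * g)⁻¹ = z * u := by
    calc (q * g) * z * (q * g)⁻¹ = q * (g * z * g⁻¹) * q⁻¹ := by group
      _ = z * u := by rw [← hudef, hquq]
  have hqgt : (q * g)⁻¹ * t * (q * g) = g⁻¹ * t * g := by
    have h1 : q⁻¹ * t * q = t := by
      calc q⁻¹ * t * q = q⁻¹ * (t * q) := by group
        _ = q⁻¹ * (q * t) := by rw [hqt]
        _ = t := by group
    calc (q * g)⁻¹ * t * (q * g) = g⁻¹ * (q⁻¹ * t * q) * g := by group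
      _ = g⁻¹ * t * g := by rw [h1]
  have hNzu1 : ∀ c : G, c * (z * u) * c⁻¹ ≠ (z * u) * t := by
    intro c
    have h1 := hNgen (q * g) (by rw [hqgt]; exact hgt) (by rw [hqgt]; exact hgtz) c
    rw [hqgz] at h1
    exact h1
  have hqgzQ : (q * g)⁻¹ * z * (q * g) ∈ Q := by
    have h1 : q⁻¹ * z * q = z := by
      calc q⁻¹ * z * q = q⁻¹ * (q * z * q⁻¹) * q := by rw [hqz]
        _ = z := by group
    have h2 : (q * g)⁻¹ * z * (q * g) = g⁻¹ * (q⁻¹ * z * q) * g := by group
    rw [h2, h1]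
    exact (hQgmem z).1 hzQg
  refine ⟨?_, ?_⟩
  · obtain ⟨Ct, hCt⟩ : ∃ Ct : Subgroup G, Ct = Subgroup.centralizer ({t} : Set G) := ⟨_, rfl⟩
    have hCtmem : ∀ x, x ∈ Ct ↔ x * t = t * x := by
      intro x; rw [hCt, Subgroup.mem_centralizer_singleton_iff]
    have hzCt : z ∈ Ct := (hCtmem z).2 htzc.symm
    have huCt : u ∈ Ct := (hCtmem u).2 htuc.symm
    have hPCt' : P ≤ Ct := by rw [hCt]; exact hPCt
    have key : ∀ (Ct' : Subgroup G) (_ : Ct = Ct')
        [hn' : ((Subgroup.zpowers t).subgroupOf Ct').Normal],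
        Cfsg.IsLargeExtraspecial ((P.subgroupOf Ct').map
          (QuotientGroup.mk' ((Subgroup.zpowers t).subgroupOf Ct'))) := by
      intro Ct' hCt' hn'
      subst hCt'
      obtain ⟨π, hπ⟩ : ∃ π : ↥Ct →* ↥Ct ⧸ (Subgroup.zpowers t).subgroupOf Ct,
          π = QuotientGroup.mk' ((Subgroup.zpowers t).subgroupOf Ct) := ⟨_, rfl⟩
      rw [← hπ]
      have hπsurj : Function.Surjective π := by
        rw [hπ]; exact QuotientGroup.mk'_surjective _
      have hπeq : ∀ a b : ↥Ct, π a = π b ↔ ((b : G) = a ∨ (b : G) = a * t) := by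
        intro a b; rw [hπ]; exact mk_eq_iff ht2 Ct a b
      have hπone : ∀ a : ↥Ct, π a = 1 ↔ ((a : G) = 1 ∨ (a : G) = t) := by
        intro a; rw [hπ]; exact mk_eq_one_iff ht2 Ct a
      obtain ⟨Pb, hPb⟩ : ∃ Pb : Subgroup (↥Ct ⧸ (Subgroup.zpowers t).subgroupOf Ct),
          Pb = (P.subgroupOf Ct).map π := ⟨_, rfl⟩
      rw [← hPb]
      have hPbmem : ∀ xb, xb ∈ Pb ↔ ∃ x, ∃ hx : x ∈ P, π ⟨x, hPCt' hx⟩ = xb := by
        intro xb
        rw [hPb]
        constructor
        · rintro ⟨x', hx', rfl⟩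
          rw [SetLike.mem_coe, Subgroup.mem_subgroupOf] at hx'
          exact ⟨x'.1, hx', rfl⟩
        · rintro ⟨x, hx, rfl⟩
          exact Subgroup.mem_map_of_mem _ (Subgroup.mem_subgroupOf.2 hx)
      have hztne : z * t ≠ 1 := by
        intro h
        apply htz'
        calc t = z⁻¹ * (z * t) := by group
          _ = z := by rw [h, mul_one, hxs.z_inv]
      have hanti : ∀ x (hx : x ∈ P) y (hy : y ∈ P), x * y = z * (y * x) →
          π (⟨x, hPCt' hx⟩ * ⟨y, hPCt' hy⟩) ≠ π (⟨y, hPCt' hy⟩ * ⟨x, hPCt' hx⟩) := by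
        intro x hx y hy hxy h
        rw [hπeq] at h
        have hyxt : (y * x) * t = t * (y * x) := by
          have h1 := ((hPmem x).1 hx).2
          have h2 := ((hPmem y).1 hy).2
          rw [mul_assoc, h1, ← mul_assoc, h2, mul_assoc]
        rcases h with h | h
        · have h1 : y * x = x * y := h
          rw [h1] at hxy
          apply hz1
          have h3 : 1 * (x * y) = z * (x * y) := by rw [one_mul]; exact hxy
          exact (mul_right_cancel h3).symm
        · have h1 : y * x = x * y * t := h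
          apply hztne
          have h2 : 1 * (y * x) = (z * t) * (y * x) := by
            rw [one_mul]
            calc y * x = x * y * t := h1
              _ = z * (y * x) * t := by rw [hxy]
              _ = z * ((y * x) * t) := by rw [mul_assoc]
              _ = z * (t * (y * x)) := by rw [hyxt]
              _ = (z * t) * (y * x) := by rw [mul_assoc]
          exact (mul_right_cancel h2).symm
      obtain ⟨zb, hzb⟩ : ∃ zb, zb = π ⟨z, hzCt⟩ := ⟨_, rfl⟩
      obtain ⟨ub, hub⟩ : ∃ ub, ub = π ⟨u, huCt⟩ := ⟨_, rfl⟩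
      have hzbPb : zb ∈ Pb := (hPbmem zb).2 ⟨z, hzP, hzb.symm⟩
      have hubPb : ub ∈ Pb := (hPbmem ub).2 ⟨u, huP, hub.symm⟩
      have hxsb : XS Pb zb := by
        refine ⟨?_, ?_, hzbPb, ?_, ?_, ?_, ?_⟩
        · intro h
          rw [hzb, hπone] at h
          rcases h with h | h
          · exact hz1 h
          · exact htz' h.symm
        · rw [hzb, ← map_mul]
          have : (⟨z, hzCt⟩ : ↥Ct) * ⟨z, hzCt⟩ = 1 := Subtype.ext hzz
          rw [this, map_one]
        · intro xb hxb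
          obtain ⟨x, hx, rfl⟩ := (hPbmem xb).1 hxb
          rw [hzb, ← map_mul, ← map_mul]
          congr 1
          apply Subtype.ext
          exact hxs.z_comm x ((hPmem x).1 hx).1
        · intro xb hxb hall
          obtain ⟨x, hx, rfl⟩ := (hPbmem xb).1 hxb
          have hxQ := ((hPmem x).1 hx).1
          have hcomm : ∀ r ∈ P, x * r = r * x := by
            intro r hr
            rcases hxs.comm x hxQ r ((hPmem r).1 hr).1 with h1 | h1
            · exact h1
            · exfalso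
              apply hanti x hx r hr h1
              rw [map_mul, map_mul]
              exact hall _ ((hPbmem _).2 ⟨r, hr, rfl⟩)
          rcases hPcenter x hxQ hcomm with h | h | h | h
          · left
            rw [hπone]; left; exact h
          · right
            rw [hzb, hπeq]; left; exact h.symm
          · left
            rw [hπone]; right; exact h
          · right
            rw [hzb, hπeq]; right
            show z = x * t
            rw [h, mul_assoc, ht2, mul_one]
        · intro xb hxb yb hyb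
          obtain ⟨x, hx, rfl⟩ := (hPbmem xb).1 hxb
          obtain ⟨y, hy, rfl⟩ := (hPbmem yb).1 hyb
          rcases hxs.comm x ((hPmem x).1 hx).1 y ((hPmem y).1 hy).1 with h1 | h1
          · left
            rw [← map_mul, ← map_mul]
            congr 1
            exact Subtype.ext h1
          · right
            rw [hzb, ← map_mul, ← map_mul, ← map_mul]
            congr 1
            exact Subtype.ext h1
        · intro xb hxb
          obtain ⟨x, hx, rfl⟩ := (hPbmem xb).1 hxb
          rcases hxs.sq x ((hPmem x).1 hx).1 with h1 | h1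
          · left
            rw [← map_mul]
            have : (⟨x, hPCt' hx⟩ : ↥Ct) * ⟨x, hPCt' hx⟩ = 1 := Subtype.ext h1
            rw [this, map_one]
          · right
            rw [hzb, ← map_mul]
            congr 1
            exact Subtype.ext h1
      have h2Pb : IsPGroup 2 ↥Pb := by
        rw [hPb]
        exact (h2P.comap_subtype).map _
      have hliftz : ∀ c : ↥Ct, π c * zb = zb * π c → (c : G) * z = z * c := by
        intro c h
        rw [hzb, ← map_mul, ← map_mul, hπeq] at h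
        rcases h with h | h
        · exact h.symm
        · exfalso
          have h1 : z * (c : G) = c * z * t := h
          apply hN1 (c : G)⁻¹
          calc (c : G)⁻¹ * z * (c : G)⁻¹⁻¹ = (c : G)⁻¹ * (z * c) := by group
            _ = (c : G)⁻¹ * (c * z * t) := by rw [h1]
            _ = z * t := by group
      have hPnorm : ∀ c : G, c * z = z * c → c * t = t * c → ∀ x ∈ P, c * x * c⁻¹ ∈ P := by
        intro c hcz hct x hx
        obtain ⟨hxQ, hxt⟩ := (hPmem x).1 hx
        rw [hPmem]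
        refine ⟨hNz c hcz x hxQ, ?_⟩
        have hct' : c⁻¹ * t = t * c⁻¹ := by
          calc c⁻¹ * t = c⁻¹ * (t * c) * c⁻¹ := by group
            _ = c⁻¹ * (c * t) * c⁻¹ := by rw [hct]
            _ = t * c⁻¹ := by group
        calc c * x * c⁻¹ * t = c * x * (c⁻¹ * t) := by group
          _ = c * x * (t * c⁻¹) := by rw [hct']
          _ = c * (x * t) * c⁻¹ := by group
          _ = c * (t * x) * c⁻¹ := by rw [hxt]
          _ = (c * t) * x * c⁻¹ := by group
          _ = (t * c) * x * c⁻¹ := by rw [hct]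
          _ = t * (c * x * c⁻¹) := by group
      have hCQ : ∀ c : G, c * z = z * c → c * t = t * c →
          (∀ x ∈ P, c * x * c⁻¹ * x⁻¹ = 1 ∨ c * x * c⁻¹ * x⁻¹ = t) → c ∈ P := by
        intro c hcz hct hall
        have hcC : c ∈ Subgroup.centralizer ({z} : Set G) := by
          rw [Subgroup.mem_centralizer_singleton_iff]; exact hcz
        rw [hPmem]
        refine ⟨(hCP c hcC).1 ?_, hct⟩
        intro x hx
        have hxt := ((hPmem x).1 hx).2
        rcases hall x hx with h | h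
        · refine ⟨1, Subgroup.one_mem _, ?_⟩
          rw [mul_one]
          calc c * x * c⁻¹ = (c * x * c⁻¹ * x⁻¹) * x := by group
            _ = x := by rw [h, one_mul]
        · refine ⟨t, Subgroup.subset_closure (Set.mem_insert _ _), ?_⟩
          calc c * x * c⁻¹ = (c * x * c⁻¹ * x⁻¹) * x := by group
            _ = t * x := by rw [h]
            _ = x * t := hxt.symm
      apply large_of_xs hxsb h2Pb
      · refine ⟨ub, hubPb, π ⟨q, hPCt' hqP⟩, (hPbmem _).2 ⟨q, hqP, rfl⟩, ?_⟩
        rw [hub, ← map_mul, ← map_mul]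
        have hqu' : u * q = z * (q * u) := hxs.swap hqu
        exact hanti u huP q hqP hqu'
      · intro cb hcb
        obtain ⟨c, rfl⟩ := hπsurj cb
        have hcz : (c : G) * z = z * c := hliftz c (hcb zb hzbPb)
        have hct : (c : G) * t = t * c := (hCtmem c.1).1 c.2
        have hcP : (c : G) ∈ P := by
          apply hCQ c.1 hcz hct
          intro x hx
          have h1 := hcb _ ((hPbmem _).2 ⟨x, hx, rfl⟩)
          rw [← map_mul, ← map_mul, hπeq] at h1
          have hxt := ((hPmem x).1 hx).2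
          rcases h1 with h1 | h1
          · left
            have h2 : x * (c : G) = c * x := h1
            rw [← h2]; group
          · right
            have h2 : x * (c : G) = c * x * t := h1
            have h3 : (c : G) * x = x * c * t := by
              calc (c : G) * x = (c * x * t) * t := by rw [mul_assoc, ht2, mul_one]
                _ = x * c * t := by rw [← h2]
            calc (c : G) * x * (c : G)⁻¹ * x⁻¹ = (x * c * t) * (c : G)⁻¹ * x⁻¹ := by rw [h3]
              _ = x * (c * t) * (c : G)⁻¹ * x⁻¹ := by group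
              _ = x * (t * c) * (c : G)⁻¹ * x⁻¹ := by rw [hct]
              _ = (x * t) * x⁻¹ := by group
              _ = (t * x) * x⁻¹ := by rw [hxt]
              _ = t := by group
        exact (hPbmem _).2 ⟨c.1, hcP, rfl⟩
      · intro cb hcb xb hxb
        obtain ⟨c, rfl⟩ := hπsurj cb
        obtain ⟨x, hx, rfl⟩ := (hPbmem xb).1 hxb
        have hcz : (c : G) * z = z * c := hliftz c hcb
        have hct : (c : G) * t = t * c := (hCtmem c.1).1 c.2
        have h1 := hPnorm c.1 hcz hct x hx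
        rw [hPbmem]
        refine ⟨_, h1, ?_⟩
        rw [← map_inv, ← map_mul, ← map_mul]
        congr 1
      · intro K hK hPK
        have hnormK : ∀ pb ∈ Pb, ∀ xb ∈ K, pb * xb * pb⁻¹ ∈ K := by
          intro pb hpb xb hxb
          exact (Subgroup.mem_normalizer_iff.1 (hPK hpb) xb).1 hxb
        have hKP : ∀ xb ∈ K, xb ∈ Pb → xb = 1 := by
          intro xb hxK hxP
          exact eq_one_of_odd_of_conj_mem hK h2Pb xb 1 hxK
            (by rw [one_mul, inv_one, mul_one]; exact hxP)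
        have hfz : ∀ xb ∈ K, zb * xb = xb * zb → xb = 1 := by
          intro xb hxb hcomm
          obtain ⟨x, rfl⟩ := hπsurj xb
          have hxz : (x : G) * z = z * x := hliftz x hcomm.symm
          have hxt : (x : G) * t = t * x := (hCtmem x.1).1 x.2
          have hxP : (x : G) ∈ P := by
            apply hCQ x.1 hxz hxt
            intro k hk
            have hcP : (x : G) * k * (x : G)⁻¹ * k⁻¹ ∈ P :=
              P.mul_mem (hPnorm x.1 hxz hxt k hk) (P.inv_mem hk)
            have hcb : π ⟨(x : G) * k * (x : G)⁻¹ * k⁻¹, hPCt' hcP⟩ = 1 := by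
              apply hKP
              · have h1 : (⟨(x : G) * k * (x : G)⁻¹ * k⁻¹, hPCt' hcP⟩ : ↥Ct)
                    = x * (⟨k, hPCt' hk⟩ * x⁻¹ * ⟨k, hPCt' hk⟩⁻¹) := by
                  apply Subtype.ext
                  simp only [Subgroup.coe_mul, Subgroup.coe_inv]
                  group
                rw [h1, map_mul, map_mul, map_mul, map_inv, map_inv]
                exact K.mul_mem hxb (hnormK _ ((hPbmem _).2 ⟨k, hk, rfl⟩) _ (K.inv_mem hxb))
              · exact (hPbmem _).2 ⟨_, hcP, rfl⟩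
            exact (hπone _).1 hcb
          exact hKP _ hxb ((hPbmem _).2 ⟨x.1, hxP, rfl⟩)
        have hfv : ∀ a : G, a⁻¹ * z * a ∈ Q → ∀ hv : a * z * a⁻¹ ∈ Ct,
            (∀ c : G, c * (a * z * a⁻¹) * c⁻¹ ≠ (a * z * a⁻¹) * t) →
            ∀ xb ∈ K, π ⟨a * z * a⁻¹, hv⟩ * xb = xb * π ⟨a * z * a⁻¹, hv⟩ → xb = 1 := by
          intro a haz hv hNv xb hxb hcomm
          obtain ⟨x, rfl⟩ := hπsurj xb
          have hxv : (x : G) * (a * z * a⁻¹) = (a * z * a⁻¹) * x := by
            rw [← map_mul, ← map_mul, hπeq] at hcomm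
            rcases hcomm with h | h
            · exact h
            · exfalso
              have h1 : (x : G) * (a * z * a⁻¹) = (a * z * a⁻¹) * x * t := h
              have hxt : (x : G) * t = t * x := (hCtmem x.1).1 x.2
              apply hNv (x : G)
              calc (x : G) * (a * z * a⁻¹) * (x : G)⁻¹ = ((a * z * a⁻¹) * x * t) * (x : G)⁻¹ := by rw [h1]
                _ = (a * z * a⁻¹) * (x * t) * (x : G)⁻¹ := by group
                _ = (a * z * a⁻¹) * (t * x) * (x : G)⁻¹ := by rw [hxt]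
                _ = (a * z * a⁻¹) * t := by group
          have hyz : (a⁻¹ * x * a) * z = z * (a⁻¹ * x * a) := by
            calc (a⁻¹ * x * a) * z = a⁻¹ * ((x : G) * (a * z * a⁻¹)) * a := by group
              _ = a⁻¹ * ((a * z * a⁻¹) * x) * a := by rw [hxv]
              _ = z * (a⁻¹ * x * a) := by group
          have h1 := hNz _ hyz _ haz
          have h2 : (a⁻¹ * x * a) * (a⁻¹ * z * a) * (a⁻¹ * x * a)⁻¹ * (a⁻¹ * z * a)⁻¹ ∈ Q :=
            Q.mul_mem h1 (Q.inv_mem haz)
          obtain ⟨k, hk⟩ := h2Q ⟨_, h2⟩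
          have hk' : ((a⁻¹ * x * a) * (a⁻¹ * z * a) * (a⁻¹ * x * a)⁻¹ * (a⁻¹ * z * a)⁻¹) ^ (2 ^ k) = 1 :=
            congrArg Subtype.val hk
          have h3 : (a⁻¹ * x * a) * (a⁻¹ * z * a) * (a⁻¹ * x * a)⁻¹ * (a⁻¹ * z * a)⁻¹
              = a⁻¹ * ((x : G) * z * (x : G)⁻¹ * z⁻¹) * a⁻¹⁻¹ := by group
          rw [h3, conj_pow] at hk'
          have h4 : ((x : G) * z * (x : G)⁻¹ * z⁻¹) ^ (2 ^ k) = 1 := by
            calc ((x : G) * z * (x : G)⁻¹ * z⁻¹) ^ (2 ^ k)
                = a * (a⁻¹ * ((x : G) * z * (x : G)⁻¹ * z⁻¹) ^ (2 ^ k) * a⁻¹⁻¹) * a⁻¹ := by group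
              _ = 1 := by rw [hk']; group
          have hcb : x * ⟨z, hzCt⟩ * x⁻¹ * ⟨z, hzCt⟩⁻¹ ∈ K.comap π := by
            rw [Subgroup.mem_comap, map_mul, map_mul, map_mul, map_inv, map_inv, ← hzb]
            have : π x * zb * (π x)⁻¹ * zb⁻¹ = π x * (zb * (π x)⁻¹ * zb⁻¹) := by group
            rw [this]
            exact K.mul_mem hxb (hnormK zb hzbPb _ (K.inv_mem hxb))
          have hcb1 : π (x * ⟨z, hzCt⟩ * x⁻¹ * ⟨z, hzCt⟩⁻¹) = 1 := by
            apply eq_one_of_odd_of_pow_two hK _ hcb k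
            rw [← map_pow]
            have : (x * ⟨z, hzCt⟩ * x⁻¹ * ⟨z, hzCt⟩⁻¹ : ↥Ct) ^ (2 ^ k) = 1 := by
              apply Subtype.ext
              rw [Subgroup.coe_pow]
              exact h4
            rw [this, map_one]
          have h5 := (hπone _).1 hcb1
          have h6 : ((x * ⟨z, hzCt⟩ * x⁻¹ * ⟨z, hzCt⟩⁻¹ : ↥Ct) : G) = (x : G) * z * (x : G)⁻¹ * z⁻¹ := rfl
          rw [h6] at h5
          apply hfz _ hxb
          have hxz : (x : G) * z = z * x := by
            rcases h5 with h5 | h5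
            · calc (x : G) * z = ((x : G) * z * (x : G)⁻¹ * z⁻¹) * (z * x) := by group
                _ = z * x := by rw [h5, one_mul]
            · exfalso
              apply hN1 (x : G)
              calc (x : G) * z * (x : G)⁻¹ = ((x : G) * z * (x : G)⁻¹ * z⁻¹) * z := by group
                _ = t * z := by rw [h5]
                _ = z * t := htzc
          rw [hzb, ← map_mul, ← map_mul]
          congr 1
          exact Subtype.ext hxz.symm
        have hzuCt : z * u ∈ Ct := Ct.mul_mem hzCt huCt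
        have hfu : ∀ xb ∈ K, ub * xb = xb * ub → xb = 1 := by
          intro xb hxb hcomm
          have hv : g * z * g⁻¹ ∈ Ct := by rw [← hudef]; exact huCt
          have h1 := hfv g ((hQgmem z).1 hzQg) hv (by rw [← hudef]; exact hNu1) xb hxb
          apply h1
          have h2 : (⟨g * z * g⁻¹, hv⟩ : ↥Ct) = ⟨u, huCt⟩ := Subtype.ext hudef.symm
          rw [h2, ← hub]
          exact hcomm
        have hfzu : ∀ xb ∈ K, (zb * ub) * xb = xb * (zb * ub) → xb = 1 := by
          intro xb hxb hcomm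
          have hv : (q * g) * z * (q * g)⁻¹ ∈ Ct := by rw [hqgz]; exact hzuCt
          have h1 := hfv (q * g) hqgzQ hv (by rw [hqgz]; exact hNzu1) xb hxb
          apply h1
          have h2 : (⟨(q * g) * z * (q * g)⁻¹, hv⟩ : ↥Ct) = ⟨z, hzCt⟩ * ⟨u, huCt⟩ :=
            Subtype.ext hqgz
          rw [h2, map_mul, ← hzb, ← hub]
          exact hcomm
        apply eq_bot_of_three_fpf K zb ub hxsb.z_sq ?_ (hnormK zb hzbPb) (hnormK ub hubPb)
          hfz hfu hfzu
        rw [hub, ← map_mul]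
        have : (⟨u, huCt⟩ : ↥Ct) * ⟨u, huCt⟩ = 1 := Subtype.ext hu2
        rw [this, map_one]
    exact key (Subgroup.centralizer ({t} : Set G)) hCt
  · have hzne : z ≠ 1 ∧ z ≠ u := ⟨hz1, fun h => huz h.symm⟩
    obtain ⟨q', hq'Qg, hq't, hq'z⟩ : ∃ q' ∈ Qg, q' * t = t * q' ∧ q' * z = u * (z * q') := by
      by_contra hne
      obtain ⟨k1, hk1, hk1t⟩ := hxsg.exists_noncomm htQ2 ht1 htu
      have hall : ∀ r ∈ Qg, r * t = t * r → z * r = r * z := by
        intro r hr hrt
        rcases hxsg.comm r hr z hzQg with h1 | h1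
        · exact h1.symm
        · exact absurd ⟨r, hr, hrt, h1⟩ hne
      have h1 := hxsg.double_centralizer hk1 htQ2 hzQg hk1t hall
      rcases h1 with h | h | h | h
      · exact hz1 h
      · exact huz h.symm
      · apply htz'
        exact (hxsg.eq_of_mul_eq_one ht2 h).symm
      · have h2 : z = u * t := hxsg.eq_of_mul_eq_z ht2 h
        apply hNu1 g⁻¹
        rw [← h2, hudef]
        group
    refine ⟨(q * q')⁻¹, ?_, ?_⟩
    · apply Subgroup.inv_mem
      apply Subgroup.mul_mem
      · exact Subgroup.mem_sup_left hqP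
      · apply Subgroup.mem_sup_right
        rw [Subgroup.mem_inf, Subgroup.mem_centralizer_singleton_iff]
        exact ⟨hq'Qg, hq't⟩
    · have hq'zq : q' * z * q'⁻¹ = u * z := by rw [hq'z]; group
      have h1 : (q * q') * z * (q * q')⁻¹ = u := by
        calc (q * q') * z * (q * q')⁻¹ = q * (q' * z * q'⁻¹) * q⁻¹ := by group
          _ = q * (u * z) * q⁻¹ := by rw [hq'zq]
          _ = (q * u * q⁻¹) * (q * z * q⁻¹) := by group
          _ = (z * u) * z := by rw [hquq, hqz]
          _ = u := by rw [hzucomm, mul_assoc, hzz, mul_one]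
      rw [← h1]
      group

end Cfsg.Agent.S5429
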