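import Cfsg.Statements.S5431
import Cfsg.Agent.Lib.Helper10.LargeXS13
import Cfsg.Agent.Lib.Helper10.LargeXS14
import Cfsg.Agent.Lib.Helper10.LargeXS5

set_option autoImplicit false
open Cfsg

namespace Cfsg.Agent.S5431

open Cfsg.Agent.Lib.Helper10.LargeXS in
theorem result {G : Type*} [Group G] [Finite G] (Q : Subgroup G) (hQ : Cfsg.IsLargeExtraspecial Q) (z : G) (hz : ((Subgroup.center ↥Q).map Q.subtype) = Subgroup.zpowers z) (hz2 : orderOf z = 2) (w : ℕ) (hw : 2 ≤ w) (hcard : Nat.card ↥Q = 2 ^ (2 * w + 1)) (g : G) (hgH : g ∉ Subgroup.centralizer ({z} : Set G)) (hgQ : g * z * g⁻¹ ∈ Q) (V X R E : Subgroup G) (hV : V = Subgroup.closure ({z, g * z * g⁻¹} : Set G)) (hX : X = Q ⊔ (Q).map (MulAut.conj g).toMonoidHom) (hR : R = ((Q).map (MulAut.conj g).toMonoidHom ⊓ Subgroup.centralizer ({z} : Set G)) ⊔ (Q ⊓ Subgroup.centralizer ({g * z * g⁻¹} : Set G))) (hE : E = Q ⊓ (Q).map (MulAut.conj g).toMonoidHom) : (Subgroup.center ↥R).map R.subtype = V ∧ E ≤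 (Subgroup.upperCentralSeries ↥R 2).map R.subtype ∧ Subgroup.upperCentralSeries ↥R 3 = ⊤ ∧ Cfsg.IsElementaryAbelian 2 E ∧ (∀ x ∈ R, ∀ y ∈ R, x * y * x⁻¹ * y⁻¹ ∈ E ∧ x ^ 2 ∈ E) ∧ ((Q).map (MulAut.conj g).toMonoidHom ⊓ Subgroup.centralizer ({z} : Set G)) ⊓ (Q ⊓ Subgroup.centralizer ({g * z * g⁻¹} : Set G)) = E ∧ ⁅X, E⁆ ≤ V := by
  obtain ⟨hE1, hCQ, hL3, -⟩ := hQ
  have hzz : z * z = 1 := by rw [← pow_two, ← hz2, pow_orderOf_eq_one]
  have hz1 : z ≠ 1 := by
    intro h
    rw [h, orderOf_one] at hz2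
    omega
  have hzZ : z ∈ (Subgroup.center ↥Q).map Q.subtype := by
    rw [hz]; exact Subgroup.mem_zpowers z
  obtain ⟨c, hc, hcz⟩ := hzZ
  have hzQ : z ∈ Q := by rw [← hcz]; exact c.2
  have hzcomm : ∀ x ∈ Q, x * z = z * x := by
    intro x hx
    have h1 := Subgroup.mem_center_iff.1 hc ⟨x, hx⟩
    have h2 := congrArg Subtype.val h1
    rw [← hcz]; exact h2
  have hxs : XS Q z := xs_of_extraspecial hE1 hz1 hzz hzQ hzcomm
  have h2Q : IsPGroup 2 ↥Q := hE1.1.1
  have hNz : ∀ h : G, h * z = z * h → ∀ k ∈ Q, h * k * h⁻¹ ∈ Q := by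
    intro h hh k hk
    have h1 : h ∈ Subgroup.centralizer (((Subgroup.center ↥Q).map Q.subtype : Subgroup G) : Set G) := by
      rw [hz, Subgroup.mem_centralizer_iff]
      intro x hx
      obtain ⟨n, rfl⟩ := Subgroup.mem_zpowers_iff.1 hx
      exact (Commute.zpow_left (show Commute z h from hh.symm) n).eq
    exact (Subgroup.mem_normalizer_iff.1 (hL3 h1) k).1 hk
  have hCz : ∀ c : G, (∀ k ∈ Q, c * k = k * c) → c ∈ Q := by
    intro c hc
    have h1 : c ∈ Subgroup.centralizer (Q : Set G) := by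
      rw [Subgroup.mem_centralizer_iff]
      intro k hk
      exact (hc k hk).symm
    rw [hCQ, hz] at h1
    exact (Subgroup.zpowers_le.2 hzQ) h1
  obtain ⟨u, hudef⟩ : ∃ u, u = g * z * g⁻¹ := ⟨_, rfl⟩
  obtain ⟨Qg, hQgdef⟩ : ∃ Qg : Subgroup G, Qg = Q.map (MulAut.conj g).toMonoidHom := ⟨_, rfl⟩
  rw [← hudef] at hgQ hV hR
  rw [← hQgdef] at hX hR hE
  rw [← hudef, ← hQgdef]
  have hQgmem : ∀ x, x ∈ Qg ↔ g⁻¹ * x * g ∈ Q := by
    intro x; rw [hQgdef]; exact mem_map_conj_iff Q g x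
  have hxsg : XS Qg u := by
    rw [hQgdef, hudef]; exact hxs.map_conj g
  have huz : u ≠ z := by
    intro h
    apply hgH
    rw [Subgroup.mem_centralizer_singleton_iff]
    calc g * z = (g * z * g⁻¹) * g := by group
      _ = z * g := by rw [← hudef, h]
  have hu2 : u * u = 1 := hxsg.z_sq
  have hu1 : u ≠ 1 := hxsg.z_ne
  have huQ : u ∈ Q := hgQ
  have hzucomm : z * u = u * z := (hxs.z_comm u huQ).symm
  have hzQg : z ∈ Qg := by
    rw [hQgmem]
    exact symm_conj hxs h2Q hNz hCz g (by rw [← hudef]; exact huQ)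
  have hNu : ∀ h : G, h * u = u * h → ∀ k ∈ Qg, h * k * h⁻¹ ∈ Qg := by
    intro h hh k hk
    rw [hQgmem]
    have hcz : (g⁻¹ * h * g) * z = z * (g⁻¹ * h * g) := by
      calc (g⁻¹ * h * g) * z = g⁻¹ * (h * (g * z * g⁻¹)) * g := by group
        _ = g⁻¹ * ((g * z * g⁻¹) * h) * g := by rw [← hudef, hh]
        _ = z * (g⁻¹ * h * g) := by group
    have h1 := hNz _ hcz _ ((hQgmem k).1 hk)
    have : g⁻¹ * (h * k * h⁻¹) * g = (g⁻¹ * h * g) * (g⁻¹ * k * g) * (g⁻¹ * h * g)⁻¹ := by group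
    rw [this]; exact h1
  obtain ⟨R1, hR1⟩ : ∃ R1 : Subgroup G, R1 = Q ⊓ Subgroup.centralizer ({u} : Set G) := ⟨_, rfl⟩
  obtain ⟨R2, hR2⟩ : ∃ R2 : Subgroup G, R2 = Qg ⊓ Subgroup.centralizer ({z} : Set G) := ⟨_, rfl⟩
  rw [← hR1, ← hR2] at hR
  rw [← hR1, ← hR2]
  have hR1mem : ∀ r, r ∈ R1 ↔ r ∈ Q ∧ r * u = u * r := by
    intro r
    rw [hR1, Subgroup.mem_inf, Subgroup.mem_centralizer_singleton_iff]
  have hR2mem : ∀ r, r ∈ R2 ↔ r ∈ Qg ∧ r * z = z * r := by
    intro r
    rw [hR2, Subgroup.mem_inf, Subgroup.mem_centralizer_singleton_iff]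
  have hEmem : ∀ e, e ∈ E ↔ e ∈ Q ∧ e ∈ Qg := by
    intro e
    rw [hE, Subgroup.mem_inf]
  have hzE : z ∈ E := (hEmem z).2 ⟨hzQ, hzQg⟩
  have huE : u ∈ E := (hEmem u).2 ⟨huQ, hxsg.z_mem⟩
  have hER1 : E ≤ R1 := by
    intro e he
    obtain ⟨h1, h2⟩ := (hEmem e).1 he
    exact (hR1mem e).2 ⟨h1, hxsg.z_comm e h2⟩
  have hER2 : E ≤ R2 := by
    intro e he
    obtain ⟨h1, h2⟩ := (hEmem e).1 he
    exact (hR2mem e).2 ⟨h2, hxs.z_comm e h1⟩
  have hR1R : R1 ≤ R := by rw [hR]; exact le_sup_right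
  have hR2R : R2 ≤ R := by rw [hR]; exact le_sup_left
  have hER : E ≤ R := hER1.trans hR1R
  have hRcl : R = Subgroup.closure ((R2 : Set G) ∪ (R1 : Set G)) := by
    rw [Subgroup.closure_union, Subgroup.closure_eq, Subgroup.closure_eq]; exact hR
  have hSzu : ∀ s ∈ ((R2 : Set G) ∪ (R1 : Set G)), s * z = z * s ∧ s * u = u * s := by
    intro s hs
    rcases hs with hs | hs
    · obtain ⟨h1, h2⟩ := (hR2mem s).1 hs
      exact ⟨h2, hxsg.z_comm s h1⟩
    · obtain ⟨h1, h2⟩ := (hR1mem s).1 hs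
      exact ⟨hxs.z_comm s h1, h2⟩
  have hRz : ∀ r ∈ R, r * z = z * r := by
    have hle : R ≤ Subgroup.centralizer ({z} : Set G) := by
      rw [hRcl, Subgroup.closure_le]
      intro s hs
      show s ∈ Subgroup.centralizer ({z} : Set G)
      rw [Subgroup.mem_centralizer_singleton_iff]
      exact (hSzu s hs).1
    intro r hr
    have := hle hr
    rw [Subgroup.mem_centralizer_singleton_iff] at this
    exact this
  have hRu : ∀ r ∈ R, r * u = u * r := by
    have hle : R ≤ Subgroup.centralizer ({u} : Set G) := by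
      rw [hRcl, Subgroup.closure_le]
      intro s hs
      show s ∈ Subgroup.centralizer ({u} : Set G)
      rw [Subgroup.mem_centralizer_singleton_iff]
      exact (hSzu s hs).2
    intro r hr
    have := hle hr
    rw [Subgroup.mem_centralizer_singleton_iff] at this
    exact this
  have hzR : z ∈ R := hER hzE
  have huR : u ∈ R := hER huE
  have hVmem : ∀ x, x ∈ V ↔ x = 1 ∨ x = z ∨ x = u ∨ x = z * u := by
    intro x
    constructor
    · intro hx
      rw [hV] at hx
      exact four_mem_of_closure hzz hu2 hzucomm hx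
    · have hzV : z ∈ V := by rw [hV]; exact Subgroup.subset_closure (Set.mem_insert _ _)
      have huV : u ∈ V := by
        rw [hV]; exact Subgroup.subset_closure (Set.mem_insert_of_mem _ rfl)
      rintro (rfl | rfl | rfl | rfl)
      · exact V.one_mem
      · exact hzV
      · exact huV
      · exact V.mul_mem hzV huV
  have hcomm_sq : ∀ x ∈ R, ∀ y ∈ R, x * y * x⁻¹ * y⁻¹ ∈ E ∧ x * x ∈ E := by
    rw [hRcl]
    apply comm_sq_mem_of_closure
    · intro s hs
      obtain ⟨h1, h2⟩ := hSzu s hs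
      apply mem_normalizer_of_conj_mem
      intro e he
      obtain ⟨h3, h4⟩ := (hEmem e).1 he
      exact (hEmem _).2 ⟨hNz s h1 e h3, hNu s h2 e h4⟩
    · intro s hs t ht
      obtain ⟨hsz, hsu⟩ := hSzu s hs
      obtain ⟨htz, htu⟩ := hSzu t ht
      have htz' : t⁻¹ * z = z * t⁻¹ := by
        calc t⁻¹ * z = t⁻¹ * (z * t) * t⁻¹ := by group
          _ = t⁻¹ * (t * z) * t⁻¹ := by rw [htz]
          _ = z * t⁻¹ := by group
      have htu' : t⁻¹ * u = u * t⁻¹ := by
        calc t⁻¹ * u = t⁻¹ * (u * t) * t⁻¹ := by group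
          _ = t⁻¹ * (t * u) * t⁻¹ := by rw [htu]
          _ = u * t⁻¹ := by group
      rcases hs with hs | hs
      · have hsQg := ((hR2mem s).1 hs).1
        rcases ht with ht | ht
        · have htQg := ((hR2mem t).1 ht).1
          exact hxsg.comm_mem huE hsQg htQg
        · have htQ := ((hR1mem t).1 ht).1
          rw [hEmem]
          constructor
          · have h1 : s * t * s⁻¹ ∈ Q := hNz s hsz t htQ
            exact Q.mul_mem h1 (Q.inv_mem htQ)
          · have h1 : t * s⁻¹ * t⁻¹ ∈ Qg := hNu t htu _ (Qg.inv_mem hsQg)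
            have h2 : s * t * s⁻¹ * t⁻¹ = s * (t * s⁻¹ * t⁻¹) := by group
            rw [h2]
            exact Qg.mul_mem hsQg h1
      · have hsQ := ((hR1mem s).1 hs).1
        rcases ht with ht | ht
        · have htQg := ((hR2mem t).1 ht).1
          rw [hEmem]
          constructor
          · have h1 : t * s⁻¹ * t⁻¹ ∈ Q := hNz t htz _ (Q.inv_mem hsQ)
            have h2 : s * t * s⁻¹ * t⁻¹ = s * (t * s⁻¹ * t⁻¹) := by group
            rw [h2]
            exact Q.mul_mem hsQ h1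
          · have h1 : s * t * s⁻¹ ∈ Qg := hNu s hsu t htQg
            exact Qg.mul_mem h1 (Qg.inv_mem htQg)
        · have htQ := ((hR1mem t).1 ht).1
          exact hxs.comm_mem hzE hsQ htQ
    · intro s hs
      rcases hs with hs | hs
      · exact hxsg.sq_mem huE ((hR2mem s).1 hs).1
      · exact hxs.sq_mem hzE ((hR1mem s).1 hs).1
  have hXcl : X = Subgroup.closure ((Q : Set G) ∪ (Qg : Set G)) := by
    rw [Subgroup.closure_union, Subgroup.closure_eq, Subgroup.closure_eq]; exact hX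
  have hconj_mul : ∀ n a b : G, n * (a * b) * n⁻¹ = (n * a * n⁻¹) * (n * b * n⁻¹) := by
    intro n a b; group
  have hXE : ∀ x ∈ X, ∀ e ∈ E, x * e * x⁻¹ * e⁻¹ ∈ V := by
    rw [hXcl]
    apply comm_mem_of_mem_closure
    · intro s hs
      apply mem_normalizer_of_conj_mem
      have hzV : z ∈ V := (hVmem z).2 (Or.inr (Or.inl rfl))
      have huV : u ∈ V := (hVmem u).2 (Or.inr (Or.inr (Or.inl rfl)))
      rcases hs with hs | hs
      · have h1 : s * z * s⁻¹ = z := by rw [hxs.z_comm s hs, mul_inv_cancel_right]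
        have h2 : s * u * s⁻¹ ∈ V := by
          rcases hxs.comm s hs u huQ with h3 | h3
          · rw [h3, mul_inv_cancel_right]; exact huV
          · have : s * u * s⁻¹ = z * u := by rw [h3]; group
            rw [this]; exact V.mul_mem hzV huV
        intro x hx
        rcases (hVmem x).1 hx with rfl | rfl | rfl | rfl
        · rw [mul_one, mul_inv_cancel]; exact V.one_mem
        · rw [h1]; exact hzV
        · exact h2
        · rw [hconj_mul, h1]; exact V.mul_mem hzV h2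
      · have h1 : s * u * s⁻¹ = u := by rw [hxsg.z_comm s hs, mul_inv_cancel_right]
        have h2 : s * z * s⁻¹ ∈ V := by
          rcases hxsg.comm s hs z hzQg with h3 | h3
          · rw [h3, mul_inv_cancel_right]; exact hzV
          · have : s * z * s⁻¹ = u * z := by rw [h3]; group
            rw [this]; exact V.mul_mem huV hzV
        intro x hx
        rcases (hVmem x).1 hx with rfl | rfl | rfl | rfl
        · rw [mul_one, mul_inv_cancel]; exact V.one_mem
        · exact h2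
        · rw [h1]; exact huV
        · rw [hconj_mul, h1]; exact V.mul_mem h2 huV
    · intro s hs e he
      obtain ⟨h3, h4⟩ := (hEmem e).1 he
      rcases hs with hs | hs
      · exact hxs.comm_mem ((hVmem z).2 (Or.inr (Or.inl rfl))) hs h3
      · exact hxsg.comm_mem ((hVmem u).2 (Or.inr (Or.inr (Or.inl rfl)))) hs h4
  have hRX : R ≤ X := by
    rw [hR, hX]
    apply sup_le
    · rw [hR2]; exact inf_le_left.trans le_sup_right
    · rw [hR1]; exact inf_le_left.trans le_sup_left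
  have hcenter : (Subgroup.center ↥R).map R.subtype = V := by
    apply le_antisymm
    · rintro _ ⟨h, hh, rfl⟩
      have hall : ∀ r ∈ R, (h : G) * r = r * h := by
        intro r hr
        have h1 := Subgroup.mem_center_iff.1 hh ⟨r, hr⟩
        exact (congrArg Subtype.val h1).symm
      obtain ⟨q, hq, hqu⟩ := hxs.exists_noncomm huQ hu1 huz
      have h4 := hxs.centralizer_R hq huQ hu2 hqu (hall z hzR)
        (hNz _ (hall z hzR)) hCz
        (fun r hr hru => hall r (hR1R ((hR1mem r).2 ⟨hr, hru⟩)))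
      exact (hVmem _).2 h4
    · rw [hV, Subgroup.closure_le]
      intro x hx
      have hxR : x ∈ R := by
        rcases hx with rfl | hx
        · exact hzR
        · rw [Set.mem_singleton_iff] at hx
          rw [hx]; exact huR
      have hxc : ∀ r ∈ R, r * x = x * r := by
        rcases hx with rfl | hx
        · exact hRz
        · rw [Set.mem_singleton_iff] at hx
          rw [hx]; exact hRu
      refine ⟨⟨x, hxR⟩, ?_, rfl⟩
      rw [SetLike.mem_coe, Subgroup.mem_center_iff]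
      intro r
      apply Subtype.ext
      exact hxc r.1 r.2
  have hVcenter : ∀ v (hv : v ∈ R), v ∈ V → (⟨v, hv⟩ : ↥R) ∈ Subgroup.center ↥R := by
    intro v hv hvV
    rw [← hcenter] at hvV
    obtain ⟨c', hc', hcv⟩ := hvV
    have : c' = ⟨v, hv⟩ := Subtype.ext hcv
    rw [← this]; exact hc'
  have hEZ2 : ∀ e (he : e ∈ R), e ∈ E → (⟨e, he⟩ : ↥R) ∈ Subgroup.upperCentralSeries ↥R 2 := by
    intro e heR he
    rw [show (2 : ℕ) = 1 + 1 from rfl, Subgroup.mem_upperCentralSeries_succ_iff, Subgroup.upperCentralSeries_one]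
    intro r
    have h1 := hXE r.1 (hRX r.2) e he
    have h2 : e * r.1 * e⁻¹ * r.1⁻¹ ∈ V := by
      have h3 : e * r.1 * e⁻¹ * r.1⁻¹ = (r.1 * e * r.1⁻¹ * e⁻¹)⁻¹ := by group
      rw [h3]; exact V.inv_mem h1
    have h4 : e * r.1 * e⁻¹ * r.1⁻¹ ∈ R :=
      R.mul_mem (R.mul_mem (R.mul_mem heR r.2) (R.inv_mem heR)) (R.inv_mem r.2)
    exact hVcenter _ h4 h2
  refine ⟨hcenter, ?_, ?_, ?_, ?_, ?_, ?_⟩
  · intro e he
    exact ⟨⟨e, hER he⟩, hEZ2 e (hER he) he, rfl⟩
  · rw [eq_top_iff]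
    intro x _
    rw [show (3 : ℕ) = 2 + 1 from rfl, Subgroup.mem_upperCentralSeries_succ_iff]
    intro y
    have h1 := (hcomm_sq x.1 x.2 y.1 y.2).1
    exact hEZ2 _ (hER h1) h1
  · constructor
    · refine ⟨⟨?_⟩⟩
      intro a b
      apply Subtype.ext
      obtain ⟨ha1, ha2⟩ := (hEmem a.1).1 a.2
      obtain ⟨hb1, hb2⟩ := (hEmem b.1).1 b.2
      show a.1 * b.1 = b.1 * a.1
      rcases hxs.comm a.1 ha1 b.1 hb1 with h1 | h1
      · exact h1
      · rcases hxsg.comm a.1 ha2 b.1 hb2 with h2 | h2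
        · exact h2
        · exfalso
          apply huz
          rw [h1] at h2
          exact (mul_right_cancel h2).symm
    · intro a ha
      obtain ⟨ha1, ha2⟩ := (hEmem a).1 ha
      rw [pow_two]
      rcases hxs.sq a ha1 with h1 | h1
      · exact h1
      · rcases hxsg.sq a ha2 with h2 | h2
        · exact h2
        · exfalso
          apply huz
          rw [← h1, h2]
  · intro x hx y hy
    obtain ⟨h1, h2⟩ := hcomm_sq x hx y hy
    refine ⟨h1, ?_⟩
    rw [pow_two]; exact h2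
  · apply le_antisymm
    · intro x hx
      obtain ⟨h1, h2⟩ := Subgroup.mem_inf.1 hx
      exact (hEmem x).2 ⟨((hR1mem x).1 h2).1, ((hR2mem x).1 h1).1⟩
    · exact le_inf hER2 hER1
  · rw [Subgroup.commutator_le]
    intro x hx e he
    exact hXE x hx e he

end Cfsg.Agent.S5431
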