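import Cfsg.Statements.S5433

set_option autoImplicit false
open Cfsg

namespace Cfsg.Agent.S5433

theorem result {G : Type*} [Group G] [Finite G] (Q : Subgroup G) (hQ : Cfsg.IsLargeExtraspecial Q) (L : Subgroup G) [L.Normal] (hQL : Q ≤ L) : L ⊔ Subgroup.normalizer (Q : Set G) = ⊤ := by
  have : Fact (Nat.Prime 2) := ⟨Nat.prime_two⟩
  obtain ⟨hL1, hL2, hL3, -⟩ := hQ
  have hQ2 : IsPGroup 2 Q := hL1.1.1
  have hcardZ : Nat.card (Subgroup.center Q) = 2 := hL1.2
  obtain ⟨c₀, hc₀u⟩ := (Nat.card_eq_two_iff' (1 : Subgroup.center Q)).mp hcardZ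
  have hc₀ : c₀ ≠ 1 := hc₀u.1
  have hQL2 : IsPGroup 2 (Q.subgroupOf L) :=
    hQ2.comap_of_injective L.subtype (Subgroup.subtype_injective L)
  obtain ⟨T, hT⟩ := hQL2.exists_le_sylow
  set T' : Subgroup G := (T : Subgroup L).map L.subtype with hT'
  have hQT' : Q ≤ T' := by
    intro q hq
    refine ⟨⟨q, hQL hq⟩, hT ?_, rfl⟩
    exact hq
  have hT'2 : IsPGroup 2 T' := T.2.map L.subtype
  have hfr : Subgroup.normalizer (T' : Set G) ⊔ L = ⊤ := Sylow.normalizer_sup_eq_top T
  have key : Subgroup.normalizer (T' : Set G) ≤ Subgroup.normalizer (Q : Set G) := by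
    intro n hn
    apply hL3
    have hntriv : Nontrivial T' := by
      refine ⟨⟨⟨(c₀ : Q), hQT' (c₀ : Q).2⟩, 1, ?_⟩⟩
      intro h
      apply hc₀
      have h1 : ((c₀ : Q) : G) = 1 := congrArg Subtype.val h
      ext
      exact h1
    obtain ⟨c, hc, hc1⟩ := (Subgroup.nontrivial_iff_exists_ne_one _).mp (hT'2.center_nontrivial)
    have hcG1 : ((c : T') : G) ≠ 1 := by
      intro h
      apply hc1
      ext
      exact h
    have hcCQ : ((c : T') : G) ∈ Subgroup.centralizer (Q : Set G) := by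
      rw [Subgroup.mem_centralizer_iff]
      intro q hq
      have := (Subgroup.mem_center_iff.mp hc) ⟨q, hQT' hq⟩
      exact congrArg Subtype.val this
    rw [hL2] at hcCQ
    obtain ⟨cz, hcz, hczeq⟩ := hcCQ
    have hcz1 : (⟨cz, hcz⟩ : Subgroup.center Q) ≠ 1 := by
      intro h
      apply hcG1
      rw [← hczeq]
      have : cz = 1 := congrArg Subtype.val h
      rw [this]; rfl
    have hczc₀ : (⟨cz, hcz⟩ : Subgroup.center Q) = c₀ := hc₀u.2 _ hcz1
    rw [Subgroup.mem_centralizer_iff]
    rintro _ ⟨y, hy, rfl⟩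
    by_cases hy1 : (⟨y, hy⟩ : Subgroup.center Q) = 1
    · have : y = 1 := congrArg Subtype.val hy1
      rw [this]; simp
    · have hyc₀ : (⟨y, hy⟩ : Subgroup.center Q) = c₀ := hc₀u.2 _ hy1
      have hycz : y = cz := by
        have := hyc₀.trans hczc₀.symm
        exact congrArg Subtype.val this
      rw [hycz]
      show (Q.subtype cz) * n = n * (Q.subtype cz)
      rw [hczeq]
      have hconjT : n * (c : T') * n⁻¹ ∈ T' := by
        rw [Subgroup.mem_normalizer_iff] at hn
        exact (hn _).mp (c : T').2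
      have hconjC : (⟨n * (c : T') * n⁻¹, hconjT⟩ : T') ∈ Subgroup.center T' := by
        rw [Subgroup.mem_center_iff]
        rintro ⟨t, ht⟩
        have ht' : n⁻¹ * t * n ∈ T' := by
          have hn' := (Subgroup.normalizer (T' : Set G)).inv_mem hn
          rw [Subgroup.mem_normalizer_iff] at hn'
          have := (hn' t).mp ht
          simpa using this
        have hcomm := (Subgroup.mem_center_iff.mp hc) ⟨n⁻¹ * t * n, ht'⟩
        have hcomm' : (n⁻¹ * t * n) * (c : T') = (c : T') * (n⁻¹ * t * n) := congrArg Subtype.val hcomm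
        ext
        show t * (n * (c : T') * n⁻¹) = n * (c : T') * n⁻¹ * t
        have e1 : t * (n * (c : T') * n⁻¹) = n * ((n⁻¹ * t * n) * (c : T')) * n⁻¹ := by group
        have e2 : n * (c : T') * n⁻¹ * t = n * ((c : T') * (n⁻¹ * t * n)) * n⁻¹ := by group
        rw [e1, e2, hcomm']
      have hconjCQ : n * (c : T') * n⁻¹ ∈ Subgroup.centralizer (Q : Set G) := by
        rw [Subgroup.mem_centralizer_iff]
        intro q hq
        have := (Subgroup.mem_center_iff.mp hconjC) ⟨q, hQT' hq⟩
        exact congrArg Subtype.val this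
      rw [hL2] at hconjCQ
      obtain ⟨dz, hdz, hdzeq⟩ := hconjCQ
      have hdz1 : (⟨dz, hdz⟩ : Subgroup.center Q) ≠ 1 := by
        intro h
        have h1 : dz = 1 := congrArg Subtype.val h
        rw [h1] at hdzeq
        have h2 : n * (c : T') * n⁻¹ = 1 := by rw [← hdzeq]; rfl
        apply hcG1
        have : ((c : T') : G) = n⁻¹ * (n * (c : T') * n⁻¹) * n := by group
        rw [this, h2]; group
      have hdzc₀ : (⟨dz, hdz⟩ : Subgroup.center Q) = c₀ := hc₀u.2 _ hdz1
      have hdzcz : dz = cz := by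
        have := hdzc₀.trans hczc₀.symm
        exact congrArg Subtype.val this
      rw [hdzcz, hczeq] at hdzeq
      calc ((c : T') : G) * n = (n * (c : T') * n⁻¹) * n := by rw [← hdzeq]
        _ = n * (c : T') := by group
  rw [eq_top_iff, ← hfr, sup_comm]
  exact sup_le_sup_left key L

end Cfsg.Agent.S5433
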