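import Cfsg.Statements.S5434
import Cfsg.Agent.Lib.Helper10.LargeXS9
import Cfsg.Agent.Lib.Helper10.LargeXS3
import Cfsg.Agent.S0026
import Cfsg.Agent.S0027

set_option autoImplicit false
open Cfsg

namespace Cfsg.Agent.S5434

open Cfsg.Agent.Lib.Helper10.LargeXS in
open scoped commutatorElement in
theorem result {G : Type*} [Group G] [Finite G] (Q : Subgroup G) (hQ : Cfsg.IsLargeExtraspecial Q) (A : Subgroup G) (hA : A ≤ Subgroup.normalizer (Q : Set G)) (hAodd : Odd (Nat.card ↥A)) (hA1 : A ≠ ⊥) : (Q ⊓ Subgroup.centralizer (A : Set G)) ⊔ ⁅Q, A⁆ = Q ∧ (∀ x ∈ Q ⊓ Subgroup.centralizer (A : Set G), ∀ y ∈ ⁅Q, A⁆, x * y = y * x) ∧ Cfsg.IsExtraspecial 2 ↥⁅Q, A⁆ ∧ (Q ⊓ Subgroup.centralizer (A : Set G) = ((Subgroup.center ↥Q).map Q.subtype) ∨ Cfsg.IsExtraspecial 2 ↥(Q ⊓ Subgroup.centralizer (A : Set G))) := by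
  obtain ⟨hE, hCQ, -, -⟩ := hQ
  have hcard2 : Nat.card (Subgroup.center ↥Q) = 2 := hE.2
  obtain ⟨c, hcne⟩ : ∃ c : ↥(Subgroup.center ↥Q), c ≠ 1 := by
    by_contra hne
    have hall : ∀ c : ↥(Subgroup.center ↥Q), c = 1 := by
      intro c
      by_contra hc
      exact hne ⟨c, hc⟩
    have : Nat.card (Subgroup.center ↥Q) = 1 := by
      rw [Nat.card_eq_one_iff_unique]
      exact ⟨⟨fun a b => (hall a).trans (hall b).symm⟩, ⟨1⟩⟩
    omega
  obtain ⟨z, hzdef⟩ : ∃ z : G, z = ((c : ↥Q) : G) := ⟨_, rfl⟩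
  have hzQ : z ∈ Q := by rw [hzdef]; exact (c : ↥Q).2
  have hz1 : z ≠ 1 := by
    intro h
    apply hcne
    apply Subtype.ext
    apply Subtype.ext
    rw [← hzdef, h]
    rfl
  have hz2 : z * z = 1 := by
    have h1 : c ^ 2 = 1 := by
      rw [← hcard2]
      exact pow_card_eq_one'
    have h2 : (((c ^ 2 : ↥(Subgroup.center ↥Q)) : ↥Q) : G) = 1 := by rw [h1]; rfl
    rw [← pow_two, hzdef]
    exact h2
  have hzcomm : ∀ x ∈ Q, x * z = z * x := by
    intro x hx
    have h1 := Subgroup.mem_center_iff.1 c.2 ⟨x, hx⟩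
    have h2 := congrArg Subtype.val h1
    rw [hzdef]
    exact h2
  have hxs : XS Q z := xs_of_extraspecial hE hz1 hz2 hzQ hzcomm
  have hZmap : ∀ x : G, x ∈ (Subgroup.center ↥Q).map Q.subtype ↔ (x = 1 ∨ x = z) := by
    intro x
    constructor
    · rintro ⟨y, hy, rfl⟩
      apply hxs.center y.1 y.2
      intro w hw
      have h1 := Subgroup.mem_center_iff.1 hy ⟨w, hw⟩
      exact (congrArg Subtype.val h1).symm
    · rintro (h1 | h1)
      · rw [h1]; exact Subgroup.one_mem _
      · rw [h1]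
        exact ⟨(c : ↥Q), c.2, hzdef.symm⟩
  have hAz : ∀ a ∈ A, a * z * a⁻¹ = z := by
    intro a ha
    have haN := hA ha
    have h1 : a * z * a⁻¹ ∈ Q := (Subgroup.mem_normalizer_iff.1 haN z).1 hzQ
    have haN' : a⁻¹ ∈ Subgroup.normalizer (Q : Set G) := Subgroup.inv_mem _ haN
    have hall : ∀ y ∈ Q, (a * z * a⁻¹) * y = y * (a * z * a⁻¹) := by
      intro y hy
      have h2 : a⁻¹ * y * a⁻¹⁻¹ ∈ Q := (Subgroup.mem_normalizer_iff.1 haN' y).1 hy
      rw [inv_inv] at h2
      have h3 := hzcomm _ h2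
      calc (a * z * a⁻¹) * y = a * (z * (a⁻¹ * y * a)) * a⁻¹ := by group
        _ = a * ((a⁻¹ * y * a) * z) * a⁻¹ := by rw [h3]
        _ = y * (a * z * a⁻¹) := by group
    rcases hxs.center _ h1 hall with h4 | h4
    · exfalso
      apply hz1
      have : z = a⁻¹ * (a * z * a⁻¹) * a := by group
      rw [this, h4]
      group
    · exact h4
  have h2Q : IsPGroup 2 ↥Q := hE.1.1
  have hcop : (Nat.card ↥A).Coprime (Nat.card ↥Q) := by
    obtain ⟨k, hk⟩ := (IsPGroup.iff_card (p := 2)).1 h2Q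
    rw [hk]
    apply Nat.Coprime.pow_right
    exact (Nat.coprime_two_right).2 hAodd
  have hsolv : Group.IsSolvable ↥A ∨ Group.IsSolvable ↥Q := by
    right
    haveI : Fact (Nat.Prime 2) := ⟨Nat.prime_two⟩
    haveI := h2Q.isNilpotent
    infer_instance
  have hdecomp := Cfsg.Agent.S0026.result A Q hA hcop hsolv
  have hPP := Cfsg.Agent.S0027.result A Q hA hcop hsolv
  have hPQ : ⁅Q, A⁆ ≤ Q := Cfsg.Agent.Lib.Lead.commutator_le_left_of_le_normalizer Q A hA
  have hCle : Q ⊓ Subgroup.centralizer (A : Set G) ≤ Q := inf_le_left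
  have hcommCP : ∀ x ∈ Q ⊓ Subgroup.centralizer (A : Set G), ∀ y ∈ ⁅Q, A⁆, x * y = y * x := by
    have h3 : ⁅⁅Q, A⁆, Q ⊓ Subgroup.centralizer (A : Set G)⁆ = ⊥ := by
      apply Subgroup.commutator_commutator_eq_bot_of_rotate
      · have h1 : ⁅A, Q ⊓ Subgroup.centralizer (A : Set G)⁆ = ⊥ := by
          rw [Subgroup.commutator_eq_bot_iff_le_centralizer]
          intro a ha
          rw [Subgroup.mem_centralizer_iff]
          intro x hx
          have := (Subgroup.mem_inf.1 hx).2
          rw [Subgroup.mem_centralizer_iff] at this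
          exact (this a ha).symm
        rw [h1, Subgroup.commutator_bot_left]
      · rw [Subgroup.commutator_eq_bot_iff_le_centralizer]
        have h1 : ⁅Q ⊓ Subgroup.centralizer (A : Set G), Q⁆ ≤ Subgroup.zpowers z := by
          rw [Subgroup.commutator_le]
          intro x hx y hy
          have hxQ := (Subgroup.mem_inf.1 hx).1
          rcases hxs.comm x hxQ y hy with h4 | h4
          · have : ⁅x, y⁆ = 1 := by
              rw [commutatorElement_def, h4, mul_inv_cancel_right, mul_inv_cancel]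
            rw [this]; exact Subgroup.one_mem _
          · have : ⁅x, y⁆ = z := by
              rw [commutatorElement_def, h4]
              group
            rw [this]; exact Subgroup.mem_zpowers z
        refine h1.trans ?_
        rw [Subgroup.zpowers_le, Subgroup.mem_centralizer_iff]
        intro a ha
        have h5 := hAz a ha
        calc a * z = (a * z * a⁻¹) * a := by group
          _ = z * a := by rw [h5]
    intro x hx y hy
    rw [Subgroup.commutator_eq_bot_iff_le_centralizer] at h3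
    have h4 := h3 hy
    rw [Subgroup.mem_centralizer_iff] at h4
    exact h4 x hx
  have hcommQ : ∀ x : G, (∀ y ∈ ⁅Q, A⁆, x * y = y * x) →
      (∀ y ∈ Q ⊓ Subgroup.centralizer (A : Set G), x * y = y * x) → ∀ y ∈ Q, x * y = y * x := by
    intro x h1 h2 y hy
    have hle : Q ≤ Subgroup.centralizer ({x} : Set G) := by
      rw [← hdecomp]
      apply sup_le
      · intro w hw
        rw [Subgroup.mem_centralizer_singleton_iff]
        exact (h1 w hw).symm
      · intro w hw
        rw [Subgroup.mem_centralizer_singleton_iff]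
        exact (h2 w hw).symm
    have := hle hy
    rw [Subgroup.mem_centralizer_singleton_iff] at this
    exact this.symm
  have hPne : ⁅Q, A⁆ ≠ ⊥ := by
    intro hbot
    apply hA1
    rw [Subgroup.eq_bot_iff_forall]
    intro a ha
    have h1 : A ≤ Subgroup.centralizer (Q : Set G) := by
      rw [Subgroup.commutator_eq_bot_iff_le_centralizer] at hbot
      intro b hb
      rw [Subgroup.mem_centralizer_iff]
      intro y hy
      have := hbot hy
      rw [Subgroup.mem_centralizer_iff] at this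
      exact (this b hb).symm
    have h2 := h1 ha
    rw [hCQ, hZmap] at h2
    rcases h2 with h3 | h3
    · exact h3
    · exfalso
      have h4 : orderOf z = 2 := orderOf_eq_prime (by rw [pow_two]; exact hz2) hz1
      have h5 : orderOf (⟨a, ha⟩ : ↥A) ∣ Nat.card ↥A := orderOf_dvd_natCard _
      rw [← Subgroup.orderOf_coe] at h5
      simp only at h5
      rw [h3, h4] at h5
      exact (Nat.not_even_iff_odd.2 hAodd) (even_iff_two_dvd.2 h5)
  have hPnab : ∃ x ∈ ⁅Q, A⁆, ∃ y ∈ ⁅Q, A⁆, x * y ≠ y * x := by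
    by_contra hne
    have hab : ∀ x ∈ ⁅Q, A⁆, ∀ y ∈ ⁅Q, A⁆, x * y = y * x := by
      intro x hx y hy
      by_contra hxy
      exact hne ⟨x, hx, y, hy, hxy⟩
    have hPZ : ∀ x ∈ ⁅Q, A⁆, x = 1 ∨ x = z := by
      intro x hx
      apply hxs.center x (hPQ hx)
      apply hcommQ x (hab x hx)
      intro y hy
      exact (hcommCP y hy x hx).symm
    apply hPne
    rw [← hPP, Subgroup.commutator_eq_bot_iff_le_centralizer]
    intro x hx
    rw [Subgroup.mem_centralizer_iff]
    intro a ha
    rcases hPZ x hx with h1 | h1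
    · rw [h1, mul_one, one_mul]
    · rw [h1]
      have h5 := hAz a ha
      calc a * z = (a * z * a⁻¹) * a := by group
        _ = z * a := by rw [h5]
  have hzP : z ∈ ⁅Q, A⁆ := by
    obtain ⟨x, hx, y, hy, hxy⟩ := hPnab
    rcases hxs.comm x (hPQ hx) y (hPQ hy) with h4 | h4
    · exact absurd h4 hxy
    · have : z = x * y * x⁻¹ * y⁻¹ := by rw [h4]; group
      rw [this]
      exact Subgroup.mul_mem _ (Subgroup.mul_mem _ (Subgroup.mul_mem _ hx hy) (Subgroup.inv_mem _ hx))
        (Subgroup.inv_mem _ hy)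
  have hzC : z ∈ Q ⊓ Subgroup.centralizer (A : Set G) := by
    rw [Subgroup.mem_inf, Subgroup.mem_centralizer_iff]
    refine ⟨hzQ, fun a ha => ?_⟩
    have h5 := hAz a ha
    calc a * z = (a * z * a⁻¹) * a := by group
      _ = z * a := by rw [h5]
  refine ⟨?_, hcommCP, ?_, ?_⟩
  · rw [sup_comm]; exact hdecomp
  · apply hxs.extraspecial_of_sub _ hPQ hzP ?_ hPnab (h2Q.to_le hPQ)
    intro x hx hall
    apply hxs.center x (hPQ hx)
    apply hcommQ x hall
    intro y hy
    exact (hcommCP y hy x hx).symm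
  · by_cases hCnab : ∃ x ∈ Q ⊓ Subgroup.centralizer (A : Set G),
        ∃ y ∈ Q ⊓ Subgroup.centralizer (A : Set G), x * y ≠ y * x
    · right
      apply hxs.extraspecial_of_sub _ hCle hzC ?_ hCnab (h2Q.to_le hCle)
      intro x hx hall
      apply hxs.center x (hCle hx)
      exact hcommQ x (fun y hy => hcommCP x hx y hy) hall
    · left
      have hab : ∀ x ∈ Q ⊓ Subgroup.centralizer (A : Set G),
          ∀ y ∈ Q ⊓ Subgroup.centralizer (A : Set G), x * y = y * x := by
        intro x hx y hy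
        by_contra hxy
        exact hCnab ⟨x, hx, y, hy, hxy⟩
      ext x
      rw [hZmap]
      constructor
      · intro hx
        apply hxs.center x (hCle hx)
        exact hcommQ x (fun y hy => hcommCP x hx y hy) (hab x hx)
      · rintro (h1 | h1)
        · rw [h1]; exact Subgroup.one_mem _
        · rw [h1]; exact hzC

end Cfsg.Agent.S5434
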