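import Cfsg.Statements.S5435
import Cfsg.Agent.Lib.Helper10.D8Syl4
import Cfsg.Agent.Lib.Helper24.TwoInvol

set_option autoImplicit false
open Cfsg

namespace Cfsg.Agent.S5435

/-- Let L be a finite non-abelian simple group with an involution z whose centralizer R is a Sylow 2-subgroup of L whose Frattini subgroup is the subgroup generated by z. Then R is dihedral of order 8. -/
theorem result {L : Type*} [Group L] [Finite L] [IsSimpleGroup L] (hL : ¬ IsMulCommutative L) (z : L) (hz : orderOf z = 2) (R : Sylow 2 L) (hR : (R : Subgroup L) = Subgroup.centralizer ({z} : Set L)) (hΦ : (frattini ↥(R : Subgroup L)).map (R : Subgroup L).subtype = Subgroup.zpowers z) : Nonempty (↥(R : Subgroup L) ≃* DihedralGroup 4) := by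
  have hcls := Cfsg.Agent.Lib.Helper10.D8Syl.cls_z z hz (R : Subgroup L) R.isPGroup' hR hΦ
  have hgen := Cfsg.Agent.Lib.Helper10.D8Syl.gen hL z hz R hR hΦ
  have hne := Cfsg.Agent.Lib.Helper10.D8Syl.not_le_zpowers z hz (R : Subgroup L) hR hΦ
  have hmemR : ∀ x : L, x ∈ (R : Subgroup L) ↔ x * z = z * x := by
    intro x
    rw [hR, Subgroup.mem_centralizer_singleton_iff]
  obtain ⟨u1, u2, h1, h2, h4, hRc⟩ :=
    hcls.main (Cfsg.Agent.Lib.Helper10.D8Syl.z_mem z) (R : Subgroup L) hmemR hgen hne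
  have e := Cfsg.Agent.Lib.Helper24.tiEquiv h1 h2
  rw [h4] at e
  exact ⟨(MulEquiv.subgroupCongr hRc).trans e⟩

end Cfsg.Agent.S5435
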