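import Cfsg.Statements.S5436
import Cfsg.Agent.Lib.Helper10.LargeXS22
import Cfsg.Agent.Lib.Helper10.LargeXS23
import Cfsg.Agent.Lib.Helper12.Symplectic
import Cfsg.Agent.S1265

set_option autoImplicit false
open Cfsg

namespace Cfsg.Agent.S5436

open Cfsg.Agent.Lib.Helper10.LargeXS in
theorem result {G : Type*} [Group G] [Finite G] (z : G) (hz : orderOf z = 2) (Q : Subgroup (Subgroup.centralizer ({z} : Set G))) [Q.Normal] (hF : Cfsg.generalizedFittingSubgroup ↥(Subgroup.centralizer ({z} : Set G)) = Q) (hQ : Cfsg.IsExtraspecial 2 ↥Q) (w : ℕ) (hw : 2 ≤ w) (hcard : Nat.card ↥Q = 2 ^ (2 * w + 1)) (hnwc : ∃ g : G, (∃ hq : g * z * g⁻¹ ∈ Subgroup.centralizer ({z} : Set G), (⟨g * z * g⁻¹, hq⟩ : Subgroup.centralizer ({z} : Set G)) ∈ Q) ∧ g * z * g⁻¹ ≠ z) (hsimp : IsSimpleGroup (↥(Subgroup.centralizer ({z} : Set G)) ⧸ Q)) (hna : ¬ IsMulCommutative (↥(Subgroup.centralizer ({z} : Set G)) ⧸ Q)) (hirr : ∀ W : Subgroup (Subgroup.centralizer ({z} : Set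 G)), W.Normal → W ≤ Q → (W = Q ∨ ∀ x ∈ W, (x : G) ∈ Subgroup.zpowers z)) (hwcl : Subgroup.closure {x : Subgroup.centralizer ({z} : Set G) | IsConj z (x : G)} ≠ Q) : IsSimpleGroup G := by
  have hzz : z * z = 1 := by rw [← pow_two, ← hz, pow_orderOf_eq_one]
  have hz1 : z ≠ 1 := by
    intro h
    rw [h, orderOf_one] at hz
    omega
  obtain ⟨zC, hzCdef⟩ : ∃ zC : ↥(Subgroup.centralizer ({z} : Set G)),
      zC = Cfsg.Agent.Lib.Helper12.zC z := ⟨_, rfl⟩
  have hzCv : (zC : G) = z := by rw [hzCdef]; rfl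
  have hzCQ : zC ∈ Q := by
    rw [← hF, hzCdef]
    exact Cfsg.Agent.Lib.Helper12.zC_mem_generalizedFittingSubgroup z
  have hzC1 : zC ≠ 1 := by
    intro h
    apply hz1
    rw [← hzCv, h]; rfl
  have hzC2 : zC * zC = 1 := by
    apply Subtype.ext
    rw [Subgroup.coe_mul, hzCv, hzz]; rfl
  have hzCcomm : ∀ x ∈ Q, x * zC = zC * x := by
    intro x _
    have h1 := Cfsg.Agent.Lib.Helper12.zC_mem_center z
    rw [← hzCdef, Subgroup.mem_center_iff] at h1
    exact h1 x
  have hxsH : XS Q zC := xs_of_extraspecial hQ hzC1 hzC2 hzCQ hzCcomm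
  obtain ⟨Q', hQ'⟩ : ∃ Q' : Subgroup G,
      Q' = Q.map (Subgroup.centralizer ({z} : Set G)).subtype := ⟨_, rfl⟩
  have hxs : XS Q' z := by
    have h1 := hxsH.map_injective (Subgroup.centralizer ({z} : Set G)).subtype
      Subtype.coe_injective
    rw [← hQ'] at h1
    have h2 : (Subgroup.centralizer ({z} : Set G)).subtype zC = z := hzCv
    rw [h2] at h1
    exact h1
  have h2Q : IsPGroup 2 ↥Q' := by
    rw [hQ']; exact hQ.1.1.map _
  have hQ'mem : ∀ k : G, k ∈ Q' ↔ ∃ hk : k ∈ Subgroup.centralizer ({z} : Set G),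
      (⟨k, hk⟩ : ↥(Subgroup.centralizer ({z} : Set G))) ∈ Q := by
    intro k
    rw [hQ']
    constructor
    · rintro ⟨k', hk', rfl⟩
      exact ⟨k'.2, hk'⟩
    · rintro ⟨hk, hkQ⟩
      exact ⟨⟨k, hk⟩, hkQ, rfl⟩
  have hNz : ∀ h : G, h * z = z * h → ∀ k ∈ Q', h * k * h⁻¹ ∈ Q' := by
    intro h hh k hk
    obtain ⟨hkC, hkQ⟩ := (hQ'mem k).1 hk
    have hhC : h ∈ Subgroup.centralizer ({z} : Set G) := by
      rw [Subgroup.mem_centralizer_singleton_iff]; exact hh
    rw [hQ'mem]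
    refine ⟨Subgroup.mul_mem _ (Subgroup.mul_mem _ hhC hkC) (Subgroup.inv_mem _ hhC), ?_⟩
    have h1 := (inferInstance : Q.Normal).conj_mem ⟨k, hkC⟩ hkQ ⟨h, hhC⟩
    exact h1
  have hCzQ : ∀ c : G, (∀ k ∈ Q', c * k = k * c) → c ∈ Q' := by
    intro c hc
    have hcC : c ∈ Subgroup.centralizer ({z} : Set G) := by
      rw [Subgroup.mem_centralizer_singleton_iff]; exact hc z hxs.z_mem
    have h1 : (⟨c, hcC⟩ : ↥(Subgroup.centralizer ({z} : Set G))) ∈
        Subgroup.centralizer ((Cfsg.generalizedFittingSubgroup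
          ↥(Subgroup.centralizer ({z} : Set G)) : Subgroup _) : Set _) := by
      rw [Subgroup.mem_centralizer_iff]
      intro f hf
      rw [hF] at hf
      apply Subtype.ext
      have hfQ : (f : G) ∈ Q' := (hQ'mem _).2 ⟨f.2, hf⟩
      exact (hc _ hfQ).symm
    have h2 := Cfsg.Agent.S1265.result h1
    rw [hF] at h2
    exact (hQ'mem c).2 ⟨hcC, h2⟩
  have hCz : ∀ c : G, (∀ k ∈ Q', c * k = k * c) → c = 1 ∨ c = z := by
    intro c hc
    exact hxs.center c (hCzQ c hc) hc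
  obtain ⟨g, ⟨hq, hgQ⟩, hgz⟩ := hnwc
  have huQ' : g * z * g⁻¹ ∈ Q' := (hQ'mem _).2 ⟨hq, hgQ⟩
  have hL4 : ∀ K : Subgroup G, Odd (Nat.card ↥K) → Q' ≤ Subgroup.normalizer (K : Set G) →
      K = ⊥ := by
    intro K hK hQK
    exact odd_normalized_eq_bot hxs h2Q hNz hCzQ g huQ' hgz K hK hQK
  apply simple_of_large hxs h2Q hNz hCz hL4
  obtain ⟨W, hW⟩ : ∃ W : Subgroup ↥(Subgroup.centralizer ({z} : Set G)),
      W = Subgroup.closure {x : Subgroup.centralizer ({z} : Set G) | IsConj z (x : G)} := ⟨_, rfl⟩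
  rw [← hW] at hwcl
  have hWn : W.Normal := by
    refine ⟨fun w hw h => ?_⟩
    rw [hW] at hw
    refine Subgroup.closure_induction (p := fun w _ => h * w * h⁻¹ ∈ W) ?_ ?_ ?_ ?_ hw
    · intro x hx
      rw [hW]
      apply Subgroup.subset_closure
      have hx' : IsConj z (x : G) := hx
      obtain ⟨c, hc⟩ := isConj_iff.1 hx'
      show IsConj z ((h * x * h⁻¹ : ↥(Subgroup.centralizer ({z} : Set G))) : G)
      rw [isConj_iff]
      refine ⟨(h : G) * c, ?_⟩
      rw [Subgroup.coe_mul, Subgroup.coe_mul, Subgroup.coe_inv, ← hc]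
      group
    · rw [mul_one, mul_inv_cancel]; exact W.one_mem
    · intro a b _ _ iha ihb
      have : h * (a * b) * h⁻¹ = (h * a * h⁻¹) * (h * b * h⁻¹) := by group
      rw [this]; exact W.mul_mem iha ihb
    · intro a _ iha
      have : h * a⁻¹ * h⁻¹ = (h * a * h⁻¹)⁻¹ := by group
      rw [this]; exact W.inv_mem iha
  have huW : (⟨g * z * g⁻¹, hq⟩ : ↥(Subgroup.centralizer ({z} : Set G))) ∈ W := by
    rw [hW]
    apply Subgroup.subset_closure
    show IsConj z (g * z * g⁻¹)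
    rw [isConj_iff]
    exact ⟨g, rfl⟩
  have hQW : Q ≤ W := by
    have hn : (W ⊓ Q).Normal := inferInstance
    rcases hirr (W ⊓ Q) hn inf_le_right with h1 | h1
    · rw [← h1]; exact inf_le_left
    · exfalso
      have h2 := h1 _ (Subgroup.mem_inf.2 ⟨huW, hgQ⟩)
      have h3 : g * z * g⁻¹ ∈ Subgroup.zpowers z := h2
      have hall : ∀ y ∈ Q', (g * z * g⁻¹) * y = y * (g * z * g⁻¹) := by
        intro y hy
        have hle : Subgroup.zpowers z ≤ Subgroup.centralizer ({y} : Set G) := by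
          rw [Subgroup.zpowers_le, Subgroup.mem_centralizer_singleton_iff]
          exact (hxs.z_comm y hy).symm
        have h4 := hle h3
        rw [Subgroup.mem_centralizer_singleton_iff] at h4
        exact h4
      rcases hxs.center _ huQ' hall with h5 | h5
      · apply hz1
        calc z = g⁻¹ * (g * z * g⁻¹) * g := by group
          _ = 1 := by rw [h5]; group
      · exact hgz h5
  have hWtop : W = ⊤ := by
    have hmapn : (W.map (QuotientGroup.mk' Q)).Normal :=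
      hWn.map _ (QuotientGroup.mk'_surjective Q)
    rcases hsimp.eq_bot_or_eq_top_of_normal _ hmapn with h1 | h1
    · exfalso
      apply hwcl
      apply le_antisymm _ hQW
      intro x hx
      have h2 : QuotientGroup.mk' Q x ∈ W.map (QuotientGroup.mk' Q) := ⟨x, hx, rfl⟩
      rw [h1, Subgroup.mem_bot] at h2
      exact (QuotientGroup.eq_one_iff x).1 h2
    · rw [eq_top_iff]
      intro h _
      have h2 : QuotientGroup.mk' Q h ∈ W.map (QuotientGroup.mk' Q) := by
        rw [h1]; exact Subgroup.mem_top _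
      obtain ⟨x, hx, hxh⟩ := h2
      have h3 : x⁻¹ * h ∈ Q := QuotientGroup.eq.1 hxh
      have h4 : h = x * (x⁻¹ * h) := by group
      rw [h4]
      exact W.mul_mem hx (hQW h3)
  intro N hN hzN
  have hWN : W ≤ N.comap (Subgroup.centralizer ({z} : Set G)).subtype := by
    rw [hW, Subgroup.closure_le]
    intro x hx
    have hx' : IsConj z (x : G) := hx
    obtain ⟨c, hc⟩ := isConj_iff.1 hx'
    show (x : G) ∈ N
    rw [← hc]
    exact hN.conj_mem z hzN c
  intro h hh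
  have h1 : (⟨h, hh⟩ : ↥(Subgroup.centralizer ({z} : Set G))) ∈ W := by
    rw [hWtop]; exact Subgroup.mem_top _
  exact hWN h1

end Cfsg.Agent.S5436
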