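import Cfsg.Statements.S5437

set_option autoImplicit false
open Cfsg

namespace Cfsg.Agent.S5437

theorem mem_map_conj {G : Type*} [Group G] (H : Subgroup G) (g x : G) :
    x ∈ H.map (MulAut.conj g).toMonoidHom ↔ g⁻¹ * x * g ∈ H := by
  constructor
  · rintro ⟨h, hh, rfl⟩
    have : g⁻¹ * ((MulAut.conj g).toMonoidHom h) * g = h := by
      simp [MulAut.conj_apply, mul_assoc]
    rw [this]; exact hh
  · intro h
    refine ⟨g⁻¹ * x * g, h, ?_⟩
    simp [MulAut.conj_apply, mul_assoc]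

theorem fix_iff {G : Type*} [Group G] (H : Subgroup G) (g x : G) :
    x • (g : G ⧸ H) = (g : G ⧸ H) ↔ g⁻¹ * x * g ∈ H := by
  rw [MulAction.Quotient.smul_mk, QuotientGroup.eq]
  constructor
  · intro h
    have := H.inv_mem h
    simpa [mul_assoc] using this
  · intro h
    have := H.inv_mem h
    simpa [mul_assoc] using this

theorem result {G : Type*} [Group G] [Finite G] (I : Set G) (hI : ∀ x ∈ I, orderOf x = 2) (hIc : ∀ g : G, ∀ x ∈ I, g * x * g⁻¹ ∈ I) (H : Subgroup G) : ((∀ x ∈ I, x ∈ H → (∀ g : G, g * x * g⁻¹ ∈ H → ∃ h ∈ H, h * x * h⁻¹ = g * x * g⁻¹) ∧ Subgroup.centralizer ({x} : Set G) ≤ H) ↔ (∀ g : G, g ∉ H → ∀ x ∈ I, ¬ (x ∈ H ∧ x ∈ (H : Subgroup G).map (MulAut.conj g).toMonoidHom))) ∧ ((∀ g : G, g ∉ H → ∀ x ∈ I, ¬ (x ∈ H ∧ x ∈ (H : Subgroup G).map (MulAut.conj g).toMonoidHom)) ↔ ∀ x ∈ I, x ∈ H → ∃! c : G ⧸ H, x • c = c) := by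
  refine ⟨⟨?_, ?_⟩, ⟨?_, ?_⟩⟩
  · intro hA g hg x hxI ⟨hxH, hxg⟩
    rw [mem_map_conj] at hxg
    obtain ⟨hA1, hA2⟩ := hA x hxI hxH
    have h1 : g⁻¹ * x * g⁻¹⁻¹ ∈ H := by rwa [inv_inv]
    obtain ⟨h, hh, hheq⟩ := hA1 g⁻¹ h1
    apply hg
    have hmem : g * h ∈ Subgroup.centralizer ({x} : Set G) := by
      rw [Subgroup.mem_centralizer_singleton_iff]
      have e1 : g * (h * x * h⁻¹) * g⁻¹ = x := by
        rw [hheq]; group
      calc g * h * x = (g * (h * x * h⁻¹) * g⁻¹) * (g * h) := by group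
        _ = x * (g * h) := by rw [e1]
    have := hA2 hmem
    have h2 := H.mul_mem this (H.inv_mem hh)
    simpa using h2
  · intro hB x hxI hxH
    refine ⟨?_, ?_⟩
    · intro g hgx
      by_cases hg : g ∈ H
      · exact ⟨g, hg, rfl⟩
      · exfalso
        apply hB g hg (g * x * g⁻¹) (hIc g x hxI)
        refine ⟨hgx, ?_⟩
        rw [mem_map_conj]
        have : g⁻¹ * (g * x * g⁻¹) * g = x := by group
        rw [this]; exact hxH
    · intro c hc
      by_contra hcH
      apply hB c hcH x hxI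
      refine ⟨hxH, ?_⟩
      rw [mem_map_conj]
      rw [Subgroup.mem_centralizer_singleton_iff] at hc
      have : c⁻¹ * x * c = x := by
        calc c⁻¹ * x * c = c⁻¹ * (x * c) := by group
          _ = c⁻¹ * (c * x) := by rw [hc]
          _ = x := by group
      rw [this]; exact hxH
  · intro hB x hxI hxH
    refine ⟨((1 : G) : G ⧸ H), ?_, ?_⟩
    · show x • ((1 : G) : G ⧸ H) = ((1 : G) : G ⧸ H)
      rw [fix_iff]
      simpa using hxH
    · intro c hc
      induction c using QuotientGroup.induction_on with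
      | H g =>
        rw [fix_iff] at hc
        by_contra hne
        have hg : g ∉ H := by
          intro hg
          apply hne
          rw [QuotientGroup.eq]
          simpa using H.inv_mem hg
        apply hB g hg x hxI
        refine ⟨hxH, ?_⟩
        rw [mem_map_conj]
        exact hc
  · intro hC g hg x hxI ⟨hxH, hxg⟩
    rw [mem_map_conj] at hxg
    obtain ⟨c, _, hcu⟩ := hC x hxI hxH
    have h1 : ((1 : G) : G ⧸ H) = c := by
      apply hcu
      show x • ((1 : G) : G ⧸ H) = ((1 : G) : G ⧸ H)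
      rw [fix_iff]
      simpa using hxH
    have h2 : (g : G ⧸ H) = c := by
      apply hcu
      show x • (g : G ⧸ H) = (g : G ⧸ H)
      rw [fix_iff]
      exact hxg
    have h3 : (g : G ⧸ H) = ((1 : G) : G ⧸ H) := h2.trans h1.symm
    rw [QuotientGroup.eq] at h3
    apply hg
    have := H.inv_mem h3
    simpa using this

end Cfsg.Agent.S5437
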