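import Cfsg.Statements.S5438

set_option autoImplicit false
open Cfsg
open scoped Pointwise

namespace Cfsg.Agent.S5438

theorem exists_conj_mem_sylow {Γ : Type*} [Group Γ] [Finite Γ] (p : ℕ) [Fact p.Prime]
    (S : Sylow p Γ) (y : Γ) (k : ℕ) (hy : orderOf y = p ^ k) : ∃ h : Γ, h * y * h⁻¹ ∈ S := by
  have hP : IsPGroup p (Subgroup.zpowers y) := by
    apply IsPGroup.of_card (n := k)
    rw [Nat.card_zpowers, hy]
  obtain ⟨P', hP'⟩ := hP.exists_le_sylow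
  obtain ⟨h, hh⟩ := MulAction.exists_smul_eq Γ P' S
  refine ⟨h, ?_⟩
  have hy' : y ∈ (P' : Subgroup Γ) := hP' (Subgroup.mem_zpowers y)
  have h1 : MulAut.conj h • y ∈ MulAut.conj h • (P' : Subgroup Γ) :=
    Subgroup.smul_mem_pointwise_smul _ _ _ hy'
  rw [← Sylow.coe_subgroup_smul, hh] at h1
  have h2 : h * y * h⁻¹ ∈ (S : Subgroup Γ) := by
    simpa [MulAut.smul_def, MulAut.conj_apply] using h1
  exact h2

theorem fix_iff {G : Type*} [Group G] (H : Subgroup G) (g x : G) :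
    x • (g : G ⧸ H) = (g : G ⧸ H) ↔ g⁻¹ * x * g ∈ H := by
  rw [MulAction.Quotient.smul_mk, QuotientGroup.eq]
  constructor
  · intro h
    have := H.inv_mem h
    simpa [mul_assoc] using this
  · intro h
    have := H.inv_mem h
    simpa [mul_assoc] using this

theorem result {G : Type*} [Group G] [Finite G] (z : G) (hz : Cfsg.IsTwoCentralInvolution z) (H : Subgroup G) (hzH : z ∈ H) (hfix : ∀ g : G, g⁻¹ * z * g ∈ H → g ∈ H) : Odd H.index ∧ ∀ x ∈ H, (∃ k : ℕ, orderOf x = 2 ^ k) → ∀ g : G, g * x * g⁻¹ ∈ H → ∃ h ∈ H, h * x * h⁻¹ = g * x * g⁻¹ := by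
  have : Fact (Nat.Prime 2) := ⟨Nat.prime_two⟩
  obtain ⟨hz2, S, hzS, hzc⟩ := hz
  have hSH : (S : Subgroup G) ≤ H := by
    intro s hs
    apply hfix
    have : s⁻¹ * z * s = z := by
      calc s⁻¹ * z * s = s⁻¹ * (z * s) := by group
        _ = s⁻¹ * (s * z) := by rw [hzc s hs]
        _ = z := by group
    rw [this]; exact hzH
  have hoddS : ¬ 2 ∣ (S : Subgroup G).index := S.not_dvd_index
  have hoddH : ¬ 2 ∣ H.index := fun h => hoddS (h.trans (Subgroup.index_dvd_of_le hSH))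
  have hfix' : ∀ g : G, g⁻¹ * z * g ∈ H ↔ g ∈ H := by
    intro g
    refine ⟨hfix g, fun hg => ?_⟩
    exact H.mul_mem (H.mul_mem (H.inv_mem hg) hzH) hg
  refine ⟨Nat.odd_iff.mpr (Nat.two_dvd_ne_zero.mp hoddH), ?_⟩
  intro x hxH ⟨k, hk⟩ g hgx
  have stepA : ∀ a : G, a⁻¹ * x * a ∈ H → ∃ w : G, w * x = x * w ∧ orderOf w = 2 ^ 1 ∧
      ∀ b : G, b⁻¹ * w * b ∈ H ↔ a⁻¹ * b ∈ H := by
    intro a ha
    set S' : Sylow 2 H := S.subtype hSH with hS'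
    have hord : orderOf (⟨a⁻¹ * x * a, ha⟩ : H) = 2 ^ k := by
      rw [← Subgroup.orderOf_coe]
      show orderOf (a⁻¹ * x * a) = 2 ^ k
      have := (MulAut.conj a⁻¹).orderOf_eq x
      rw [MulAut.conj_apply, inv_inv] at this
      rw [this, hk]
    obtain ⟨h, hh⟩ := exists_conj_mem_sylow 2 S' _ k hord
    have hh' : (h : G) * (a⁻¹ * x * a) * (h : G)⁻¹ ∈ (S : Subgroup G) := by
      have : h * ⟨a⁻¹ * x * a, ha⟩ * h⁻¹ ∈ (S' : Subgroup H) := hh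
      rw [hS', Sylow.coe_subtype, Subgroup.mem_subgroupOf] at this
      simpa using this
    have hcomm := hzc _ hh'
    refine ⟨(a * (h : G)⁻¹) * z * (a * (h : G)⁻¹)⁻¹, ?_, ?_, ?_⟩
    · have e1 : x = (a * (h : G)⁻¹) * ((h : G) * (a⁻¹ * x * a) * (h : G)⁻¹) * (a * (h : G)⁻¹)⁻¹ := by
        group
      calc (a * (h : G)⁻¹) * z * (a * (h : G)⁻¹)⁻¹ * x
          = (a * (h : G)⁻¹) * z * (a * (h : G)⁻¹)⁻¹ * ((a * (h : G)⁻¹) * ((h : G) * (a⁻¹ * x * a) * (h : G)⁻¹) * (a * (h : G)⁻¹)⁻¹) := by rw [← e1]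
        _ = (a * (h : G)⁻¹) * (z * ((h : G) * (a⁻¹ * x * a) * (h : G)⁻¹)) * (a * (h : G)⁻¹)⁻¹ := by group
        _ = (a * (h : G)⁻¹) * (((h : G) * (a⁻¹ * x * a) * (h : G)⁻¹) * z) * (a * (h : G)⁻¹)⁻¹ := by rw [hcomm]
        _ = ((a * (h : G)⁻¹) * ((h : G) * (a⁻¹ * x * a) * (h : G)⁻¹) * (a * (h : G)⁻¹)⁻¹) * ((a * (h : G)⁻¹) * z * (a * (h : G)⁻¹)⁻¹) := by group
        _ = x * ((a * (h : G)⁻¹) * z * (a * (h : G)⁻¹)⁻¹) := by rw [← e1]
    · have := (MulAut.conj (a * (h : G)⁻¹)).orderOf_eq z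
      rw [MulAut.conj_apply] at this
      rw [this, hz2, pow_one]
    · intro b
      have e2 : b⁻¹ * ((a * (h : G)⁻¹) * z * (a * (h : G)⁻¹)⁻¹) * b
          = ((h : G) * a⁻¹ * b)⁻¹ * z * ((h : G) * a⁻¹ * b) := by group
      rw [e2, hfix']
      constructor
      · intro hm
        have := H.mul_mem (H.inv_mem h.2) hm
        simpa [mul_assoc] using this
      · intro hm
        have := H.mul_mem h.2 hm
        simpa [mul_assoc] using this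
  obtain ⟨w₁, hw₁x, hw₁o, hw₁f⟩ := stepA 1 (by simpa using hxH)
  obtain ⟨w₂, hw₂x, hw₂o, hw₂f⟩ := stepA g⁻¹ (by simpa using hgx)
  set C : Subgroup G := Subgroup.centralizer ({x} : Set G) with hC
  have hw₁C : w₁ ∈ C := by
    rw [hC, Subgroup.mem_centralizer_singleton_iff]; exact hw₁x
  have hw₂C : w₂ ∈ C := by
    rw [hC, Subgroup.mem_centralizer_singleton_iff]; exact hw₂x
  have hP2 : IsPGroup 2 (Subgroup.zpowers (⟨w₂, hw₂C⟩ : C)) := by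
    apply IsPGroup.of_card (n := 1)
    rw [Nat.card_zpowers, ← Subgroup.orderOf_coe]
    exact hw₂o
  obtain ⟨T₂, hT₂⟩ := hP2.exists_le_sylow
  have hw₁ord : orderOf (⟨w₁, hw₁C⟩ : C) = 2 ^ 1 := by
    rw [← Subgroup.orderOf_coe]; exact hw₁o
  obtain ⟨c, hc⟩ := exists_conj_mem_sylow 2 T₂ _ 1 hw₁ord
  have hw₂T : (⟨w₂, hw₂C⟩ : C) ∈ (T₂ : Subgroup C) := hT₂ (Subgroup.mem_zpowers _)
  have hcard : ¬ 2 ∣ Nat.card (G ⧸ H) := hoddH
  obtain ⟨ω, hω⟩ := T₂.2.nonempty_fixed_point_of_prime_not_dvd_card (G ⧸ H) hcard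
  induction ω using QuotientGroup.induction_on with
  | H b =>
    rw [MulAction.mem_fixedPoints] at hω
    have h1 := hω ⟨⟨w₂, hw₂C⟩, hw₂T⟩
    have h1' : w₂ • (b : G ⧸ H) = (b : G ⧸ H) := h1
    rw [fix_iff, hw₂f, inv_inv] at h1'
    have h2 := hω ⟨_, hc⟩
    have h2' : ((c : G) * w₁ * (c : G)⁻¹) • (b : G ⧸ H) = (b : G ⧸ H) := h2
    rw [fix_iff] at h2'
    have e3 : b⁻¹ * ((c : G) * w₁ * (c : G)⁻¹) * b = ((c : G)⁻¹ * b)⁻¹ * w₁ * ((c : G)⁻¹ * b) := by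
      group
    rw [e3, hw₁f] at h2'
    have h3 : (c : G)⁻¹ * b ∈ H := by simpa using h2'
    refine ⟨g * (c : G), ?_, ?_⟩
    · have := H.mul_mem h1' (H.inv_mem h3)
      simpa [mul_assoc] using this
    · have hcx : (c : G) * x = x * (c : G) :=
        Subgroup.mem_centralizer_singleton_iff.mp c.2
      have : (c : G) * x * (c : G)⁻¹ = x := by
        rw [hcx]; group
      calc g * (c : G) * x * (g * (c : G))⁻¹ = g * ((c : G) * x * (c : G)⁻¹) * g⁻¹ := by group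
        _ = g * x * g⁻¹ := by rw [this]

end Cfsg.Agent.S5438
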