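import Cfsg.Statements.S5439

set_option autoImplicit false
open Cfsg

namespace Cfsg.Agent.S5439

theorem fix_iff {G : Type*} [Group G] (H : Subgroup G) (g x : G) :
    x • (g : G ⧸ H) = (g : G ⧸ H) ↔ g⁻¹ * x * g ∈ H := by
  rw [MulAction.Quotient.smul_mk, QuotientGroup.eq]
  constructor
  · intro h
    have := H.inv_mem h
    simpa [mul_assoc] using this
  · intro h
    have := H.inv_mem h
    simpa [mul_assoc] using this

theorem dih {G : Type*} [Group G] (t r : G) (ht : t * t = 1) (htr : t * r * t = r⁻¹) (j : ℕ) :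
    t * r ^ (2 * j) = (r ^ j)⁻¹ * t * r ^ j := by
  have htinv : t⁻¹ = t := inv_eq_of_mul_eq_one_left ht
  have h1 : t * r ^ j * t = (r ^ j)⁻¹ := by
    have h := conj_pow (a := t) (b := r) (i := j)
    rw [htinv, htr, inv_pow] at h
    exact h.symm
  have h2 : t * r ^ j = (r ^ j)⁻¹ * t := by
    calc t * r ^ j = (t * r ^ j * t) * t := by rw [mul_assoc (t * r ^ j), ht, mul_one]
      _ = (r ^ j)⁻¹ * t := by rw [h1]
  rw [← h2, two_mul, pow_add, mul_assoc]

theorem result {G : Type*} [Group G] [Finite G] (I J : Set G) (a₀ b₀ : G) (ha₀ : orderOf a₀ = 2) (hb₀ : orderOf b₀ = 2) (hI : I = {x | IsConj a₀ x}) (hJ : J = {x | IsConj b₀ x}) (hIJ : I ≠ J) (H : Subgroup G) (hfix : ∀ x ∈ I ∪ J, ∃! c : G ⧸ H, x • c = c) (hcent : ∀ a ∈ I, a ∈ H → ∀ b ∈ I ∪ J, b ∈ H → a ≠ b → a * b = b * a → Subgroup.centralizer ({a * b} : Set G) ≤ H) : H = ⊤ := by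
  have hU : ∀ x ∈ I ∪ J, x ∈ H → ∀ g : G, g⁻¹ * x * g ∈ H → g ∈ H := by
    intro x hx hxH g hg
    obtain ⟨c, _, hcu⟩ := hfix x hx
    have h1 : ((1 : G) : G ⧸ H) = c := by
      apply hcu
      show x • ((1 : G) : G ⧸ H) = ((1 : G) : G ⧸ H)
      rw [fix_iff]
      simpa using hxH
    have h2 : (g : G ⧸ H) = c := by
      apply hcu
      show x • (g : G ⧸ H) = (g : G ⧸ H)
      rw [fix_iff]
      exact hg
    have h3 : (g : G ⧸ H) = ((1 : G) : G ⧸ H) := h2.trans h1.symm
    rw [QuotientGroup.eq] at h3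
    have := H.inv_mem h3
    simpa using this
  have hE : ∀ x ∈ I ∪ J, ∃ g : G, g⁻¹ * x * g ∈ H := by
    intro x hx
    obtain ⟨c, hc, _⟩ := hfix x hx
    induction c using QuotientGroup.induction_on with
    | H g =>
      refine ⟨g, ?_⟩
      have hc' : x • (g : G ⧸ H) = (g : G ⧸ H) := hc
      rwa [fix_iff] at hc'
  have hIconj : ∀ x ∈ I, ∀ g : G, g * x * g⁻¹ ∈ I := by
    intro x hx g
    rw [hI] at hx ⊢
    exact (show IsConj a₀ x from hx).trans (isConj_iff.mpr ⟨g, rfl⟩)
  have hJconj : ∀ x ∈ J, ∀ g : G, g * x * g⁻¹ ∈ J := by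
    intro x hx g
    rw [hJ] at hx ⊢
    exact (show IsConj b₀ x from hx).trans (isConj_iff.mpr ⟨g, rfl⟩)
  have ha₀I : a₀ ∈ I := by rw [hI]; exact IsConj.refl a₀
  have hb₀J : b₀ ∈ J := by rw [hJ]; exact IsConj.refl b₀
  have hIinv : ∀ x ∈ I, x * x = 1 := by
    intro x hx
    rw [hI] at hx
    obtain ⟨c, rfl⟩ := isConj_iff.mp (show IsConj a₀ x from hx)
    have : a₀ * a₀ = 1 := by
      have := pow_orderOf_eq_one a₀
      rwa [ha₀, sq] at this
    calc c * a₀ * c⁻¹ * (c * a₀ * c⁻¹) = c * (a₀ * a₀) * c⁻¹ := by group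
      _ = 1 := by rw [this]; group
  have hJinv : ∀ x ∈ J, x * x = 1 := by
    intro x hx
    rw [hJ] at hx
    obtain ⟨c, rfl⟩ := isConj_iff.mp (show IsConj b₀ x from hx)
    have : b₀ * b₀ = 1 := by
      have := pow_orderOf_eq_one b₀
      rwa [hb₀, sq] at this
    calc c * b₀ * c⁻¹ * (c * b₀ * c⁻¹) = c * (b₀ * b₀) * c⁻¹ := by group
      _ = 1 := by rw [this]; group
  have hnc : ∀ x ∈ I, ∀ y ∈ J, ¬ IsConj x y := by
    intro x hx y hy hxy
    apply hIJ
    rw [hI] at hx
    rw [hJ] at hy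
    have h1 : IsConj a₀ b₀ := ((show IsConj a₀ x from hx).trans hxy).trans (show IsConj b₀ y from hy).symm
    rw [hI, hJ]
    ext w
    constructor
    · intro hw
      exact h1.symm.trans hw
    · intro hw
      exact h1.trans hw
  obtain ⟨ga, hga⟩ := hE a₀ (Or.inl ha₀I)
  obtain ⟨gb, hgb⟩ := hE b₀ (Or.inr hb₀J)
  set a : G := ga⁻¹ * a₀ * ga with ha
  set b : G := gb⁻¹ * b₀ * gb with hb
  have haI : a ∈ I := by
    have := hIconj a₀ ha₀I ga⁻¹
    rwa [inv_inv] at this
  have hbJ : b ∈ J := by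
    have := hJconj b₀ hb₀J gb⁻¹
    rwa [inv_inv] at this
  rw [eq_top_iff]
  intro g _
  set b' : G := g * b * g⁻¹ with hb'
  have hb'J : b' ∈ J := hJconj b hbJ g
  have haa : a * a = 1 := hIinv a haI
  have hbb : b' * b' = 1 := hJinv b' hb'J
  have hainv : a⁻¹ = a := inv_eq_of_mul_eq_one_left haa
  have hbinv : b'⁻¹ = b' := inv_eq_of_mul_eq_one_left hbb
  set r : G := a * b' with hr
  have hrinv : r⁻¹ = b' * a := by
    rw [hr, mul_inv_rev, hainv, hbinv]
  have har : a * r * a = r⁻¹ := by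
    rw [hrinv, hr]
    calc a * (a * b') * a = (a * a) * b' * a := by group
      _ = b' * a := by rw [haa, one_mul]
  have hbr : b' * r * b' = r⁻¹ := by
    rw [hrinv, hr]
    calc b' * (a * b') * b' = b' * a * (b' * b') := by group
      _ = b' * a := by rw [hbb, mul_one]
  have hab' : a * r = b' := by
    rw [hr, ← mul_assoc, haa, one_mul]
  have hn0 : 0 < orderOf r := orderOf_pos r
  rcases Nat.even_or_odd' (orderOf r) with ⟨m, hm | hm⟩
  swap
  · exfalso
    apply hnc a haI b' hb'J
    have h1 : r ^ (2 * m + 1) = 1 := by rw [← hm]; exact pow_orderOf_eq_one r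
    have h2 : b' = (r ^ (m + 1))⁻¹ * a * r ^ (m + 1) := by
      rw [← dih a r haa har (m + 1)]
      have : 2 * (m + 1) = (2 * m + 1) + 1 := by ring
      rw [this, pow_succ, h1, one_mul, hab']
    rw [isConj_iff]
    refine ⟨(r ^ (m + 1))⁻¹, ?_⟩
    rw [inv_inv]
    exact h2.symm
  · have hm0 : 0 < m := by omega
    set u : G := r ^ m with hu
    have huu : u * u = 1 := by
      rw [hu, ← pow_add, ← two_mul, ← hm]
      exact pow_orderOf_eq_one r
    have hu1 : u ≠ 1 := by
      intro h
      have := orderOf_dvd_of_pow_eq_one h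
      rw [hm] at this
      have := Nat.le_of_dvd hm0 this
      omega
    have huinv : u⁻¹ = u := inv_eq_of_mul_eq_one_left huu
    have hau : a * u = u * a := by
      have h := conj_pow (a := a) (b := r) (i := m)
      rw [hainv, har, inv_pow, ← hu, huinv] at h
      calc a * u = (a * u * a) * a := by rw [mul_assoc (a * u), haa, mul_one]
        _ = u * a := by rw [← h]
    have hbu : b' * u = u * b' := by
      have h := conj_pow (a := b') (b := r) (i := m)
      rw [hbinv, hbr, inv_pow, ← hu, huinv] at h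
      calc b' * u = (b' * u * b') * b' := by rw [mul_assoc (b' * u), hbb, mul_one]
        _ = u * b' := by rw [← h]
    have hvIJ : a * u ∈ I ∪ J := by
      rcases Nat.even_or_odd' m with ⟨j, hj | hj⟩
      · left
        rw [hu, hj, dih a r haa har j]
        have := hIconj a haI (r ^ j)⁻¹
        rwa [inv_inv] at this
      · right
        have h3 : a * r ^ m = (r ^ j)⁻¹ * b' * r ^ j := by
          rw [← dih b' r hbb hbr j, hj, pow_succ', ← mul_assoc, hab']
        rw [hu, h3]
        have := hJconj b' hb'J (r ^ j)⁻¹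
        rwa [inv_inv] at this
    have haH : a ∈ H := hga
    have hvH : a * u ∈ H := by
      apply hU a (Or.inl haI) haH
      have : (a * u)⁻¹ * a * (a * u) = a := by
        rw [mul_inv_rev, hainv, huinv]
        calc u * a * a * (a * u) = u * (a * a) * (a * u) := by group
          _ = u * (a * u) := by rw [haa, mul_one]
          _ = u * (u * a) := by rw [hau]
          _ = (u * u) * a := by group
          _ = a := by rw [huu, one_mul]
      rw [this]; exact haH
    have hne : a ≠ a * u := by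
      intro h
      apply hu1
      have : a * 1 = a * u := by rw [mul_one]; exact h
      exact (mul_left_cancel this).symm
    have hcomm : a * (a * u) = (a * u) * a := by
      rw [mul_assoc a u a, ← hau]
    have hC := hcent a haI haH (a * u) hvIJ hvH hne hcomm
    have hauu : a * (a * u) = u := by rw [← mul_assoc, haa, one_mul]
    rw [hauu] at hC
    have hb'H : b' ∈ H := by
      apply hC
      rw [Subgroup.mem_centralizer_singleton_iff]
      exact hbu
    apply hU b' (Or.inr hb'J) hb'H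
    have : g⁻¹ * b' * g = b := by rw [hb']; group
    rw [this]
    exact hgb

end Cfsg.Agent.S5439
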