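import Cfsg.Statements.S5459

set_option autoImplicit false

open Cfsg

namespace Cfsg.Agent.S5459

open scoped commutatorElement

theorem conj_mem {G : Type*} [Group G] (d g x : G) (hx : x ∈ conjugatesOf d) :
    g * x * g⁻¹ ∈ conjugatesOf d := by
  have hx' : IsConj d x := hx
  show IsConj d (g * x * g⁻¹)
  exact hx'.trans (isConj_iff.mpr ⟨g, rfl⟩)

def conjHom {G : Type*} [Group G] (d g : G) :
    Cfsg.commutingGraph (conjugatesOf d) →g Cfsg.commutingGraph (conjugatesOf d) where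
  toFun x := ⟨g * x.1 * g⁻¹, conj_mem d g x.1 x.2⟩
  map_rel' := by
    intro a b hab
    unfold Cfsg.commutingGraph at hab ⊢
    rw [SimpleGraph.fromRel_adj] at hab ⊢
    refine ⟨?_, ?_⟩
    · intro h
      apply hab.1
      have h1 := congrArg Subtype.val h
      simp only [mul_left_inj, mul_right_inj] at h1
      exact Subtype.ext h1
    · have hc : Commute (a : G) (b : G) := by
        rcases hab.2 with h | h
        · exact h
        · exact h.symm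
      left
      show Commute (g * a.1 * g⁻¹) (g * b.1 * g⁻¹)
      unfold Commute SemiconjBy at hc ⊢
      calc g * a.1 * g⁻¹ * (g * b.1 * g⁻¹) = g * (a.1 * b.1) * g⁻¹ := by group
        _ = g * (b.1 * a.1) * g⁻¹ := by rw [hc]
        _ = g * b.1 * g⁻¹ * (g * a.1 * g⁻¹) := by group

def R {G : Type*} [Group G] (d x : G) : Prop :=
  ∃ hx : x ∈ conjugatesOf d, (Cfsg.commutingGraph (conjugatesOf d)).Reachable
    ⟨d, mem_conjugatesOf_self⟩ ⟨x, hx⟩

theorem R_self {G : Type*} [Group G] (d : G) : R d d :=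
  ⟨mem_conjugatesOf_self, SimpleGraph.Reachable.refl _⟩

theorem R_step {G : Type*} [Group G] (d x y : G) (hx : R d x) (hy : y ∈ conjugatesOf d)
    (hc : Commute x y) : R d y := by
  obtain ⟨hxD, hr⟩ := hx
  refine ⟨hy, ?_⟩
  by_cases hxy : x = y
  · subst hxy
    exact hr
  · refine hr.trans (SimpleGraph.Adj.reachable ?_)
    unfold Cfsg.commutingGraph
    rw [SimpleGraph.fromRel_adj]
    refine ⟨fun h => hxy (congrArg Subtype.val h), Or.inl hc⟩

theorem R_conj {G : Type*} [Group G] (d g x : G) (hg : R d (g * d * g⁻¹)) (hx : R d x) :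
    R d (g * x * g⁻¹) := by
  obtain ⟨hgD, hgr⟩ := hg
  obtain ⟨hxD, hxr⟩ := hx
  refine ⟨conj_mem d g x hxD, ?_⟩
  have := hxr.map (conjHom d g)
  exact hgr.trans this

def K {G : Type*} [Group G] (d : G) : Subgroup G where
  carrier := {g | R d (g * d * g⁻¹)}
  one_mem' := by
    show R d (1 * d * 1⁻¹)
    rw [one_mul, inv_one, mul_one]
    exact R_self d
  mul_mem' := by
    intro g h hg hh
    show R d (g * h * d * (g * h)⁻¹)
    have := R_conj d g _ hg hh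
    have e : g * h * d * (g * h)⁻¹ = g * (h * d * h⁻¹) * g⁻¹ := by group
    rw [e]
    exact this
  inv_mem' := by
    intro g hg
    show R d (g⁻¹ * d * g⁻¹⁻¹)
    obtain ⟨hgD, hgr⟩ := hg
    refine ⟨conj_mem d g⁻¹ d mem_conjugatesOf_self, ?_⟩
    have := hgr.map (conjHom d g⁻¹)
    have e : (conjHom d g⁻¹) ⟨g * d * g⁻¹, hgD⟩ = ⟨d, mem_conjugatesOf_self⟩ := by
      apply Subtype.ext
      show g⁻¹ * (g * d * g⁻¹) * g⁻¹⁻¹ = d
      group
    rw [e] at this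
    exact this.symm

theorem mem_K {G : Type*} [Group G] (d g : G) : g ∈ K d ↔ R d (g * d * g⁻¹) := Iff.rfl

theorem comm_central {G : Type*} [Group G] (L : Subgroup G) (y1 y2 l1 l2 : G)
    (hl1 : l1 ∈ L) (hl2 : l2 ∈ L) (hy2L : y2 ∈ L)
    (hy1 : ∀ x ∈ L, y1 * x = x * y1) (hy2 : ∀ x ∈ L, y2 * x = x * y2) :
    ⁅y1 * l1, y2 * l2⁆ = ⁅l1, l2⁆ := by
  rw [commutatorElement_def, commutatorElement_def]
  have e1 : y1 * l1 * (y2 * l2) * (y1 * l1)⁻¹ * (y2 * l2)⁻¹ =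
      y1 * (l1 * y2 * l2 * l1⁻¹) * y1⁻¹ * l2⁻¹ * y2⁻¹ := by group
  have hX : l1 * y2 * l2 * l1⁻¹ ∈ L :=
    L.mul_mem (L.mul_mem (L.mul_mem hl1 hy2L) hl2) (L.inv_mem hl1)
  rw [e1, hy1 _ hX]
  have e2 : l1 * y2 * l2 * l1⁻¹ * y1 * y1⁻¹ * l2⁻¹ * y2⁻¹ =
      l1 * (y2 * (l2 * l1⁻¹ * l2⁻¹)) * y2⁻¹ := by group
  have hY : l2 * l1⁻¹ * l2⁻¹ ∈ L := L.mul_mem (L.mul_mem hl2 (L.inv_mem hl1)) (L.inv_mem hl2)
  rw [e2, hy2 _ hY]
  group

theorem sqrt_odd {G : Type*} [Group G] (Z : Subgroup G) (hodd : Odd (Nat.card Z)) (e : G)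
    (he : e ∈ Z) : ∃ z ∈ Z, z * z = e := by
  obtain ⟨k, hk⟩ := hodd
  refine ⟨e ^ (k + 1), Z.pow_mem he _, ?_⟩
  have h1 : e ^ (Nat.card Z) = 1 := by
    have := pow_card_eq_one' (G := Z) (x := ⟨e, he⟩)
    have h2 := congrArg Subtype.val this
    rw [Subgroup.coe_pow, Subgroup.coe_one] at h2
    exact h2
  rw [← pow_add]
  have : k + 1 + (k + 1) = Nat.card Z + 1 := by omega
  rw [this, pow_succ, h1, one_mul]

theorem inverts {G : Type*} [Group G] (Z : Subgroup G) [Z.Normal] (d : G)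
    (hinv : ∀ c ∈ Z, d * c * d⁻¹ = c⁻¹) (a : G) (ha : a ∈ conjugatesOf d) :
    ∀ c ∈ Z, a * c * a⁻¹ = c⁻¹ := by
  have ha' : IsConj d a := ha
  obtain ⟨g, hg⟩ := isConj_iff.mp ha'
  intro c hc
  have hc' : g⁻¹ * c * g ∈ Z := by
    have := ‹Z.Normal›.conj_mem c hc g⁻¹
    simpa using this
  have h1 := hinv _ hc'
  rw [← hg]
  calc g * d * g⁻¹ * c * (g * d * g⁻¹)⁻¹ = g * (d * (g⁻¹ * c * g) * d⁻¹) * g⁻¹ := by group
    _ = g * (g⁻¹ * c * g)⁻¹ * g⁻¹ := by rw [h1]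
    _ = c⁻¹ := by group

theorem shift {G : Type*} [Group G] (Z : Subgroup G) [Z.Normal] (hodd : Odd (Nat.card Z))
    (d : G) (hinv : ∀ c ∈ Z, d * c * d⁻¹ = c⁻¹) (a : G) (ha : a ∈ conjugatesOf d) (z : G)
    (hz : z ∈ Z) : ∃ y ∈ Z, y * a * y⁻¹ = a * z := by
  obtain ⟨y, hy, hyy⟩ := sqrt_odd Z hodd z⁻¹ (Z.inv_mem hz)
  refine ⟨y, hy, ?_⟩
  have h1 : a * y⁻¹ * a⁻¹ = y := by
    have := inverts Z d hinv a ha y⁻¹ (Z.inv_mem hy)
    rw [inv_inv] at this
    exact this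
  calc y * a * y⁻¹ = (a * y⁻¹ * a⁻¹) * a * y⁻¹ := by rw [h1]
    _ = a * (y * y)⁻¹ := by group
    _ = a * z := by rw [hyy, inv_inv]

theorem lift_edge {G : Type*} [Group G] (Z : Subgroup G) [Z.Normal] (hodd : Odd (Nat.card Z))
    (d : G) (hinv : ∀ c ∈ Z, d * c * d⁻¹ = c⁻¹) (a : G) (ha : a ∈ conjugatesOf d)
    (cb : G ⧸ Z) (hcb : cb ∈ conjugatesOf (QuotientGroup.mk d : G ⧸ Z))
    (hcomm : Commute (QuotientGroup.mk a : G ⧸ Z) cb) :
    ∃ c ∈ conjugatesOf d, (QuotientGroup.mk c : G ⧸ Z) = cb ∧ Commute a c := by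
  have hcb' : IsConj (QuotientGroup.mk d : G ⧸ Z) cb := hcb
  obtain ⟨gb, hgb⟩ := isConj_iff.mp hcb'
  obtain ⟨g, rfl⟩ := QuotientGroup.mk_surjective gb
  have hc0D : g * d * g⁻¹ ∈ conjugatesOf d := conj_mem d g d mem_conjugatesOf_self
  have hc0 : (QuotientGroup.mk (g * d * g⁻¹) : G ⧸ Z) = cb := by
    rw [← hgb]
    simp
  set c0 := g * d * g⁻¹ with hc0def
  have heZ : c0⁻¹ * a * c0 * a⁻¹ ∈ Z := by
    rw [← QuotientGroup.eq_one_iff]
    simp only [QuotientGroup.mk_mul, QuotientGroup.mk_inv, hc0]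
    have : (QuotientGroup.mk a : G ⧸ Z) * cb = cb * QuotientGroup.mk a := hcomm
    rw [mul_assoc cb⁻¹, this]
    group
  obtain ⟨z, hz, hzz⟩ := sqrt_odd Z hodd _ heZ
  obtain ⟨y, hy, hyc⟩ := shift Z hodd d hinv c0 hc0D z hz
  refine ⟨c0 * z, ?_, ?_, ?_⟩
  · rw [← hyc]
    exact conj_mem d y c0 hc0D
  · rw [QuotientGroup.mk_mul, hc0, (QuotientGroup.eq_one_iff z).mpr hz, mul_one]
  · have h1 := inverts Z d hinv a ha z hz
    have h2 : a * c0 * a⁻¹ = c0 * (z * z) := by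
      rw [hzz]
      group
    show a * (c0 * z) = c0 * z * a
    calc a * (c0 * z) = (a * c0 * a⁻¹) * (a * z * a⁻¹) * a := by group
      _ = c0 * (z * z) * z⁻¹ * a := by rw [h1, h2]
      _ = c0 * z * a := by group

theorem lift_walk {G : Type*} [Group G] (Z : Subgroup G) [Z.Normal] (hodd : Odd (Nat.card Z))
    (d : G) (hinv : ∀ c ∈ Z, d * c * d⁻¹ = c⁻¹)
    (ab bb : conjugatesOf (QuotientGroup.mk d : G ⧸ Z))
    (p : (Cfsg.commutingGraph (conjugatesOf (QuotientGroup.mk d : G ⧸ Z))).Walk ab bb) :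
    ∀ a : G, R d a → (QuotientGroup.mk a : G ⧸ Z) = ab.1 →
      ∃ b : G, R d b ∧ (QuotientGroup.mk b : G ⧸ Z) = bb.1 := by
  induction p with
  | nil => intro a ha hab; exact ⟨a, ha, hab⟩
  | cons hadj p ih =>
    intro a ha hab
    unfold Cfsg.commutingGraph at hadj
    rw [SimpleGraph.fromRel_adj] at hadj
    rename_i u v w
    have hcomm : Commute (QuotientGroup.mk a : G ⧸ Z) v.1 := by
      rw [hab]
      rcases hadj.2 with h | h
      · exact h
      · exact h.symm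
    have haD : a ∈ conjugatesOf d := ha.fst
    obtain ⟨c, hcD, hcv, hac⟩ := lift_edge Z hodd d hinv a haD v.1 v.2 hcomm
    exact ih c (R_step d a c ha hcD hac) hcv

theorem result {G : Type*} [Group G] [Finite G] (L : Subgroup G) [L.Normal] (hL : Cfsg.IsQuasisimple ↥L) (d : G) (hd : orderOf d = 2) (hgen : L ⊔ Subgroup.zpowers d = ⊤) (hodd : Odd (Nat.card ↥(Subgroup.center ↥L))) (hinv : ∀ c ∈ (Subgroup.center ↥L).map L.subtype, d * c * d⁻¹ = c⁻¹) [hn : ((Subgroup.center ↥L).map L.subtype).Normal] (hconn : (Cfsg.commutingGraph (conjugatesOf (QuotientGroup.mk d : G ⧸ (Subgroup.center ↥L).map L.subtype))).Connected) : (Cfsg.commutingGraph (conjugatesOf d)).Connected := by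
  have hoddZ : Odd (Nat.card ((Subgroup.center ↥L).map L.subtype)) := by
    rw [Subgroup.card_map_of_injective L.subtype_injective]
    exact hodd
  have hZL : (Subgroup.center ↥L).map L.subtype ≤ L := by
    rintro _ ⟨c, _, rfl⟩
    exact c.2
  have hZc : ∀ y ∈ (Subgroup.center ↥L).map L.subtype, ∀ x ∈ L, y * x = x * y := by
    rintro _ ⟨c, hc, rfl⟩ x hx
    have := Subgroup.mem_center_iff.mp hc ⟨x, hx⟩
    have h2 := congrArg Subtype.val this
    simpa using h2.symm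
  have hZK : ∀ g : G, ∃ y ∈ (Subgroup.center ↥L).map L.subtype, y * g ∈ K d := by
    intro g
    have hxD : g * d * g⁻¹ ∈ conjugatesOf d := conj_mem d g d mem_conjugatesOf_self
    have hxb : (QuotientGroup.mk (g * d * g⁻¹) : G ⧸ (Subgroup.center ↥L).map L.subtype) ∈
        conjugatesOf (QuotientGroup.mk d : G ⧸ (Subgroup.center ↥L).map L.subtype) := by
      show IsConj _ _
      rw [isConj_iff]
      exact ⟨QuotientGroup.mk g, by simp⟩
    obtain ⟨p⟩ := hconn.preconnected ⟨_, mem_conjugatesOf_self⟩ ⟨_, hxb⟩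
    obtain ⟨x', hx'R, hx'⟩ := lift_walk _ hoddZ d hinv _ _ p d (R_self d) rfl
    have hz : (g * d * g⁻¹)⁻¹ * x' ∈ (Subgroup.center ↥L).map L.subtype := by
      rw [← QuotientGroup.eq]
      exact hx'.symm
    obtain ⟨y, hy, hyx⟩ := shift _ hoddZ d hinv (g * d * g⁻¹) hxD _ hz
    refine ⟨y, hy, ?_⟩
    rw [mem_K]
    have e : y * g * d * (y * g)⁻¹ = y * (g * d * g⁻¹) * y⁻¹ := by group
    rw [e, hyx, mul_inv_cancel_left]
    exact hx'R
  have hperf : ⁅L, L⁆ = L := Subgroup.isPerfect_iff.mp hL.1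
  have hLK : L ≤ K d := by
    rw [← hperf, Subgroup.commutator_le]
    intro l1 hl1 l2 hl2
    obtain ⟨y1, hy1, hk1⟩ := hZK l1
    obtain ⟨y2, hy2, hk2⟩ := hZK l2
    rw [← comm_central L y1 y2 l1 l2 hl1 hl2 (hZL hy2) (hZc y1 hy1) (hZc y2 hy2)]
    rw [commutatorElement_def]
    exact (K d).mul_mem ((K d).mul_mem ((K d).mul_mem hk1 hk2) ((K d).inv_mem hk1))
      ((K d).inv_mem hk2)
  have hdK : d ∈ K d := by
    rw [mem_K, mul_inv_cancel_right]
    exact R_self d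
  have hKtop : K d = ⊤ := by
    rw [eq_top_iff, ← hgen]
    exact sup_le hLK ((Subgroup.zpowers_le).mpr hdK)
  have hall : ∀ a (ha : a ∈ conjugatesOf d),
      (Cfsg.commutingGraph (conjugatesOf d)).Reachable ⟨d, mem_conjugatesOf_self⟩ ⟨a, ha⟩ := by
    intro a ha
    have ha' : IsConj d a := ha
    obtain ⟨g, hg⟩ := isConj_iff.mp ha'
    have hgK : g ∈ K d := by
      rw [hKtop]
      exact Subgroup.mem_top g
    rw [mem_K] at hgK
    obtain ⟨h1, h2⟩ := hgK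
    subst hg
    exact h2
  rw [SimpleGraph.connected_iff]
  refine ⟨?_, ⟨⟨d, mem_conjugatesOf_self⟩⟩⟩
  intro u v
  exact (hall u.1 u.2).symm.trans (hall v.1 v.2)

end Cfsg.Agent.S5459
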