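import Cfsg.Statements.S5515
import Cfsg.Agent.Lib.Helper16.FS1
import Cfsg.Agent.Lib.Helper16.OA57
import Cfsg.Agent.S1265
import Cfsg.Agent.S2608

set_option autoImplicit false
open Cfsg

namespace Cfsg.Agent.S5515

/-- Let G and G′ be finite groups whose generalized Fitting subgroups are isomorphic to PΩ⁺(8, 3) (the commutator subgroup of the isometry group of the hyperbolic quadratic form in dimension 8 over the field with three elements, modulo its centre) with quotients isomorphic to the symmetric group of degree 3. Then G and G′ are isomorphic. -/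
theorem result {G G' : Type*} [Group G] [Finite G] [Group G'] [Finite G'] (hF : Nonempty (↥(Cfsg.generalizedFittingSubgroup G) ≃* Cfsg.POmega (ZMod 3) (Cfsg.quadFormPlus 4 (ZMod 3)))) (hF' : Nonempty (↥(Cfsg.generalizedFittingSubgroup G') ≃* Cfsg.POmega (ZMod 3) (Cfsg.quadFormPlus 4 (ZMod 3)))) [hn : (Cfsg.generalizedFittingSubgroup G).Normal] [hn' : (Cfsg.generalizedFittingSubgroup G').Normal] (hq : Nonempty (G ⧸ Cfsg.generalizedFittingSubgroup G ≃* Equiv.Perm (Fin 3))) (hq' : Nonempty (G' ⧸ Cfsg.generalizedFittingSubgroup G' ≃* Equiv.Perm (Fin 3))) : Nonempty (G ≃* G') := by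
  obtain ⟨e⟩ := hF
  obtain ⟨e'⟩ := hF'
  obtain ⟨q⟩ := hq
  obtain ⟨q'⟩ := hq'
  have : Fact (Nat.Prime 3) := ⟨by norm_num⟩
  -- the outer automorphism group of `PΩ⁺₈(3)` is `S₄`
  have h4 := Cfsg.Agent.S2608.result (F := ZMod 3) (p := 3) (f := 1) (m := 4) le_rfl
    (by rw [ZMod.card, pow_one]) (by norm_num) le_rfl
  rw [if_pos rfl] at h4
  obtain ⟨eo⟩ := h4
  have eo' : Cfsg.Out (Cfsg.POmega (ZMod 3) (Cfsg.quadFormPlus 4 (ZMod 3))) ≃* Equiv.Perm (Fin 4) :=
    eo.trans MulEquiv.prodUnique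
  -- trivial centre
  have hcard : Fintype.card (Fin 4 ⊕ Fin 4) = 8 := by simp
  have hinj : Function.Injective (MulAut.conj : Cfsg.POmega (ZMod 3) (Cfsg.quadFormPlus 4 (ZMod 3)) →*
      MulAut (Cfsg.POmega (ZMod 3) (Cfsg.quadFormPlus 4 (ZMod 3)))) :=
    Cfsg.Agent.Lib.Helper16.OA.conj_POmega_injective' (Cfsg.Agent.Lib.Helper16.qfPlus 4 (ZMod 3))
      (Cfsg.Agent.Lib.Helper16.qfPlus_nondeg 4 (ZMod 3)) (by rw [hcard]; omega)
  have h6 : Nat.card (Equiv.Perm (Fin 3)) = 6 := by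
    rw [Nat.card_eq_fintype_card, Fintype.card_perm]; rfl
  exact Cfsg.Agent.Lib.Helper16.FS.iso_of_out_perm4 _ _ e e' hinj eo'
    Cfsg.Agent.S1265.result (by rw [Subgroup.index, Nat.card_congr q.toEquiv, h6])
    Cfsg.Agent.S1265.result (by rw [Subgroup.index, Nat.card_congr q'.toEquiv, h6])

end Cfsg.Agent.S5515
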