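import Cfsg.Statements.S5529
import Cfsg.Agent.Lib.helper23.M23Pos
import Cfsg.Agent.Lib.helper23.M23Neg

set_option autoImplicit false
open Cfsg

namespace Cfsg.Agent.S5529

/-- Generation of the Mathieu group M₂₃ (the stabiliser of a point in the Mathieu group M₂₄ acting on 24 points) by triples of prime orders. Let p ≤ q ≤ r be primes dividing |M₂₃| = 10200960 = 2⁷·3²·5·7·11·23, not both p and q equal to 2. Then M₂₃ contains elements x, y, z of orders p, q, r with xyz = 1 and ⟨x, y⟩ = M₂₃ if and only if (p, q, r) is none of: (2, 3, r) for any r, (2, 5, 5), (2, 5, 7), (3, 3, 3), (3, 3, 5), (3, 3, 7). -/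
theorem result (p q r : ℕ) (hp : p.Prime) (hq : q.Prime)
    (hr : r.Prime) (hpq : p ≤ q) (hqr : q ≤ r) (hp2 : ¬ (p = 2 ∧ q = 2))
    (hdvd : p ∣ 10200960 ∧ q ∣ 10200960 ∧ r ∣ 10200960) :
    (∃ x y z : Cfsg.Spor.M23, orderOf x = p ∧ orderOf y = q ∧ orderOf z = r ∧ x * y * z = 1 ∧
        Subgroup.closure {x, y} = ⊤) ↔
      ¬ ((p = 2 ∧ q = 3) ∨ (p = 2 ∧ q = 5 ∧ r = 5) ∨ (p = 2 ∧ q = 5 ∧ r = 7) ∨ (p = 3 ∧ q = 3 ∧ r ≤ 7)) := by
  have hprime : ∀ n : ℕ, n.Prime → n ∣ 10200960 → n ∈ [2, 3, 5, 7, 11, 23] := by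
    intro n hn hd
    have e : 10200960 = 2 ^ 7 * 3 ^ 2 * 5 * 7 * 11 * 23 := by norm_num
    rw [e] at hd
    simp only [List.mem_cons, List.not_mem_nil, or_false]
    rcases (Nat.Prime.dvd_mul hn).mp hd with hd | hd
    · rcases (Nat.Prime.dvd_mul hn).mp hd with hd | hd
      · rcases (Nat.Prime.dvd_mul hn).mp hd with hd | hd
        · rcases (Nat.Prime.dvd_mul hn).mp hd with hd | hd
          · rcases (Nat.Prime.dvd_mul hn).mp hd with hd | hd
            · left
              exact (Nat.prime_dvd_prime_iff_eq hn Nat.prime_two).mp (hn.dvd_of_dvd_pow hd)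
            · right; left
              exact (Nat.prime_dvd_prime_iff_eq hn Nat.prime_three).mp (hn.dvd_of_dvd_pow hd)
          · right; right; left
            exact (Nat.prime_dvd_prime_iff_eq hn Nat.prime_five).mp hd
        · right; right; right; left
          exact (Nat.prime_dvd_prime_iff_eq hn (by norm_num)).mp hd
      · right; right; right; right; left
        exact (Nat.prime_dvd_prime_iff_eq hn (by norm_num)).mp hd
    · right; right; right; right; right
      exact (Nat.prime_dvd_prime_iff_eq hn (by norm_num)).mp hd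
  have hpm := hprime p hp hdvd.1
  have hqm := hprime q hq hdvd.2.1
  have hrm := hprime r hr hdvd.2.2
  constructor
  · intro hex hbad
    exact Cfsg.Agent.Lib.helper23.m23_neg hr hbad hqr hex
  · intro hgood
    apply Cfsg.Agent.Lib.helper23.m23_pos hp hq hr
    have key : ∀ p ∈ [2, 3, 5, 7, 11, 23], ∀ q ∈ [2, 3, 5, 7, 11, 23], ∀ r ∈ [2, 3, 5, 7, 11, 23],
        p ≤ q → q ≤ r → ¬ (p = 2 ∧ q = 2) →
        ¬ ((p = 2 ∧ q = 3) ∨ (p = 2 ∧ q = 5 ∧ r = 5) ∨ (p = 2 ∧ q = 5 ∧ r = 7) ∨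
          (p = 3 ∧ q = 3 ∧ r ≤ 7)) →
        (p, q, r) ∈ Cfsg.Agent.Lib.helper23.m23Certs.map fun c => (c.1, c.2.1, c.2.2.1) := by
      decide +kernel
    exact key p hpm q hqm r hrm hpq hqr hp2 hgood

end Cfsg.Agent.S5529
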