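import Cfsg.Statements.S5541

set_option autoImplicit false

open Cfsg

namespace Cfsg.Agent.S5541

theorem rho_cancel {H : Type*} [Group H] {U : Type*} [AddCommGroup U] [Module ℝ U]
    (ρ : Representation ℝ H U) (g : H) (v : U) : ρ g (ρ g⁻¹ v) = v := by
  rw [← Module.End.mul_apply, ← map_mul, mul_inv_cancel, map_one, Module.End.one_apply]

theorem nondeg {H : Type*} [Group H] {U : Type*} [AddCommGroup U] [Module ℝ U]
    [FiniteDimensional ℝ U] (ρ : Representation ℝ H U)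
    (hirr : ∀ W : Submodule ℝ U, (∀ g : H, W.map (ρ g) ≤ W) → W = ⊥ ∨ W = ⊤)
    (B : LinearMap.BilinForm ℝ U) (hB0 : B ≠ 0)
    (hBi : ∀ (g : H) (u v : U), B (ρ g u) (ρ g v) = B u v) : B.Nondegenerate := by
  rw [LinearMap.BilinForm.nondegenerate_iff_ker_eq_bot]
  have hinv : ∀ g : H, (LinearMap.ker B).map (ρ g) ≤ LinearMap.ker B := by
    intro g
    rintro _ ⟨u, hu, rfl⟩
    rw [SetLike.mem_coe, LinearMap.mem_ker] at hu
    rw [LinearMap.mem_ker]
    ext v
    have h1 := hBi g u (ρ g⁻¹ v)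
    rw [rho_cancel] at h1
    rw [h1, hu]
    rfl
  rcases hirr (LinearMap.ker B) hinv with h | h
  · exact h
  · exfalso
    apply hB0
    ext u v
    have hu : u ∈ LinearMap.ker B := by
      rw [h]
      exact Submodule.mem_top
    rw [LinearMap.mem_ker] at hu
    rw [hu]
    rfl

theorem sep {U : Type*} [AddCommGroup U] [Module ℝ U] (B : LinearMap.BilinForm ℝ U)
    (hnd : B.Nondegenerate) (x y : U) (h : ∀ w, B x w = B y w) : x = y := by
  rw [← sub_eq_zero]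
  apply hnd.1
  intro w
  rw [map_sub, LinearMap.sub_apply, h w, sub_self]

theorem cube_one (c : ℝ) (h : c ^ 3 = 1) : c = 1 := by
  have h1 : (c - 1) * (c ^ 2 + c + 1) = 0 := by
    ring_nf
    linarith
  rcases mul_eq_zero.mp h1 with h2 | h2
  · linarith
  · nlinarith [sq_nonneg (c + 1 / 2)]

theorem result {H : Type*} [Group H] {U : Type*} [AddCommGroup U] [Module ℝ U] [FiniteDimensional ℝ U] (ρ : Representation ℝ H U) (hirr : ∀ W : Submodule ℝ U, (∀ g : H, W.map (ρ g) ≤ W) → W = ⊥ ∨ W = ⊤) (B : LinearMap.BilinForm ℝ U) (hB0 : B ≠ 0) (hBs : ∀ u v, B u v = B v u) (hBi : ∀ (g : H) (u v : U), B (ρ g u) (ρ g v) = B u v) : (∃ m : U →ₗ[ℝ] U →ₗ[ℝ] U, m ≠ 0 ∧ (∀ u v, m u v = m v u) ∧ (∀ (g : H) (u v : U), m (ρ g u) (ρ g v) = ρ g (m u v)) ∧ ∀ m' : U →ₗ[ℝ] U →ₗ[ℝ] U, (∀ (g : H) (u v : U), m' (ρ g u) (ρ g v) = ρ g (m' u v)) → ∃ c : ℝ, m' = c • m) ↔ (∃ t : U →ₗ[ℝ] U →ₗ[ℝ] U →ₗ[ℝ] ℝ, t ≠ 0 ∧ (∀ u v w, t u v w = t v u w ∧ t u v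 w = t u w v) ∧ (∀ (g : H) (u v w : U), t (ρ g u) (ρ g v) (ρ g w) = t u v w) ∧ ∀ t' : U →ₗ[ℝ] U →ₗ[ℝ] U →ₗ[ℝ] ℝ, (∀ (g : H) (u v w : U), t' (ρ g u) (ρ g v) (ρ g w) = t' u v w) → ∃ c : ℝ, t' = c • t) := by
  have hnd := nondeg ρ hirr B hB0 hBi
  have hsep := sep B hnd
  have hT : ∀ m : U →ₗ[ℝ] U →ₗ[ℝ] U, ∀ u v w, (m.compr₂ B) u v w = B (m u v) w := by
    intro m u v w
    rw [LinearMap.compr₂_apply]
  have hM : ∀ t : U →ₗ[ℝ] U →ₗ[ℝ] U →ₗ[ℝ] ℝ, ∀ u v w,
      B ((t.compr₂ (B.toDual hnd).symm.toLinearMap) u v) w = t u v w := by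
    intro t u v w
    rw [LinearMap.compr₂_apply]
    exact LinearMap.BilinForm.apply_toDual_symm_apply (t u v) w
  have hTinv : ∀ m : U →ₗ[ℝ] U →ₗ[ℝ] U,
      (∀ (g : H) (u v : U), m (ρ g u) (ρ g v) = ρ g (m u v)) →
      ∀ (g : H) (u v w : U), (m.compr₂ B) (ρ g u) (ρ g v) (ρ g w) = (m.compr₂ B) u v w := by
    intro m hm g u v w
    rw [hT, hT, hm, hBi]
  have hMeq : ∀ t : U →ₗ[ℝ] U →ₗ[ℝ] U →ₗ[ℝ] ℝ,
      (∀ (g : H) (u v w : U), t (ρ g u) (ρ g v) (ρ g w) = t u v w) →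
      ∀ (g : H) (u v : U), (t.compr₂ (B.toDual hnd).symm.toLinearMap) (ρ g u) (ρ g v) =
        ρ g ((t.compr₂ (B.toDual hnd).symm.toLinearMap) u v) := by
    intro t ht g u v
    apply hsep
    intro w
    rw [hM]
    have h1 : t (ρ g u) (ρ g v) w = t u v (ρ g⁻¹ w) := by
      have := ht g u v (ρ g⁻¹ w)
      rw [rho_cancel] at this
      exact this
    have h2 : B (ρ g ((t.compr₂ (B.toDual hnd).symm.toLinearMap) u v)) w =
        B ((t.compr₂ (B.toDual hnd).symm.toLinearMap) u v) (ρ g⁻¹ w) := by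
      have := hBi g ((t.compr₂ (B.toDual hnd).symm.toLinearMap) u v) (ρ g⁻¹ w)
      rw [rho_cancel] at this
      exact this
    rw [h1, h2, hM]
  constructor
  · rintro ⟨m, hm0, hmc, hme, hmu⟩
    have huniv : ∀ t' : U →ₗ[ℝ] U →ₗ[ℝ] U →ₗ[ℝ] ℝ,
        (∀ (g : H) (u v w : U), t' (ρ g u) (ρ g v) (ρ g w) = t' u v w) →
        ∃ c : ℝ, t' = c • (m.compr₂ B) := by
      intro t' ht'
      obtain ⟨c, hc⟩ := hmu _ (hMeq t' ht')
      refine ⟨c, ?_⟩
      ext u v w
      rw [← hM t' u v w, hc]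
      simp only [LinearMap.smul_apply, hT, map_smul]
    have hne : m.compr₂ B ≠ 0 := by
      intro h0
      apply hm0
      ext u v
      apply hsep
      intro w
      rw [← hT, h0]
      simp
    refine ⟨m.compr₂ B, hne, ?_, hTinv m hme, huniv⟩
    have h12 : ∀ u v w, (m.compr₂ B) u v w = (m.compr₂ B) v u w := by
      intro u v w
      rw [hT, hT, hmc]
    have hflip : ∀ (g : H) (u v w : U),
        (LinearMap.lflip.toLinearMap ∘ₗ (m.compr₂ B)) (ρ g u) (ρ g v) (ρ g w) =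
        (LinearMap.lflip.toLinearMap ∘ₗ (m.compr₂ B)) u v w := by
      intro g u v w
      simp only [LinearMap.comp_apply, LinearEquiv.coe_coe, LinearMap.lflip_apply]
      exact hTinv m hme g u w v
    obtain ⟨c, hc⟩ := huniv _ hflip
    have hc' : ∀ u v w, (m.compr₂ B) u w v = c * (m.compr₂ B) u v w := by
      intro u v w
      have := congrArg (fun f => f u v w) hc
      simp only [LinearMap.comp_apply, LinearEquiv.coe_coe, LinearMap.lflip_apply,
        LinearMap.smul_apply, smul_eq_mul] at this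
      exact this
    have hex : ∃ u v w, (m.compr₂ B) u v w ≠ 0 := by
      by_contra hcon
      push_neg at hcon
      apply hne
      ext u v w
      rw [hcon]
      simp
    obtain ⟨u0, v0, w0, h0⟩ := hex
    have hc3 : c ^ 3 = 1 := by
      have e1 := hc' u0 v0 w0
      have e2 := h12 u0 w0 v0
      have e3 := hc' w0 u0 v0
      have e4 := h12 w0 v0 u0
      have e5 := hc' v0 w0 u0
      have e6 := h12 v0 u0 w0
      have : (m.compr₂ B) u0 v0 w0 * (c ^ 3 - 1) = 0 := by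
        linear_combination (-c ^ 2) * e1 + c ^ 2 * e2 + (-c) * e3 + c * e4 + (-1) * e5 + e6
      rcases mul_eq_zero.mp this with h | h
      · exact absurd h h0
      · linarith
    have hc1 := cube_one c hc3
    intro u v w
    refine ⟨h12 u v w, ?_⟩
    have := hc' u v w
    rw [hc1, one_mul] at this
    exact this.symm
  · rintro ⟨t, ht0, hts, hti, htu⟩
    refine ⟨t.compr₂ (B.toDual hnd).symm.toLinearMap, ?_, ?_, hMeq t hti, ?_⟩
    · intro h0
      apply ht0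
      ext u v w
      rw [← hM t u v w, h0]
      simp
    · intro u v
      apply hsep
      intro w
      rw [hM, hM]
      exact (hts u v w).1
    · intro m' hm'
      obtain ⟨c, hc⟩ := htu _ (hTinv m' hm')
      refine ⟨c, ?_⟩
      ext u v
      apply hsep
      intro w
      rw [← hT, hc]
      simp only [LinearMap.smul_apply, hM, map_smul]

end Cfsg.Agent.S5541
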