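import Cfsg.Statements.S5543

set_option autoImplicit false
open Cfsg

namespace Cfsg.Agent.S5543

open Cfsg.Axial

theorem result {V : Type*} [AddCommGroup V] [Module ℝ V] [FiniteDimensional ℝ V] (mul : V →ₗ[ℝ] V →ₗ[ℝ] V) (B : LinearMap.BilinForm ℝ V) (hV : Cfsg.Axial.IsMajoranaAmbient mul B) (X : Subgroup (V ≃ₗ[ℝ] V)) (hX : ∀ x ∈ X, x * x = 1) (ax : (V ≃ₗ[ℝ] V) → V) (hax : ∀ x ∈ X, x ≠ 1 → Cfsg.Axial.IsMajoranaPair mul B x (ax x)) (h1 : ∀ x ∈ X, x ≠ 1 → B (ax x) (ax x) = 1) (h2A : ∀ x ∈ X, ∀ y ∈ X, x ≠ 1 → y ≠ 1 → x ≠ y → mul (ax x) (ax y) = (1 / 8 : ℝ) • (ax x + ax y - ax (x * y))) : Nat.card ↥X ≤ 4 := by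
  classical
  by_contra hcard
  push_neg at hcard
  obtain ⟨hcomm, hsymm, hpos, hfrob, -⟩ := hV
  have hXcomm : ∀ g ∈ X, ∀ h ∈ X, g * h = h * g := by
    intro g hg h hh
    have h1 := hX (g * h) (X.mul_mem hg hh)
    have h2 := hX g hg
    have h3 := hX h hh
    have hginv : g⁻¹ = g := inv_eq_of_mul_eq_one_left h2
    have hhinv : h⁻¹ = h := inv_eq_of_mul_eq_one_left h3
    have : (g * h)⁻¹ = g * h := inv_eq_of_mul_eq_one_left h1
    rw [mul_inv_rev, hginv, hhinv] at this
    exact this.symm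
  have hexists : ∀ S : Finset (V ≃ₗ[ℝ] V), S.card ≤ 4 → ∃ g ∈ X, g ∉ S := by
    intro S hS
    by_contra hne
    push_neg at hne
    have hsub : (X : Set (V ≃ₗ[ℝ] V)) ⊆ (S : Set (V ≃ₗ[ℝ] V)) := fun g hg => hne g hg
    have h5 : (X : Set (V ≃ₗ[ℝ] V)).ncard ≤ (S : Set (V ≃ₗ[ℝ] V)).ncard :=
      Set.ncard_le_ncard hsub (Finset.finite_toSet S)
    rw [Set.ncard_coe_finset] at h5
    have h6 : Nat.card X = (X : Set (V ≃ₗ[ℝ] V)).ncard := rfl
    omega
  obtain ⟨x, hxX, hx⟩ := hexists {1} (by simp)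
  obtain ⟨y, hyX, hy⟩ := hexists {1, x} (Finset.card_le_two.trans (by norm_num))
  obtain ⟨w, hwX, hw⟩ := hexists {1, x, y, x * y} Finset.card_le_four
  simp only [Finset.mem_singleton] at hx
  simp only [Finset.mem_insert, Finset.mem_singleton, not_or] at hy hw
  obtain ⟨hy1, hyx⟩ := hy
  obtain ⟨hw1, hwx, hwy, hwxy⟩ := hw
  have hxx := hX x hxX
  have hyy := hX y hyX
  have hww := hX w hwX
  have idem : ∀ g ∈ X, g ≠ 1 → mul (ax g) (ax g) = ax g := fun g hg hg1 =>
    (hax g hg hg1).2.2.1.1.2.1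
  have hinner : ∀ g ∈ X, ∀ h ∈ X, g ≠ 1 → h ≠ 1 → g ≠ h → B (ax g) (ax h) = 1 / 8 := by
    intro g hg h hh hg1 hh1 hgh
    have hgg := hX g hg
    have hk1 : g * h ≠ 1 := by
      intro hk
      apply hgh
      have : g * h = g * g := by rw [hk, hgg]
      exact (mul_left_cancel this).symm
    have hkg : g ≠ g * h := by
      intro hk
      apply hh1
      have : g * 1 = g * h := by rw [mul_one]; exact hk
      exact (mul_left_cancel this).symm
    have hgk : g * (g * h) = h := by rw [← mul_assoc, hgg, one_mul]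
    have e1 := h2A g hg h hh hg1 hh1 hgh
    have e2 := h2A g hg (g * h) (X.mul_mem hg hh) hg1 hk1 hkg
    rw [hgk] at e2
    have f1 := hfrob (ax g) (ax g) (ax h)
    have f2 := hfrob (ax g) (ax g) (ax (g * h))
    rw [idem g hg hg1] at f1 f2
    rw [e1] at f1
    rw [e2] at f2
    simp only [map_smul, map_add, map_sub, smul_eq_mul] at f1 f2
    rw [h1 g hg hg1] at f1 f2
    linarith
  have heig : ∀ g ∈ X, ∀ h ∈ X, g ≠ 1 → h ≠ 1 → g ≠ h →
      ax h - ax (g * h) ∈ eigen mul (ax g) (1 / 4) := by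
    intro g hg h hh hg1 hh1 hgh
    have hgg := hX g hg
    have hk1 : g * h ≠ 1 := by
      intro hk
      apply hgh
      have : g * h = g * g := by rw [hk, hgg]
      exact (mul_left_cancel this).symm
    have hkg : g ≠ g * h := by
      intro hk
      apply hh1
      have : g * 1 = g * h := by rw [mul_one]; exact hk
      exact (mul_left_cancel this).symm
    have hgk : g * (g * h) = h := by rw [← mul_assoc, hgg, one_mul]
    have e1 := h2A g hg h hh hg1 hh1 hgh
    have e2 := h2A g hg (g * h) (X.mul_mem hg hh) hg1 hk1 hkg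
    rw [hgk] at e2
    unfold eigen
    rw [Module.End.mem_eigenspace_iff, map_sub, e1, e2]
    module
  have hyw1 : y * w ≠ 1 := by
    intro h
    apply hwy
    have : y * w = y * y := by rw [h, hyy]
    exact mul_left_cancel this
  have hxyw : x ≠ y * w := by
    intro h
    apply hwxy
    have e : y * x = w := by rw [h, ← mul_assoc, hyy, one_mul]
    rw [← e, hXcomm x hxX y hyX]
  have hywX : y * w ∈ X := X.mul_mem hyX hwX
  have hxyX : x * y ∈ X := X.mul_mem hxX hyX
  have hxwX : x * w ∈ X := X.mul_mem hxX hwX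
  have hxy1 : x * y ≠ 1 := by
    intro h
    apply hyx
    have : x * y = x * x := by rw [h, hxx]
    exact mul_left_cancel this
  have hxw1 : x * w ≠ 1 := by
    intro h
    apply hwx
    have : x * w = x * x := by rw [h, hxx]
    exact mul_left_cancel this
  have hy_xw : y ≠ x * w := by
    intro h
    apply hwxy
    have e : x * y = w := by rw [h, ← mul_assoc, hxx, one_mul]
    exact e.symm
  have hxy_w : x * y ≠ w := fun h => hwxy h.symm
  have hxy_xw : x * y ≠ x * w := fun h => hwy (mul_left_cancel h).symm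
  have hyw : y ≠ w := fun h => hwy h.symm
  have p1 : y * (x * w) = x * (y * w) := by
    rw [← mul_assoc, hXcomm y hyX x hxX, mul_assoc]
  have p2 : (x * y) * w = x * (y * w) := mul_assoc x y w
  have p3 : (x * y) * (x * w) = y * w := by
    rw [hXcomm x hxX y hyX, mul_assoc, ← mul_assoc x x w, hxx, one_mul]
  have m1 := h2A y hyX w hwX hy1 hw1 hyw
  have m2 := h2A y hyX (x * w) hxwX hy1 hxw1 hy_xw
  have m3 := h2A (x * y) hxyX w hwX hxy1 hw1 hxy_w
  have m4 := h2A (x * y) hxyX (x * w) hxwX hxy1 hxw1 hxy_xw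
  rw [p1] at m2
  rw [p2] at m3
  rw [p3] at m4
  have hu1 := heig x hxX y hyX hx hy1 (fun h => hyx h.symm)
  have hu2 := heig x hxX w hwX hx hw1 (fun h => hwx h.symm)
  have hu3 := heig x hxX (y * w) hywX hx hyw1 hxyw
  have hprod : mul (ax y - ax (x * y)) (ax w - ax (x * w)) = (-(1 / 4 : ℝ)) • (ax (y * w) - ax (x * (y * w))) := by
    simp only [map_sub, LinearMap.sub_apply, m1, m2, m3, m4]
    module
  have hfus := (hax x hxX hx).2.2.1.1.2.2.2 (1 / 4) (by simp [majoranaSpectrum]) (1 / 4)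
    (by simp [majoranaSpectrum]) _ hu1 _ hu2
  have hlaw : monsterLaw (1 / 4 : ℝ) (1 / 32) (1 / 4) (1 / 4) = {1, 0} := by
    unfold monsterLaw
    norm_num
  rw [hlaw, hprod] at hfus
  have hin : (-(1 / 4 : ℝ)) • (ax (y * w) - ax (x * (y * w))) ∈ eigen mul (ax x) (1 / 4) :=
    Submodule.smul_mem _ _ hu3
  have hdisj : Disjoint (eigen mul (ax x) (1 / 4)) (eigenSum mul (ax x) {1, 0}) := by
    unfold eigen eigenSum
    apply (Module.End.eigenspaces_iSupIndep (mul (ax x))).disjoint_biSup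
    norm_num
  have hzero := (Submodule.disjoint_def.mp hdisj) _ hin hfus
  have heq : ax (y * w) = ax (x * (y * w)) := by
    have h4 : (-(1 / 4 : ℝ)) ≠ 0 := by norm_num
    have := (smul_eq_zero.mp hzero).resolve_left h4
    exact sub_eq_zero.mp this
  have hq1 : x * (y * w) ≠ 1 := by
    intro h
    apply hxyw
    have : x * (y * w) = x * x := by rw [h, hxx]
    exact (mul_left_cancel this).symm
  have hpq : y * w ≠ x * (y * w) := by
    intro h
    apply hx
    have : 1 * (y * w) = x * (y * w) := by rw [one_mul]; exact h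
    exact (mul_right_cancel this).symm
  have hB := hinner (y * w) hywX (x * (y * w)) (X.mul_mem hxX hywX) hyw1 hq1 hpq
  rw [← heq, h1 (y * w) hywX hyw1] at hB
  norm_num at hB

end Cfsg.Agent.S5543
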