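import Cfsg.Statements.S5545

set_option autoImplicit false
open Cfsg

namespace Cfsg.Agent.S5545

open Cfsg.Axial

section
variable {V : Type*} [AddCommGroup V] [Module ℝ V]

theorem eigen_map (mul : V →ₗ[ℝ] V →ₗ[ℝ] V) (μ : V ≃ₗ[ℝ] V)
    (hμ : ∀ u v : V, μ (mul u v) = mul (μ u) (μ v)) (a : V) (c : ℝ) :
    eigen mul (μ a) c = (eigen mul a c).map (μ : V →ₗ[ℝ] V) := by
  ext v
  unfold eigen
  rw [Submodule.mem_map, Module.End.mem_eigenspace_iff]
  constructor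
  · intro h
    refine ⟨μ.symm v, ?_, by simp⟩
    rw [Module.End.mem_eigenspace_iff]
    apply μ.injective
    rw [hμ, map_smul]
    simpa using h
  · rintro ⟨w, hw, rfl⟩
    rw [Module.End.mem_eigenspace_iff] at hw
    have : mul (μ a) (μ w) = μ (mul a w) := (hμ a w).symm
    simp only [LinearEquiv.coe_coe]
    rw [this, hw, map_smul]

theorem eigenSum_map (mul : V →ₗ[ℝ] V →ₗ[ℝ] V) (μ : V ≃ₗ[ℝ] V)
    (hμ : ∀ u v : V, μ (mul u v) = mul (μ u) (μ v)) (a : V) (T : Set ℝ) :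
    eigenSum mul (μ a) T = (eigenSum mul a T).map (μ : V →ₗ[ℝ] V) := by
  unfold eigenSum
  simp only [Submodule.map_iSup, eigen_map mul μ hμ]

theorem orth (mul : V →ₗ[ℝ] V →ₗ[ℝ] V) (B : LinearMap.BilinForm ℝ V)
    (hfrob : ∀ u v w : V, B u (mul v w) = B (mul u v) w) (a u : V) (c : ℝ) (hc : c ≠ 1)
    (haa : mul a a = a) (hu : u ∈ eigen mul a c) : B a u = 0 := by
  unfold eigen at hu
  rw [Module.End.mem_eigenspace_iff] at hu
  have h1 := hfrob a a u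
  rw [haa, hu, map_smul, smul_eq_mul] at h1
  have : (c - 1) * B a u = 0 := by linarith
  rcases mul_eq_zero.mp this with h | h
  · exact absurd (by linarith) hc
  · exact h

theorem fixed_of_comm (mul : V →ₗ[ℝ] V →ₗ[ℝ] V) (B : LinearMap.BilinForm ℝ V)
    (μ₀ μ₁ : V ≃ₗ[ℝ] V) (a₀ a₁ : V) (h₀ : IsMajoranaPair mul B μ₀ a₀)
    (h₁ : IsMajoranaPair mul B μ₁ a₁) (hu₁ : ∀ a : V, IsMajoranaPair mul B μ₁ a → a = a₁)
    (hc : μ₀ * μ₁ = μ₁ * μ₀) : μ₀ a₁ = a₁ := by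
  apply hu₁
  obtain ⟨hm0, -, -, -⟩ := h₀
  obtain ⟨hm1, hB1, ⟨⟨hne, hidem, htop, hfus⟩, hprim⟩, ⟨hfix, hneg⟩⟩ := h₁
  have hcomm : ∀ v : V, μ₁ (μ₀ v) = μ₀ (μ₁ v) := by
    intro v
    have := congrArg (fun f : V ≃ₗ[ℝ] V => f v) hc
    simpa [LinearEquiv.mul_apply] using this.symm
  refine ⟨hm1, hB1, ⟨⟨?_, ?_, ?_, ?_⟩, ?_⟩, ⟨?_, ?_⟩⟩
  · intro h
    apply hne
    apply μ₀.injective
    rw [h, map_zero]
  · rw [← hm0, hidem]
  · rw [eigenSum_map mul μ₀ hm0, htop, Submodule.map_top]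
    exact LinearEquiv.range μ₀
  · intro c hcS d hdS u hu v hv
    rw [eigen_map mul μ₀ hm0] at hu hv
    obtain ⟨u', hu', rfl⟩ := hu
    obtain ⟨v', hv', rfl⟩ := hv
    rw [eigenSum_map mul μ₀ hm0]
    refine ⟨mul u' v', hfus c hcS d hdS u' hu' v' hv', ?_⟩
    simp only [LinearEquiv.coe_coe]
    exact hm0 u' v'
  · rw [eigen_map mul μ₀ hm0, hprim, Submodule.map_span]
    simp
  · intro v hv
    rw [eigenSum_map mul μ₀ hm0] at hv
    obtain ⟨v', hv', rfl⟩ := hv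
    have := hfix v' hv'
    simp only [LinearEquiv.coe_coe] at this ⊢
    rw [hcomm, this]
  · intro v hv
    rw [eigen_map mul μ₀ hm0] at hv
    obtain ⟨v', hv', rfl⟩ := hv
    have := hneg v' hv'
    simp only [LinearEquiv.coe_coe] at this ⊢
    rw [hcomm, this, map_neg]

theorem eigen_le_eigenSum (mul : V →ₗ[ℝ] V →ₗ[ℝ] V) (a : V) (c : ℝ) (T : Set ℝ) (hc : c ∈ T) :
    eigen mul a c ≤ eigenSum mul a T :=
  le_biSup (fun c => eigen mul a c) hc

theorem decomp (mul : V →ₗ[ℝ] V →ₗ[ℝ] V) (B : LinearMap.BilinForm ℝ V)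
    (hfrob : ∀ u v w : V, B u (mul v w) = B (mul u v) w)
    (μ : V ≃ₗ[ℝ] V) (a b : V) (h : IsMajoranaPair mul B μ a) (haa1 : B a a = 1) (hb : μ b = b) :
    ∃ u₀ uq : V, u₀ ∈ eigen mul a 0 ∧ uq ∈ eigen mul a (1 / 4) ∧ b = (B a b) • a + u₀ + uq := by
  obtain ⟨-, -, ⟨⟨hne, hidem, htop, hfus⟩, hprim⟩, ⟨hfix, hneg⟩⟩ := h
  have hb' : b ∈ eigenSum mul a majoranaSpectrum := by rw [htop]; trivial
  unfold eigenSum majoranaSpectrum at hb'
  rw [iSup_insert, iSup_insert, iSup_insert, iSup_singleton] at hb'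
  obtain ⟨v1, hv1, r1, hr1, hsum1⟩ := Submodule.mem_sup.mp hb'
  obtain ⟨v0, hv0, r2, hr2, hsum2⟩ := Submodule.mem_sup.mp hr1
  obtain ⟨vq, hvq, v32, hv32, hsum3⟩ := Submodule.mem_sup.mp hr2
  have f1 : μ v1 = v1 := hfix v1 (eigen_le_eigenSum mul a 1 _ (by simp) hv1)
  have f0 : μ v0 = v0 := hfix v0 (eigen_le_eigenSum mul a 0 _ (by simp) hv0)
  have fq : μ vq = vq := hfix vq (eigen_le_eigenSum mul a (1 / 4) _ (by simp) hvq)
  have f32 : μ v32 = -v32 := hneg v32 hv32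
  have hbsum : b = v1 + (v0 + (vq + v32)) := by rw [hsum3, hsum2, hsum1]
  have h32 : v32 = 0 := by
    have h2 := hb
    rw [hbsum, map_add, map_add, map_add, f1, f0, fq, f32] at h2
    have h3 : (2 : ℝ) • v32 = 0 := by
      have : v1 + (v0 + (vq + -v32)) - (v1 + (v0 + (vq + v32))) = 0 := sub_eq_zero.mpr h2
      have h4 : (2 : ℝ) • v32 = -(v1 + (v0 + (vq + -v32)) - (v1 + (v0 + (vq + v32)))) := by module
      rw [h4, this, neg_zero]
    exact (smul_eq_zero.mp h3).resolve_left (by norm_num)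
  rw [hprim] at hv1
  obtain ⟨t, ht⟩ := Submodule.mem_span_singleton.mp hv1
  have ho0 : B a v0 = 0 := orth mul B hfrob a v0 0 (by norm_num) hidem hv0
  have hoq : B a vq = 0 := orth mul B hfrob a vq (1 / 4) (by norm_num) hidem hvq
  have hBab : B a b = t := by
    rw [hbsum, h32, ← ht]
    simp only [map_add, map_smul, smul_eq_mul, haa1, ho0, hoq, map_zero]
    ring
  refine ⟨v0, vq, hv0, hvq, ?_⟩
  rw [hBab, ht, hbsum, h32]
  module

theorem key (mul : V →ₗ[ℝ] V →ₗ[ℝ] V) (B : LinearMap.BilinForm ℝ V)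
    (hcomm : IsCommMul mul)
    (hfrob : ∀ u v w : V, B u (mul v w) = B (mul u v) w)
    (μ : V ≃ₗ[ℝ] V) (a b : V) (h : IsMajoranaPair mul B μ a) (haa1 : B a a = 1) (hb : μ b = b)
    (hbb : mul b b = b) :
    mul a (mul a b) = (1 / 4 : ℝ) • mul a b + ((3 / 4) * B a b) • a ∧
    (mul b (mul a b) = (1 / 4 : ℝ) • mul a b + ((3 / 4) * B a b) • b →
      (16 : ℝ) • mul (mul a b) (mul a b) = (4 * B a b - 1) • mul a b + (3 * B a b) • b
        + (8 * (B a b) ^ 2 + 2 * B a b) • a) := by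
  obtain ⟨u₀, uq, hu₀, huq, hdec⟩ := decomp mul B hfrob μ a b h haa1 hb
  obtain ⟨-, -, ⟨⟨hne, hidem, htop, hfus⟩, hprim⟩, -⟩ := h
  set l : ℝ := B a b with hl
  have e0 : mul a u₀ = 0 := by
    have := hu₀
    unfold eigen at this
    rw [Module.End.mem_eigenspace_iff] at this
    rw [this, zero_smul]
  have eq : mul a uq = (1 / 4 : ℝ) • uq := by
    have := huq
    unfold eigen at this
    rw [Module.End.mem_eigenspace_iff] at this
    exact this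
  have hσ : mul a b = l • a + (1 / 4 : ℝ) • uq := by
    conv_lhs => rw [hdec]
    simp only [map_add, map_smul, hidem, e0, eq]
    module
  have huq' : uq = (4 : ℝ) • mul a b - (4 * l) • a := by
    rw [hσ]; module
  have hu₀' : u₀ = b + (3 * l) • a - (4 : ℝ) • mul a b := by
    have : u₀ = b - l • a - uq := by
      conv_rhs => rw [hdec]
      module
    rw [this, huq']; module
  have L1 : mul a (mul a b) = (1 / 4 : ℝ) • mul a b + ((3 / 4) * l) • a := by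
    rw [hσ]
    simp only [map_add, map_smul, hidem, eq]
    module
  refine ⟨L1, ?_⟩
  intro hbσ
  have c1 : mul u₀ a = 0 := by rw [hcomm u₀ a, e0]
  have c2 : mul uq a = (1 / 4 : ℝ) • uq := by rw [hcomm uq a, eq]
  have c3 : mul uq u₀ = mul u₀ uq := hcomm uq u₀
  have hexp : mul b b = (l ^ 2) • a + mul u₀ u₀ + mul uq uq + (l / 2) • uq + (2 : ℝ) • mul u₀ uq := by
    conv_lhs => rw [hdec]
    simp only [map_add, map_smul, LinearMap.add_apply, LinearMap.smul_apply, hidem, e0, eq, c1, c2, c3]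
    module
  have ha1 : a ∈ eigen mul a 1 := by
    unfold eigen
    rw [Module.End.mem_eigenspace_iff, hidem, one_smul]
  have hS0 : (0 : ℝ) ∈ majoranaSpectrum := by simp [majoranaSpectrum]
  have hSq : (1 / 4 : ℝ) ∈ majoranaSpectrum := by simp [majoranaSpectrum]
  have law00 : monsterLaw (1 / 4 : ℝ) (1 / 32) 0 0 = {0} := by
    unfold monsterLaw; norm_num
  have law0q : monsterLaw (1 / 4 : ℝ) (1 / 32) 0 (1 / 4) = {1 / 4} := by
    unfold monsterLaw; norm_num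
  have lawqq : monsterLaw (1 / 4 : ℝ) (1 / 32) (1 / 4) (1 / 4) = {1, 0} := by
    unfold monsterLaw; norm_num
  have m00 : mul u₀ u₀ ∈ eigenSum mul a {1, 0} := by
    have := hfus 0 hS0 0 hS0 u₀ hu₀ u₀ hu₀
    rw [law00] at this
    unfold eigenSum at this
    rw [iSup_singleton] at this
    exact eigen_le_eigenSum mul a 0 _ (by simp) this
  have mqq : mul uq uq ∈ eigenSum mul a {1, 0} := by
    have := hfus (1 / 4) hSq (1 / 4) hSq uq huq uq huq
    rwa [lawqq] at this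
  have m0q : mul u₀ uq ∈ eigen mul a (1 / 4) := by
    have := hfus 0 hS0 (1 / 4) hSq u₀ hu₀ uq huq
    rw [law0q] at this
    unfold eigenSum at this
    rwa [iSup_singleton] at this
  have hP : (l ^ 2) • a + mul u₀ u₀ + mul uq uq - l • a - u₀ ∈ eigenSum mul a {1, 0} := by
    have ha' : a ∈ eigenSum mul a {1, 0} := eigen_le_eigenSum mul a 1 _ (by simp) ha1
    have hu' : u₀ ∈ eigenSum mul a {1, 0} := eigen_le_eigenSum mul a 0 _ (by simp) hu₀
    exact Submodule.sub_mem _ (Submodule.sub_mem _ (Submodule.add_mem _ (Submodule.add_mem _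
      (Submodule.smul_mem _ _ ha') m00) mqq) (Submodule.smul_mem _ _ ha')) hu'
  have hR : (l / 2) • uq + (2 : ℝ) • mul u₀ uq - uq ∈ eigen mul a (1 / 4) :=
    Submodule.sub_mem _ (Submodule.add_mem _ (Submodule.smul_mem _ _ huq)
      (Submodule.smul_mem _ _ m0q)) huq
  have hPR : ((l / 2) • uq + (2 : ℝ) • mul u₀ uq - uq)
      = -((l ^ 2) • a + mul u₀ u₀ + mul uq uq - l • a - u₀) := by
    have h0 : mul b b - b = 0 := sub_eq_zero.mpr hbb
    rw [hexp] at h0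
    conv at h0 => lhs; arg 2; rw [hdec]
    have : ((l / 2) • uq + (2 : ℝ) • mul u₀ uq - uq)
      + ((l ^ 2) • a + mul u₀ u₀ + mul uq uq - l • a - u₀) = 0 := by
      rw [← h0]; module
    exact eq_neg_of_add_eq_zero_left this
  have hdisj : Disjoint (eigen mul a (1 / 4)) (eigenSum mul a {1, 0}) := by
    unfold eigen eigenSum
    apply (Module.End.eigenspaces_iSupIndep (mul a)).disjoint_biSup
    norm_num
  have hR0 : (l / 2) • uq + (2 : ℝ) • mul u₀ uq - uq = 0 := by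
    apply (Submodule.disjoint_def.mp hdisj) _ hR
    rw [hPR]
    exact Submodule.neg_mem _ hP
  have e1 : mul b a = mul a b := hcomm b a
  have e2 : mul (mul a b) a = mul a (mul a b) := hcomm _ _
  have hprod : mul u₀ uq = (4 : ℝ) • mul b (mul a b) - (4 * l) • mul a b
      + (28 * l) • mul a (mul a b) - (12 * l ^ 2) • a - (16 : ℝ) • mul (mul a b) (mul a b) := by
    rw [hu₀', huq']
    simp only [map_add, map_sub, map_smul, LinearMap.add_apply, LinearMap.sub_apply,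
      LinearMap.smul_apply, e1, e2, hidem]
    module
  rw [hprod, huq', hbσ, L1] at hR0
  linear_combination (norm := module) (-1 / 2 : ℝ) • hR0

end

theorem result {V : Type*} [AddCommGroup V] [Module ℝ V] [FiniteDimensional ℝ V] (mul : V →ₗ[ℝ] V →ₗ[ℝ] V) (B : LinearMap.BilinForm ℝ V) (hV : Cfsg.Axial.IsMajoranaAmbient mul B) (μ₀ μ₁ : V ≃ₗ[ℝ] V) (a₀ a₁ : V) (h₀ : Cfsg.Axial.IsMajoranaPair mul B μ₀ a₀) (h₁ : Cfsg.Axial.IsMajoranaPair mul B μ₁ a₁) (hu₀ : ∀ a : V, Cfsg.Axial.IsMajoranaPair mul B μ₀ a → a = a₀) (hu₁ : ∀ a : V, Cfsg.Axial.IsMajoranaPair mul B μ₁ a → a = a₁) (hn₀ : B a₀ a₀ = 1) (hn₁ : B a₁ a₁ = 1) (hc : μ₀ * μ₁ = μ₁ * μ₀) (hne : a₀ ≠ a₁) : (B a₀ a₁ = 0 ∧ mul a₀ a₁ = 0) ∨ (B a₀ a₁ = 1 / 8 ∧ mul (a₀ + a₁ - (8 : ℝ) • mul a₀ a₁) (a₀ + a₁ - (8 : ℝ) • mul a₀ a₁) = a₀ + a₁ - (8 : ℝ) • mul a₀ a₁ ∧ mul a₀ (a₀ + a₁ - (8 : ℝ) • mul a₀ a₁) = (1 / 8 : ℝ) • (a₀ + (a₀ + a₁ - (8 : ℝ) • mul a₀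 a₁) - a₁) ∧ mul a₁ (a₀ + a₁ - (8 : ℝ) • mul a₀ a₁) = (1 / 8 : ℝ) • (a₁ + (a₀ + a₁ - (8 : ℝ) • mul a₀ a₁) - a₀)) := by
  obtain ⟨hcomm, hsymm, hpos, hfrob, -⟩ := hV
  have hfix01 : μ₀ a₁ = a₁ := fixed_of_comm mul B μ₀ μ₁ a₀ a₁ h₀ h₁ hu₁ hc
  have hfix10 : μ₁ a₀ = a₀ := fixed_of_comm mul B μ₁ μ₀ a₁ a₀ h₁ h₀ hu₀ hc.symm
  have idem0 : mul a₀ a₀ = a₀ := h₀.2.2.1.1.2.1
  have idem1 : mul a₁ a₁ = a₁ := h₁.2.2.1.1.2.1
  obtain ⟨L1a, L2a⟩ := key mul B hcomm hfrob μ₀ a₀ a₁ h₀ hn₀ hfix01 idem1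
  obtain ⟨L1b, L2b⟩ := key mul B hcomm hfrob μ₁ a₁ a₀ h₁ hn₁ hfix10 idem0
  have hσ : mul a₁ a₀ = mul a₀ a₁ := hcomm a₁ a₀
  have hl : B a₁ a₀ = B a₀ a₁ := hsymm a₁ a₀
  rw [hσ, hl] at L1b L2b
  set σ : V := mul a₀ a₁ with hσdef
  set l : ℝ := B a₀ a₁ with hldef
  have E1 := L2a L1b
  have E2 := L2b L1a
  have hdiff : (l - 8 * l ^ 2) • (a₁ - a₀) = 0 := by
    have : (4 * l - 1) • σ + (3 * l) • a₁ + (8 * l ^ 2 + 2 * l) • a₀
        = (4 * l - 1) • σ + (3 * l) • a₀ + (8 * l ^ 2 + 2 * l) • a₁ := by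
      rw [← E1, ← E2]
    linear_combination (norm := module) this
  have hne' : a₁ - a₀ ≠ 0 := fun h => hne (sub_eq_zero.mp h).symm
  have hl2 : l - 8 * l ^ 2 = 0 := (smul_eq_zero.mp hdiff).resolve_right hne'
  have hBσ : B σ σ = l / 4 + (3 / 4) * l ^ 2 := by
    have h1 : B a₀ σ = l := by
      rw [hσdef, hfrob a₀ a₀ a₁, idem0]
    have h2 : B σ σ = B a₀ (mul a₁ σ) := by
      conv_lhs => rw [hσdef]
      rw [← hfrob a₀ a₁ (mul a₀ a₁)]
    rw [h2, L1b]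
    simp only [map_add, map_smul, smul_eq_mul, h1]
    ring
  have hcases : l = 0 ∨ l = 1 / 8 := by
    have : l * (1 - 8 * l) = 0 := by ring_nf; ring_nf at hl2; linarith
    rcases mul_eq_zero.mp this with h | h
    · left; exact h
    · right; linarith
  rcases hcases with h0 | h8
  · left
    refine ⟨h0, ?_⟩
    by_contra hσ0
    have := hpos σ hσ0
    rw [hBσ, h0] at this
    norm_num at this
  · right
    refine ⟨h8, ?_, ?_, ?_⟩
    · rw [h8] at E1 L1a L1b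
      simp only [map_add, map_sub, map_smul, LinearMap.add_apply, LinearMap.sub_apply,
        LinearMap.smul_apply, idem0, idem1, hσ, ← hσdef, L1a, L1b]
      have e3 : mul σ a₀ = mul a₀ σ := hcomm _ _
      have e4 : mul σ a₁ = mul a₁ σ := hcomm _ _
      rw [e3, e4, L1a, L1b]
      linear_combination (norm := module) (4 : ℝ) • E1
    · rw [h8] at L1a
      simp only [map_add, map_sub, map_smul, idem0, ← hσdef, L1a]
      module
    · rw [h8] at L1b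
      simp only [map_add, map_sub, map_smul, idem1, hσ, ← hσdef, L1b]
      module

end Cfsg.Agent.S5545
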