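import Mathlib
import Cfsg.Statements.S5549
import Cfsg.Agent.Lib.helper3.G49Main

set_option autoImplicit false
open Cfsg

namespace Cfsg.Agent.S5549

/-- Let X be a group of linear automorphisms of the length-24 binary Golay code of the definitions that fix the all-ones word, containing the coordinate-permutation action of every element of the code's automorphism group (the Mathieu group of degree 24), and such that every element of X sends each codeword into its orbit under that Mathieu group up to adding the all-ones word (X has the same orbits as the Mathieu group on the code modulo the all-ones word). Then every element of X agrees, modulo the all-ones word, with the action of a single element of the Mathieu group: X induces exactly the Mathieu group on the code modulo the all-ones word. -/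
theorem result (X : Subgroup (↥Cfsg.golayCode ≃ₗ[ZMod 2] ↥Cfsg.golayCode)) (h1 : ∀ x ∈ X, ∀ e : ↥Cfsg.golayCode, (e : (Cfsg.GolayPt → ZMod 2)) = (fun _ => (1 : ZMod 2)) → x e = e) (hM : ∀ σ ∈ Cfsg.M24, ∃ x ∈ X, ∀ c : ↥Cfsg.golayCode, ((x c : ↥Cfsg.golayCode) : (Cfsg.GolayPt → ZMod 2)) = fun p => (c : (Cfsg.GolayPt → ZMod 2)) (σ.symm p)) (horb : ∀ x ∈ X, ∀ c : ↥Cfsg.golayCode, ∃ σ ∈ Cfsg.M24, ((x c : ↥Cfsg.golayCode) : (Cfsg.GolayPt → ZMod 2)) = (fun p => (c : (Cfsg.GolayPt → ZMod 2)) (σ.symm p)) ∨ ((x c : ↥Cfsg.golayCode) : (Cfsg.GolayPt → ZMod 2)) = (fun p => (c : (Cfsg.GolayPt → ZMod 2)) (σ.symm p)) + fun _ => (1 : ZMod 2)) (x : ↥Cfsg.golayCode ≃ₗ[ZMod 2] ↥Cfsg.golayCode) (hx : x ∈ X) : ∃ σ ∈ Cfsg.M24, ∀ c : ↥Cfsg.golayCode, ((x c : ↥Cfsg.golayCode) : (Cfsg.GolayPt → ZMod 2)) = (fun p => (c : (Cfsg.GolayPt → ZMod 2)) (σ.symm p)) ∨ ((x c : ↥Cfsg.golayCode) : (Cfsg.GolayPt → ZMod 2)) = (fun p => (c : (Cfsg.GolayPt → ZMod 2)) (σ.symm p)) + fun _ => (1 : ZMod 2)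 := by
  have hX : Cfsg.Agent.Lib.helper3.G49Hyp X := by
    refine ⟨fun y hy => h1 y hy _ Cfsg.Agent.Lib.helper3.cwk_ones, fun σ hσ => hM σ hσ, ?_⟩
    intro y hy c
    obtain ⟨σ, hσ, h⟩ := horb y hy c
    rcases h with h | h
    · left
      rw [h]
      exact Cfsg.Agent.Lib.helper3.hammingNorm_act σ c.1
    · right
      obtain ⟨d, hd⟩ : ∃ d : ↥Cfsg.golayCode, d.1 = Cfsg.Agent.Lib.helper3.act σ c.1 :=
        ⟨⟨_, Cfsg.Agent.Lib.helper3.act_mem_code hσ c.2⟩, rfl⟩
      have h2 : y c = d + Cfsg.Agent.Lib.helper3.cwk 4095 := by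
        apply Subtype.ext
        show (y c).1 = d.1 + (Cfsg.Agent.Lib.helper3.cwk 4095).1
        rw [h, hd, Cfsg.Agent.Lib.helper3.cwk_ones]
        rfl
      have h3 := Cfsg.Agent.Lib.helper3.wt_add_ones d
      have h4 : hammingNorm d.1 = hammingNorm c.1 := by
        rw [hd]
        exact Cfsg.Agent.Lib.helper3.hammingNorm_act σ c.1
      rw [h2, ← h4]
      exact h3
  exact Cfsg.Agent.Lib.helper3.g49_main hX x hx

end Cfsg.Agent.S5549
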