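import Cfsg.Statements.S5592
import Cfsg.Agent.S0391

set_option autoImplicit false

open Cfsg

namespace Cfsg.Agent.S5592

theorem sq_sub (x y : Cfsg.GolayPt → ℤ) :
    Cfsg.sqNorm (x - y) = Cfsg.sqNorm x + Cfsg.sqNorm y - 2 * Cfsg.dotInt x y := by
  unfold Cfsg.sqNorm Cfsg.dotInt
  rw [Finset.mul_sum, ← Finset.sum_add_distrib, ← Finset.sum_sub_distrib]
  refine Finset.sum_congr rfl (fun i _ => ?_)
  rw [Pi.sub_apply]
  ring

theorem sq_add (x y : Cfsg.GolayPt → ℤ) :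
    Cfsg.sqNorm (x + y) = Cfsg.sqNorm x + Cfsg.sqNorm y + 2 * Cfsg.dotInt x y := by
  unfold Cfsg.sqNorm Cfsg.dotInt
  rw [Finset.mul_sum, ← Finset.sum_add_distrib, ← Finset.sum_add_distrib]
  refine Finset.sum_congr rfl (fun i _ => ?_)
  rw [Pi.add_apply]
  ring

theorem sq_two (z : Cfsg.GolayPt → ℤ) : Cfsg.sqNorm (2 • z) = 4 * Cfsg.sqNorm z := by
  unfold Cfsg.sqNorm
  rw [Finset.mul_sum]
  refine Finset.sum_congr rfl (fun i _ => ?_)
  rw [Pi.smul_apply, two_nsmul]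
  ring

theorem key (x y : Cfsg.GolayPt → ℤ) (hx : x ∈ Cfsg.leechLattice) (hy : y ∈ Cfsg.leechLattice)
    (hxy : x ≠ y) (hneg : x ≠ -y) (hc : ∃ z ∈ Cfsg.leechLattice, x - y = 2 • z) :
    128 ≤ Cfsg.sqNorm x + Cfsg.sqNorm y - 2 * Cfsg.dotInt x y ∧
    128 ≤ Cfsg.sqNorm x + Cfsg.sqNorm y + 2 * Cfsg.dotInt x y := by
  obtain ⟨z, hz, hxyz⟩ := hc
  have hz0 : z ≠ 0 := by
    intro h
    rw [h, smul_zero, sub_eq_zero] at hxyz
    exact hxy hxyz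
  have h1 := Cfsg.Agent.S0391.result z hz hz0
  have h2 : x + y = 2 • (z + y) := by
    rw [smul_add, ← hxyz, two_smul]
    abel
  have hzy : z + y ∈ Cfsg.leechLattice := Cfsg.leechLattice.add_mem hz hy
  have hzy0 : z + y ≠ 0 := by
    intro h
    rw [h, smul_zero] at h2
    exact hneg (eq_neg_of_add_eq_zero_left h2)
  have h3 := Cfsg.Agent.S0391.result (z + y) hzy hzy0
  have e1 := sq_sub x y
  have e2 := sq_add x y
  rw [hxyz, sq_two] at e1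
  rw [h2, sq_two] at e2
  constructor <;> omega

theorem result (x y : Cfsg.GolayPt → ℤ) (hx : x ∈ Cfsg.leechLattice) (hy : y ∈ Cfsg.leechLattice) (hxy : x ≠ y) (hxn : Cfsg.sqNorm x ≤ 64) (hyn : Cfsg.sqNorm y ≤ 64) (hc : (∃ z ∈ Cfsg.leechLattice, x - y = 2 • z)) :
    x = -y ∨ (Cfsg.sqNorm x = 64 ∧ Cfsg.sqNorm y = 64 ∧ Cfsg.dotInt x y = 0) := by
  by_cases hneg : x = -y
  · exact Or.inl hneg
  · right
    obtain ⟨h1, h2⟩ := key x y hx hy hxy hneg hc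
    refine ⟨by omega, by omega, by omega⟩

end Cfsg.Agent.S5592
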