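import Cfsg.Statements.S5551
import Cfsg.Agent.S5592

set_option autoImplicit false

open Cfsg

namespace Cfsg.Agent.S5551

theorem sq_neg (v : Cfsg.GolayPt → ℤ) : Cfsg.sqNorm (-v) = Cfsg.sqNorm v := by
  unfold Cfsg.sqNorm
  refine Finset.sum_congr rfl (fun i _ => ?_)
  rw [Pi.neg_apply]
  ring

theorem result (v w : Cfsg.GolayPt → ℤ) (hv : v ∈ Cfsg.leechLattice) (hw : w ∈ Cfsg.leechLattice) (hv0 : v ≠ 0) (hw0 : w ≠ 0) (hvn : Cfsg.sqNorm v ≤ 64) (hwn : Cfsg.sqNorm w ≤ 64) (hc : ∃ z ∈ Cfsg.leechLattice, v - w = 2 • z) : Cfsg.sqNorm v = Cfsg.sqNorm w ∧ (Cfsg.sqNorm v < 64 → w = v ∨ w = -v) := by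
  by_cases h1 : v = w
  · subst h1
    exact ⟨rfl, fun _ => Or.inl rfl⟩
  · by_cases h2 : v = -w
    · subst h2
      refine ⟨sq_neg w, fun _ => Or.inr ?_⟩
      rw [neg_neg]
    · obtain ⟨e1, e2⟩ := Cfsg.Agent.S5592.key v w hv hw h1 h2 hc
      refine ⟨by omega, fun h => ?_⟩
      omega

end Cfsg.Agent.S5551
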