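import Cfsg.Statements.S5552
import Cfsg.Agent.S1567

set_option autoImplicit false
open Cfsg

namespace Cfsg.Agent.S5552

open Cfsg.Agent.Lib.Lead.LX Cfsg.Agent.Lib.Lead.CW Cfsg.Agent.Lib.Lead.CO
open Cfsg.Agent.Lib.helper3 Cfsg.Agent.Lib.helper4 Cfsg.Agent.S0398 Cfsg.Agent.S1571
open Cfsg.Agent.S5392

/-! ### explicit vectors -/

/-- coordinates from a list indexed by `gidx` -/
def ofL (l : List ℤ) : GolayPt → ℤ := fun p => l.getD (gidx p) 0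

-- indices: 0..22 = some k, 23 = none
/-- `a = 4e_0 + 4e_1` -/
def a1 : GolayPt → ℤ := ofL [4, 4, 0, 0, 0, 0, 0, 0, 0, 0, 0, 0, 0, 0, 0, 0, 0, 0, 0, 0, 0, 0, 0, 0]
/-- `b = -4e_1 + 4e_2` -/
def a2 : GolayPt → ℤ := ofL [0, -4, 4, 0, 0, 0, 0, 0, 0, 0, 0, 0, 0, 0, 0, 0, 0, 0, 0, 0, 0, 0, 0, 0]
/-- `c = -4e_2 + 4e_3` -/
def a3 : GolayPt → ℤ := ofL [0, 0, -4, 4, 0, 0, 0, 0, 0, 0, 0, 0, 0, 0, 0, 0, 0, 0, 0, 0, 0, 0, 0, 0]

/-- `u = 4e_3 + 4e_∞` -/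
def b1 : GolayPt → ℤ := ofL [0, 0, 0, 4, 0, 0, 0, 0, 0, 0, 0, 0, 0, 0, 0, 0, 0, 0, 0, 0, 0, 0, 0, 4]
/-- `v = -4e_3 + 4e_0` -/
def b2 : GolayPt → ℤ := ofL [4, 0, 0, -4, 0, 0, 0, 0, 0, 0, 0, 0, 0, 0, 0, 0, 0, 0, 0, 0, 0, 0, 0, 0]
/-- `w`: 2 on the octad `{∞,0,1,2,4,13,16,22}` with minus signs at `∞` and `0` -/
def b3 : GolayPt → ℤ := ofL [-2, 2, 2, 0, 2, 0, 0, 0, 0, 0, 0, 0, 0, 2, 0, 0, 2, 0, 0, 0, 0, 0, 2, -2]

set_option maxRecDepth 100000 in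
theorem chkA : isLeechB a1 = true ∧ isLeechB a2 = true ∧ isLeechB a3 = true ∧
    sqNorm a1 = 32 ∧ sqNorm a2 = 32 ∧ sqNorm a3 = 32 ∧ sqNorm (a1 + a2) = 32 ∧
    sqNorm (a1 + a3) = 64 ∧ sqNorm (a2 + a3) = 32 ∧ sqNorm (a1 + a2 + a3) = 32 := by
  decide +kernel

set_option maxRecDepth 100000 in
theorem chkB : isLeechB b1 = true ∧ isLeechB b2 = true ∧ isLeechB b3 = true ∧
    sqNorm b1 = 32 ∧ sqNorm b2 = 32 ∧ sqNorm b3 = 32 ∧ sqNorm (b1 + b2) = 32 ∧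
    sqNorm (b1 + b3) = 48 ∧ sqNorm (b2 + b3) = 48 ∧ sqNorm (b1 + b2 + b3) = 32 := by
  decide +kernel

/-! ### arithmetic -/

theorem sqNorm_add_two (y z : GolayPt → ℤ) :
    sqNorm (y + (z + z)) = 2 * sqNorm (y + z) - sqNorm y + 2 * sqNorm z := by
  unfold sqNorm
  rw [Finset.mul_sum, Finset.mul_sum, ← Finset.sum_sub_distrib, ← Finset.sum_add_distrib]
  apply Finset.sum_congr rfl
  intro p _
  simp only [Pi.add_apply]
  ring

theorem T_coset (y z : GolayPt → ℤ) (hy : y ∈ leechLattice) (hz : z ∈ leechLattice) :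
    ((sqNorm (y + (z + z)) / 16 : ℤ) : ZMod 2) = ((sqNorm y / 16 : ℤ) : ZMod 2) := by
  obtain ⟨a, ha⟩ := Cfsg.Agent.S0392.result (y + z) (leechLattice.add_mem hy hz)
  obtain ⟨b, hb⟩ := Cfsg.Agent.S0392.result y hy
  obtain ⟨c, hc⟩ := Cfsg.Agent.S0392.result z hz
  rw [sqNorm_add_two, ha, hb, hc]
  have e1 : (2 * (16 * a) - 16 * b + 2 * (16 * c)) / 16 = 2 * a - b + 2 * c := by omega
  have e2 : 16 * b / 16 = b := by omega
  rw [e1, e2]
  push_cast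
  have h2 : (2 : ZMod 2) = 0 := by decide
  rw [h2]
  ring_nf
  have : ∀ t : ZMod 2, -t = t := by decide
  exact this _

theorem zmod2_lemmaA : ∀ q2 q4 : ZMod 2, q2 + q2 + q2 + q2 = q2 + q4 + q2 → q4 = 0 := by decide

theorem zmod2_lemmaB : ∀ q2 q3 : ZMod 2, q2 + q2 + q2 + q2 = q2 + q3 + q3 → q2 = 0 := by decide

theorem zmod2_ne : ∀ q : ZMod 2, q ≠ 0 → q = 1 := by decide

/-- On the Leech lattice of the definitions, let Q be a function to the field with two elements that is constant on cosets of twice the lattice, is a quadratic form there (Q(u+v+w) + Q(u) + Q(v) + Q(w) = Q(u+v) + Q(u+w) + Q(v+w) for all u, v, w), is invariant under every lattice automorphism, and is not identically zero. Then Q(v) is the squared length of v divided by 16, reduced modulo 2, for every lattice vector v (squared lengths of lattice vectors are multiples of 16). -/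
theorem result (Q : ↥Cfsg.leechLattice → ZMod 2) (hcoset : ∀ v w : ↥Cfsg.leechLattice, Q (v + (w + w)) = Q v) (hquad : ∀ u v w : ↥Cfsg.leechLattice, Q (u + v + w) + Q u + Q v + Q w = Q (u + v) + Q (u + w) + Q (v + w)) (hinv : ∀ (g : ↥Cfsg.Co0) (v : ↥Cfsg.leechLattice), Q (g • v) = Q v) (hne : ∃ v : ↥Cfsg.leechLattice, Q v ≠ 0) (v : ↥Cfsg.leechLattice) : Q v = ((Cfsg.sqNorm (v : Cfsg.GolayPt → ℤ) / 16 : ℤ) : ZMod 2) := by
  -- constancy on types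
  have hconst : ∀ (t : ℤ) (std : ↥leechLattice),
      (∀ x : ↥leechLattice, sqNorm x.1 = t → Rel x std) →
      ∀ x : ↥leechLattice, sqNorm x.1 = t → Q x = Q std := by
    intro t std htr x hx
    obtain ⟨g, hg⟩ := htr x hx
    rw [← hg]
    exact (hinv g x).symm
  have c32 := hconst 32 v32 trans32
  have c48 := hconst 48 u48 trans48
  have c64 := hconst 64 (ev none) trans64
  -- Q 0 = 0
  have hQ0 : Q 0 = 0 := by
    have := hquad 0 0 0
    simp only [add_zero] at this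
    have key : ∀ q : ZMod 2, q + q + q + q = q + q + q → q = 0 := by decide
    exact key _ this
  -- q4 = 0
  obtain ⟨ma1, ma2, ma3, na1, na2, na3, na12, na13, na23, na123⟩ := chkA
  obtain ⟨mb1, mb2, mb3, nb1, nb2, nb3, nb12, nb13, nb23, nb123⟩ := chkB
  have hq4 : Q (ev none) = 0 := by
    obtain ⟨A1, hA1⟩ : ∃ A : ↥leechLattice, A.1 = a1 := ⟨⟨a1, isLeechB_sound _ ma1⟩, rfl⟩
    obtain ⟨A2, hA2⟩ : ∃ A : ↥leechLattice, A.1 = a2 := ⟨⟨a2, isLeechB_sound _ ma2⟩, rfl⟩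
    obtain ⟨A3, hA3⟩ : ∃ A : ↥leechLattice, A.1 = a3 := ⟨⟨a3, isLeechB_sound _ ma3⟩, rfl⟩
    have n1 : sqNorm A1.1 = 32 := by rw [hA1]; exact na1
    have n2 : sqNorm A2.1 = 32 := by rw [hA2]; exact na2
    have n3 : sqNorm A3.1 = 32 := by rw [hA3]; exact na3
    have n12 : sqNorm (A1 + A2).1 = 32 := by rw [AddSubgroup.coe_add, hA1, hA2]; exact na12
    have n13 : sqNorm (A1 + A3).1 = 64 := by rw [AddSubgroup.coe_add, hA1, hA3]; exact na13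
    have n23 : sqNorm (A2 + A3).1 = 32 := by rw [AddSubgroup.coe_add, hA2, hA3]; exact na23
    have n123 : sqNorm (A1 + A2 + A3).1 = 32 := by
      rw [AddSubgroup.coe_add, AddSubgroup.coe_add, hA1, hA2, hA3]; exact na123
    have := hquad A1 A2 A3
    rw [c32 A1 n1, c32 A2 n2, c32 A3 n3, c32 (A1 + A2) n12, c64 (A1 + A3) n13,
      c32 (A2 + A3) n23, c32 (A1 + A2 + A3) n123] at this
    exact zmod2_lemmaA _ _ this
  have hq2 : Q v32 = 0 := by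
    obtain ⟨A1, hA1⟩ : ∃ A : ↥leechLattice, A.1 = b1 := ⟨⟨b1, isLeechB_sound _ mb1⟩, rfl⟩
    obtain ⟨A2, hA2⟩ : ∃ A : ↥leechLattice, A.1 = b2 := ⟨⟨b2, isLeechB_sound _ mb2⟩, rfl⟩
    obtain ⟨A3, hA3⟩ : ∃ A : ↥leechLattice, A.1 = b3 := ⟨⟨b3, isLeechB_sound _ mb3⟩, rfl⟩
    have n1 : sqNorm A1.1 = 32 := by rw [hA1]; exact nb1
    have n2 : sqNorm A2.1 = 32 := by rw [hA2]; exact nb2
    have n3 : sqNorm A3.1 = 32 := by rw [hA3]; exact nb3
    have n12 : sqNorm (A1 + A2).1 = 32 := by rw [AddSubgroup.coe_add, hA1, hA2]; exact nb12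
    have n13 : sqNorm (A1 + A3).1 = 48 := by rw [AddSubgroup.coe_add, hA1, hA3]; exact nb13
    have n23 : sqNorm (A2 + A3).1 = 48 := by rw [AddSubgroup.coe_add, hA2, hA3]; exact nb23
    have n123 : sqNorm (A1 + A2 + A3).1 = 32 := by
      rw [AddSubgroup.coe_add, AddSubgroup.coe_add, hA1, hA2, hA3]; exact nb123
    have := hquad A1 A2 A3
    rw [c32 A1 n1, c32 A2 n2, c32 A3 n3, c32 (A1 + A2) n12, c48 (A1 + A3) n13,
      c48 (A2 + A3) n23, c32 (A1 + A2 + A3) n123] at this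
    exact zmod2_lemmaB _ _ this
  -- reduction to short vectors
  have hred : ∀ x : ↥leechLattice, ∃ y : ↥leechLattice, sqNorm y.1 ≤ 64 ∧ Q x = Q y ∧
      ((sqNorm x.1 / 16 : ℤ) : ZMod 2) = ((sqNorm y.1 / 16 : ℤ) : ZMod 2) := by
    intro x
    obtain ⟨y, hyL, hyn, z, hzL, hxyz⟩ := exists_short x.1 x.2
    have hx : x = (⟨y, hyL⟩ : ↥leechLattice) + (⟨z, hzL⟩ + ⟨z, hzL⟩) := by
      apply Subtype.ext
      show x.1 = y + (z + z)
      rw [← two_nsmul, ← hxyz]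
      abel
    refine ⟨⟨y, hyL⟩, hyn, ?_, ?_⟩
    · rw [hx]
      exact hcoset _ _
    · rw [hx]
      exact T_coset y z hyL hzL
  have hshort : ∀ y : ↥leechLattice, sqNorm y.1 ≤ 64 → sqNorm y.1 ≠ 48 → Q y = 0 := by
    intro y hy h48
    rcases Cfsg.Agent.Lib.Lead.LX.norm_cases y.1
      ((Cfsg.Agent.Lib.Lead.LX.mem_S y.1).2 ⟨y.2, hy⟩) with h | h | h | h
    · have : y = 0 := Subtype.ext ((Cfsg.Agent.Lib.Lead.LX.sqNorm_eq_zero_iff y.1).1 h)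
      rw [this]
      exact hQ0
    · rw [c32 y h]; exact hq2
    · exact absurd h h48
    · rw [c64 y h]; exact hq4
  have hq3 : Q u48 = 1 := by
    apply zmod2_ne
    intro h0
    obtain ⟨x, hx⟩ := hne
    apply hx
    obtain ⟨y, hyn, hQ, -⟩ := hred x
    rw [hQ]
    by_cases h48 : sqNorm y.1 = 48
    · rw [c48 y h48]; exact h0
    · exact hshort y hyn h48
  obtain ⟨y, hyn, hQ, hT⟩ := hred v
  rw [hQ, hT]
  rcases Cfsg.Agent.Lib.Lead.LX.norm_cases y.1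
    ((Cfsg.Agent.Lib.Lead.LX.mem_S y.1).2 ⟨y.2, hyn⟩) with h | h | h | h
  · rw [hshort y hyn (by rw [h]; norm_num), h]
    decide
  · rw [hshort y hyn (by rw [h]; norm_num), h]
    decide
  · rw [c48 y h, hq3, h]
    decide
  · rw [hshort y hyn (by rw [h]; norm_num), h]
    decide

end Cfsg.Agent.S5552
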