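import Cfsg.Statements.S5553
import Cfsg.Agent.S0393
import Cfsg.Agent.Lib.Lead.LeechCount2

set_option autoImplicit false
open Cfsg

namespace Cfsg.Agent.S5553

open Cfsg.Agent.Lib.Lead.LC Cfsg.Agent.Lib.Lead.LC2 Cfsg.Agent.Lib.helper4 Cfsg.Agent.S0393

/-- index from the count of representatives with entries in `0..7` -/
theorem card_mul_index_of_box (H : AddSubgroup (GolayPt → ℤ)) (hker : red8.ker ≤ H)
    (F : Finset (GolayPt → ℤ)) (hF : ∀ x, x ∈ F ↔ (x ∈ H ∧ ∀ i, 0 ≤ x i ∧ x i < 8)) :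
    F.card * H.index = 2 ^ 72 := by
  classical
  have hcard : Nat.card (H.map red8) = F.card := by
    rw [← Nat.card_eq_finsetCard F]
    symm
    apply Nat.card_eq_of_bijective
      (fun x : F => (⟨red8 x.1, ⟨x.1, ((hF x.1).1 x.2).1, rfl⟩⟩ : H.map red8))
    constructor
    · rintro ⟨x, hx⟩ ⟨y, hy⟩ h
      have h' : red8 x = red8 y := congrArg Subtype.val h
      apply Subtype.ext
      funext i
      have hi := congrFun h' i
      rw [red8_apply, red8_apply] at hi
      have hmod : x i % 8 = y i % 8 := (ZMod.intCast_eq_intCast_iff (x i) (y i) 8).1 hi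
      have bx := ((hF x).1 hx).2 i
      have by' := ((hF y).1 hy).2 i
      show x i = y i
      omega
    · rintro ⟨z, x, hx, rfl⟩
      have hx' : (fun i => x i % 8) ∈ H := by
        have hk : x - (fun i => x i % 8) ∈ H := by
          apply hker
          rw [AddMonoidHom.mem_ker]
          funext i
          rw [red8_apply, Pi.zero_apply, Pi.sub_apply]
          exact (ZMod.intCast_zmod_eq_zero_iff_dvd _ 8).2 (Int.mod_modEq (x i) 8).dvd
        have := H.sub_mem hx hk
        rwa [sub_sub_cancel] at this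
      refine ⟨⟨fun i => x i % 8, (hF _).2 ⟨hx', fun i =>
        ⟨Int.emod_nonneg _ (by norm_num), Int.emod_lt_of_pos _ (by norm_num)⟩⟩⟩, ?_⟩
      apply Subtype.ext
      funext i
      show red8 (fun i => x i % 8) i = red8 x i
      rw [red8_apply, red8_apply]
      exact (ZMod.intCast_eq_intCast_iff _ _ 8).2 (Int.mod_modEq (x i) 8)
  have h1 : (H.map red8).index = H.index := AddSubgroup.index_map_eq _ red8_surj hker
  have h2 := AddSubgroup.card_mul_index (H.map red8)
  rw [hcard, h1] at h2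
  rw [h2, Nat.card_eq_fintype_card, Fintype.card_fun, ZMod.card, card_golayPt]
  norm_num

/-- the subgroup: lattice vectors with all entries `≡ 0` or all entries `≡ 2` modulo 4 -/
def A : AddSubgroup (GolayPt → ℤ) where
  carrier := {x | x ∈ leechLattice ∧ ((∀ i, x i % 4 = 0) ∨ (∀ i, x i % 4 = 2))}
  zero_mem' := ⟨leechLattice.zero_mem, Or.inl (fun _ => rfl)⟩
  add_mem' := by
    rintro x y ⟨hx, hx'⟩ ⟨hy, hy'⟩
    refine ⟨leechLattice.add_mem hx hy, ?_⟩
    rcases hx' with hx' | hx' <;> rcases hy' with hy' | hy'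
    · left; intro i; have := hx' i; have := hy' i; show (x i + y i) % 4 = 0; omega
    · right; intro i; have := hx' i; have := hy' i; show (x i + y i) % 4 = 2; omega
    · right; intro i; have := hx' i; have := hy' i; show (x i + y i) % 4 = 2; omega
    · left; intro i; have := hx' i; have := hy' i; show (x i + y i) % 4 = 0; omega
  neg_mem' := by
    rintro x ⟨hx, hx'⟩
    refine ⟨leechLattice.neg_mem hx, ?_⟩
    rcases hx' with hx' | hx'
    · left; intro i; have := hx' i; show (-x i) % 4 = 0; omega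
    · right; intro i; have := hx' i; show (-x i) % 4 = 2; omega

theorem mem_A (x : GolayPt → ℤ) :
    x ∈ A ↔ x ∈ leechLattice ∧ ((∀ i, x i % 4 = 0) ∨ (∀ i, x i % 4 = 2)) := Iff.rfl

theorem A_le : A ≤ leechLattice := fun _ hx => hx.1

theorem ker_le_A : red8.ker ≤ A := by
  intro x hx
  refine ⟨ker_le hx, Or.inl fun i => ?_⟩
  rw [AddMonoidHom.mem_ker] at hx
  have := congrFun hx i
  rw [red8_apply, Pi.zero_apply] at this
  have h8 : (8 : ℤ) ∣ x i := (ZMod.intCast_zmod_eq_zero_iff_dvd (x i) 8).1 this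
  omega

theorem two_smul_mem (v : GolayPt → ℤ) (hv : v ∈ leechLattice) : (2 : ℤ) • v ∈ A := by
  refine ⟨leechLattice.zsmul_mem hv 2, ?_⟩
  rw [mem_leechLattice_iff, mem_leechSet_iff] at hv
  obtain ⟨m, hm, -, -⟩ := hv
  rcases Int.emod_two_eq_zero_or_one m with h | h
  · left
    intro i
    have : v i % 2 = m % 2 := hm i
    show (2 • v) i % 4 = 0
    simp only [Pi.smul_apply, smul_eq_mul]
    omega
  · right
    intro i
    have : v i % 2 = m % 2 := hm i
    show (2 • v) i % 4 = 2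
    simp only [Pi.smul_apply, smul_eq_mul]
    omega

theorem sq_of_mod4_zero (a : ℤ) (h : a % 4 = 0) : (32 : ℤ) ∣ a ^ 2 - 4 * a := by
  obtain ⟨z, rfl⟩ : (4 : ℤ) ∣ a := Int.dvd_of_emod_eq_zero h
  obtain ⟨t, ht⟩ := Int.even_mul_pred_self z
  refine ⟨t, ?_⟩
  have : (4 * z) ^ 2 - 4 * (4 * z) = 16 * (z * (z - 1)) := by ring
  rw [this, ht]; ring

theorem sq_of_mod4_two (a : ℤ) (h : a % 4 = 2) : (32 : ℤ) ∣ a ^ 2 - 4 := by
  obtain ⟨z, hz⟩ : (4 : ℤ) ∣ a - 2 := by omega
  have ha : a = 4 * z + 2 := by omega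
  obtain ⟨t, ht⟩ := Int.even_mul_succ_self z
  refine ⟨t, ?_⟩
  have : a ^ 2 - 4 = 16 * (z * (z + 1)) := by rw [ha]; ring
  rw [this, ht]; ring

theorem norm_dvd (v : GolayPt → ℤ) (hv : v ∈ A) : (32 : ℤ) ∣ sqNorm v := by
  obtain ⟨hL, h | h⟩ := hv
  · rw [mem_leechLattice_iff, mem_leechSet_iff] at hL
    obtain ⟨m, hm, hsum, -⟩ := hL
    have hm2 : m % 2 = 0 := by
      have h1 : v none % 2 = m % 2 := hm none
      have h2 := h none
      omega
    have hs : (∑ i, v i) % 8 = (4 * m) % 8 := hsum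
    have hs8 : (8 : ℤ) ∣ ∑ i, v i := by omega
    have hdecomp : sqNorm v = ∑ i, (v i ^ 2 - 4 * v i) + 4 * ∑ i, v i := by
      unfold sqNorm
      rw [Finset.mul_sum, ← Finset.sum_add_distrib]
      apply Finset.sum_congr rfl
      intro i _
      ring
    rw [hdecomp]
    apply dvd_add
    · exact Finset.dvd_sum (fun i _ => sq_of_mod4_zero _ (h i))
    · obtain ⟨t, ht⟩ := hs8
      exact ⟨t, by rw [ht]; ring⟩
  · have hdecomp : sqNorm v = ∑ i, (v i ^ 2 - 4) + 96 := by
      unfold sqNorm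
      rw [Finset.sum_sub_distrib]
      simp
    rw [hdecomp]
    apply dvd_add
    · exact Finset.dvd_sum (fun i _ => sq_of_mod4_two _ (h i))
    · norm_num

theorem A_index : A.index = 2 ^ 48 := by
  classical
  obtain ⟨F0, hF0, hc0⟩ := core_gen (∅ : Finset ℤ) ({0, 4} : Finset ℤ) 2 (Or.inr rfl)
    (by decide) (by decide) (fun _ => True) (fun w => G' ∅ {0, 4} w (4 * (2 : ℤ).toNat))
    (fun C => card_res C _ _ (by decide) (by decide) _)
  obtain ⟨F2, hF2, hc2⟩ := core_gen ({2, 6} : Finset ℤ) (∅ : Finset ℤ) 2 (Or.inr rfl)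
    (by decide) (by decide) (fun _ => True) (fun w => G' {2, 6} ∅ w (4 * (2 : ℤ).toNat))
    (fun C => card_res C _ _ (by decide) (by decide) _)
  rw [sum_by_weight (fun w => G' _ _ w _)] at hc0 hc2
  have n0 : G' (∅ : Finset ℤ) ({0, 4} : Finset ℤ) 0 (4 * (2 : ℤ).toNat)
      + 759 * G' (∅ : Finset ℤ) ({0, 4} : Finset ℤ) 8 (4 * (2 : ℤ).toNat)
      + 2576 * G' (∅ : Finset ℤ) ({0, 4} : Finset ℤ) 12 (4 * (2 : ℤ).toNat)
      + 759 * G' (∅ : Finset ℤ) ({0, 4} : Finset ℤ) 16 (4 * (2 : ℤ).toNat)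
      + G' (∅ : Finset ℤ) ({0, 4} : Finset ℤ) 24 (4 * (2 : ℤ).toNat) = 2 ^ 23 := by
    decide +kernel
  have n2 : G' ({2, 6} : Finset ℤ) (∅ : Finset ℤ) 0 (4 * (2 : ℤ).toNat)
      + 759 * G' ({2, 6} : Finset ℤ) (∅ : Finset ℤ) 8 (4 * (2 : ℤ).toNat)
      + 2576 * G' ({2, 6} : Finset ℤ) (∅ : Finset ℤ) 12 (4 * (2 : ℤ).toNat)
      + 759 * G' ({2, 6} : Finset ℤ) (∅ : Finset ℤ) 16 (4 * (2 : ℤ).toNat)
      + G' ({2, 6} : Finset ℤ) (∅ : Finset ℤ) 24 (4 * (2 : ℤ).toNat) = 2 ^ 23 := by
    decide +kernel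
  rw [n0] at hc0
  rw [n2] at hc2
  have hF : ∀ x, x ∈ F0 ∪ F2 ↔ (x ∈ A ∧ ∀ i, 0 ≤ x i ∧ x i < 8) := by
    intro x
    rw [Finset.mem_union, hF0, hF2, mem_A]
    constructor
    · rintro (⟨h1, -, h3⟩ | ⟨h1, -, h3⟩)
      · have h3' : ∀ i, x i = 0 ∨ x i = 4 := by
          intro i
          have := h3 i
          simpa using this
        exact ⟨⟨h1, Or.inl fun i => by rcases h3' i with h | h <;> rw [h] <;> rfl⟩,
          fun i => by rcases h3' i with h | h <;> rw [h] <;> norm_num⟩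
      · have h3' : ∀ i, x i = 2 ∨ x i = 6 := by
          intro i
          have := h3 i
          simpa using this
        exact ⟨⟨h1, Or.inr fun i => by rcases h3' i with h | h <;> rw [h] <;> rfl⟩,
          fun i => by rcases h3' i with h | h <;> rw [h] <;> norm_num⟩
    · rintro ⟨⟨h1, h | h⟩, hb⟩
      · left
        refine ⟨h1, trivial, fun i => ?_⟩
        have := h i
        have := hb i
        simp only [Finset.empty_union, Finset.mem_insert, Finset.mem_singleton]
        omega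
      · right
        refine ⟨h1, trivial, fun i => ?_⟩
        have := h i
        have := hb i
        simp only [Finset.union_empty, Finset.mem_insert, Finset.mem_singleton]
        omega
  have hdisj : Disjoint F0 F2 := by
    rw [Finset.disjoint_left]
    intro x hx hx'
    have a1 := ((hF0 x).1 hx).2.2 none
    have a2 := ((hF2 x).1 hx').2.2 none
    simp only [Finset.empty_union, Finset.union_empty, Finset.mem_insert,
      Finset.mem_singleton] at a1 a2
    omega
  have h := card_mul_index_of_box A ker_le_A (F0 ∪ F2) hF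
  rw [Finset.card_union_of_disjoint hdisj, hc0, hc2] at h
  have h' : (2 : ℕ) ^ 24 * A.index = 2 ^ 24 * 2 ^ 48 := by
    have e1 : (2 : ℕ) ^ 23 + 2 ^ 23 = 2 ^ 24 := by norm_num
    have e2 : (2 : ℕ) ^ 24 * 2 ^ 48 = 2 ^ 72 := by norm_num
    rw [e1] at h
    rw [h, e2]
  exact Nat.eq_of_mul_eq_mul_left (by norm_num) h'

/-- The Leech lattice of the definitions has an additive subgroup A containing twice the lattice, of index 2^12 in the lattice, all of whose vectors have squared length divisible by 32: the invariant quadratic form 'squared length over 16 modulo 2' on the lattice modulo twice the lattice (a 24-dimensional space over the field with two elements) vanishes on a 12-dimensional subspace, so it is of plus type. -/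
theorem result : ∃ A : AddSubgroup (Cfsg.GolayPt → ℤ), A ≤ Cfsg.leechLattice ∧ (∀ v ∈ Cfsg.leechLattice, (2 : ℤ) • v ∈ A) ∧ (A.addSubgroupOf Cfsg.leechLattice).index = 2 ^ 12 ∧ ∀ v ∈ A, (32 : ℤ) ∣ Cfsg.sqNorm v := by
  refine ⟨A, A_le, two_smul_mem, ?_, norm_dvd⟩
  have h := AddSubgroup.relIndex_mul_index A_le
  rw [A_index, Cfsg.Agent.S0393.result] at h
  have h' : A.relIndex leechLattice * 2 ^ 36 = 2 ^ 12 * 2 ^ 36 := by rw [h]; norm_num
  exact Nat.eq_of_mul_eq_mul_right (by norm_num) h'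

end Cfsg.Agent.S5553
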