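import Cfsg.Statements.S5555
import Cfsg.Agent.Lib.Helper28.TT.AsmA
import Cfsg.Agent.Lib.Helper28.TT.AsmB

set_option autoImplicit false
open Cfsg

namespace Cfsg.Agent.S5555

/-- Let G be a finite group generated by a conjugacy class D of 3-transpositions, with trivial centre and with generalized Fitting subgroup F*(G) = O₂(G) (so the Fitting subgroup is O₂(G) too). If G/O₂(G) is isomorphic to the derived group of SU₃(2) (the group of order 54 generated by nine 3-transpositions), then O₂(G) has a complement in G. -/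
theorem result {G : Type*} [Group G] [Finite G] {D : Set G} (hD : Cfsg.IsThreeTranspositionClass D)
    (hZ : Subgroup.center G = ⊥) (hF : Cfsg.generalizedFittingSubgroup G = Cfsg.pCore 2 G)
    (hq : ∃ (F : Type) (_ : Field F) (_ : Fintype F), Fintype.card F = 4 ∧ Nonempty (G ⧸ Cfsg.pCore 2 G ≃* ↥(commutator ↥(Cfsg.SU 3 F 2)))) :
    ∃ K : Subgroup G, (Cfsg.pCore 2 G).IsComplement' K := by
  obtain ⟨F, _, _, hF4, ⟨φ⟩⟩ := hq
  obtain ⟨h54, x, y, hx, hy, hxy⟩ := Cfsg.Agent.Lib.Helper28.TT.comm_facts (F := F) hF4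
  apply Cfsg.Agent.Lib.Helper28.TT.complement_of_quot54 hD
  · rw [Nat.card_congr φ.toEquiv, h54]
  · refine ⟨φ.symm x, φ.symm y, ?_, ?_, ?_⟩
    · rw [← map_pow, hx, map_one]
    · rw [← map_pow, hy, map_one]
    · intro h
      apply hxy
      rw [← map_mul, ← map_mul] at h
      exact φ.symm.injective h

end Cfsg.Agent.S5555
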