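import Cfsg.Statements.S5559
import Cfsg.Agent.Lib.Helper28.T9.Top

set_option autoImplicit false
open Cfsg

namespace Cfsg.Agent.S5559

open Cfsg.Agent.Lib.Helper28.T9

theorem result {H : Type*} [Group H] [Finite H] {E : Set H} (hE : Cfsg.IsThreeTranspositionClass E)
    (hE2 : ∃ a ∈ E, ∃ b ∈ E, a ≠ b) (hF : Cfsg.generalizedFittingSubgroup H = Cfsg.pCore 2 H)
    (h232 : ∃ P : Sylow 3 (H ⧸ Cfsg.pCore 2 H), (P : Subgroup (H ⧸ Cfsg.pCore 2 H)).Normal ∧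
      ∃ k : ℕ, (P : Subgroup (H ⧸ Cfsg.pCore 2 H)).index = 2 ^ k) :
    Nonempty (H ⧸ Cfsg.pCore 2 H ≃* Equiv.Perm (Fin 3)) ∨
      ∃ (F : Type) (_ : Field F) (_ : Fintype F), Fintype.card F = 4 ∧
        Nonempty (H ⧸ Cfsg.pCore 2 H ≃* ↥(commutator ↥(Cfsg.SU 3 F 2))) := by
  have hQ : IsPGroup 2 (Cfsg.pCore 2 H) := Cfsg.Agent.Lib.Helper18.pCore_isPGroup 2 H
  have hcent : Subgroup.centralizer ((Cfsg.pCore 2 H : Subgroup H) : Set H) ≤ Cfsg.pCore 2 H := by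
    have := Cfsg.Agent.S1265.result (G := H)
    rwa [hF] at this
  have hmax : ∀ N : Subgroup H, N.Normal → IsPGroup 2 N → N ≤ Cfsg.pCore 2 H :=
    fun N hN hp => Cfsg.Agent.Lib.Helper18.le_pCore hN hp
  obtain ⟨V, iV, iA, θ, two, θmul, θsurj, θeq, hker⟩ := exists_module (Cfsg.pCore 2 H) hQ hcent hmax
  exact top_abs hE hE2 (Cfsg.pCore 2 H) hQ h232 V θ two θmul θsurj θeq hker

end Cfsg.Agent.S5559
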