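import Cfsg.Statements.S5562

set_option autoImplicit false
open Cfsg

namespace Cfsg.Agent.S5562

theorem core {G : Type*} [Group G] (e x s : G) (he : e * e = 1) (hx : x * x = 1)
    (hA : s * s = e * (x * e * x)) (hB : e * s * e = s⁻¹) (hC : x * s * x = s⁻¹) :
    (e * s) * x = x * (e * s) ∧ e * ((e * s) * x) = ((e * s) * x) * e ∧
    (e * s) * (e * s) = 1 ∧ (e * s) * (x * e * x) * (e * s) = e := by
  have R1 : ∀ w, e * (e * w) = w := fun w => by rw [← mul_assoc, he, one_mul]
  have R2 : ∀ w, x * (x * w) = w := fun w => by rw [← mul_assoc, hx, one_mul]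
  have R3 : e * s = s⁻¹ * e := by
    calc e * s = (e * s * e) * e := by rw [mul_assoc (e * s), he, mul_one]
      _ = s⁻¹ * e := by rw [hB]
  have R3' : ∀ w, e * (s * w) = s⁻¹ * (e * w) := fun w => by
    rw [← mul_assoc, R3, mul_assoc]
  have R4 : e * s⁻¹ = s * e := by
    have : s * e * s = e := by
      calc s * e * s = s * (e * s) := by rw [mul_assoc]
        _ = s * (s⁻¹ * e) := by rw [R3]
        _ = e := by rw [mul_inv_cancel_left]
    calc e * s⁻¹ = (s * e * s) * s⁻¹ := by rw [this]
      _ = s * e := by rw [mul_inv_cancel_right]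
  have R4' : ∀ w, e * (s⁻¹ * w) = s * (e * w) := fun w => by
    rw [← mul_assoc, R4, mul_assoc]
  have R5 : x * s = s⁻¹ * x := by
    calc x * s = (x * s * x) * x := by rw [mul_assoc (x * s), hx, mul_one]
      _ = s⁻¹ * x := by rw [hC]
  have R5' : ∀ w, x * (s * w) = s⁻¹ * (x * w) := fun w => by
    rw [← mul_assoc, R5, mul_assoc]
  have R6 : x * s⁻¹ = s * x := by
    have : s * x * s = x := by
      calc s * x * s = s * (x * s) := by rw [mul_assoc]
        _ = s * (s⁻¹ * x) := by rw [R5]
        _ = x := by rw [mul_inv_cancel_left]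
    calc x * s⁻¹ = (s * x * s) * s⁻¹ := by rw [this]
      _ = s * x := by rw [mul_inv_cancel_right]
  have R6' : ∀ w, x * (s⁻¹ * w) = s * (x * w) := fun w => by
    rw [← mul_assoc, R6, mul_assoc]
  have R7 : x * e = s⁻¹ * (s⁻¹ * (e * x)) := by
    have h1 : s * (s * (x * e)) = e * x := by
      rw [← mul_assoc, hA]
      simp only [mul_assoc]
      rw [R2, he, mul_one]
    calc x * e = s⁻¹ * (s⁻¹ * (s * (s * (x * e)))) := by
          rw [inv_mul_cancel_left, inv_mul_cancel_left]
      _ = s⁻¹ * (s⁻¹ * (e * x)) := by rw [h1]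
  have R7' : ∀ w, x * (e * w) = s⁻¹ * (s⁻¹ * (e * (x * w))) := fun w => by
    rw [← mul_assoc, R7]
    simp only [mul_assoc]
  refine ⟨?_, ?_, ?_, ?_⟩
  · simp only [mul_assoc, R3, R3', R4, R4', R5, R5', R6, R6', R7, R7', R1, R2, he, hx,
      mul_one, mul_inv_cancel_left, inv_mul_cancel_left]
  · simp only [mul_assoc, R3, R3', R4, R4', R5, R5', R6, R6', R7, R7', R1, R2, he, hx,
      mul_one, mul_inv_cancel_left, inv_mul_cancel_left]
  · simp only [mul_assoc, R3, R3', R4, R4', R5, R5', R6, R6', R7, R7', R1, R2, he, hx,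
      mul_one, mul_inv_cancel_left, inv_mul_cancel_left, inv_mul_cancel]
  · simp only [mul_assoc, R3, R3', R4, R4', R5, R5', R6, R6', R7, R7', R1, R2, he, hx,
      mul_one, mul_inv_cancel_left, inv_mul_cancel_left, inv_mul_cancel]

theorem conj_mem {G : Type*} [Group G] (d e g : G) (he : e ∈ conjugatesOf d) :
    g * e * g⁻¹ ∈ conjugatesOf d := by
  change IsConj d e at he; change IsConj d (g * e * g⁻¹)
  exact he.trans (isConj_iff.mpr ⟨g, rfl⟩)

theorem invol_of_mem {G : Type*} [Group G] (d e : G) (hd : d * d = 1) (he : e ∈ conjugatesOf d) :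
    e * e = 1 := by
  change IsConj d e at he; rw [isConj_iff] at he
  obtain ⟨c, rfl⟩ := he
  calc c * d * c⁻¹ * (c * d * c⁻¹) = c * (d * d) * c⁻¹ := by group
    _ = 1 := by rw [hd]; group

theorem result {G : Type*} [Group G] [Finite G] (d : G) (hd : orderOf d = 2)
    (hodd : ∀ a ∈ conjugatesOf d, ∀ b ∈ conjugatesOf d, Odd (orderOf (a * b)))
    (x : G) (hx : orderOf x = 2) :
    ∀ e ∈ conjugatesOf d,
      ∃! a : G, a ∈ conjugatesOf d ∧ Commute a x ∧ Commute e (a * x) := by
  intro e he
  have hdd : d * d = 1 := by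
    have := pow_orderOf_eq_one d
    rwa [hd, sq] at this
  have hxx : x * x = 1 := by
    have := pow_orderOf_eq_one x
    rwa [hx, sq] at this
  have hxinv : x⁻¹ = x := inv_eq_of_mul_eq_one_left hxx
  have hee : e * e = 1 := invol_of_mem d e hdd he
  have heinv : e⁻¹ = e := inv_eq_of_mul_eq_one_left hee
  have hf : x * e * x ∈ conjugatesOf d := by
    have := conj_mem d e x he
    rwa [hxinv] at this
  have hff : (x * e * x) * (x * e * x) = 1 := invol_of_mem d _ hdd hf
  set r : G := e * (x * e * x) with hr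
  obtain ⟨k, hk⟩ := hodd e he (x * e * x) hf
  have hrpow : r ^ (2 * k + 1) = 1 := by
    rw [← hk]; exact pow_orderOf_eq_one r
  have hrinv : r⁻¹ = (x * e * x) * e := by
    apply inv_eq_of_mul_eq_one_right
    calc r * ((x * e * x) * e) = e * ((x * e * x) * (x * e * x)) * e := by rw [hr]; group
      _ = 1 := by rw [hff, mul_one, hee]
  have her : e * r * e⁻¹ = r⁻¹ := by
    rw [hrinv, heinv, hr]
    calc e * (e * (x * e * x)) * e = (e * e) * (x * e * x) * e := by group
      _ = (x * e * x) * e := by rw [hee, one_mul]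
  have hxr : x * r * x⁻¹ = r⁻¹ := by
    rw [hrinv, hxinv, hr]
    calc x * (e * (x * e * x)) * x = (x * e * x) * e * (x * x) := by group
      _ = (x * e * x) * e := by rw [hxx, mul_one]
  set s : G := r ^ (k + 1) with hs
  have hA : s * s = e * (x * e * x) := by
    rw [hs, ← pow_add]
    have : k + 1 + (k + 1) = (2 * k + 1) + 1 := by ring
    rw [this, pow_succ, hrpow, one_mul]
  have hB : e * s * e = s⁻¹ := by
    have h := conj_pow (a := e) (b := r) (i := k + 1)
    rw [her, inv_pow] at h
    rw [hs]
    conv_lhs => rw [← heinv]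
    rw [heinv] at h ⊢
    exact h.symm
  have hC : x * s * x = s⁻¹ := by
    have h := conj_pow (a := x) (b := r) (i := k + 1)
    rw [hxr, inv_pow] at h
    rw [hxinv] at h
    exact h.symm
  obtain ⟨c1, c2, c3, c4⟩ := core e x s hee hxx hA hB hC
  set t : G := s ^ (k + 1) with ht
  have htt : t * t = s := by
    rw [ht, ← pow_add]
    have : k + 1 + (k + 1) = 2 * (k + 1) := by ring
    rw [this, pow_mul, sq, hA, ← hr]
  have hse : e * s * e⁻¹ = s⁻¹ := by rw [heinv]; exact hB
  have hte : e * t * e = t⁻¹ := by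
    have h := conj_pow (a := e) (b := s) (i := k + 1)
    rw [hse, inv_pow, heinv] at h
    exact h.symm
  have haD : e * s ∈ conjugatesOf d := by
    have h1 : t⁻¹ * e * t⁻¹⁻¹ = e * s := by
      rw [inv_inv, ← hte, ← htt]
      calc e * t * e * e * t = e * t * (e * e) * t := by group
        _ = e * (t * t) := by rw [hee]; group
    rw [← h1]
    exact conj_mem d e t⁻¹ he
  refine ⟨e * s, ⟨haD, c1, c2⟩, ?_⟩
  rintro a' ⟨ha'D, hc1, hc2⟩
  have ha'a' : a' * a' = 1 := invol_of_mem d a' hdd ha'D
  have hc1' : a' * x = x * a' := hc1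
  have hc2' : e * (a' * x) = (a' * x) * e := hc2
  have h1 : a' * e * a' = x * e * x := by
    have : a' * (e * (a' * x)) * x = x * e * x := by
      rw [hc2']
      calc a' * (a' * x * e) * x = (a' * a') * x * e * x := by group
        _ = x * e * x := by rw [ha'a', one_mul]
    rw [← this]
    calc a' * e * a' = a' * e * a' * (x * x) := by rw [hxx, mul_one]
      _ = a' * (e * (a' * x)) * x := by group
  have h2 : a' * (x * e * x) * a' = e := by
    rw [← h1]
    calc a' * (a' * e * a') * a' = (a' * a') * e * (a' * a') := by group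
      _ = e := by rw [ha'a', one_mul, mul_one]
  have c4' : (e * s) * e * (e * s) = x * e * x := by
    have : (e * s) * ((e * s) * (x * e * x) * (e * s)) * (e * s) = (e * s) * e * (e * s) := by rw [c4]
    rw [← this]
    calc (e * s) * ((e * s) * (x * e * x) * (e * s)) * (e * s)
        = ((e * s) * (e * s)) * (x * e * x) * ((e * s) * (e * s)) := by group
      _ = x * e * x := by rw [c3, one_mul, mul_one]
  set y : G := (e * s) * a' with hy
  have hyinv : y⁻¹ = a' * (e * s) := by
    apply inv_eq_of_mul_eq_one_right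
    calc y * (a' * (e * s)) = (e * s) * (a' * a') * (e * s) := by rw [hy]; group
      _ = 1 := by rw [ha'a', mul_one, c3]
  have hye : Commute y e := by
    show y * e = e * y
    have : y * e * y⁻¹ = e := by
      rw [hyinv, hy]
      calc (e * s) * a' * e * (a' * (e * s)) = (e * s) * (a' * e * a') * (e * s) := by group
        _ = e := by rw [h1, c4]
    calc y * e = (y * e * y⁻¹) * y := by group
      _ = e * y := by rw [this]
  have hyf : Commute y (x * e * x) := by
    show y * (x * e * x) = (x * e * x) * y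
    have : y * (x * e * x) * y⁻¹ = x * e * x := by
      rw [hyinv, hy]
      calc (e * s) * a' * (x * e * x) * (a' * (e * s)) = (e * s) * (a' * (x * e * x) * a') * (e * s) := by group
        _ = x * e * x := by rw [h2, c4']
    calc y * (x * e * x) = (y * (x * e * x) * y⁻¹) * y := by group
      _ = (x * e * x) * y := by rw [this]
  have hyr : Commute y r := hye.mul_right hyf
  have hys : Commute y s := hyr.pow_right (k + 1)
  have hya : Commute y (e * s) := hye.mul_right hys
  have hyy : y * y = 1 := by
    have h3 : (e * s) * a' * (e * s) = a' := by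
      have : y * (e * s) = (e * s) * y := hya
      rw [hy] at this
      calc (e * s) * a' * (e * s) = (e * s) * ((e * s) * a') := this
        _ = ((e * s) * (e * s)) * a' := by group
        _ = a' := by rw [c3, one_mul]
    calc y * y = ((e * s) * a' * (e * s)) * a' := by rw [hy]; group
      _ = 1 := by rw [h3, ha'a']
  have hyodd : Odd (orderOf y) := hodd _ haD _ ha'D
  have hy1 : y = 1 := by
    have hdvd : orderOf y ∣ 2 := orderOf_dvd_of_pow_eq_one (by rw [sq]; exact hyy)
    have : orderOf y = 1 := by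
      rcases (Nat.dvd_prime Nat.prime_two).mp hdvd with h | h
      · exact h
      · exfalso
        rw [h] at hyodd
        exact (by decide : ¬ Odd 2) hyodd
    exact orderOf_eq_one_iff.mp this
  have : a' = (e * s)⁻¹ := by
    rw [hy] at hy1
    exact eq_inv_of_mul_eq_one_right hy1
  rw [this]
  exact inv_eq_of_mul_eq_one_left c3

end Cfsg.Agent.S5562
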