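import Cfsg.Statements.S5594
import Cfsg.Prelude.Def_Spor_Conway
import Cfsg.Agent.Lib.helper3.GolayM24
import Cfsg.Agent.Lib.helper4.LeechSign

set_option autoImplicit false
open Cfsg

namespace Cfsg.Agent.S5594

open Cfsg.Agent.Lib.helper4

/-- the codeword of sign changes: the squares modulo 23 -/
def cw : GolayPt → ZMod 2 := qrWord 0

theorem cw_mem : cw ∈ golayCode := Submodule.subset_span (Or.inl ⟨0, rfl⟩)

theorem cw_swap : ∀ p : GolayPt, (cw (projInv p) ≠ 0) ↔ ¬ (cw p ≠ 0) := by decide

theorem projInv_invol : ∀ p : GolayPt, projInv (projInv p) = p := by decide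

/-- the signed permutation squaring to negation -/
def gfun (x : GolayPt → ℤ) : GolayPt → ℤ := flip cw (fun i => x (projInv i))

theorem gfun_mem {x : GolayPt → ℤ} (hx : x ∈ leechLattice) : gfun x ∈ leechLattice := by
  rw [mem_leechLattice_iff] at *
  exact flip_mem_leechSet cw_mem (comp_mem_leechSet Cfsg.Agent.Lib.helper3.projInv_mem hx)

theorem gfun_gfun (x : GolayPt → ℤ) : gfun (gfun x) = -x := by
  funext i
  have h1 := cw_swap i
  have h2 := projInv_invol i
  show (if cw i ≠ 0 then -(if cw (projInv i) ≠ 0 then -x (projInv (projInv i))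
      else x (projInv (projInv i))) else (if cw (projInv i) ≠ 0 then -x (projInv (projInv i))
      else x (projInv (projInv i)))) = -x i
  by_cases hc : cw i ≠ 0
  · have hc' : ¬ cw (projInv i) ≠ 0 := fun h => (h1.1 h) hc
    rw [if_pos hc, if_neg hc', h2]
  · have hc' : cw (projInv i) ≠ 0 := h1.2 hc
    rw [if_neg hc, if_pos hc', h2]

theorem gfun_add (x y : GolayPt → ℤ) : gfun (x + y) = gfun x + gfun y := by
  funext i
  show (if cw i ≠ 0 then -(x (projInv i) + y (projInv i)) else x (projInv i) + y (projInv i))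
    = (if cw i ≠ 0 then -x (projInv i) else x (projInv i))
      + (if cw i ≠ 0 then -y (projInv i) else y (projInv i))
  split_ifs <;> ring

theorem gfun_neg (x : GolayPt → ℤ) : gfun (-x) = -gfun x := by
  funext i
  show (if cw i ≠ 0 then - -x (projInv i) else -x (projInv i))
    = -(if cw i ≠ 0 then -x (projInv i) else x (projInv i))
  split_ifs <;> ring

theorem gfun_sqNorm (x : GolayPt → ℤ) : sqNorm (gfun x) = sqNorm x := by
  unfold sqNorm
  have h1 : ∀ i, gfun x i ^ 2 = (fun j => x j ^ 2) (projInv i) := by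
    intro i
    show (if cw i ≠ 0 then -x (projInv i) else x (projInv i)) ^ 2 = x (projInv i) ^ 2
    split_ifs <;> ring
  rw [Finset.sum_congr rfl (fun i _ => h1 i)]
  exact Equiv.sum_comp projInv (fun j => x j ^ 2)

/-- as a permutation of the lattice -/
def gE : Equiv.Perm leechLattice where
  toFun v := ⟨gfun v.1, gfun_mem v.2⟩
  invFun v := ⟨-gfun v.1, leechLattice.neg_mem (gfun_mem v.2)⟩
  left_inv v := by
    apply Subtype.ext
    show -gfun (gfun v.1) = v.1
    rw [gfun_gfun, neg_neg]
  right_inv v := by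
    apply Subtype.ext
    show gfun (-gfun v.1) = v.1
    rw [gfun_neg, gfun_gfun, neg_neg]

theorem gE_mem : gE ∈ Co0 := by
  refine ⟨fun v w => ?_, fun v => ?_⟩
  · apply Subtype.ext
    show gfun (v.1 + w.1) = gfun v.1 + gfun w.1
    exact gfun_add _ _
  · exact gfun_sqNorm v.1

theorem neg_mem_Co0 : Equiv.neg leechLattice ∈ Co0 := by
  refine ⟨fun v w => ?_, fun v => ?_⟩
  · show -(v + w) = -v + -w
    exact neg_add v w
  · show sqNorm (-(v : GolayPt → ℤ)) = sqNorm (v : GolayPt → ℤ)
    unfold sqNorm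
    apply Finset.sum_congr rfl
    intro i _
    simp

/-- The automorphism group of the Leech lattice contains the negation map, and the subgroup of order 2 it generates has no complement: the automorphism group is a non-split extension of its quotient by that subgroup (it is not the direct product of a group of order 2 with the first Conway group). -/
theorem result :
    ∃ n : ↥Cfsg.Co0, (∀ v : ↥Cfsg.leechLattice, ((n • v : ↥Cfsg.leechLattice) : Cfsg.GolayPt → ℤ) = -(v : Cfsg.GolayPt → ℤ)) ∧
    ∀ K : Subgroup ↥Cfsg.Co0, ¬ (Subgroup.zpowers n).IsComplement' K := by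
  set n : ↥Co0 := ⟨Equiv.neg leechLattice, neg_mem_Co0⟩ with hn
  set g : ↥Co0 := ⟨gE, gE_mem⟩ with hg
  refine ⟨n, fun v => rfl, ?_⟩
  intro K hK
  have hgg : g * g = n := by
    apply Subtype.ext
    apply Equiv.ext
    intro v
    apply Subtype.ext
    show gfun (gfun v.1) = -v.1
    exact gfun_gfun _
  have hnn : n * n = 1 := by
    apply Subtype.ext
    apply Equiv.ext
    intro v
    show - -v = v
    exact neg_neg v
  have hcent : ∀ f : ↥Co0, Commute n f := by
    intro f
    apply Subtype.ext
    apply Equiv.ext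
    intro v
    show -(f.1 v) = f.1 (-v)
    have h0 : f.1 0 = 0 := by
      have := f.2.1 0 0
      rw [add_zero] at this
      exact left_eq_add.mp this
    have h1 := f.2.1 v (-v)
    rw [add_neg_cancel, h0] at h1
    exact (neg_eq_of_add_eq_zero_right h1.symm)
  obtain ⟨⟨h, k⟩, hhk⟩ := hK.2 g
  have hhk' : h.1 * k.1 = g := hhk
  obtain ⟨j, hj⟩ := Subgroup.mem_zpowers_iff.1 h.2
  have hh2 : h.1 * h.1 = 1 := by
    rw [← hj, ← zpow_add, ← two_mul, zpow_mul, zpow_two, hnn, one_zpow]
  have hcomm : Commute h.1 k.1 := by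
    rw [← hj]
    exact (hcent k.1).zpow_left j
  have hkk : k.1 * k.1 = n := by
    rw [← hgg, ← hhk']
    calc k.1 * k.1 = (h.1 * h.1) * (k.1 * k.1) := by rw [hh2, one_mul]
      _ = h.1 * (h.1 * k.1) * k.1 := by group
      _ = h.1 * (k.1 * h.1) * k.1 := by rw [hcomm.eq]
      _ = h.1 * k.1 * (h.1 * k.1) := by group
  have hnK : n ∈ K := by
    rw [← hkk]
    exact K.mul_mem k.2 k.2
  have hnH : n ∈ Subgroup.zpowers n := Subgroup.mem_zpowers n
  have hdisj := hK.disjoint
  have hn1 : n = 1 := by
    have : n ∈ Subgroup.zpowers n ⊓ K := ⟨hnH, hnK⟩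
    rw [hdisj.eq_bot] at this
    exact Subgroup.mem_bot.1 this
  have hval : ((n • Spor.leechU : ↥leechLattice) : GolayPt → ℤ) none
      = ((Spor.leechU : ↥leechLattice) : GolayPt → ℤ) none := by
    rw [hn1, one_smul]
  have hval2 : ((n • Spor.leechU : ↥leechLattice) : GolayPt → ℤ) none = -4 := by
    show -(Spor.vecU none) = -4
    simp [Spor.vecU]
  have hval3 : ((Spor.leechU : ↥leechLattice) : GolayPt → ℤ) none = 4 := by
    show Spor.vecU none = 4
    simp [Spor.vecU]
  rw [hval2, hval3] at hval
  norm_num at hval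

end Cfsg.Agent.S5594
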