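import Cfsg.Statements.S5595
import Cfsg.Agent.Lib.Helper10.LargeXS4

set_option autoImplicit false
open Cfsg

namespace Cfsg.Agent.S5595

theorem result {G : Type*} [Group G] [Finite G]
    (Q : G → Subgroup G)
    (hQ : ∀ x : G, Q x = (Cfsg.pCore 2 ↥(Subgroup.centralizer ({x} : Set G))).map (Subgroup.centralizer ({x} : Set G)).subtype)
    (z : G) (hz : orderOf z = 2) (hE : Cfsg.IsExtraspecial 2 ↥(Q z))
    (hC : Subgroup.centralizer ((Q z : Subgroup G) : Set G) ≤ Q z)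
    (g : G) (hx : g * z * g⁻¹ ∈ Q z) : z ∈ Q (g * z * g⁻¹) := by
  have hQ' : ∀ x : G, Q x = Cfsg.Agent.Lib.Helper10.LargeXS.O2C x := hQ
  rw [hQ' z] at hE hC hx
  rw [hQ' (g * z * g⁻¹)]
  exact Cfsg.Agent.Lib.Helper10.LargeXS.symm_mem z hz hE hC g hx

end Cfsg.Agent.S5595
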