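import Cfsg.Statements.S5596
import Cfsg.Agent.Lib.Helper10.LargeXS8

set_option autoImplicit false
open Cfsg

namespace Cfsg.Agent.S5596

open Cfsg.Agent.Lib.Helper10.LargeXS in
theorem result {G : Type*} [Group G] [Finite G]
    (Q : G → Subgroup G)
    (hQ : ∀ x : G, Q x = (Cfsg.pCore 2 ↥(Subgroup.centralizer ({x} : Set G))).map (Subgroup.centralizer ({x} : Set G)).subtype)
    (z : G) (hz : orderOf z = 2) (hE : Cfsg.IsExtraspecial 2 ↥(Q z))
    (hC : Subgroup.centralizer ((Q z : Subgroup G) : Set G) ≤ Q z)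
    (U : Subgroup G) (hU2 : ∀ u ∈ U, u * u = 1)
    (hS : ∀ u ∈ U, u ≠ 1 → ∃ g : G, g * z * g⁻¹ = u)
    (hO : ∀ u ∈ U, ∀ v ∈ U, u ≠ 1 → v ≠ 1 → v ∈ Q u)
    (QU LU : Subgroup G) (hQU : QU = ⨅ u ∈ ((U : Set G) \ {1}), Q u) (hLU : LU = ⨆ u ∈ ((U : Set G) \ {1}), Q u)
    (n : ℕ) (hn : 2 ≤ n) (hcard : Nat.card ↥U = 2 ^ n) :
    U ≤ QU ∧ QU ≤ LU ∧ LU ≤ Subgroup.normalizer (U : Set G) ∧
      ∀ φ : ↥U ≃* ↥U, ∃ g ∈ LU, ∀ u : ↥U, g * (u : G) * g⁻¹ = ((φ u : ↥U) : G) := by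
  have hQ' : Q = O2C := funext hQ
  subst hQ'
  have hxs : XS (O2C z) z := xs_of_hyp z hz hE
  have hxsU : ∀ a ∈ U, a ≠ 1 → XS (O2C a) a := by
    intro a ha ha1
    obtain ⟨g, rfl⟩ := hS a ha ha1
    exact hxs.conj g
  have hUQ : ∀ a ∈ U, a ≠ 1 → U ≤ O2C a := by
    intro a ha ha1 v hv
    by_cases hv1 : v = 1
    · rw [hv1]; exact Subgroup.one_mem _
    · exact hO a ha v hv ha1 hv1
  have hQUle : ∀ a ∈ U, a ≠ 1 → QU ≤ O2C a := by
    intro a ha ha1
    rw [hQU]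
    exact iInf₂_le a ⟨ha, ha1⟩
  have hleLU : ∀ a ∈ U, a ≠ 1 → O2C a ≤ LU := by
    intro a ha ha1
    rw [hLU]
    exact le_iSup₂_of_le a ⟨ha, ha1⟩ le_rfl
  have hconjU : ∀ a ∈ U, a ≠ 1 → ∀ g ∈ O2C a, ∀ v ∈ U, g * v * g⁻¹ ∈ U := by
    intro a ha ha1 g hg v hv
    rcases (hxsU a ha ha1).comm g hg v (hUQ a ha ha1 hv) with h1 | h1
    · rw [h1, mul_inv_cancel_right]; exact hv
    · rw [h1, mul_assoc, mul_assoc, mul_inv_cancel, mul_one]
      exact U.mul_mem ha hv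
  have hUcomm : ∀ u ∈ U, ∀ v ∈ U, u * v = v * u := by
    intro u hu v hv
    have h1 := hU2 (u * v) (U.mul_mem hu hv)
    have h2 := hU2 u hu
    have h3 := hU2 v hv
    calc u * v = u * v * (v * v) * (u * u) := by rw [h2, h3, mul_one, mul_one]
      _ = (u * v * (u * v))⁻¹ * (u * v * (u * v)) * (v * u) := by
          rw [h1, inv_one, one_mul, one_mul]
          have : u * v * (v * v) * (u * u) = v * u := by
            rw [h2, h3, mul_one, mul_one]
            have h4 : u * v = (u * v)⁻¹ := by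
              rw [eq_inv_iff_mul_eq_one]; exact h1
            rw [h4, mul_inv_rev]
            have hv' : v⁻¹ = v := by rw [inv_eq_iff_mul_eq_one]; exact h3
            have hu' : u⁻¹ = u := by rw [inv_eq_iff_mul_eq_one]; exact h2
            rw [hv', hu']
          rw [h2, h3, mul_one, mul_one] at this
          rw [h2, h3, mul_one, mul_one]
          exact this
      _ = v * u := by rw [inv_mul_cancel, one_mul]
  obtain ⟨a0, ha0U, ha01⟩ : ∃ a0 ∈ U, a0 ≠ 1 := by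
    by_contra hne
    have hbot : U = ⊥ := by
      rw [Subgroup.eq_bot_iff_forall]
      intro x hx
      by_contra hx1
      exact hne ⟨x, hx, hx1⟩
    rw [hbot, Subgroup.card_bot] at hcard
    have : 2 ^ 2 ≤ 2 ^ n := Nat.pow_le_pow_right (by norm_num) hn
    omega
  have hLUN : LU ≤ Subgroup.normalizer (U : Set G) := by
    rw [hLU]
    apply iSup₂_le
    rintro a ⟨haU, ha1⟩
    intro g hg
    rw [Subgroup.mem_normalizer_iff]
    intro v
    constructor
    · intro hv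
      exact hconjU a haU ha1 g hg v hv
    · intro hv
      have := hconjU a haU ha1 g⁻¹ ((O2C a).inv_mem hg) _ hv
      have h2 : g⁻¹ * (g * v * g⁻¹) * g⁻¹⁻¹ = v := by group
      rw [h2] at this
      exact this
  refine ⟨?_, ?_, hLUN, ?_⟩
  · intro v hv
    rw [hQU, Subgroup.mem_iInf]
    intro a
    rw [Subgroup.mem_iInf]
    rintro ⟨haU, ha1⟩
    exact hUQ a haU ha1 hv
  · exact (hQUle a0 ha0U ha01).trans (hleLU a0 ha0U ha01)
  · intro φ
    apply exists_induce_aut U LU hLUN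
    intro W hWU w hw w' hw' hwW hw'W hww'
    have haU : w * w' ∈ U := U.mul_mem hw hw'
    have ha1 : w * w' ≠ 1 := by
      intro h
      apply hww'
      have h1 : w = w'⁻¹ := eq_inv_of_mul_eq_one_left h
      rw [h1, inv_eq_iff_mul_eq_one]
      exact hU2 w' hw'
    have haw : w * w' * w = w' := by
      rw [mul_assoc, hUcomm w' hw' w hw, ← mul_assoc, hU2 w hw, one_mul]
    obtain ⟨c, hc, hcW, hcw⟩ := (hxsU _ haU ha1).exists_transvection W
      (hWU.trans (hUQ _ haU ha1)) (hUQ _ haU ha1 hw) hwW (by rw [haw]; exact hw'W)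
    refine ⟨c, hleLU _ haU ha1 hc, hcW, ?_⟩
    rw [hcw, haw]

end Cfsg.Agent.S5596
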