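import Cfsg.Statements.S5597
import Cfsg.Agent.Lib.Helper10.LargeXS6

set_option autoImplicit false
open Cfsg

namespace Cfsg.Agent.S5597

open Cfsg.Agent.Lib.Helper10.LargeXS in
theorem result {G : Type*} [Group G] [Finite G]
    (Q : G → Subgroup G)
    (hQ : ∀ x : G, Q x = (Cfsg.pCore 2 ↥(Subgroup.centralizer ({x} : Set G))).map (Subgroup.centralizer ({x} : Set G)).subtype)
    (z : G) (hz : orderOf z = 2) (hE : Cfsg.IsExtraspecial 2 ↥(Q z))
    (hC : Subgroup.centralizer ((Q z : Subgroup G) : Set G) ≤ Q z)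
    (U : Subgroup G) (hU2 : ∀ u ∈ U, u * u = 1)
    (hS : ∀ u ∈ U, u ≠ 1 → ∃ g : G, g * z * g⁻¹ = u)
    (hO : ∀ u ∈ U, ∀ v ∈ U, u ≠ 1 → v ≠ 1 → v ∈ Q u)
    (QU LU : Subgroup G) (hQU : QU = ⨅ u ∈ ((U : Set G) \ {1}), Q u) (hLU : LU = ⨆ u ∈ ((U : Set G) \ {1}), Q u)
    (hU : U ≠ ⊥) :
    (∀ g ∈ LU, ∀ x ∈ QU, g * x * g⁻¹ * x⁻¹ ∈ U) ∧
      ∀ x ∈ QU, x ∉ U → ∀ u ∈ U, ∃ g ∈ LU ⊓ Subgroup.centralizer (U : Set G), g * x * g⁻¹ = x * u := by
  have hQ' : Q = O2C := funext hQ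
  subst hQ'
  have hxs : XS (O2C z) z := xs_of_hyp z hz hE
  have hxsU : ∀ a ∈ U, a ≠ 1 → XS (O2C a) a := by
    intro a ha ha1
    obtain ⟨g, rfl⟩ := hS a ha ha1
    exact hxs.conj g
  have hUQ : ∀ a ∈ U, a ≠ 1 → U ≤ O2C a := by
    intro a ha ha1 v hv
    by_cases hv1 : v = 1
    · rw [hv1]; exact Subgroup.one_mem _
    · exact hO a ha v hv ha1 hv1
  have hQUle : ∀ a ∈ U, a ≠ 1 → QU ≤ O2C a := by
    intro a ha ha1
    rw [hQU]
    exact iInf₂_le a ⟨ha, ha1⟩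
  have hconjU : ∀ a ∈ U, a ≠ 1 → ∀ g ∈ O2C a, ∀ v ∈ U, g * v * g⁻¹ ∈ U := by
    intro a ha ha1 g hg v hv
    rcases (hxsU a ha ha1).comm g hg v (hUQ a ha ha1 hv) with h1 | h1
    · rw [h1, mul_inv_cancel_right]; exact hv
    · rw [h1, mul_assoc, mul_assoc, mul_inv_cancel, mul_one]
      exact U.mul_mem ha hv
  constructor
  · obtain ⟨M, hM⟩ : ∃ M : Subgroup G, ∀ g, g ∈ M ↔
        (g ∈ Subgroup.normalizer (U : Set G) ∧ ∀ x ∈ QU, g * x * g⁻¹ * x⁻¹ ∈ U) := by
      refine ⟨{ carrier := {g | g ∈ Subgroup.normalizer (U : Set G) ∧ ∀ x ∈ QU, g * x * g⁻¹ * x⁻¹ ∈ U}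
                mul_mem' := ?_
                one_mem' := ?_
                inv_mem' := ?_ }, fun g => Iff.rfl⟩
      · rintro g1 g2 ⟨hn1, hc1⟩ ⟨hn2, hc2⟩
        refine ⟨Subgroup.mul_mem _ hn1 hn2, fun x hx => ?_⟩
        have h1 : g1 * g2 * x * (g1 * g2)⁻¹ * x⁻¹ =
            (g1 * (g2 * x * g2⁻¹ * x⁻¹) * g1⁻¹) * (g1 * x * g1⁻¹ * x⁻¹) := by group
        rw [h1]
        exact U.mul_mem ((Subgroup.mem_normalizer_iff.1 hn1 _).1 (hc2 x hx)) (hc1 x hx)
      · refine ⟨Subgroup.one_mem _, fun x hx => ?_⟩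
        have : (1 : G) * x * 1⁻¹ * x⁻¹ = 1 := by group
        rw [this]
        exact U.one_mem
      · rintro g ⟨hn, hc⟩
        have hn' : g⁻¹ ∈ Subgroup.normalizer (U : Set G) := Subgroup.inv_mem _ hn
        refine ⟨hn', fun x hx => ?_⟩
        have h1 : g⁻¹ * x * g⁻¹⁻¹ * x⁻¹ = g⁻¹ * (g * x * g⁻¹ * x⁻¹)⁻¹ * g⁻¹⁻¹ := by group
        rw [h1]
        exact (Subgroup.mem_normalizer_iff.1 hn' _).1 (U.inv_mem (hc x hx))
    have hle : LU ≤ M := by
      rw [hLU]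
      apply iSup₂_le
      rintro a ⟨haU, ha1⟩
      intro g hg
      rw [hM]
      constructor
      · rw [Subgroup.mem_normalizer_iff]
        intro v
        constructor
        · intro hv
          exact hconjU a haU ha1 g hg v hv
        · intro hv
          have := hconjU a haU ha1 g⁻¹ ((O2C a).inv_mem hg) _ hv
          have h2 : g⁻¹ * (g * v * g⁻¹) * g⁻¹⁻¹ = v := by group
          rw [h2] at this
          exact this
      · intro x hx
        rcases (hxsU a haU ha1).comm g hg x (hQUle a haU ha1 hx) with h1 | h1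
        · have : g * x * g⁻¹ * x⁻¹ = 1 := by
            rw [h1, mul_inv_cancel_right, mul_inv_cancel]
          rw [this]; exact U.one_mem
        · have : g * x * g⁻¹ * x⁻¹ = a := by
            rw [h1]
            group
          rw [this]; exact haU
    intro g hg x hx
    exact ((hM g).1 (hle hg)).2 x hx
  · intro x hxQU hxU u hu
    by_cases hu1 : u = 1
    · refine ⟨1, Subgroup.one_mem _, ?_⟩
      rw [hu1]; group
    · have hX := hxsU u hu hu1
      have hxQ : x ∈ O2C u := hQUle u hu hu1 hxQU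
      have hex : ∃ c ∈ O2C u, (∀ w ∈ U, c * w = w * c) ∧ ¬ (x * c = c * x) := by
        by_contra hne
        apply hxU
        apply hX.double_centralizer_subgroup U (hUQ u hu hu1) hu hxQ
        intro c hc hcU
        by_contra hxc
        exact hne ⟨c, hc, hcU, hxc⟩
      obtain ⟨c, hc, hcU, hxc⟩ := hex
      have hcx : c * x = u * (x * c) := by
        rcases hX.comm c hc x hxQ with h1 | h1
        · exact absurd h1.symm hxc
        · exact h1
      refine ⟨c, Subgroup.mem_inf.2 ⟨?_, ?_⟩, ?_⟩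
      · rw [hLU]
        have : O2C u ≤ ⨆ a ∈ ((U : Set G) \ {1}), O2C a := le_iSup₂_of_le u ⟨hu, hu1⟩ le_rfl
        exact this hc
      · rw [Subgroup.mem_centralizer_iff]
        intro w hw
        exact (hcU w hw).symm
      · rw [hcx, mul_assoc, mul_assoc, mul_inv_cancel, mul_one]
        exact (hX.z_comm x hxQ).symm

end Cfsg.Agent.S5597
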