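import Cfsg.Statements.S5598
import Cfsg.Agent.Lib.Helper10.LargeXS5

set_option autoImplicit false
open Cfsg

namespace Cfsg.Agent.S5598

open Cfsg.Agent.Lib.Helper10.LargeXS in
theorem result {G : Type*} [Group G] [Finite G]
    (Q : G → Subgroup G)
    (hQ : ∀ x : G, Q x = (Cfsg.pCore 2 ↥(Subgroup.centralizer ({x} : Set G))).map (Subgroup.centralizer ({x} : Set G)).subtype)
    (z : G) (hz : orderOf z = 2) (hE : Cfsg.IsExtraspecial 2 ↥(Q z))
    (hC : Subgroup.centralizer ((Q z : Subgroup G) : Set G) ≤ Q z)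
    (U : Subgroup G) (hU2 : ∀ u ∈ U, u * u = 1)
    (hS : ∀ u ∈ U, u ≠ 1 → ∃ g : G, g * z * g⁻¹ = u)
    (hO : ∀ u ∈ U, ∀ v ∈ U, u ≠ 1 → v ≠ 1 → v ∈ Q u)
    (QU LU : Subgroup G) (hQU : QU = ⨅ u ∈ ((U : Set G) \ {1}), Q u) (hLU : LU = ⨆ u ∈ ((U : Set G) \ {1}), Q u)
    (T : Set G) (hT : Subgroup.closure T = U) (hT1 : (1 : G) ∉ T) :
    QU = ⨅ t ∈ T, Q t := by
  have hQ' : Q = O2C := funext hQ
  subst hQ'
  have hxs : XS (O2C z) z := xs_of_hyp z hz hE
  have hxsU : ∀ a ∈ U, a ≠ 1 → XS (O2C a) a := by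
    intro a ha ha1
    obtain ⟨g, rfl⟩ := hS a ha ha1
    exact hxs.conj g
  rw [hQU]
  apply le_antisymm
  · apply le_iInf₂
    intro t ht
    have htU : t ∈ U := by rw [← hT]; exact Subgroup.subset_closure ht
    have ht1 : t ≠ 1 := fun h => hT1 (h ▸ ht)
    exact iInf₂_le t ⟨htU, ht1⟩
  · intro x hx
    have hxT : ∀ t ∈ T, x ∈ O2C t := by
      intro t ht
      have := (Subgroup.mem_iInf.1 hx) t
      exact (Subgroup.mem_iInf.1 this) ht
    have key : ∀ u ∈ Subgroup.closure T, u ≠ 1 → x ∈ O2C u := by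
      intro u hu
      induction hu using Subgroup.closure_induction with
      | mem t ht => intro _; exact hxT t ht
      | one => intro h; exact absurd rfl h
      | mul a b ha hb iha ihb =>
        intro hab1
        rw [hT] at ha hb
        by_cases ha1 : a = 1
        · rw [ha1, one_mul] at hab1 ⊢
          exact ihb hab1
        by_cases hb1 : b = 1
        · rw [hb1, mul_one] at hab1 ⊢
          exact iha hab1
        have hba : b ≠ a := by
          intro h
          rw [h] at hab1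
          exact hab1 (hU2 a ha)
        have habU : a * b ∈ U := U.mul_mem ha hb
        have h1 : b ∈ O2C a := hO a ha b hb ha1 hb1
        have h2 : a ∈ O2C (a * b) := hO (a * b) habU a ha hab1 ha1
        exact inf_le_O2C_mul (hxsU a ha ha1) h1 hb1 hba h2
          (Subgroup.mem_inf.2 ⟨iha ha1, ihb hb1⟩)
      | inv a ha iha =>
        intro h1
        rw [hT] at ha
        have : a⁻¹ = a := by
          rw [inv_eq_iff_mul_eq_one]
          exact hU2 a ha
        rw [this] at h1 ⊢
        exact iha h1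
    rw [Subgroup.mem_iInf]
    intro u
    rw [Subgroup.mem_iInf]
    rintro ⟨huU, hu1⟩
    apply key u
    · rw [hT]; exact huU
    · exact hu1

end Cfsg.Agent.S5598
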