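import Cfsg.Statements.S5599
import Cfsg.Agent.Lib.helper4.M24Rigid
import Cfsg.Agent.Lib.Helper12.Golay.Trans

set_option autoImplicit false
open scoped Pointwise
open Cfsg

namespace Cfsg.Agent.S5599

theorem mem_M22_iff (x : Equiv.Perm Cfsg.GolayPt) :
    x ∈ Cfsg.Spor.M22 ↔ x ∈ Cfsg.M24 ∧ x none = none ∧ x (some 0) = some 0 := by
  unfold Cfsg.Spor.M22 Cfsg.Spor.M23
  rw [Subgroup.mem_inf, Subgroup.mem_inf, MulAction.mem_stabilizer_iff,
    MulAction.mem_stabilizer_iff, and_assoc]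
  rfl

theorem mem_pair_cases (b : Equiv.Perm Cfsg.GolayPt)
    (hb : b • ({none, some 0} : Finset Cfsg.GolayPt) = {none, some 0}) :
    (b none = none ∧ b (some 0) = some 0) ∨ (b none = some 0 ∧ b (some 0) = none) := by
  have h1 : b none ∈ ({none, some 0} : Finset Cfsg.GolayPt) := by
    rw [← hb]
    exact Finset.smul_mem_smul_finset (by simp)
  have h2 : b (some 0) ∈ ({none, some 0} : Finset Cfsg.GolayPt) := by
    rw [← hb]
    exact Finset.smul_mem_smul_finset (by simp)
  rw [Finset.mem_insert, Finset.mem_singleton] at h1 h2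
  have hne : b none ≠ b (some 0) := fun h => by
    have := b.injective h
    exact absurd this (by simp)
  rcases h1 with h1 | h1 <;> rcases h2 with h2 | h2
  · exact absurd (h1.trans h2.symm) hne
  · exact Or.inl ⟨h1, h2⟩
  · exact Or.inr ⟨h1, h2⟩
  · exact absurd (h1.trans h2.symm) hne

theorem result_aux (g : Equiv.Perm Cfsg.GolayPt) (hg : g ∈ Cfsg.M24) (h₁ : g none = some 0) (h₂ : g (some 0) = none) : Cfsg.Spor.M22.relIndex (Cfsg.M24 ⊓ MulAction.stabilizer (Equiv.Perm Cfsg.GolayPt) ({none, some 0} : Finset Cfsg.GolayPt)) = 2 ∧ (∀ x ∈ Cfsg.Spor.M22, g * x * g⁻¹ ∈ Cfsg.Spor.M22) ∧ ¬ ∃ h ∈ Cfsg.Spor.M22, ∀ x ∈ Cfsg.Spor.M22, g * x * g⁻¹ = h * x * h⁻¹ := by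
  have hgi1 : g⁻¹ none = some 0 := by rw [Equiv.Perm.inv_eq_iff_eq, h₂]
  have hgi2 : g⁻¹ (some 0) = none := by rw [Equiv.Perm.inv_eq_iff_eq, h₁]
  refine ⟨?_, ?_, ?_⟩
  · have hgS : g ∈ Cfsg.M24 ⊓ MulAction.stabilizer (Equiv.Perm Cfsg.GolayPt)
        ({none, some 0} : Finset Cfsg.GolayPt) := by
      refine Subgroup.mem_inf.mpr ⟨hg, ?_⟩
      rw [MulAction.mem_stabilizer_iff, Finset.smul_finset_insert, Finset.smul_finset_singleton]
      show ({g none, g (some 0)} : Finset Cfsg.GolayPt) = {none, some 0}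
      rw [h₁, h₂, Finset.pair_comm]
    unfold Subgroup.relIndex
    rw [Subgroup.index_eq_two_iff]
    refine ⟨⟨g, hgS⟩, fun b => ?_⟩
    obtain ⟨b, hb⟩ := b
    have hbM := (Subgroup.mem_inf.mp hb).1
    have hbS := (Subgroup.mem_inf.mp hb).2
    rw [MulAction.mem_stabilizer_iff] at hbS
    rw [Subgroup.mem_subgroupOf, Subgroup.mem_subgroupOf]
    show Xor' (b * g ∈ Cfsg.Spor.M22) (b ∈ Cfsg.Spor.M22)
    rw [mem_M22_iff, mem_M22_iff]
    rcases mem_pair_cases b hbS with ⟨c1, c2⟩ | ⟨c1, c2⟩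
    · right
      refine ⟨⟨hbM, c1, c2⟩, ?_⟩
      rintro ⟨_, h, _⟩
      rw [Equiv.Perm.mul_apply, h₁, c2] at h
      exact absurd h (by simp)
    · left
      refine ⟨⟨Cfsg.M24.mul_mem hbM hg, ?_, ?_⟩, ?_⟩
      · rw [Equiv.Perm.mul_apply, h₁, c2]
      · rw [Equiv.Perm.mul_apply, h₂, c1]
      · rintro ⟨_, h, _⟩
        rw [c1] at h
        exact absurd h (by simp)
  · intro x hx
    rw [mem_M22_iff] at hx ⊢
    obtain ⟨hxM, hx1, hx2⟩ := hx
    refine ⟨Cfsg.M24.mul_mem (Cfsg.M24.mul_mem hg hxM) (Cfsg.M24.inv_mem hg), ?_, ?_⟩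
    · rw [Equiv.Perm.mul_apply, Equiv.Perm.mul_apply, hgi1, hx2, h₂]
    · rw [Equiv.Perm.mul_apply, Equiv.Perm.mul_apply, hgi2, hx1, h₁]
  · rintro ⟨h, hh, hconj⟩
    rw [mem_M22_iff] at hh
    obtain ⟨hhM, hh1, hh2⟩ := hh
    -- c = h⁻¹ g centralises M22
    set c := h⁻¹ * g with hc
    have hcM : c ∈ Cfsg.M24 := Cfsg.M24.mul_mem (Cfsg.M24.inv_mem hhM) hg
    have hhi1 : h⁻¹ none = none := by rw [Equiv.Perm.inv_eq_iff_eq, hh1]
    have hhi2 : h⁻¹ (some 0) = some 0 := by rw [Equiv.Perm.inv_eq_iff_eq, hh2]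
    have hc1 : c none = some 0 := by rw [hc, Equiv.Perm.mul_apply, h₁, hhi2]
    have hc2 : c (some 0) = none := by rw [hc, Equiv.Perm.mul_apply, h₂, hhi1]
    have hcomm : ∀ x ∈ Cfsg.Spor.M22, c * x = x * c := by
      intro x hx
      have := hconj x hx
      rw [hc]
      calc h⁻¹ * g * x = h⁻¹ * (g * x * g⁻¹) * g := by group
        _ = h⁻¹ * (h * x * h⁻¹) * g := by rw [this]
        _ = x * (h⁻¹ * g) := by group
    -- c fixes every other point
    have hfix : ∀ p : Cfsg.GolayPt, p ≠ none → p ≠ some 0 → c p = p := by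
      intro p hp1 hp2
      by_contra hne
      have hq1 : c p ≠ none := by
        intro hq
        rw [← hc2] at hq
        exact hp2 (c.injective hq)
      have hq2 : c p ≠ some 0 := by
        intro hq
        rw [← hc1] at hq
        exact hp1 (c.injective hq)
      -- a point r different from none, some 0, p, c p
      obtain ⟨r, hr⟩ := Cfsg.Agent.Lib.Helper12.Golay.exists_new_point {none, some 0, p, c p}
        (lt_of_le_of_lt Finset.card_le_four (by norm_num))
      simp only [Finset.mem_insert, Finset.mem_singleton, not_or] at hr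
      obtain ⟨x, hx1, hx2, hx3, hx4⟩ := Cfsg.Agent.Lib.Helper12.Golay.four_trans none (some 0) p
        (c p) none (some 0) p r (by simp) (Ne.symm hp1) (Ne.symm hq1) (Ne.symm hp2)
        (Ne.symm hq2) (Ne.symm hne) (by simp) (Ne.symm hp1) (Ne.symm hr.1) (Ne.symm hp2)
        (Ne.symm hr.2.1) (Ne.symm hr.2.2.1)
      have hxM22 : (x : Equiv.Perm Cfsg.GolayPt) ∈ Cfsg.Spor.M22 := by
        rw [mem_M22_iff]
        exact ⟨x.2, hx1, hx2⟩
      have e := hcomm x hxM22
      have e1 := congrArg (fun f : Equiv.Perm Cfsg.GolayPt => f p) e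
      simp only [Equiv.Perm.mul_apply] at e1
      have hx3' : (x : Equiv.Perm Cfsg.GolayPt) p = p := hx3
      have hx4' : (x : Equiv.Perm Cfsg.GolayPt) (c p) = r := hx4
      rw [hx3', hx4'] at e1
      exact hr.2.2.2 e1.symm
    have hone : c = 1 := by
      apply Cfsg.Agent.Lib.helper4.M24_rigid hcM (Finset.univ.filter fun p => p ≠ none ∧ p ≠ some 0)
      · have h22 : (Finset.univ.filter fun p : Cfsg.GolayPt => p ≠ none ∧ p ≠ some 0).card = 22 := by
          decide
        omega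
      · intro p hp
        rw [Finset.mem_filter] at hp
        exact hfix p hp.2.1 hp.2.2
    rw [hone] at hc1
    exact absurd hc1 (by simp)

/-- In the automorphism group of the length-24 code, the two-point Mathieu group (permutations of the code's group fixing the extra point and the residue 0) has index 2 in the setwise stabiliser of that pair of points, and an element of the code's group interchanging the two points normalises the two-point group and induces on it, by conjugation, an automorphism that is not inner. -/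
theorem result (g : Equiv.Perm Cfsg.GolayPt) (hg : g ∈ Cfsg.M24) (h₁ : g none = some 0) (h₂ : g (some 0) = none) : Cfsg.Spor.M22.relIndex (Cfsg.M24 ⊓ MulAction.stabilizer (Equiv.Perm Cfsg.GolayPt) ({none, some 0} : Finset Cfsg.GolayPt)) = 2 ∧ (∀ x ∈ Cfsg.Spor.M22, g * x * g⁻¹ ∈ Cfsg.Spor.M22) ∧ ¬ ∃ h ∈ Cfsg.Spor.M22, ∀ x ∈ Cfsg.Spor.M22, g * x * g⁻¹ = h * x * h⁻¹ := by
  exact result_aux g hg h₁ h₂

end Cfsg.Agent.S5599
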