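import Cfsg.Statements.S5609
import Cfsg.Agent.Lib.helper4.OctadGraph

set_option autoImplicit false
open scoped Pointwise
open Cfsg

namespace Cfsg.Agent.S5609

theorem exists_mid {V : Type*} {G : SimpleGraph V} {u v : V} (p : G.Walk u v)
    (hp : p.length = 2) : ∃ z, G.Adj u z ∧ G.Adj z v := by
  cases p with
  | nil => simp at hp
  | cons h1 q =>
    cases q with
    | nil => simp at hp
    | cons h2 r =>
      cases r with
      | nil => exact ⟨_, h1, h2⟩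
      | cons h3 r' => simp at hp

open Cfsg.Agent.Lib.helper4 in
theorem adj_iff (o o' : Finset Cfsg.GolayPt) (ho : o ∈ Cfsg.octads) (ho' : o' ∈ Cfsg.octads) :
    (Cfsg.blockGraph Cfsg.octads).Adj ⟨o, ho⟩ ⟨o', ho'⟩ ↔ Disjoint o o' := by
  unfold Cfsg.blockGraph
  rw [SimpleGraph.fromRel_adj]
  constructor
  · rintro ⟨_, h | h⟩
    · exact h
    · exact h.symm
  · intro h
    refine ⟨?_, Or.inl h⟩
    intro he
    have he' : o = o' := congrArg Subtype.val he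
    subst he'
    have : o = ∅ := by simpa using h
    have h8 : o.card = 8 := ho.2
    rw [this] at h8
    simp at h8

open Cfsg.Agent.Lib.helper4 in
theorem reach_all (o o' : Finset Cfsg.GolayPt) (ho : o ∈ Cfsg.octads) (ho' : o' ∈ Cfsg.octads) :
    (o = o') ∨ ((o ∩ o').card = 0 ∧ (Cfsg.blockGraph Cfsg.octads).dist ⟨o, ho⟩ ⟨o', ho'⟩ = 1 ∧
      (Cfsg.blockGraph Cfsg.octads).Reachable ⟨o, ho⟩ ⟨o', ho'⟩) ∨
    ((o ∩ o').card = 4 ∧ (Cfsg.blockGraph Cfsg.octads).dist ⟨o, ho⟩ ⟨o', ho'⟩ = 2 ∧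
      (Cfsg.blockGraph Cfsg.octads).Reachable ⟨o, ho⟩ ⟨o', ho'⟩) ∨
    ((o ∩ o').card = 2 ∧ (Cfsg.blockGraph Cfsg.octads).dist ⟨o, ho⟩ ⟨o', ho'⟩ = 3 ∧
      (Cfsg.blockGraph Cfsg.octads).Reachable ⟨o, ho⟩ ⟨o', ho'⟩) := by
  by_cases hne : o = o'
  · exact Or.inl hne
  right
  have hne' : (⟨o, ho⟩ : Cfsg.octads) ≠ ⟨o', ho'⟩ := fun h => hne (congrArg Subtype.val h)
  have hdisj : Disjoint o o' ↔ (o ∩ o').card = 0 := by
    rw [Finset.card_eq_zero, Finset.disjoint_iff_inter_eq_empty]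
  rcases octad_inter_cases o o' ho ho' with h | h | h | h
  · exfalso
    apply hne
    have h1 : o ∩ o' = o := Finset.eq_of_subset_of_card_le Finset.inter_subset_left (by rw [h, ho.2])
    have h2 : o ∩ o' = o' := Finset.eq_of_subset_of_card_le Finset.inter_subset_right (by rw [h, ho'.2])
    rw [← h1]; exact h2
  · -- four
    right; left
    obtain ⟨x, hx, d1, d2⟩ := exists_disjoint_of_four o o' ho ho' h
    have a1 := (adj_iff o x ho hx).mpr d1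
    have a2 := (adj_iff x o' hx ho').mpr d2
    obtain ⟨w, hw⟩ : ∃ w : (Cfsg.blockGraph Cfsg.octads).Walk ⟨o, ho⟩ ⟨o', ho'⟩, w.length = 2 :=
      ⟨SimpleGraph.Walk.cons a1 (SimpleGraph.Walk.cons a2 SimpleGraph.Walk.nil), rfl⟩
    have hreach : (Cfsg.blockGraph Cfsg.octads).Reachable ⟨o, ho⟩ ⟨o', ho'⟩ := ⟨w⟩
    refine ⟨h, ?_, hreach⟩
    have hle := SimpleGraph.dist_le w
    rw [hw] at hle
    have h0 : (Cfsg.blockGraph Cfsg.octads).dist ⟨o, ho⟩ ⟨o', ho'⟩ ≠ 0 := by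
      intro h0
      exact hne' (hreach.dist_eq_zero_iff.mp h0)
    have h1 : (Cfsg.blockGraph Cfsg.octads).dist ⟨o, ho⟩ ⟨o', ho'⟩ ≠ 1 := by
      intro h1
      have := SimpleGraph.dist_eq_one_iff_adj.mp h1
      rw [adj_iff, hdisj, h] at this
      omega
    omega
  · -- two
    right; right
    obtain ⟨x, hx, y, hy, d1, d2, d3⟩ := exists_chain_of_two o o' ho ho' h
    have a1 := (adj_iff o x ho hx).mpr d1
    have a2 := (adj_iff x y hx hy).mpr d2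
    have a3 := (adj_iff y o' hy ho').mpr d3
    obtain ⟨w, hw⟩ : ∃ w : (Cfsg.blockGraph Cfsg.octads).Walk ⟨o, ho⟩ ⟨o', ho'⟩, w.length = 3 :=
      ⟨SimpleGraph.Walk.cons a1 (SimpleGraph.Walk.cons a2 (SimpleGraph.Walk.cons a3 SimpleGraph.Walk.nil)), rfl⟩
    have hreach : (Cfsg.blockGraph Cfsg.octads).Reachable ⟨o, ho⟩ ⟨o', ho'⟩ := ⟨w⟩
    refine ⟨h, ?_, hreach⟩
    have hle := SimpleGraph.dist_le w
    rw [hw] at hle
    have h0 : (Cfsg.blockGraph Cfsg.octads).dist ⟨o, ho⟩ ⟨o', ho'⟩ ≠ 0 := by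
      intro h0
      exact hne' (hreach.dist_eq_zero_iff.mp h0)
    have h1 : (Cfsg.blockGraph Cfsg.octads).dist ⟨o, ho⟩ ⟨o', ho'⟩ ≠ 1 := by
      intro h1
      have := SimpleGraph.dist_eq_one_iff_adj.mp h1
      rw [adj_iff, hdisj, h] at this
      omega
    have h2 : (Cfsg.blockGraph Cfsg.octads).dist ⟨o, ho⟩ ⟨o', ho'⟩ ≠ 2 := by
      intro h2
      obtain ⟨p, hp⟩ := hreach.exists_walk_length_eq_dist
      rw [h2] at hp
      obtain ⟨z, hz1, hz2⟩ := exists_mid p hp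
      obtain ⟨z, hz⟩ := z
      rw [adj_iff] at hz1 hz2
      exact no_common_disjoint_of_two o o' z ho ho' hz h hz1 hz2
    omega
  · -- zero
    left
    have a1 := (adj_iff o o' ho ho').mpr (hdisj.mpr h)
    exact ⟨h, SimpleGraph.dist_eq_one_iff_adj.mpr a1, a1.reachable⟩

open Cfsg.Agent.Lib.helper4 in
theorem result_aux (o o' : Finset Cfsg.GolayPt) (ho : o ∈ Cfsg.octads) (ho' : o' ∈ Cfsg.octads) (hne : o ≠ o') : (Cfsg.blockGraph Cfsg.octads).Connected ∧ ((Cfsg.blockGraph Cfsg.octads).dist ⟨o, ho⟩ ⟨o', ho'⟩ = 1 ↔ (o ∩ o').card = 0) ∧ ((Cfsg.blockGraph Cfsg.octads).dist ⟨o, ho⟩ ⟨o', ho'⟩ = 2 ↔ (o ∩ o').card = 4) ∧ ((Cfsg.blockGraph Cfsg.octads).dist ⟨o, ho⟩ ⟨o', ho'⟩ = 3 ↔ (o ∩ o').card = 2) := by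
  refine ⟨?_, ?_⟩
  · have : Nonempty Cfsg.octads := ⟨⟨o, ho⟩⟩
    refine ⟨?_⟩
    rintro ⟨a, ha⟩ ⟨b, hb⟩
    rcases reach_all a b ha hb with h | ⟨_, _, h⟩ | ⟨_, _, h⟩ | ⟨_, _, h⟩
    · subst h; exact SimpleGraph.Reachable.refl _
    · exact h
    · exact h
    · exact h
  · rcases reach_all o o' ho ho' with h | ⟨h1, h2, _⟩ | ⟨h1, h2, _⟩ | ⟨h1, h2, _⟩
    · exact absurd h hne
    · rw [h1, h2]; omega
    · rw [h1, h2]; omega
    · rw [h1, h2]; omega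

/-- In the graph on the 759 octads of the length-24 code in which two octads are adjacent when they are disjoint, the graph is connected (of diameter 3) and two distinct octads are at distance 1, 2 or 3 exactly when they meet in 0, 4 or 2 points respectively. -/
theorem result (o o' : Finset Cfsg.GolayPt) (ho : o ∈ Cfsg.octads) (ho' : o' ∈ Cfsg.octads) (hne : o ≠ o') : (Cfsg.blockGraph Cfsg.octads).Connected ∧ ((Cfsg.blockGraph Cfsg.octads).dist ⟨o, ho⟩ ⟨o', ho'⟩ = 1 ↔ (o ∩ o').card = 0) ∧ ((Cfsg.blockGraph Cfsg.octads).dist ⟨o, ho⟩ ⟨o', ho'⟩ = 2 ↔ (o ∩ o').card = 4) ∧ ((Cfsg.blockGraph Cfsg.octads).dist ⟨o, ho⟩ ⟨o', ho'⟩ = 3 ↔ (o ∩ o').card = 2) := by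
  open Cfsg.Agent.Lib.helper4 in
  exact result_aux o o' ho ho' hne

end Cfsg.Agent.S5609
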