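import Cfsg.Statements.S5620
import Cfsg.Agent.Lib.Helper12.Golay.DStab

set_option autoImplicit false
open scoped Pointwise
open Cfsg

namespace Cfsg.Agent.S5620

open Cfsg.Agent.Lib.Helper12.Golay

theorem sqDod_eq : Cfsg.Spor.squareDodecad = fs d₀ := by
  unfold Cfsg.Spor.squareDodecad
  have h1 : qrWord 0 = wd d₀ := by
    funext p
    rw [qrWord_eq]
    rfl
  rw [h1, support₂_wd]

theorem sqDod_mem : Cfsg.Spor.squareDodecad ∈ Cfsg.dodecads := by
  rw [sqDod_eq, fs_mem_dodecads_iff (by decide)]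
  decide +kernel

theorem mem_M12_iff (x : Equiv.Perm Cfsg.GolayPt) :
    x ∈ Cfsg.Spor.M12 ↔ x ∈ Cfsg.M24 ∧ x • Cfsg.Spor.squareDodecad = Cfsg.Spor.squareDodecad := by
  unfold Cfsg.Spor.M12
  exact Iff.rfl

theorem mem_M12_pt_iff (x : Equiv.Perm Cfsg.GolayPt) (p : Cfsg.GolayPt) :
    x ∈ Cfsg.Spor.M12 ⊓ MulAction.stabilizer (Equiv.Perm Cfsg.GolayPt) p ↔
      x ∈ Cfsg.M24 ∧ x • Cfsg.Spor.squareDodecad = Cfsg.Spor.squareDodecad ∧ x p = p := by
  rw [Subgroup.mem_inf, mem_M12_iff, MulAction.mem_stabilizer_iff, and_assoc]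
  rfl

theorem smul_compl_iff (x : Equiv.Perm Cfsg.GolayPt) (d : Finset Cfsg.GolayPt) :
    x • (Finset.univ \ d) = Finset.univ \ d ↔ x • d = d := by
  rw [Finset.smul_finset_sdiff, Finset.smul_finset_univ]
  constructor
  · intro h
    have h2 : Finset.univ \ (Finset.univ \ x • d) = Finset.univ \ (Finset.univ \ d) := by rw [h]
    simpa using h2
  · intro h
    rw [h]

/-- Conjugating the stabiliser of a point of the dodecad. -/
theorem conj_M11 (g : Equiv.Perm Cfsg.GolayPt) (hg : g ∈ Cfsg.M24)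
    (hd : g • Cfsg.Spor.squareDodecad = Cfsg.Spor.squareDodecad ∨
      g • Cfsg.Spor.squareDodecad = Finset.univ \ Cfsg.Spor.squareDodecad) :
    MulAut.conj g • Cfsg.Spor.M11 =
      Cfsg.Spor.M12 ⊓ MulAction.stabilizer (Equiv.Perm Cfsg.GolayPt) (g (some 0)) := by
  ext x
  rw [Subgroup.mem_pointwise_smul_iff_inv_smul_mem, mem_M12_pt_iff]
  unfold Cfsg.Spor.M11
  rw [mem_M12_pt_iff]
  have e : (MulAut.conj g)⁻¹ • x = g⁻¹ * x * g := by
    rw [← map_inv, MulAut.smul_def, MulAut.conj_apply, inv_inv]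
  rw [e]
  constructor
  · rintro ⟨h1, h2, h3⟩
    refine ⟨?_, ?_, ?_⟩
    · have := Cfsg.M24.mul_mem (Cfsg.M24.mul_mem hg h1) (Cfsg.M24.inv_mem hg)
      have e2 : g * (g⁻¹ * x * g) * g⁻¹ = x := by group
      rwa [e2] at this
    · rw [mul_smul, mul_smul, inv_smul_eq_iff] at h2
      rcases hd with hd | hd
      · rw [hd] at h2; exact h2
      · rw [hd] at h2; exact (smul_compl_iff x _).mp h2
    · rw [Equiv.Perm.mul_apply, Equiv.Perm.mul_apply, Equiv.Perm.inv_eq_iff_eq] at h3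
      exact h3
  · rintro ⟨h1, h2, h3⟩
    refine ⟨Cfsg.M24.mul_mem (Cfsg.M24.mul_mem (Cfsg.M24.inv_mem hg) h1) hg, ?_, ?_⟩
    · rw [mul_smul, mul_smul, inv_smul_eq_iff]
      rcases hd with hd | hd
      · rw [hd]; exact h2
      · rw [hd]; exact (smul_compl_iff x _).mpr h2
    · rw [Equiv.Perm.mul_apply, Equiv.Perm.mul_apply, Equiv.Perm.inv_eq_iff_eq]
      exact h3

theorem projInv_dod : projInv • Cfsg.Spor.squareDodecad = Finset.univ \ Cfsg.Spor.squareDodecad := by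
  rw [sqDod_eq, projInv_eq_permT, permT_smul_fs (by decide) (by decide)]
  ext p
  rw [Finset.mem_sdiff, mem_fs, mem_fs]
  have h : ∀ i : Fin 24, (actT projInvT d₀).testBit i = true ↔ ¬ (d₀.testBit i = true) := by
    decide
  have := h ⟨idx p, idx_lt p⟩
  simp only [Finset.mem_univ, true_and]
  exact this

theorem result_aux : Nonempty (↥(Cfsg.Spor.M12 ⊓ MulAction.stabilizer (Equiv.Perm Cfsg.GolayPt) (none : Cfsg.GolayPt)) ≃* ↥Cfsg.Spor.M11) ∧ (¬ ∃ k ∈ Cfsg.Spor.M12, MulAut.conj k • Cfsg.Spor.M11 = Cfsg.Spor.M12 ⊓ MulAction.stabilizer (Equiv.Perm Cfsg.GolayPt) (none : Cfsg.GolayPt)) ∧ ∃ g ∈ Cfsg.M24, g • Cfsg.Spor.squareDodecad = Finset.univ \ Cfsg.Spor.squareDodecad ∧ MulAut.conj g • Cfsg.Spor.M11 = Cfsg.Spor.M12 ⊓ MulAction.stabilizer (Equiv.Perm Cfsg.GolayPt) (none : Cfsg.GolayPt) := by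
  have h3 : MulAut.conj projInv • Cfsg.Spor.M11 = Cfsg.Spor.M12 ⊓ MulAction.stabilizer (Equiv.Perm Cfsg.GolayPt) (none : Cfsg.GolayPt) := by
    rw [conj_M11 projInv projInv_mem_M24 (Or.inr projInv_dod)]
    rfl
  refine ⟨?_, ?_, projInv, projInv_mem_M24, projInv_dod, h3⟩
  · have e1 := Subgroup.equivSMul (MulAut.conj projInv) Cfsg.Spor.M11
    rw [h3] at e1
    exact ⟨e1.symm⟩
  · rintro ⟨k, hk, hconj⟩
    have hk' := (mem_M12_iff k).mp hk
    rw [conj_M11 k hk'.1 (Or.inl hk'.2)] at hconj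
    -- the point `k 0` lies in the dodecad
    have h0 : (some 0 : Cfsg.GolayPt) ∈ Cfsg.Spor.squareDodecad := by
      rw [sqDod_eq, mem_fs]; decide
    have hp : k (some 0) ∈ Cfsg.Spor.squareDodecad := by
      have := Finset.smul_mem_smul_finset (a := k) h0
      rw [hk'.2] at this
      exact this
    have hnone : (none : Cfsg.GolayPt) ∉ Cfsg.Spor.squareDodecad := by
      rw [sqDod_eq, mem_fs]; decide
    have h5 : (some 5 : Cfsg.GolayPt) ∉ Cfsg.Spor.squareDodecad := by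
      rw [sqDod_eq, mem_fs]; decide
    obtain ⟨h, hh, hmap⟩ := dstab1_trans_out _ sqDod_mem (k (some 0)) hp none (some 5) hnone h5
    have hmem : (h : Equiv.Perm Cfsg.GolayPt) ∈ Cfsg.Spor.M12 ⊓
        MulAction.stabilizer (Equiv.Perm Cfsg.GolayPt) (k (some 0)) := by
      rw [mem_M12_pt_iff]
      exact ⟨h.2, hh.1, hh.2⟩
    rw [hconj, mem_M12_pt_iff] at hmem
    rw [hmem.2.2] at hmap
    exact absurd hmap (by simp)

/-- Inside the stabiliser of the dodecad of squares (a Mathieu group of degree 12), the stabiliser of the residue 0 (a point of the dodecad) and the stabiliser of the extra point (a point outside the dodecad) are isomorphic but not conjugate; conjugation by a suitable element of the code's group that maps the dodecad of squares onto its complement carries the first onto the second. -/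
theorem result : Nonempty (↥(Cfsg.Spor.M12 ⊓ MulAction.stabilizer (Equiv.Perm Cfsg.GolayPt) (none : Cfsg.GolayPt)) ≃* ↥Cfsg.Spor.M11) ∧ (¬ ∃ k ∈ Cfsg.Spor.M12, MulAut.conj k • Cfsg.Spor.M11 = Cfsg.Spor.M12 ⊓ MulAction.stabilizer (Equiv.Perm Cfsg.GolayPt) (none : Cfsg.GolayPt)) ∧ ∃ g ∈ Cfsg.M24, g • Cfsg.Spor.squareDodecad = Finset.univ \ Cfsg.Spor.squareDodecad ∧ MulAut.conj g • Cfsg.Spor.M11 = Cfsg.Spor.M12 ⊓ MulAction.stabilizer (Equiv.Perm Cfsg.GolayPt) (none : Cfsg.GolayPt) := by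
  exact result_aux

end Cfsg.Agent.S5620
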