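import Cfsg.Statements.S5621
import Cfsg.Agent.Lib.Helper28.Code24

set_option autoImplicit false

open Cfsg

namespace Cfsg.Agent.S5621

open Cfsg.Agent.Lib.Helper28

theorem result (C : Submodule (ZMod 2) (Fin 24 → ZMod 2)) (hdim : Module.finrank (ZMod 2) C = 12) (horth : ∀ v ∈ C, ∀ w ∈ C, ∑ i, v i * w i = 0) (hmin : ∀ w ∈ C, w ≠ 0 → 8 ≤ hammingNorm w) : ∀ w ∈ C, 4 ∣ hammingNorm w := by
  intro c hc
  exact (span_and_div C hdim horth hmin _ c hc rfl).2

end Cfsg.Agent.S5621
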