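import Cfsg.Statements.S5622
import Cfsg.Agent.Lib.Helper28.Code24

set_option autoImplicit false

open Cfsg

namespace Cfsg.Agent.S5622

open Cfsg.Agent.Lib.Helper28

theorem result (C : Submodule (ZMod 2) (Fin 24 → ZMod 2)) (hdim : Module.finrank (ZMod 2) C = 12) (horth : ∀ v ∈ C, ∀ w ∈ C, ∑ i, v i * w i = 0) (hmin : ∀ w ∈ C, w ≠ 0 → 8 ≤ hammingNorm w) : (∃ w ∈ C, hammingNorm w = 8) ∧ Cfsg.IsSteinerSystem 5 8 (Cfsg.wordsOfWeight (C : Set (Fin 24 → ZMod 2)) 8) := by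
  have hsupp : ∀ c : Fin 24 → ZMod 2, Cfsg.support₂ c = sp c := fun c => rfl
  refine ⟨?_, ?_, ?_⟩
  · have h5 : (5 : ℕ) ≤ (Finset.univ : Finset (Fin 24)).card := by
      rw [Finset.card_univ, Fintype.card_fin]
      norm_num
    obtain ⟨s, _, hs5⟩ := Finset.exists_subset_card_eq h5
    obtain ⟨c, hc, h8, _⟩ := octad_through C hdim hmin s hs5
    exact ⟨c, hc, h8⟩
  · intro b hb
    exact hb.2
  · intro s hs
    obtain ⟨c, hc, h8, hsc⟩ := octad_through C hdim hmin s hs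
    refine ⟨sp c, ⟨⟨⟨c, hc, hsupp c⟩, ?_⟩, hsc⟩, ?_⟩
    · rw [← norm_eq]
      exact h8
    · rintro b ⟨⟨⟨c', hc', hb⟩, hb8⟩, hsb⟩
      rw [hsupp] at hb
      rw [← hb] at hb8 hsb ⊢
      rw [← norm_eq] at hb8
      rw [octad_unique C hmin c' c hc' hc hb8 h8 s (by omega) hsb hsc]

end Cfsg.Agent.S5622
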