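import Cfsg.Statements.S5623
import Cfsg.Agent.Lib.Helper28.Code24

set_option autoImplicit false

open Cfsg

namespace Cfsg.Agent.S5623

open Cfsg.Agent.Lib.Helper28

theorem result (C : Submodule (ZMod 2) (Fin 24 → ZMod 2)) (hdim : Module.finrank (ZMod 2) C = 12) (horth : ∀ v ∈ C, ∀ w ∈ C, ∑ i, v i * w i = 0) (hmin : ∀ w ∈ C, w ≠ 0 → 8 ≤ hammingNorm w) (w : Fin 24 → ZMod 2) : (∃ u : Fin 24 → ZMod 2, {u : Fin 24 → ZMod 2 | u - w ∈ C ∧ hammingNorm u ≤ 4} = {u} ∧ hammingNorm u ≤ 3) ∨ ({u : Fin 24 → ZMod 2 | u - w ∈ C ∧ hammingNorm u ≤ 4}.ncard = 6 ∧ ∀ u ∈ {u : Fin 24 → ZMod 2 | u - w ∈ C ∧ hammingNorm u ≤ 4}, hammingNorm u = 4 ∧ ∀ u' ∈ {u : Fin 24 → ZMod 2 | u - w ∈ C ∧ hammingNorm u ≤ 4}, u ≠ u' → Disjoint (Finset.univ.filter fun i => u i ≠ 0) (Finset.univ.filter fun i => u' i ≠ 0)) := by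
  classical
  have hsame : ∀ u u' : Fin 24 → ZMod 2, u - w ∈ C → u' - w ∈ C → u - u' ∈ C := by
    intro u u' hu hu'
    have := C.sub_mem hu hu'
    rwa [sub_sub_sub_cancel_right] at this
  by_cases h : ∃ u : Fin 24 → ZMod 2, u - w ∈ C ∧ hammingNorm u ≤ 3
  · left
    obtain ⟨u, huC, hu3⟩ := h
    refine ⟨u, ?_, hu3⟩
    ext u'
    simp only [Set.mem_setOf_eq, Set.mem_singleton_iff]
    constructor
    · rintro ⟨hu'C, hu'4⟩
      by_contra hne
      have := low_pair C hmin u' u (hsame u' u hu'C huC) hne hu'4 (by omega)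
      omega
    · rintro rfl
      exact ⟨huC, by omega⟩
  · right
    push_neg at h
    have hno : ∀ u, u - w ∈ C → hammingNorm u ≤ 4 → hammingNorm u = 4 := by
      intro u huC hu4
      have := h u huC
      omega
    have hset : {u : Fin 24 → ZMod 2 | u - w ∈ C ∧ hammingNorm u ≤ 4} =
        ↑(Finset.univ.filter (fun u : Fin 24 → ZMod 2 => u - w ∈ C ∧ hammingNorm u = 4)) := by
      ext u
      simp only [Set.mem_setOf_eq, Finset.coe_filter, Finset.mem_univ, true_and]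
      constructor
      · rintro ⟨h1, h2⟩
        exact ⟨h1, hno u h1 h2⟩
      · rintro ⟨h1, h2⟩
        exact ⟨h1, by omega⟩
    refine ⟨?_, ?_⟩
    · rw [hset, Set.ncard_coe_finset]
      exact fiber_six C hdim hmin w hno
    · rintro u ⟨huC, hu4⟩
      refine ⟨hno u huC hu4, ?_⟩
      rintro u' ⟨hu'C, hu'4⟩ hne
      exact (low_pair C hmin u u' (hsame u u' huC hu'C) hne hu4 hu'4).2.2

end Cfsg.Agent.S5623
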