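import Cfsg.Statements.S5625

set_option autoImplicit false

open Cfsg

namespace Cfsg.Agent.S5625

open Finset

theorem lam {α : Type*} [Fintype α] [DecidableEq α] (hα : Fintype.card α = 24)
    (B : Set (Finset α)) (hB : Cfsg.IsSteinerSystem 5 8 B) [DecidablePred (· ∈ B)]
    (T : Finset α) (hT : T.card ≤ 5) :
    (univ.filter (fun b : Finset α => b ∈ B ∧ T ⊆ b)).card *
      Nat.choose (8 - T.card) (5 - T.card) = Nat.choose (24 - T.card) (5 - T.card) := by
  classical
  have hS : ((powersetCard 5 (univ : Finset α)).filter (T ⊆ ·)).card =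
      Nat.choose (24 - T.card) (5 - T.card) := by
    rw [card_filter_powersetCard_subset T univ 5 (subset_univ _) hT, card_univ, hα]
  have hex : ∀ S : Finset α, ∃ b : Finset α, S.card = 5 →
      (b ∈ B ∧ S ⊆ b) ∧ ∀ b' : Finset α, b' ∈ B → S ⊆ b' → b' = b := by
    intro S
    by_cases h : S.card = 5
    · obtain ⟨b, hb, hu⟩ := hB.2 S h
      exact ⟨b, fun _ => ⟨hb, fun b' h1 h2 => hu b' ⟨h1, h2⟩⟩⟩
    · exact ⟨∅, fun h' => absurd h' h⟩
  choose f hf using hex
  have hmaps : ∀ S ∈ (powersetCard 5 (univ : Finset α)).filter (T ⊆ ·),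
      f S ∈ univ.filter (fun b : Finset α => b ∈ B ∧ T ⊆ b) := by
    intro S hS'
    rw [mem_filter, mem_powersetCard] at hS'
    rw [mem_filter]
    have := (hf S hS'.1.2).1
    exact ⟨mem_univ _, this.1, hS'.2.trans this.2⟩
  have hsum := card_eq_sum_card_fiberwise hmaps
  have hfib : ∀ b ∈ univ.filter (fun b : Finset α => b ∈ B ∧ T ⊆ b),
      (((powersetCard 5 (univ : Finset α)).filter (T ⊆ ·)).filter (fun S => f S = b)).card =
        Nat.choose (8 - T.card) (5 - T.card) := by
    intro b hb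
    rw [mem_filter] at hb
    have hb8 : b.card = 8 := hB.1 b hb.2.1
    have : ((powersetCard 5 (univ : Finset α)).filter (T ⊆ ·)).filter (fun S => f S = b) =
        (powersetCard 5 b).filter (T ⊆ ·) := by
      ext S
      simp only [mem_filter, mem_powersetCard]
      constructor
      · rintro ⟨⟨⟨_, h5⟩, hTS⟩, hfS⟩
        refine ⟨⟨?_, h5⟩, hTS⟩
        rw [← hfS]
        exact (hf S h5).1.2
      · rintro ⟨⟨hSb, h5⟩, hTS⟩
        exact ⟨⟨⟨subset_univ _, h5⟩, hTS⟩, ((hf S h5).2 b hb.2.1 hSb).symm⟩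
    rw [this, card_filter_powersetCard_subset T b 5 hb.2.2 hT, hb8]
  rw [sum_congr rfl hfib, sum_const, smul_eq_mul, hS] at hsum
  exact hsum.symm

theorem dcount {α : Type*} [Fintype α] [DecidableEq α]
    (B : Set (Finset α)) [DecidablePred (· ∈ B)] (Y : Finset α) (j : ℕ) :
    ∑ b ∈ univ.filter (fun b : Finset α => b ∈ B), Nat.choose (b ∩ Y).card j =
      ∑ T ∈ powersetCard j Y, (univ.filter (fun b : Finset α => b ∈ B ∧ T ⊆ b)).card := by
  have h1 : ∀ b : Finset α, Nat.choose (b ∩ Y).card j =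
      ∑ T ∈ powersetCard j Y, if T ⊆ b then 1 else 0 := by
    intro b
    rw [← card_powersetCard, ← sum_filter, ← card_eq_sum_ones]
    congr 1
    ext T
    simp only [mem_powersetCard, mem_filter, subset_inter_iff]
    tauto
  have h2 : ∀ T : Finset α, (univ.filter (fun b : Finset α => b ∈ B ∧ T ⊆ b)).card =
      ∑ b ∈ univ.filter (fun b : Finset α => b ∈ B), if T ⊆ b then 1 else 0 := by
    intro T
    rw [← sum_filter, ← card_eq_sum_ones, filter_filter]
  simp only [h1, h2]
  exact sum_comm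

theorem group4 {α : Type*} [Fintype α] [DecidableEq α]
    (S : Finset (Finset α)) (Y : Finset α) (hY : Y.card = 3) (j : ℕ) :
    ∑ b ∈ S, Nat.choose (b ∩ Y).card j =
      ∑ i ∈ range 4, (S.filter (fun b => (b ∩ Y).card = i)).card * Nat.choose i j := by
  have hmaps : ∀ b ∈ S, (b ∩ Y).card ∈ range 4 := by
    intro b _
    rw [mem_range]
    have := card_le_card (inter_subset_right : b ∩ Y ⊆ Y)
    omega
  rw [← sum_fiberwise_of_maps_to hmaps]
  apply sum_congr rfl
  intro i _
  rw [card_eq_sum_ones, sum_mul]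
  apply sum_congr rfl
  intro b hb
  rw [mem_filter] at hb
  rw [hb.2, one_mul]

theorem result (α : Type*) [Fintype α] [DecidableEq α] (hα : Fintype.card α = 24) (B : Set (Finset α)) (hB : Cfsg.IsSteinerSystem 5 8 B) (Y : Finset α) (hY : Y.card = 3) : {b : Finset α | b ∈ B ∧ (b ∩ Y).card = 3}.ncard = 21 ∧ {b : Finset α | b ∈ B ∧ (b ∩ Y).card = 2}.ncard = 168 ∧ {b : Finset α | b ∈ B ∧ (b ∩ Y).card = 1}.ncard = 360 ∧ {b : Finset α | b ∈ B ∧ (b ∩ Y).card = 0}.ncard = 210 := by
  classical
  have hset : ∀ i : ℕ, {b : Finset α | b ∈ B ∧ (b ∩ Y).card = i}.ncard =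
      ((univ.filter (fun b : Finset α => b ∈ B)).filter (fun b => (b ∩ Y).card = i)).card := by
    intro i
    rw [← Set.ncard_coe_finset]
    congr 1
    ext b
    simp
  have hL : ∀ j : ℕ, j ≤ 3 → ∑ T ∈ powersetCard j Y,
      (univ.filter (fun b : Finset α => b ∈ B ∧ T ⊆ b)).card * Nat.choose (8 - j) (5 - j) =
      Nat.choose 3 j * Nat.choose (24 - j) (5 - j) := by
    intro j hj
    have : ∀ T ∈ powersetCard j Y,
        (univ.filter (fun b : Finset α => b ∈ B ∧ T ⊆ b)).card * Nat.choose (8 - j) (5 - j) =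
        Nat.choose (24 - j) (5 - j) := by
      intro T hT
      rw [mem_powersetCard] at hT
      have := lam hα B hB T (by omega)
      rw [hT.2] at this
      exact this
    rw [sum_congr rfl this, sum_const, smul_eq_mul, card_powersetCard, hY]
  have hE : ∀ j : ℕ, j ≤ 3 →
      (∑ i ∈ range 4, ((univ.filter (fun b : Finset α => b ∈ B)).filter
        (fun b => (b ∩ Y).card = i)).card * Nat.choose i j) * Nat.choose (8 - j) (5 - j) =
      Nat.choose 3 j * Nat.choose (24 - j) (5 - j) := by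
    intro j hj
    rw [← group4 _ Y hY j, dcount B Y j, sum_mul]
    exact hL j hj
  have e0 := hE 0 (by omega)
  have e1 := hE 1 (by omega)
  have e2 := hE 2 (by omega)
  have e3 := hE 3 (by omega)
  simp only [sum_range_succ, sum_range_zero] at e0 e1 e2 e3
  norm_num [Nat.choose, -Finset.card_eq_zero] at e0 e1 e2 e3
  rw [hset 3, hset 2, hset 1, hset 0]
  omega

end Cfsg.Agent.S5625
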