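import Cfsg.Statements.S5631
import Cfsg.Agent.S5632

set_option autoImplicit false

open Cfsg

namespace Cfsg.Agent.S5631

open Matrix Cfsg.Agent.S5632

theorem gl_ext {n : ℕ} {F : Type*} [Field F] (g1 g2 : Matrix.GeneralLinearGroup (Fin n) F)
    (h : ∀ x, (g1 : Matrix (Fin n) (Fin n) F) *ᵥ x = (g2 : Matrix (Fin n) (Fin n) F) *ᵥ x) :
    g1 = g2 :=
  Units.ext (Matrix.ext_iff_mulVec.mpr h)

theorem isT_mem_SL {n : ℕ} {F : Type*} [Field F] (g : Matrix.GeneralLinearGroup (Fin n) F)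
    (v r : Fin n → F) (hrv : r ⬝ᵥ v = 0)
    (hg : ∀ x, (g : Matrix (Fin n) (Fin n) F) *ᵥ x = x + (r ⬝ᵥ x) • v) :
    g ∈ Cfsg.Geo.specialLinear (Fin n) F := by
  obtain ⟨g0, hS, h0⟩ := transv v r hrv
  have : g = g0 := gl_ext _ _ (fun x => by rw [hg, h0])
  exact this ▸ hS

theorem conj_isT {n : ℕ} {F : Type*} [Field F] (g t : Matrix.GeneralLinearGroup (Fin n) F)
    (v r : Fin n → F)
    (ht : ∀ x, (t : Matrix (Fin n) (Fin n) F) *ᵥ x =
      x + ((r ᵥ* (g : Matrix (Fin n) (Fin n) F)) ⬝ᵥ x) • v) :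
    ∀ x, ((g * t * g⁻¹ : Matrix.GeneralLinearGroup (Fin n) F) : Matrix (Fin n) (Fin n) F) *ᵥ x =
      x + (r ⬝ᵥ x) • ((g : Matrix (Fin n) (Fin n) F) *ᵥ v) := by
  intro x
  have h1 : (g : Matrix (Fin n) (Fin n) F) *ᵥ
      (((g⁻¹ : Matrix.GeneralLinearGroup (Fin n) F) : Matrix (Fin n) (Fin n) F) *ᵥ x) = x := by
    rw [Matrix.mulVec_mulVec, ← Units.val_mul, mul_inv_cancel, Units.val_one, Matrix.one_mulVec]
  rw [Units.val_mul, Units.val_mul, ← Matrix.mulVec_mulVec, ← Matrix.mulVec_mulVec, ht,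
    Matrix.mulVec_add, Matrix.mulVec_smul, h1, ← Matrix.dotProduct_mulVec, h1]

theorem all_transv {n : ℕ} {F : Type*} [Field F] (W : Submodule F (Fin n → F))
    (M : Subgroup (Matrix.GeneralLinearGroup (Fin n) F))
    (hPM : Cfsg.Geo.subspaceStabilizer W ⊓ Cfsg.Geo.specialLinear (Fin n) F ≤ M)
    (h : Matrix.GeneralLinearGroup (Fin n) F) (hM : h ∈ M) (w : Fin n → F) (hw : w ∈ W)
    (hhw : (h : Matrix (Fin n) (Fin n) F) *ᵥ w ∉ W) :
    ∀ (v r : Fin n → F), r ⬝ᵥ v = 0 → ∀ g : Matrix.GeneralLinearGroup (Fin n) F,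
      (∀ x, (g : Matrix (Fin n) (Fin n) F) *ᵥ x = x + (r ⬝ᵥ x) • v) → g ∈ M := by
  have hA : ∀ v ∈ W, ∀ r : Fin n → F, r ⬝ᵥ v = 0 → ∀ g : Matrix.GeneralLinearGroup (Fin n) F,
      (∀ x, (g : Matrix (Fin n) (Fin n) F) *ᵥ x = x + (r ⬝ᵥ x) • v) → g ∈ M := by
    intro v hv r hr g hg
    exact hPM ⟨stab_of_mem W v r g hg hv, isT_mem_SL g v r hr hg⟩
  have hB : ∀ v : Fin n → F, (∀ r : Fin n → F, r ⬝ᵥ v = 0 →
      ∀ g : Matrix.GeneralLinearGroup (Fin n) F,
      (∀ x, (g : Matrix (Fin n) (Fin n) F) *ᵥ x = x + (r ⬝ᵥ x) • v) → g ∈ M) →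
      ∀ k ∈ M, (∀ r : Fin n → F, r ⬝ᵥ ((k : Matrix (Fin n) (Fin n) F) *ᵥ v) = 0 →
      ∀ g : Matrix.GeneralLinearGroup (Fin n) F,
      (∀ x, (g : Matrix (Fin n) (Fin n) F) *ᵥ x =
        x + (r ⬝ᵥ x) • ((k : Matrix (Fin n) (Fin n) F) *ᵥ v)) → g ∈ M) := by
    intro v hv k hk r hr g hg
    have hr' : (r ᵥ* (k : Matrix (Fin n) (Fin n) F)) ⬝ᵥ v = 0 := by
      rw [← Matrix.dotProduct_mulVec]
      exact hr
    obtain ⟨t0, _, ht0⟩ := transv v _ hr'
    have ht0M : t0 ∈ M := hv _ hr' t0 ht0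
    have hconj := conj_isT k t0 v r ht0
    have : g = k * t0 * k⁻¹ := gl_ext _ _ (fun x => by rw [hg, hconj])
    rw [this]
    exact M.mul_mem (M.mul_mem hk ht0M) (M.inv_mem hk)
  have hC : ∀ v : Fin n → F, (∀ r : Fin n → F, r ⬝ᵥ v = 0 →
      ∀ g : Matrix.GeneralLinearGroup (Fin n) F,
      (∀ x, (g : Matrix (Fin n) (Fin n) F) *ᵥ x = x + (r ⬝ᵥ x) • v) → g ∈ M) →
      ∀ c : F, (∀ r : Fin n → F, r ⬝ᵥ (c • v) = 0 →
      ∀ g : Matrix.GeneralLinearGroup (Fin n) F,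
      (∀ x, (g : Matrix (Fin n) (Fin n) F) *ᵥ x = x + (r ⬝ᵥ x) • (c • v)) → g ∈ M) := by
    intro v hv c r hr g hg
    apply hv (c • r) _ g
    · intro x
      rw [hg, smul_dotProduct, smul_smul, smul_eq_mul, mul_comm]
    · rw [smul_dotProduct]
      rw [dotProduct_smul] at hr
      exact hr
  have hx0 := hB w (hA w hw) h hM
  have hE : ∀ w' ∈ W, ∀ r : Fin n → F,
      r ⬝ᵥ ((h : Matrix (Fin n) (Fin n) F) *ᵥ w + w') = 0 →
      ∀ g : Matrix.GeneralLinearGroup (Fin n) F,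
      (∀ x, (g : Matrix (Fin n) (Fin n) F) *ᵥ x =
        x + (r ⬝ᵥ x) • ((h : Matrix (Fin n) (Fin n) F) *ᵥ w + w')) → g ∈ M := by
    intro w' hw'
    have hnot : (h : Matrix (Fin n) (Fin n) F) *ᵥ w ∉ Submodule.span F {w'} := by
      intro hmem
      exact hhw ((Submodule.span_singleton_le_iff_mem w' W).mpr hw' hmem)
    obtain ⟨r, hr, hr1⟩ := dualrow _ _ hnot
    have hrw' : r ⬝ᵥ w' = 0 := hr w' (Submodule.mem_span_singleton_self w')
    obtain ⟨t, _, ht⟩ := transv w' r hrw'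
    have htM : t ∈ M := hA w' hw' r hrw' t ht
    have := hB _ hx0 t htM
    rw [ht, hr1, one_smul] at this
    exact this
  have hF : ∀ (c : F), ∀ w' ∈ W, ∀ r : Fin n → F,
      r ⬝ᵥ (c • ((h : Matrix (Fin n) (Fin n) F) *ᵥ w) + w') = 0 →
      ∀ g : Matrix.GeneralLinearGroup (Fin n) F,
      (∀ x, (g : Matrix (Fin n) (Fin n) F) *ᵥ x =
        x + (r ⬝ᵥ x) • (c • ((h : Matrix (Fin n) (Fin n) F) *ᵥ w) + w')) → g ∈ M := by
    intro c w' hw'
    by_cases hc : c = 0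
    · rw [hc, zero_smul, zero_add]
      exact hA w' hw'
    · have := hC _ (hE (c⁻¹ • w') (W.smul_mem _ hw')) c
      rw [smul_add, smul_smul, mul_inv_cancel₀ hc, one_smul] at this
      exact this
  intro v
  by_cases hv : v ∈ Submodule.span F {(h : Matrix (Fin n) (Fin n) F) *ᵥ w} ⊔ W
  · rw [Submodule.mem_sup] at hv
    obtain ⟨y, hy, w', hw', hyw⟩ := hv
    rw [Submodule.mem_span_singleton] at hy
    obtain ⟨c, hc⟩ := hy
    rw [← hyw, ← hc]
    exact hF c w' hw'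
  · have hnot : (h : Matrix (Fin n) (Fin n) F) *ᵥ w ∉
        W ⊔ Submodule.span F {v - (h : Matrix (Fin n) (Fin n) F) *ᵥ w} := by
      intro hmem
      rw [Submodule.mem_sup] at hmem
      obtain ⟨w', hw', y, hy, hwy⟩ := hmem
      rw [Submodule.mem_span_singleton] at hy
      obtain ⟨c, hc⟩ := hy
      by_cases hc0 : c = 0
      · rw [hc0, zero_smul] at hc
        rw [← hc, add_zero] at hwy
        exact hhw (hwy ▸ hw')
      · apply hv
        have hveq : v = (1 + c⁻¹) • ((h : Matrix (Fin n) (Fin n) F) *ᵥ w) + (-(c⁻¹ • w')) := by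
          have h2 : c⁻¹ • (c • (v - (h : Matrix (Fin n) (Fin n) F) *ᵥ w)) =
              v - (h : Matrix (Fin n) (Fin n) F) *ᵥ w := by
            rw [smul_smul, inv_mul_cancel₀ hc0, one_smul]
          have h3 : c • (v - (h : Matrix (Fin n) (Fin n) F) *ᵥ w) =
              (h : Matrix (Fin n) (Fin n) F) *ᵥ w - w' := by
            rw [hc, ← hwy]
            abel
          rw [h3] at h2
          linear_combination (norm := module) (-1 : F) • h2
        rw [hveq]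
        exact Submodule.add_mem _
          (Submodule.mem_sup_left (Submodule.smul_mem _ _ (Submodule.mem_span_singleton_self _)))
          (Submodule.mem_sup_right (W.neg_mem (W.smul_mem _ hw')))
    obtain ⟨r, hr, hr1⟩ := dualrow _ _ hnot
    have hrv : r ⬝ᵥ (v - (h : Matrix (Fin n) (Fin n) F) *ᵥ w) = 0 :=
      hr _ (Submodule.mem_sup_right (Submodule.mem_span_singleton_self _))
    obtain ⟨t, htS, ht⟩ := transv _ r hrv
    have htM : t ∈ M :=
      hPM ⟨stab_of_ker W _ r t ht (fun s hs => hr s (Submodule.mem_sup_left hs)) hrv, htS⟩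
    have := hB _ hx0 t htM
    rw [ht, hr1, one_smul, add_sub_cancel] at this
    exact this

theorem tv_apply {n : ℕ} {F : Type*} [Field F] (i j : Fin n) (a : F) (z : Fin n → F)
    (k : Fin n) :
    ((1 + Matrix.single i j a) *ᵥ z) k = z k + if k = i then a * z j else 0 := by
  rw [Matrix.add_mulVec, Matrix.one_mulVec, Matrix.single_mulVec_eq]
  simp [Pi.single_apply]

theorem diag_eq {n : ℕ} {F : Type*} [Field F] {i j : Fin n} (hij : i ≠ j) (c : F) (hc : c ≠ 0) :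
    Matrix.SpecialLinearGroup.diag2n hij c hc =
      Matrix.SpecialLinearGroup.transvection hij.symm (-(c - 1) / c) *
        Matrix.SpecialLinearGroup.transvection hij 1 *
        Matrix.SpecialLinearGroup.transvection hij.symm (c - 1) *
        Matrix.SpecialLinearGroup.transvection hij (-c⁻¹) := by
  apply Subtype.ext
  rw [Matrix.ext_iff_mulVec]
  intro y
  funext k
  simp only [Matrix.SpecialLinearGroup.coe_mul, Matrix.SpecialLinearGroup.transvection_coe,
    Matrix.SpecialLinearGroup.diag2n_coe, ← Matrix.mulVec_mulVec, tv_apply,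
    Matrix.mulVec_diagonal]
  by_cases hki : k = i
  · subst hki
    simp [hij, hij.symm]
    field_simp
    ring
  · by_cases hkj : k = j
    · subst hkj
      simp [hij, hij.symm]
      field_simp
      ring
    · simp [hki, hkj]

theorem SL_le {n : ℕ} {F : Type*} [Field F] (hn : 2 ≤ n)
    (M : Subgroup (Matrix.GeneralLinearGroup (Fin n) F))
    (hall : ∀ (v r : Fin n → F), r ⬝ᵥ v = 0 → ∀ g : Matrix.GeneralLinearGroup (Fin n) F,
      (∀ x, (g : Matrix (Fin n) (Fin n) F) *ᵥ x = x + (r ⬝ᵥ x) • v) → g ∈ M) :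
    Cfsg.Geo.specialLinear (Fin n) F ≤ M := by
  intro g hg
  have hdet : (g : Matrix (Fin n) (Fin n) F).det = 1 := by
    have h1 : Matrix.GeneralLinearGroup.det g = 1 := MonoidHom.mem_ker.mp hg
    have h2 := congrArg Units.val h1
    simpa using h2
  have hA : Matrix.SpecialLinearGroup.toGL (⟨g.val, hdet⟩ : Matrix.SpecialLinearGroup (Fin n) F)
      = g := Units.ext rfl
  rw [← hA]
  haveI : Nontrivial (Fin n) := Fin.nontrivial_iff_two_le.mpr hn
  have htr : ∀ (i j : Fin n) (hij : i ≠ j) (a : F),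
      Matrix.SpecialLinearGroup.toGL (Matrix.SpecialLinearGroup.transvection hij a) ∈ M := by
    intro i j hij a
    apply hall (Pi.single i a) (Pi.single j 1)
    · simp [hij.symm]
    · intro x
      funext k
      rw [Matrix.SpecialLinearGroup.coe_GL_coe_matrix, Matrix.SpecialLinearGroup.transvection_coe,
        tv_apply]
      simp [Pi.single_apply]
      split_ifs <;> ring
  refine Matrix.SpecialLinearGroup.diagonal_transvection_induction'
    (fun B => Matrix.SpecialLinearGroup.toGL B ∈ M) _ ?_ htr ?_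
  · intro i j hij c hc
    show Matrix.SpecialLinearGroup.toGL (Matrix.SpecialLinearGroup.diag2n hij c hc) ∈ M
    rw [diag_eq hij c hc]
    simp only [map_mul]
    exact M.mul_mem (M.mul_mem (M.mul_mem (htr _ _ _ _) (htr _ _ _ _)) (htr _ _ _ _))
      (htr _ _ _ _)
  · intro A B hA hB
    show Matrix.SpecialLinearGroup.toGL (A * B) ∈ M
    rw [map_mul]
    exact M.mul_mem hA hB

theorem result {F : Type*} [Field F] [Fintype F] (n : ℕ) (hn : 13 ≤ n) (W : Submodule F (Fin n → F)) (hW0 : W ≠ ⊥) (hW1 : W ≠ ⊤) : Cfsg.Geo.IsMaximalIn (Cfsg.Geo.specialLinear (Fin n) F) (Cfsg.Geo.subspaceStabilizer W ⊓ Cfsg.Geo.specialLinear (Fin n) F) := by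
  refine ⟨?_, ?_⟩
  · rw [SetLike.lt_iff_le_and_exists]
    refine ⟨inf_le_right, ?_⟩
    obtain ⟨g, hgS, hg⟩ := exists_SL_not_stab W hW0 hW1
    exact ⟨g, hgS, fun hmem => hg hmem.1⟩
  · intro M hPM hMS
    by_cases hMP : M = Cfsg.Geo.subspaceStabilizer W ⊓ Cfsg.Geo.specialLinear (Fin n) F
    · exact Or.inl hMP
    · right
      have hex : ∃ h ∈ M, h ∉ Cfsg.Geo.subspaceStabilizer W := by
        by_contra hcon
        push_neg at hcon
        exact hMP (le_antisymm (fun x hx => ⟨hcon x hx, hMS hx⟩) hPM)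
      obtain ⟨h, hhM, hh⟩ := hex
      rw [mem_stab_iff] at hh
      push_neg at hh
      obtain ⟨v, hv⟩ := hh
      have hkey : ∃ k ∈ M, ∃ w ∈ W, (k : Matrix (Fin n) (Fin n) F) *ᵥ w ∉ W := by
        rcases hv with ⟨h1, h2⟩ | ⟨h1, h2⟩
        · exact ⟨h, hhM, v, h1, h2⟩
        · refine ⟨h⁻¹, M.inv_mem hhM, (h : Matrix (Fin n) (Fin n) F) *ᵥ v, h2, ?_⟩
          rw [Matrix.mulVec_mulVec, ← Units.val_mul, inv_mul_cancel, Units.val_one,
            Matrix.one_mulVec]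
          exact h1
      obtain ⟨k, hkM, w, hw, hkw⟩ := hkey
      exact le_antisymm hMS (SL_le (by omega) M (all_transv W M hPM k hkM w hw hkw))

end Cfsg.Agent.S5631
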