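import Cfsg.Statements.S5633
import Cfsg.Agent.S5632

set_option autoImplicit false

open Cfsg

namespace Cfsg.Agent.S5633

open Matrix Cfsg.Agent.S5632

theorem result {F : Type*} [Field F] [Fintype F] (n : ℕ) (W U : Submodule F (Fin n → F)) (hW0 : W ≠ ⊥) (hWU : W ⊓ U = ⊥) (hWU' : W ⊔ U = ⊤) (hdim : Module.finrank F W < Module.finrank F U) : ∃ K : Subgroup (Matrix.GeneralLinearGroup (Fin n) F), Cfsg.Geo.subspaceStabilizer W ⊓ Cfsg.Geo.subspaceStabilizer U ⊓ Cfsg.Geo.specialLinear (Fin n) F < K ∧ K < Cfsg.Geo.specialLinear (Fin n) F := by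
  have hU0 : U ≠ ⊥ := by
    intro hU
    rw [hU, finrank_bot] at hdim
    omega
  have hWtop : W ≠ ⊤ := by
    intro hW
    rw [hW, top_inf_eq] at hWU
    exact hU0 hWU
  refine ⟨Cfsg.Geo.subspaceStabilizer W ⊓ Cfsg.Geo.specialLinear (Fin n) F, ?_, ?_⟩
  · rw [SetLike.lt_iff_le_and_exists]
    refine ⟨fun x hx => ⟨hx.1.1, hx.2⟩, ?_⟩
    obtain ⟨v, hvW, hv0⟩ := Submodule.exists_mem_ne_zero_of_ne_bot hW0
    obtain ⟨u, huU, hu0⟩ := Submodule.exists_mem_ne_zero_of_ne_bot hU0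
    have hvU : v ∉ U := by
      intro hvU
      have : v ∈ W ⊓ U := ⟨hvW, hvU⟩
      rw [hWU] at this
      exact hv0 ((Submodule.mem_bot F).mp this)
    have hu : u ∉ Submodule.span F {v} := by
      intro hmem
      have h1 : u ∈ W := (Submodule.span_singleton_le_iff_mem v W).mpr hvW hmem
      have : u ∈ W ⊓ U := ⟨h1, huU⟩
      rw [hWU] at this
      exact hu0 ((Submodule.mem_bot F).mp this)
    obtain ⟨r, hr, hru⟩ := dualrow _ u hu
    have hrv : r ⬝ᵥ v = 0 := hr v (Submodule.mem_span_singleton_self v)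
    obtain ⟨g, hgS, hg⟩ := transv v r hrv
    refine ⟨g, ⟨stab_of_mem W v r g hg hvW, hgS⟩, ?_⟩
    intro hmem
    exact not_stab U v r u g hg hvU huU hru hmem.1.2
  · rw [SetLike.lt_iff_le_and_exists]
    refine ⟨inf_le_right, ?_⟩
    obtain ⟨g, hgS, hg⟩ := exists_SL_not_stab W hW0 hWtop
    exact ⟨g, hgS, fun hmem => hg hmem.1⟩

end Cfsg.Agent.S5633
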