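import Cfsg.Statements.S5642
import Cfsg.Agent.Lib.Helper28.SympAbs

set_option autoImplicit false

open Cfsg

namespace Cfsg.Agent.S5642

open Matrix Cfsg.Agent.S5632 Cfsg.Agent.S5631 Cfsg.Agent.Lib.Helper28.SympAbs

variable {n : ℕ} {F : Type*} [Field F]

theorem inv_mulVec (g : Matrix.GeneralLinearGroup (Fin n) F) (y : Fin n → F) :
    (g : Matrix (Fin n) (Fin n) F) *ᵥ
      (((g⁻¹ : Matrix.GeneralLinearGroup (Fin n) F) : Matrix (Fin n) (Fin n) F) *ᵥ y) = y := by
  rw [Matrix.mulVec_mulVec, ← Units.val_mul, mul_inv_cancel, Units.val_one, Matrix.one_mulVec]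

theorem inv_mulVec' (g : Matrix.GeneralLinearGroup (Fin n) F) (y : Fin n → F) :
    ((g⁻¹ : Matrix.GeneralLinearGroup (Fin n) F) : Matrix (Fin n) (Fin n) F) *ᵥ
      ((g : Matrix (Fin n) (Fin n) F) *ᵥ y) = y := by
  rw [Matrix.mulVec_mulVec, ← Units.val_mul, inv_mul_cancel, Units.val_one, Matrix.one_mulVec]

theorem two_func {f : (Fin n → F) → (Fin n → F) → F} (hf : Cfsg.Geo.IsSymplecticForm f)
    (v w : Fin n → F) (hv : v ≠ 0) (hw : w ≠ 0) : ∃ x, f x v ≠ 0 ∧ f x w ≠ 0 := by
  obtain ⟨x1, hx1⟩ := (hf.nondegenerate v hv).1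
  obtain ⟨x2, hx2⟩ := (hf.nondegenerate w hw).1
  by_cases h1 : f x1 w = 0
  · by_cases h2 : f x2 v = 0
    · refine ⟨x1 + x2, ?_, ?_⟩
      · rw [hf.bilinear.add_left, h2, add_zero]; exact hx1
      · rw [hf.bilinear.add_left, h1, zero_add]; exact hx2
    · exact ⟨x2, h2, hx2⟩
  · exact ⟨x1, hx1, h1⟩

theorem prop {f : (Fin n → F) → (Fin n → F) → F} (hf : Cfsg.Geo.IsSymplecticForm f)
    (hn : 1 ≤ n) (g : Matrix.GeneralLinearGroup (Fin n) F)
    (h : ∀ x v, f x v = 0 → f ((g : Matrix (Fin n) (Fin n) F) *ᵥ x)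
      ((g : Matrix (Fin n) (Fin n) F) *ᵥ v) = 0) :
    g ∈ Cfsg.Geo.similarityGroup f := by
  have key : ∀ v, v ≠ 0 → ∃ c : F, ∀ x, f ((g : Matrix (Fin n) (Fin n) F) *ᵥ x)
      ((g : Matrix (Fin n) (Fin n) F) *ᵥ v) = c * f x v := by
    intro v hv
    obtain ⟨x0, hx0⟩ := (hf.nondegenerate v hv).1
    set x1 := (f x0 v)⁻¹ • x0 with hx1
    have hx1v : f x1 v = 1 := by
      rw [hx1, hf.bilinear.smul_left, inv_mul_cancel₀ hx0]
    refine ⟨f ((g : Matrix (Fin n) (Fin n) F) *ᵥ x1) ((g : Matrix (Fin n) (Fin n) F) *ᵥ v), ?_⟩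
    intro x
    have h0 : f (x - f x v • x1) v = 0 := by
      rw [f_sub_left hf, hf.bilinear.smul_left, hx1v, mul_one, sub_self]
    have h1 := h _ _ h0
    rw [Matrix.mulVec_sub, Matrix.mulVec_smul, f_sub_left hf, hf.bilinear.smul_left] at h1
    linear_combination h1
  have hconst : ∀ v w c d, v ≠ 0 → w ≠ 0 →
      (∀ x, f ((g : Matrix (Fin n) (Fin n) F) *ᵥ x) ((g : Matrix (Fin n) (Fin n) F) *ᵥ v) = c * f x v) →
      (∀ x, f ((g : Matrix (Fin n) (Fin n) F) *ᵥ x) ((g : Matrix (Fin n) (Fin n) F) *ᵥ w) = d * f x w) →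
      c = d := by
    intro v w c d hv hw hc hd
    obtain ⟨x, hxv, hxw⟩ := two_func hf v w hv hw
    have hx0 : x ≠ 0 := by
      rintro rfl
      exact hxv (f_zero_left hf v)
    obtain ⟨e, he⟩ := key x hx0
    have h1 : c * f x v = e * f x v := by
      rw [← hc x, hf.skew, he v, hf.skew v x]
      ring
    have h2 : d * f x w = e * f x w := by
      rw [← hd x, hf.skew, he w, hf.skew w x]
      ring
    rw [mul_right_cancel₀ hxv h1, mul_right_cancel₀ hxw h2]
  set v0 : Fin n → F := Pi.single ⟨0, by omega⟩ 1 with hv0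
  have hv0ne : v0 ≠ 0 := by
    intro h0
    have := congrFun h0 ⟨0, by omega⟩
    simp [hv0] at this
  obtain ⟨c0, hc0⟩ := key v0 hv0ne
  have hall : ∀ x v, f ((g : Matrix (Fin n) (Fin n) F) *ᵥ x)
      ((g : Matrix (Fin n) (Fin n) F) *ᵥ v) = c0 * f x v := by
    intro x v
    by_cases hv : v = 0
    · rw [hv, Matrix.mulVec_zero, f_zero_right hf, f_zero_right hf, mul_zero]
    · obtain ⟨c, hc⟩ := key v hv
      rw [hc x, hconst v v0 c c0 hv hv0ne hc hc0]
  have hc0ne : c0 ≠ 0 := by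
    intro h0
    obtain ⟨a, ha⟩ := (hf.nondegenerate v0 hv0ne).1
    apply ha
    have := hall (((g⁻¹ : Matrix.GeneralLinearGroup (Fin n) F) : Matrix (Fin n) (Fin n) F) *ᵥ a)
      (((g⁻¹ : Matrix.GeneralLinearGroup (Fin n) F) : Matrix (Fin n) (Fin n) F) *ᵥ v0)
    rw [inv_mulVec, inv_mulVec, h0, zero_mul] at this
    exact this
  exact ⟨Units.mk0 c0 hc0ne, hall⟩

def IndepPair (w u : Fin n → F) : Prop := w ≠ 0 ∧ u ∉ Submodule.span F {w}

theorem exists_t {f : (Fin n → F) → (Fin n → F) → F} (hf : Cfsg.Geo.IsSymplecticForm f)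
    (w u : Fin n → F) (h : IndepPair w u) : ∃ t, f w t = 1 ∧ f u t = 0 := by
  have hw : w ∉ Submodule.span F {u} := by
    intro hmem
    rw [Submodule.mem_span_singleton] at hmem
    obtain ⟨a, ha⟩ := hmem
    by_cases ha0 : a = 0
    · rw [ha0, zero_smul] at ha
      exact h.1 ha.symm
    · apply h.2
      rw [Submodule.mem_span_singleton]
      exact ⟨a⁻¹, by rw [← ha, smul_smul, inv_mul_cancel₀ ha0, one_smul]⟩
  obtain ⟨r, hr, hrw⟩ := dualrow _ w hw
  obtain ⟨t, ht⟩ := rho_surj hf r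
  refine ⟨t, ?_, ?_⟩
  · rw [ht, hrw]
  · rw [ht]
    exact hr u (Submodule.mem_span_singleton_self u)

def perp2 {f : (Fin n → F) → (Fin n → F) → F} (hf : Cfsg.Geo.IsSymplecticForm f)
    (a b : Fin n → F) : Submodule F (Fin n → F) where
  carrier := {z | f z a = 0 ∧ f z b = 0}
  add_mem' := by
    rintro x y ⟨hx1, hx2⟩ ⟨hy1, hy2⟩
    exact ⟨by rw [hf.bilinear.add_left, hx1, hy1, add_zero],
      by rw [hf.bilinear.add_left, hx2, hy2, add_zero]⟩
  zero_mem' := ⟨f_zero_left hf a, f_zero_left hf b⟩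
  smul_mem' := by
    rintro c x ⟨hx1, hx2⟩
    exact ⟨by rw [hf.bilinear.smul_left, hx1, mul_zero],
      by rw [hf.bilinear.smul_left, hx2, mul_zero]⟩

theorem mem_perp2 {f : (Fin n → F) → (Fin n → F) → F} (hf : Cfsg.Geo.IsSymplecticForm f)
    (a b z : Fin n → F) : z ∈ perp2 hf a b ↔ f z a = 0 ∧ f z b = 0 := Iff.rfl

theorem trans_orth {f : (Fin n → F) → (Fin n → F) → F} (hf : Cfsg.Geo.IsSymplecticForm f)
    (w u w' u' : Fin n → F) (h : IndepPair w u) (h' : IndepPair w' u')
    (hwu : f w u = 0) (hwu' : f w' u' = 0) :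
    ∃ s ∈ TT f, (s : Matrix (Fin n) (Fin n) F) *ᵥ w = w' ∧
      (s : Matrix (Fin n) (Fin n) F) *ᵥ u = u' := by
  obtain ⟨t, hwt, hut⟩ := exists_t hf w u h
  obtain ⟨t', hwt', hut'⟩ := exists_t hf w' u' h'
  obtain ⟨A, hA, hAw, hAt, -⟩ := trans_pair hf ⊤
    (fun x _ hx => by
      obtain ⟨y, hy⟩ := (hf.nondegenerate x hx).2
      exact ⟨y, Submodule.mem_top, hy⟩)
    w t w' t' Submodule.mem_top Submodule.mem_top Submodule.mem_top Submodule.mem_top hwt hwt'
  set u1 := (A : Matrix (Fin n) (Fin n) F) *ᵥ u with hu1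
  have hu0 : u ≠ 0 := by
    intro h0
    apply h.2
    rw [h0]
    exact Submodule.zero_mem _
  have hu'0 : u' ≠ 0 := by
    intro h0
    apply h'.2
    rw [h0]
    exact Submodule.zero_mem _
  have hu10 : u1 ≠ 0 := by
    intro h0
    apply hu0
    have := inv_mulVec' A u
    rw [← hu1, h0, Matrix.mulVec_zero] at this
    exact this.symm
  have hu1W : u1 ∈ perp2 hf w' t' := by
    rw [mem_perp2]
    constructor
    · rw [← hAw, hu1, TT_apply hf A hA, hf.skew, hwu, neg_zero]
    · rw [← hAt, hu1, TT_apply hf A hA, hut]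
  have hu'W : u' ∈ perp2 hf w' t' := by
    rw [mem_perp2]
    exact ⟨by rw [hf.skew, hwu', neg_zero], hut'⟩
  have htw' : f t' w' = -1 := by rw [hf.skew, hwt']
  have hW : ∀ x ∈ perp2 hf w' t', x ≠ 0 → ∃ y ∈ perp2 hf w' t', f x y ≠ 0 := by
    intro x hx hx0
    obtain ⟨hx1, hx2⟩ := (mem_perp2 hf w' t' x).mp hx
    obtain ⟨y, hy⟩ := (hf.nondegenerate x hx0).2
    refine ⟨y - f y t' • w' + f y w' • t', ?_, ?_⟩
    · rw [mem_perp2]
      constructor
      · rw [hf.bilinear.add_left, f_sub_left hf, hf.bilinear.smul_left, hf.bilinear.smul_left,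
          hf.alternating, htw']
        ring
      · rw [hf.bilinear.add_left, f_sub_left hf, hf.bilinear.smul_left, hf.bilinear.smul_left,
          hf.alternating, hwt']
        ring
    · rw [hf.bilinear.add_right, f_sub_right hf, hf.bilinear.smul_right, hf.bilinear.smul_right,
        hx1, hx2, mul_zero, mul_zero, sub_zero, add_zero]
      exact hy
  obtain ⟨B, hB, hBu, hBfix, -⟩ := trans_vec hf (perp2 hf w' t') hW u1 u' hu1W hu'W hu10 hu'0
  refine ⟨B * A, Subgroup.mul_mem _ hB hA, ?_, ?_⟩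
  · rw [mul_mulVec, hAw]
    apply hBfix
    intro z hz
    rw [hf.skew, ((mem_perp2 hf w' t' z).mp hz).1, neg_zero]
  · rw [mul_mulVec, ← hu1, hBu]

theorem exists_pair {f : (Fin n → F) → (Fin n → F) → F} (hf : Cfsg.Geo.IsSymplecticForm f)
    (hn : 3 ≤ n) : ∃ w u t : Fin n → F, IndepPair w u ∧ f w u = 0 ∧ f w t = 1 := by
  set w : Fin n → F := Pi.single ⟨0, by omega⟩ 1 with hw
  have hw0 : w ≠ 0 := by
    intro h0
    have := congrFun h0 ⟨0, by omega⟩
    simp [hw] at this
  obtain ⟨t0, ht0⟩ := (hf.nondegenerate w hw0).2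
  set t := (f w t0)⁻¹ • t0 with ht
  have hwt : f w t = 1 := by
    rw [ht, hf.bilinear.smul_right, inv_mul_cancel₀ ht0]
  obtain ⟨u, hu⟩ : ∃ u : Fin n → F, u ∉ Submodule.span F {w, t} := by
    by_contra hcon
    push Not at hcon
    have htop : Submodule.span F {w, t} = ⊤ := eq_top_iff.mpr (fun x _ => hcon x)
    have h1 : Module.finrank F (Submodule.span F ({w, t} : Set (Fin n → F))) ≤ 2 := by
      classical
      have h3 := finrank_span_finset_le_card (R := F) ({w, t} : Finset (Fin n → F))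
      rw [Finset.coe_insert, Finset.coe_singleton] at h3
      exact le_trans h3 Finset.card_le_two
    rw [htop, finrank_top, Module.finrank_fin_fun] at h1
    omega
  refine ⟨w, u + f u w • t, t, ⟨hw0, ?_⟩, ?_, hwt⟩
  · intro hmem
    rw [Submodule.mem_span_singleton] at hmem
    obtain ⟨a, ha⟩ := hmem
    apply hu
    have : u = a • w - f u w • t := by rw [ha]; abel
    rw [this]
    exact Submodule.sub_mem _ (Submodule.smul_mem _ _ (Submodule.subset_span (by simp)))
      (Submodule.smul_mem _ _ (Submodule.subset_span (by simp)))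
  · rw [hf.bilinear.add_right, hf.bilinear.smul_right, hwt, hf.skew u w]
    ring

theorem not_sim {f : (Fin n → F) → (Fin n → F) → F} (hf : Cfsg.Geo.IsSymplecticForm f)
    (w u t : Fin n → F) (h : IndepPair w u) (hwu : f w u = 0) (hwt : f w t = 1)
    (g : Matrix.GeneralLinearGroup (Fin n) F)
    (hg : ∀ y, (g : Matrix (Fin n) (Fin n) F) *ᵥ y = y + f y u • w) :
    g ∉ Cfsg.Geo.similarityGroup f := by
  rintro ⟨c, hc⟩
  have key : ∀ x y, f ((g : Matrix (Fin n) (Fin n) F) *ᵥ x) ((g : Matrix (Fin n) (Fin n) F) *ᵥ y) =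
      f x y + f y u * f x w + f x u * f w y := by
    intro x y
    rw [hg, hg, hf.bilinear.add_left, hf.bilinear.add_right, hf.bilinear.add_right,
      hf.bilinear.smul_left, hf.bilinear.smul_left, hf.bilinear.smul_right,
      hf.bilinear.smul_right, hf.alternating]
    ring
  have hc1 : (c : F) = 1 := by
    have := hc w t
    rw [key, hwt, hf.alternating, hwu] at this
    linear_combination -this
  have h2 : ∀ x, f x (u + f t u • w) = 0 := by
    intro x
    have := hc x t
    rw [key, hc1, hwt] at this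
    rw [hf.bilinear.add_right, hf.bilinear.smul_right]
    linear_combination this
  have h3 : u + f t u • w = 0 := by
    by_contra hne
    obtain ⟨x, hx⟩ := (hf.nondegenerate _ hne).1
    exact hx (h2 x)
  apply h.2
  rw [Submodule.mem_span_singleton]
  refine ⟨-f t u, ?_⟩
  have : u = -(f t u • w) := eq_neg_of_add_eq_zero_left h3
  rw [neg_smul]
  exact this.symm

theorem result {F : Type*} [Field F] [Fintype F] (n : ℕ) (hn : 13 ≤ n) (f : (Fin n → F) → (Fin n → F) → F) (hf : Cfsg.Geo.IsSymplecticForm f) : Cfsg.Geo.IsMaximalIn (Cfsg.Geo.specialLinear (Fin n) F) (Cfsg.Geo.similarityGroup f ⊓ Cfsg.Geo.specialLinear (Fin n) F) := by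
  have hTH : TT f ≤ Cfsg.Geo.similarityGroup f ⊓ Cfsg.Geo.specialLinear (Fin n) F := by
    intro s hs
    refine ⟨⟨1, fun a b => ?_⟩, TT_le_SL hf hs⟩
    rw [TT_apply hf s hs, Units.val_one, one_mul]
  refine ⟨?_, ?_⟩
  · rw [SetLike.lt_iff_le_and_exists]
    refine ⟨inf_le_right, ?_⟩
    obtain ⟨w, u, t, hind, hwu, hwt⟩ := exists_pair hf (by omega)
    have h0 : rho f u ⬝ᵥ w = 0 := by rw [← f_eq_dot hf, hwu]
    obtain ⟨g, hgS, hg⟩ := transv w (rho f u) h0
    refine ⟨g, hgS, fun hmem => ?_⟩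
    exact not_sim hf w u t hind hwu hwt g (fun y => by rw [hg, ← f_eq_dot hf]) hmem.1
  · intro M hHM hMS
    by_cases hMH : M = Cfsg.Geo.similarityGroup f ⊓ Cfsg.Geo.specialLinear (Fin n) F
    · exact Or.inl hMH
    · right
      apply le_antisymm hMS
      have hex : ∃ g ∈ M, g ∉ Cfsg.Geo.similarityGroup f := by
        by_contra hcon
        push Not at hcon
        exact hMH (le_antisymm (fun g hg => ⟨hcon g hg, hMS hg⟩) hHM)
      obtain ⟨g, hgM, hgsim⟩ := hex
      have hxv : ∃ x v, f x v = 0 ∧ f ((g : Matrix (Fin n) (Fin n) F) *ᵥ x)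
          ((g : Matrix (Fin n) (Fin n) F) *ᵥ v) ≠ 0 := by
        by_contra hcon
        push Not at hcon
        exact hgsim (prop hf (by omega) g hcon)
      obtain ⟨x, v, hxv0, hgxv⟩ := hxv
      obtain ⟨u, hu⟩ := rho_surj hf (rho f v ᵥ*
        ((g⁻¹ : Matrix.GeneralLinearGroup (Fin n) F) : Matrix (Fin n) (Fin n) F))
      have hu' : ∀ y, f y u = f (((g⁻¹ : Matrix.GeneralLinearGroup (Fin n) F) :
          Matrix (Fin n) (Fin n) F) *ᵥ y) v := by
        intro y
        rw [hu, ← Matrix.dotProduct_mulVec, ← f_eq_dot hf]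
      set w := (g : Matrix (Fin n) (Fin n) F) *ᵥ v with hw
      have hwu : f w u = 0 := by
        rw [hu', hw, inv_mulVec', hf.alternating]
      have hw0 : w ≠ 0 := by
        intro h0
        rw [h0, f_zero_right hf] at hgxv
        exact hgxv rfl
      have hind : IndepPair w u := by
        refine ⟨hw0, ?_⟩
        intro hmem
        rw [Submodule.mem_span_singleton] at hmem
        obtain ⟨a, ha⟩ := hmem
        have h1 : f ((g : Matrix (Fin n) (Fin n) F) *ᵥ x) u = 0 := by
          rw [hu', inv_mulVec', hxv0]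
        rw [← ha, hf.bilinear.smul_right] at h1
        have ha0 : a = 0 := (mul_eq_zero.mp h1).resolve_right hgxv
        rw [ha0, zero_smul] at ha
        have hv0 : v ≠ 0 := by
          intro h0
          rw [hw, h0, Matrix.mulVec_zero] at hw0
          exact hw0 rfl
        obtain ⟨z, hz⟩ := (hf.nondegenerate v hv0).1
        apply hz
        have := hu' ((g : Matrix (Fin n) (Fin n) F) *ᵥ z)
        rw [inv_mulVec', ← ha, f_zero_right hf] at this
        exact this.symm
      have hstep1 : ∀ c : F, ∀ g' : Matrix.GeneralLinearGroup (Fin n) F,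
          (∀ y, (g' : Matrix (Fin n) (Fin n) F) *ᵥ y = y + (c * f y u) • w) → g' ∈ M := by
        intro c g' hg'
        obtain ⟨τ, _, hτ⟩ := stv hf v c
        have hτM : τ ∈ M := hHM (hTH (Subgroup.subset_closure ⟨v, c, hτ⟩))
        have : g' = g * τ * g⁻¹ := by
          apply gl_ext
          intro y
          rw [hg', mul_mulVec, mul_mulVec, hτ, Matrix.mulVec_add, inv_mulVec, Matrix.mulVec_smul,
            ← hw, hu']
        rw [this]
        exact M.mul_mem (M.mul_mem hgM hτM) (M.inv_mem hgM)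
      have hstep2 : ∀ (w' u' : Fin n → F), IndepPair w' u' → f w' u' = 0 → ∀ c : F,
          ∀ g' : Matrix.GeneralLinearGroup (Fin n) F,
          (∀ y, (g' : Matrix (Fin n) (Fin n) F) *ᵥ y = y + (c * f y u') • w') → g' ∈ M := by
        intro w' u' hind' hwu' c g' hg'
        obtain ⟨s, hs, hsw, hsu⟩ := trans_orth hf w u w' u' hind hind' hwu hwu'
        have hsM : s ∈ M := hHM (hTH hs)
        have h0 : (c • rho f u) ⬝ᵥ w = 0 := by
          rw [smul_dotProduct, ← f_eq_dot hf, hwu, smul_zero]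
        obtain ⟨t0, _, ht0⟩ := transv w (c • rho f u) h0
        have ht0' : ∀ y, (t0 : Matrix (Fin n) (Fin n) F) *ᵥ y = y + (c * f y u) • w := by
          intro y
          rw [ht0, smul_dotProduct, ← f_eq_dot hf, smul_eq_mul]
        have ht0M : t0 ∈ M := hstep1 c t0 ht0'
        have : g' = s * t0 * s⁻¹ := by
          apply gl_ext
          intro y
          rw [hg', mul_mulVec, mul_mulVec, ht0', Matrix.mulVec_add, inv_mulVec, Matrix.mulVec_smul,
            hsw]
          have : f (((s⁻¹ : Matrix.GeneralLinearGroup (Fin n) F) : Matrix (Fin n) (Fin n) F) *ᵥ y) u =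
              f y u' := by
            rw [← TT_apply hf s hs, inv_mulVec, hsu]
          rw [this]
        rw [this]
        exact M.mul_mem (M.mul_mem hsM ht0M) (M.inv_mem hsM)
      apply SL_le (by omega) M
      intro v1 r hrv g' hg'
      by_cases hv1 : v1 = 0
      · have : g' = 1 := by
          apply gl_ext
          intro y
          rw [hg', hv1, smul_zero, add_zero, Units.val_one, Matrix.one_mulVec]
        rw [this]
        exact M.one_mem
      · obtain ⟨u1, hu1⟩ := rho_surj hf r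
        have hv1u1 : f v1 u1 = 0 := by rw [hu1, hrv]
        by_cases hspan : u1 ∈ Submodule.span F {v1}
        · rw [Submodule.mem_span_singleton] at hspan
          obtain ⟨a, ha⟩ := hspan
          apply hHM
          apply hTH
          apply Subgroup.subset_closure
          refine ⟨v1, a, fun y => ?_⟩
          rw [hg', ← hu1, ← ha, hf.bilinear.smul_right]
        · apply hstep2 v1 u1 ⟨hv1, hspan⟩ hv1u1 1 g'
          intro y
          rw [hg', ← hu1, one_mul]

end Cfsg.Agent.S5642
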