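import Cfsg.Statements.S5644
import Cfsg.Agent.Lib.Helper28.OSim
import Cfsg.Agent.Lib.Helper28.OEven
import Cfsg.Agent.S0292

set_option autoImplicit false
open Cfsg

namespace Cfsg.Agent.S5644

open Matrix Cfsg.Agent.Lib.Helper28.HForm Cfsg.Agent.Lib.Helper28.OGen
  Cfsg.Agent.Lib.Helper28.OMax Cfsg.Agent.Lib.Helper28.OQ Cfsg.Agent.Lib.Helper28.OMax2
  Cfsg.Agent.Lib.Helper28.OIwa Cfsg.Agent.Lib.Helper28.OSim Cfsg.Agent.Lib.Helper28.OEven
  Cfsg.Agent.Lib.Helper28.OBundle Cfsg.Agent.Lib.Helper28.OGenQ Cfsg.Agent.Lib.Helper28.OTrans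

theorem omega_le_SL {n : ℕ} {F : Type*} [Field F] (Q : (Fin n → F) → F) :
    Cfsg.Geo.omegaGL Q ≤ Cfsg.Geo.specialLinear (Fin n) F := by
  rw [omegaGL_eq, Subgroup.commutator_le]
  intro a _ b _
  unfold Cfsg.Geo.specialLinear
  rw [MonoidHom.mem_ker, map_commutatorElement, commutatorElement_eq_one_iff_commute]
  exact Commute.all _ _

theorem not_sim_tv {n : ℕ} {F : Type*} [Field F] [Fintype F] {Q : (Fin n → F) → F}
    {f : (Fin n → F) → (Fin n → F) → F} (hq : QF Q f) (vf : VFacts Q f) (h2 : (2 : F) ≠ 0)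
    (hn : 13 ≤ n) :
    ∃ g : Matrix.GeneralLinearGroup (Fin n) F, g ∈ Cfsg.Geo.specialLinear (Fin n) F ∧
      g ∉ Cfsg.Geo.quadSimilarityGroup Q := by
  have hf := hq.sym
  obtain ⟨u, hu, hu0⟩ := vf.sing
  have hd := finrank_span_one_le u
  obtain ⟨w, hw, hwS, hwn⟩ := sing_out hq h2 (Submodule.span F {u}) (by omega)
  have huw : f u w = 0 := hwS u (Submodule.mem_span_singleton_self u)
  have hwu : f w u = 0 := by rw [s_symm hf, huw]
  obtain ⟨y, hy⟩ := lin_solve hf ![u, w] (li2 u w hu0 hwn) ![1, 1]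
  have hyu : f y u = 1 := by
    have := hy 0
    simpa using this
  have hyw : f y w = 1 := by
    have := hy 1
    simpa using this
  obtain ⟨β, hβ⟩ := iso_fix_q hq y u hu (by rw [hyu]; exact one_ne_zero)
  obtain ⟨x, hx⟩ : ∃ x, x = y + β • u := ⟨_, rfl⟩
  rw [← hx] at hβ
  have hxu : f x u = 1 := by rw [hx, hf.add_left, hf.smul_left, f_sing hq hu, hyu]; ring
  have hxw : f x w = 1 := by rw [hx, hf.add_left, hf.smul_left, huw, hyw]; ring
  obtain ⟨t, htS, ht⟩ := tvGL hf w u hwu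
  refine ⟨t, htS, ?_⟩
  rintro ⟨c, hc⟩
  have h1 := hc x
  rw [ht, hxu, one_smul, hq.polar, hβ, hw, hxw, mul_zero] at h1
  simp at h1

/-- For a finite field F of odd order and n ≥ 13, let Q be a non-degenerate quadratic form on F^n (its polar form is non-degenerate). Then the elements of SL_n(F) that are similarities of Q (Q(gv) = c Q(v) for a non-zero scalar c depending on g) form a maximal subgroup of SL_n(F). -/
theorem result {F : Type*} [Field F] [Fintype F] (n : ℕ) (hn : 13 ≤ n) (hodd : Odd (Fintype.card F)) (Q : (Fin n → F) → F) (hQ : Cfsg.Geo.IsNondegenerateQuadraticForm Q) : Cfsg.Geo.IsMaximalIn (Cfsg.Geo.specialLinear (Fin n) F) (Cfsg.Geo.quadSimilarityGroup Q ⊓ Cfsg.Geo.specialLinear (Fin n) F) := by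
  have h2 : (2 : F) ≠ 0 := Cfsg.Agent.S0292.two_ne_zero_of_odd rfl hodd
  have hq : QF Q (QuadraticMap.polar Q) := qf_unb Q hQ
  have vf : VFacts Q (QuadraticMap.polar Q) :=
    vfacts_quad (by omega) (bundle Q hQ) (bundle_nondeg Q hQ)
  have hG : SgGroupQ Q (QuadraticMap.polar Q) (Cfsg.Geo.omegaGL Q) :=
    sgGroupQ_quad (by omega) (bundle Q hQ) (bundle_nondeg Q hQ)
  have hGH : Cfsg.Geo.omegaGL Q ≤
      Cfsg.Geo.quadSimilarityGroup Q ⊓ Cfsg.Geo.specialLinear (Fin n) F := by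
    intro g hg
    refine ⟨⟨1, fun v => ?_⟩, omega_le_SL Q hg⟩
    rw [hG.iso g hg, Units.val_one, one_mul]
  refine ⟨?_, ?_⟩
  · rw [SetLike.lt_iff_le_and_exists]
    refine ⟨inf_le_right, ?_⟩
    obtain ⟨g, hgS, hg⟩ := not_sim_tv hq vf h2 hn
    exact ⟨g, hgS, fun h => hg h.1⟩
  · intro M hHM hMS
    by_cases hMH : M = Cfsg.Geo.quadSimilarityGroup Q ⊓ Cfsg.Geo.specialLinear (Fin n) F
    · exact Or.inl hMH
    · right
      apply le_antisymm hMS
      have hex : ∃ g ∈ M, g ∉ Cfsg.Geo.quadSimilarityGroup Q := by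
        by_contra hcon
        push Not at hcon
        exact hMH (le_antisymm (fun g hg => ⟨hcon g hg, hMS hg⟩) hHM)
      obtain ⟨g, hgM, hgsim⟩ := hex
      have hGM : Cfsg.Geo.omegaGL Q ≤ M := le_trans hGH hHM
      obtain ⟨u, w₁, hu, hu0, hw₁u, hw₁, t⟩ := start hq vf h2 hn hG hGM g hgM hgsim
      exact SL_le_of_one hq vf h2 hn hG hGM u w₁ hu hu0 hw₁u hw₁ t

end Cfsg.Agent.S5644
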