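import Cfsg.Statements.S5649
import Cfsg.Agent.Lib.Helper28.SpPair

set_option autoImplicit false

open Cfsg

namespace Cfsg.Agent.S5649

/-- For a finite field F of odd order and m ≥ 7, the stabilizer in Sp_2m(F) of a pair of complementary totally isotropic m-spaces is maximal. -/
theorem result {F : Type*} [Field F] [Fintype F] (m : ℕ) (hm : 7 ≤ m) (hodd : Odd (Fintype.card F)) (D : Fin 2 → Submodule F (Fin m ⊕ Fin m → F)) (hD : Cfsg.Geo.IsMDecomposition m D) (hts : ∀ i, Cfsg.Geo.IsTotallySingularFor (Cfsg.sympForm m F) (D i)) : Cfsg.Geo.IsMaximalIn (Cfsg.spGL m F) (Cfsg.Geo.decompositionStabilizer D ⊓ Cfsg.spGL m F) :=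
  Cfsg.Agent.Lib.Helper28.SpPair.main hm hodd D hD hts

end Cfsg.Agent.S5649
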