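import Cfsg.Statements.S5655
import Cfsg.Agent.Lib.helper15.UD.Main
import Cfsg.Agent.Lib.Lead.UDK1Q2MAIN
import Cfsg.Agent.Lib.Helper9.UT.Main

set_option autoImplicit false
open Cfsg

namespace Cfsg.Agent.S5655

open Cfsg.Agent.Lib.helper15.UD

/-- Let F be the field with q² elements and n ≥ 13. Let D be a decomposition of F^n into t ≥ 2 pairwise orthogonal subspaces of equal dimension k, each non-degenerate for the standard unitary form, spanning F^n. Unless k = 2 and q = 2, the elements of SU_n(q) permuting the members of D form a maximal subgroup of SU_n(q). -/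
theorem result {F : Type*} [Field F] [Fintype F] (n q : ℕ) (hF : Fintype.card F = q ^ 2) (hn : 13 ≤ n) {t : ℕ} (k : ℕ) (D : Fin t → Submodule F (Fin n → F)) (hD : Cfsg.Geo.IsNondegenerateMDecomposition (Cfsg.hermForm n F q) k D) (hex : ¬ (k = 2 ∧ q = 2)) : Cfsg.Geo.IsMaximalIn (Cfsg.GU n F q ⊓ Cfsg.Geo.specialLinear (Fin n) F) (Cfsg.Geo.decompositionStabilizer D ⊓ (Cfsg.GU n F q ⊓ Cfsg.Geo.specialLinear (Fin n) F)) := by
  classical
  obtain ⟨σ, hc⟩ := ctx_exists hF n
  by_cases hk : 2 ≤ k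
  · exact main_k2 hc hn D hD hk hex
  · have hk1 : k = 1 := by
      have := hD.decomp.pos
      omega
    subst hk1
    refine main_k1 hc (by omega) D hD ?_
    intro M hNM hMG hne
    by_cases hq : q = 2
    · subst hq
      obtain ⟨g₀, hg₀, hnm⟩ := hne
      exact Cfsg.Agent.Lib.Lead.UDK1Q2.ud_k1_q2 (by rw [hF]; norm_num) (by omega) M hMG hNM g₀ hg₀ hnm
    · have h3 : 3 ≤ q := by
        have := Cfsg.Agent.Lib.Helper28.UHerm.two_le_q hF
        omega
      exact Cfsg.Agent.Lib.Helper9.UT.ut_main n q hF hn h3 M hNM hMG hne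

end Cfsg.Agent.S5655
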