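import Cfsg.Statements.S5660
import Cfsg.Agent.Lib.Helper28.SubF
import Cfsg.Agent.Lib.Helper28.UHerm

set_option autoImplicit false
open Cfsg

namespace Cfsg.Agent.S5660

open Cfsg.Agent.Lib.Helper28

theorem card_F0 {F : Type*} [Field F] [Fintype F] {q : ℕ} (hF : Fintype.card F = q ^ 2)
    (F₀ : Subfield F) (hcard : Fintype.card F = Nat.card F₀ ^ 2) : Nat.card F₀ = q := by
  rw [hF] at hcard
  exact (Nat.pow_left_injective (by norm_num : 2 ≠ 0) hcard).symm

theorem fix_mem {F : Type*} [Field F] [Fintype F] {q : ℕ} (hF : Fintype.card F = q ^ 2)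
    (F₀ : Subfield F) (hcard : Fintype.card F = Nat.card F₀ ^ 2) (x : F) (hx : x ∈ F₀) :
    x ^ q = x := by
  have hq : Nat.card F₀ = q := card_F0 hF F₀ hcard
  have : Fintype F₀ := Fintype.ofFinite _
  have h := FiniteField.pow_card (⟨x, hx⟩ : F₀)
  rw [← Nat.card_eq_fintype_card, hq] at h
  have := congrArg Subtype.val h
  simpa using this

theorem fix_iff {F : Type*} [Field F] [Fintype F] {q : ℕ} (hF : Fintype.card F = q ^ 2)
    (F₀ : Subfield F) (hcard : Fintype.card F = Nat.card F₀ ^ 2) (x : F) :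
    x ∈ F₀ ↔ x ^ q = x := by
  classical
  have hq : Nat.card F₀ = q := card_F0 hF F₀ hcard
  have hq2 : 1 < q := UHerm.two_le_q hF
  refine ⟨fix_mem hF F₀ hcard x, fun hx => ?_⟩
  have hp0 : (Polynomial.X ^ q - Polynomial.X : Polynomial F) ≠ 0 :=
    FiniteField.X_pow_card_sub_X_ne_zero F hq2
  have hdeg : (Polynomial.X ^ q - Polynomial.X : Polynomial F).natDegree = q :=
    FiniteField.X_pow_card_sub_X_natDegree_eq F hq2
  have hT : (Finset.univ.filter (fun y : F => y ∈ F₀)).card = q := by
    rw [← hq, Nat.card_eq_fintype_card, Fintype.card_subtype]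
  have hroot : ∀ y : F, y ∈ (Polynomial.X ^ q - Polynomial.X : Polynomial F).roots.toFinset ↔
      y ^ q = y := by
    intro y
    rw [Multiset.mem_toFinset, Polynomial.mem_roots hp0, Polynomial.IsRoot, Polynomial.eval_sub,
      Polynomial.eval_pow, Polynomial.eval_X, sub_eq_zero]
  have hTS : Finset.univ.filter (fun y : F => y ∈ F₀) ⊆
      (Polynomial.X ^ q - Polynomial.X : Polynomial F).roots.toFinset := by
    intro y hy
    rw [hroot]
    exact fix_mem hF F₀ hcard y (Finset.mem_filter.1 hy).2
  have hle : (Polynomial.X ^ q - Polynomial.X : Polynomial F).roots.toFinset.card ≤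
      (Finset.univ.filter (fun y : F => y ∈ F₀)).card := by
    calc _ ≤ Multiset.card (Polynomial.X ^ q - Polynomial.X : Polynomial F).roots :=
          Multiset.toFinset_card_le _
      _ ≤ (Polynomial.X ^ q - Polynomial.X : Polynomial F).natDegree := Polynomial.card_roots' _
      _ = _ := by rw [hdeg, hT]
  have heq := Finset.eq_of_subset_of_card_le hTS hle
  have hx' : x ∈ (Polynomial.X ^ q - Polynomial.X : Polynomial F).roots.toFinset :=
    (hroot x).2 hx
  rw [← heq] at hx'
  exact (Finset.mem_filter.1 hx').2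

/-- Let F be the field with q² elements, n ≥ 13 even, and F₀ the subfield with q elements. Let ζ be a non-zero element with ζ + ζ^q = 0 and P an invertible matrix such that ζ times the standard unitary form takes values in F₀ on the F₀-span of the columns of P and the form vanishes on every pair (u, u) of that span (so ζ times the form restricts to a non-degenerate alternating form there). Then the elements of SU_n(q) lying in the subfield group of P form a maximal subgroup of SU_n(q). -/
theorem result {F : Type*} [Field F] [Fintype F] (n q : ℕ) (hF : Fintype.card F = q ^ 2) (hn : 13 ≤ n) (heven : Even n) (F₀ : Subfield F) (hcard : Fintype.card F = Nat.card F₀ ^ 2) (ζ : F) (hζ0 : ζ ≠ 0) (hζ : ζ + ζ ^ q = 0) (P : Matrix.GeneralLinearGroup (Fin n) F) (hP : Cfsg.Geo.IsFormRationalStructure (Cfsg.hermForm n F q) F₀ ζ P) (halt : ∀ u : Fin n → F, (∀ i, u i ∈ F₀) → Cfsg.hermForm n F q (Matrix.mulVec (P : Matrix (Fin n) (Fin n) F) u) (Matrix.mulVec (P : Matrix (Fin n) (Fin n) F) u) = 0) : Cfsg.Geo.IsMaximalIn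 (Cfsg.GU n F q ⊓ Cfsg.Geo.specialLinear (Fin n) F) (Cfsg.Geo.subfieldSubgroup F₀ P ⊓ (Cfsg.GU n F q ⊓ Cfsg.Geo.specialLinear (Fin n) F)) := by
  obtain ⟨σ, hσ, hf⟩ := UHerm.herm_unitary hF n
  have C : SubF.Ctx σ (Cfsg.hermForm n F q) F₀ ζ P :=
    { hf := hf
      fix := fun x => by
        rw [hσ]
        exact fix_iff hF F₀ hcard x
      z0 := hζ0
      zs := by
        rw [hσ]
        exact eq_neg_of_add_eq_zero_right hζ
      rat := hP
      alt := halt }
  exact SubF.main C (by omega) (Or.inl ⟨heven, by omega⟩) _ (fun g => by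
    rw [Subgroup.mem_inf]
    exact Iff.rfl)

end Cfsg.Agent.S5660
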