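import Cfsg.Statements.S5674
import Cfsg.Agent.Lib.Helper28.OMaxQ
import Cfsg.Agent.Lib.Helper28.OTrans
import Cfsg.Agent.S0292

set_option autoImplicit false
open Cfsg

namespace Cfsg.Agent.S5674

open Matrix Cfsg.Agent.Lib.Lead Cfsg.Agent.Lib.Helper16 Cfsg.Agent.Lib.Helper28.OTrans
  Cfsg.Agent.Lib.Helper28.OMaxQ

theorem ts_max_any {ι : Type} [Fintype ι] [DecidableEq ι] {F : Type*} [Field F] [Fintype F]
    (h2 : (2 : F) ≠ 0) (hn : 5 ≤ Fintype.card ι) (Q : QuadraticForm F (ι → F))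
    (hQ : (QuadraticMap.polarBilin Q).Nondegenerate)
    (W : Submodule F (ι → F)) (hW0 : W ≠ ⊥) (hW : ∀ w ∈ W, Q w = 0)
    (hk : Odd (Fintype.card ι) ∨ 2 * Module.finrank F W + 3 ≤ Fintype.card ι) :
    Cfsg.Geo.IsMaximalIn (Cfsg.Geo.omegaGL (⇑Q))
      (Cfsg.Geo.subspaceStabilizer W ⊓ Cfsg.Geo.omegaGL (⇑Q)) := by
  obtain ⟨e, he⟩ : ∃ e : ι ≃ Fin (Fintype.card ι), e = Fintype.equivFin ι := ⟨_, rfl⟩
  apply isMaximalIn_of_map (RI.glReindex (F := F) e)
  rw [Subgroup.map_inf (Cfsg.Geo.subspaceStabilizer W) (Cfsg.Geo.omegaGL ⇑Q)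
    (RI.glReindex (F := F) e).toMonoidHom (RI.glReindex (F := F) e).injective, map_omegaGL, map_stab]
  have hW0' : W.comap (LinearMap.funLeft F F e) ≠ ⊥ := by
    obtain ⟨w, hwW, hw0⟩ := Submodule.exists_mem_ne_zero_of_ne_bot hW0
    intro h
    have h1 : w ∘ e.symm ∈ W.comap (LinearMap.funLeft F F e) := by
      rw [Submodule.mem_comap]
      show (w ∘ e.symm) ∘ e ∈ W
      have : (w ∘ e.symm) ∘ e = w := by
        funext i
        simp
      rw [this]
      exact hwW
    rw [h, Submodule.mem_bot] at h1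
    apply hw0
    funext i
    have := congrFun h1 (e i)
    simpa using this
  have hdim : Module.finrank F (W.comap (LinearMap.funLeft F F e)) = Module.finrank F W := by
    have hsurj : Function.Surjective (LinearMap.funLeft F F e) :=
      LinearMap.funLeft_surjective_of_injective F F e e.injective
    have h1 := Submodule.map_comap_eq_of_surjective hsurj W
    have h3 := LinearEquiv.finrank_map_eq (LinearEquiv.funCongrLeft F F e)
      (W.comap (LinearMap.funLeft F F e))
    have h4 : Submodule.map (LinearEquiv.funCongrLeft F F e : (Fin (Fintype.card ι) → F) →ₗ[F] (ι → F))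
        (W.comap (LinearMap.funLeft F F e)) =
        Submodule.map (LinearMap.funLeft F F e) (W.comap (LinearMap.funLeft F F e)) := rfl
    rw [← h3, h4, h1]
  have := ts_max_Q h2 hn (RI.qReindex e Q) (RI.qReindex_nondeg e Q hQ)
    (W.comap (LinearMap.funLeft F F e)) hW0' (fun x hx => hW _ hx) (by
      rw [hdim]
      exact hk)
  exact this

/-- Let F be a finite field of odd order, m ≥ 6, Q the standard quadratic form x₀² + Σ x_i y_i on F^(2m+1) and Ω the commutator subgroup of its isometry group inside GL_(2m+1)(F). The elements of Ω stabilising a non-zero subspace on which Q vanishes form a maximal subgroup of Ω. -/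
theorem result {F : Type*} [Field F] [Fintype F] (hodd : Odd (Fintype.card F)) (m : ℕ) (hm : 6 ≤ m) (W : Submodule F (Unit ⊕ (Fin m ⊕ Fin m) → F)) (hW0 : W ≠ ⊥) (hW : Cfsg.Geo.IsTotallySingularQuad (Cfsg.quadFormOdd m F) W) : Cfsg.Geo.IsMaximalIn (Cfsg.Geo.omegaGL (Cfsg.quadFormOdd m F)) (Cfsg.Geo.subspaceStabilizer W ⊓ Cfsg.Geo.omegaGL (Cfsg.quadFormOdd m F)) := by
  have h2 : (2 : F) ≠ 0 := Cfsg.Agent.S0292.two_ne_zero_of_odd rfl hodd
  have hcard : Fintype.card (Unit ⊕ (Fin m ⊕ Fin m)) = 2 * m + 1 := by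
    simp only [Fintype.card_sum, Fintype.card_fin, Fintype.card_unit]
    ring
  have := ts_max_any h2 (by rw [hcard]; omega) (qfOdd m F) (Cfsg.Agent.S0292.nondeg_odd h2 m) W hW0
    (fun w hw => hW w hw) (Or.inl (by rw [hcard]; exact ⟨m, rfl⟩))
  exact this

end Cfsg.Agent.S5674
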