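import Cfsg.Statements.S5675
import Cfsg.Agent.Lib.Helper28.ONdA
import Cfsg.Agent.S5674

set_option autoImplicit false
open Cfsg

namespace Cfsg.Agent.S5675

open Cfsg.Agent.Lib.Helper16 Cfsg.Agent.Lib.Helper28.ONdA

/-- Let F be a finite field of odd order q, m ≥ 6, Q the standard quadratic form on F^(2m+1) and Ω the commutator subgroup of its isometry group. Let W be a non-zero subspace of even dimension on which the polar form of Q is non-degenerate; exclude the case q = 3, dim W = 2 with Q vanishing on some line of W (a plus-type plane). Then the elements of Ω stabilising W (equivalently, stabilising its orthogonal complement, of odd dimension) form a maximal subgroup of Ω. -/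
theorem result {F : Type*} [Field F] [Fintype F] (hodd : Odd (Fintype.card F)) (m : ℕ) (hm : 6 ≤ m) (W : Submodule F (Unit ⊕ (Fin m ⊕ Fin m) → F)) (hW0 : W ≠ ⊥) (hev : Even (Module.finrank F W)) (hW : Cfsg.Geo.IsNondegenerateOn (QuadraticMap.polar (Cfsg.quadFormOdd m F)) W) (hex : ¬ (Fintype.card F = 3 ∧ Module.finrank F W = 2 ∧ Cfsg.Geo.IsPlusTypeOn (Cfsg.quadFormOdd m F) W)) : Cfsg.Geo.IsMaximalIn (Cfsg.Geo.omegaGL (Cfsg.quadFormOdd m F)) (Cfsg.Geo.subspaceStabilizer W ⊓ Cfsg.Geo.omegaGL (Cfsg.quadFormOdd m F)) := by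
  have h2 : (2 : F) ≠ 0 := Cfsg.Agent.S0292.two_ne_zero_of_odd rfl hodd
  have hcard : Fintype.card (Unit ⊕ (Fin m ⊕ Fin m)) = 2 * m + 1 := by
    simp only [Fintype.card_sum, Fintype.card_fin, Fintype.card_unit]
    ring
  obtain ⟨j, hj⟩ := hev
  have hW1 : W ≠ ⊤ := by
    intro h
    rw [h, finrank_top, Module.finrank_fintype_fun_eq_card, hcard] at hj
    omega
  have := nd_max_any (by rw [hcard]; omega) (qfOdd m F) (Cfsg.Agent.S0292.nondeg_odd h2 m) W hW0
    hW1 hW (by rw [hcard]; omega) ?_ (by rw [hcard]; omega)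
  · exact this
  · intro hW2 hs
    by_contra hc
    apply hex
    have h1 : 1 < Fintype.card F := Fintype.one_lt_card
    obtain ⟨i, hi⟩ := hodd
    refine ⟨by omega, hW2, ?_⟩
    obtain ⟨e, heW, he0, hee⟩ := hs
    refine ⟨Submodule.span F {e}, (Submodule.span_singleton_le_iff_mem e W).2 heW, ?_, ?_⟩
    · intro x hx
      obtain ⟨c, rfl⟩ := Submodule.mem_span_singleton.1 hx
      have h3 := QuadraticMap.map_smul (qfOdd m F) c e
      rw [hee, smul_zero] at h3
      exact h3
    · rw [finrank_span_singleton he0, hW2]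

end Cfsg.Agent.S5675
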