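import Cfsg.Statements.S5676
import Cfsg.Agent.Lib.Helper28.OPlane
import Cfsg.Agent.S0292

set_option autoImplicit false
open Cfsg

namespace Cfsg.Agent.S5676

open Matrix Cfsg.Agent.Lib.Lead Cfsg.Agent.Lib.Helper16 Cfsg.Agent.Lib.Helper28.OTrans
  Cfsg.Agent.Lib.Helper28.OMaxQ Cfsg.Agent.Lib.Helper28.OIwaQ Cfsg.Agent.Lib.Helper28.OPlane
  Cfsg.Agent.S0795

theorem nonmax_of_map {G G' : Type*} [Group G] [Group G'] (φ : G ≃* G') (H S : Subgroup G)
    (h : ∃ K' : Subgroup G', H.map φ.toMonoidHom ⊓ S.map φ.toMonoidHom < K' ∧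
      K' < S.map φ.toMonoidHom) :
    ∃ K : Subgroup G, H ⊓ S < K ∧ K < S := by
  obtain ⟨K', h1, h2⟩ := h
  refine ⟨K'.comap φ.toMonoidHom, ?_, ?_⟩
  · have h3 := (Subgroup.comap_lt_comap_of_surjective (f := φ.toMonoidHom) φ.surjective).2 h1
    rwa [Subgroup.comap_inf, Subgroup.comap_map_eq_self_of_injective (f := φ.toMonoidHom) φ.injective,
      Subgroup.comap_map_eq_self_of_injective (f := φ.toMonoidHom) φ.injective] at h3
  · have h3 := (Subgroup.comap_lt_comap_of_surjective (f := φ.toMonoidHom) φ.surjective).2 h2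
    rwa [Subgroup.comap_map_eq_self_of_injective (f := φ.toMonoidHom) φ.injective] at h3

theorem extract {ι : Type} [Fintype ι] [DecidableEq ι] {F : Type*} [Field F]
    (Q : QuadraticForm F (ι → F)) (W : Submodule F (ι → F)) (hdim : Module.finrank F W = 2)
    (hW : Cfsg.Geo.IsNondegenerateOn (QuadraticMap.polar (⇑Q)) W)
    (hplus : Cfsg.Geo.IsPlusTypeOn (⇑Q) W) :
    ∃ e₁ f₁ : ι → F, Q e₁ = 0 ∧ Q f₁ = 0 ∧ QuadraticMap.polar (⇑Q) e₁ f₁ = 1 ∧
      W = Submodule.span F {e₁, f₁} := by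
  obtain ⟨U, hUW, hU, hUdim⟩ := hplus
  have hU1 : Module.finrank F U = 1 := by omega
  have hUne : U ≠ ⊥ := by
    intro h
    rw [h, finrank_bot] at hU1
    omega
  obtain ⟨e₁, he₁U, he₁0⟩ := Submodule.exists_mem_ne_zero_of_ne_bot hUne
  have he₁ : Q e₁ = 0 := hU e₁ he₁U
  have he₁W : e₁ ∈ W := hUW he₁U
  obtain ⟨x, hxW, hx⟩ := (hW e₁ he₁W he₁0).1
  obtain ⟨x₁, hx₁⟩ : ∃ x₁, x₁ = (QuadraticMap.polar (⇑Q) x e₁)⁻¹ • x := ⟨_, rfl⟩
  have hx₁W : x₁ ∈ W := by
    rw [hx₁]
    exact W.smul_mem _ hxW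
  have hx₁e : QuadraticMap.polar (⇑Q) x₁ e₁ = 1 := by
    rw [hx₁, QuadraticMap.polar_smul_left, smul_eq_mul, inv_mul_cancel₀ hx]
  obtain ⟨f₁, hf₁⟩ : ∃ f₁, f₁ = x₁ - Q x₁ • e₁ := ⟨_, rfl⟩
  have hf₁W : f₁ ∈ W := by
    rw [hf₁]
    exact W.sub_mem hx₁W (W.smul_mem _ he₁W)
  have hQf₁ : Q f₁ = 0 := by
    have h1 : Q (x₁ - Q x₁ • e₁) = Q x₁ + Q (Q x₁ • e₁) - QuadraticMap.polar (⇑Q) x₁ (Q x₁ • e₁) := by
      have h3 : QuadraticMap.polar (⇑Q) (x₁ - Q x₁ • e₁) (Q x₁ • e₁) =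
          Q x₁ - Q (x₁ - Q x₁ • e₁) - Q (Q x₁ • e₁) := by
        unfold QuadraticMap.polar
        rw [sub_add_cancel]
      rw [QuadraticMap.polar_sub_left, QuadraticMap.polar_self] at h3
      simp only [nsmul_eq_mul, Nat.cast_ofNat] at h3
      linear_combination h3
    rw [hf₁, h1, QuadraticMap.map_smul, he₁, QuadraticMap.polar_smul_right, hx₁e]
    simp
  have hef : QuadraticMap.polar (⇑Q) e₁ f₁ = 1 := by
    rw [hf₁, QuadraticMap.polar_sub_right, QuadraticMap.polar_smul_right, QuadraticMap.polar_self,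
      he₁, QuadraticMap.polar_comm, hx₁e]
    simp
  refine ⟨e₁, f₁, he₁, hQf₁, hef, ?_⟩
  have hli : LinearIndependent F ![e₁, f₁] := by
    rw [LinearIndependent.pair_iff]
    intro a b hab
    have h1 : QuadraticMap.polar (⇑Q) (a • e₁ + b • f₁) f₁ = 0 := by
      rw [hab]
      simp [QuadraticMap.polar]
    have h3 : QuadraticMap.polar (⇑Q) (a • e₁ + b • f₁) e₁ = 0 := by
      rw [hab]
      simp [QuadraticMap.polar]
    rw [QuadraticMap.polar_add_left, QuadraticMap.polar_smul_left, QuadraticMap.polar_smul_left,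
      QuadraticMap.polar_self, hQf₁, hef] at h1
    rw [QuadraticMap.polar_add_left, QuadraticMap.polar_smul_left, QuadraticMap.polar_smul_left,
      QuadraticMap.polar_self, he₁, QuadraticMap.polar_comm, hef] at h3
    simp only [smul_eq_mul, mul_one, nsmul_eq_mul, mul_zero, add_zero, zero_add] at h1 h3
    exact ⟨h1, h3⟩
  have hle : Submodule.span F {e₁, f₁} ≤ W := by
    rw [Submodule.span_le]
    intro y hy
    rcases hy with rfl | rfl
    · exact he₁W
    · exact hf₁W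
  have hfr : Module.finrank F (Submodule.span F ({e₁, f₁} : Set (ι → F))) = 2 := by
    have h1 := finrank_span_eq_card hli
    have h3 : Set.range ![e₁, f₁] = {e₁, f₁} := by
      rw [Matrix.range_cons, Matrix.range_cons, Matrix.range_empty, Set.union_empty]
      rfl
    rw [h3] at h1
    rw [h1]
    simp
  exact (Submodule.eq_of_le_of_finrank_eq hle (by rw [hfr, hdim])).symm

theorem plus_plane_any {ι : Type} [Fintype ι] [DecidableEq ι] {F : Type*} [Field F] [Fintype F]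
    (hq : Fintype.card F = 3) (hn : 6 ≤ Fintype.card ι) (Q : QuadraticForm F (ι → F))
    (hQ : (QuadraticMap.polarBilin Q).Nondegenerate)
    (W : Submodule F (ι → F)) (hdim : Module.finrank F W = 2)
    (hW : Cfsg.Geo.IsNondegenerateOn (QuadraticMap.polar (⇑Q)) W)
    (hplus : Cfsg.Geo.IsPlusTypeOn (⇑Q) W) :
    ∃ K : Subgroup (Matrix.GeneralLinearGroup ι F),
      Cfsg.Geo.subspaceStabilizer W ⊓ Cfsg.Geo.omegaGL (⇑Q) < K ∧ K < Cfsg.Geo.omegaGL (⇑Q) := by
  have h2 := two_ne_zero3 hq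
  obtain ⟨e₁, f₁, he₁, hf₁, hef, hWs⟩ := extract Q W hdim hW hplus
  obtain ⟨e, he⟩ : ∃ e : ι ≃ Fin (Fintype.card ι), e = Fintype.equivFin ι := ⟨_, rfl⟩
  apply nonmax_of_map (RI.glReindex (F := F) e)
  rw [map_omegaGL, map_stab]
  have hQ' := RI.qReindex_nondeg e Q hQ
  have hsg := sgGroup_omegaGL h2 (by omega) (RI.qReindex e Q) hQ'
  have hc : ∀ x : ι → F, (x ∘ e.symm) ∘ e = x := by
    intro x
    funext i
    simp
  have hQc : ∀ x : ι → F, (RI.qReindex e Q) (x ∘ e.symm) = Q x := by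
    intro x
    show Q ((x ∘ e.symm) ∘ e) = Q x
    rw [hc]
  have hpc : ∀ x y : ι → F, pf (RI.qReindex e Q) (x ∘ e.symm) (y ∘ e.symm) =
      QuadraticMap.polar (⇑Q) x y := by
    intro x y
    show QuadraticMap.polar (⇑(RI.qReindex e Q)) (x ∘ e.symm) (y ∘ e.symm) = _
    unfold QuadraticMap.polar
    have : x ∘ e.symm + y ∘ e.symm = (x + y) ∘ e.symm := rfl
    rw [this, hQc, hQc, hQc]
  have := plus_plane_abs hq (pf_symF _ hQ') hn hsg (W.comap (LinearMap.funLeft F F e))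
    (e₁ ∘ e.symm) (f₁ ∘ e.symm) (by rw [pf_self, hQc, he₁, mul_zero])
    (by rw [pf_self, hQc, hf₁, mul_zero]) (by rw [hpc, hef]) (by
      ext x
      rw [Submodule.mem_comap, hWs, Submodule.mem_span_pair, Submodule.mem_span_pair]
      constructor
      · rintro ⟨a, b, hab⟩
        refine ⟨a, b, ?_⟩
        have h1 : (LinearMap.funLeft F F e) x = x ∘ e := rfl
        rw [h1] at hab
        funext i
        have h3 := congrFun hab (e.symm i)
        simp only [Pi.add_apply, Pi.smul_apply, Function.comp_apply, Equiv.apply_symm_apply] at h3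
        simp only [Pi.add_apply, Pi.smul_apply, Function.comp_apply]
        exact h3
      · rintro ⟨a, b, hab⟩
        refine ⟨a, b, ?_⟩
        have h1 : (LinearMap.funLeft F F e) x = x ∘ e := rfl
        rw [h1, ← hab]
        funext i
        simp)
  exact this

/-- Let F be the field with 3 elements, m ≥ 6, Q the standard quadratic form on F^(2m+1) and Ω the commutator subgroup of its isometry group. Let W be a 2-dimensional subspace on which the polar form is non-degenerate and which contains a line on which Q vanishes. Then the elements of Ω stabilising W form a subgroup that is not maximal: some subgroup lies strictly between it and Ω. -/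
theorem result {F : Type*} [Field F] [Fintype F] (hq : Fintype.card F = 3) (m : ℕ) (hm : 6 ≤ m) (W : Submodule F (Unit ⊕ (Fin m ⊕ Fin m) → F)) (hdim : Module.finrank F W = 2) (hW : Cfsg.Geo.IsNondegenerateOn (QuadraticMap.polar (Cfsg.quadFormOdd m F)) W) (hplus : Cfsg.Geo.IsPlusTypeOn (Cfsg.quadFormOdd m F) W) : ∃ K : Subgroup (Matrix.GeneralLinearGroup (Unit ⊕ (Fin m ⊕ Fin m)) F), Cfsg.Geo.subspaceStabilizer W ⊓ Cfsg.Geo.omegaGL (Cfsg.quadFormOdd m F) < K ∧ K < Cfsg.Geo.omegaGL (Cfsg.quadFormOdd m F) := by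
  have h2 := two_ne_zero3 hq
  have hcard : Fintype.card (Unit ⊕ (Fin m ⊕ Fin m)) = 2 * m + 1 := by
    simp only [Fintype.card_sum, Fintype.card_fin, Fintype.card_unit]
    ring
  have := plus_plane_any hq (by rw [hcard]; omega) (qfOdd m F) (Cfsg.Agent.S0292.nondeg_odd h2 m) W hdim
    hW hplus
  exact this

end Cfsg.Agent.S5676
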