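import Cfsg.Statements.S5677
import Cfsg.Agent.Lib.Helper28.OdT
import Cfsg.Agent.S0292

set_option autoImplicit false
open Cfsg

namespace Cfsg.Agent.S5677

open Cfsg.Agent.Lib.Helper16 Cfsg.Agent.Lib.Helper28.Od

/-- Let F be a finite field of odd order q, m ≥ 6, Q the standard quadratic form on F^(2m+1) and Ω the commutator subgroup of its isometry group. Let D be a decomposition of F^(2m+1) into t ≥ 2 pairwise orthogonal, pairwise Q-isometric subspaces of equal dimension k > 1 on which the polar form is non-degenerate. Unless q = 3 and k = 3, the elements of Ω permuting the members of D form a maximal subgroup of Ω. -/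
theorem result {F : Type*} [Field F] [Fintype F] (hodd : Odd (Fintype.card F)) (m : ℕ) (hm : 6 ≤ m) {t : ℕ} (k : ℕ) (hk : 1 < k) (D : Fin t → Submodule F (Unit ⊕ (Fin m ⊕ Fin m) → F)) (hD : Cfsg.Geo.IsOrthogonalMDecomposition (Cfsg.quadFormOdd m F) k D) (hex : ¬ (Fintype.card F = 3 ∧ k = 3)) : Cfsg.Geo.IsMaximalIn (Cfsg.Geo.omegaGL (Cfsg.quadFormOdd m F)) (Cfsg.Geo.decompositionStabilizer D ⊓ Cfsg.Geo.omegaGL (Cfsg.quadFormOdd m F)) := by
  have h2 : (2 : F) ≠ 0 := Cfsg.Agent.S0292.two_ne_zero_of_odd rfl hodd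
  have hcard : Fintype.card (Unit ⊕ (Fin m ⊕ Fin m)) = 2 * m + 1 := by
    simp only [Fintype.card_sum, Fintype.card_fin, Fintype.card_unit]
    ring
  have hdim := dec_dim_any hD.decomp.decomp
  rw [hcard] at hdim
  have ht2 := hD.decomp.decomp.two_le
  have hoddtk : Odd (t * k) := by
    rw [← hdim]
    exact ⟨m, rfl⟩
  rw [Nat.odd_mul] at hoddtk
  obtain ⟨⟨a, ha⟩, ⟨b, hb⟩⟩ := hoddtk
  have h1 : 1 < Fintype.card F := Fintype.one_lt_card
  obtain ⟨c, hc⟩ := hodd
  have hk3 : 3 ≤ k := by omega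
  have ht3 : 3 ≤ t := by omega
  have hk5 : 5 ≤ k ∨ (5 ≤ Fintype.card F ∧ 5 ≤ t) := by
    by_cases h3 : k = 3
    · right
      refine ⟨?_, ?_⟩
      · have : Fintype.card F ≠ 3 := fun h => hex ⟨h, h3⟩
        omega
      · subst h3
        omega
    · left
      omega
  have := od_max_any h2 (by rw [hcard]; omega) (qfOdd m F) (Cfsg.Agent.S0292.nondeg_odd h2 m) D hD
    hk3 ht3 hk5
  exact this

end Cfsg.Agent.S5677
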