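import Cfsg.Statements.S5683
import Cfsg.Agent.Lib.Helper28.OsP
import Cfsg.Agent.Lib.Helper28.OsR
import Cfsg.Agent.S0292

set_option autoImplicit false
open Cfsg

namespace Cfsg.Agent.S5683

open Matrix Cfsg.Agent.Lib.Lead Cfsg.Agent.Lib.Helper16 Cfsg.Agent.Lib.Helper28.OTrans
  Cfsg.Agent.Lib.Helper28.Os

/-- Let F be a finite field of odd order, m ≥ 6, Q the standard quadratic form on F^(2m+1) and Ω the commutator subgroup of its isometry group. Let F₀ be a subfield with |F| = |F₀| ^ r for a prime r and P an invertible matrix such that Q takes values in F₀ on the F₀-span of the columns of P. Then the elements of Ω lying in the subfield group of P (the conjugate by P of the product of GL_(2m+1)(F₀) with the scalars) form a maximal subgroup of Ω. -/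
theorem result {F : Type*} [Field F] [Fintype F] (hodd : Odd (Fintype.card F)) (m : ℕ) (hm : 6 ≤ m) (F₀ : Subfield F) (r : ℕ) (hr : r.Prime) (hcard : Fintype.card F = Nat.card F₀ ^ r) (P : Matrix.GeneralLinearGroup (Unit ⊕ (Fin m ⊕ Fin m)) F) (hP : Cfsg.Geo.IsQuadFormRationalStructure (Cfsg.quadFormOdd m F) F₀ P) : Cfsg.Geo.IsMaximalIn (Cfsg.Geo.omegaGL (Cfsg.quadFormOdd m F)) (Cfsg.Geo.subfieldSubgroup F₀ P ⊓ Cfsg.Geo.omegaGL (Cfsg.quadFormOdd m F)) := by
  have h2 : (2 : F) ≠ 0 := Cfsg.Agent.S0292.two_ne_zero_of_odd rfl hodd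
  have hcardι : Fintype.card (Unit ⊕ (Fin m ⊕ Fin m)) = 2 * m + 1 := by
    simp only [Fintype.card_sum, Fintype.card_fin, Fintype.card_unit]
    ring
  obtain ⟨e, he⟩ : ∃ e : (Unit ⊕ (Fin m ⊕ Fin m)) ≃ Fin (Fintype.card (Unit ⊕ (Fin m ⊕ Fin m))),
    e = Fintype.equivFin _ := ⟨_, rfl⟩
  apply isMaximalIn_of_map (RI.glReindex (F := F) e)
  rw [Subgroup.map_inf _ _ (RI.glReindex (F := F) e).toMonoidHom (RI.glReindex (F := F) e).injective,
    map_omegaGL, map_sub_reindex]
  have hP' : Cfsg.Geo.IsQuadFormRationalStructure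
      (fun v : Fin (Fintype.card (Unit ⊕ (Fin m ⊕ Fin m))) → F =>
        (1 : F) * RI.qReindex e (qfOdd m F) v) F₀ (RI.glReindex (F := F) e P) := by
    intro u hu
    have h1 := hP (u ∘ e) (fun i => hu (e i))
    show (1 : F) * qfOdd m F ((((RI.glReindex (F := F) e P : Matrix.GeneralLinearGroup _ F) :
      Matrix _ _ F) *ᵥ u) ∘ e) ∈ F₀
    rw [one_mul, RI.glReindex_coe, RI.reindex_mulVec, qfOdd_coe]
    have e2 : (((P : Matrix _ _ F) *ᵥ (u ∘ e)) ∘ e.symm) ∘ e = (P : Matrix _ _ F) *ᵥ (u ∘ e) := by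
      funext i
      simp
    rw [e2]
    exact h1
  have := os_quad (by rw [hcardι]; omega) (RI.qReindex e (qfOdd m F))
    (RI.qReindex_nondeg e _ (Cfsg.Agent.S0292.nondeg_odd h2 m)) F₀ r hr hcard
    (RI.glReindex (F := F) e P) 1 one_ne_zero hP'
  exact this

end Cfsg.Agent.S5683
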