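import Cfsg.Statements.S5691
import Cfsg.Agent.Lib.Helper28.ONsp
import Cfsg.Agent.Lib.Helper28.OEven

set_option autoImplicit false
open Cfsg

namespace Cfsg.Agent.S5691

open Cfsg.Agent.Lib.Helper28.OEven Cfsg.Agent.Lib.Helper28.OBundle Cfsg.Agent.Lib.Helper28.OGenQ
  Cfsg.Agent.Lib.Helper28.ONsp

theorem char_two' {F : Type*} [Field F] [Fintype F] (heven : ¬ Odd (Fintype.card F)) :
    (2 : F) = 0 := by
  have h1 : Fintype.card F % 2 = 0 := by
    rcases Nat.even_or_odd (Fintype.card F) with h | h
    · exact Nat.even_iff.mp h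
    · exact absurd h heven
  have h2 : ringChar F = 2 := (FiniteField.even_card_iff_char_two).mpr h1
  have : CharP F 2 := by
    rw [← h2]
    exact ringChar.charP F
  exact CharP.cast_eq_zero F 2

/-- Let F be a finite field with q elements, n ≥ 13 even, Q a non-degenerate quadratic form on F^n (of either type), and Ω the commutator subgroup of the isometry group of Q, viewed inside GL_n(F). Suppose q is even and v is a vector with Q(v) ≠ 0. Then the elements of Ω stabilising the line spanned by v form a maximal subgroup of Ω. -/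
theorem result {F : Type*} [Field F] [Fintype F] {n : ℕ} (hn : 13 ≤ n) (heven : Even n) (Q : (Fin n → F) → F) (hQ : Cfsg.Geo.IsNondegenerateQuadraticForm Q) (hchar : ¬ Odd (Fintype.card F)) (v : (Fin n → F)) (hv : Q v ≠ 0) : Cfsg.Geo.IsMaximalIn (Cfsg.Geo.omegaGL Q) (Cfsg.Geo.subspaceStabilizer (Submodule.span F {v}) ⊓ Cfsg.Geo.omegaGL Q) := by
  have h2 : (2 : F) = 0 := char_two' hchar
  exact nsp_max (qf_unb Q hQ) (vfacts_quad (by omega) (bundle Q hQ) (bundle_nondeg Q hQ)) h2 hn
    (sgGroupQ_quad (by omega) (bundle Q hQ) (bundle_nondeg Q hQ)) v hv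

end Cfsg.Agent.S5691
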