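import Cfsg.Statements.S5693
import Cfsg.Agent.Lib.Helper28.OFrameT
import Cfsg.Agent.Lib.Helper28.ODecEven

set_option autoImplicit false
open Cfsg

namespace Cfsg.Agent.S5693

open Matrix Cfsg.Agent.Lib.Helper28.OFrameT Cfsg.Agent.Lib.Helper28.OBundle
  Cfsg.Agent.Lib.Helper28.ONdW Cfsg.Agent.Lib.Helper28.ODecOdd Cfsg.Agent.Lib.Helper28.ODecEven

/-- Let F be a finite field with q elements, n ≥ 13 even, Q a non-degenerate quadratic form on F^n of plus type (some subspace of dimension n/2 is totally singular), and Ω the commutator subgroup of the isometry group of Q, viewed inside GL_n(F). Let D be a decomposition of F^n into t ≥ 2 pairwise orthogonal, pairwise Q-isometric subspaces of equal dimension k on which the polar form is non-degenerate (with, for even k, all members of plus type or t even; for odd k, q odd and square discriminant), in one of the cases: k = 2 with q = 3; k = 2 with plus-type members and q ∈ {2, 4, 5}; k = 3 with q = 3; k = 4 with plus-type members and q = 2. Then the elements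 of Ω permuting the members of D form a subgroup that is not maximal: some subgroup lies strictly between it and Ω. -/
theorem result {F : Type*} [Field F] [Fintype F] {n : ℕ} (hn : 13 ≤ n) (heven : Even n) (Q : (Fin n → F) → F) (hQ : Cfsg.Geo.IsNondegenerateQuadraticForm Q) (hplus : Cfsg.Geo.IsPlusTypeOn Q ⊤) {t : ℕ} (k : ℕ) (D : Fin t → Submodule F (Fin n → F)) (hD : Cfsg.Geo.IsOrthogonalMDecomposition Q k D) (hke : Even k → ((∀ i, Cfsg.Geo.IsPlusTypeOn Q (D i)) ∨ Even t)) (hko : Odd k → (Odd (Fintype.card F) ∧ Cfsg.Geo.HasSquareDiscriminant Q)) (hcase : ((k = 2 ∧ (Fintype.card F = 3 ∨ ((∀ i, Cfsg.Geo.IsPlusTypeOn Q (D i)) ∧ (Fintype.card F = 2 ∨ Fintype.card F = 4 ∨ Fintype.card F = 5)))) ∨ (k = 3 ∧ Fintype.card F = 3) ∨ (k = 4 ∧ Fintype.card F = 2 ∧ ∀ i, Cfsg.Geo.IsPlusTypeOn Q (D i)))) : ∃ K : Subgroup (Matrix.GeneralLinearGroup (Fin n) F), Cfsg.Geo.decompositionStabilizer D ⊓ Cfsg.Geo.omegaGL Q < K ∧ K < Cfsg.Geo.omegaGL Q := by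
  have hdim := dec_dim hD.decomp.decomp
  have ht2 := hD.decomp.decomp.two_le
  rcases hcase with ⟨rfl, h⟩ | ⟨rfl, hc⟩ | ⟨rfl, hc, hpl⟩
  · have ht : 7 ≤ t := by omega
    rcases h with hc | ⟨hpl, hc | hc | hc⟩
    · by_cases hp : Cfsg.Geo.IsPlusTypeOn Q (D ⟨0, by omega⟩)
      · exact hyp3_fin hc (by omega) (bundle Q hQ) (bundle_nondeg Q hQ) D (by omega)
          hD.decomp.nondegenerate hD.decomp.decomp.finrank_eq hD.decomp.orthogonal hD.isometric hp
      · refine frame2_fin hc (by omega) (bundle Q hQ) (bundle_nondeg Q hQ) D (by omega)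
          hD.decomp.nondegenerate hD.decomp.decomp.finrank_eq hD.decomp.orthogonal hD.isometric ?_
        intro v hv hv0
        by_contra hne
        exact hp (plus_of_sing Q hQ _ (hD.decomp.decomp.finrank_eq _) v hv hne hv0)
    · exact q2_fin hc (by omega) (bundle Q hQ) (bundle_nondeg Q hQ) D (by omega)
        hD.decomp.nondegenerate hD.decomp.decomp.finrank_eq hD.decomp.orthogonal hpl
    · exact q4_fin hc (by omega) (bundle Q hQ) (bundle_nondeg Q hQ) D (by omega)
        hD.decomp.nondegenerate hD.decomp.decomp.finrank_eq hD.decomp.orthogonal hpl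
    · exact hyp5_fin hc (by omega) (bundle Q hQ) (bundle_nondeg Q hQ) D (by omega)
        hD.decomp.nondegenerate hD.decomp.decomp.finrank_eq hD.decomp.orthogonal hD.isometric
        (hpl _)
  · exact frame3_fin hc (by omega) (bundle Q hQ) (bundle_nondeg Q hQ) D ht2
      hD.decomp.nondegenerate hD.decomp.decomp.finrank_eq hD.decomp.orthogonal hD.isometric
  · exact d_fin hc (by omega) (bundle Q hQ) (bundle_nondeg Q hQ) D ht2
      hD.decomp.nondegenerate hD.decomp.decomp.finrank_eq hD.decomp.orthogonal hpl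

end Cfsg.Agent.S5693
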