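import Cfsg.Statements.S5697
import Cfsg.Agent.Lib.Helper28.OPair

set_option autoImplicit false

open Cfsg

namespace Cfsg.Agent.S5697

open Cfsg.Agent.Lib.Helper28 Cfsg.Agent.Lib.Helper28.OEven Cfsg.Agent.Lib.Helper28.OGenQ
  Cfsg.Agent.Lib.Helper28.OBundle Cfsg.Agent.Lib.Helper28.OQ Cfsg.Agent.Lib.Helper28.OMax2

/-- For a plus-type quadratic form in even dimension n ≥ 13 with n/2 even, the stabilizer in Ω of a pair of complementary totally singular n/2-spaces is maximal in Ω. -/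
theorem result {F : Type*} [Field F] [Fintype F] {n : ℕ} (hn : 13 ≤ n) (heven : Even n) (Q : (Fin n → F) → F) (hQ : Cfsg.Geo.IsNondegenerateQuadraticForm Q) (hplus : Cfsg.Geo.IsPlusTypeOn Q ⊤) (k : ℕ) (hk : 2 * k = n) (hke : Even k) (D : Fin 2 → Submodule F (Fin n → F)) (hD : Cfsg.Geo.IsMDecomposition k D) (hts : ∀ i, Cfsg.Geo.IsTotallySingularQuad Q (D i)) : Cfsg.Geo.IsMaximalIn (Cfsg.Geo.omegaGL Q) (Cfsg.Geo.decompositionStabilizer D ⊓ Cfsg.Geo.omegaGL Q) := by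
  obtain ⟨k', hk'⟩ := hke
  have hq : QF Q (QuadraticMap.polar Q) := qf_unb Q hQ
  have vf : VFacts Q (QuadraticMap.polar Q) :=
    vfacts_quad (by omega) (bundle Q hQ) (bundle_nondeg Q hQ)
  have hG : SgGroupQ Q (QuadraticMap.polar Q) (Cfsg.Geo.omegaGL Q) :=
    sgGroupQ_quad (by omega) (bundle Q hQ) (bundle_nondeg Q hQ)
  exact OPair.main hq vf (by omega) hk' D hD hts _ hG

end Cfsg.Agent.S5697
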