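import Cfsg.Statements.S5699
import Cfsg.Agent.Lib.Helper28.ONdW

set_option autoImplicit false
open Cfsg

namespace Cfsg.Agent.S5699

open Matrix Cfsg.Agent.Lib.Helper28.HForm Cfsg.Agent.Lib.Helper28.OGen
  Cfsg.Agent.Lib.Helper28.OMax Cfsg.Agent.Lib.Helper28.OQ
  Cfsg.Agent.Lib.Helper28.OMax2 Cfsg.Agent.Lib.Helper28.OGenQ Cfsg.Agent.Lib.Helper28.OEven
  Cfsg.Agent.Lib.Helper28.OBundle Cfsg.Agent.Lib.Helper28.ONd Cfsg.Agent.Lib.Helper28.ONdW
  Cfsg.Agent.Lib.Helper28.DecGen

/-- Let F be a finite field with q elements, n ≥ 13 even, Q a non-degenerate quadratic form on F^n (of either type), and Ω the commutator subgroup of the isometry group of Q, viewed inside GL_n(F). Let D be a decomposition of F^n into two orthogonal subspaces of odd dimension n/2 on which the polar form is non-degenerate and which are not Q-isometric to each other. Then the elements of Ω permuting (necessarily fixing) the two subspaces form a maximal subgroup of Ω. -/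
theorem result {F : Type*} [Field F] [Fintype F] {n : ℕ} (hn : 13 ≤ n) (heven : Even n) (Q : (Fin n → F) → F) (hQ : Cfsg.Geo.IsNondegenerateQuadraticForm Q) (k : ℕ) (hk : 2 * k = n) (hko : Odd k) (D : Fin 2 → Submodule F (Fin n → F)) (hD : Cfsg.Geo.IsNondegenerateMDecomposition (QuadraticMap.polar Q) k D) (hni : ¬ Cfsg.Geo.AreIsometricFor Q (D 0) (D 1)) : Cfsg.Geo.IsMaximalIn (Cfsg.Geo.omegaGL Q) (Cfsg.Geo.decompositionStabilizer D ⊓ Cfsg.Geo.omegaGL Q) := by
  have hq := qf_unb Q hQ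
  have hf := hq.sym
  have hG : SgGroupQ Q (QuadraticMap.polar Q) (Cfsg.Geo.omegaGL Q) :=
    sgGroupQ_quad (by omega) (bundle Q hQ) (bundle_nondeg Q hQ)
  have h01 : (0 : Fin 2) ≠ 1 := by decide
  have hsup : D 0 ⊔ D 1 = ⊤ := top_ij D hD.decomp 0 1 h01
  have hWO := hD.orthogonal 0 1 h01
  have sp : Split (QuadraticMap.polar Q) (D 0) (D 1) := ⟨hWO, hsup⟩
  have hfr := hD.decomp.finrank_eq
  have hk7 : 7 ≤ k := by
    obtain ⟨j, hj⟩ := hko
    omega
  have key : Cfsg.Geo.decompositionStabilizer D ⊓ Cfsg.Geo.omegaGL Q =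
      Cfsg.Geo.subspaceStabilizer (D 0) ⊓ Cfsg.Geo.omegaGL Q := by
    ext g
    constructor
    · rintro ⟨⟨σ, hσ⟩, hgG⟩
      refine ⟨?_, hgG⟩
      rcases fin2_cases 0 1 (σ 0) h01 with h | h
      · apply Cfsg.Agent.Lib.Helper28.UMax.stab_of_maps
        intro x hx
        have h1 : (g : Matrix (Fin n) (Fin n) F) *ᵥ x ∈
            (D 0).map (Matrix.toLin' (g : Matrix (Fin n) (Fin n) F)) :=
          ⟨x, hx, by rw [Matrix.toLin'_apply]⟩
        rw [hσ 0, h] at h1
        exact h1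
      · exfalso
        apply hni
        have h1 := hσ 0
        rw [h] at h1
        exact isometric_of_map Q (D 0) (D 1) g (hG.iso g hgG) h1
    · rintro ⟨hgS, hgG⟩
      refine ⟨?_, hgG⟩
      have hgi := iso_f hq g (hG.iso g hgG)
      apply Cfsg.Agent.Lib.Helper28.DecGen.stab_of_maps D hfr g 1
      intro i x hx
      rw [Equiv.Perm.coe_one, id]
      rcases fin2_cases 0 1 i h01 with h | h
      · rw [h] at hx ⊢
        exact ((Cfsg.Agent.Lib.Helper28.UMax.mem_stab_iff (D 0) g).1 hgS x).1 hx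
      · rw [h] at hx ⊢
        apply sp.mem_O hf
        intro w hw
        have hw' : ((g⁻¹ : Matrix.GeneralLinearGroup (Fin n) F) : Matrix (Fin n) (Fin n) F) *ᵥ w ∈
            D 0 := by
          rw [((Cfsg.Agent.Lib.Helper28.UMax.mem_stab_iff (D 0) g).1 hgS _),
            Cfsg.Agent.S5643.inv_mv']
          exact hw
        have h2 := hgi (((g⁻¹ : Matrix.GeneralLinearGroup (Fin n) F) :
          Matrix (Fin n) (Fin n) F) *ᵥ w) x
        rw [Cfsg.Agent.S5643.inv_mv'] at h2
        rw [h2]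
        exact sp.orth _ hw' x hx
  rw [key]
  apply nd_max_unb hn Q hQ (D 0) (D 1) hWO hsup (by rw [hfr]; omega) (by rw [hfr]; omega)
  intro g hgG hle
  apply hni
  apply isometric_symm
  apply isometric_of_map Q (D 1) (D 0) g (hG.iso g hgG)
  apply Submodule.eq_of_le_of_finrank_eq hle
  rw [Cfsg.Agent.Lib.Helper28.OPair.finrank_map_gl, hfr, hfr]

end Cfsg.Agent.S5699
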