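import Cfsg.Statements.S5713
import Cfsg.Agent.Lib.Helper13.MinDegE
import Cfsg.Agent.Lib.Helper13.MinDegG

set_option autoImplicit false
open Cfsg

namespace Cfsg.Agent.S5713

open Cfsg.Agent.Lib.Helper13.MinDeg in
theorem key_bound {G Ω : Type*} [Group G] [Finite G] [MulAction G Ω] [FaithfulSMul G Ω] [Fintype Ω]
    [DecidableEq Ω]
    (hprim : MulAction.IsPreprimitive G Ω)
    (hA : ¬ alternatingGroup Ω ≤ (MulAction.toPermHom G Ω).range)
    (g : G) (hg : g ≠ 1) (m : ℕ)
    (hm : m = (Finset.univ.filter (fun z : Ω => g • z ≠ z)).card) :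
    Fintype.card Ω ≤ (2 * m + 1) ^ 2 := by
  classical
  obtain ⟨a, ha⟩ : ∃ a : Ω, g • a ≠ a := by
    by_contra hcon
    push_neg at hcon
    apply hg
    apply FaithfulSMul.eq_of_smul_eq_smul (α := Ω)
    intro x
    rw [hcon x, one_smul]
  by_cases h2 : TwoTrans G Ω
  · have hno3 : ∀ c : G, ¬ (MulAction.toPermHom G Ω c).IsThreeCycle := by
      intro c hc
      apply hA
      have hprim' : MulAction.IsPreprimitive (MulAction.toPermHom G Ω).range Ω := by
        let f : Ω →ₑ[⇑(MulAction.toPermHom G Ω).rangeRestrict] Ω :=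
          { toFun := id
            map_smul' := fun _ _ => rfl }
        exact MulAction.IsPreprimitive.of_surjective (f := f) Function.surjective_id
      exact Equiv.Perm.alternatingGroup_le_of_isPreprimitive_of_isThreeCycle_mem hprim' hc ⟨c, rfl⟩
    have h := two_trans_bound h2 g a ha hno3
    have hm' : (Finset.univ.filter (fun z : Ω => g • z ≠ z)).card = m := by
      rw [hm]
    have h' : Fintype.card Ω ≤ (m - 1) ^ 2 + 1 := by
      convert h using 4
    have h1 : (m - 1) ^ 2 ≤ m ^ 2 := Nat.pow_le_pow_left (Nat.sub_le m 1) 2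
    nlinarith
  · have h := babai_bound hprim h2 a (g • a) (Ne.symm ha)
    have hle : dd G a (g • a) ≤ m := by
      have := dd_le_moved g a
      rw [hm]
      convert this using 2
      ext z
      simp
    have h1 : 2 * dd G a (g • a) + 1 ≤ 2 * m + 1 := by omega
    exact h.trans (Nat.pow_le_pow_left h1 2)

/-- A classification-free minimal-degree bound. Let G be a finite group acting faithfully and primitively on a finite set Ω with n elements, and suppose that the image of G in the symmetric group on Ω does not contain the alternating group on Ω. Then every non-identity element of G moves at least (√n − 1)/2 points of Ω, that is, it fixes at most n − (√n − 1)/2 points. -/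
theorem result {G Ω : Type*} [Group G] [Finite G] [MulAction G Ω] [FaithfulSMul G Ω] [Fintype Ω] [DecidableEq Ω]
    (hprim : MulAction.IsPreprimitive G Ω)
    (hA : ¬ alternatingGroup Ω ≤ (MulAction.toPermHom G Ω).range)
    (g : G) (hg : g ≠ 1) :
    (Real.sqrt (Fintype.card Ω) - 1) / 2 ≤ (Fintype.card Ω : ℝ) - Nat.card (MulAction.fixedBy Ω g) := by
  classical
  set m := (Finset.univ.filter (fun z : Ω => g • z ≠ z)).card with hm
  have hkey := key_bound hprim hA g hg m hm
  have hfix : Nat.card (MulAction.fixedBy Ω g) + m = Fintype.card Ω := by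
    have h1 : Nat.card (MulAction.fixedBy Ω g) =
        (Finset.univ.filter (fun z : Ω => g • z = z)).card := by
      rw [Nat.card_eq_fintype_card]
      convert Fintype.card_subtype (fun z : Ω => g • z = z)
      exact MulAction.mem_fixedBy
    rw [h1, hm, Finset.card_filter_add_card_filter_not]
    rfl
  have hcast : (Fintype.card Ω : ℝ) - Nat.card (MulAction.fixedBy Ω g) = m := by
    rw [← hfix]
    push_cast
    ring
  rw [hcast]
  have hsq : Real.sqrt (Fintype.card Ω) ≤ 2 * m + 1 := by
    have h1 : ((Fintype.card Ω : ℕ) : ℝ) ≤ ((2 * m + 1) ^ 2 : ℕ) := by exact_mod_cast hkey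
    have h2 : Real.sqrt (Fintype.card Ω) ≤ Real.sqrt (((2 * m + 1) ^ 2 : ℕ) : ℝ) :=
      Real.sqrt_le_sqrt h1
    have h3 : Real.sqrt (((2 * m + 1) ^ 2 : ℕ) : ℝ) = 2 * m + 1 := by
      push_cast
      rw [Real.sqrt_sq]
      positivity
    rw [h3] at h2
    exact h2
  linarith

end Cfsg.Agent.S5713
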