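import Cfsg.Statements.S5726
-- import your own Cfsg.Agent.* helpers here

set_option autoImplicit false
open Cfsg

namespace Cfsg.Agent.S5726

theorem sylow_stabilizer_index {G Ω : Type*} [Group G] [Finite G] [MulAction G Ω] [Fintype Ω]
    (htr : MulAction.IsPretransitive G Ω) (p : ℕ) [hp : Fact p.Prime] (P : Sylow p G) (ω : Ω) :
    p ^ (Fintype.card Ω).factorization p ∣ (MulAction.stabilizer (P : Subgroup G) ω).index := by
  classical
  have : Nonempty Ω := ⟨ω⟩
  have hΩpos : Fintype.card Ω ≠ 0 := Fintype.card_ne_zero
  have hG : Nat.card (MulAction.stabilizer G ω) * Fintype.card Ω = Nat.card G := by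
    rw [← Nat.card_eq_fintype_card, ← MulAction.index_stabilizer_of_transitive G ω]
    exact Subgroup.card_mul_index _
  have hPc : Nat.card (MulAction.stabilizer (P : Subgroup G) ω) * (MulAction.stabilizer (P : Subgroup G) ω).index
      = Nat.card (P : Subgroup G) := Subgroup.card_mul_index _
  have hP : Nat.card (P : Subgroup G) = p ^ (Nat.card G).factorization p := P.card_eq_multiplicity
  have hstpos : Nat.card (MulAction.stabilizer G ω) ≠ 0 := Nat.card_pos.ne'
  have hfac : (Nat.card G).factorization p =
      (Nat.card (MulAction.stabilizer G ω)).factorization p + (Fintype.card Ω).factorization p := by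
    rw [← hG, Nat.factorization_mul hstpos hΩpos]; rfl
  -- the stabilizer in P is a p-group whose order divides |G_ω|
  have hpg : IsPGroup p (MulAction.stabilizer (P : Subgroup G) ω) := P.isPGroup'.to_subgroup _
  obtain ⟨j, hj⟩ := IsPGroup.iff_card.mp hpg
  have hdvd : Nat.card (MulAction.stabilizer (P : Subgroup G) ω) ∣ Nat.card (MulAction.stabilizer G ω) := by
    let f : MulAction.stabilizer (P : Subgroup G) ω →* MulAction.stabilizer G ω :=
      { toFun := fun x => ⟨((x : (P : Subgroup G)) : G), x.2⟩
        map_one' := rfl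
        map_mul' := fun _ _ => rfl }
    apply Subgroup.card_dvd_of_injective f
    intro x y hxy
    apply Subtype.ext
    apply Subtype.ext
    exact congrArg (fun z : MulAction.stabilizer G ω => (z : G)) hxy
  have hjle : j ≤ (Nat.card (MulAction.stabilizer G ω)).factorization p := by
    rw [hj] at hdvd
    exact (hp.1.pow_dvd_iff_le_factorization hstpos).mp hdvd
  rw [hj, hP, hfac] at hPc
  have : (MulAction.stabilizer (P : Subgroup G) ω).index =
      p ^ ((Nat.card (MulAction.stabilizer G ω)).factorization p - j + (Fintype.card Ω).factorization p) := by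
    apply Nat.eq_of_mul_eq_mul_left (pow_pos hp.1.pos j)
    rw [hPc, ← pow_add]
    congr 1
    omega
  rw [this]
  exact pow_dvd_pow _ (Nat.le_add_left _ _)


/-- a central element of order p in a nontrivial p-group -/
theorem exists_central_order_p {P : Type*} [Group P] [Finite P] [Nontrivial P] (p : ℕ) [hp : Fact p.Prime]
    (hP : IsPGroup p P) : ∃ z : P, z ∈ Subgroup.center P ∧ orderOf z = p := by
  have := hP.center_nontrivial
  have hc : IsPGroup p (Subgroup.center P) := hP.to_subgroup _
  obtain ⟨j, hj⟩ := IsPGroup.iff_card.mp hc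
  have hj0 : j ≠ 0 := by
    rintro rfl
    rw [pow_zero] at hj
    have := Finite.one_lt_card (α := Subgroup.center P)
    omega
  have hdvd : p ∣ Nat.card (Subgroup.center P) := by
    rw [hj]; exact dvd_pow_self p hj0
  obtain ⟨z, hz⟩ := exists_prime_orderOf_dvd_card' p hdvd
  refine ⟨z, z.2, ?_⟩
  rw [← hz]; exact (Subgroup.orderOf_coe z)


/-- If a finite group acts faithfully and transitively on a set with p^k elements, p a prime and k ≥ 1, then some element of order p fixes no point. -/
theorem result {G Ω : Type*} [Group G] [Finite G] [MulAction G Ω] [FaithfulSMul G Ω] [Fintype Ω] (htr : MulAction.IsPretransitive G Ω)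
    (p k : ℕ) (hp : p.Prime) (hk : 1 ≤ k) (hΩ : Fintype.card Ω = p ^ k) :
    ∃ g : G, orderOf g = p ∧ ∀ ω : Ω, g • ω ≠ ω := by
  classical
  have : Fact p.Prime := ⟨hp⟩
  obtain ⟨P⟩ : Nonempty (Sylow p G) := inferInstance
  have hfac : (Fintype.card Ω).factorization p = k := by
    rw [hΩ, hp.factorization_pow]; simp
  -- P is transitive
  have horb : ∀ ω : Ω, MulAction.orbit (P : Subgroup G) ω = Set.univ := by
    intro ω
    have h1 := sylow_stabilizer_index htr p P ω
    rw [hfac, MulAction.index_stabilizer] at h1
    rw [Set.eq_univ_iff_ncard, Nat.card_eq_fintype_card, hΩ]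
    apply le_antisymm
    · rw [← hΩ, ← Nat.card_eq_fintype_card]; exact Set.ncard_le_card _
    · apply Nat.le_of_dvd _ h1
      rw [Set.ncard_pos]
      exact ⟨ω, MulAction.mem_orbit_self ω⟩
  obtain ⟨ω₀⟩ : Nonempty Ω := by
    have : 0 < Fintype.card Ω := by rw [hΩ]; exact pow_pos hp.pos k
    exact Fintype.card_pos_iff.mp this
  have : Nontrivial (P : Subgroup G) := by
    by_contra hnt
    rw [not_nontrivial_iff_subsingleton] at hnt
    have : MulAction.orbit (P : Subgroup G) ω₀ = {ω₀} := by
      ext x; constructor
      · rintro ⟨g, rfl⟩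
        have : g = 1 := Subsingleton.elim _ _
        subst this; simp
      · rintro rfl; exact MulAction.mem_orbit_self _
    rw [horb ω₀] at this
    have h2 : Fintype.card Ω = 1 := by
      rw [← Nat.card_eq_fintype_card, ← Set.ncard_univ, this, Set.ncard_singleton]
    rw [hΩ] at h2
    have := Nat.one_lt_pow (by omega : k ≠ 0) hp.one_lt
    omega
  obtain ⟨z, hzc, hzo⟩ := exists_central_order_p p P.isPGroup'
  refine ⟨(z : G), ?_, ?_⟩
  · exact (Subgroup.orderOf_coe z).trans hzo
  · intro ω hω
    have hall : ∀ ω' : Ω, (z : G) • ω' = ω' := by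
      intro ω'
      have : ω' ∈ MulAction.orbit (P : Subgroup G) ω := by rw [horb ω]; trivial
      obtain ⟨h, rfl⟩ := this
      have hcomm : z * h = h * z := (Subgroup.mem_center_iff.mp hzc h).symm
      show (z : G) • (h • ω) = h • ω
      have e1 : (z : G) • (h • ω) = (z * h) • ω := by
        rw [mul_smul]; rfl
      rw [e1, hcomm, mul_smul]
      congr 1
    have : (z : G) = 1 := by
      apply FaithfulSMul.eq_of_smul_eq_smul (α := Ω)
      intro a; rw [hall a, one_smul]
    have h1 : orderOf (z : G) = 1 := by rw [this]; exact orderOf_one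
    rw [Subgroup.orderOf_coe, hzo] at h1
    exact hp.one_lt.ne' h1

end Cfsg.Agent.S5726
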