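import Cfsg.Statements.S5727
import Cfsg.Agent.S5726

set_option autoImplicit false
open Cfsg

namespace Cfsg.Agent.S5727

open MulAction

/-- In a finite group `P` acting on a finite type, if all stabilizers are normal of index `p` and
the number of orbits is less than `p`, some element has no fixed point. -/
theorem exists_fixed_point_free {P Ω : Type*} [Group P] [Finite P] [MulAction P Ω] [Fintype Ω]
    (p m : ℕ) (hmp : m < p) (hΩ : Fintype.card Ω = m * p)
    (hnorm : ∀ ω : Ω, (stabilizer P ω).Normal) (hidx : ∀ ω : Ω, (stabilizer P ω).index = p) :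
    ∃ g : P, ∀ ω : Ω, g • ω ≠ ω := by
  classical
  by_contra hcon
  push Not at hcon
  have hp0 : 0 < p := by omega
  let : Fintype P := Fintype.ofFinite P
  let : Fintype (orbitRel.Quotient P Ω) := Fintype.ofFinite _
  -- each orbit has p elements
  have horb : ∀ ω : Ω, Fintype.card (orbit P ω) = p := by
    intro ω
    rw [← Nat.card_eq_fintype_card, Nat.card_coe_set_eq, ← index_stabilizer, hidx]
  -- number of orbits is m
  have hQ : Fintype.card (orbitRel.Quotient P Ω) * p = m * p := by
    rw [← hΩ, Fintype.card_congr (selfEquivSigmaOrbits P Ω), Fintype.card_sigma]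
    simp only [horb, Finset.sum_const, Finset.card_univ, smul_eq_mul]
  have hQ' : Fintype.card (orbitRel.Quotient P Ω) = m := Nat.eq_of_mul_eq_mul_right hp0 hQ
  -- fixed point sets are unions of orbits, hence have at least p elements
  have hfix : ∀ g : P, p ≤ Fintype.card (fixedBy Ω g) := by
    intro g
    obtain ⟨ω, hω⟩ := hcon g
    rw [← horb ω]
    apply Fintype.card_le_of_injective (fun x : orbit P ω => (⟨x.1, ?_⟩ : fixedBy Ω g))
    · intro x y hxy
      exact Subtype.ext (congrArg (fun z : fixedBy Ω g => (z : Ω)) hxy)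
    · obtain ⟨h, hh⟩ := x.2
      rw [mem_fixedBy, ← hh]
      have hg : g ∈ stabilizer P ω := hω
      have := (hnorm ω).conj_mem g hg h⁻¹
      rw [mem_stabilizer_iff] at this
      calc g • h • ω = h • ((h⁻¹ * g * h⁻¹⁻¹) • ω) := by
            simp only [inv_inv, mul_smul, smul_inv_smul]
        _ = h • ω := by rw [this]
  have hB := sum_card_fixedBy_eq_card_orbits_mul_card_group P Ω
  rw [hQ'] at hB
  have hsum : Fintype.card P * p ≤ ∑ g : P, Fintype.card (fixedBy Ω g) := by
    calc Fintype.card P * p = ∑ _g : P, p := by simp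
      _ ≤ _ := Finset.sum_le_sum (fun g _ => hfix g)
  rw [hB] at hsum
  have hPpos : 0 < Fintype.card P := Fintype.card_pos
  nlinarith


/-- If a finite group acts faithfully and transitively on a set with m·p elements, where p is a prime and 1 ≤ m ≤ p, then some element of order p fixes no point. -/
theorem result {G Ω : Type*} [Group G] [Finite G] [MulAction G Ω] [FaithfulSMul G Ω] [Fintype Ω] (htr : MulAction.IsPretransitive G Ω)
    (p m : ℕ) (hp : p.Prime) (hm : 1 ≤ m) (hmp : m ≤ p) (hΩ : Fintype.card Ω = m * p) :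
    ∃ g : G, orderOf g = p ∧ ∀ ω : Ω, g • ω ≠ ω := by
  classical
  rcases hmp.eq_or_lt with rfl | hlt
  · exact Cfsg.Agent.S5726.result htr m 2 hp (by norm_num) (by rw [hΩ, sq])
  have : Fact p.Prime := ⟨hp⟩
  obtain ⟨P⟩ : Nonempty (Sylow p G) := inferInstance
  have hndvd : ¬ p ∣ m := fun h => absurd (Nat.le_of_dvd (by omega) h) (by omega)
  have hfac : (Fintype.card Ω).factorization p = 1 := by
    rw [hΩ, Nat.factorization_mul (by omega) hp.ne_zero]
    simp [Nat.factorization_eq_zero_of_not_dvd hndvd, hp.factorization_self]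
  obtain ⟨n, hn⟩ := IsPGroup.iff_card.mp P.isPGroup'
  -- all stabilizers in P have index p
  have hidx : ∀ ω : Ω, (stabilizer (P : Subgroup G) ω).index = p := by
    intro ω
    have h1 := Cfsg.Agent.S5726.sylow_stabilizer_index htr p P ω
    rw [hfac, pow_one] at h1
    have h2 : (stabilizer (P : Subgroup G) ω).index ∣ p ^ n := by
      rw [← hn]; exact Subgroup.index_dvd_card _
    obtain ⟨i, hi, hi'⟩ := (Nat.dvd_prime_pow hp).mp h2
    have h3 : (stabilizer (P : Subgroup G) ω).index ≤ m * p := by
      rw [index_stabilizer, ← hΩ, ← Nat.card_eq_fintype_card]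
      exact Set.ncard_le_card _
    rw [hi'] at h1 h3 ⊢
    have hi1 : 1 ≤ i := by
      rcases Nat.eq_zero_or_pos i with rfl | h
      · rw [pow_zero] at h1
        exact absurd (Nat.le_of_dvd one_pos h1) (by have := hp.two_le; omega)
      · exact h
    have hi2 : i < 2 := by
      by_contra hge
      push Not at hge
      have : p ^ 2 ≤ p ^ i := Nat.pow_le_pow_right hp.pos hge
      have : m * p < p * p := Nat.mul_lt_mul_of_pos_right hlt hp.pos
      nlinarith
    have : i = 1 := by omega
    rw [this, pow_one]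
  have hn1 : n ≠ 0 := by
    rintro rfl
    rw [pow_zero] at hn
    obtain ⟨ω₀⟩ : Nonempty Ω := by
      have : 0 < Fintype.card Ω := by rw [hΩ]; exact Nat.mul_pos (by omega) hp.pos
      exact Fintype.card_pos_iff.mp this
    have := Subgroup.index_dvd_card (stabilizer (P : Subgroup G) ω₀)
    rw [hidx, hn] at this
    exact absurd (Nat.le_of_dvd one_pos this) (by have := hp.two_le; omega)
  have hnorm : ∀ ω : Ω, (stabilizer (P : Subgroup G) ω).Normal := by
    intro ω
    apply Subgroup.normal_of_index_eq_minFac_card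
    rw [hidx, hn, hp.pow_minFac hn1]
  obtain ⟨g, hg⟩ := exists_fixed_point_free (P := (P : Subgroup G)) p m hlt hΩ hnorm hidx
  refine ⟨(g : G), ?_, fun ω => hg ω⟩
  -- g ^ p = 1
  have hgp : (g : G) ^ p = 1 := by
    apply FaithfulSMul.eq_of_smul_eq_smul (α := Ω)
    intro ω
    have := (stabilizer (P : Subgroup G) ω).pow_index_mem g
    rw [hidx, mem_stabilizer_iff] at this
    rw [one_smul]
    exact this
  have hg1 : (g : G) ≠ 1 := by
    intro h1
    obtain ⟨ω₀⟩ : Nonempty Ω := by
      have : 0 < Fintype.card Ω := by rw [hΩ]; exact Nat.mul_pos (by omega) hp.pos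
      exact Fintype.card_pos_iff.mp this
    apply hg ω₀
    show (g : G) • ω₀ = ω₀
    rw [h1, one_smul]
  exact orderOf_eq_prime hgp hg1

end Cfsg.Agent.S5727
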