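import Cfsg.Statements.S5728
-- import your own Cfsg.Agent.* helpers here

set_option autoImplicit false
open Cfsg

namespace Cfsg.Agent.S5728

/-- powers of `y ↦ c * y` -/
theorem pow_apply_of_linear {K : Type*} [Field K] (h : Equiv.Perm K) (c : K) (hh : ∀ y, h y = c * y) (k : ℕ) :
    ∀ y, (h ^ k) y = c ^ k * y := by
  induction k with
  | zero => intro y; simp
  | succ k ih =>
    intro y
    rw [pow_succ, Equiv.Perm.mul_apply, hh, ih, pow_succ]; ring

theorem arith (p s r : ℕ) (hp : p.Prime) (hs : p = 2 ^ s - 1) (hr : r.Prime) (hdvd : r ∣ p ^ 2 - 1) :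
    r ∣ p - 1 := by
  have hp2 := hp.two_le
  have h1 : p ^ 2 - 1 = (p - 1) * (p + 1) := by
    obtain ⟨k, rfl⟩ : ∃ k, p = k + 1 := ⟨p - 1, by omega⟩
    simp only [Nat.add_sub_cancel]
    have : (k + 1) ^ 2 = k * (k + 1 + 1) + 1 := by ring
    rw [this, Nat.add_sub_cancel]
  have hs' : p + 1 = 2 ^ s := by
    have : 1 ≤ 2 ^ s := Nat.one_le_two_pow
    omega
  rw [h1] at hdvd
  rcases (Nat.Prime.dvd_mul hr).mp hdvd with h | h
  · exact h
  · rw [hs'] at h
    have h2 : r ∣ 2 := hr.dvd_of_dvd_pow h
    have hr2 : r = 2 := (Nat.prime_dvd_prime_iff_eq hr Nat.prime_two).mp h2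
    subst hr2
    cases s with
    | zero => simp at hs'; omega
    | succ s =>
      rw [pow_succ] at hs'
      omega


/-- An elusive transitive action. Let p = 2^s − 1 be a prime and let F be the field with p² elements. Inside the group of affine maps x ↦ a·x + b of F (a ≠ 0), consider the subgroup of maps with both coefficients in the prime field. Then every element of prime order of the affine group is conjugate, within the affine group, to an element of that subgroup; equivalently, in the transitive action of the affine group on the cosets of that subgroup (of degree p(p + 1)) every element of prime order fixes a point. -/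
theorem result (p s : ℕ) [Fact p.Prime] (hs : p = 2 ^ s - 1)
    (g : Equiv.Perm (GaloisField p 2)) (hg : g ∈ Cfsg.affineGroup (GaloisField p 2)) (hord : (orderOf g).Prime) :
    ∃ x ∈ Cfsg.affineGroup (GaloisField p 2), ∃ a b : ZMod p, a ≠ 0 ∧
      ∀ y : GaloisField p 2, (x * g * x⁻¹) y = algebraMap (ZMod p) (GaloisField p 2) a * y + algebraMap (ZMod p) (GaloisField p 2) b := by
  classical
  have hp : p.Prime := Fact.out
  obtain ⟨c, d, hcd⟩ := hg
  by_cases hc : (c : GaloisField p 2) = 1
  · -- translation
    have hd : d ≠ 0 := by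
      rintro rfl
      have : g = 1 := by
        ext y; rw [hcd, hc]; simp
      rw [this, orderOf_one] at hord
      exact Nat.not_prime_one hord
    let x : Equiv.Perm (GaloisField p 2) := Equiv.mulLeft₀ d⁻¹ (inv_ne_zero hd)
    have hx : x ∈ Cfsg.affineGroup (GaloisField p 2) :=
      ⟨Units.mk0 d⁻¹ (inv_ne_zero hd), 0, fun y => by simp [x]⟩
    have hxinv : ∀ y, x⁻¹ y = d * y := by
      intro y
      rw [Equiv.Perm.inv_def, Equiv.symm_apply_eq]
      simp [x, hd]
    refine ⟨x, hx, 1, 1, one_ne_zero, fun y => ?_⟩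
    rw [Equiv.Perm.mul_apply, Equiv.Perm.mul_apply, hxinv, hcd, hc]
    show d⁻¹ * (1 * (d * y) + d) = _
    rw [map_one]
    field_simp
  · -- fixed point
    have h1c : (1 : GaloisField p 2) - c ≠ 0 := by
      intro h; apply hc; rw [sub_eq_zero] at h; exact h.symm
    set y₀ : GaloisField p 2 := d / (1 - c) with hy₀
    let x : Equiv.Perm (GaloisField p 2) := Equiv.addRight (-y₀)
    have hx : x ∈ Cfsg.affineGroup (GaloisField p 2) :=
      ⟨1, -y₀, fun y => by simp [x]⟩
    have hxinv : ∀ y, x⁻¹ y = y + y₀ := by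
      intro y
      rw [Equiv.Perm.inv_def, Equiv.symm_apply_eq]
      simp [x]
    have hconj : ∀ y, (x * g * x⁻¹) y = c * y := by
      intro y
      rw [Equiv.Perm.mul_apply, Equiv.Perm.mul_apply, hxinv, hcd]
      simp only [x, Equiv.coe_addRight]
      rw [hy₀]
      field_simp
      ring
    -- c ^ r = 1
    have hpow : (c : GaloisField p 2) ^ orderOf g = 1 := by
      have h1 : (x * g * x⁻¹) ^ orderOf g = 1 := by
        rw [conj_pow, pow_orderOf_eq_one, mul_one, mul_inv_cancel]
      have h2 := pow_apply_of_linear (x * g * x⁻¹) c hconj (orderOf g) 1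
      rw [h1, mul_one] at h2
      exact h2.symm
    have hc0 : (c : GaloisField p 2) ≠ 0 := c.ne_zero
    -- order of c is r
    have hordc : orderOf (c : GaloisField p 2) = orderOf g := by
      have hdvd := orderOf_dvd_of_pow_eq_one hpow
      rcases (Nat.dvd_prime hord).mp hdvd with h | h
      · exfalso; exact hc (orderOf_eq_one_iff.mp h)
      · exact h
    have : Fintype (GaloisField p 2) := Fintype.ofFinite _
    have hcard : Fintype.card (GaloisField p 2) = p ^ 2 := by
      rw [← Nat.card_eq_fintype_card, GaloisField.card p 2 (by norm_num)]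
    have hq : (c : GaloisField p 2) ^ (p ^ 2 - 1) = 1 := by
      rw [← hcard]; exact FiniteField.pow_card_sub_one_eq_one _ hc0
    have hrdvd : orderOf g ∣ p ^ 2 - 1 := by
      rw [← hordc]; exact orderOf_dvd_of_pow_eq_one hq
    have hrp : orderOf g ∣ p - 1 := arith p s (orderOf g) hp hs hord hrdvd
    have hcp1 : (c : GaloisField p 2) ^ (p - 1) = 1 := by
      rw [← hordc] at hrp
      exact orderOf_dvd_iff_pow_eq_one.mp hrp
    have hcp : (c : GaloisField p 2) ^ p = c := by
      have h3 : (c : GaloisField p 2) ^ ((p - 1) + 1) = c := by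
        rw [pow_succ, hcp1, one_mul]
      have h4 : (p - 1) + 1 = p := by have := hp.two_le; omega
      rw [h4] at h3
      exact h3
    have hmem : (c : GaloisField p 2) ∈ (⊥ : Subfield (GaloisField p 2)) :=
      (Subfield.mem_bot_iff_pow_eq_self (GaloisField p 2) p).mpr hcp
    obtain ⟨n, hn⟩ := (mem_bot_iff_intCast p (GaloisField p 2)).mp hmem
    have halg : algebraMap (ZMod p) (GaloisField p 2) (n : ZMod p) = c := by
      rw [map_intCast, hn]
    refine ⟨x, hx, (n : ZMod p), 0, ?_, fun y => ?_⟩
    · intro h0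
      rw [h0, map_zero] at halg
      exact hc0 halg.symm
    · rw [hconj, halg, map_zero, add_zero]

end Cfsg.Agent.S5728
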