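import Cfsg.Statements.S5729
-- import your own Cfsg.Agent.* helpers here

set_option autoImplicit false
open Cfsg

namespace Cfsg.Agent.S5729

open MulAction

theorem card_fixedBy_prod {G Ω : Type*} [Group G] [MulAction G Ω] [Fintype Ω] [DecidableEq Ω] (g : G) :
    Fintype.card (fixedBy (Ω × Ω) g) = Fintype.card (fixedBy Ω g) ^ 2 := by
  rw [sq, ← Fintype.card_prod]
  apply Fintype.card_congr
  refine
    { toFun := fun x => (⟨x.1.1, ?_⟩, ⟨x.1.2, ?_⟩)
      invFun := fun y => ⟨(y.1.1, y.2.1), ?_⟩
      left_inv := fun x => by ext <;> rfl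
      right_inv := fun y => by ext <;> rfl }
  · have := x.2
    rw [mem_fixedBy] at this ⊢
    exact congrArg Prod.fst this
  · have := x.2
    rw [mem_fixedBy] at this ⊢
    exact congrArg Prod.snd this
  · rw [mem_fixedBy]
    have h1 := y.1.2
    have h2 := y.2.2
    rw [mem_fixedBy] at h1 h2
    ext
    · exact h1
    · exact h2

theorem two_le_card_orbits_prod {G Ω : Type*} [Group G] [MulAction G Ω] [Fintype Ω]
    [Fintype (orbitRel.Quotient G (Ω × Ω))] (hn : 2 ≤ Fintype.card Ω) :
    2 ≤ Fintype.card (orbitRel.Quotient G (Ω × Ω)) := by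
  classical
  obtain ⟨a, b, hab⟩ := Fintype.exists_pair_of_one_lt_card (by omega : 1 < Fintype.card Ω)
  have hne : (Quotient.mk'' (a, a) : orbitRel.Quotient G (Ω × Ω)) ≠ Quotient.mk'' (a, b) := by
    intro h
    rw [Quotient.eq''] at h
    obtain ⟨g, hg⟩ := h
    have h1 : g • a = a := congrArg Prod.fst hg
    have h2 : g • b = a := congrArg Prod.snd hg
    exact hab (smul_left_cancel g (h1.trans h2.symm))
  exact Fintype.one_lt_card_iff_nontrivial.mpr ⟨⟨_, _, hne⟩⟩


/-- Let a finite group G act faithfully and transitively on a set with n ≥ 3 points. Then either G is a Frobenius permutation group (Frobenius as a permutation group: transitive, some non-identity element fixes a point, and no non-identity element fixes two points) of order n(n − 1) and exactly |G|/n of its elements are derangements (fix no point), or the number of derangements is greater than |G|/n. -/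
theorem result {G Ω : Type*} [Group G] [Finite G] [MulAction G Ω] [FaithfulSMul G Ω] [Fintype Ω] (htr : MulAction.IsPretransitive G Ω) (hn : 3 ≤ Fintype.card Ω) :
    ((MulAction.IsPretransitive G Ω ∧ (∃ g : G, g ≠ 1 ∧ ∃ ω : Ω, g • ω = ω) ∧ ∀ g : G, g ≠ 1 → Nat.card (MulAction.fixedBy Ω g) ≤ 1) ∧ Nat.card G = Fintype.card Ω * (Fintype.card Ω - 1) ∧ Fintype.card Ω * Nat.card {g : G // ∀ ω : Ω, g • ω ≠ ω} = Nat.card G) ∨
    Nat.card G < Fintype.card Ω * Nat.card {g : G // ∀ ω : Ω, g • ω ≠ ω} := by
  classical
  let _ : Fintype G := Fintype.ofFinite G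
  let _ : Fintype (orbitRel.Quotient G Ω) := Fintype.ofFinite _
  let _ : Fintype (orbitRel.Quotient G (Ω × Ω)) := Fintype.ofFinite _
  set n : ℕ := Fintype.card Ω with hn_def
  have hne : Nonempty Ω := Fintype.card_pos_iff.mp (by omega)
  have ω₀ : Ω := Classical.choice hne
  -- Burnside on Ω
  have hB1 := sum_card_fixedBy_eq_card_orbits_mul_card_group G Ω
  have hone : Fintype.card (orbitRel.Quotient G Ω) = 1 := by
    rw [Fintype.card_eq_one_iff_nonempty_unique]
    exact (pretransitive_iff_unique_quotient_of_nonempty G Ω).mp htr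
  rw [hone, one_mul] at hB1
  -- Burnside on Ω × Ω
  have hB2 := sum_card_fixedBy_eq_card_orbits_mul_card_group G (Ω × Ω)
  simp only [card_fixedBy_prod] at hB2
  have hr := two_le_card_orbits_prod (G := G) (Ω := Ω) (by omega)
  set r : ℕ := Fintype.card (orbitRel.Quotient G (Ω × Ω)) with hr_def
  set F : G → ℤ := fun g => (Fintype.card (fixedBy Ω g) : ℤ) with hF
  set D : Finset G := Finset.univ.filter (fun g => ∀ ω : Ω, g • ω ≠ ω) with hD
  have hDcard : Nat.card {g : G // ∀ ω : Ω, g • ω ≠ ω} = D.card := by
    rw [Nat.card_eq_fintype_card, Fintype.card_subtype]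
  have hGcard : Nat.card G = Fintype.card G := Nat.card_eq_fintype_card
  have hS1 : ∑ g : G, F g = (Fintype.card G : ℤ) := by
    rw [← hB1]; push_cast; rfl
  have hS2 : ∑ g : G, F g ^ 2 = (r : ℤ) * Fintype.card G := by
    have := congrArg (fun x : ℕ => (x : ℤ)) hB2
    push_cast at this
    exact this
  have hFD : ∀ g ∈ D, F g = 0 := by
    intro g hg
    rw [hD, Finset.mem_filter] at hg
    simp only [hF]
    rw [Int.natCast_eq_zero, Fintype.card_eq_zero_iff]
    exact ⟨fun x => hg.2 x.1 x.2⟩
  have hFnD : ∀ g ∉ D, 1 ≤ F g ∧ F g ≤ n := by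
    intro g hg
    rw [hD, Finset.mem_filter] at hg
    push Not at hg
    obtain ⟨ω, hω⟩ := hg (Finset.mem_univ g)
    constructor
    · simp only [hF]
      have : 0 < Fintype.card (fixedBy Ω g) := Fintype.card_pos_iff.mpr ⟨⟨ω, hω⟩⟩
      exact_mod_cast this
    · simp only [hF]
      have : Fintype.card (fixedBy Ω g) ≤ Fintype.card Ω := Fintype.card_subtype_le _
      exact_mod_cast this
  -- the key sum
  have hT : ∑ g : G, (F g - 1) * (F g - n) = ((r : ℤ) - 1) * Fintype.card G := by
    have : ∀ g : G, (F g - 1) * (F g - n) = F g ^ 2 - ((n : ℤ) + 1) * F g + n := by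
      intro g; ring
    simp only [this]
    rw [Finset.sum_add_distrib, Finset.sum_sub_distrib, ← Finset.mul_sum, hS1, hS2]
    simp only [Finset.sum_const, Finset.card_univ, nsmul_eq_mul]
    ring
  have hsplit : ∑ g : G, (F g - 1) * (F g - n) =
      (n : ℤ) * D.card + ∑ g ∈ Finset.univ.filter (fun g => g ∉ D), (F g - 1) * (F g - n) := by
    rw [← Finset.sum_filter_add_sum_filter_not Finset.univ (fun g => g ∈ D)]
    congr 1
    have : Finset.univ.filter (fun g => g ∈ D) = D := by ext; simp
    rw [this, Finset.sum_congr rfl (fun g hg => by rw [hFD g hg])]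
    simp only [Finset.sum_const, nsmul_eq_mul]
    ring
  have hnonpos : ∀ g ∈ Finset.univ.filter (fun g => g ∉ D), (F g - 1) * (F g - n) ≤ 0 := by
    intro g hg
    rw [Finset.mem_filter] at hg
    obtain ⟨h1, h2⟩ := hFnD g hg.2
    exact mul_nonpos_of_nonneg_of_nonpos (by linarith) (by linarith)
  have hSle : ∑ g ∈ Finset.univ.filter (fun g => g ∉ D), (F g - 1) * (F g - n) ≤ 0 :=
    Finset.sum_nonpos hnonpos
  have hGpos : (0 : ℤ) < Fintype.card G := by exact_mod_cast Fintype.card_pos
  have hr' : (2 : ℤ) ≤ r := by exact_mod_cast hr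
  have hmain : (Fintype.card G : ℤ) ≤ (n : ℤ) * D.card := by
    have : ((r : ℤ) - 1) * Fintype.card G ≤ (n : ℤ) * D.card := by
      rw [← hT, hsplit]; linarith
    nlinarith
  by_cases hlt : Nat.card G < n * Nat.card {g : G // ∀ ω : Ω, g • ω ≠ ω}
  · right; exact hlt
  left
  push Not at hlt
  rw [hDcard, hGcard] at hlt ⊢
  have heq : (n : ℤ) * D.card = Fintype.card G := by
    apply le_antisymm _ hmain
    exact_mod_cast hlt
  -- all the non-positive terms vanish
  have hSzero : ∑ g ∈ Finset.univ.filter (fun g => g ∉ D), (F g - 1) * (F g - n) = 0 := by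
    apply le_antisymm hSle
    have : ((r : ℤ) - 1) * Fintype.card G = (n : ℤ) * D.card +
        ∑ g ∈ Finset.univ.filter (fun g => g ∉ D), (F g - 1) * (F g - n) := by
      rw [← hT, hsplit]
    nlinarith
  have hterm := (Finset.sum_eq_zero_iff_of_nonpos hnonpos).mp hSzero
  have hfix_le : ∀ g : G, g ≠ 1 → Fintype.card (fixedBy Ω g) ≤ 1 := by
    intro g hg1
    by_cases hgD : g ∈ D
    · have := hFD g hgD
      simp only [hF] at this
      have h0 : Fintype.card (fixedBy Ω g) = 0 := by exact_mod_cast this
      omega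
    · have h0 := hterm g (Finset.mem_filter.mpr ⟨Finset.mem_univ _, hgD⟩)
      rcases mul_eq_zero.mp h0 with h | h
      · simp only [hF] at h
        have : (Fintype.card (fixedBy Ω g) : ℤ) = 1 := by linarith
        have : Fintype.card (fixedBy Ω g) = 1 := by exact_mod_cast this
        omega
      · exfalso
        apply hg1
        simp only [hF] at h
        have h' : (Fintype.card (fixedBy Ω g) : ℤ) = n := by linarith
        have h'' : Fintype.card (fixedBy Ω g) = Fintype.card Ω := by exact_mod_cast h'
        have hall : ∀ ω : Ω, g • ω = ω := by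
          intro ω
          have : (fixedBy Ω g) = Set.univ := by
            rw [Set.eq_univ_iff_ncard, Nat.card_eq_fintype_card, ← h'', ← Nat.card_coe_set_eq,
              Nat.card_eq_fintype_card]
          have hω : ω ∈ fixedBy Ω g := by rw [this]; trivial
          exact hω
        apply FaithfulSMul.eq_of_smul_eq_smul (α := Ω)
        intro a; rw [hall a, one_smul]
  -- count: |G| = n + (|G| - 1 - |D|)
  have hF1 : F 1 = n := by
    simp only [hF]
    have : Fintype.card (fixedBy Ω (1 : G)) = Fintype.card Ω := by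
      apply Fintype.card_of_subtype Finset.univ
      intro x; simp
    exact_mod_cast this
  have h1D : (1 : G) ∉ D := by
    rw [hD, Finset.mem_filter]
    push Not
    intro _
    exact ⟨ω₀, one_smul _ _⟩
  have hFval : ∀ g : G, g ≠ 1 → g ∉ D → F g = 1 := by
    intro g hg1 hgD
    have h1 := (hFnD g hgD).1
    have h2 := hfix_le g hg1
    simp only [hF] at h1 ⊢
    have : (Fintype.card (fixedBy Ω g) : ℤ) ≤ 1 := by exact_mod_cast h2
    linarith
  have hsumF : ∑ g : G, F g = (n : ℤ) + ((Fintype.card G : ℤ) - 1 - D.card) := by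
    have hval : ∀ g : G, F g = (if g = 1 then (n : ℤ) else 0) + (if g = 1 then 0 else (if g ∈ D then 0 else 1)) := by
      intro g
      by_cases hg1 : g = 1
      · subst hg1; simp [hF1]
      · by_cases hgD : g ∈ D
        · simp [hg1, hgD, hFD g hgD]
        · simp [hg1, hgD, hFval g hg1 hgD]
    rw [Finset.sum_congr rfl (fun g _ => hval g), Finset.sum_add_distrib]
    congr 1
    · simp
    · have : ∀ g : G, (if g = 1 then (0 : ℤ) else (if g ∈ D then 0 else 1)) = 1 - (if g = 1 then 1 else 0) - (if g ∈ D then 1 else 0) := by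
        intro g
        by_cases hg1 : g = 1
        · subst hg1; simp [h1D]
        · by_cases hgD : g ∈ D <;> simp [hg1, hgD]
      rw [Finset.sum_congr rfl (fun g _ => this g), Finset.sum_sub_distrib, Finset.sum_sub_distrib]
      simp
  rw [hS1] at hsumF
  have hDn : (D.card : ℤ) = (n : ℤ) - 1 := by linarith
  have hDn' : D.card = n - 1 := by omega
  refine ⟨⟨htr, ?_, ?_⟩, ?_, ?_⟩
  · -- some non-identity element with a fixed point
    by_contra hnone
    push Not at hnone
    -- then all g ≠ 1 are in D, so |D| = |G| - 1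
    have hall : ∀ g : G, g ≠ 1 → g ∈ D := by
      intro g hg1
      rw [hD, Finset.mem_filter]
      exact ⟨Finset.mem_univ _, fun ω => hnone g hg1 ω⟩
    have hDeq : D = Finset.univ.erase 1 := by
      ext g
      rw [Finset.mem_erase]
      constructor
      · intro hg
        exact ⟨fun h => h1D (h ▸ hg), Finset.mem_univ _⟩
      · intro hg; exact hall g hg.1
    have hDc : D.card = Fintype.card G - 1 := by
      rw [hDeq, Finset.card_erase_of_mem (Finset.mem_univ _), Finset.card_univ]
    have : n * D.card = Fintype.card G := by exact_mod_cast heq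
    rw [hDn'] at hDc this
    have hG2 : Fintype.card G = n := by omega
    rw [hG2] at this
    have : n * (n - 1) = n * 1 := by omega
    have := Nat.eq_of_mul_eq_mul_left (by omega : 0 < n) this
    omega
  · intro g hg1
    rw [Nat.card_eq_fintype_card]
    exact hfix_le g hg1
  · rw [← hDn']; exact_mod_cast heq.symm
  · exact_mod_cast heq

end Cfsg.Agent.S5729
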