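import Cfsg.Statements.S5738
-- import your own Cfsg.Agent.* helpers here

set_option autoImplicit false
open Cfsg

namespace Cfsg.Agent.S5738

variable {F K : Type*} [Field F] [Field K] [Algebra F K]

noncomputable abbrev fS (F K : Type*) [Field F] [Field K] [Algebra F K] : Kˣ →* (Module.End F K)ˣ :=
  Units.map ((Algebra.lmul F K : K →ₐ[F] Module.End F K) : K →* Module.End F K)

/-- a field automorphism as a unit of the endomorphism ring -/
noncomputable def autUnit (σ : K ≃ₐ[F] K) : (Module.End F K)ˣ :=
  (LinearMap.GeneralLinearGroup.generalLinearEquiv F K).symm σ.toLinearEquiv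

theorem autUnit_apply (σ : K ≃ₐ[F] K) (x : K) : ((autUnit σ : (Module.End F K)ˣ) : Module.End F K) x = σ x := rfl

theorem autUnit_inv_apply (σ : K ≃ₐ[F] K) (x : K) : (((autUnit σ)⁻¹ : (Module.End F K)ˣ) : Module.End F K) x = σ.symm x := rfl

theorem fS_apply (a : Kˣ) (x : K) : ((fS F K a : (Module.End F K)ˣ) : Module.End F K) x = a * x := by
  simp

theorem fS_inv_apply (a : Kˣ) (x : K) : (((fS F K a)⁻¹ : (Module.End F K)ˣ) : Module.End F K) x = (a : K)⁻¹ * x := by
  rw [← map_inv]; simp

noncomputable def Ψ (p : Kˣ × (K ≃ₐ[F] K)) : (Module.End F K)ˣ := fS F K p.1 * autUnit p.2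

theorem Ψ_apply (p : Kˣ × (K ≃ₐ[F] K)) (x : K) : ((Ψ p : (Module.End F K)ˣ) : Module.End F K) x = p.1 * p.2 x := by
  rw [Ψ, Units.val_mul, Module.End.mul_apply, fS_apply, autUnit_apply]

theorem Ψ_injective : Function.Injective (Ψ (F := F) (K := K)) := by
  rintro ⟨a, σ⟩ ⟨b, τ⟩ h
  have h1 : ∀ x : K, (a : K) * σ x = b * τ x := by
    intro x
    have := congrArg (fun u : (Module.End F K)ˣ => (u : Module.End F K) x) h
    simpa only [Ψ_apply] using this
  have hab : (a : K) = b := by simpa using h1 1
  have hab' : a = b := Units.ext hab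
  subst hab'
  have : σ = τ := by
    ext x
    exact mul_left_cancel₀ a.ne_zero (h1 x)
  rw [this]

theorem Ψ_mem_normalizer [Finite K] (p : Kˣ × (K ≃ₐ[F] K)) :
    Ψ p ∈ Subgroup.normalizer (((fS F K).range : Subgroup (Module.End F K)ˣ) : Set (Module.End F K)ˣ) := by
  have hfinE : Finite (Module.End F K) := Finite.of_injective (fun f => (f : K → K)) DFunLike.coe_injective
  apply Subgroup.mem_normalizer_fintype
  rintro _ ⟨b, rfl⟩
  refine ⟨Units.map (p.2 : K →* K) b, ?_⟩
  apply Units.ext
  apply LinearMap.ext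
  intro x
  rw [Units.val_mul, Units.val_mul, Module.End.mul_apply, Module.End.mul_apply, fS_apply, Ψ_apply, fS_apply]
  have hinv : (((Ψ p)⁻¹ : (Module.End F K)ˣ) : Module.End F K) x = p.2.symm ((p.1 : K)⁻¹ * x) := by
    rw [Ψ, mul_inv_rev, Units.val_mul, Module.End.mul_apply, fS_inv_apply, autUnit_inv_apply]
  rw [hinv]
  simp only [Units.coe_map, MonoidHom.coe_coe, map_mul, AlgEquiv.apply_symm_apply]
  field_simp

theorem mem_range_of_mem_normalizer (u : (Module.End F K)ˣ)
    (hu : u ∈ Subgroup.normalizer (((fS F K).range : Subgroup (Module.End F K)ˣ) : Set (Module.End F K)ˣ)) :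
    u ∈ Set.range (Ψ (F := F) (K := K)) := by
  -- a = u 1
  have ha : (u : Module.End F K) 1 ≠ 0 := by
    intro h0
    have h1 : ((u⁻¹ : (Module.End F K)ˣ) : Module.End F K) ((u : Module.End F K) 1) = 1 := by
      rw [← Module.End.mul_apply, ← Units.val_mul, inv_mul_cancel]; rfl
    rw [h0, map_zero] at h1
    exact zero_ne_one h1
  set a : Kˣ := Units.mk0 _ ha with ha_def
  set h : (Module.End F K)ˣ := (fS F K a)⁻¹ * u with hh
  have hh1 : (h : Module.End F K) 1 = 1 := by
    rw [hh, Units.val_mul, Module.End.mul_apply, fS_inv_apply]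
    exact inv_mul_cancel₀ ha
  have hhn : h ∈ Subgroup.normalizer (((fS F K).range : Subgroup (Module.End F K)ˣ) : Set (Module.End F K)ˣ) := by
    apply Subgroup.mul_mem _ _ hu
    apply Subgroup.inv_mem
    exact Subgroup.le_normalizer ⟨a, rfl⟩
  -- h is multiplicative
  have hmul : ∀ b x : K, (h : Module.End F K) (b * x) = (h : Module.End F K) b * (h : Module.End F K) x := by
    intro b x
    by_cases hb : b = 0
    · subst hb; simp
    have h2 := (Subgroup.mem_normalizer_iff.mp hhn (fS F K (Units.mk0 b hb))).mp ⟨_, rfl⟩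
    obtain ⟨b', hb'⟩ := h2
    -- h * fS b = fS b' * h
    have h3 : h * fS F K (Units.mk0 b hb) = fS F K b' * h := by
      rw [hb']; group
    have h4 : ∀ y : K, (h : Module.End F K) (b * y) = b' * (h : Module.End F K) y := by
      intro y
      have := congrArg (fun v : (Module.End F K)ˣ => (v : Module.End F K) y) h3
      simp only [Units.val_mul, Module.End.mul_apply, fS_apply] at this
      exact this
    have h5 : (h : Module.End F K) b = b' := by
      have := h4 1
      rw [mul_one, hh1, mul_one] at this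
      exact this
    rw [h4 x, h5]
  -- build the automorphism
  let σ : K ≃ₐ[F] K := AlgEquiv.ofLinearEquiv (LinearMap.GeneralLinearGroup.generalLinearEquiv F K h) hh1 hmul
  refine ⟨(a, σ), ?_⟩
  apply Units.ext
  apply LinearMap.ext
  intro x
  rw [Ψ_apply]
  show (a : K) * (h : Module.End F K) x = _
  rw [hh, Units.val_mul, Module.End.mul_apply, fS_inv_apply]
  field_simp


/-- Let F ⊆ K be finite fields with |F| = q and [K : F] = n ≥ 2, so |K| = q^n. Regard K as an n-dimensional F-vector space; the multiplications by non-zero elements of K form a cyclic subgroup of GL_F(K) of order q^n − 1 acting regularly on the non-zero vectors (a Singer group). Its normaliser in GL_F(K) has order n·(q^n − 1). -/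
theorem result {F K : Type*} [Field F] [Fintype F] [Field K] [Fintype K] [Algebra F K] (n : ℕ) (hn : 2 ≤ n) (hdim : Module.finrank F K = n) :
    Nat.card (Subgroup.normalizer (((Units.map ((Algebra.lmul F K : K →ₐ[F] Module.End F K) : K →* Module.End F K)).range : Subgroup (Module.End F K)ˣ) : Set (Module.End F K)ˣ)) = n * (Fintype.card K - 1) := by
  classical
  have hrange : Set.range (Ψ (F := F) (K := K)) =
      (Subgroup.normalizer (((fS F K).range : Subgroup (Module.End F K)ˣ) : Set (Module.End F K)ˣ) : Set (Module.End F K)ˣ) := by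
    ext u
    constructor
    · rintro ⟨p, rfl⟩
      exact Ψ_mem_normalizer p
    · intro hu
      exact mem_range_of_mem_normalizer u hu
  have h1 : Nat.card (Subgroup.normalizer (((fS F K).range : Subgroup (Module.End F K)ˣ) : Set (Module.End F K)ˣ))
      = Nat.card (Set.range (Ψ (F := F) (K := K))) := by
    rw [hrange]; rfl
  show Nat.card (Subgroup.normalizer (((fS F K).range : Subgroup (Module.End F K)ˣ) : Set (Module.End F K)ˣ)) = _
  rw [h1, ← Nat.card_congr (Equiv.ofInjective _ Ψ_injective), Nat.card_prod, Nat.card_units,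
    IsGalois.card_aut_eq_finrank, hdim, Nat.card_eq_fintype_card, mul_comm]

end Cfsg.Agent.S5738
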