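import Cfsg.Statements.S5739
-- import your own Cfsg.Agent.* helpers here

set_option autoImplicit false
open Cfsg

namespace Cfsg.Agent.S5739

variable {F K : Type*} [Field F] [Field K] [Algebra F K]

/-- elements `a` of `K` whose multiplication is `g`-conjugate to a multiplication -/
def interAlg (g : (Module.End F K)ˣ) : Subalgebra F K where
  carrier := {a | ∃ b : K, (g : Module.End F K) * Algebra.lmul F K b = Algebra.lmul F K a * (g : Module.End F K)}
  mul_mem' := by
    rintro a a' ⟨b, hb⟩ ⟨b', hb'⟩
    refine ⟨b * b', ?_⟩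
    rw [map_mul, map_mul, ← mul_assoc, hb, mul_assoc, hb', mul_assoc]
  one_mem' := ⟨1, by rw [map_one, mul_one, one_mul]⟩
  add_mem' := by
    rintro a a' ⟨b, hb⟩ ⟨b', hb'⟩
    refine ⟨b + b', ?_⟩
    rw [map_add, map_add, mul_add, add_mul, hb, hb']
  zero_mem' := ⟨0, by simp⟩
  algebraMap_mem' := by
    intro c
    refine ⟨algebraMap F K c, ?_⟩
    ext x
    simp [Algebra.algebraMap_eq_smul_one]

theorem interAlg_inv_mem (g : (Module.End F K)ˣ) (a : K) (ha : a ∈ interAlg g) : a⁻¹ ∈ interAlg g := by
  by_cases ha0 : a = 0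
  · subst ha0; rw [inv_zero]; exact (interAlg g).zero_mem
  obtain ⟨b, hb⟩ := ha
  have hb0 : b ≠ 0 := by
    rintro rfl
    rw [map_zero, mul_zero] at hb
    have h1 := congrArg (fun φ : Module.End F K => φ (((g⁻¹ : (Module.End F K)ˣ) : Module.End F K) 1)) hb
    simp only [LinearMap.zero_apply, Module.End.mul_apply] at h1
    have h2 : (g : Module.End F K) (((g⁻¹ : (Module.End F K)ˣ) : Module.End F K) 1) = 1 := by
      rw [← Module.End.mul_apply, ← Units.val_mul, mul_inv_cancel]; rfl
    rw [h2] at h1
    simp at h1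
    exact ha0 h1.symm
  refine ⟨b⁻¹, ?_⟩
  have h1 : Algebra.lmul F K a⁻¹ * Algebra.lmul F K a = 1 := by
    rw [← map_mul, inv_mul_cancel₀ ha0, map_one]
  have h2 : Algebra.lmul F K b * Algebra.lmul F K b⁻¹ = 1 := by
    rw [← map_mul, mul_inv_cancel₀ hb0, map_one]
  calc (g : Module.End F K) * Algebra.lmul F K b⁻¹
      = (Algebra.lmul F K a⁻¹ * Algebra.lmul F K a) * ((g : Module.End F K) * Algebra.lmul F K b⁻¹) := by
        rw [h1, one_mul]
    _ = Algebra.lmul F K a⁻¹ * ((Algebra.lmul F K a * (g : Module.End F K)) * Algebra.lmul F K b⁻¹) := by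
        simp only [mul_assoc]
    _ = Algebra.lmul F K a⁻¹ * (((g : Module.End F K) * Algebra.lmul F K b) * Algebra.lmul F K b⁻¹) := by
        rw [hb]
    _ = Algebra.lmul F K a⁻¹ * (g : Module.End F K) := by
        rw [mul_assoc (g : Module.End F K), h2, mul_one]

def interField (g : (Module.End F K)ˣ) : IntermediateField F K :=
  (interAlg g).toIntermediateField (interAlg_inv_mem g)

theorem mem_interField (g : (Module.End F K)ˣ) (a : K) :
    a ∈ interField g ↔ ∃ b : K, (g : Module.End F K) * Algebra.lmul F K b = Algebra.lmul F K a * (g : Module.End F K) :=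
  Iff.rfl

/-- the Singer group -/
noncomputable abbrev singer (F K : Type*) [Field F] [Field K] [Algebra F K] : Subgroup (Module.End F K)ˣ :=
  (Units.map ((Algebra.lmul F K : K →ₐ[F] Module.End F K) : K →* Module.End F K)).range

noncomputable abbrev fS (F K : Type*) [Field F] [Field K] [Algebra F K] : Kˣ →* (Module.End F K)ˣ :=
  Units.map ((Algebra.lmul F K : K →ₐ[F] Module.End F K) : K →* Module.End F K)

theorem fS_injective : Function.Injective (fS F K) := by
  intro a b hab
  have h1 := congrArg (fun u : (Module.End F K)ˣ => (u : Module.End F K) 1) hab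
  simp at h1
  exact Units.ext h1

theorem fS_mem_conj_iff (g : (Module.End F K)ˣ) (a : Kˣ) :
    fS F K a ∈ (singer F K).map (MulAut.conj g).toMonoidHom ↔ (a : K) ∈ interField g := by
  rw [mem_interField]
  constructor
  · rintro ⟨s, ⟨b, rfl⟩, hs⟩
    refine ⟨(b : K), ?_⟩
    have h1 := congrArg (fun u : (Module.End F K)ˣ => (u : Module.End F K) * (g : Module.End F K)) hs
    simp only [MulEquiv.coe_toMonoidHom, MulAut.conj_apply, Units.val_mul] at h1
    rw [mul_assoc, Units.inv_mul, mul_one] at h1
    exact h1
  · rintro ⟨b, hb⟩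
    have hb0 : b ≠ 0 := by
      rintro rfl
      rw [map_zero, mul_zero] at hb
      have h1 := congrArg (fun φ : Module.End F K => φ (((g⁻¹ : (Module.End F K)ˣ) : Module.End F K) 1)) hb
      simp only [LinearMap.zero_apply, Module.End.mul_apply] at h1
      have h2 : (g : Module.End F K) (((g⁻¹ : (Module.End F K)ˣ) : Module.End F K) 1) = 1 := by
        rw [← Module.End.mul_apply, ← Units.val_mul, mul_inv_cancel]; rfl
      rw [h2] at h1
      simp at h1
      exact a.ne_zero h1.symm
    refine ⟨fS F K (Units.mk0 b hb0), ⟨_, rfl⟩, ?_⟩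
    apply Units.ext
    simp only [MulEquiv.coe_toMonoidHom, MulAut.conj_apply, Units.val_mul]
    have : ((fS F K (Units.mk0 b hb0) : (Module.End F K)ˣ) : Module.End F K) = Algebra.lmul F K b := rfl
    rw [this, hb, mul_assoc, ← Units.val_mul, mul_inv_cancel, Units.val_one, mul_one]
    rfl


/-- Let F ⊆ K be finite fields with |F| = q and [K : F] = n ≥ 2, and let M ≤ GL_F(K) be the Singer group of multiplications by non-zero elements of K. If g ∈ GL_F(K) does not normalise M, then the order of M ∩ gMg⁻¹ divides q^r − 1 for some proper divisor r of n. In particular, when n is prime, that order divides q − 1. -/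
theorem result {F K : Type*} [Field F] [Fintype F] [Field K] [Fintype K] [Algebra F K] (n : ℕ) (hn : 2 ≤ n) (hdim : Module.finrank F K = n)
    (g : (Module.End F K)ˣ) (hg : ((Units.map ((Algebra.lmul F K : K →ₐ[F] Module.End F K) : K →* Module.End F K)).range).map (MulAut.conj g).toMonoidHom ≠ (Units.map ((Algebra.lmul F K : K →ₐ[F] Module.End F K) : K →* Module.End F K)).range) :
    ∃ r : ℕ, 1 ≤ r ∧ r ∣ n ∧ r < n ∧ Nat.card ↥(((Units.map ((Algebra.lmul F K : K →ₐ[F] Module.End F K) : K →* Module.End F K)).range).map (MulAut.conj g).toMonoidHom ⊓ (Units.map ((Algebra.lmul F K : K →ₐ[F] Module.End F K) : K →* Module.End F K)).range) ∣ Fintype.card F ^ r - 1 := by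
  classical
  have hfinE : Finite (Module.End F K) := Finite.of_injective (fun f => (f : K → K)) DFunLike.coe_injective
  set L := interField (F := F) (K := K) g with hL
  have hS : (Units.map ((Algebra.lmul F K : K →ₐ[F] Module.End F K) : K →* Module.End F K)).range = singer F K := rfl
  rw [hS] at hg ⊢
  set Sg := (singer F K).map (MulAut.conj g).toMonoidHom with hSg
  have hmul : Module.finrank F L * Module.finrank L K = n := by
    rw [← hdim]; exact Module.finrank_mul_finrank F L K
  have hpos : 0 < Module.finrank F L := Module.finrank_pos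
  have hle : Module.finrank F L ≤ n := by
    rw [← hmul]
    apply Nat.le_mul_of_pos_right
    exact Module.finrank_pos
  refine ⟨Module.finrank F L, hpos, Dvd.intro _ hmul, ?_, ?_⟩
  · -- proper
    apply lt_of_le_of_ne hle
    intro heq
    have htop : L = ⊤ := by
      apply IntermediateField.eq_of_le_of_finrank_eq le_top
      rw [IntermediateField.finrank_top', hdim, heq]
    apply hg
    symm
    apply Subgroup.eq_of_le_of_card_ge
    · rintro _ ⟨a, rfl⟩
      rw [hSg]
      apply (fS_mem_conj_iff g a).mpr
      rw [← hL, htop]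
      trivial
    · rw [hSg, Subgroup.card_map_of_injective (MulAut.conj g).injective]
  · -- the intersection
    have hle' : Sg ⊓ singer F K ≤ (fS F K).range := inf_le_right
    have hcard : Nat.card ↥(Sg ⊓ singer F K) = Nat.card ↥((Sg ⊓ singer F K).comap (fS F K)) := by
      conv_lhs => rw [← Subgroup.map_comap_eq_self hle']
      exact Subgroup.card_map_of_injective fS_injective
    rw [hcard]
    have hmemU : ∀ a : Kˣ, a ∈ (Sg ⊓ singer F K).comap (fS F K) → (a : K) ∈ L := by
      intro a ha
      exact (fS_mem_conj_iff g a).mp ha.1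
    -- injective hom into units of L
    let φ : ((Sg ⊓ singer F K).comap (fS F K)) →* Lˣ :=
      { toFun := fun a => ⟨⟨(a : Kˣ), hmemU a a.2⟩, ⟨((a⁻¹ : (Sg ⊓ singer F K).comap (fS F K)) : Kˣ), hmemU _ (a⁻¹).2⟩,
          by ext; simp, by ext; simp⟩
        map_one' := by ext; simp
        map_mul' := fun a b => by ext; simp }
    have hφ : Function.Injective φ := by
      intro a b hab
      have h1 := congrArg (fun u : Lˣ => ((u : L) : K)) hab
      simp only [φ, MonoidHom.coe_mk, OneHom.coe_mk] at h1
      exact Subtype.ext (Units.ext h1)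
    have hdvd := Subgroup.card_dvd_of_injective φ hφ
    have : Fintype L := Fintype.ofFinite L
    rw [Nat.card_units, Nat.card_eq_fintype_card (α := L), Module.card_eq_pow_finrank (K := F) (V := L)] at hdvd
    exact hdvd

end Cfsg.Agent.S5739
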