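import Cfsg.Statements.S5747
-- import your own Cfsg.Agent.* helpers here

set_option autoImplicit false
open Cfsg

namespace Cfsg.Agent.S5747
open MulAction

variable {G Ω : Type*} [Group G] [MulAction G Ω]

/-- irredundant base for a subgroup -/
def IBs (H : Subgroup G) {t : ℕ} (f : Fin t → Ω) : Prop :=
  (∀ g ∈ H, (∀ i : Fin t, g • f i = f i) → g = 1) ∧
    ∀ i : Fin t, ∃ g ∈ H, (∀ j : Fin t, j < i → g • f j = f j) ∧ g • f i ≠ f i

def PB (H : Subgroup G) : Prop :=
  ∀ (t : ℕ) (f : Fin t → Ω) (σ : Equiv.Perm (Fin t)), IBs H f → IBs H (f ∘ σ)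

def PA (H : Subgroup G) : Prop :=
  ∀ (t t' : ℕ) (f : Fin t → Ω) (f' : Fin t' → Ω), IBs H f → IBs H f' → t = t'

theorem IBs_cons (H : Subgroup G) (x : Ω) (hx : ∃ g ∈ H, g • x ≠ x) {t : ℕ} (f : Fin t → Ω) :
    IBs (H ⊓ stabilizer G x) f ↔ IBs H (Fin.cons x f : Fin (t + 1) → Ω) := by
  constructor
  · rintro ⟨h1, h2⟩
    refine ⟨?_, ?_⟩
    · intro g hg hfix
      apply h1 g ⟨hg, ?_⟩
      · intro i
        have := hfix i.succ
        simpa using this
      · have := hfix 0
        simpa using this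
    · intro i
      refine Fin.cases ?_ ?_ i
      · obtain ⟨g, hg, hgx⟩ := hx
        refine ⟨g, hg, ?_, by simpa using hgx⟩
        intro j hj
        exact absurd hj (Fin.not_lt_zero j)
      · intro k
        obtain ⟨g, hg, hfix, hmov⟩ := h2 k
        refine ⟨g, hg.1, ?_, by simpa using hmov⟩
        intro j
        refine Fin.cases ?_ ?_ j
        · intro _
          have := hg.2
          simpa using this
        · intro j' hj'
          have := hfix j' (by simpa using hj')
          simpa using this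
  · rintro ⟨h1, h2⟩
    refine ⟨?_, ?_⟩
    · intro g hg hfix
      apply h1 g hg.1
      intro i
      refine Fin.cases ?_ ?_ i
      · have := hg.2
        simpa using this
      · intro k
        simpa using hfix k
    · intro k
      obtain ⟨g, hg, hfix, hmov⟩ := h2 k.succ
      refine ⟨g, ⟨hg, ?_⟩, ?_, by simpa using hmov⟩
      · have := hfix 0 (Fin.succ_pos k)
        simpa using this
      · intro j hj
        have := hfix j.succ (by simpa using hj)
        simpa using this

theorem PB_stab (H : Subgroup G) (hB : PB (Ω := Ω) H) (x : Ω) (hx : ∃ g ∈ H, g • x ≠ x) :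
    PB (Ω := Ω) (H ⊓ stabilizer G x) := by
  intro t f σ hf
  rw [IBs_cons H x hx] at hf ⊢
  have := hB (t + 1) (Fin.cons x f) (Equiv.Perm.decomposeFin.symm (0, σ)) hf
  convert this using 1
  funext i
  refine Fin.cases ?_ ?_ i
  · simp
  · intro k
    simp

theorem exists_IBs [Finite G] (H : Subgroup G) (hfaith : ∀ g ∈ H, (∀ ω : Ω, g • ω = ω) → g = 1) :
    ∃ (t : ℕ) (f : Fin t → Ω), IBs H f := by
  induction H using WellFoundedLT.induction with
  | _ H ih =>
    by_cases htriv : ∀ g ∈ H, g = 1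
    · refine ⟨0, Fin.elim0, ?_, ?_⟩
      · intro g hg _
        exact htriv g hg
      · intro i
        exact i.elim0
    · push Not at htriv
      obtain ⟨g, hg, hg1⟩ := htriv
      have : ∃ x : Ω, g • x ≠ x := by
        by_contra hcon
        push Not at hcon
        exact hg1 (hfaith g hg hcon)
      obtain ⟨x, hxg⟩ := this
      have hlt : H ⊓ stabilizer G x < H := by
        rw [inf_lt_left]
        intro hle
        exact hxg (hle hg)
      obtain ⟨t, f, hf⟩ := ih _ hlt (fun g hg => hfaith g hg.1)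
      exact ⟨t + 1, Fin.cons x f, (IBs_cons H x ⟨g, hg, hxg⟩ f).mp hf⟩

theorem faithful_of_IBs (H : Subgroup G) {t : ℕ} (f : Fin t → Ω) (hf : IBs H f) :
    ∀ g ∈ H, (∀ ω : Ω, g • ω = ω) → g = 1 :=
  fun g hg h => hf.1 g hg (fun i => h (f i))

theorem swap_cons (x y : Ω) {r : ℕ} (h : Fin r → Ω) :
    (Fin.cons x (Fin.cons y h) : Fin (r + 1 + 1) → Ω) ∘ (Equiv.swap (0 : Fin (r + 1 + 1)) (Fin.succ 0)) =
      Fin.cons y (Fin.cons x h) := by
  funext i
  refine Fin.cases ?_ ?_ i
  · simp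
  · intro k
    refine Fin.cases ?_ ?_ k
    · simp
    · intro k'
      have h1 : (k'.succ.succ : Fin (r + 1 + 1)) ≠ 0 := Fin.succ_ne_zero _
      have h2 : (k'.succ.succ : Fin (r + 1 + 1)) ≠ Fin.succ 0 := by
        intro e
        exact Fin.succ_ne_zero _ (Fin.succ_injective _ e)
      simp only [Function.comp_apply, Equiv.swap_apply_of_ne_of_ne h1 h2, Fin.cons_succ]

/-- key step: if `H_x` moves `y`, then lengths of bases of `H_x` and `H_y` agree -/
theorem key_step [Finite G] (H : Subgroup G) (hB : PB (Ω := Ω) H) (x y : Ω) (hx : ∃ g ∈ H, g • x ≠ x)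
    (hy : ∃ g ∈ H, g • y ≠ y)
    (hAx : PA (Ω := Ω) (H ⊓ stabilizer G x)) (hAy : PA (Ω := Ω) (H ⊓ stabilizer G y))
    (hmov : ∃ g ∈ H ⊓ stabilizer G x, g • y ≠ y)
    {t t' : ℕ} (f : Fin t → Ω) (f' : Fin t' → Ω) (hf : IBs (H ⊓ stabilizer G x) f)
    (hf' : IBs (H ⊓ stabilizer G y) f') : t = t' := by
  have hfaith := faithful_of_IBs _ f hf
  obtain ⟨r, h, hh⟩ := exists_IBs (Ω := Ω) (H ⊓ stabilizer G x ⊓ stabilizer G y)
    (fun g hg => hfaith g hg.1)
  have h1 : IBs (H ⊓ stabilizer G x) (Fin.cons y h : Fin (r + 1) → Ω) :=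
    (IBs_cons _ y hmov h).mp hh
  have h2 : IBs H (Fin.cons x (Fin.cons y h) : Fin (r + 1 + 1) → Ω) := (IBs_cons H x hx _).mp h1
  have h3 := hB _ _ (Equiv.swap (0 : Fin (r + 1 + 1)) (Fin.succ 0)) h2
  rw [swap_cons] at h3
  have h4 : IBs (H ⊓ stabilizer G y) (Fin.cons x h : Fin (r + 1) → Ω) := (IBs_cons H y hy _).mpr h3
  rw [hAx _ _ f _ hf h1, hAy _ _ f' _ hf' h4]

theorem PA_of_PB [Finite G] (H : Subgroup G) (hB : PB (Ω := Ω) H) : PA (Ω := Ω) H := by
  induction H using WellFoundedLT.induction with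
  | _ H ih =>
    intro t t' f f' hf hf'
    -- zero cases
    have hzero : ∀ {s s' : ℕ} (e : Fin s → Ω) (e' : Fin s' → Ω), IBs H e → IBs H e' → s = 0 → s' = 0 := by
      intro s s' e e' he he' hs
      subst hs
      by_contra hne
      obtain ⟨g, hg, _, hmov⟩ := he'.2 ⟨0, Nat.pos_of_ne_zero hne⟩
      have : g = 1 := he.1 g hg (fun i => i.elim0)
      rw [this, one_smul] at hmov
      exact hmov rfl
    rcases Nat.eq_zero_or_pos t with ht | ht
    · rw [ht, hzero f f' hf hf' ht]
    rcases Nat.eq_zero_or_pos t' with ht' | ht'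
    · rw [ht', hzero f' f hf' hf ht']
    obtain ⟨t₀, rfl⟩ := Nat.exists_eq_succ_of_ne_zero ht.ne'
    obtain ⟨t₀', rfl⟩ := Nat.exists_eq_succ_of_ne_zero ht'.ne'
    set x := f 0 with hxdef
    set y := f' 0 with hydef
    have hfc : f = Fin.cons x (Fin.tail f) := (Fin.cons_self_tail f).symm
    have hfc' : f' = Fin.cons y (Fin.tail f') := (Fin.cons_self_tail f').symm
    have hx : ∃ g ∈ H, g • x ≠ x := by
      obtain ⟨g, hg, _, hmov⟩ := hf.2 0
      exact ⟨g, hg, hmov⟩
    have hy : ∃ g ∈ H, g • y ≠ y := by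
      obtain ⟨g, hg, _, hmov⟩ := hf'.2 0
      exact ⟨g, hg, hmov⟩
    have hltx : H ⊓ stabilizer G x < H := by
      rw [inf_lt_left]
      obtain ⟨g, hg, hmov⟩ := hx
      intro hle
      exact hmov (hle hg)
    have hlty : H ⊓ stabilizer G y < H := by
      rw [inf_lt_left]
      obtain ⟨g, hg, hmov⟩ := hy
      intro hle
      exact hmov (hle hg)
    have hAx := ih _ hltx (PB_stab H hB x hx)
    have hAy := ih _ hlty (PB_stab H hB y hy)
    have htf : IBs (H ⊓ stabilizer G x) (Fin.tail f) := by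
      rw [IBs_cons H x hx, ← hfc]; exact hf
    have htf' : IBs (H ⊓ stabilizer G y) (Fin.tail f') := by
      rw [IBs_cons H y hy, ← hfc']; exact hf'
    by_cases hc1 : ∃ g ∈ H ⊓ stabilizer G x, g • y ≠ y
    · have := key_step H hB x y hx hy hAx hAy hc1 _ _ htf htf'
      omega
    by_cases hc2 : ∃ g ∈ H ⊓ stabilizer G y, g • x ≠ x
    · have := key_step H hB y x hy hx hAy hAx hc2 _ _ htf' htf
      omega
    push Not at hc1 hc2
    have heq : H ⊓ stabilizer G x = H ⊓ stabilizer G y := by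
      apply le_antisymm
      · intro g hg
        exact ⟨hg.1, hc1 g hg⟩
      · intro g hg
        exact ⟨hg.1, hc2 g hg⟩
    rw [← heq] at htf'
    have := hAx _ _ _ _ htf htf'
    omega

theorem PB_of_PA [Finite G] (H : Subgroup G) (hA : PA (Ω := Ω) H) : PB (Ω := Ω) H := by
  classical
  intro t f σ hf
  set e := f ∘ σ with he
  have hbase : ∀ g ∈ H, (∀ i : Fin t, g • e i = e i) → g = 1 := by
    intro g hg hfix
    apply hf.1 g hg
    intro i
    have := hfix (σ.symm i)
    simpa [he] using this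
  let S : Finset (Fin t) := Finset.univ.filter
    (fun i => ∃ g ∈ H, (∀ j : Fin t, j < i → g • e j = e j) ∧ g • e i ≠ e i)
  have hS : ∀ i, i ∈ S ↔ ∃ g ∈ H, (∀ j : Fin t, j < i → g • e j = e j) ∧ g • e i ≠ e i := by
    intro i; simp [S]
  let emb := S.orderEmbOfFin rfl
  have hsub : IBs H (e ∘ emb) := by
    refine ⟨?_, ?_⟩
    · intro g hg hfix
      apply hbase g hg
      intro i
      induction i using WellFoundedLT.induction with
      | _ i ih =>
        by_cases hi : i ∈ S
        · have : i ∈ Set.range emb := by rw [Finset.range_orderEmbOfFin]; exact hi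
          obtain ⟨k, rfl⟩ := this
          exact hfix k
        · rw [hS] at hi
          push Not at hi
          exact hi g hg (fun j hj => ih j hj)
    · intro k
      have hk : emb k ∈ S := Finset.orderEmbOfFin_mem S rfl k
      obtain ⟨g, hg, hfix, hmov⟩ := (hS _).mp hk
      refine ⟨g, hg, ?_, hmov⟩
      intro k' hk'
      exact hfix (emb k') (emb.strictMono hk')
  have hcard : S.card = t := hA _ _ _ _ hsub hf
  have hSuniv : S = Finset.univ := by
    apply Finset.eq_univ_of_card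
    rw [hcard, Fintype.card_fin]
  refine ⟨hbase, ?_⟩
  intro i
  have : i ∈ S := by rw [hSuniv]; exact Finset.mem_univ i
  exact (hS i).mp this


/-- Let a finite group G act on a finite set Ω. An irredundant base is a sequence of points ω₁, …, ω_t whose pointwise stabiliser is trivial and in which each ω_i is moved by some element fixing ω₁, …, ω_{i−1}. Then all irredundant bases have the same length if and only if every reordering of an irredundant base is again an irredundant base. -/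
theorem result {G Ω : Type*} [Group G] [Finite G] [MulAction G Ω] [Fintype Ω] :
    (∀ (t t' : ℕ) (f : Fin t → Ω) (f' : Fin t' → Ω), ((∀ g : G, (∀ i : Fin t, g • f i = f i) → g = 1) ∧ ∀ i : Fin t, ∃ g : G, (∀ j : Fin t, j < i → g • f j = f j) ∧ g • f i ≠ f i) → ((∀ g : G, (∀ i : Fin t', g • f' i = f' i) → g = 1) ∧ ∀ i : Fin t', ∃ g : G, (∀ j : Fin t', j < i → g • f' j = f' j) ∧ g • f' i ≠ f' i) → t = t') ↔
    (∀ (t : ℕ) (f : Fin t → Ω) (σ : Equiv.Perm (Fin t)), ((∀ g : G, (∀ i : Fin t, g • f i = f i) → g = 1) ∧ ∀ i : Fin t, ∃ g : G, (∀ j : Fin t, j < i → g • f j = f j) ∧ g • f i ≠ f i) → ((∀ g : G, (∀ i : Fin t, g • (f ∘ σ) i = (f ∘ σ) i) → g = 1) ∧ ∀ i : Fin t, ∃ g : G, (∀ j : Fin t, j < i → g • (f ∘ σ) j = (f ∘ σ) j) ∧ g • (f ∘ σ) i ≠ (f ∘ σ) i)) := by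
  have hiff : ∀ {t : ℕ} (f : Fin t → Ω), IBs (⊤ : Subgroup G) f ↔
      ((∀ g : G, (∀ i : Fin t, g • f i = f i) → g = 1) ∧ ∀ i : Fin t, ∃ g : G, (∀ j : Fin t, j < i → g • f j = f j) ∧ g • f i ≠ f i) := by
    intro t f
    simp [IBs]
  constructor
  · intro h t f σ hf
    rw [← hiff] at hf ⊢
    refine PB_of_PA (⊤ : Subgroup G) ?_ t f σ hf
    intro t t' f f' hf hf'
    rw [hiff] at hf hf'
    exact h t t' f f' hf hf'
  · intro h t t' f f' hf hf'
    rw [← hiff] at hf hf'
    refine PA_of_PB (⊤ : Subgroup G) ?_ t t' f f' hf hf'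
    intro t f σ hf
    rw [hiff] at hf ⊢
    exact h t f σ hf

end Cfsg.Agent.S5747
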