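import Cfsg.Statements.S5748
import Cfsg.Agent.Lib.helper6.CTf
import Cfsg.Agent.Lib.helper6.CTg
import Cfsg.Agent.S0182

set_option autoImplicit false
open Cfsg

namespace Cfsg.Agent.S5748

/-- A finite non-abelian simple group in which commuting is a transitive relation on the non-identity elements (equivalently, every non-identity element has abelian centraliser) is isomorphic to PSL₂ over a field with 2^f elements for some f ≥ 2; conversely these groups have that property. -/
theorem result {G : Type*} [Group G] [Finite G] [IsSimpleGroup G] (hG : ¬ IsMulCommutative G) :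
    (∀ a b c : G, a ≠ 1 → b ≠ 1 → c ≠ 1 → Commute a b → Commute b c → Commute a c) ↔
    ∃ (F : Type) (_ : Field F) (_ : Fintype F) (f : ℕ), 2 ≤ f ∧ Fintype.card F = 2 ^ f ∧ Nonempty (G ≃* Matrix.ProjectiveSpecialLinearGroup (Fin 2) F) := by
  constructor
  · intro hCT
    have hCA : Cfsg.Agent.Lib.Helper11.SuzukiCA.CA G := by
      intro x hx a ha b hb
      rw [Cfsg.Agent.Lib.Helper11.SuzukiCA.mem_cent] at ha hb
      by_cases ha1 : a = 1
      · rw [ha1, one_mul, mul_one]
      by_cases hb1 : b = 1
      · rw [hb1, one_mul, mul_one]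
      exact hCT a x b ha1 hx hb1 ha.symm hb
    have hnc : ¬ ∀ a b : G, a * b = b * a := by
      intro h
      exact hG ⟨⟨h⟩⟩
    by_cases heven : 2 ∣ Nat.card G
    · exact Cfsg.Agent.Lib.helper6.CT.ct_even_psl hCA hnc heven
    · exfalso
      have hodd : Odd (Nat.card G) := by
        rw [← Nat.not_even_iff_odd, even_iff_two_dvd]
        exact heven
      have hsolv : IsSolvable G := Cfsg.Agent.S0182.result hodd hCA
      exact hnc (IsSimpleGroup.comm_iff_isSolvable.2 hsolv)
  · rintro ⟨F, iF, iFin, f, hf, hcard, ⟨e⟩⟩
    have hFeven : Fintype.card F % 2 = 0 := by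
      rw [hcard]
      obtain ⟨k, rfl⟩ : ∃ k, f = k + 1 := ⟨f - 1, by omega⟩
      rw [pow_succ]
      omega
    have hchar : ringChar F = 2 := FiniteField.even_card_iff_char_two.mpr hFeven
    have h2 : (2 : F) = 0 := by
      have := CharP.cast_eq_zero F (ringChar F)
      rw [hchar] at this
      exact_mod_cast this
    intro a b c _ hb _ hab hbc
    have hb' : e b ≠ 1 := by
      intro h
      apply hb
      apply e.injective
      rw [h, map_one]
    have h := Cfsg.Agent.Lib.helper6.CT.psl2_char_two_ct h2 (e a) (e b) (e c) hb' (hab.map e) (hbc.map e)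
    have h' : e (a * c) = e (c * a) := by
      rw [map_mul, map_mul]
      exact h
    exact e.injective h'

end Cfsg.Agent.S5748
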