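import Cfsg.Statements.S5754
-- import your own Cfsg.Agent.* helpers here

set_option autoImplicit false
open Cfsg

namespace Cfsg.Agent.S5754
open QuadraticMap

variable {F V : Type*} [Field F] [AddCommGroup V] [Module F V]

theorem Q_sub (Q : QuadraticForm F V) (x y : V) : Q (x - y) = Q x + Q y - polar Q x y := by
  have h := QuadraticMap.map_add Q x (-y)
  rw [QuadraticMap.map_neg, polar_neg_right] at h
  rw [sub_eq_add_neg, h]; ring

noncomputable def reflMap (Q : QuadraticForm F V) (w : V) : V →ₗ[F] V :=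
  LinearMap.id - (Q w)⁻¹ • ((polarBilin Q).flip w).smulRight w

theorem reflMap_apply (Q : QuadraticForm F V) (w x : V) :
    reflMap Q w x = x - ((Q w)⁻¹ * polar Q x w) • w := by
  simp [reflMap, mul_smul]

theorem Q_reflMap (Q : QuadraticForm F V) (w : V) (hw : Q w ≠ 0) (x : V) :
    Q (reflMap Q w x) = Q x := by
  rw [reflMap_apply, Q_sub, QuadraticMap.map_smul, polar_smul_right]
  simp only [smul_eq_mul]
  field_simp
  ring

theorem reflMap_involutive (Q : QuadraticForm F V) (w : V) (hw : Q w ≠ 0) :
    Function.Involutive (reflMap Q w) := by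
  intro x
  rw [reflMap_apply Q w (reflMap Q w x), reflMap_apply Q w x, polar_sub_left, polar_smul_left,
    polar_self]
  simp only [smul_eq_mul, nsmul_eq_mul, Nat.cast_ofNat]
  rw [sub_sub, ← add_smul]
  have : (Q w)⁻¹ * polar (⇑Q) x w + (Q w)⁻¹ * (polar (⇑Q) x w - (Q w)⁻¹ * polar (⇑Q) x w * (2 * Q w)) = 0 := by
    field_simp
    ring
  rw [this, zero_smul, sub_zero]

noncomputable def refl (Q : QuadraticForm F V) (w : V) (hw : Q w ≠ 0) : Q.IsometryEquiv Q :=
  { LinearEquiv.ofInvolutive (reflMap Q w) (reflMap_involutive Q w hw) with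
    map_app' := fun m => Q_reflMap Q w hw m }

theorem refl_apply (Q : QuadraticForm F V) (w : V) (hw : Q w ≠ 0) (x : V) :
    refl Q w hw x = x - ((Q w)⁻¹ * polar Q x w) • w := reflMap_apply Q w x

theorem extend (Q : QuadraticForm F V) (hQ : Q.Anisotropic) (n : ℕ) (v v' : Fin n → V)
    (hq : ∀ i, Q (v i) = Q (v' i)) (hp : ∀ i j, polar Q (v i) (v j) = polar Q (v' i) (v' j))
    (k : ℕ) (hk : k ≤ n) :
    ∃ φ : Q.IsometryEquiv Q, ∀ i : Fin n, i.val < k → φ (v i) = v' i := by
  induction k with
  | zero => exact ⟨QuadraticMap.IsometryEquiv.refl Q, fun i hi => absurd hi (Nat.not_lt_zero _)⟩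
  | succ k ih =>
    obtain ⟨φ, hφ⟩ := ih (Nat.le_of_succ_le hk)
    set ik : Fin n := ⟨k, hk⟩ with hik
    set w := φ (v ik) - v' ik with hw
    by_cases hw0 : w = 0
    · refine ⟨φ, fun i hi => ?_⟩
      rcases Nat.lt_succ_iff_lt_or_eq.mp hi with h | h
      · exact hφ i h
      · have : i = ik := Fin.ext h
        rw [this]
        exact sub_eq_zero.mp hw0
    · have hQw : Q w ≠ 0 := fun h => hw0 (hQ w h)
      have hpφ : ∀ i j, polar Q (φ (v i)) (φ (v j)) = polar Q (v i) (v j) := by
        intro i j
        simp only [polar]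
        rw [← map_add, φ.map_app, φ.map_app, φ.map_app]
      refine ⟨φ.trans (refl Q w hQw), fun i hi => ?_⟩
      show refl Q w hQw (φ (v i)) = v' i
      rw [refl_apply]
      rcases Nat.lt_succ_iff_lt_or_eq.mp hi with h | h
      · have h1 : polar Q (φ (v i)) w = 0 := by
          rw [hw, polar_sub_right, hpφ, hφ i h, hp]
          exact sub_self _
        rw [h1, mul_zero, zero_smul, sub_zero, hφ i h]
      · have hi' : i = ik := Fin.ext h
        rw [hi']
        have h1 : polar Q (φ (v ik)) w = Q w := by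
          rw [hw, polar_sub_right, Q_sub, polar_self, φ.map_app, hq ik]
          simp only [nsmul_eq_mul, Nat.cast_ofNat]
          ring
        rw [h1, inv_mul_cancel₀ hQw, one_smul, hw]
        abel


/-- Let V be a finite-dimensional vector space over a finite field F carrying an anisotropic quadratic form Q (Q(v) = 0 only for v = 0). Then the group of all maps v ↦ φ(v) + c, with φ an isometry of Q and c ∈ V, acts on V as a binary permutation group: given n ≥ 2 and two n-tuples u, u' of vectors such that every pair of corresponding entries of u is carried to that of u' by such a map, one such map carries u to u'. -/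
theorem result {F V : Type*} [Field F] [Finite F] [AddCommGroup V] [Module F V] [Module.Finite F V]
    (Q : QuadraticForm F V) (hQ : Q.Anisotropic) (n : ℕ) (hn : 2 ≤ n) (u u' : Fin n → V)
    (h2 : ∀ i j : Fin n, i ≠ j → ∃ (φ : Q.IsometryEquiv Q) (c : V), φ (u i) + c = u' i ∧ φ (u j) + c = u' j) :
    ∃ (φ : Q.IsometryEquiv Q) (c : V), ∀ i, φ (u i) + c = u' i := by
  have hdiff : ∀ i j : Fin n, Q (u i - u j) = Q (u' i - u' j) := by
    intro i j
    by_cases hij : i = j
    · subst hij; simp
    · obtain ⟨φ, c, h1, h2⟩ := h2 i j hij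
      rw [← h1, ← h2, add_sub_add_right_eq_sub, ← map_sub, φ.map_app]
  set i0 : Fin n := ⟨0, by omega⟩ with hi0
  set v : Fin n → V := fun i => u i - u i0 with hv
  set v' : Fin n → V := fun i => u' i - u' i0 with hv'
  have hq : ∀ i, Q (v i) = Q (v' i) := fun i => hdiff i i0
  have hsub : ∀ i j, Q (v i - v j) = Q (v' i - v' j) := by
    intro i j
    simp only [hv, hv', sub_sub_sub_cancel_right]
    exact hdiff i j
  have hp : ∀ i j, polar Q (v i) (v j) = polar Q (v' i) (v' j) := by
    intro i j
    have h1 := Q_sub Q (v i) (v j)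
    have h2 := Q_sub Q (v' i) (v' j)
    rw [hsub, h2, hq i, hq j] at h1
    have := sub_right_injective h1
    exact this.symm
  obtain ⟨φ, hφ⟩ := extend Q hQ n v v' hq hp n le_rfl
  refine ⟨φ, u' i0 - φ (u i0), fun i => ?_⟩
  have := hφ i i.isLt
  simp only [hv, hv', map_sub] at this
  have h3 : φ (u i) + (u' i0 - φ (u i0)) = (φ (u i) - φ (u i0)) + u' i0 := by abel
  rw [h3, this]
  abel

end Cfsg.Agent.S5754
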