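import Cfsg.Statements.S5905
-- import your own Cfsg.Agent.* helpers here

set_option autoImplicit false
open Cfsg

namespace Cfsg.Agent.S5905

variable {Ω : Type*} [Fintype Ω] [DecidableEq Ω] {a b : ℕ}

/-- the partition stabilizer as a subgroup -/
def wr (f : Ω → Fin b) : Subgroup (Equiv.Perm Ω) where
  carrier := {g | ∀ x y : Ω, f x = f y ↔ f (g x) = f (g y)}
  one_mem' := by intro x y; simp
  mul_mem' := by
    intro g h hg hh x y
    rw [hh x y, hg (h x) (h y)]; rfl
  inv_mem' := by
    intro g hg x y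
    have := hg (g⁻¹ x) (g⁻¹ y)
    simp at this
    exact this.symm

theorem mem_wr (f : Ω → Fin b) (g : Equiv.Perm Ω) :
    g ∈ wr f ↔ ∀ x y : Ω, f x = f y ↔ f (g x) = f (g y) := Iff.rfl

theorem closure_eq_wr (f : Ω → Fin b) :
    Subgroup.closure {g : Equiv.Perm Ω | ∀ x y : Ω, f x = f y ↔ f (g x) = f (g y)} = wr f :=
  Subgroup.closure_eq (wr f)

noncomputable def coord (f : Ω → Fin b) (hf : ∀ i : Fin b, Nat.card {x : Ω // f x = i} = a) :
    Ω ≃ Fin b × Fin a :=
  (Equiv.sigmaFiberEquiv f).symm.trans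
    ((Equiv.sigmaCongrRight (fun i => Finite.equivFinOfCardEq (hf i))).trans (Equiv.sigmaEquivProd _ _))

theorem coord_fst (f : Ω → Fin b) (hf : ∀ i : Fin b, Nat.card {x : Ω // f x = i} = a) (x : Ω) :
    (coord f hf x).1 = f x := rfl

noncomputable def lift (f : Ω → Fin b) (hf : ∀ i : Fin b, Nat.card {x : Ω // f x = i} = a)
    (σ : Equiv.Perm (Fin b)) : Equiv.Perm Ω :=
  (coord f hf).trans ((Equiv.prodCongr σ (Equiv.refl _)).trans (coord f hf).symm)

theorem f_lift (f : Ω → Fin b) (hf : ∀ i : Fin b, Nat.card {x : Ω // f x = i} = a)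
    (σ : Equiv.Perm (Fin b)) (x : Ω) : f (lift f hf σ x) = σ (f x) := by
  rw [← coord_fst f hf, ← coord_fst f hf x, lift]
  simp

theorem lift_mem (f : Ω → Fin b) (hf : ∀ i : Fin b, Nat.card {x : Ω // f x = i} = a)
    (σ : Equiv.Perm (Fin b)) : lift f hf σ ∈ wr f := by
  intro x y
  rw [f_lift f hf, f_lift f hf, σ.injective.eq_iff]

theorem swap_mem (f : Ω → Fin b) (x y : Ω) (h : f x = f y) : Equiv.swap x y ∈ wr f := by
  have key : ∀ u, f (Equiv.swap x y u) = f u := by
    intro u
    by_cases hx : u = x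
    · subst hx; rw [Equiv.swap_apply_left]; exact h.symm
    by_cases hy : u = y
    · subst hy; rw [Equiv.swap_apply_right]; exact h
    rw [Equiv.swap_apply_of_ne_of_ne hx hy]
  intro u v
  rw [key, key]

/-- moving the first point of a transposition within its fibre -/
theorem swap_move (f : Ω → Fin b) (L : Subgroup (Equiv.Perm Ω)) (hL : wr f ≤ L) (u v u' : Ω)
    (huv : f u ≠ f v) (huu' : f u' = f u) (h : Equiv.swap u v ∈ L) : Equiv.swap u' v ∈ L := by
  have h1 : Equiv.swap u u' ∈ L := hL (swap_mem f u u' huu'.symm)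
  have hvu : v ≠ u := fun e => huv (by rw [e])
  have hvu' : v ≠ u' := fun e => huv (by rw [e, huu'])
  have h2 : Equiv.swap u u' * Equiv.swap u v * (Equiv.swap u u')⁻¹ ∈ L :=
    L.mul_mem (L.mul_mem h1 h) (L.inv_mem h1)
  rw [← Equiv.swap_apply_apply, Equiv.swap_apply_left, Equiv.swap_apply_of_ne_of_ne hvu hvu'] at h2
  exact h2

theorem exists_perm_two {α : Type*} [DecidableEq α] (i j i' j' : α) (hij : i ≠ j) (hij' : i' ≠ j') :
    ∃ σ : Equiv.Perm α, σ i = i' ∧ σ j = j' := by
  refine ⟨Equiv.swap j' (Equiv.swap i i' j) * Equiv.swap i i', ?_, ?_⟩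
  · rw [Equiv.Perm.mul_apply, Equiv.swap_apply_left]
    apply Equiv.swap_apply_of_ne_of_ne hij'
    intro h
    have : Equiv.swap i i' i = Equiv.swap i i' j := by rw [Equiv.swap_apply_left]; exact h
    exact hij ((Equiv.swap i i').injective this)
  · rw [Equiv.Perm.mul_apply, Equiv.swap_apply_right]


/-- Let Ω be a finite set and f : Ω → Fin b a map onto b ≥ 2 labels whose fibres all have the same size a ≥ 2 (a partition of Ω into b blocks of size a, so |Ω| = ab). Then the stabilizer of this partition in the symmetric group on Ω — the permutations g such that x and y lie in the same block exactly when g x and g y do, a group isomorphic to the imprimitive wreath product S_a ≀ S_b — is a maximal subgroup of the symmetric group. -/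
theorem result {Ω : Type*} [Fintype Ω] [DecidableEq Ω] (a b : ℕ) (ha : 2 ≤ a) (hb : 2 ≤ b)
    (f : Ω → Fin b) (hf : ∀ i : Fin b, Nat.card {x : Ω // f x = i} = a) :
    IsCoatom (Subgroup.closure {g : Equiv.Perm Ω | ∀ x y : Ω, f x = f y ↔ f (g x) = f (g y)}) := by
  rw [closure_eq_wr]
  -- some points
  have hfib : ∀ i : Fin b, ∃ x y : Ω, x ≠ y ∧ f x = i ∧ f y = i := by
    intro i
    have h1 : 1 < Nat.card {x : Ω // f x = i} := by rw [hf i]; omega
    rw [Finite.one_lt_card_iff_nontrivial] at h1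
    obtain ⟨⟨x, hx⟩, ⟨y, hy⟩, hxy⟩ := h1
    exact ⟨x, y, fun e => hxy (Subtype.ext e), hx, hy⟩
  constructor
  · -- proper
    intro htop
    obtain ⟨x, y, hxy, hx, hy⟩ := hfib ⟨0, by omega⟩
    obtain ⟨z, _, _, hz, _⟩ := hfib ⟨1, by omega⟩
    have hne : f x ≠ f z := by
      rw [hx, hz]; intro e; simp [Fin.ext_iff] at e
    have hmem : Equiv.swap y z ∈ wr f := by rw [htop]; trivial
    have h1 := (hmem x y).mp (by rw [hx, hy])
    have hxz : x ≠ z := fun e => hne (by rw [e])
    rw [Equiv.swap_apply_of_ne_of_ne hxy hxz, Equiv.swap_apply_left] at h1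
    exact hne h1
  · intro L hWL
    have hle : wr f ≤ L := hWL.le
    obtain ⟨g, hgL, hgW⟩ := Set.exists_of_ssubset hWL
    -- find h ∈ L and x y with f x = f y, f (h x) ≠ f (h y)
    have hex : ∃ h ∈ L, ∃ x y : Ω, f x = f y ∧ f (h x) ≠ f (h y) := by
      by_contra hcon
      push Not at hcon
      apply hgW
      intro x y
      constructor
      · exact hcon g hgL x y
      · intro h
        have := hcon g⁻¹ (L.inv_mem hgL) (g x) (g y) h
        simpa using this
    obtain ⟨h, hhL, x, y, hxy, hne⟩ := hex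
    -- a cross swap in L
    have hcross : Equiv.swap (h x) (h y) ∈ L := by
      rw [Equiv.swap_apply_apply]
      exact L.mul_mem (L.mul_mem hhL (hle (swap_mem f x y hxy))) (L.inv_mem hhL)
    set u := h x
    set v := h y
    -- all cross swaps
    have hall : ∀ u' v' : Ω, f u' ≠ f v' → Equiv.swap u' v' ∈ L := by
      intro u' v' hne'
      obtain ⟨σ, hσu, hσv⟩ := exists_perm_two (f u) (f v) (f u') (f v') hne hne'
      have h1 : Equiv.swap (lift f hf σ u) (lift f hf σ v) ∈ L := by
        rw [Equiv.swap_apply_apply]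
        have := hle (lift_mem f hf σ)
        exact L.mul_mem (L.mul_mem this hcross) (L.inv_mem this)
      have hfu : f (lift f hf σ u) = f u' := by rw [f_lift f hf, hσu]
      have hfv : f (lift f hf σ v) = f v' := by rw [f_lift f hf, hσv]
      have h2 : Equiv.swap u' (lift f hf σ v) ∈ L :=
        swap_move f L hle _ _ u' (by rw [hfu, hfv]; exact hne') hfu.symm h1
      rw [Equiv.swap_comm] at h2
      have h3 : Equiv.swap v' u' ∈ L :=
        swap_move f L hle _ _ v' (by rw [hfv]; exact hne'.symm) hfv.symm h2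
      rw [Equiv.swap_comm] at h3
      exact h3
    rw [eq_top_iff, ← Equiv.Perm.closure_isSwap, Subgroup.closure_le]
    rintro s ⟨u', v', _, rfl⟩
    by_cases hc : f u' = f v'
    · exact hle (swap_mem f u' v' hc)
    · exact hall u' v' hc

end Cfsg.Agent.S5905
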