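import Cfsg.Statements.S5763
import Cfsg.Agent.S5905

set_option autoImplicit false
open Cfsg

namespace Cfsg.Agent.S5763
open Cfsg.Agent.S5905

variable {Ω : Type*} [Fintype Ω] [DecidableEq Ω]

/-- tree structure axioms -/
structure Tree (m : Ω → Fin 4) (q : Ω → Fin 2) (σ : Equiv.Perm Ω) : Prop where
  invol : ∀ x, σ (σ x) = x
  fpf : ∀ x, σ x ≠ x
  m_iff : ∀ x y, m x = m y ↔ (y = x ∨ y = σ x)
  q_sigma : ∀ x, q (σ x) = q x
  q_card : ∀ j, (Finset.univ.filter (fun x => q x = j)).card = 4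

/-- the group of a tree -/
def treeGroup (m : Ω → Fin 4) (q : Ω → Fin 2) : Subgroup (Equiv.Perm Ω) := wr m ⊓ wr q

theorem tree_swap_mem {m : Ω → Fin 4} {q : Ω → Fin 2} {σ : Equiv.Perm Ω} (T : Tree m q σ) (a : Ω) :
    Equiv.swap a (σ a) ∈ treeGroup m q := by
  have h1 : m a = m (σ a) := (T.m_iff a (σ a)).mpr (Or.inr rfl)
  exact ⟨swap_mem m a (σ a) h1, swap_mem q a (σ a) (T.q_sigma a).symm⟩

theorem comm_mem_wr_m {m : Ω → Fin 4} {q : Ω → Fin 2} {σ : Equiv.Perm Ω} (T : Tree m q σ)
    (g : Equiv.Perm Ω) (hg : ∀ x, g (σ x) = σ (g x)) : g ∈ wr m := by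
  intro x y
  rw [T.m_iff x y, T.m_iff (g x) (g y)]
  constructor
  · rintro (h | h)
    · left; rw [h]
    · right; rw [h, hg]
  · rintro (h | h)
    · left; exact g.injective h
    · right; rw [← hg] at h; exact g.injective h

theorem fin2_lemma : ∀ a b c d : Fin 2, a ≠ c → b ≠ d → (c = d ↔ a = b) := by decide

theorem fin2_lemma' : ∀ j a b : Fin 2, (a = b ↔ (a = j ↔ b = j)) := by decide

theorem lemmaQ {m : Ω → Fin 4} {q : Ω → Fin 2} {σ : Equiv.Perm Ω} (T : Tree m q σ)
    (g : Equiv.Perm Ω) (hg : ∀ x, g (σ x) = σ (g x)) (hinv : ∀ x, g (g x) = x)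
    (hne : ∀ x, g x ≠ x ∧ g x ≠ σ x) : g ∈ wr q := by
  by_cases hex : ∃ x0, q (g x0) = q x0
  · obtain ⟨x0, hx0⟩ := hex
    set j := q x0 with hj
    have hsub : ({x0, σ x0, g x0, σ (g x0)} : Finset Ω) ⊆ Finset.univ.filter (fun x => q x = j) := by
      intro y hy
      simp only [Finset.mem_insert, Finset.mem_singleton] at hy
      simp only [Finset.mem_filter, Finset.mem_univ, true_and]
      rcases hy with rfl | rfl | rfl | rfl
      · rfl
      · exact T.q_sigma x0
      · exact hx0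
      · rw [T.q_sigma]; exact hx0
    have h1 : x0 ≠ σ x0 := (T.fpf x0).symm
    have h2 : x0 ≠ g x0 := (hne x0).1.symm
    have h3 : x0 ≠ σ (g x0) := by
      intro h
      have := congrArg σ h
      rw [T.invol] at this
      exact (hne x0).2 this.symm
    have h4 : σ x0 ≠ g x0 := (hne x0).2.symm
    have h5 : σ x0 ≠ σ (g x0) := fun h => h2 (σ.injective h)
    have h6 : g x0 ≠ σ (g x0) := (T.fpf (g x0)).symm
    have hcard : ({x0, σ x0, g x0, σ (g x0)} : Finset Ω).card = 4 := by
      rw [Finset.card_insert_of_notMem, Finset.card_insert_of_notMem, Finset.card_insert_of_notMem,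
        Finset.card_singleton]
      · simp [h6]
      · simp [h4, h5]
      · simp [h1, h2, h3]
    have heq : ({x0, σ x0, g x0, σ (g x0)} : Finset Ω) = Finset.univ.filter (fun x => q x = j) :=
      Finset.eq_of_subset_of_card_le hsub (by rw [hcard, T.q_card])
    have hfwd : ∀ y, q y = j → q (g y) = j := by
      intro y hy
      have hy' : y ∈ ({x0, σ x0, g x0, σ (g x0)} : Finset Ω) := by
        rw [heq]; simp [hy]
      simp only [Finset.mem_insert, Finset.mem_singleton] at hy'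
      rcases hy' with rfl | rfl | rfl | rfl
      · exact hx0
      · rw [hg, T.q_sigma]; exact hx0
      · rw [hinv]
      · rw [hg, hinv, T.q_sigma]
    have hiff : ∀ y, q (g y) = j ↔ q y = j := by
      intro y
      constructor
      · intro h
        have := hfwd (g y) h
        rwa [hinv] at this
      · exact hfwd y
    intro x y
    rw [fin2_lemma' j (q x) (q y), fin2_lemma' j (q (g x)) (q (g y)), hiff, hiff]
  · push Not at hex
    intro x y
    exact (fin2_lemma (q (g x)) (q (g y)) (q x) (q y) (hex x) (hex y))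


section dihedral
variable {Ω : Type*} [Fintype Ω] [DecidableEq Ω]
variable (σ σ' : Equiv.Perm Ω)

theorem reflR (hσ : ∀ x, σ (σ x) = x) (hσ' : ∀ x, σ' (σ' x) = x) (hfpf : ∀ x, σ x ≠ x)
    (hfpf' : ∀ x, σ' x ≠ x) :
    ∀ k : ℕ, ∀ x, σ (((σ' * σ) ^ k) x) ≠ x := by
  intro k
  induction k using Nat.twoStepInduction with
  | zero => intro x; simpa using hfpf x
  | one =>
    intro x h
    simp only [pow_one, Equiv.Perm.mul_apply] at h
    have := congrArg σ h
    rw [hσ] at this
    exact hfpf' (σ x) this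
  | more k ih _ =>
    intro x h
    have e : (σ' * σ) ^ (k + 2) = (σ' * σ) * (σ' * σ) ^ k * (σ' * σ) := by
      rw [pow_succ, pow_succ']
    rw [e] at h
    simp only [Equiv.Perm.mul_apply] at h
    have h1 := congrArg σ h
    rw [hσ] at h1
    have h2 := congrArg σ' h1
    rw [hσ'] at h2
    exact ih (σ' (σ x)) (by simpa [Equiv.Perm.mul_apply] using h2)

theorem reflR' (hσ : ∀ x, σ (σ x) = x) (hσ' : ∀ x, σ' (σ' x) = x) (hfpf : ∀ x, σ x ≠ x)
    (hfpf' : ∀ x, σ' x ≠ x) :
    ∀ j i : ℕ, ∀ x, σ (((σ' * σ) ^ i) x) ≠ ((σ' * σ) ^ j) x := by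
  intro j
  induction j with
  | zero => intro i x; simpa using reflR σ σ' hσ hσ' hfpf hfpf' i x
  | succ j ih =>
    intro i x h
    rw [pow_succ' _ j] at h
    simp only [Equiv.Perm.mul_apply] at h
    have h1 := congrArg σ' h
    rw [hσ'] at h1
    have h2 : ((σ' * σ) ^ (i + 1)) x = σ (((σ' * σ) ^ j) x) := by
      rw [pow_succ']; simpa [Equiv.Perm.mul_apply] using h1
    have h3 := congrArg σ h2
    rw [hσ] at h3
    exact ih (i + 1) x h3




theorem pow_ne_of_lt (c : Equiv.Perm Ω) (x0 : Ω) (n : ℕ) (h : ∀ k, 1 ≤ k → k < n → (c ^ k) x0 ≠ x0)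
    (i j : ℕ) (hij : i < j) (hj : j < n) : (c ^ i) x0 ≠ (c ^ j) x0 := by
  intro e
  have hj' : j = i + (j - i) := by omega
  rw [hj', pow_add, Equiv.Perm.mul_apply] at e
  have := (c ^ i).injective e
  exact h (j - i) (by omega) (by omega) this.symm

theorem inv_eq (hσ : ∀ x, σ (σ x) = x) (hσ' : ∀ x, σ' (σ' x) = x) : σ * σ' = (σ' * σ)⁻¹ := by
  apply eq_inv_of_mul_eq_one_left
  ext x
  simp [hσ, hσ']

theorem conj_pow_apply (hσ : ∀ x, σ (σ x) = x) (k : ℕ) :
    ∀ z : Ω, ((σ' * σ) ^ k) (σ z) = σ (((σ * σ') ^ k) z) := by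
  induction k with
  | zero => intro z; simp
  | succ k ih =>
    intro z
    rw [pow_succ, pow_succ, Equiv.Perm.mul_apply, Equiv.Perm.mul_apply, Equiv.Perm.mul_apply,
      Equiv.Perm.mul_apply, hσ, ← ih, hσ]

theorem pow_fix_of_pow_fix (hσ : ∀ x, σ (σ x) = x) (hσ' : ∀ x, σ' (σ' x) = x) (k : ℕ) (z : Ω)
    (h : ((σ' * σ) ^ k) z = z) : ((σ * σ') ^ k) z = z := by
  rw [inv_eq σ σ' hσ hσ', inv_pow]
  rw [Equiv.Perm.inv_eq_iff_eq]
  exact h.symm

/-- the structure of `c = σ' σ` when `c² ≠ 1` and there is no shared pair -/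
theorem period_four (hcard : Fintype.card Ω = 8)
    (hσ : ∀ x, σ (σ x) = x) (hσ' : ∀ x, σ' (σ' x) = x) (hfpf : ∀ x, σ x ≠ x)
    (hfpf' : ∀ x, σ' x ≠ x) (hB : ∀ x, σ' x ≠ σ x) (x0 : Ω) (hx0 : ((σ' * σ) ^ 2) x0 ≠ x0) :
    (∀ y, ((σ' * σ) ^ 4) y = y) ∧ ∀ y, ((σ' * σ) ^ 2) y ≠ y := by
  set c := σ' * σ with hc
  have hc1 : ∀ x, (c ^ 1) x ≠ x := by
    intro x h
    rw [pow_one, hc, Equiv.Perm.mul_apply] at h
    have := congrArg σ' h
    rw [hσ'] at this
    exact hB x this.symm
  have hR := reflR' σ σ' hσ hσ' hfpf hfpf'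
  by_cases h3 : (c ^ 3) x0 = x0
  · exfalso
    have hk : ∀ k, 1 ≤ k → k < 3 → (c ^ k) x0 ≠ x0 := by
      intro k h1 h4
      interval_cases k
      · exact hc1 x0
      · exact hx0
    let f : Fin 2 × Fin 3 → Ω := fun p => if p.1 = 0 then (c ^ (p.2 : ℕ)) x0 else σ ((c ^ (p.2 : ℕ)) x0)
    have hf : Function.Injective f := by
      rintro ⟨ε, i⟩ ⟨ε', j⟩ h
      have hpow : ∀ i j : Fin 3, (c ^ (i : ℕ)) x0 = (c ^ (j : ℕ)) x0 → i = j := by
        intro i j e
        by_contra hne
        rcases lt_or_gt_of_ne (fun h => hne (Fin.ext h) : (i : ℕ) ≠ j) with hlt | hlt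
        · exact pow_ne_of_lt c x0 3 hk i j hlt j.isLt e
        · exact pow_ne_of_lt c x0 3 hk j i hlt i.isLt e.symm
      fin_cases ε <;> fin_cases ε'
      · simp only [f] at h
        simp at h
        rw [hpow i j h]
      · exfalso
        simp only [f] at h
        simp at h
        exact hR _ _ _ h.symm
      · exfalso
        simp only [f] at h
        simp at h
        exact hR _ _ _ h
      · simp only [f] at h
        simp at h
        rw [hpow i j h]
    have e1 : ∀ w, σ' (c w) = σ w := by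
      intro w; rw [hc, Equiv.Perm.mul_apply, hσ']
    have e2 : ∀ w, σ' (σ w) = c w := fun w => rfl
    have p1 : (c ^ 1) x0 = c x0 := by rw [pow_one]
    have p2 : (c ^ 2) x0 = c (c x0) := by rw [pow_two, Equiv.Perm.mul_apply]
    have p3 : c (c (c x0)) = x0 := by
      have : (c ^ 3) x0 = c (c (c x0)) := by
        rw [pow_succ, pow_two, Equiv.Perm.mul_apply, Equiv.Perm.mul_apply]
      rw [← this, h3]
    have f00 : f (0, 0) = x0 := by simp [f]
    have f01 : f (0, 1) = c x0 := by simp [f]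
    have f02 : f (0, 2) = c (c x0) := by simp [f, p2]
    have f10 : f (1, 0) = σ x0 := by simp [f]
    have f11 : f (1, 1) = σ (c x0) := by simp [f]
    have f12 : f (1, 2) = σ (c (c x0)) := by simp [f, p2]
    set S : Finset Ω := Finset.univ.image f with hS
    have hScard : S.card = 6 := by
      rw [hS, Finset.card_image_of_injective _ hf]; simp
    have hmem : ∀ z, z ∈ S ↔ ∃ p, f p = z := by
      intro z; simp [hS]
    have hclosed : ∀ z ∈ S, σ z ∈ S ∧ σ' z ∈ S := by
      intro z hz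
      obtain ⟨⟨ε, i⟩, rfl⟩ := (hmem z).mp hz
      fin_cases ε <;> fin_cases i
      · refine ⟨(hmem _).mpr ⟨(1, 0), ?_⟩, (hmem _).mpr ⟨(1, 2), ?_⟩⟩
        · show f (1, 0) = σ (f (0, 0)); rw [f10, f00]
        · show f (1, 2) = σ' (f (0, 0)); rw [f12, f00]
          conv_rhs => rw [← p3]
          rw [e1]
      · refine ⟨(hmem _).mpr ⟨(1, 1), ?_⟩, (hmem _).mpr ⟨(1, 0), ?_⟩⟩
        · show f (1, 1) = σ (f (0, 1)); rw [f11, f01]
        · show f (1, 0) = σ' (f (0, 1)); rw [f10, f01, e1]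
      · refine ⟨(hmem _).mpr ⟨(1, 2), ?_⟩, (hmem _).mpr ⟨(1, 1), ?_⟩⟩
        · show f (1, 2) = σ (f (0, 2)); rw [f12, f02]
        · show f (1, 1) = σ' (f (0, 2)); rw [f11, f02, e1]
      · refine ⟨(hmem _).mpr ⟨(0, 0), ?_⟩, (hmem _).mpr ⟨(0, 1), ?_⟩⟩
        · show f (0, 0) = σ (f (1, 0)); rw [f10, f00, hσ]
        · show f (0, 1) = σ' (f (1, 0)); rw [f10, f01, e2]
      · refine ⟨(hmem _).mpr ⟨(0, 1), ?_⟩, (hmem _).mpr ⟨(0, 2), ?_⟩⟩
        · show f (0, 1) = σ (f (1, 1)); rw [f11, f01, hσ]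
        · show f (0, 2) = σ' (f (1, 1)); rw [f11, f02, e2]
      · refine ⟨(hmem _).mpr ⟨(0, 2), ?_⟩, (hmem _).mpr ⟨(0, 0), ?_⟩⟩
        · show f (0, 2) = σ (f (1, 2)); rw [f12, f02, hσ]
        · show f (0, 0) = σ' (f (1, 2)); rw [f12, f00, e2, p3]
    have hcompl : Sᶜ.card = 2 := by
      rw [Finset.card_compl, hScard, hcard]
    obtain ⟨y, hy⟩ : Sᶜ.Nonempty := by
      rw [← Finset.card_pos, hcompl]; norm_num
    rw [Finset.mem_compl] at hy
    have hy1 : σ y ∉ S := by
      intro h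
      have := (hclosed _ h).1
      rw [hσ] at this
      exact hy this
    have hy2 : σ' y ∉ S := by
      intro h
      have := (hclosed _ h).2
      rw [hσ'] at this
      exact hy this
    have hsub : ({y, σ y, σ' y} : Finset Ω) ⊆ Sᶜ := by
      intro z hz
      simp only [Finset.mem_insert, Finset.mem_singleton] at hz
      rw [Finset.mem_compl]
      rcases hz with rfl | rfl | rfl
      · exact hy
      · exact hy1
      · exact hy2
    have hle := Finset.card_le_card hsub
    rw [hcompl] at hle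
    have h3c : ({y, σ y, σ' y} : Finset Ω).card = 3 := by
      rw [Finset.card_insert_of_notMem, Finset.card_insert_of_notMem, Finset.card_singleton]
      · simp only [Finset.mem_singleton]
        exact (hB y).symm
      · simp only [Finset.mem_insert, Finset.mem_singleton, not_or]
        exact ⟨(hfpf y).symm, (hfpf' y).symm⟩
    omega
  · -- four distinct points
    have hk : ∀ k, 1 ≤ k → k < 4 → (c ^ k) x0 ≠ x0 := by
      intro k h1 h4
      interval_cases k
      · exact hc1 x0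
      · exact hx0
      · exact h3
    let f : Fin 2 × Fin 4 → Ω := fun p => if p.1 = 0 then (c ^ (p.2 : ℕ)) x0 else σ ((c ^ (p.2 : ℕ)) x0)
    have hf : Function.Injective f := by
      rintro ⟨ε, i⟩ ⟨ε', j⟩ h
      have hpow : ∀ i j : Fin 4, (c ^ (i : ℕ)) x0 = (c ^ (j : ℕ)) x0 → i = j := by
        intro i j e
        by_contra hne
        rcases lt_or_gt_of_ne (fun h => hne (Fin.ext h) : (i : ℕ) ≠ j) with hlt | hlt
        · exact pow_ne_of_lt c x0 4 hk i j hlt j.isLt e
        · exact pow_ne_of_lt c x0 4 hk j i hlt i.isLt e.symm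
      fin_cases ε <;> fin_cases ε'
      · simp only [f] at h
        simp at h
        rw [hpow i j h]
      · exfalso
        simp only [f] at h
        simp at h
        exact hR _ _ _ h.symm
      · exfalso
        simp only [f] at h
        simp at h
        exact hR _ _ _ h
      · simp only [f] at h
        simp at h
        rw [hpow i j h]
    have hbij : Function.Bijective f := by
      rw [Fintype.bijective_iff_injective_and_card]
      refine ⟨hf, ?_⟩
      rw [hcard]; simp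
    have hsurj := hbij.2
    -- c^4 x0 = x0
    have h4 : (c ^ 4) x0 = x0 := by
      obtain ⟨⟨ε, i⟩, hp⟩ := hsurj ((c ^ 4) x0)
      fin_cases ε
      · simp only [f] at hp
        simp at hp
        by_contra hne
        have hi : (i : ℕ) ≠ 0 := by
          intro h0
          rw [h0, pow_zero] at hp
          exact hne hp.symm
        have : (c ^ (i : ℕ)) x0 ≠ (c ^ 4) x0 := by
          intro e
          have h4' : c ^ 4 = c ^ (i : ℕ) * c ^ (4 - (i : ℕ)) := by
            rw [← pow_add]; congr 1; omega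
          rw [h4', Equiv.Perm.mul_apply] at e
          have := (c ^ (i : ℕ)).injective e
          exact hk (4 - i) (by omega) (by omega) this.symm
        exact this hp
      · exfalso
        simp only [f] at hp
        simp at hp
        exact hR _ _ _ hp
    constructor
    · intro y
      obtain ⟨⟨ε, i⟩, rfl⟩ := hsurj y
      have hcomm : (c ^ 4) ((c ^ (i : ℕ)) x0) = (c ^ (i : ℕ)) x0 := by
        rw [← Equiv.Perm.mul_apply, ← pow_add, add_comm, pow_add, Equiv.Perm.mul_apply, h4]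
      fin_cases ε
      · simp only [f]; simp; exact hcomm
      · simp only [f]; simp
        rw [hc, conj_pow_apply σ σ' hσ 4, pow_fix_of_pow_fix σ σ' hσ hσ' 4 _ hcomm]
    · intro y
      obtain ⟨⟨ε, i⟩, rfl⟩ := hsurj y
      have hne : (c ^ 2) ((c ^ (i : ℕ)) x0) ≠ (c ^ (i : ℕ)) x0 := by
        rw [← Equiv.Perm.mul_apply, ← pow_add, add_comm, pow_add, Equiv.Perm.mul_apply]
        intro e
        exact hx0 ((c ^ (i : ℕ)).injective e)
      fin_cases ε
      · simp only [f]; simp; exact hne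
      · simp only [f]; simp
        intro e
        rw [hc, conj_pow_apply σ σ' hσ 2] at e
        have e' := σ.injective e
        apply hne
        have := pow_fix_of_pow_fix σ' σ hσ' hσ 2 _ e'
        exact this

end dihedral


section two
variable {Ω : Type*} [Fintype Ω] [DecidableEq Ω]

theorem two_trees (hcard : Fintype.card Ω = 8) {m m' : Ω → Fin 4} {q q' : Ω → Fin 2}
    {σ σ' : Equiv.Perm Ω} (T : Tree m q σ) (T' : Tree m' q' σ') :
    ∃ g : Equiv.Perm Ω, g ≠ 1 ∧ g ∈ treeGroup m q ∧ g ∈ treeGroup m' q' := by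
  have hne : Nonempty Ω := by
    rw [← Fintype.card_pos_iff, hcard]; norm_num
  obtain ⟨z0⟩ := hne
  have hσ := T.invol
  have hσ' := T'.invol
  have hfpf := T.fpf
  have hfpf' := T'.fpf
  by_cases hA : ∃ a, σ' a = σ a
  · obtain ⟨a, ha⟩ := hA
    refine ⟨Equiv.swap a (σ a), ?_, tree_swap_mem T a, ?_⟩
    · rw [Ne, Equiv.swap_eq_one_iff]
      exact (hfpf a).symm
    · rw [← ha]; exact tree_swap_mem T' a
  · push Not at hA
    set c := σ' * σ with hc
    have capp : ∀ x, c x = σ' (σ x) := fun x => rfl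
    by_cases hB1 : ∀ x, c (c x) = x
    · -- c is the witness
      have k1 : ∀ x, σ (σ' (σ x)) = σ' x := by
        intro x
        have := hB1 x
        rw [capp, capp] at this
        have h2 := congrArg σ' this
        rw [hσ'] at h2
        exact h2
      have comm1 : ∀ x, c (σ x) = σ (c x) := by
        intro x
        rw [capp, capp, hσ, k1]
      have comm2 : ∀ x, c (σ' x) = σ' (c x) := by
        intro x
        rw [capp, capp, hσ']
        have := hB1 (σ x)
        rw [capp, capp, hσ] at this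
        exact this
      have n1 : ∀ x, c x ≠ x ∧ c x ≠ σ x := by
        intro x
        refine ⟨fun h => ?_, fun h => hfpf' (σ x) h⟩
        rw [capp] at h
        have h2 := congrArg σ' h
        rw [hσ'] at h2
        exact hA x h2.symm
      have n2 : ∀ x, c x ≠ x ∧ c x ≠ σ' x := by
        intro x
        refine ⟨(n1 x).1, fun h => ?_⟩
        rw [capp] at h
        exact hfpf x (σ'.injective h)
      refine ⟨c, ?_, ⟨comm_mem_wr_m T c comm1, lemmaQ T c comm1 hB1 n1⟩,
        ⟨comm_mem_wr_m T' c comm2, lemmaQ T' c comm2 hB1 n2⟩⟩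
      intro h1
      have := (n1 z0).1
      rw [h1] at this
      exact this rfl
    · push Not at hB1
      obtain ⟨x0, hx0⟩ := hB1
      have hx0' : (c ^ 2) x0 ≠ x0 := by
        rw [pow_two, Equiv.Perm.mul_apply]; exact hx0
      obtain ⟨h4, h2⟩ := period_four σ σ' hcard hσ hσ' hfpf hfpf' hA x0 hx0'
      set g := c ^ 2 with hg
      have ginv : ∀ x, g (g x) = x := by
        intro x
        have := h4 x
        rw [show (4 : ℕ) = 2 + 2 from rfl, pow_add, Equiv.Perm.mul_apply] at this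
        exact this
      -- d^2 = c^2 pointwise
      have hd : ∀ x, ((σ * σ') ^ 2) x = g x := by
        intro x
        rw [inv_eq σ σ' hσ hσ', inv_pow, Equiv.Perm.inv_eq_iff_eq]
        exact (ginv x).symm
      have hd' : ∀ x, ((σ * σ') ^ 2) x = ((σ' * σ) ^ 2) x := hd
      have comm1 : ∀ x, g (σ x) = σ (g x) := by
        intro x
        rw [hg, hc, conj_pow_apply σ σ' hσ 2, hd']
      have comm2 : ∀ x, g (σ' x) = σ' (g x) := by
        intro x
        have h1 := conj_pow_apply σ' σ hσ' 2 x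
        rw [hd' (σ' x)] at h1
        rw [hg, hc, h1]
      have n1 : ∀ x, g x ≠ x ∧ g x ≠ σ x := by
        intro x
        refine ⟨h2 x, fun h => ?_⟩
        have := reflR σ σ' hσ hσ' hfpf hfpf' 2 x
        apply this
        show σ (g x) = x
        rw [h, hσ]
      have n2 : ∀ x, g x ≠ x ∧ g x ≠ σ' x := by
        intro x
        refine ⟨h2 x, fun h => ?_⟩
        have := reflR σ σ' hσ hσ' hfpf hfpf' 1 x
        apply this
        have e : g x = σ' (σ ((σ' * σ) x)) := by
          rw [hg, hc, pow_two, Equiv.Perm.mul_apply]; rfl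
        rw [e] at h
        have h3 := σ'.injective h
        rw [pow_one, h3]
      refine ⟨g, ?_, ⟨comm_mem_wr_m T g comm1, lemmaQ T g comm1 ginv n1⟩,
        ⟨comm_mem_wr_m T' g comm2, lemmaQ T' g comm2 ginv n2⟩⟩
      intro h1
      have := (n1 z0).1
      rw [h1] at this
      exact this rfl

end two

section conj
variable {Ω : Type*} [Fintype Ω] [DecidableEq Ω]
section std

def m0 : Fin 8 → Fin 4 := fun i => ⟨i.val / 2, by omega⟩
def q0 : Fin 8 → Fin 2 := fun i => ⟨i.val / 4, by omega⟩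
def σ0 : Equiv.Perm (Fin 8) := Equiv.swap 0 1 * Equiv.swap 2 3 * Equiv.swap 4 5 * Equiv.swap 6 7

theorem tree0 : Tree m0 q0 σ0 where
  invol := by decide
  fpf := by decide
  m_iff := by decide
  q_sigma := by decide
  q_card := by decide

end std

theorem tree_conj {m : Ω → Fin 4} {q : Ω → Fin 2} {σ : Equiv.Perm Ω} (T : Tree m q σ)
    (y : Equiv.Perm Ω) : Tree (m ∘ ⇑y⁻¹) (q ∘ ⇑y⁻¹) (y * σ * y⁻¹) where
  invol := by
    intro x
    simp [T.invol]
  fpf := by
    intro x h
    simp only [Equiv.Perm.mul_apply] at h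
    apply T.fpf (y⁻¹ x)
    have h2 := congrArg (⇑y⁻¹) h
    simpa using h2
  m_iff := by
    intro a b
    simp only [Function.comp_apply, Equiv.Perm.mul_apply]
    rw [T.m_iff]
    constructor
    · rintro (h | h)
      · left; exact y⁻¹.injective h
      · right; rw [← h]; simp
    · rintro (h | h)
      · left; rw [h]
      · right; rw [h]; simp
  q_sigma := by
    intro x
    simp [T.q_sigma]
  q_card := by
    intro j
    rw [← T.q_card j]
    apply Finset.card_bij (fun x _ => y⁻¹ x)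
    · intro a ha
      simpa using ha
    · intro a _ b _ h
      exact y⁻¹.injective h
    · intro b hb
      refine ⟨y b, ?_, by simp⟩
      simpa using hb

theorem mem_wr_conj {b : ℕ} (f : Ω → Fin b) (y g : Equiv.Perm Ω) (hg : g ∈ wr (f ∘ ⇑y⁻¹)) :
    y⁻¹ * g * y ∈ wr f := by
  intro a c
  have := hg (y a) (y c)
  simpa using this

theorem mem_treeGroup_conj (m : Ω → Fin 4) (q : Ω → Fin 2) (y g : Equiv.Perm Ω)
    (hg : g ∈ treeGroup (m ∘ ⇑y⁻¹) (q ∘ ⇑y⁻¹)) : y⁻¹ * g * y ∈ treeGroup m q :=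
  ⟨mem_wr_conj m y g hg.1, mem_wr_conj q y g hg.2⟩


end conj
theorem fin2_a : ∀ a b c : Fin 2, a ≠ b → b ≠ c → a = c := by decide
theorem fin2_b : ∀ j a b : Fin 2, (a = j ↔ b = j) → a = b := by decide

theorem q0_sq (g : Equiv.Perm (Fin 8)) (hg : g ∈ wr q0) : ∀ x, q0 (g (g x)) = q0 x := by
  intro x
  by_cases hex : ∃ x0, q0 (g x0) = q0 x0
  · obtain ⟨x0, hx0⟩ := hex
    have key : ∀ y, q0 (g y) = q0 y := by
      intro y
      apply fin2_b (q0 x0)
      have := hg y x0
      rw [hx0] at this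
      exact this.symm
    rw [key, key]
  · push Not at hex
    exact fin2_a _ _ _ (hex (g x)) (hex x)

theorem m0_q0 (y : Fin 8) : (m0 y).val / 2 = (q0 y).val := by
  simp only [m0, q0]
  omega

theorem m0_sq (h : Equiv.Perm (Fin 8)) (hm : h ∈ wr m0) (hq : ∀ x, q0 (h x) = q0 x) :
    ∀ x, m0 (h (h x)) = m0 x := by
  intro x
  by_cases hc : m0 (h x) = m0 x
  · have := (hm (h x) x).mp hc
    rw [this, hc]
  · have h1 : m0 (h (h x)) ≠ m0 (h x) := fun e => hc ((hm (h x) x).mpr e)
    have e1 := m0_q0 x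
    have e2 := m0_q0 (h x)
    have e3 := m0_q0 (h (h x))
    rw [hq] at e2
    rw [hq, hq] at e3
    have hc' : (m0 (h x)).val ≠ (m0 x).val := fun e => hc (Fin.ext e)
    have h1' : (m0 (h (h x))).val ≠ (m0 (h x)).val := fun e => h1 (Fin.ext e)
    apply Fin.ext
    omega

theorem pair_sq (k : Equiv.Perm (Fin 8)) (hk : ∀ x, m0 (k x) = m0 x) : ∀ x, k (k x) = x := by
  intro x
  by_cases hc : k x = x
  · rw [hc, hc]
  · have h1 : k (k x) ≠ k x := fun e => hc (k.injective e)
    have e1 : (k x).val / 2 = x.val / 2 := by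
      have := congrArg Fin.val (hk x)
      simpa [m0] using this
    have e2 : (k (k x)).val / 2 = (k x).val / 2 := by
      have := congrArg Fin.val (hk (k x))
      simpa [m0] using this
    have hc' : (k x).val ≠ x.val := fun e => hc (Fin.ext e)
    have h1' : (k (k x)).val ≠ (k x).val := fun e => h1 (Fin.ext e)
    apply Fin.ext
    omega

theorem pow8 (g : Equiv.Perm (Fin 8)) (hg : g ∈ treeGroup m0 q0) : g ^ 8 = 1 := by
  have h1 := q0_sq g hg.2
  have hm2 : g ^ 2 ∈ wr m0 := (wr m0).pow_mem hg.1 2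
  have h2 := m0_sq (g ^ 2) hm2 (by intro x; rw [pow_two, Equiv.Perm.mul_apply]; exact h1 x)
  have h3 := pair_sq ((g ^ 2) ^ 2) (by
    intro x
    rw [pow_two ((g ^ 2)), Equiv.Perm.mul_apply]; exact h2 x)
  ext x
  have : g ^ 8 = ((g ^ 2) ^ 2) * ((g ^ 2) ^ 2) := by
    rw [← pow_mul, ← pow_add]
  rw [this, Equiv.Perm.mul_apply, h3]
  rfl

theorem isPGroup_P0 : IsPGroup 2 ↥(treeGroup m0 q0) := by
  intro g
  refine ⟨3, ?_⟩
  apply Subtype.ext
  have := pow8 g.1 g.2
  simpa using this



/-- In the symmetric group on 8 letters any two Sylow 2-subgroups have non-trivial intersection: for a Sylow 2-subgroup H and every element x, H ∩ xHx⁻¹ ≠ 1. -/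
theorem result (H : Sylow 2 (Equiv.Perm (Fin 8))) (x : Equiv.Perm (Fin 8)) :
    (H : Subgroup (Equiv.Perm (Fin 8))) ⊓ (H : Subgroup (Equiv.Perm (Fin 8))).map (MulAut.conj x).toMonoidHom ≠ ⊥ := by
  obtain ⟨Q, hQ⟩ := IsPGroup.exists_le_sylow isPGroup_P0
  obtain ⟨y, hy⟩ := MulAction.exists_smul_eq (Equiv.Perm (Fin 8)) Q H
  have hmemH : ∀ g : Equiv.Perm (Fin 8), y⁻¹ * g * y ∈ treeGroup m0 q0 → g ∈ (H : Subgroup (Equiv.Perm (Fin 8))) := by
    intro g hg
    rw [← hy, Sylow.smul_def, Sylow.pointwise_smul_def, Subgroup.mem_pointwise_smul_iff_inv_smul_mem,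
      MulAut.smul_def, ← map_inv, MulAut.conj_apply]
    have := hQ hg
    simpa using this
  have hcard : Fintype.card (Fin 8) = 8 := by simp
  obtain ⟨g, hg1, hg2, hg3⟩ := two_trees hcard (tree_conj tree0 y) (tree_conj tree0 (x * y))
  have h1 : g ∈ (H : Subgroup (Equiv.Perm (Fin 8))) := hmemH g (mem_treeGroup_conj m0 q0 y g hg2)
  have h2 : x⁻¹ * g * x ∈ (H : Subgroup (Equiv.Perm (Fin 8))) := by
    apply hmemH
    have := mem_treeGroup_conj m0 q0 (x * y) g hg3
    have e : y⁻¹ * (x⁻¹ * g * x) * y = (x * y)⁻¹ * g * (x * y) := by group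
    rw [e]; exact this
  intro hbot
  have hmem : g ∈ (H : Subgroup (Equiv.Perm (Fin 8))) ⊓ (H : Subgroup (Equiv.Perm (Fin 8))).map (MulAut.conj x).toMonoidHom := by
    refine ⟨h1, ⟨x⁻¹ * g * x, h2, ?_⟩⟩
    simp [MulAut.conj_apply]
    group
  rw [hbot, Subgroup.mem_bot] at hmem
  exact hg1 hmem

end Cfsg.Agent.S5763
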