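import Cfsg.Statements.S5876
import Cfsg.Agent.Lib.Helper1.ASGCLIF3

set_option autoImplicit false
set_option linter.unusedVariables false
set_option linter.unusedSectionVars false
open Cfsg

namespace Cfsg.Agent.S5876

open Cfsg.Geo Cfsg.Agent.Lib.Helper27.ASC
open scoped MatrixGroups Matrix

variable {n : ℕ} {F : Type*} [Field F]

/-- the fixed space of an invertible matrix -/
def fx (g : GL (Fin n) F) : Submodule F (Fin n → F) :=
  Module.End.eigenspace (Matrix.toLin' (g : Matrix (Fin n) (Fin n) F)) 1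

theorem mem_fx (g : GL (Fin n) F) (v : Fin n → F) :
    v ∈ fx g ↔ (g : Matrix (Fin n) (Fin n) F) *ᵥ v = v := by
  unfold fx
  rw [Module.End.mem_eigenspace_iff, Matrix.toLin'_apply, one_smul]

theorem mv_mul (a b : GL (Fin n) F) (v : Fin n → F) :
    ((a * b : GL (Fin n) F) : Matrix (Fin n) (Fin n) F) *ᵥ v =
      (a : Matrix (Fin n) (Fin n) F) *ᵥ ((b : Matrix (Fin n) (Fin n) F) *ᵥ v) := by
  rw [Units.val_mul, Matrix.mulVec_mulVec]

theorem mv_inv_self (a : GL (Fin n) F) (v : Fin n → F) :
    ((a⁻¹ : GL (Fin n) F) : Matrix (Fin n) (Fin n) F) *ᵥ ((a : Matrix (Fin n) (Fin n) F) *ᵥ v) = v := by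
  rw [← mv_mul, inv_mul_cancel, Units.val_one, Matrix.one_mulVec]

theorem mv_self_inv (a : GL (Fin n) F) (v : Fin n → F) :
    (a : Matrix (Fin n) (Fin n) F) *ᵥ (((a⁻¹ : GL (Fin n) F) : Matrix (Fin n) (Fin n) F) *ᵥ v) = v := by
  rw [← mv_mul, mul_inv_cancel, Units.val_one, Matrix.one_mulVec]

/-- the linear equivalence given by an invertible matrix -/
def leq (x : GL (Fin n) F) : (Fin n → F) ≃ₗ[F] (Fin n → F) :=
  Matrix.toLin'OfInv (M := ((x⁻¹ : GL (Fin n) F) : Matrix (Fin n) (Fin n) F))
    (M' := (x : Matrix (Fin n) (Fin n) F))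
    (by rw [← Units.val_mul, inv_mul_cancel, Units.val_one])
    (by rw [← Units.val_mul, mul_inv_cancel, Units.val_one])

theorem leq_apply (x : GL (Fin n) F) (v : Fin n → F) :
    leq x v = (x : Matrix (Fin n) (Fin n) F) *ᵥ v := by
  unfold leq
  simp [Matrix.toLin'OfInv]

/-- the preimage of a subspace under an invertible matrix has the same dimension -/
theorem finrank_comap (x : GL (Fin n) F) (W : Submodule F (Fin n → F)) :
    Module.finrank F (W.comap (leq x : (Fin n → F) →ₗ[F] (Fin n → F))) = Module.finrank F W := by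
  have h : W.comap (leq x : (Fin n → F) →ₗ[F] (Fin n → F)) =
      W.map ((leq x).symm : (Fin n → F) →ₗ[F] (Fin n → F)) :=
    Submodule.comap_equiv_eq_map_symm (leq x) W
  rw [h]
  exact LinearEquiv.finrank_map_eq (leq x).symm W

theorem finrank_le_n (W : Submodule F (Fin n → F)) : Module.finrank F W ≤ n := by
  have := Submodule.finrank_le W
  rwa [Module.finrank_fin_fun] at this

/-- key inequality 1 -/
theorem key1 (g x : GL (Fin n) F) :
    2 * Module.finrank F (fx g) ≤ n + Module.finrank F (fx (x⁻¹ * g * x * g⁻¹)) := by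
  set W := fx g with hW
  set W' := W.comap (leq x : (Fin n → F) →ₗ[F] (Fin n → F)) with hW'
  have hle : W ⊓ W' ≤ fx (x⁻¹ * g * x * g⁻¹) := by
    intro w hw
    obtain ⟨h1, h2⟩ := Submodule.mem_inf.mp hw
    rw [hW', Submodule.mem_comap] at h2
    have h2' : (x : Matrix (Fin n) (Fin n) F) *ᵥ w ∈ fx g := by
      have := h2
      rwa [LinearEquiv.coe_coe, leq_apply] at this
    rw [hW, mem_fx] at h1
    rw [mem_fx] at h2'
    rw [mem_fx, mv_mul, mv_mul, mv_mul]
    have h3 : ((g⁻¹ : GL (Fin n) F) : Matrix (Fin n) (Fin n) F) *ᵥ w = w := by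
      conv_lhs => rw [← h1]
      exact mv_inv_self g w
    rw [h3, h2', mv_inv_self]
  have h1 := Submodule.finrank_sup_add_finrank_inf_eq W W'
  have h2 : Module.finrank F W' = Module.finrank F W := finrank_comap x W
  have h3 : Module.finrank F ↥(W ⊔ W') ≤ n := finrank_le_n _
  have h4 : Module.finrank F ↥(W ⊓ W') ≤ Module.finrank F (fx (x⁻¹ * g * x * g⁻¹)) :=
    Submodule.finrank_mono hle
  omega

/-- key inequality 2 -/
theorem key2 (y v : GL (Fin n) F) (hz : fx (v * y * v⁻¹ * y⁻¹) = ⊥) :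
    2 * Module.finrank F (fx y) ≤ n := by
  set W := fx y with hW
  set W' := W.comap (leq v : (Fin n → F) →ₗ[F] (Fin n → F)) with hW'
  have hbot : W ⊓ W' = ⊥ := by
    rw [eq_bot_iff]
    intro w hw
    obtain ⟨h1, h2⟩ := Submodule.mem_inf.mp hw
    rw [hW', Submodule.mem_comap] at h2
    have h2' : (v : Matrix (Fin n) (Fin n) F) *ᵥ w ∈ fx y := by
      have := h2
      rwa [LinearEquiv.coe_coe, leq_apply] at this
    rw [hW, mem_fx] at h1
    rw [mem_fx] at h2'
    -- ζ (v w) = v w
    have h3 : (v : Matrix (Fin n) (Fin n) F) *ᵥ w ∈ fx (v * y * v⁻¹ * y⁻¹) := by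
      rw [mem_fx, mv_mul, mv_mul, mv_mul]
      have h4 : ((y⁻¹ : GL (Fin n) F) : Matrix (Fin n) (Fin n) F) *ᵥ
          ((v : Matrix (Fin n) (Fin n) F) *ᵥ w) = (v : Matrix (Fin n) (Fin n) F) *ᵥ w := by
        conv_lhs => rw [← h2']
        exact mv_inv_self y _
      rw [h4, mv_inv_self, h1]
    rw [hz, Submodule.mem_bot] at h3
    have h5 := congrArg (fun u => ((v⁻¹ : GL (Fin n) F) : Matrix (Fin n) (Fin n) F) *ᵥ u) h3
    simp only [mv_inv_self, Matrix.mulVec_zero] at h5
    rw [Submodule.mem_bot]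
    exact h5
  have h1 := Submodule.finrank_sup_add_finrank_inf_eq W W'
  have h2 : Module.finrank F W' = Module.finrank F W := finrank_comap v W
  have h3 : Module.finrank F ↥(W ⊔ W') ≤ n := finrank_le_n _
  rw [hbot, finrank_bot] at h1
  omega

variable [Fintype F]

/-- a non-identity element of an abelian normal subgroup of a primitive irreducible group has no fixed vector -/
theorem fpf (hn : 0 < n) (G : Subgroup (GL (Fin n) F)) (hirr : ActsIrreducibly (matrixSet G))
    (hprim : ∀ (m t : ℕ) (D : Fin t → Submodule F (Fin n → F)), 2 ≤ t → IsMDecomposition m D →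
      ¬ G ≤ decompositionStabilizer D)
    (A : Subgroup (GL (Fin n) F)) (hA : NormalIn A G) (hab : ∀ a ∈ A, ∀ b ∈ A, a * b = b * a)
    (a : GL (Fin n) F) (ha : a ∈ A) (ha1 : a ≠ 1) : fx a = ⊥ := by
  rcases asgclif_main hn hirr hA with ⟨t, m, D, hD, hle, -⟩ | ⟨b, hb, -⟩
  · exact absurd hle (hprim m t D hD.two_le hD)
  · have hmem : (a : Matrix (Fin n) (Fin n) F) ∈ asgZ A := by
      rw [asgclif_mem_Z]
      refine ⟨?_, ?_⟩
      · rw [Subalgebra.mem_centralizer_iff]
        rintro _ ⟨b', hb', rfl⟩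
        rw [← Units.val_mul, ← Units.val_mul, hab b' hb' a ha]
      · intro c hc
        rw [Subalgebra.mem_centralizer_iff] at hc
        exact (hc _ ⟨a, ha, rfl⟩).symm
    have hmem' : (a : Matrix (Fin n) (Fin n) F) - 1 ∈ asgZ A :=
      Subalgebra.sub_mem _ hmem (Subalgebra.one_mem _)
    have hne : (a : Matrix (Fin n) (Fin n) F) - 1 ≠ 0 := by
      intro h0
      apply ha1
      apply Units.ext
      rw [Units.val_one]
      exact sub_eq_zero.mp h0
    obtain ⟨y, hy, hy1⟩ := hb.inv _ hmem' hne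
    have hy2 : y * ((a : Matrix (Fin n) (Fin n) F) - 1) = 1 := by
      rw [← hb.comm _ hmem' _ hy]; exact hy1
    rw [eq_bot_iff]
    intro v hv
    rw [mem_fx] at hv
    have h0 : ((a : Matrix (Fin n) (Fin n) F) - 1) *ᵥ v = 0 := by
      rw [Matrix.sub_mulVec, hv, Matrix.one_mulVec, sub_self]
    have : v = (y * ((a : Matrix (Fin n) (Fin n) F) - 1)) *ᵥ v := by
      rw [hy2, Matrix.one_mulVec]
    rw [← Matrix.mulVec_mulVec, h0, Matrix.mulVec_zero] at this
    rw [Submodule.mem_bot]
    exact this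

omit [Field F] [Fintype F] in
/-- `N ⊓ C(M)` is normalised by `G` when `N`, `M` are -/
theorem normalIn_inf_cent {Γ : Type*} [Group Γ] {N M G : Subgroup Γ} (hN : NormalIn N G) (hM : NormalIn M G) :
    NormalIn (N ⊓ Subgroup.centralizer (M : Set Γ)) G := by
  refine ⟨inf_le_left.trans hN.1, fun h hh c hc => ?_⟩
  obtain ⟨hc1, hc2⟩ := Subgroup.mem_inf.mp hc
  refine Subgroup.mem_inf.mpr ⟨hN.2 h hh c hc1, ?_⟩
  rw [Subgroup.mem_centralizer_iff] at hc2 ⊢
  intro m hm
  have hm' : h⁻¹ * m * h ∈ M := by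
    have := hM.2 h⁻¹ (G.inv_mem hh) m hm
    rwa [inv_inv] at this
  have h1 := hc2 _ hm'
  calc m * (h * c * h⁻¹) = h * ((h⁻¹ * m * h) * c) * h⁻¹ := by group
    _ = h * (c * (h⁻¹ * m * h)) * h⁻¹ := by rw [h1]
    _ = h * c * h⁻¹ * m := by group

omit [Field F] [Fintype F] in
theorem inf_cent_comm {Γ : Type*} [Group Γ] (N : Subgroup Γ) :
    ∀ a ∈ N ⊓ Subgroup.centralizer (N : Set Γ), ∀ b ∈ N ⊓ Subgroup.centralizer (N : Set Γ), a * b = b * a := by
  intro a ha b hb
  obtain ⟨ha1, -⟩ := Subgroup.mem_inf.mp ha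
  obtain ⟨-, hb2⟩ := Subgroup.mem_inf.mp hb
  rw [Subgroup.mem_centralizer_iff] at hb2
  exact hb2 a ha1

theorem main_aux (hn : 0 < n) (G : Subgroup (GL (Fin n) F)) (hsol : Group.IsSolvable G)
    (hirr : ActsIrreducibly (matrixSet G))
    (hprim : ∀ (m t : ℕ) (D : Fin t → Submodule F (Fin n → F)), 2 ≤ t → IsMDecomposition m D →
      ¬ G ≤ decompositionStabilizer D)
    (g : GL (Fin n) F) (hg : g ∈ G) (hg1 : g ≠ 1) :
    4 * Module.finrank F (fx g) ≤ 3 * n := by
  classical
  have hGG : NormalIn G G := ⟨le_rfl, fun h hh x hx => G.mul_mem (G.mul_mem hh hx) (G.inv_mem hh)⟩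
  by_cases hcen : ∀ x ∈ G, g * x = x * g
  · -- `g` is central
    have hA := normalIn_inf_cent hGG hGG
    have hgA : g ∈ G ⊓ Subgroup.centralizer (G : Set (GL (Fin n) F)) := by
      refine Subgroup.mem_inf.mpr ⟨hg, ?_⟩
      rw [Subgroup.mem_centralizer_iff]
      intro x hx
      exact (hcen x hx).symm
    have h0 := fpf hn G hirr hprim _ hA (inf_cent_comm G) g hgA hg1
    rw [h0, finrank_bot]
    omega
  · push Not at hcen
    let P : Subgroup (GL (Fin n) F) → Prop := fun N => NormalIn N G ∧ ∃ x ∈ N, g * x ≠ x * g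
    have hPG : P G := ⟨hGG, hcen⟩
    obtain ⟨N, hPN, hmin⟩ := WellFounded.has_min
      (measure (fun N : Subgroup (GL (Fin n) F) => Nat.card N)).wf {N | P N} ⟨G, hPG⟩
    obtain ⟨hN, x, hxN, hxg⟩ := hPN
    -- proper `G`-normal subgroups of `N` are centralised by `g`
    have hsub : ∀ N' : Subgroup (GL (Fin n) F), NormalIn N' G → N' ≤ N → N' ≠ N →
        ∀ z ∈ N', g * z = z * g := by
      intro N' hN' hle hne
      by_contra hcon
      push Not at hcon
      have hP' : P N' := ⟨hN', hcon⟩
      have h1 := hmin N' hP'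
      have h2 : Nat.card N ≤ Nat.card N' := by
        by_contra h3
        exact h1 (not_le.mp h3)
      exact hne (Subgroup.eq_of_le_of_card_ge hle h2)
    -- the largest `G`-normal subgroup of `N` centralised by `g`
    set M : Subgroup (GL (Fin n) F) :=
      N ⊓ Subgroup.centralizer {c | ∃ h ∈ G, c = h * g * h⁻¹} with hMdef
    have hmemM : ∀ m, m ∈ M ↔ m ∈ N ∧ ∀ h ∈ G, h * g * h⁻¹ * m = m * (h * g * h⁻¹) := by
      intro m
      rw [hMdef, Subgroup.mem_inf, Subgroup.mem_centralizer_iff]
      constructor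
      · rintro ⟨h1, h2⟩
        exact ⟨h1, fun h hh => h2 _ ⟨h, hh, rfl⟩⟩
      · rintro ⟨h1, h2⟩
        refine ⟨h1, ?_⟩
        rintro _ ⟨h, hh, rfl⟩
        exact h2 h hh
    have hMN : M ≤ N := inf_le_left
    have hMnorm : NormalIn M G := by
      refine ⟨hMN.trans hN.1, fun k hk m hm => ?_⟩
      obtain ⟨hm1, hm2⟩ := (hmemM m).mp hm
      refine (hmemM _).mpr ⟨hN.2 k hk m hm1, fun h hh => ?_⟩
      have h1 := hm2 (k⁻¹ * h) (G.mul_mem (G.inv_mem hk) hh)
      calc h * g * h⁻¹ * (k * m * k⁻¹) = k * ((k⁻¹ * h) * g * (k⁻¹ * h)⁻¹ * m) * k⁻¹ := by group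
        _ = k * (m * ((k⁻¹ * h) * g * (k⁻¹ * h)⁻¹)) * k⁻¹ := by rw [h1]
        _ = k * m * k⁻¹ * (h * g * h⁻¹) := by group
    have hMg : ∀ m ∈ M, g * m = m * g := by
      intro m hm
      have := ((hmemM m).mp hm).2 1 G.one_mem
      simpa using this
    have hMmax : ∀ N' : Subgroup (GL (Fin n) F), NormalIn N' G → N' ≤ N → N' ≠ N → N' ≤ M := by
      intro N' hN' hle hne m hm
      refine (hmemM m).mpr ⟨hle hm, fun h hh => ?_⟩
      have hm' : h⁻¹ * m * h ∈ N' := by
        have := hN'.2 h⁻¹ (G.inv_mem hh) m hm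
        rwa [inv_inv] at this
      have hc := hsub N' hN' hle hne _ hm'
      calc h * g * h⁻¹ * m = h * (g * (h⁻¹ * m * h)) * h⁻¹ := by group
        _ = h * ((h⁻¹ * m * h) * g) * h⁻¹ := by rw [hc]
        _ = m * (h * g * h⁻¹) := by group
    -- the element `y`
    set y : GL (Fin n) F := x⁻¹ * g * x * g⁻¹ with hy
    have hyN : y ∈ N := by
      have h1 : g * x * g⁻¹ ∈ N := hN.2 g hg x hxN
      have h2 : y = x⁻¹ * (g * x * g⁻¹) := by rw [hy]; group
      rw [h2]
      exact N.mul_mem (N.inv_mem hxN) h1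
    have hy1 : y ≠ 1 := by
      intro h1
      apply hxg
      have h2 : x * y * g = x * 1 * g := by rw [h1]
      rw [hy] at h2
      calc g * x = x * (x⁻¹ * g * x * g⁻¹) * g := by group
        _ = x * 1 * g := h2
        _ = x * g := by group
    have hyM : ∀ m ∈ M, m * y = y * m := by
      intro m hm
      have h1 := hMg m hm
      have hm' : x * m * x⁻¹ ∈ M := hMnorm.2 x (hN.1 hxN) m hm
      have h2 := hMg _ hm'
      have h3 : g⁻¹ * m = m * g⁻¹ := by
        calc g⁻¹ * m = g⁻¹ * (m * g) * g⁻¹ := by group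
          _ = g⁻¹ * (g * m) * g⁻¹ := by rw [h1]
          _ = m * g⁻¹ := by group
      rw [hy]
      calc m * (x⁻¹ * g * x * g⁻¹) = x⁻¹ * ((x * m * x⁻¹) * g) * x * g⁻¹ := by group
        _ = x⁻¹ * (g * (x * m * x⁻¹)) * x * g⁻¹ := by rw [h2]
        _ = x⁻¹ * g * x * (m * g⁻¹) := by group
        _ = x⁻¹ * g * x * (g⁻¹ * m) := by rw [h3]
        _ = x⁻¹ * g * x * g⁻¹ * m := by group
    have hkey := key1 g x
    rw [← hy] at hkey
    -- the bound for `y`
    have hyb : 2 * Module.finrank F (fx y) ≤ n := by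
      have hC := normalIn_inf_cent hN hMnorm
      have hyC : y ∈ N ⊓ Subgroup.centralizer (M : Set (GL (Fin n) F)) := by
        refine Subgroup.mem_inf.mpr ⟨hyN, ?_⟩
        rw [Subgroup.mem_centralizer_iff]
        exact hyM
      by_cases hCN : N ⊓ Subgroup.centralizer (M : Set (GL (Fin n) F)) = N
      · -- `N` centralises `M`
        have hNM : ∀ a ∈ N, ∀ m ∈ M, m * a = a * m := by
          intro a ha m hm
          rw [← hCN] at ha
          have := (Subgroup.mem_inf.mp ha).2
          rw [Subgroup.mem_centralizer_iff] at this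
          exact this m hm
        have hMab : ∀ a ∈ M, ∀ b ∈ M, a * b = b * a := fun a ha b hb => hNM b (hMN hb) a ha
        by_cases hyc : ∀ v ∈ N, v * y = y * v
        · have hA := normalIn_inf_cent hN hN
          have hyA : y ∈ N ⊓ Subgroup.centralizer (N : Set (GL (Fin n) F)) := by
            refine Subgroup.mem_inf.mpr ⟨hyN, ?_⟩
            rw [Subgroup.mem_centralizer_iff]
            exact hyc
          have h0 := fpf hn G hirr hprim _ hA (inf_cent_comm N) y hyA hy1
          rw [h0, finrank_bot]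
          omega
        · push Not at hyc
          obtain ⟨v, hvN, hvy⟩ := hyc
          have hK : NormalIn ⁅N, N⁆ G := commutator_normalIn hN
          have hKne : ⁅N, N⁆ ≠ N := by
            intro hKN
            have hsolN : Group.IsSolvable N :=
              Group.isSolvable_of_isSolvable_injective (f := Subgroup.inclusion hN.1) (Subgroup.inclusion_injective _)
            have hntN : Nontrivial N := ⟨⟨⟨y, hyN⟩, 1, fun h => hy1 (congrArg Subtype.val h)⟩⟩
            have h1 := Group.IsSolvable.commutator_lt_top_of_nontrivial N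
            have h2 := Subgroup.map_subtype_commutator N
            rw [hKN] at h2
            have h3 : (commutator N) = ⊤ := by
              apply Subgroup.map_injective N.subtype_injective
              rw [h2, ← MonoidHom.range_eq_map, Subgroup.range_subtype]
            exact (ne_of_lt h1) h3
          have hKM : ⁅N, N⁆ ≤ M := hMmax _ hK (Subgroup.commutator_le_self N) hKne
          have hzM : v * y * v⁻¹ * y⁻¹ ∈ M := by
            apply hKM
            have := Subgroup.commutator_mem_commutator hvN hyN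
            rwa [commutatorElement_def] at this
          have hz1 : v * y * v⁻¹ * y⁻¹ ≠ 1 := by
            intro h1
            apply hvy
            calc v * y = (v * y * v⁻¹ * y⁻¹) * y * v := by group
              _ = 1 * y * v := by rw [h1]
              _ = y * v := by group
          have h0 := fpf hn G hirr hprim M hMnorm hMab _ hzM hz1
          exact key2 y v h0
      · -- `C_N(M) ≤ M`
        have hCM := hMmax _ hC inf_le_left hCN
        have hyM' : y ∈ M := hCM hyC
        have hA := normalIn_inf_cent hMnorm hMnorm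
        have hyA : y ∈ M ⊓ Subgroup.centralizer (M : Set (GL (Fin n) F)) := by
          refine Subgroup.mem_inf.mpr ⟨hyM', ?_⟩
          rw [Subgroup.mem_centralizer_iff]
          exact hyM
        have h0 := fpf hn G hirr hprim _ hA (inf_cent_comm M) y hyA hy1
        rw [h0, finrank_bot]
        omega
    omega

/-- Fixed-point spaces in primitive soluble linear groups. Let F be a finite field and G a soluble subgroup of GL_n(F) that acts irreducibly on F^n and primitively (G preserves no decomposition of F^n into two or more independent subspaces of equal dimension). Then every non-identity element g of G has fixed-point space {v : g v = v} of dimension at most 3n/4. -/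
theorem result {F : Type*} [Field F] [Fintype F] {n : ℕ} (G : Subgroup (Matrix.GeneralLinearGroup (Fin n) F)) (hsol : IsSolvable G) (hirr : Cfsg.Geo.ActsIrreducibly (Cfsg.Geo.matrixSet G)) (hprim : ∀ (m t : ℕ) (D : Fin t → Submodule F (Fin n → F)), 2 ≤ t → Cfsg.Geo.IsMDecomposition m D → ¬ G ≤ Cfsg.Geo.decompositionStabilizer D) (g : Matrix.GeneralLinearGroup (Fin n) F) (hg : g ∈ G) (hg1 : g ≠ 1) :
    4 * Module.finrank F (Module.End.eigenspace (Matrix.toLin' (g : Matrix (Fin n) (Fin n) F)) 1) ≤ 3 * n := by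
  rcases Nat.eq_zero_or_pos n with h0 | hn
  · subst h0
    have := finrank_le_n (Module.End.eigenspace (Matrix.toLin' (g : Matrix (Fin 0) (Fin 0) F)) 1)
    omega
  · exact main_aux hn G hsol hirr hprim g hg hg1

end Cfsg.Agent.S5876
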