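import Cfsg.Statements.S5877
import Cfsg.Agent.Lib.Helper13.EIG.Main

set_option autoImplicit false
open Cfsg

namespace Cfsg.Agent.S5877

open Cfsg.Agent.Lib.Helper13.EIG

/-- Eigenspaces of elements normalising an absolutely irreducible extraspecial group. Let F be a finite field, r a prime, and R ≤ GL_n(F) an absolutely irreducible extraspecial r-group (an r-group whose centre equals its derived subgroup and has order r) of exponent r or 4. Let g ∈ GL_n(F) normalise the product of R with the scalar matrices, have prime order ϖ and not be scalar, and let W be the eigenspace of g for any c ∈ F (W may be the zero subspace). Then dim W ≤ 3n/4 if ϖ = 2, dim W ≤ 2n/3 if ϖ = 3, and dim W ≤ n/2 if ϖ > 3; moreover if ϖ = 3 and 3 does not divide n then dim W ≤ n/2. -/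
theorem result {F : Type*} [Field F] [Fintype F] {n r ϖ : ℕ} (R : Subgroup (Matrix.GeneralLinearGroup (Fin n) F)) (hr : r.Prime) (hR : IsPGroup r R) (hZ : Nat.card (Subgroup.center R) = r) (hext : commutator R = Subgroup.center R) (hexp : Monoid.exponent R = r ∨ Monoid.exponent R = 4) (hirr : Cfsg.Geo.ActsAbsolutelyIrreducibly (Cfsg.Geo.matrixSet R)) (g : Matrix.GeneralLinearGroup (Fin n) F) (hg : g ∈ Cfsg.Geo.subgroupNormalizer (R ⊔ Cfsg.Geo.scalars (Fin n) F)) (hϖ : ϖ.Prime) (hord : orderOf g = ϖ) (hns : g ∉ Cfsg.Geo.scalars (Fin n) F) (c : F) :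
    (ϖ = 2 → 4 * Module.finrank F (Module.End.eigenspace (Matrix.toLin' (g : Matrix (Fin n) (Fin n) F)) c) ≤ 3 * n) ∧
    (ϖ = 3 → 3 * Module.finrank F (Module.End.eigenspace (Matrix.toLin' (g : Matrix (Fin n) (Fin n) F)) c) ≤ 2 * n) ∧
    (3 < ϖ → 2 * Module.finrank F (Module.End.eigenspace (Matrix.toLin' (g : Matrix (Fin n) (Fin n) F)) c) ≤ n) ∧
    (ϖ = 3 → ¬ 3 ∣ n → 2 * Module.finrank F (Module.End.eigenspace (Matrix.toLin' (g : Matrix (Fin n) (Fin n) F)) c) ≤ n) := by
  have H := hyp_of_extraspecial R hr hZ hext hirr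
  have hpow : g ^ ϖ = 1 := by rw [← hord]; exact pow_orderOf_eq_one g
  have hr2 : 2 ≤ r := hr.two_le
  have hl1 := l1_bound H hg hns c
  have hdvd : r ∣ n := r_dvd H
  have hF : Odd ϖ → ϖ ≠ r → 2 * Module.finrank F (Eig g c) ≤ n := fun ho hne =>
    odd_bound H hg hns ho hpow ((Nat.coprime_primes hϖ hr).2 hne) c
  have hG : ϖ = r → r ≠ 2 → 2 * Module.finrank F (Eig g c) ≤ n ∨
      r * Module.finrank F (Eig g c) ≤ 2 * n := fun he h2 =>
    eq_bound H hg hns (he ▸ hpow) h2 c
  change (ϖ = 2 → 4 * Module.finrank F (Eig g c) ≤ 3 * n) ∧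
    (ϖ = 3 → 3 * Module.finrank F (Eig g c) ≤ 2 * n) ∧
    (3 < ϖ → 2 * Module.finrank F (Eig g c) ≤ n) ∧
    (ϖ = 3 → ¬ 3 ∣ n → 2 * Module.finrank F (Eig g c) ≤ n)
  generalize Module.finrank F (Eig g c) = w at *
  have hodd_of : ϖ ≠ 2 → Odd ϖ := fun h => hϖ.odd_of_ne_two h
  refine ⟨?_, ?_, ?_, ?_⟩
  · intro _
    rcases hl1 with h | h
    · omega
    · -- 2 r w ≤ (r+1) n, r ≥ 2
      have h1 : r * (4 * w) ≤ r * (3 * n) := by nlinarith
      exact Nat.le_of_mul_le_mul_left h1 hr.pos
  · intro h3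
    by_cases hr3 : r = 2
    · have := hF (hodd_of (by omega)) (by omega)
      omega
    · have hr3' : 3 ≤ r := by omega
      rcases hl1 with h | h
      · omega
      · have h1 : r * (3 * w) ≤ r * (2 * n) := by nlinarith
        exact Nat.le_of_mul_le_mul_left h1 hr.pos
  · intro h3
    by_cases he : ϖ = r
    · have hr5 : 5 ≤ r := by
        rw [← he]
        by_contra hlt
        push Not at hlt
        have h4 : ϖ = 4 := by omega
        rw [h4] at hϖ
        exact absurd hϖ (by norm_num)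
      rcases hG he (by omega) with h | h
      · exact h
      · have h1 : 5 * w ≤ 2 * n := le_trans (Nat.mul_le_mul_right w hr5) h
        omega
    · exact hF (hodd_of (by omega)) he
  · intro h3 hn3
    apply hF (hodd_of (by omega))
    intro he
    apply hn3
    rw [h3] at he
    rw [he]
    exact hdvd

end Cfsg.Agent.S5877
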