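import Cfsg.Statements.S5885
import Mathlib

set_option autoImplicit false
open Cfsg

namespace Cfsg.Agent.S5885

section helpers
open MulAction Equiv

/-- hand-rolled setwise stabilizer -/
def setStab (G : Type*) {Ω : Type*} [Group G] [MulAction G Ω] (Δ : Set Ω) : Subgroup G where
  carrier := {g | ∀ x, g • x ∈ Δ ↔ x ∈ Δ}
  one_mem' := by intro x; simp
  mul_mem' := by
    intro g h hg hh x
    rw [mul_smul, hg, hh]
  inv_mem' := by
    intro g hg x
    rw [← hg (g⁻¹ • x), smul_inv_smul]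

lemma mem_setStab {G Ω : Type*} [Group G] [MulAction G Ω] (Δ : Set Ω) (g : G) :
    g ∈ setStab G Δ ↔ ∀ x, g • x ∈ Δ ↔ x ∈ Δ := Iff.rfl

lemma three_cycle {G Ω : Type*} [Group G] [MulAction G Ω] [Fintype Ω] [DecidableEq Ω]
    (hAlt : ∀ σ : Perm Ω, Perm.sign σ = 1 → ∃ g : G, ∀ x, g • x = σ x)
    {x y z : Ω} (hxy : x ≠ y) (hyz : y ≠ z) (hxz : x ≠ z) :
    ∃ g : G, g • x = y ∧ g • y = z ∧ g • z = x ∧ ∀ w, w ≠ x → w ≠ y → w ≠ z → g • w = w := by
  obtain ⟨g, hg⟩ := hAlt (swap x y * swap y z) (by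
    rw [map_mul, Perm.sign_swap hxy, Perm.sign_swap hyz]; rfl)
  refine ⟨g, ?_, ?_, ?_, ?_⟩
  · rw [hg, Perm.mul_apply, swap_apply_of_ne_of_ne hxy hxz, swap_apply_left]
  · rw [hg, Perm.mul_apply, swap_apply_left, swap_apply_of_ne_of_ne hxz.symm hyz.symm]
  · rw [hg, Perm.mul_apply, swap_apply_right, swap_apply_right]
  · intro w h1 h2 h3
    rw [hg, Perm.mul_apply, swap_apply_of_ne_of_ne h2 h3, swap_apply_of_ne_of_ne h1 h2]


lemma alt_realized {G Ω : Type*} [Group G] [MulAction G Ω] [Fintype Ω] [DecidableEq Ω]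
    (n : ℕ) (hn : Fintype.card Ω = n)
    (hA : ∀ P : Subgroup (Equiv.Perm (Fin n)), MulAction.IsPreprimitive P (Fin n) →
      alternatingGroup (Fin n) ≤ P)
    [IsPreprimitive G Ω] (σ : Perm Ω) (hσ : Perm.sign σ = 1) :
    ∃ g : G, ∀ x, g • x = σ x := by
  let e : Ω ≃ Fin n := Fintype.equivFinOfCardEq hn
  let ψ : G →* Perm (Fin n) := (e.permCongrHom.toMonoidHom).comp (MulAction.toPermHom G Ω)
  have hψ : ∀ g y, ψ g y = e (g • e.symm y) := fun g y => rfl
  let P : Subgroup (Perm (Fin n)) := ψ.range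
  let φ : G → P := fun g => ⟨ψ g, ⟨g, rfl⟩⟩
  let f : Ω →ₑ[φ] Fin n :=
    { toFun := e
      map_smul' := by
        intro g x
        show e (g • x) = ψ g (e x)
        rw [hψ, e.symm_apply_apply] }
  have hprim : IsPreprimitive P (Fin n) :=
    IsPreprimitive.of_surjective (f := f) e.surjective
  have hle := hA P hprim
  have hτ : e.permCongr σ ∈ alternatingGroup (Fin n) := by
    rw [Equiv.Perm.mem_alternatingGroup, Equiv.Perm.sign_permCongr, hσ]
  obtain ⟨g, hg⟩ := hle hτ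
  refine ⟨g, fun x => ?_⟩
  have h1 := congrArg (fun τ : Perm (Fin n) => τ (e x)) hg
  simp only [hψ, e.symm_apply_apply, Equiv.permCongr_apply] at h1
  exact e.injective h1

lemma key {G Ω : Type*} [Group G] [MulAction G Ω] [Fintype Ω] [DecidableEq Ω]
    [IsPretransitive G Ω]
    (hodd : Odd (Nat.card Ω))
    (hAlt : ∀ σ : Perm Ω, Perm.sign σ = 1 → ∃ g : G, ∀ x, g • x = σ x)
    (a : Ω) (H : Subgroup G) (hHM : H ≤ stabilizer G a)
    (hmax : ∀ L : Subgroup G, H ≤ L → L ≤ stabilizer G a → L = H ∨ L = stabilizer G a)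
    (K : Subgroup G) (hK : IsCoatom K) (hHK : H ≤ K)
    (hKM : ¬ stabilizer G a ≤ K)
    (L : Subgroup G) (hHL : H ≤ L) (hLK : L ≤ K) (hLH : ¬ L ≤ H) (hLK' : ¬ K ≤ L) : False := by
  -- step 1: K ∩ M = H
  have h1 : ∀ k ∈ K, k • a = a → k ∈ H := by
    intro k hk hka
    rcases hmax (K ⊓ stabilizer G a) (le_inf hHK hHM) inf_le_right with h | h
    · rw [← h]; exact ⟨hk, hka⟩
    · exact absurd (h ▸ inf_le_left) hKM
  obtain ⟨l₀, hl₀L, hl₀H⟩ := SetLike.not_le_iff_exists.mp hLH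
  obtain ⟨k₀, hk₀K, hk₀L⟩ := SetLike.not_le_iff_exists.mp hLK'
  have hab : a ≠ l₀ • a := fun h => hl₀H (h1 l₀ (hLK hl₀L) h.symm)
  have hblock : ∀ k ∈ K, ∀ l ∈ L, ∀ l' ∈ L, k • l • a = l' • a → k ∈ L := by
    intro k hk l hl l' hl' h
    have h2 : (l'⁻¹ * k * l) • a = a := by
      rw [mul_smul, mul_smul, h, inv_smul_smul]
    have h3 := hHL (h1 _ (K.mul_mem (K.mul_mem (K.inv_mem (hLK hl')) hk) (hLK hl)) h2)
    have h4 : k = l' * (l'⁻¹ * k * l) * l⁻¹ := by group
    rw [h4]; exact L.mul_mem (L.mul_mem hl' h3) (L.inv_mem hl)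
  let B : Set Ω := {x | ∃ l ∈ L, l • a = x}
  have haB : a ∈ B := ⟨1, L.one_mem, one_smul _ _⟩
  have hbB : l₀ • a ∈ B := ⟨l₀, hl₀L, rfl⟩
  have hout : ∀ k ∈ K, k ∉ L → ∀ l ∈ L, k • l • a ∉ B := by
    rintro k hk hkL l hl ⟨l', hl', h⟩
    exact hkL (hblock k hk l hl l' hl' h.symm)
  have hcB : k₀ • a ∉ B := by
    have := hout k₀ hk₀K hk₀L 1 L.one_mem; rwa [one_smul] at this
  have hc'B : k₀ • l₀ • a ∉ B := hout k₀ hk₀K hk₀L l₀ hl₀L
  have hcc' : k₀ • a ≠ k₀ • l₀ • a := fun h => hab (MulAction.injective k₀ h)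
  have hLB : ∀ l ∈ L, ∀ x, l • x ∈ B ↔ x ∈ B := by
    intro l hl x
    constructor
    · rintro ⟨l', hl', h⟩
      exact ⟨l⁻¹ * l', L.mul_mem (L.inv_mem hl) hl', by rw [mul_smul, h, inv_smul_smul]⟩
    · rintro ⟨l', hl', h⟩
      exact ⟨l * l', L.mul_mem hl hl', by rw [mul_smul, h]⟩
  by_cases htrans : ∀ w : Ω, ∃ k ∈ K, k • a = w
  · -- Case A: K transitive
    have hidx : H.relIndex K = Nat.card Ω := by
      have : IsPretransitive K Ω := ⟨fun x y => by
        obtain ⟨k1, hk1, h1'⟩ := htrans x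
        obtain ⟨k2, hk2, h2'⟩ := htrans y
        refine ⟨⟨k2 * k1⁻¹, K.mul_mem hk2 (K.inv_mem hk1)⟩, ?_⟩
        show (k2 * k1⁻¹) • x = y
        rw [← h1', mul_smul, inv_smul_smul, h2']⟩
      have hst : stabilizer K a = H.subgroupOf K := by
        ext ⟨k, hk⟩
        simp only [mem_stabilizer_iff, Subgroup.mem_subgroupOf]
        constructor
        · intro h; exact h1 k hk h
        · intro h; exact hHM h
      rw [Subgroup.relIndex, ← hst, index_stabilizer_of_transitive]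
    have hmul := Subgroup.relIndex_mul_relIndex H L K hHL hLK
    have hoddLK : Odd (L.relIndex K) := by
      rw [hidx] at hmul
      exact (Nat.odd_mul.mp (hmul ▸ hodd)).2
    have h3 : ∃ k₁ ∈ K, k₁ ∉ L ∧ k₀⁻¹ * k₁ ∉ L := by
      by_contra hcon
      push Not at hcon
      have h2 : L.relIndex K = 2 := by
        rw [Subgroup.relIndex, Subgroup.index_eq_two_iff']
        refine ⟨⟨k₀⁻¹, K.inv_mem hk₀K⟩, fun ⟨k, hk⟩ => ?_⟩
        simp only [Subgroup.mem_subgroupOf]
        by_cases hkL : k ∈ L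
        · refine Or.inr ⟨hkL, fun h => hk₀L ?_⟩
          have h' : k₀⁻¹ * k ∈ L := h
          have h4 : k₀ = k * (k₀⁻¹ * k)⁻¹ := by group
          rw [h4]; exact L.mul_mem hkL (L.inv_mem h')
        · exact Or.inl ⟨hcon k hk hkL, hkL⟩
      rw [h2] at hoddLK; exact absurd hoddLK (by decide)
    obtain ⟨k₁, hk₁K, hk₁L, hk₁⟩ := h3
    have hdB : k₁ • a ∉ B := by
      have := hout k₁ hk₁K hk₁L 1 L.one_mem; rwa [one_smul] at this
    have hcd : k₀ • a ≠ k₁ • a := by
      intro h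
      apply hk₁
      apply hHL
      apply h1 _ (K.mul_mem (K.inv_mem hk₀K) hk₁K)
      rw [mul_smul, ← h, inv_smul_smul]
    have hc'd : k₀ • l₀ • a ≠ k₁ • a := by
      intro h
      apply hk₁
      have h5 : (l₀⁻¹ * (k₀⁻¹ * k₁)) • a = a := by
        rw [mul_smul, mul_smul, ← h, inv_smul_smul, inv_smul_smul]
      have h6 := hHL (h1 _ (K.mul_mem (K.inv_mem (hLK hl₀L))
        (K.mul_mem (K.inv_mem hk₀K) hk₁K)) h5)
      have h7 : k₀⁻¹ * k₁ = l₀ * (l₀⁻¹ * (k₀⁻¹ * k₁)) := by group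
      rw [h7]; exact L.mul_mem hl₀L h6
    have hHS : H ≤ stabilizer G a ⊓ setStab G B :=
      le_inf hHM (fun h hh => hLB h (hHL hh))
    rcases hmax (stabilizer G a ⊓ setStab G B) hHS inf_le_left with hS | hS
    · -- S' = H : 3-cycle (c c' d)
      obtain ⟨g, hg1, hg2, hg3, hg4⟩ := three_cycle hAlt hcc' hc'd hcd
      have hga : g • a = a :=
        hg4 a (fun h => hcB (h ▸ haB)) (fun h => hc'B (h ▸ haB)) (fun h => hdB (h ▸ haB))
      have hgB : g ∈ setStab G B := by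
        intro x
        by_cases hx1 : x = k₀ • a
        · rw [hx1, hg1]; exact ⟨fun h => absurd h hc'B, fun h => absurd h hcB⟩
        by_cases hx2 : x = k₀ • l₀ • a
        · rw [hx2, hg2]; exact ⟨fun h => absurd h hdB, fun h => absurd h hc'B⟩
        by_cases hx3 : x = k₁ • a
        · rw [hx3, hg3]; exact ⟨fun h => absurd h hcB, fun h => absurd h hdB⟩
        rw [hg4 x hx1 hx2 hx3]
      have hgH : g ∈ H := by
        rw [← hS]; exact ⟨hga, hgB⟩
      have hgK : g ∈ K := hHK hgH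
      -- g • c = c'
      have h5 : ((k₀ * l₀)⁻¹ * (g * k₀)) • a = a := by
        rw [mul_smul, mul_smul, hg1, ← mul_smul k₀ l₀, inv_smul_smul]
      have h6 := hHL (h1 _ (K.mul_mem (K.inv_mem (K.mul_mem hk₀K (hLK hl₀L)))
        (K.mul_mem hgK hk₀K)) h5)
      -- g • c' = d
      have h7 : (k₁⁻¹ * (g * (k₀ * l₀))) • a = a := by
        rw [mul_smul, mul_smul, mul_smul, hg2, inv_smul_smul]
      have h8 := hHL (h1 _ (K.mul_mem (K.inv_mem hk₁K)
        (K.mul_mem hgK (K.mul_mem hk₀K (hLK hl₀L)))) h7)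
      apply hk₁
      have h9 : k₀⁻¹ * k₁ = (l₀ * ((k₀ * l₀)⁻¹ * (g * k₀))) *
          ((k₁⁻¹ * (g * (k₀ * l₀))) * l₀⁻¹)⁻¹ := by group
      rw [h9]
      exact L.mul_mem (L.mul_mem hl₀L h6) (L.inv_mem (L.mul_mem h8 (L.inv_mem hl₀L)))
    · -- S' = M : 3-cycle (b c d)
      have hbc : l₀ • a ≠ k₀ • a := fun h => hcB (h ▸ hbB)
      have hbd : l₀ • a ≠ k₁ • a := fun h => hdB (h ▸ hbB)
      obtain ⟨g, hg1, hg2, hg3, hg4⟩ := three_cycle hAlt hbc hcd hbd
      have hga : g • a = a :=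
        hg4 a hab (fun h => hcB (h ▸ haB)) (fun h => hdB (h ▸ haB))
      have hgS : g ∈ stabilizer G a ⊓ setStab G B := by
        rw [hS]; exact hga
      apply hcB
      rw [← hg1]
      exact (hgS.2 _).mpr hbB
  · -- Case B: K intransitive
    push Not at htrans
    obtain ⟨w, hw⟩ := htrans
    let Δ : Set Ω := {x | ∃ k ∈ K, k • a = x}
    have hKS : K ≤ setStab G Δ := by
      intro k hk x
      constructor
      · rintro ⟨k', hk', h⟩
        exact ⟨k⁻¹ * k', K.mul_mem (K.inv_mem hk) hk', by rw [mul_smul, h, inv_smul_smul]⟩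
      · rintro ⟨k', hk', h⟩
        exact ⟨k * k', K.mul_mem hk hk', by rw [mul_smul, h]⟩
    have haΔ : a ∈ Δ := ⟨1, K.one_mem, one_smul _ _⟩
    have hSne : setStab G Δ ≠ ⊤ := by
      intro htop
      obtain ⟨g, hg⟩ := exists_smul_eq G a w
      have hgS : g ∈ setStab G Δ := htop ▸ Subgroup.mem_top g
      have h5 := (hgS a).mpr haΔ
      rw [hg] at h5
      obtain ⟨k, hk, h⟩ := h5
      exact hw k hk h
    have hSK : setStab G Δ = K := by
      rcases hK.le_iff.mp hKS with h | h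
      · exact absurd h hSne
      · exact h
    have hbc : l₀ • a ≠ k₀ • a := fun h => hcB (h ▸ hbB)
    have hbc' : l₀ • a ≠ k₀ • l₀ • a := fun h => hc'B (h ▸ hbB)
    obtain ⟨g, hg1, hg2, hg3, hg4⟩ := three_cycle hAlt hbc hcc' hbc'
    have hbΔ : l₀ • a ∈ Δ := ⟨l₀, hLK hl₀L, rfl⟩
    have hcΔ : k₀ • a ∈ Δ := ⟨k₀, hk₀K, rfl⟩
    have hc'Δ : k₀ • l₀ • a ∈ Δ := ⟨k₀ * l₀, K.mul_mem hk₀K (hLK hl₀L), mul_smul _ _ _⟩
    have hgS : g ∈ setStab G Δ := by
      intro x
      by_cases hx1 : x = l₀ • a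
      · rw [hx1, hg1]; exact ⟨fun _ => hbΔ, fun _ => hcΔ⟩
      by_cases hx2 : x = k₀ • a
      · rw [hx2, hg2]; exact ⟨fun _ => hcΔ, fun _ => hc'Δ⟩
      by_cases hx3 : x = k₀ • l₀ • a
      · rw [hx3, hg3]; exact ⟨fun _ => hc'Δ, fun _ => hbΔ⟩
      rw [hg4 x hx1 hx2 hx3]
    rw [hSK] at hgS
    have hga : g • a = a :=
      hg4 a hab (fun h => hcB (h ▸ haB)) (fun h => hc'B (h ▸ haB))
    have hgL : g ∈ L := hHL (h1 g hgS hga)
    apply hcB
    rw [← hg1]
    exact (hLB g hgL _).mpr hbB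

end helpers


/-- Let n be an odd positive integer such that every primitive permutation group of degree n contains the alternating group (so the symmetric and alternating groups are the only primitive groups of degree n). Let G be a finite group, M a maximal subgroup of G of index n, and H a maximal subgroup of M. Then H is a second maximal subgroup of G: H is maximal in every maximal subgroup K of G containing H. -/
theorem result {G : Type*} [Group G]
    [Finite G] (n : ℕ) (hodd : Odd n)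
    (hA : ∀ P : Subgroup (Equiv.Perm (Fin n)), MulAction.IsPreprimitive P (Fin n) → alternatingGroup (Fin n) ≤ P)
    (M : Subgroup G) (hM : IsCoatom M) (hn : M.index = n) (H : Subgroup G) (hHM : H ≤ M)
    (hmax : IsCoatom (H.subgroupOf M)) (K : Subgroup G) (hK : IsCoatom K) (hHK : H ≤ K) :
    IsCoatom (H.subgroupOf K) := by
  classical
  by_cases hKM : K = M
  · subst hKM; exact hmax
  have hMK : ¬ M ≤ K := by
    intro h
    rcases hM.le_iff.mp h with h' | h'
    · exact hK.1 h'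
    · exact hKM h'
  let Ω := G ⧸ M
  let _ : Fintype Ω := Fintype.ofFinite Ω
  let a : Ω := QuotientGroup.mk (1 : G)
  have hstab : MulAction.stabilizer G a = M := by
    have := MulAction.stabilizer_quotient M
    exact this
  have hcard : Nat.card Ω = n := by
    rw [← hn, Subgroup.index_eq_card]
  have hntr : Nontrivial Ω := by
    rw [← Finite.one_lt_card_iff_nontrivial, hcard]
    rcases Nat.lt_or_ge 1 n with h | h
    · exact h
    · exfalso
      have : n = 1 := by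
        rcases hodd with ⟨k, hk⟩; omega
      rw [this, Subgroup.index_eq_one] at hn
      exact hM.1 hn
  have hprim : MulAction.IsPreprimitive G Ω := by
    rw [← MulAction.isCoatom_stabilizer_iff_preprimitive G a, hstab]; exact hM
  have hAlt : ∀ σ : Equiv.Perm Ω, Equiv.Perm.sign σ = 1 → ∃ g : G, ∀ x, g • x = σ x :=
    fun σ hσ => alt_realized n (by rw [← Nat.card_eq_fintype_card]; exact hcard) hA σ hσ
  have hmax' : ∀ L : Subgroup G, H ≤ L → L ≤ MulAction.stabilizer G a →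
      L = H ∨ L = MulAction.stabilizer G a := by
    intro L hHL hLM
    rw [hstab] at hLM ⊢
    have hle : H.subgroupOf M ≤ L.subgroupOf M := fun x hx => hHL hx
    rcases hmax.le_iff.mp hle with h | h
    · right
      exact le_antisymm hLM (Subgroup.subgroupOf_eq_top.mp h)
    · left
      have := Subgroup.subgroupOf_inj.mp h
      rwa [inf_eq_left.mpr hLM, inf_eq_left.mpr hHM] at this
  constructor
  · intro h
    rcases hK.le_iff.mp ((Subgroup.subgroupOf_eq_top.mp h).trans hHM) with h' | h'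
    · exact hM.1 h'
    · exact hKM h'.symm
  · intro L' hL'
    by_contra hne
    let L : Subgroup G := L'.map K.subtype
    have hLK : L ≤ K := Subgroup.map_subtype_le L'
    have hmemL : ∀ k (hk : k ∈ K), k ∈ L ↔ (⟨k, hk⟩ : K) ∈ L' := by
      intro k hk
      constructor
      · rintro ⟨⟨k', hk'⟩, hmem, rfl⟩
        exact hmem
      · intro h
        exact ⟨⟨k, hk⟩, h, rfl⟩
    have hHL : H ≤ L := by
      intro h hh
      rw [hmemL h (hHK hh)]
      exact hL'.le (show (⟨h, hHK hh⟩ : K) ∈ H.subgroupOf K from hh)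
    have hLH : ¬ L ≤ H := by
      intro hle
      apply hL'.not_ge
      intro ⟨k, hk⟩ hkL
      exact hle ((hmemL k hk).mpr hkL)
    have hKL : ¬ K ≤ L := by
      intro hle
      apply hne
      rw [eq_top_iff]
      intro ⟨k, hk⟩ _
      exact (hmemL k hk).mp (hle hk)
    exact key (by rw [hcard]; exact hodd) hAlt a H (by rw [hstab]; exact hHM) hmax' K hK hHK
      (by rw [hstab]; exact hMK) L hHL hLK hLH hKL

end Cfsg.Agent.S5885
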