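import Cfsg.Statements.S5887

set_option autoImplicit false
open Cfsg

namespace Cfsg.Agent.S5887


open Matrix

section general

variable {F : Type*} [Field F] {n : ℕ}

noncomputable def mkU (N : Matrix (Fin n) (Fin n) F) (hN : N * N = 0) : GL (Fin n) F :=
  ⟨1 + N, 1 - N, by
    rw [add_mul, mul_sub, mul_sub, hN]; simp, by
    rw [sub_mul, mul_add, mul_add, hN]; simp⟩

lemma mkU_val (N : Matrix (Fin n) (Fin n) F) (hN : N * N = 0) :
    ((mkU N hN : GL (Fin n) F) : Matrix (Fin n) (Fin n) F) = 1 + N := rfl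

lemma mkU_inv_val (N : Matrix (Fin n) (Fin n) F) (hN : N * N = 0) :
    (((mkU N hN)⁻¹ : GL (Fin n) F) : Matrix (Fin n) (Fin n) F) = 1 - N := rfl

lemma det_one_add [Finite F] (hn : 0 < n) (N : Matrix (Fin n) (Fin n) F) (hN : N * N = 0) :
    (1 + N).det = 1 := by
  obtain ⟨p, hp⟩ := CharP.exists F
  have := hp
  have : Fact p.Prime := ⟨CharP.char_is_prime F p⟩
  have : Nonempty (Fin n) := ⟨⟨0, hn⟩⟩
  have h2 : 2 ≤ p := (Fact.out : p.Prime).two_le
  have hNp : N ^ p = 0 := pow_eq_zero_of_le h2 (by rw [pow_two, hN])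
  have h1 : (1 + N) ^ p = 1 := by
    rw [add_pow_char_of_commute p (Commute.one_left N), one_pow, hNp, add_zero]
  have h3 : ((1 + N).det) ^ p = 1 := by
    rw [← Matrix.det_pow, h1, Matrix.det_one]
  apply frobenius_inj F p
  rw [frobenius_def, frobenius_def, h3, one_pow]

lemma comm_of_conj_mem (K : Subalgebra F (Matrix (Fin n) (Fin n) F))
    (hinv : ∀ x ∈ K, x ≠ 0 → ∃ y ∈ K, x * y = 1)
    (N : Matrix (Fin n) (Fin n) F) (hN : N * N = 0) (k : Matrix (Fin n) (Fin n) F) (hk : k ∈ K)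
    (v : Fin n → F) (hv : v ≠ 0) (h1 : N *ᵥ v = 0) (h2 : N *ᵥ (k *ᵥ v) = 0)
    (hconj : (1 + N) * k * (1 - N) ∈ K) : N * k = k * N := by
  set k' := (1 + N) * k * (1 - N) with hk'
  have e1 : k' * (1 + N) = (1 + N) * k := by
    rw [hk', mul_assoc, sub_mul, mul_add, mul_add, hN]
    simp
  have e2 : k' *ᵥ v = k *ᵥ v := by
    have := congrArg (fun A : Matrix (Fin n) (Fin n) F => A *ᵥ v) e1
    simp only [← Matrix.mulVec_mulVec, Matrix.add_mulVec, Matrix.one_mulVec, h1, h2, add_zero] at this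
    exact this
  have e3 : (k' - k) *ᵥ v = 0 := by
    rw [Matrix.sub_mulVec, e2, sub_self]
  have e4 : k' = k := by
    by_contra hne
    have hne' : k' - k ≠ 0 := sub_ne_zero.mpr hne
    obtain ⟨y, _, hy⟩ := hinv (k' - k) (K.sub_mem hconj hk) hne'
    have hy' : y * (k' - k) = 1 := mul_eq_one_comm.mp hy
    apply hv
    have := congrArg (fun A : Matrix (Fin n) (Fin n) F => A *ᵥ v) hy'
    simp only [← Matrix.mulVec_mulVec, e3, Matrix.mulVec_zero, Matrix.one_mulVec] at this
    exact this.symm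
  rw [e4] at e1
  rw [mul_add, add_mul, mul_one, one_mul] at e1
  exact (add_left_cancel e1).symm

end general


section fieldpart

lemma exists_elts {F L : Type*} [Field F] [Fintype F] [Field L] [Finite L] [Algebra F L]
    (r s : ℕ) (hr : Module.finrank F L = r) (hs1 : 1 < s) (hsr : s ∣ r) (hlt : s < r) :
    (∃ k : L, k ^ (Fintype.card F ^ s) ≠ k) ∧
    ∃ x : L, x ^ (Fintype.card F ^ s) = x ∧ x ∉ Set.range (algebraMap F L) := by
  set q := Fintype.card F with hq
  have hq2 : 2 ≤ q := Fintype.one_lt_card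
  have hcardL : Nat.card L = q ^ r := by
    rw [← hr, hq, ← Nat.card_eq_fintype_card]
    exact Module.natCard_eq_pow_finrank (K := F) (V := L)
  have hcardU : Nat.card Lˣ = q ^ r - 1 := by
    rw [Nat.card_units, hcardL]
  obtain ⟨ζ, hζ⟩ := IsCyclic.exists_ofOrder_eq_natCard (α := Lˣ)
  rw [hcardU] at hζ
  obtain ⟨t, ht⟩ := hsr
  have hQr : q ^ s < q ^ r := Nat.pow_lt_pow_right (by omega) hlt
  have hqQ : q < q ^ s := by
    calc q = q ^ 1 := (pow_one q).symm
      _ < q ^ s := Nat.pow_lt_pow_right (by omega) hs1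
  have hdvd : q ^ s - 1 ∣ q ^ r - 1 := by
    have := Nat.sub_dvd_pow_sub_pow (q ^ s) 1 t
    rwa [one_pow, ← pow_mul, ← ht] at this
  constructor
  · refine ⟨(ζ : L), ?_⟩
    intro h
    have h1 : ζ ^ (q ^ s - 1) = 1 := by
      apply Units.ext
      have h2 : (ζ : L) ^ (q ^ s - 1) * (ζ : L) = 1 * (ζ : L) := by
        rw [← pow_succ, Nat.sub_add_cancel (by omega), h, one_mul]
      rw [Units.val_pow_eq_pow_val, Units.val_one]
      exact mul_right_cancel₀ ζ.ne_zero h2
    have h3 := orderOf_dvd_of_pow_eq_one h1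
    rw [hζ] at h3
    have := Nat.le_of_dvd (by omega) h3
    omega
  · obtain ⟨A, hA⟩ := hdvd
    have hApos : 0 < A := by
      rcases Nat.eq_zero_or_pos A with h | h
      · rw [h, mul_zero] at hA; omega
      · exact h
    refine ⟨((ζ ^ A : Lˣ) : L), ?_, ?_⟩
    · have h1 : (ζ ^ A) ^ (q ^ s - 1) = 1 := by
        rw [← pow_mul, mul_comm, ← hA, ← hζ, pow_orderOf_eq_one]
      have h2 : (ζ ^ A) ^ (q ^ s) = ζ ^ A := by
        have : q ^ s = (q ^ s - 1) + 1 := by omega
        rw [this, pow_succ, h1, one_mul]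
      rw [← Units.val_pow_eq_pow_val, h2]
    · rintro ⟨c, hc⟩
      have hc0 : c ≠ 0 := by
        rintro rfl
        rw [map_zero] at hc
        exact (ζ ^ A).ne_zero hc.symm
      have h1 : c ^ (q - 1) = 1 := FiniteField.pow_card_sub_one_eq_one c hc0
      have h2 : (ζ ^ A) ^ (q - 1) = 1 := by
        apply Units.ext
        rw [Units.val_pow_eq_pow_val, ← hc, ← map_pow, h1, map_one, Units.val_one]
      rw [← pow_mul] at h2
      have h3 := orderOf_dvd_of_pow_eq_one h2
      rw [hζ, hA, mul_comm] at h3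
      have h4 : q ^ s - 1 ∣ q - 1 := Nat.dvd_of_mul_dvd_mul_left hApos h3
      have := Nat.le_of_dvd (by omega) h4
      omega

end fieldpart


section construct

variable {F : Type*} [Field F] [Fintype F] {n : ℕ}

lemma mat_ext (A B : Matrix (Fin n) (Fin n) F) (h : ∀ w : Fin n → F, A *ᵥ w = B *ᵥ w) : A = B := by
  apply Matrix.toLin'.injective
  apply LinearMap.ext
  intro w
  rw [Matrix.toLin'_apply, Matrix.toLin'_apply, h]

lemma exists_N {L : Type*} [Field L] [Finite L] [Algebra F L]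
    (ρ : L →ₐ[F] Matrix (Fin n) (Fin n) F) (r : ℕ) (hr : Module.finrank F L = r)
    (hlt : r < n) (e : ℕ) :
    ∃ Nm : Matrix (Fin n) (Fin n) F, Nm * Nm = 0 ∧
      (∀ c : L, c ^ (Fintype.card F ^ e) = c → Nm * ρ c = ρ c * Nm) ∧
      (∀ k : L, k ^ (Fintype.card F ^ e) ≠ k → Nm * ρ k ≠ ρ k * Nm) ∧
      ∃ v : Fin n → F, v ≠ 0 ∧ ∀ k : L, Nm *ᵥ (ρ k *ᵥ v) = 0 := by
  set Q := Fintype.card F ^ e with hQ
  have hQ0 : Q ≠ 0 := pow_ne_zero _ Fintype.card_ne_zero
  let ρ' : L →ₐ[F] Module.End F (Fin n → F) :=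
    (Matrix.toLinAlgEquiv' : Matrix (Fin n) (Fin n) F ≃ₐ[F] Module.End F (Fin n → F)).toAlgHom.comp ρ
  letI : Module L (Fin n → F) := Module.compHom (Fin n → F) ρ'.toRingHom
  have smul_def : ∀ (l : L) (v : Fin n → F), l • v = ρ l *ᵥ v := fun l v => rfl
  haveI : IsScalarTower F L (Fin n → F) := ⟨fun c l v => by
    rw [smul_def, smul_def, map_smul, Matrix.smul_mulVec]⟩
  have hfr : Module.finrank F L * Module.finrank L (Fin n → F) = n := by
    rw [Module.finrank_mul_finrank F L (Fin n → F), Module.finrank_fin_fun]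
  have hm : 2 ≤ Module.finrank L (Fin n → F) := by
    by_contra hcon
    have hle : Module.finrank L (Fin n → F) ≤ 1 := by omega
    rw [hr] at hfr
    have : r * Module.finrank L (Fin n → F) ≤ r * 1 := Nat.mul_le_mul_left r hle
    omega
  haveI : Module.Finite L (Fin n → F) := Module.Finite.of_restrictScalars_finite F L (Fin n → F)
  let b := Module.finBasis L (Fin n → F)
  let i₁ : Fin (Module.finrank L (Fin n → F)) := ⟨0, by omega⟩
  let i₂ : Fin (Module.finrank L (Fin n → F)) := ⟨1, by omega⟩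
  have hi : i₂ ≠ i₁ := by
    intro h
    have := congrArg Fin.val h
    simp [i₁, i₂] at this
  have hφ1 : b.coord i₁ (b i₁) = 1 := by
    rw [Module.Basis.coord_apply, Module.Basis.repr_self, Finsupp.single_eq_same]
  have hφ2 : b.coord i₁ (b i₂) = 0 := by
    rw [Module.Basis.coord_apply, Module.Basis.repr_self, Finsupp.single_eq_of_ne hi.symm]
  have hv2 : b i₂ ≠ 0 := b.ne_zero i₂
  let θ : L →ₐ[F] L := (FiniteField.frobeniusAlgHom F L) ^ e
  have hθ : ∀ x : L, θ x = x ^ Q := by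
    intro x
    show ((FiniteField.frobeniusAlgHom F L) ^ e) x = x ^ Q
    rw [AlgHom.coe_pow, FiniteField.coe_frobeniusAlgHom, pow_iterate]
  let N : (Fin n → F) →ₗ[F] (Fin n → F) :=
    { toFun := fun w => θ (b.coord i₁ w) • b i₂
      map_add' := by
        intro w w'
        rw [map_add, map_add, add_smul]
      map_smul' := by
        intro c w
        rw [LinearMap.map_smul_of_tower, map_smul, RingHom.id_apply, smul_assoc] }
  have hN : ∀ w, N w = ((b.coord i₁ w) ^ Q) • b i₂ := by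
    intro w
    show θ (b.coord i₁ w) • b i₂ = _
    rw [hθ]
  have hNm : ∀ w, LinearMap.toMatrix' N *ᵥ w = N w := by
    intro w
    rw [← Matrix.toLin'_apply, Matrix.toLin'_toMatrix']
  refine ⟨LinearMap.toMatrix' N, ?_, ?_, ?_, b i₂, hv2, ?_⟩
  · apply mat_ext
    intro w
    rw [← Matrix.mulVec_mulVec, hNm, hNm, Matrix.zero_mulVec, hN (N w), hN w, map_smul, hφ2,
      smul_zero, zero_pow hQ0, zero_smul]
  · intro c hc
    apply mat_ext
    intro w
    rw [← Matrix.mulVec_mulVec, ← Matrix.mulVec_mulVec, hNm, hNm, ← smul_def, ← smul_def, hN, hN,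
      map_smul, smul_eq_mul, mul_pow, hc, mul_smul]
  · intro k hk heq
    have h1 := congrArg (fun A : Matrix (Fin n) (Fin n) F => A *ᵥ b i₁) heq
    simp only [← Matrix.mulVec_mulVec] at h1
    rw [hNm, hNm, ← smul_def, ← smul_def, hN, hN, map_smul, hφ1, smul_eq_mul, mul_one, one_pow,
      one_smul] at h1
    have h2 : (k ^ Q - k) • b i₂ = 0 := by rw [sub_smul, h1, sub_self]
    rcases smul_eq_zero.mp h2 with h3 | h3
    · exact hk (sub_eq_zero.mp h3)
    · exact hv2 h3
  · intro k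
    rw [hNm, ← smul_def, hN, map_smul, hφ2, smul_zero, zero_pow hQ0, zero_smul]

end construct


section assembly

variable {F : Type*} [Field F] {n : ℕ}

lemma mem_normalizer_of_forall (K' : Subalgebra F (Matrix (Fin n) (Fin n) F)) (g : GL (Fin n) F)
    (h1 : ∀ x ∈ K', (g : Matrix (Fin n) (Fin n) F) * x * ((g⁻¹ : GL (Fin n) F) : Matrix (Fin n) (Fin n) F) ∈ K')
    (h2 : ∀ x ∈ K', ((g⁻¹ : GL (Fin n) F) : Matrix (Fin n) (Fin n) F) * x * (g : Matrix (Fin n) (Fin n) F) ∈ K') :
    g ∈ Cfsg.Geo.subalgebraNormalizer K' := by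
  intro k
  constructor
  · exact h1 k
  · intro h
    have h3 := h2 _ h
    have h4 : ((g⁻¹ : GL (Fin n) F) : Matrix (Fin n) (Fin n) F) *
        ((g : Matrix (Fin n) (Fin n) F) * k * ((g⁻¹ : GL (Fin n) F) : Matrix (Fin n) (Fin n) F)) *
        (g : Matrix (Fin n) (Fin n) F) = k := by
      rw [mul_assoc, mul_assoc, Units.inv_mul, mul_one, ← mul_assoc, Units.inv_mul, one_mul]
    rwa [h4] at h3

lemma mem_normalizer_conj (K' : Subalgebra F (Matrix (Fin n) (Fin n) F)) (g : GL (Fin n) F)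
    (hg : g ∈ Cfsg.Geo.subalgebraNormalizer K') (x : Matrix (Fin n) (Fin n) F) (hx : x ∈ K') :
    (g : Matrix (Fin n) (Fin n) F) * x * ((g⁻¹ : GL (Fin n) F) : Matrix (Fin n) (Fin n) F) ∈ K' :=
  (hg x).mp hx

lemma mkU_mem_SL [Finite F] (hn : 0 < n) (N : Matrix (Fin n) (Fin n) F) (hN : N * N = 0) :
    mkU N hN ∈ Cfsg.Geo.specialLinear (Fin n) F := by
  show Matrix.GeneralLinearGroup.det (mkU N hN) = 1
  apply Units.ext
  show ((mkU N hN : GL (Fin n) F) : Matrix (Fin n) (Fin n) F).det = 1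
  rw [mkU_val]
  exact det_one_add hn N hN

end assembly

/-- Let F be a finite field, n a positive integer and r a composite number (r > 1, not prime) that divides n with r < n. Let K be a subalgebra of the algebra of n × n matrices over F which is a field of degree r over F (commutative, every non-zero element invertible, of dimension r over F). Then the normaliser N of K in GL_n(F) (a group of type ΓL_{n/r}(F_{q^r})) is not a maximal subgroup of GL_n(F), and N ∩ SL_n(F) is not a maximal subgroup of SL_n(F): both lie properly inside the normaliser of an intermediate subfield of prime degree over F. -/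
theorem result {F : Type*} [Field F]
    [Fintype F] (n r : ℕ) (hr1 : 1 < r) (hrp : ¬ r.Prime) (hrn : r ∣ n) (hlt : r < n)
    (K : Subalgebra F (Matrix (Fin n) (Fin n) F)) (hK : Cfsg.Geo.IsFieldSubalgebra r K) :
    ¬ IsCoatom (Cfsg.Geo.subalgebraNormalizer K) ∧
      ¬ Cfsg.Geo.IsMaximalIn (Cfsg.Geo.specialLinear (Fin n) F)
        (Cfsg.Geo.subalgebraNormalizer K ⊓ Cfsg.Geo.specialLinear (Fin n) F) := by
  have hn : 0 < n := by omega
  haveI : Nonempty (Fin n) := ⟨⟨0, hn⟩⟩
  obtain ⟨s, hsr, hs2, hslt⟩ := Nat.exists_dvd_of_not_prime2 hr1 hrp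
  have hfield : IsField K := by
    refine ⟨⟨0, 1, ?_⟩, ?_, ?_⟩
    · intro h
      have := congrArg Subtype.val h
      exact zero_ne_one this
    · intro a b
      exact Subtype.ext (hK.comm a a.2 b b.2)
    · intro a ha
      obtain ⟨y, hy, h⟩ := hK.inv a a.2 (fun h0 => ha (Subtype.ext h0))
      exact ⟨⟨y, hy⟩, Subtype.ext h⟩
  letI : Field K := hfield.toField
  obtain ⟨⟨k, hk⟩, ⟨x₀, hx₀, hx₀F⟩⟩ := exists_elts (F := F) (L := K) r s hK.finrank_eq hs2 hsr hslt
  obtain ⟨Nm, hN0, hNc, hNk, v, hv, hNv⟩ := exists_N (F := F) (L := K) K.val r hK.finrank_eq hlt s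
  set Q := Fintype.card F ^ s with hQ
  let θ : K →ₐ[F] K := (FiniteField.frobeniusAlgHom F K) ^ s
  have hθ : ∀ x : K, θ x = x ^ Q := by
    intro x
    show ((FiniteField.frobeniusAlgHom F K) ^ s) x = x ^ Q
    rw [AlgHom.coe_pow, FiniteField.coe_frobeniusAlgHom, pow_iterate]
  let K₀ : Subalgebra F (Matrix (Fin n) (Fin n) F) :=
    (AlgHom.equalizer θ (AlgHom.id F K)).map K.val
  have hmem₀ : ∀ x : Matrix (Fin n) (Fin n) F, x ∈ K₀ ↔ x ∈ K ∧ x ^ Q = x := by
    intro x
    constructor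
    · rintro ⟨a, ha, rfl⟩
      have ha' : θ a = a := ha
      rw [hθ] at ha'
      refine ⟨a.2, ?_⟩
      have := congrArg Subtype.val ha'
      simpa using this
    · rintro ⟨hxK, hxQ⟩
      refine ⟨⟨x, hxK⟩, ?_, rfl⟩
      show θ ⟨x, hxK⟩ = ⟨x, hxK⟩
      rw [hθ]
      apply Subtype.ext
      simpa using hxQ
  have hK₀K : ∀ x, x ∈ K₀ → x ∈ K := fun x hx => ((hmem₀ x).mp hx).1
  have hconjmem : ∀ g : GL (Fin n) F, g ∈ Cfsg.Geo.subalgebraNormalizer K → ∀ x ∈ K₀,
      (g : Matrix (Fin n) (Fin n) F) * x * ((g⁻¹ : GL (Fin n) F) : Matrix (Fin n) (Fin n) F) ∈ K₀ := by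
    intro g hg x hx
    obtain ⟨hxK, hxQ⟩ := (hmem₀ x).mp hx
    rw [hmem₀]
    refine ⟨(hg x).mp hxK, ?_⟩
    rw [Units.conj_pow, hxQ]
  have hle : Cfsg.Geo.subalgebraNormalizer K ≤ Cfsg.Geo.subalgebraNormalizer K₀ := by
    intro g hg
    apply mem_normalizer_of_forall
    · exact hconjmem g hg
    · intro x hx
      have := hconjmem g⁻¹ (inv_mem hg) x hx
      rwa [inv_inv] at this
  set u := mkU Nm hN0 with hu
  have huK₀ : u ∈ Cfsg.Geo.subalgebraNormalizer K₀ := by
    apply mem_normalizer_of_forall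
    · intro x hx
      obtain ⟨hxK, hxQ⟩ := (hmem₀ x).mp hx
      have hc : Nm * x = x * Nm := by
        have := hNc ⟨x, hxK⟩ (by apply Subtype.ext; simpa using hxQ)
        simpa using this
      rw [hu, mkU_val, mkU_inv_val]
      have : (1 + Nm) * x * (1 - Nm) = x := by
        have e1 : (1 + Nm) * x = x * (1 + Nm) := by rw [add_mul, mul_add, one_mul, mul_one, hc]
        have e2 : (1 + Nm) * (1 - Nm) = 1 := by
          rw [add_mul, mul_sub, mul_sub, hN0]; simp
        rw [e1, mul_assoc, e2, mul_one]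
      rwa [this]
    · intro x hx
      obtain ⟨hxK, hxQ⟩ := (hmem₀ x).mp hx
      have hc : Nm * x = x * Nm := by
        have := hNc ⟨x, hxK⟩ (by apply Subtype.ext; simpa using hxQ)
        simpa using this
      rw [hu, mkU_val, mkU_inv_val]
      have : (1 - Nm) * x * (1 + Nm) = x := by
        have e1 : (1 - Nm) * x = x * (1 - Nm) := by rw [sub_mul, mul_sub, one_mul, mul_one, hc]
        have e2 : (1 - Nm) * (1 + Nm) = 1 := by
          rw [sub_mul, mul_add, mul_add, hN0]; simp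
        rw [e1, mul_assoc, e2, mul_one]
      rwa [this]
  have huK : u ∉ Cfsg.Geo.subalgebraNormalizer K := by
    intro hmem
    have h1 := (hmem (k : Matrix (Fin n) (Fin n) F)).mp k.2
    rw [hu, mkU_val, mkU_inv_val] at h1
    have h2 := comm_of_conj_mem K hK.inv Nm hN0 k k.2 v hv
      (by have := hNv 1; simpa using this) (by have := hNv k; simpa using this) h1
    exact hNk k hk (by simpa using h2)
  have huSL : u ∈ Cfsg.Geo.specialLinear (Fin n) F := mkU_mem_SL hn Nm hN0
  have hx₀K₀ : (x₀ : Matrix (Fin n) (Fin n) F) ∈ K₀ := by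
    rw [hmem₀]
    refine ⟨x₀.2, ?_⟩
    have := congrArg Subtype.val hx₀
    simpa using this
  have hx₀ns : (x₀ : Matrix (Fin n) (Fin n) F) ∉ Set.range (Matrix.scalar (Fin n)) := by
    rintro ⟨c, hc⟩
    apply hx₀F
    refine ⟨c, ?_⟩
    apply Subtype.ext
    rw [Subalgebra.coe_algebraMap, ← hc, Matrix.algebraMap_eq_diagonal]
    rfl
  have hex : ∃ i j : Fin n, i ≠ j ∧ ¬ Commute (Matrix.single i j (1 : F)) (x₀ : Matrix (Fin n) (Fin n) F) := by
    by_contra hcon
    push Not at hcon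
    exact hx₀ns (Matrix.mem_range_scalar_of_commute_single (fun i j hij => hcon i j hij))
  obtain ⟨i, j, hij, hncomm⟩ := hex
  have hE0 : Matrix.single i j (1 : F) * Matrix.single i j (1 : F) = 0 :=
    Matrix.single_mul_single_of_ne (c := (1 : F)) i j i hij.symm (1 : F)
  set u' := mkU (Matrix.single i j (1 : F)) hE0 with hu'
  have hu'SL : u' ∈ Cfsg.Geo.specialLinear (Fin n) F := mkU_mem_SL hn _ hE0
  have hu'K₀ : u' ∉ Cfsg.Geo.subalgebraNormalizer K₀ := by
    intro hmem
    have h1 := hK₀K _ ((hmem (x₀ : Matrix (Fin n) (Fin n) F)).mp hx₀K₀)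
    rw [hu', mkU_val, mkU_inv_val] at h1
    let f : (Fin n → F) →ₗ[F] (F × F) :=
      LinearMap.prod (LinearMap.proj j) ((LinearMap.proj j).comp (Matrix.toLin' (x₀ : Matrix (Fin n) (Fin n) F)))
    have hfker : LinearMap.ker f ≠ ⊥ := by
      apply LinearMap.ker_ne_bot_of_finrank_lt
      rw [Module.finrank_prod, Module.finrank_self, Module.finrank_fin_fun]
      omega
    obtain ⟨w, hwker, hw0⟩ := Submodule.exists_mem_ne_zero_of_ne_bot hfker
    have hw : f w = 0 := hwker
    have hw1 : w j = 0 := by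
      have := congrArg Prod.fst hw
      simpa [f] using this
    have hw2 : ((x₀ : Matrix (Fin n) (Fin n) F) *ᵥ w) j = 0 := by
      have := congrArg Prod.snd hw
      simpa [f] using this
    have h2 := comm_of_conj_mem K hK.inv (Matrix.single i j (1 : F)) hE0 x₀ x₀.2 w hw0
      (by rw [Matrix.single_mulVec_eq, hw1]; simp) (by rw [Matrix.single_mulVec_eq, hw2]; simp) h1
    exact hncomm h2
  constructor
  · rintro ⟨_, h⟩
    have hlt' : Cfsg.Geo.subalgebraNormalizer K < Cfsg.Geo.subalgebraNormalizer K₀ :=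
      lt_of_le_of_ne hle (fun heq => huK (heq ▸ huK₀))
    have htop := h _ hlt'
    apply hu'K₀
    rw [htop]
    exact Subgroup.mem_top _
  · rintro ⟨_, h⟩
    rcases h (Cfsg.Geo.subalgebraNormalizer K₀ ⊓ Cfsg.Geo.specialLinear (Fin n) F)
      (inf_le_inf_right _ hle) inf_le_right with h1 | h1
    · have : u ∈ Cfsg.Geo.subalgebraNormalizer K₀ ⊓ Cfsg.Geo.specialLinear (Fin n) F := ⟨huK₀, huSL⟩
      rw [h1] at this
      exact huK this.1
    · have : u' ∈ Cfsg.Geo.subalgebraNormalizer K₀ ⊓ Cfsg.Geo.specialLinear (Fin n) F := by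
        rw [h1]; exact hu'SL
      exact hu'K₀ this.1

end Cfsg.Agent.S5887
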