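import Cfsg.Statements.S5893
import Cfsg.Agent.Lib.Helper28.E2J

set_option autoImplicit false
open Cfsg

namespace Cfsg.Agent.S5893

open Cfsg.Agent.Lib.Helper28.E2 Cfsg.Agent.Lib.helper3

/-- Let F be a finite field of even order q ≥ 4 and let M be a maximal subgroup of PSL₂(F) (= SL₂(F) = PGL₂(F)). Then one of the following holds: |M| = q(q − 1) (the stabiliser of a point of the projective line, elementary abelian of order q extended by a cyclic group of order q − 1); M is dihedral of order 2(q − 1); M is dihedral of order 2(q + 1); or q = q₀^r for a prime r with q₀ ≠ 2 and M ≅ PSL₂(F₀) with |F₀| = q₀. -/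
theorem result {F : Type*} [Field F] [Fintype F]
    (heven : Even (Fintype.card F)) (h4 : 4 ≤ Fintype.card F) (M : Subgroup (Matrix.ProjectiveSpecialLinearGroup (Fin 2) F)) (hM : IsCoatom M) :
    Nat.card M = Fintype.card F * (Fintype.card F - 1) ∨
    Nonempty (M ≃* DihedralGroup (Fintype.card F - 1)) ∨
    Nonempty (M ≃* DihedralGroup (Fintype.card F + 1)) ∨
    (∃ (F₀ : Type) (_ : Field F₀) (_ : Fintype F₀) (r : ℕ), r.Prime ∧ Fintype.card F₀ ≠ 2 ∧
        Fintype.card F = Fintype.card F₀ ^ r ∧ Nonempty (M ≃* Matrix.ProjectiveSpecialLinearGroup (Fin 2) F₀)) := by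
  obtain ⟨p, hp⟩ := CharP.exists F
  have hprime : p.Prime := CharP.char_is_prime F p
  have : Fact p.Prime := ⟨hprime⟩
  obtain ⟨n, -, hn⟩ := FiniteField.card F p
  have hp2 : p = 2 := by
    rw [hn] at heven
    have h1 : Even p := (Nat.even_pow.mp heven).1
    exact (Nat.Prime.even_iff hprime).mp h1
  subst hp2
  have hchar : CharP F 2 := hp
  obtain ⟨M₀, hM₀def⟩ : ∃ M₀ : Subgroup (S2 F), M₀ = M.comap (e0 F).toMonoidHom := ⟨_, rfl⟩
  have hM₀ : IsCoatom M₀ := by
    have h1 : M₀ = (e0 F).comapSubgroup M := hM₀def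
    rw [h1, OrderIso.isCoatom_iff]
    exact hM
  have hmap : M₀.map (e0 F).toMonoidHom = M := by
    rw [hM₀def]
    exact Subgroup.map_comap_eq_self_of_surjective (e0 F).surjective M
  have i : M₀ ≃* M :=
    (Subgroup.equivMapOfInjective M₀ (e0 F).toMonoidHom (e0 F).injective).trans
      (MulEquiv.subgroupCongr hmap)
  rcases main_S2 h4 M₀ hM₀ with h | ⟨⟨e⟩⟩ | ⟨⟨e⟩⟩ | ⟨F₀, i1, i2, r, hr, h2, hF, ⟨e⟩⟩
  · left
    rw [← h]
    exact Nat.card_congr i.symm.toEquiv
  · right; left
    exact ⟨i.symm.trans e⟩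
  · right; right; left
    exact ⟨i.symm.trans e⟩
  · right; right; right
    exact ⟨F₀, i1, i2, r, hr, h2, hF, ⟨i.symm.trans e⟩⟩

end Cfsg.Agent.S5893
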