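import Cfsg.Statements.S5894
import Cfsg.Agent.S5905

set_option autoImplicit false
open Cfsg

namespace Cfsg.Agent.S5894
open MulAction
open scoped Pointwise

theorem isCoatom_map_subgroupOf_range {G G' : Type*} [Group G] [Group G'] (φ : G →* G')
    (hφ : Function.Injective φ) (K : Subgroup G) (hK : IsCoatom K) :
    IsCoatom ((K.map φ).subgroupOf φ.range) := by
  have h1 : (K.map φ).subgroupOf φ.range = (MonoidHom.ofInjective hφ).mapSubgroup K := by
    rw [MulEquiv.mapSubgroup_apply]
    ext ⟨y, hy⟩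
    rw [Subgroup.mem_subgroupOf, Subgroup.mem_map, Subgroup.mem_map]
    constructor
    · rintro ⟨k, hk, rfl⟩
      exact ⟨k, hk, rfl⟩
    · rintro ⟨k, hk, h⟩
      exact ⟨k, hk, congrArg Subtype.val h⟩
  rw [h1, OrderIso.isCoatom_iff]
  exact hK

/-- abstract version -/
theorem abstract {α : Type*} [Fintype α] [DecidableEq α] (m : ℕ) (hm : 2 ≤ m)
    (f : α → Fin 2) (hf : ∀ i : Fin 2, Nat.card {x : α // f x = i} = m) (hcard : Nat.card α = 2 * m) :
    ∃ M H K : Subgroup (Equiv.Perm α), IsCoatom M ∧ M.index = 2 * m ∧ H ≤ M ∧ IsCoatom (H.subgroupOf M) ∧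
      IsCoatom K ∧ H ≤ K ∧ ¬ IsCoatom (H.subgroupOf K) := by
  classical
  have hfib : ∀ i : Fin 2, ∃ x y : α, x ≠ y ∧ f x = i ∧ f y = i := by
    intro i
    have h1 : 1 < Nat.card {x : α // f x = i} := by rw [hf i]; omega
    rw [Finite.one_lt_card_iff_nontrivial] at h1
    obtain ⟨⟨x, hx⟩, ⟨y, hy⟩, hxy⟩ := h1
    exact ⟨x, y, fun e => hxy (Subtype.ext e), hx, hy⟩
  obtain ⟨x0, y0, hxy0, hx0, hy0⟩ := hfib 0
  obtain ⟨z0, _, _, hz0, _⟩ := hfib 1
  have hz0x : z0 ≠ x0 := by
    intro e; rw [e, hx0] at hz0; exact absurd hz0 (by decide)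
  have hnt : Nontrivial α := ⟨x0, y0, hxy0⟩
  let p : α → Prop := fun x => x ≠ x0
  let φ : Equiv.Perm (Subtype p) →* Equiv.Perm α := Equiv.Perm.ofSubtype
  have hφ : Function.Injective φ := Equiv.Perm.ofSubtype_injective
  have hM : φ.range = stabilizer (Equiv.Perm α) x0 := by
    ext g
    rw [Equiv.Perm.mem_range_ofSubtype_iff, mem_stabilizer_iff]
    constructor
    · intro h
      by_contra hne
      have : x0 ∈ (g.support : Set α) := by simpa using hne
      exact (h this) rfl
    · intro h x hx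
      have hx' : g x ≠ x := by simpa using hx
      show x ≠ x0
      intro e
      rw [e] at hx'
      exact hx' h
  let A : Set (Subtype p) := {x | f x.val = 0}
  have hA1 : A.Nonempty := ⟨⟨y0, hxy0.symm⟩, hy0⟩
  have hA2 : Aᶜ.Nonempty := ⟨⟨z0, hz0x⟩, by
    show ¬ (f z0 = 0)
    rw [hz0]; decide⟩
  have hcardp : Nat.card (Subtype p) = 2 * m - 1 := by
    have : Nat.card (Subtype p) = Nat.card α - 1 := by
      rw [Nat.card_eq_fintype_card, Nat.card_eq_fintype_card]
      exact Set.card_ne_eq x0
    rw [this, hcard]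
  have hH0 : IsCoatom (stabilizer (Equiv.Perm (Subtype p)) A) := by
    apply Equiv.Perm.isCoatom_stabilizer hA1 hA2
    rw [hcardp]; omega
  -- the function-preserving subgroup
  let N : Subgroup (Equiv.Perm α) :=
    { carrier := {g | ∀ x, f (g x) = f x}
      one_mem' := fun x => rfl
      mul_mem' := by
        intro g h hg hh x
        rw [Equiv.Perm.mul_apply, hg, hh]
      inv_mem' := by
        intro g hg x
        have := hg (g⁻¹ x)
        simp at this
        exact this.symm }
  have hNK : N ≤ Subgroup.closure {g : Equiv.Perm α | ∀ x y : α, f x = f y ↔ f (g x) = f (g y)} := by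
    intro g hg
    apply Subgroup.subset_closure
    intro x y
    rw [hg x, hg y]
  have hHN : (stabilizer (Equiv.Perm (Subtype p)) A).map φ ≤ N := by
    rintro _ ⟨g0, hg0, rfl⟩
    intro x
    by_cases hx : x = x0
    · have : φ g0 x = x := Equiv.Perm.ofSubtype_apply_of_not_mem g0 (by simpa [p] using hx)
      rw [this]
    · have h1 : φ g0 x = (g0 ⟨x, hx⟩ : α) := Equiv.Perm.ofSubtype_apply_of_mem g0 hx
      rw [h1]
      have h2 := (mem_stabilizer_set.mp hg0) ⟨x, hx⟩
      have h3 : f (g0 ⟨x, hx⟩ : α) = 0 ↔ f x = 0 := h2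
      have e1 : ∀ i : Fin 2, i = 0 ∨ i = 1 := by decide
      rcases e1 (f x) with e | e <;> rcases e1 (f (g0 ⟨x, hx⟩ : α)) with e' | e'
      · rw [e, e']
      · rw [e] at h3; rw [h3.mpr rfl] at e'; exact absurd e' (by decide)
      · rw [e'] at h3; rw [h3.mp rfl] at e; exact absurd e (by decide)
      · rw [e, e']
  refine ⟨φ.range, (stabilizer (Equiv.Perm (Subtype p)) A).map φ,
    Subgroup.closure {g : Equiv.Perm α | ∀ x y : α, f x = f y ↔ f (g x) = f (g y)}, ?_, ?_, ?_, ?_, ?_, ?_, ?_⟩
  · rw [hM]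
    exact IsPreprimitive.isCoatom_stabilizer_of_isPreprimitive _ x0
  · rw [hM, index_stabilizer_of_transitive, hcard]
  · exact Subgroup.map_le_range _ _
  · exact isCoatom_map_subgroupOf_range φ hφ _ hH0
  · exact Cfsg.Agent.S5905.result m 2 hm le_rfl f hf
  · exact hHN.trans hNK
  · intro hco
    -- swap x0 y0 ∈ N \ H
    have hsw : Equiv.swap x0 y0 ∈ N := by
      intro u
      by_cases hx : u = x0
      · subst hx; rw [Equiv.swap_apply_left, hy0, hx0]
      by_cases hy : u = y0
      · subst hy; rw [Equiv.swap_apply_right, hy0, hx0]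
      rw [Equiv.swap_apply_of_ne_of_ne hx hy]
    have hswH : Equiv.swap x0 y0 ∉ (stabilizer (Equiv.Perm (Subtype p)) A).map φ := by
      intro h
      have h1 : Equiv.swap x0 y0 ∈ φ.range := Subgroup.map_le_range _ _ h
      rw [hM, mem_stabilizer_iff] at h1
      have h2 : Equiv.swap x0 y0 x0 = x0 := h1
      rw [Equiv.swap_apply_left] at h2
      exact hxy0 h2.symm
    have hlt : ((stabilizer (Equiv.Perm (Subtype p)) A).map φ).subgroupOf
        (Subgroup.closure {g : Equiv.Perm α | ∀ x y : α, f x = f y ↔ f (g x) = f (g y)}) <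
        N.subgroupOf (Subgroup.closure {g : Equiv.Perm α | ∀ x y : α, f x = f y ↔ f (g x) = f (g y)}) := by
      rw [SetLike.lt_iff_le_and_exists]
      refine ⟨fun g hg => ?_, ⟨⟨Equiv.swap x0 y0, hNK hsw⟩, ?_, ?_⟩⟩
      · rw [Subgroup.mem_subgroupOf] at hg ⊢
        exact hHN hg
      · rw [Subgroup.mem_subgroupOf]; exact hsw
      · rw [Subgroup.mem_subgroupOf]; exact hswH
    have htop := hco.2 _ hlt
    -- lift of swap 0 1 in K \ N
    have hl : Cfsg.Agent.S5905.lift f hf (Equiv.swap 0 1) ∈
        Subgroup.closure {g : Equiv.Perm α | ∀ x y : α, f x = f y ↔ f (g x) = f (g y)} :=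
      Subgroup.subset_closure (Cfsg.Agent.S5905.lift_mem f hf _)
    have hmem : (⟨_, hl⟩ : Subgroup.closure {g : Equiv.Perm α | ∀ x y : α, f x = f y ↔ f (g x) = f (g y)}) ∈
        N.subgroupOf (Subgroup.closure {g : Equiv.Perm α | ∀ x y : α, f x = f y ↔ f (g x) = f (g y)}) := by
      rw [htop]; trivial
    rw [Subgroup.mem_subgroupOf] at hmem
    have h5 := hmem x0
    rw [Cfsg.Agent.S5905.f_lift f hf, hx0] at h5
    exact absurd h5 (by decide)


/-- For every m ≥ 2 the symmetric group on 2m letters has a maximal subgroup M of index 2m together with a maximal subgroup H of M that is not second maximal: some maximal subgroup K of the symmetric group contains H without H being maximal in K. (One may take M the stabiliser of a letter, H ≅ S_m × S_{m−1} inside it, and K ≅ S_m ≀ S₂ the stabiliser of a partition into two m-sets, with H < S_m × S_m < K.) So the prime-index hypothesis in the second-maximality criterion cannot be relaxed to any even index ≥ 4. -/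
theorem result (m : ℕ) (hm : 2 ≤ m) :
    ∃ M H K : Subgroup (Equiv.Perm (Fin (2 * m))), IsCoatom M ∧ M.index = 2 * m ∧ H ≤ M ∧ IsCoatom (H.subgroupOf M) ∧
      IsCoatom K ∧ H ≤ K ∧ ¬ IsCoatom (H.subgroupOf K) := by
  apply abstract m hm (fun x => (finProdFinEquiv.symm x).1)
  · intro i
    have e : {x : Fin (2 * m) // (finProdFinEquiv.symm x).1 = i} ≃ Fin m :=
      { toFun := fun x => (finProdFinEquiv.symm x.1).2
        invFun := fun j => ⟨finProdFinEquiv (i, j), by simp⟩
        left_inv := by
          rintro ⟨x, hx⟩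
          apply Subtype.ext
          subst hx
          exact finProdFinEquiv.apply_symm_apply x
        right_inv := by
          intro j
          simp }
    rw [Nat.card_congr e, Nat.card_eq_fintype_card, Fintype.card_fin]
  · rw [Nat.card_eq_fintype_card, Fintype.card_fin]

end Cfsg.Agent.S5894
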