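import Cfsg.Statements.S5895
-- import your own Cfsg.Agent.* helpers here

set_option autoImplicit false
open Cfsg

namespace Cfsg.Agent.S5895
open MulAction
open scoped Pointwise LinearAlgebra.Projectivization

theorem isCoatom_map_subgroupOf_range {G G' : Type*} [Group G] [Group G'] (φ : G →* G')
    (hφ : Function.Injective φ) (K : Subgroup G) (hK : IsCoatom K) :
    IsCoatom ((K.map φ).subgroupOf φ.range) := by
  have h1 : (K.map φ).subgroupOf φ.range = (MonoidHom.ofInjective hφ).mapSubgroup K := by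
    rw [MulEquiv.mapSubgroup_apply]
    ext ⟨y, hy⟩
    rw [Subgroup.mem_subgroupOf, Subgroup.mem_map, Subgroup.mem_map]
    constructor
    · rintro ⟨k, hk, rfl⟩
      exact ⟨k, hk, rfl⟩
    · rintro ⟨k, hk, h⟩
      exact ⟨k, hk, congrArg Subtype.val h⟩
  rw [h1, OrderIso.isCoatom_iff]
  exact hK

theorem isCoatom_comap_of_surjective {G G' : Type*} [Group G] [Group G'] (f : G →* G')
    (hf : Function.Surjective f) (K : Subgroup G') (hK : IsCoatom K) : IsCoatom (K.comap f) := by
  constructor
  · intro h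
    apply hK.1
    rw [← Subgroup.map_comap_eq_self_of_surjective hf K, h, ← MonoidHom.range_eq_map,
      MonoidHom.range_eq_top.mpr hf]
  · intro L hL
    have hker : f.ker ≤ L := by
      refine le_trans ?_ hL.le
      intro x hx
      rw [Subgroup.mem_comap, MonoidHom.mem_ker.mp hx]
      exact K.one_mem
    have h1 : K ≤ L.map f := by
      rw [← Subgroup.map_comap_eq_self_of_surjective hf K]
      exact Subgroup.map_mono hL.le
    have h2 : K ≠ L.map f := by
      intro h
      have : L ≤ K.comap f := by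
        rw [h, Subgroup.comap_map_eq_self hker]
      exact absurd hL (not_lt_of_ge this)
    have h3 := hK.2 _ (lt_of_le_of_ne h1 h2)
    rw [← Subgroup.comap_map_eq_self hker, h3, Subgroup.comap_top]

section
variable {F V : Type*} [Field F] [AddCommGroup V] [Module F V]

instance affAction : MulAction (V ≃ᵃ[F] V) V where
  smul e v := e v
  one_smul _ := rfl
  mul_smul _ _ _ := rfl

theorem aff_smul_def (e : V ≃ᵃ[F] V) (v : V) : e • v = e v := rfl

theorem exists_linearEquiv_apply_eq (c c' : V) (hc : c ≠ 0) (hc' : c' ≠ 0) :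
    ∃ A : V ≃ₗ[F] V, A c = c' := by
  let f : ↥(F ∙ c) ≃ₗ[F] ↥(F ∙ c') :=
    (LinearEquiv.toSpanNonzeroSingleton F V c hc).symm ≪≫ₗ (LinearEquiv.toSpanNonzeroSingleton F V c' hc')
  obtain ⟨g, hg⟩ := Submodule.exists_linearEquiv_restrict_eq f
  refine ⟨g, ?_⟩
  have h1 := hg ⟨c, Submodule.mem_span_singleton_self c⟩
  have h2 : f ⟨c, Submodule.mem_span_singleton_self c⟩ = ⟨c', Submodule.mem_span_singleton_self c'⟩ := by
    show (LinearEquiv.toSpanNonzeroSingleton F V c' hc')
      ((LinearEquiv.toSpanNonzeroSingleton F V c hc).symm ⟨c, Submodule.mem_span_singleton_self c⟩) = _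
    rw [← LinearEquiv.toSpanNonzeroSingleton_one F V c hc, LinearEquiv.symm_apply_apply,
      LinearEquiv.toSpanNonzeroSingleton_one]
  rw [h2] at h1
  exact h1.symm

theorem aff_two_pretransitive : IsMultiplyPretransitive (V ≃ᵃ[F] V) V 2 := by
  rw [is_two_pretransitive_iff]
  intro a b c d hab hcd
  obtain ⟨A, hA⟩ := exists_linearEquiv_apply_eq (F := F) (b - a) (d - c)
    (sub_ne_zero.mpr hab.symm) (sub_ne_zero.mpr hcd.symm)
  refine ⟨AffineEquiv.ofLinearEquiv A a c, ?_, ?_⟩
  · rw [aff_smul_def, AffineEquiv.ofLinearEquiv_apply]; simp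
  · rw [aff_smul_def, AffineEquiv.ofLinearEquiv_apply]
    simp only [vsub_eq_sub, vadd_eq_add, hA]
    abel

/-- linear maps as affine maps -/
def linToAff : (V ≃ₗ[F] V) →* (V ≃ᵃ[F] V) where
  toFun A := A.toAffineEquiv
  map_one' := by ext x; rfl
  map_mul' A B := by ext x; rfl

theorem linToAff_apply (A : V ≃ₗ[F] V) (x : V) : linToAff A x = A x := rfl

theorem linearHom_linToAff (A : V ≃ₗ[F] V) : AffineEquiv.linearHom (linToAff A) = A := rfl

theorem linToAff_injective : Function.Injective (linToAff (F := F) (V := V)) := by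
  intro A B h
  ext x
  have := congrArg (fun e : V ≃ᵃ[F] V => e x) h
  exact this

theorem range_linToAff : (linToAff (F := F) (V := V)).range = stabilizer (V ≃ᵃ[F] V) (0 : V) := by
  ext e
  rw [mem_stabilizer_iff, aff_smul_def]
  constructor
  · rintro ⟨A, rfl⟩
    rw [linToAff_apply, map_zero]
  · intro h
    refine ⟨e.linear, ?_⟩
    ext x
    rw [linToAff_apply]
    have := e.map_vadd (0 : V) x
    rw [h] at this
    simpa using this.symm

theorem linearHom_surjective : Function.Surjective (AffineEquiv.linearHom : (V ≃ᵃ[F] V) →* (V ≃ₗ[F] V)) :=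
  fun A => ⟨linToAff A, rfl⟩

end


section
variable {F V : Type*} [Field F] [AddCommGroup V] [Module F V]

theorem stab_line_fwd (w : V) (hw : w ≠ 0) (A : V ≃ₗ[F] V)
    (hA : A ∈ stabilizer (V ≃ₗ[F] V) (Projectivization.mk F w hw)) (b : V) (hb : b ∈ (F ∙ w)) :
    A b ∈ (F ∙ w) := by
  rw [mem_stabilizer_iff, Projectivization.smul_mk, Projectivization.mk_eq_mk_iff] at hA
  obtain ⟨a, ha⟩ := hA
  rw [Submodule.mem_span_singleton] at hb ⊢
  obtain ⟨t, rfl⟩ := hb
  refine ⟨t * (a : F), ?_⟩
  rw [map_smul]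
  have : A w = (a : F) • w := ha.symm
  rw [this, mul_smul]

theorem abstract_example [Finite F] [FiniteDimensional F V] (w v : V) (hw : w ≠ 0)
    (hv : v ∉ (F ∙ w)) :
    ∃ (M H K : Subgroup (V ≃ᵃ[F] V)), IsCoatom M ∧ M.index = Nat.card V ∧ H ≤ M ∧
      IsCoatom (H.subgroupOf M) ∧ IsCoatom K ∧ H ≤ K ∧ ¬ IsCoatom (H.subgroupOf K) := by
  have hv0 : v ≠ 0 := fun h => hv (h ▸ Submodule.zero_mem _)
  have hntV : Nontrivial V := ⟨0, w, hw.symm⟩
  have hprimV : IsPreprimitive (V ≃ᵃ[F] V) V :=
    isPreprimitive_of_is_two_pretransitive aff_two_pretransitive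
  have hprimP : IsPreprimitive (V ≃ₗ[F] V) (ℙ F V) :=
    isPreprimitive_of_is_two_pretransitive (Projectivization.linearEquiv_is_two_pretransitive F V)
  have hntP : Nontrivial (ℙ F V) := by
    refine ⟨Projectivization.mk F w hw, Projectivization.mk F v hv0, ?_⟩
    intro h
    rw [Projectivization.mk_eq_mk_iff] at h
    obtain ⟨a, ha⟩ := h
    apply hv
    rw [Submodule.mem_span_singleton]
    refine ⟨((a⁻¹ : Fˣ) : F), ?_⟩
    rw [← ha]
    rw [← Units.smul_def, inv_smul_smul]
  set x0 : ℙ F V := Projectivization.mk F w hw with hx0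
  set Hlin : Subgroup (V ≃ₗ[F] V) := stabilizer (V ≃ₗ[F] V) x0 with hHlin
  have hHlin_co : IsCoatom Hlin := IsPreprimitive.isCoatom_stabilizer_of_isPreprimitive _ x0
  have hfwd : ∀ A ∈ Hlin, ∀ b ∈ (F ∙ w), A b ∈ (F ∙ w) := fun A hA b hb =>
    stab_line_fwd w hw A hA b hb
  have hiff : ∀ A ∈ Hlin, ∀ b : V, A b ∈ (F ∙ w) ↔ b ∈ (F ∙ w) := by
    intro A hA b
    constructor
    · intro h
      have := hfwd A⁻¹ (Hlin.inv_mem hA) _ h
      have h2 : A⁻¹ (A b) = b := A.symm_apply_apply b
      rwa [h2] at this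
    · exact hfwd A hA b
  let K : Subgroup (V ≃ᵃ[F] V) := Hlin.comap AffineEquiv.linearHom
  let X : Subgroup (V ≃ᵃ[F] V) := K ⊓ stabilizer (V ≃ᵃ[F] V) (((F ∙ w) : Submodule F V) : Set V)
  have hHK : Hlin.map linToAff ≤ K := by
    rintro _ ⟨A, hA, rfl⟩
    exact hA
  have hHX : Hlin.map linToAff ≤ X := by
    rintro _ ⟨A, hA, rfl⟩
    refine Subgroup.mem_inf.mpr ⟨hA, ?_⟩
    rw [mem_stabilizer_set]
    intro b
    exact hiff A hA b
  refine ⟨linToAff.range, Hlin.map linToAff, K, ?_, ?_, ?_, ?_, ?_, hHK, ?_⟩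
  · rw [range_linToAff]
    exact IsPreprimitive.isCoatom_stabilizer_of_isPreprimitive _ (0 : V)
  · rw [range_linToAff]
    exact index_stabilizer_of_transitive _ _
  · exact Subgroup.map_le_range _ _
  · exact isCoatom_map_subgroupOf_range linToAff linToAff_injective Hlin hHlin_co
  · exact isCoatom_comap_of_surjective _ linearHom_surjective Hlin hHlin_co
  · intro hco
    have htw : AffineEquiv.constVAdd F V w ∈ X := by
      refine Subgroup.mem_inf.mpr ⟨?_, ?_⟩
      · show AffineEquiv.linearHom (AffineEquiv.constVAdd F V w) ∈ Hlin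
        have : AffineEquiv.linearHom (AffineEquiv.constVAdd F V w) = 1 := rfl
        rw [this]; exact Hlin.one_mem
      · rw [mem_stabilizer_set]
        intro b
        rw [aff_smul_def, AffineEquiv.constVAdd_apply, vadd_eq_add]
        exact Submodule.add_mem_iff_right _ (Submodule.mem_span_singleton_self w)
    have htwH : AffineEquiv.constVAdd F V w ∉ Hlin.map linToAff := by
      rintro ⟨A, _, hA⟩
      have := congrArg (fun e : V ≃ᵃ[F] V => e 0) hA
      simp only [linToAff_apply, map_zero, AffineEquiv.constVAdd_apply, vadd_eq_add, add_zero] at this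
      exact hw this.symm
    have htvK : AffineEquiv.constVAdd F V v ∈ K := by
      show AffineEquiv.linearHom (AffineEquiv.constVAdd F V v) ∈ Hlin
      have : AffineEquiv.linearHom (AffineEquiv.constVAdd F V v) = 1 := rfl
      rw [this]; exact Hlin.one_mem
    have htvX : AffineEquiv.constVAdd F V v ∉ X := by
      intro hX
      have h := (Subgroup.mem_inf.mp hX).2
      rw [mem_stabilizer_set] at h
      have := (h 0).mpr (Submodule.zero_mem _)
      rw [aff_smul_def, AffineEquiv.constVAdd_apply, vadd_eq_add, add_zero] at this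
      exact hv this
    have hlt : (Hlin.map linToAff).subgroupOf K < X.subgroupOf K := by
      rw [SetLike.lt_iff_le_and_exists]
      refine ⟨fun g hg => ?_, ⟨⟨_, (Subgroup.mem_inf.mp htw).1⟩, ?_, ?_⟩⟩
      · rw [Subgroup.mem_subgroupOf] at hg ⊢
        exact hHX hg
      · rw [Subgroup.mem_subgroupOf]; exact htw
      · rw [Subgroup.mem_subgroupOf]; exact htwH
    have htop := hco.2 _ hlt
    have hmem : (⟨_, htvK⟩ : K) ∈ X.subgroupOf K := by rw [htop]; trivial
    rw [Subgroup.mem_subgroupOf] at hmem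
    exact htvX hmem

end


/-- For every prime p and every d ≥ 2 there is a finite group G with a maximal subgroup M of index p^d and a maximal subgroup H of M that is not second maximal in G: some maximal subgroup K of G contains H without H being maximal in K. (One may take G the affine group V ⋊ GL(V) of V = 𝔽_p^d, M = GL(V), H the stabiliser in M of a line W of V, and K = V ⋊ H, with H < W ⋊ H < K.) So the prime-index hypothesis in the second-maximality criterion cannot be relaxed to prime-power index. -/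
theorem result (p d : ℕ) (hp : p.Prime)
    (hd : 2 ≤ d) :
    ∃ (G : Type) (_ : Group G) (_ : Finite G) (M H K : Subgroup G), IsCoatom M ∧ M.index = p ^ d ∧ H ≤ M ∧
      IsCoatom (H.subgroupOf M) ∧ IsCoatom K ∧ H ≤ K ∧ ¬ IsCoatom (H.subgroupOf K) := by
  have : Fact p.Prime := ⟨hp⟩
  have hfin : Finite ((Fin d → ZMod p) ≃ᵃ[ZMod p] (Fin d → ZMod p)) :=
    Finite.of_injective (fun e => (e : (Fin d → ZMod p) → (Fin d → ZMod p))) DFunLike.coe_injective
  let i0 : Fin d := ⟨0, by omega⟩
  let i1 : Fin d := ⟨1, by omega⟩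
  have hi : i0 ≠ i1 := by
    intro h
    have := congrArg Fin.val h
    simp [i0, i1] at this
  have hw : (Pi.single i0 1 : Fin d → ZMod p) ≠ 0 := by
    intro h
    have := congrFun h i0
    simp at this
  have hv : (Pi.single i1 1 : Fin d → ZMod p) ∉ ((ZMod p) ∙ (Pi.single i0 1 : Fin d → ZMod p)) := by
    rw [Submodule.mem_span_singleton]
    rintro ⟨t, ht⟩
    have := congrFun ht i1
    simp [Pi.single_eq_of_ne hi.symm] at this
  obtain ⟨M, H, K, h1, h2, h3, h4, h5, h6, h7⟩ :=
    abstract_example (F := ZMod p) (V := Fin d → ZMod p) _ _ hw hv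
  refine ⟨(Fin d → ZMod p) ≃ᵃ[ZMod p] (Fin d → ZMod p), inferInstance, hfin, M, H, K, h1, ?_, h3, h4, h5, h6, h7⟩
  rw [h2, Nat.card_fun, Nat.card_zmod, Nat.card_fin]

end Cfsg.Agent.S5895
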