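import Cfsg.Statements.S5896
import Cfsg.Agent.Lib.Helper1.PmQ2

set_option autoImplicit false
set_option linter.unusedSectionVars false
open Cfsg

namespace Cfsg.Agent.S5896

open RegularWreathProduct
open scoped commutatorElement Pointwise

section general

variable {W : Type*} [Group W]

theorem map_derived_le (K : Subgroup W) (i : ℕ) (hK : K ≤ derivedSeries W i) (j : ℕ) :
    (derivedSeries ↥K j).map K.subtype ≤ derivedSeries W (i + j) := by
  induction j with
  | zero =>
    rw [derivedSeries_zero, ← MonoidHom.range_eq_map, Subgroup.range_subtype]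
    exact hK
  | succ j ih =>
    rw [derivedSeries_succ, Subgroup.map_commutator, ← add_assoc, derivedSeries_succ]
    exact Subgroup.commutator_mono ih ih

theorem derived_ne_bot_of_surj (K : Subgroup W) (i : ℕ) (hK : K ≤ derivedSeries W i)
    {D : Type*} [Group D] (φ : ↥K →* D) (hφ : Function.Surjective φ) (j : ℕ)
    (hD : derivedSeries D j ≠ ⊥) : derivedSeries W (i + j) ≠ ⊥ := by
  intro h
  apply hD
  rw [← map_derivedSeries_eq hφ j]
  have h1 := map_derived_le K i hK j
  rw [h, le_bot_iff, Subgroup.map_eq_bot_iff_of_injective _ K.subtype_injective] at h1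
  rw [h1, Subgroup.map_bot]

theorem pi_solvable (η : Type*) (D : Type*) [Group D] [Group.IsSolvable D] : Group.IsSolvable (η → D) := by
  obtain ⟨n, hn⟩ := Group.IsSolvable.solvable (G := D)
  refine ⟨⟨n, ?_⟩⟩
  have key : ∀ m, derivedSeries (η → D) m ≤ Subgroup.pi Set.univ (fun _ => derivedSeries D m) := by
    intro m
    induction m with
    | zero =>
      intro f _
      rw [Subgroup.mem_pi]
      intro i _
      trivial
    | succ m ih =>
      rw [derivedSeries_succ]
      exact le_trans (Subgroup.commutator_mono ih ih) (Subgroup.commutator_pi_pi_le _ _)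
  rw [eq_bot_iff]
  intro f hf
  have h1 := key n hf
  rw [Subgroup.mem_pi] at h1
  rw [Subgroup.mem_bot]
  funext x
  have h2 := h1 x (Set.mem_univ x)
  rw [hn, Subgroup.mem_bot] at h2
  exact h2

theorem isCoatom_comap {G P : Type*} [Group G] [Group P] (f : G →* P)
    (hf : Function.Surjective f) (M : Subgroup P) (hM : IsCoatom M) : IsCoatom (M.comap f) := by
  constructor
  · intro h
    apply hM.1
    rw [eq_top_iff]
    intro p _
    obtain ⟨g, rfl⟩ := hf p
    have : g ∈ M.comap f := by rw [h]; trivial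
    exact this
  · intro K hK
    have h1 : M ≤ K.map f := by
      intro p hp
      obtain ⟨g, rfl⟩ := hf p
      exact ⟨g, hK.le hp, rfl⟩
    have h2 : K.map f = ⊤ := by
      rcases eq_or_lt_of_le h1 with h | h
      · exfalso
        apply hK.not_ge
        intro k hk
        have : f k ∈ K.map f := ⟨k, hk, rfl⟩
        rw [← h] at this
        exact this
      · exact hM.2 _ h
    rw [eq_top_iff]
    intro g _
    have hg : f g ∈ K.map f := by rw [h2]; trivial
    obtain ⟨k, hk, hkg⟩ := hg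
    have hker : k⁻¹ * g ∈ K := by
      apply hK.le
      rw [Subgroup.mem_comap, map_mul, map_inv, hkg, inv_mul_cancel]
      exact M.one_mem
    have : g = k * (k⁻¹ * g) := by group
    rw [this]
    exact K.mul_mem hk hker

end general

section wreath

variable {D Q : Type*} [Group D] [Group Q] [DecidableEq Q]

def bs (s : D) : D ≀ᵣ Q := ⟨Pi.mulSingle 1 s, 1⟩

def cs (σ : Q) (s : D) : D ≀ᵣ Q := bs s * inl σ * (bs s)⁻¹ * (inl σ)⁻¹

theorem cs_right (σ : Q) (s : D) : (cs σ s).right = 1 := by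
  simp [cs, bs]

theorem cs_left (σ : Q) (hσ : σ ≠ 1) (s : D) : (cs σ s).left 1 = s := by
  have h : σ⁻¹ ≠ 1 := by simpa using hσ
  simp [cs, bs, Pi.mulSingle_apply, h]

def baseHom : (Q → D) →* D ≀ᵣ Q where
  toFun f := ⟨f, 1⟩
  map_one' := rfl
  map_mul' f g := by ext <;> simp

def evHom {Γ : Type*} [Group Γ] (ι : Γ →* D ≀ᵣ Q) : ↥((rightHom.comp ι).ker) →* D where
  toFun k := (ι k.1).left 1
  map_one' := by simp
  map_mul' a b := by
    have ha : (ι a.1).right = 1 := a.2
    simp [ha]

theorem wreath_lift {Γ : Type*} [Group Γ] (ι : Γ →* D ≀ᵣ Q) (σ : Q) (hσ : σ ≠ 1)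
    (hγ : ∀ s : D, ∃ γ : Γ, ι γ = cs σ s) (j : ℕ) (hD : derivedSeries D j ≠ ⊥) :
    derivedSeries Γ j ≠ ⊥ := by
  have hsurj : Function.Surjective (evHom ι) := by
    intro s
    obtain ⟨γ, hγs⟩ := hγ s
    refine ⟨⟨γ, ?_⟩, ?_⟩
    · rw [MonoidHom.mem_ker, MonoidHom.comp_apply, hγs]
      exact cs_right σ s
    · show (ι γ).left 1 = s
      rw [hγs]
      exact cs_left σ hσ s
  have := derived_ne_bot_of_surj ((rightHom.comp ι).ker) 0 (by simp) (evHom ι) hsurj j hD
  simpa using this

theorem wreath_solvable [Group.IsSolvable D] [Group.IsSolvable Q] : Group.IsSolvable (D ≀ᵣ Q) := by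
  have := pi_solvable Q D
  apply Group.isSolvable_of_ker_le_range (baseHom : (Q → D) →* D ≀ᵣ Q) (rightHom : D ≀ᵣ Q →* Q)
  intro w hw
  refine ⟨w.left, ?_⟩
  have : w.right = 1 := hw
  ext
  · rfl
  · exact this.symm

theorem comap_solvable [Group.IsSolvable D] (M : Subgroup Q) [Group.IsSolvable ↥M] :
    Group.IsSolvable ↥(M.comap (rightHom : D ≀ᵣ Q →* Q)) := by
  have := pi_solvable Q D
  let f' : (Q → D) →* ↥(M.comap (rightHom : D ≀ᵣ Q →* Q)) :=
    (baseHom : (Q → D) →* D ≀ᵣ Q).codRestrict _ (fun f => by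
      rw [Subgroup.mem_comap]
      exact M.one_mem)
  let g' : ↥(M.comap (rightHom : D ≀ᵣ Q →* Q)) →* ↥M :=
    ((rightHom : D ≀ᵣ Q →* Q).comp (Subgroup.subtype _)).codRestrict M (fun x => x.2)
  apply Group.isSolvable_of_ker_le_range f' g'
  intro w hw
  refine ⟨w.1.left, ?_⟩
  have h1 : w.1.right = 1 := by
    have := congrArg Subtype.val (MonoidHom.mem_ker.mp hw)
    exact this
  apply Subtype.ext
  show (⟨w.1.left, 1⟩ : D ≀ᵣ Q) = w.1
  ext
  · rfl
  · exact h1.symm

end wreath


section main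

theorem exists_solvable (d : ℕ) : ∃ (S : Type) (_ : Group S) (_ : Finite S),
    Group.IsSolvable S ∧ derivedSeries S d ≠ ⊥ := by
  induction d with
  | zero =>
    refine ⟨Multiplicative (ZMod 2), inferInstance, inferInstance, inferInstance, ?_⟩
    rw [derivedSeries_zero]
    exact top_ne_bot
  | succ d ih =>
    obtain ⟨S, hG, hF, hS, hd⟩ := ih
    classical
    refine ⟨S ≀ᵣ Multiplicative (ZMod 2), inferInstance, inferInstance, wreath_solvable, ?_⟩
    have hσ : (Multiplicative.ofAdd (1 : ZMod 2)) ≠ 1 := by decide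
    have h1 : derivedSeries ↥(commutator (S ≀ᵣ Multiplicative (ZMod 2))) d ≠ ⊥ := by
      apply wreath_lift (Subgroup.subtype (commutator (S ≀ᵣ Multiplicative (ZMod 2))))
        (Multiplicative.ofAdd (1 : ZMod 2)) hσ _ d hd
      intro s
      refine ⟨⟨cs (Multiplicative.ofAdd (1 : ZMod 2)) s, ?_⟩, rfl⟩
      have : cs (Multiplicative.ofAdd (1 : ZMod 2)) s
          = ⁅(bs s : S ≀ᵣ Multiplicative (ZMod 2)), inl (Multiplicative.ofAdd (1 : ZMod 2))⁆ := rfl
      rw [this]
      exact Subgroup.commutator_mem_commutator (Subgroup.mem_top _) (Subgroup.mem_top _)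
    intro h
    apply h1
    have h2 := map_derived_le (commutator (S ≀ᵣ Multiplicative (ZMod 2))) 1
      (by rw [derivedSeries_one]) d
    rw [add_comm 1 d, h, le_bot_iff,
      Subgroup.map_eq_bot_iff_of_injective _ (Subgroup.subtype_injective _)] at h2
    exact h2

theorem a5_noncomm : ∃ a b : ↥(alternatingGroup (Fin 5)), a * b ≠ b * a := by
  have ha : (Equiv.swap (0 : Fin 5) 1 * Equiv.swap 1 2) ∈ alternatingGroup (Fin 5) := by
    rw [Equiv.Perm.mem_alternatingGroup, map_mul, Equiv.Perm.sign_swap (by decide),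
      Equiv.Perm.sign_swap (by decide)]
    rfl
  have hb : (Equiv.swap (0 : Fin 5) 1 * Equiv.swap 1 3) ∈ alternatingGroup (Fin 5) := by
    rw [Equiv.Perm.mem_alternatingGroup, map_mul, Equiv.Perm.sign_swap (by decide),
      Equiv.Perm.sign_swap (by decide)]
    rfl
  have key : (Equiv.swap (0 : Fin 5) 1 * Equiv.swap 1 2) * (Equiv.swap (0 : Fin 5) 1 * Equiv.swap 1 3)
      ≠ (Equiv.swap (0 : Fin 5) 1 * Equiv.swap 1 3) * (Equiv.swap (0 : Fin 5) 1 * Equiv.swap 1 2) := by
    decide
  exact ⟨⟨_, ha⟩, ⟨_, hb⟩, fun h => key (congrArg Subtype.val h)⟩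

theorem a5_perfect : commutator ↥(alternatingGroup (Fin 5)) = ⊤ := by
  have hsimple : IsSimpleGroup ↥(alternatingGroup (Fin 5)) := alternatingGroup.isSimpleGroup (by simp)
  rcases (inferInstance : (commutator ↥(alternatingGroup (Fin 5))).Normal).eq_bot_or_eq_top with h | h
  · exfalso
    obtain ⟨a, b, hab⟩ := a5_noncomm
    apply hab
    have h1 : ⁅a, b⁆ ∈ commutator ↥(alternatingGroup (Fin 5)) :=
      Subgroup.commutator_mem_commutator (Subgroup.mem_top _) (Subgroup.mem_top _)
    rw [h, Subgroup.mem_bot] at h1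
    exact commutatorElement_eq_one_iff_mul_comm.mp h1
  · exact h

theorem a5_ne : ∃ σ : ↥(alternatingGroup (Fin 5)), σ ≠ 1 := by
  obtain ⟨a, b, hab⟩ := a5_noncomm
  by_contra hcon
  push Not at hcon
  apply hab
  rw [hcon a, hcon b]

theorem exists_M : ∃ M : Subgroup ↥(alternatingGroup (Fin 5)), IsCoatom M ∧ Group.IsSolvable ↥M := by
  have h3 : 3 ≤ Nat.card (Fin 5) := by simp
  refine ⟨MulAction.stabilizer ↥(alternatingGroup (Fin 5)) ({0} : Set (Fin 5)),
    alternatingGroup.isCoatom_stabilizer_singleton h3 (Set.singleton_nonempty 0)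
      Set.subsingleton_singleton, ?_⟩
  rw [MulAction.stabilizer_singleton]
  have := alternatingGroup.isPretransitive_of_three_le_card (Fin 5) h3
  have hidx := MulAction.index_stabilizer_of_transitive ↥(alternatingGroup (Fin 5)) (0 : Fin 5)
  have hcard : Nat.card ↥(alternatingGroup (Fin 5)) = 60 := by
    rw [nat_card_alternatingGroup]
    simp [Nat.factorial]
  have hmul := Subgroup.card_mul_index (MulAction.stabilizer ↥(alternatingGroup (Fin 5)) (0 : Fin 5))
  have hidx5 : (MulAction.stabilizer ↥(alternatingGroup (Fin 5)) (0 : Fin 5)).index = 5 := by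
    rw [hidx]
    simp
  rw [hidx5, hcard] at hmul
  have h12 : Nat.card ↥(MulAction.stabilizer ↥(alternatingGroup (Fin 5)) (0 : Fin 5)) = 2 ^ 2 * 3 := by
    omega
  exact Cfsg.Agent.Lib.Helper1.solvable_of_card_pm_q 2 3 2 Nat.prime_two Nat.prime_three h12

theorem result (d : ℕ) :
    ∃ (G : Type) (_ : Group G) (_ : Finite G) (H : Subgroup G), commutator G = ⊤ ∧ IsCoatom H ∧ Group.IsSolvable H ∧
      derivedSeries H d ≠ ⊥ := by
  classical
  obtain ⟨S, hSG, hSF, hSsol, hSd⟩ := exists_solvable d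
  obtain ⟨M, hMco, hMsol⟩ := exists_M
  obtain ⟨σ, hσ⟩ := a5_ne
  obtain ⟨N, hN⟩ : ∃ N : Subgroup (S ≀ᵣ ↥(alternatingGroup (Fin 5))),
      N = Subgroup.normalClosure (Set.range (inl : ↥(alternatingGroup (Fin 5)) →* S ≀ᵣ ↥(alternatingGroup (Fin 5)))) :=
    ⟨_, rfl⟩
  have hNn : N.Normal := by rw [hN]; exact Subgroup.normalClosure_normal
  have hinl : ∀ p : ↥(alternatingGroup (Fin 5)), (inl p : S ≀ᵣ ↥(alternatingGroup (Fin 5))) ∈ N := by
    intro p
    rw [hN]
    exact Subgroup.subset_normalClosure ⟨p, rfl⟩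
  obtain ⟨f, hfdef⟩ : ∃ f : ↥N →* ↥(alternatingGroup (Fin 5)),
      f = (rightHom : S ≀ᵣ ↥(alternatingGroup (Fin 5)) →* ↥(alternatingGroup (Fin 5))).comp N.subtype := ⟨_, rfl⟩
  have hfapp : ∀ x : ↥N, f x = x.1.right := by
    intro x
    rw [hfdef]
    rfl
  have hf : Function.Surjective f := by
    intro p
    exact ⟨⟨inl p, hinl p⟩, by rw [hfapp]; rfl⟩
  refine ⟨↥N, inferInstance, inferInstance, M.comap f, ?_, isCoatom_comap f hf M hMco, ?_, ?_⟩
  · have hle : N ≤ ⁅N, N⁆ := by
      conv_lhs => rw [hN]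
      unfold Subgroup.normalClosure
      rw [Subgroup.closure_le]
      intro x hx
      obtain ⟨y, ⟨p, rfl⟩, hconj⟩ := Group.mem_conjugatesOfSet_iff.mp hx
      obtain ⟨w, hw⟩ := isConj_iff.mp hconj
      let φ : ↥(alternatingGroup (Fin 5)) →* S ≀ᵣ ↥(alternatingGroup (Fin 5)) :=
        (MulAut.conj w).toMonoidHom.comp inl
      have hφ : ∀ q, φ q ∈ N := by
        intro q
        show w * inl q * w⁻¹ ∈ N
        exact hNn.conj_mem _ (hinl q) w
      have hrange : Subgroup.map φ ⊤ ≤ N := by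
        rintro _ ⟨q, -, rfl⟩
        exact hφ q
      have hx' : x ∈ Subgroup.map φ (commutator ↥(alternatingGroup (Fin 5))) := by
        rw [a5_perfect]
        exact ⟨p, Subgroup.mem_top _, hw⟩
      rw [commutator_def, Subgroup.map_commutator] at hx'
      exact Subgroup.commutator_mono hrange hrange hx'
    have heq : ⁅N, N⁆ = N := le_antisymm N.commutator_le_self hle
    have h1 := Subgroup.map_subtype_commutator N
    rw [heq] at h1
    apply Subgroup.map_injective N.subtype_injective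
    rw [h1, ← MonoidHom.range_eq_map, Subgroup.range_subtype]
  · haveI := hMsol
    have hSs := hSsol
    have hcs : Group.IsSolvable ↥(M.comap (rightHom : S ≀ᵣ ↥(alternatingGroup (Fin 5)) →* ↥(alternatingGroup (Fin 5)))) :=
      comap_solvable M
    let j : ↥(M.comap f) →* ↥(M.comap (rightHom : S ≀ᵣ ↥(alternatingGroup (Fin 5)) →* ↥(alternatingGroup (Fin 5)))) :=
      (N.subtype.comp (M.comap f).subtype).codRestrict _ (fun x => by
        have := x.2
        rw [Subgroup.mem_comap, hfapp] at this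
        exact this)
    have hinj : Function.Injective j := by
      intro x y hxy
      have := congrArg Subtype.val hxy
      exact Subtype.ext (Subtype.ext this)
    exact @Group.isSolvable_of_isSolvable_injective _ _ _ _ j hinj hcs
  · apply wreath_lift (N.subtype.comp (M.comap f).subtype) σ hσ _ d hSd
    intro s
    have hcN : cs σ s ∈ N := by
      unfold cs
      exact N.mul_mem (hNn.conj_mem _ (hinl σ) _) (N.inv_mem (hinl σ))
    refine ⟨⟨⟨cs σ s, hcN⟩, ?_⟩, rfl⟩
    rw [Subgroup.mem_comap, hfapp]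
    show (cs σ s).right ∈ M
    rw [cs_right]
    exact M.one_mem

end main

end Cfsg.Agent.S5896
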