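import Cfsg.Statements.S5902
import Cfsg.Agent.S5901

set_option autoImplicit false
open Cfsg

namespace Cfsg.Agent.S5902

theorem interval_complemented {G : Type*} [Group G] (X : Subgroup G)
    (hK : ComplementedLattice (Subgroup X)) (Y : Subgroup G) (hY : Y ≤ X) :
    ∃ C : Subgroup G, ⊥ ≤ C ∧ C ≤ X ∧ Y ⊔ C = X ∧ Y ⊓ C = ⊥ := by
  obtain ⟨C', hC'⟩ := hK.exists_isCompl (Y.subgroupOf X)
  refine ⟨C'.map X.subtype, bot_le, ?_, ?_, ?_⟩
  · exact Subgroup.map_subtype_le C'
  · have h1 : (Y.subgroupOf X ⊔ C').map X.subtype = X := by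
      rw [hC'.sup_eq_top, ← MonoidHom.range_eq_map, Subgroup.range_subtype]
    rw [Subgroup.map_sup, Subgroup.map_subgroupOf_eq_of_le hY] at h1
    exact h1
  · have h1 : (Y.subgroupOf X ⊓ C').map X.subtype = ⊥ := by
      rw [hC'.inf_eq_bot, Subgroup.map_bot]
    rw [Subgroup.map_inf _ _ _ (Subgroup.subtype_injective X), Subgroup.map_subgroupOf_eq_of_le hY] at h1
    exact h1

theorem compl_of_not_le {G : Type*} [Group G] [Finite G] (X M : Subgroup G)
    (hK : ComplementedLattice (Subgroup X))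
    (hM : IsCoatom M) (hXM : X ≤ M) (huniq : ∀ M' : Subgroup G, IsCoatom M' → X ≤ M' → M' = M)
    (H : Subgroup G) (hH : ¬ H ≤ M) : ∃ C : Subgroup G, H ⊔ C = ⊤ ∧ H ⊓ C = ⊥ := by
  refine Cfsg.Agent.S5901.result ⊥ X M bot_le ?_ ?_ hM hXM huniq H hH (inf_bot_eq H)
  · rintro rfl
    exact hM.1 (top_le_iff.mp hXM)
  · intro Y _ hYX
    exact interval_complemented X hK Y hYX

theorem compl_of_not_le_core {G : Type*} [Group G] [Finite G] (X M : Subgroup G)
    (hK : ComplementedLattice (Subgroup X))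
    (hM : IsCoatom M) (hXM : X ≤ M) (huniq : ∀ M' : Subgroup G, IsCoatom M' → X ≤ M' → M' = M)
    (H : Subgroup G) (hH : ¬ H ≤ M.normalCore) : ∃ C : Subgroup G, H ⊔ C = ⊤ ∧ H ⊓ C = ⊥ := by
  have hb : ∃ b : G, ¬ H.map (MulAut.conj b).toMonoidHom ≤ M := by
    by_contra hcon
    push Not at hcon
    apply hH
    intro h hh b
    exact hcon b ⟨h, hh, rfl⟩
  obtain ⟨b, hb⟩ := hb
  obtain ⟨C', h1, h2⟩ := compl_of_not_le X M hK hM hXM huniq _ hb
  refine ⟨C'.map (MulAut.conj b⁻¹).toMonoidHom, ?_, ?_⟩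
  · have h3 := congrArg (Subgroup.map (MulAut.conj b⁻¹).toMonoidHom) h1
    rw [Subgroup.map_sup, Subgroup.map_map] at h3
    have h4 : (MulAut.conj b⁻¹).toMonoidHom.comp (MulAut.conj b).toMonoidHom = MonoidHom.id G := by
      ext x; simp [mul_assoc]
    rw [h4, Subgroup.map_id] at h3
    rw [h3]
    exact (Subgroup.map_top_of_surjective _ (MulAut.conj b⁻¹).surjective)
  · have h3 := congrArg (Subgroup.map (MulAut.conj b⁻¹).toMonoidHom) h2
    rw [Subgroup.map_inf _ _ _ (MulAut.conj b⁻¹).injective, Subgroup.map_map] at h3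
    have h4 : (MulAut.conj b⁻¹).toMonoidHom.comp (MulAut.conj b).toMonoidHom = MonoidHom.id G := by
      ext x; simp [mul_assoc]
    rw [h4, Subgroup.map_id] at h3
    rw [h3, Subgroup.map_bot]

theorem quotient_complemented {G : Type*} [Group G] (N : Subgroup G) [N.Normal]
    (h : ∀ H : Subgroup G, ¬ H ≤ N → ∃ C : Subgroup G, H ⊔ C = ⊤ ∧ H ⊓ C = ⊥) :
    ComplementedLattice (Subgroup (G ⧸ N)) := by
  refine ⟨fun A => ?_⟩
  by_cases hA : A = ⊥
  · subst hA
    exact ⟨⊤, isCompl_bot_top⟩
  · have hH : ¬ A.comap (QuotientGroup.mk' N) ≤ N := by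
      intro hle
      apply hA
      rw [eq_bot_iff]
      intro x hx
      obtain ⟨g, rfl⟩ := QuotientGroup.mk'_surjective N x
      have : g ∈ N := hle hx
      rw [Subgroup.mem_bot]
      exact (QuotientGroup.eq_one_iff g).mpr this
    obtain ⟨C, h1, h2⟩ := h _ hH
    refine ⟨C.map (QuotientGroup.mk' N), ?_⟩
    rw [isCompl_iff, disjoint_iff, codisjoint_iff]
    constructor
    · rw [eq_bot_iff]
      rintro x ⟨hxA, c, hc, rfl⟩
      have : c ∈ A.comap (QuotientGroup.mk' N) ⊓ C := ⟨hxA, hc⟩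
      rw [h2, Subgroup.mem_bot] at this
      subst this
      simp
    · have h3 := congrArg (Subgroup.map (QuotientGroup.mk' N)) h1
      rw [Subgroup.map_sup, Subgroup.map_comap_eq_self_of_surjective (QuotientGroup.mk'_surjective N),
        Subgroup.map_top_of_surjective _ (QuotientGroup.mk'_surjective N)] at h3
      exact h3


/-- Let G be a finite group, X a subgroup whose own subgroup lattice is complemented, and suppose X lies in exactly one maximal subgroup M of G. Then every subgroup H of G not contained in the normal core of M has a complement in the subgroup lattice of G (some C with H ⊔ C = G and H ⊓ C = 1); in particular the subgroup lattice of G modulo the normal core of M is complemented. -/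
theorem result {G : Type*} [Group G] [Finite G] (X M : Subgroup G)
    (hK : ComplementedLattice (Subgroup X))
    (hM : IsCoatom M) (hXM : X ≤ M) (huniq : ∀ M' : Subgroup G, IsCoatom M' → X ≤ M' → M' = M) :
    (∀ H : Subgroup G, ¬ H ≤ M.normalCore → ∃ C : Subgroup G, H ⊔ C = ⊤ ∧ H ⊓ C = ⊥) ∧
    ComplementedLattice (Subgroup (G ⧸ M.normalCore)) := by
  refine ⟨fun H hH => compl_of_not_le_core X M hK hM hXM huniq H hH, ?_⟩
  exact quotient_complemented M.normalCore (fun H hH => compl_of_not_le_core X M hK hM hXM huniq H hH)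

end Cfsg.Agent.S5902
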