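import Cfsg.Statements.S5903
import Cfsg.Agent.S5901

set_option autoImplicit false
open Cfsg

namespace Cfsg.Agent.S5903

theorem interval_complemented {G : Type*} [Group G] (X N : Subgroup G) (hNX : N ≤ X)
    [(N.subgroupOf X).Normal] (hK : ComplementedLattice (Subgroup (X ⧸ N.subgroupOf X)))
    (Y : Subgroup G) (hNY : N ≤ Y) (hY : Y ≤ X) :
    ∃ C : Subgroup G, N ≤ C ∧ C ≤ X ∧ Y ⊔ C = X ∧ Y ⊓ C = N := by
  set π := QuotientGroup.mk' (N.subgroupOf X) with hπ
  have hπs : Function.Surjective π := QuotientGroup.mk'_surjective _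
  have hker : π.ker = N.subgroupOf X := QuotientGroup.ker_mk' _
  obtain ⟨B, hB⟩ := hK.exists_isCompl ((Y.subgroupOf X).map π)
  have hY' : π.ker ≤ Y.subgroupOf X := by
    rw [hker]; exact Subgroup.subgroupOf_mono X hNY
  have hcm : ((Y.subgroupOf X).map π).comap π = Y.subgroupOf X := Subgroup.comap_map_eq_self hY'
  have hsup : Y.subgroupOf X ⊔ B.comap π = ⊤ := by
    rw [← hcm, Subgroup.comap_sup_eq π _ _ hπs, hB.sup_eq_top, Subgroup.comap_top]
  have hinf : Y.subgroupOf X ⊓ B.comap π = N.subgroupOf X := by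
    rw [← hcm, ← Subgroup.comap_inf, hB.inf_eq_bot]
    exact hker
  have hNC : N.subgroupOf X ≤ B.comap π := by
    exact (le_of_eq hker.symm).trans (Subgroup.ker_le_comap π B)
  refine ⟨(B.comap π).map X.subtype, ?_, Subgroup.map_subtype_le _, ?_, ?_⟩
  · exact (le_of_eq (Subgroup.map_subgroupOf_eq_of_le hNX).symm).trans (Subgroup.map_mono hNC)
  · have h1 := congrArg (Subgroup.map X.subtype) hsup
    rw [Subgroup.map_sup, Subgroup.map_subgroupOf_eq_of_le hY, ← MonoidHom.range_eq_map,
      Subgroup.range_subtype] at h1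
    exact h1
  · have h1 := congrArg (Subgroup.map X.subtype) hinf
    rw [Subgroup.map_inf _ _ _ (Subgroup.subtype_injective X), Subgroup.map_subgroupOf_eq_of_le hY,
      Subgroup.map_subgroupOf_eq_of_le hNX] at h1
    exact h1


theorem exists_conj {G : Type*} [Group G] [Finite G] [IsSimpleGroup G] (M N H : Subgroup G)
    (hM : IsCoatom M) (hN : (Nat.card N).Prime) (hcen : ∀ n ∈ N, ∀ m ∈ M, m * n = n * m)
    (hHbot : H ≠ ⊥) (hHtop : H ≠ ⊤) :
    ∃ g : G, ¬ H.map (MulAut.conj g).toMonoidHom ≤ M ∧ ¬ N ≤ H.map (MulAut.conj g).toMonoidHom := by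
  by_contra hcon
  push Not at hcon
  -- dichotomy for conjugates of N
  have hdich : ∀ g : G, (∀ n ∈ N, g * n * g⁻¹ ∈ H) ∨ (∀ n ∈ N, ∀ h ∈ H, h * (g * n * g⁻¹) = (g * n * g⁻¹) * h) := by
    intro g
    by_cases hg : H.map (MulAut.conj g⁻¹).toMonoidHom ≤ M
    · right
      intro n hn h hh
      have hm : g⁻¹ * h * g ∈ M := hg ⟨h, hh, by simp⟩
      have := hcen n hn _ hm
      calc h * (g * n * g⁻¹) = g * ((g⁻¹ * h * g) * n) * g⁻¹ := by group
        _ = g * (n * (g⁻¹ * h * g)) * g⁻¹ := by rw [this]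
        _ = (g * n * g⁻¹) * h := by group
    · left
      intro n hn
      obtain ⟨h, hh, hx⟩ := hcon g⁻¹ hg hn
      have : g * n * g⁻¹ = h := by
        rw [← hx]; simp [mul_assoc]
      rw [this]; exact hh
  -- the subgroup generated by conjugates of N inside H
  set A : Set G := {x | ∃ g : G, (∀ n ∈ N, g * n * g⁻¹ ∈ H) ∧ ∃ n ∈ N, x = g * n * g⁻¹} with hA
  have hAH : A ⊆ H := by
    rintro x ⟨g, hg, n, hn, rfl⟩
    exact hg n hn
  have hH1 : Subgroup.closure A ≤ H := (Subgroup.closure_le H).mpr hAH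
  have hnorm : ∀ g : G, ∀ n ∈ N, g * n * g⁻¹ ∈ Subgroup.normalizer ((Subgroup.closure A : Subgroup G) : Set G) := by
    intro g n hn
    apply Subgroup.mem_normalizer_fintype
    intro z hz
    rcases hdich g with hP | hQ
    · -- y = g n g⁻¹ ∈ H
      have hy : g * n * g⁻¹ ∈ H := hP n hn
      have key : ∀ w ∈ Subgroup.closure A, (g * n * g⁻¹) * w * (g * n * g⁻¹)⁻¹ ∈ Subgroup.closure A := by
        intro w hw
        induction hw using Subgroup.closure_induction with
        | mem x hx =>
          apply Subgroup.subset_closure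
          obtain ⟨g', hg', n', hn', rfl⟩ := hx
          refine ⟨(g * n * g⁻¹) * g', ?_, n', hn', by group⟩
          intro n'' hn''
          have : (g * n * g⁻¹) * g' * n'' * ((g * n * g⁻¹) * g')⁻¹ = (g * n * g⁻¹) * (g' * n'' * g'⁻¹) * (g * n * g⁻¹)⁻¹ := by group
          rw [this]
          exact H.mul_mem (H.mul_mem hy (hg' n'' hn'')) (H.inv_mem hy)
        | one => simp
        | mul a b _ _ ha hb =>
          have : (g * n * g⁻¹) * (a * b) * (g * n * g⁻¹)⁻¹ = ((g * n * g⁻¹) * a * (g * n * g⁻¹)⁻¹) * ((g * n * g⁻¹) * b * (g * n * g⁻¹)⁻¹) := by group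
          rw [this]
          exact Subgroup.mul_mem _ ha hb
        | inv a _ ha =>
          have : (g * n * g⁻¹) * a⁻¹ * (g * n * g⁻¹)⁻¹ = ((g * n * g⁻¹) * a * (g * n * g⁻¹)⁻¹)⁻¹ := by group
          rw [this]
          exact Subgroup.inv_mem _ ha
      exact key z hz
    · have hzH : z ∈ H := hH1 hz
      have := hQ n hn z hzH
      have h2 : (g * n * g⁻¹) * z * (g * n * g⁻¹)⁻¹ = z := by
        rw [← this]; group
      rw [h2]; exact hz
  have hNne : N ≠ ⊥ := by
    rintro rfl
    simp at hN
    exact Nat.not_prime_one hN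
  have hncl : Subgroup.normalClosure (N : Set G) = ⊤ := by
    rcases (Subgroup.normalClosure_normal (s := (N : Set G))).eq_bot_or_eq_top with h | h
    · exfalso
      apply hNne
      rw [eq_bot_iff, ← h]
      exact Subgroup.le_normalClosure
    · exact h
  have hle : Subgroup.normalClosure (N : Set G) ≤ Subgroup.normalizer ((Subgroup.closure A : Subgroup G) : Set G) := by
    rw [Subgroup.normalClosure, Subgroup.closure_le]
    intro x hx
    rw [Group.mem_conjugatesOfSet_iff] at hx
    obtain ⟨n, hn, hc⟩ := hx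
    rw [isConj_iff] at hc
    obtain ⟨c, rfl⟩ := hc
    exact hnorm c n hn
  rw [hncl, top_le_iff, Subgroup.normalizer_eq_top_iff] at hle
  rcases hle.eq_bot_or_eq_top with h | h
  · -- no conjugate of N inside H, so H centralized by all conjugates, H ≤ core M
    have hQ : ∀ g : G, ∀ n ∈ N, ∀ h ∈ H, h * (g * n * g⁻¹) = (g * n * g⁻¹) * h := by
      intro g
      rcases hdich g with hP | hQ
      · exfalso
        apply hNne
        rw [eq_bot_iff]
        intro n hn
        have : g * n * g⁻¹ ∈ Subgroup.closure A := Subgroup.subset_closure ⟨g, hP, n, hn, rfl⟩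
        rw [h, Subgroup.mem_bot] at this
        rw [Subgroup.mem_bot]
        have h3 : n = g⁻¹ * (g * n * g⁻¹) * g := by group
        rw [h3, this]; group
      · exact hQ
    -- H ≤ centralizer of normal closure = center = ⊥
    have hHc : H ≤ Subgroup.center G := by
      intro h hh
      rw [Subgroup.mem_center_iff]
      intro x
      have hx : x ∈ Subgroup.normalClosure (N : Set G) := by rw [hncl]; trivial
      rw [Subgroup.normalClosure] at hx
      induction hx using Subgroup.closure_induction with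
      | mem y hy =>
        rw [Group.mem_conjugatesOfSet_iff] at hy
        obtain ⟨n, hn, hc⟩ := hy
        rw [isConj_iff] at hc
        obtain ⟨c, rfl⟩ := hc
        exact (hQ c n hn h hh).symm
      | one => simp
      | mul a b _ _ ha hb => rw [mul_assoc, hb, ← mul_assoc, ha, mul_assoc]
      | inv a _ ha =>
        have : a⁻¹ * h = a⁻¹ * (h * a) * a⁻¹ := by group
        rw [this, ← ha]; group
    rcases (inferInstance : (Subgroup.center G).Normal).eq_bot_or_eq_top with hc | hc
    · apply hHbot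
      rw [eq_bot_iff, ← hc]; exact hHc
    · -- G commutative: then M normal, M = ⊥, N ≤ M?? handle: G abelian simple, coatom M = ⊥
      have hMn : M.Normal := by
        constructor
        intro m hm g
        have : g ∈ Subgroup.center G := by rw [hc]; trivial
        rw [Subgroup.mem_center_iff] at this
        rw [← this m, mul_assoc, mul_inv_cancel, mul_one]; exact hm
      rcases hMn.eq_bot_or_eq_top with hMb | hMt
      · -- M = ⊥, H ≠ ⊥, H ≠ ⊤ contradicts coatom
        have : H = ⊤ := by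
          by_contra hne
          have hlt : M < H := by
            rw [hMb]; exact bot_lt_iff_ne_bot.mpr hHbot
          exact hne (hM.2 H hlt)
        exact hHtop this
      · exact hM.1 hMt
  · apply hHtop
    rw [eq_top_iff, ← h]; exact hH1

theorem compl_conj {G : Type*} [Group G] (H : Subgroup G) (b : G)
    (h : ∃ C : Subgroup G, H.map (MulAut.conj b).toMonoidHom ⊔ C = ⊤ ∧ H.map (MulAut.conj b).toMonoidHom ⊓ C = ⊥) :
    ∃ C : Subgroup G, H ⊔ C = ⊤ ∧ H ⊓ C = ⊥ := by
  obtain ⟨C', h1, h2⟩ := h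
  have h4 : (MulAut.conj b⁻¹).toMonoidHom.comp (MulAut.conj b).toMonoidHom = MonoidHom.id G := by
    ext x; simp [mul_assoc]
  refine ⟨C'.map (MulAut.conj b⁻¹).toMonoidHom, ?_, ?_⟩
  · have h3 := congrArg (Subgroup.map (MulAut.conj b⁻¹).toMonoidHom) h1
    rw [Subgroup.map_sup, Subgroup.map_map, h4, Subgroup.map_id] at h3
    rw [h3]
    exact (Subgroup.map_top_of_surjective _ (MulAut.conj b⁻¹).surjective)
  · have h3 := congrArg (Subgroup.map (MulAut.conj b⁻¹).toMonoidHom) h2
    rw [Subgroup.map_inf _ _ _ (MulAut.conj b⁻¹).injective, Subgroup.map_map, h4, Subgroup.map_id] at h3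
    rw [h3, Subgroup.map_bot]


/-- Let G be a finite simple group, X a subgroup lying in exactly one maximal subgroup M of G, and N a subgroup of prime order with N ≤ X that is central in M. If the subgroup lattice of X/N is complemented, then the subgroup lattice of G is complemented. -/
theorem result {G : Type*} [Group G] [Finite G] [IsSimpleGroup G] (X M N : Subgroup G)
    (hM : IsCoatom M) (hXM : X ≤ M) (huniq : ∀ M' : Subgroup G, IsCoatom M' → X ≤ M' → M' = M)
    (hNX : N ≤ X) (hN : (Nat.card N).Prime) (hcen : ∀ n ∈ N, ∀ m ∈ M, m * n = n * m)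
    [(N.subgroupOf X).Normal] (hK : ComplementedLattice (Subgroup (X ⧸ N.subgroupOf X))) :
    ComplementedLattice (Subgroup G) := by
  refine ⟨fun H => ?_⟩
  by_cases hb : H = ⊥
  · subst hb; exact ⟨⊤, isCompl_bot_top⟩
  by_cases ht : H = ⊤
  · subst ht; exact ⟨⊥, isCompl_top_bot⟩
  obtain ⟨g, hg1, hg2⟩ := exists_conj M N H hM hN hcen hb ht
  have hdisj : H.map (MulAut.conj g).toMonoidHom ⊓ N = ⊥ := by
    have : Fact (Nat.card N).Prime := ⟨hN⟩
    rcases ((H.map (MulAut.conj g).toMonoidHom).subgroupOf N).eq_bot_or_eq_top_of_prime_card with h | h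
    · rw [Subgroup.subgroupOf_eq_bot] at h
      exact disjoint_iff.mp h
    · rw [Subgroup.subgroupOf_eq_top] at h
      exact absurd h hg2
  have hXtop : X ≠ ⊤ := by
    rintro rfl
    exact hM.1 (top_le_iff.mp hXM)
  have hc := Cfsg.Agent.S5901.result N X M hNX hXtop
    (fun Y hNY hYX => interval_complemented X N hNX hK Y hNY hYX) hM hXM huniq _ hg1 hdisj
  obtain ⟨C, h1, h2⟩ := compl_conj H g hc
  exact ⟨C, isCompl_iff.mpr ⟨disjoint_iff.mpr h2, codisjoint_iff.mpr h1⟩⟩

end Cfsg.Agent.S5903
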