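import Cfsg.Statements.S5904
-- import your own Cfsg.Agent.* helpers here

set_option autoImplicit false
open scoped Pointwise
open Cfsg

namespace Cfsg.Agent.S5904
open scoped Pointwise

def pairStab {Ω : Type*} (O : Set Ω) : Subgroup (Equiv.Perm Ω) where
  carrier := {σ | σ • O = O ∨ σ • O = Oᶜ}
  one_mem' := Or.inl (one_smul _ _)
  mul_mem' := by
    rintro a b ha hb
    simp only [Set.mem_ofPred_eq] at ha hb ⊢
    rw [mul_smul]
    rcases hb with hb | hb <;> rcases ha with ha | ha
    · left; rw [hb, ha]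
    · right; rw [hb, ha]
    · right; rw [hb, Set.smul_set_compl, ha]
    · left; rw [hb, Set.smul_set_compl, ha, compl_compl]
  inv_mem' := by
    rintro a ha
    simp only [Set.mem_ofPred_eq] at ha ⊢
    rcases ha with ha | ha
    · left; rw [inv_smul_eq_iff, ha]
    · right
      rw [inv_smul_eq_iff, Set.smul_set_compl, ha, compl_compl]

theorem exists_swap {Ω : Type*} [Fintype Ω] [DecidableEq Ω] (O : Set Ω) (hO : Nat.card O = Nat.card ↥Oᶜ) :
    ∃ σ : Equiv.Perm Ω, σ • O = Oᶜ := by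
  classical
  obtain ⟨e⟩ : Nonempty (O ≃ ↥Oᶜ) := by
    rw [Nat.card_eq_fintype_card, Nat.card_eq_fintype_card] at hO
    exact Fintype.card_eq.mp hO
  let σ : Equiv.Perm Ω := (Equiv.Set.sumCompl O).symm.trans
    ((Equiv.sumCongr e e.symm).trans ((Equiv.sumComm _ _).trans (Equiv.Set.sumCompl O)))
  refine ⟨σ, ?_⟩
  ext y
  constructor
  · rintro ⟨x, hx, rfl⟩
    show σ x ∈ Oᶜ
    simp only [σ, Equiv.trans_apply, Equiv.Set.sumCompl_symm_apply_of_mem hx, Equiv.sumCongr_apply,
      Sum.map_inl, Equiv.sumComm_apply, Sum.swap_inl, Equiv.Set.sumCompl_apply_inr]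
    exact (e ⟨x, hx⟩).2
  · intro hy
    refine ⟨(e.symm ⟨y, hy⟩ : Ω), (e.symm ⟨y, hy⟩).2, ?_⟩
    show σ _ = y
    simp only [σ, Equiv.trans_apply, Equiv.Set.sumCompl_symm_apply_of_mem (e.symm ⟨y, hy⟩).2,
      Equiv.sumCongr_apply, Sum.map_inl, Equiv.sumComm_apply, Sum.swap_inl,
      Equiv.Set.sumCompl_apply_inr, Subtype.coe_eta, Equiv.apply_symm_apply]


/-- Let Ω be a finite set with more than two elements and O ⊆ Ω a subset with exactly as many elements as its complement. Then the setwise stabilizer of O in the symmetric group on Ω is not a maximal subgroup (it is properly contained in the stabilizer of the partition {O, Ω ∖ O}, which is proper). -/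
theorem result {Ω : Type*} [Fintype Ω] [DecidableEq Ω] (hΩ : 2 < Fintype.card Ω)
    (O : Set Ω) (hO : Nat.card O = Nat.card ↥Oᶜ) :
    ¬ IsCoatom (MulAction.stabilizer (Equiv.Perm Ω) O) := by
  classical
  intro hco
  -- sizes
  have hsum : Nat.card O + Nat.card ↥Oᶜ = Fintype.card Ω := by
    rw [Nat.card_coe_set_eq, Nat.card_coe_set_eq, Set.ncard_add_ncard_compl, Nat.card_eq_fintype_card]
  have hO2 : 2 ≤ Nat.card O := by omega
  have hOc2 : 2 ≤ Nat.card ↥Oᶜ := by omega
  rw [Nat.card_coe_set_eq] at hO2 hOc2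
  obtain ⟨a, a', ha, ha', haa'⟩ := (Set.one_lt_ncard_iff (Set.toFinite O)).mp (by omega)
  obtain ⟨b, -, hb, -, -⟩ := (Set.one_lt_ncard_iff (Set.toFinite Oᶜ)).mp (by omega)
  have hle : MulAction.stabilizer (Equiv.Perm Ω) O ≤ pairStab O := by
    intro σ hσ
    exact Or.inl hσ
  obtain ⟨σ, hσ⟩ := exists_swap O hO
  have hlt : MulAction.stabilizer (Equiv.Perm Ω) O < pairStab O := by
    refine lt_of_le_of_ne hle ?_
    intro heq
    have hmem : σ ∈ pairStab O := Or.inr hσ
    rw [← heq, MulAction.mem_stabilizer_iff, hσ] at hmem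
    have : a ∈ Oᶜ := by rw [hmem]; exact ha
    exact this ha
  have htop := hco.2 _ hlt
  have hmem : Equiv.swap a b ∈ pairStab O := by rw [htop]; trivial
  have hb' : b ∈ (Equiv.swap a b) • O := ⟨a, ha, by simp⟩
  have ha'' : a' ∈ (Equiv.swap a b) • O := by
    refine ⟨a', ha', ?_⟩
    have h2 : a' ≠ b := fun h => hb (h ▸ ha')
    simp [Equiv.swap_apply_of_ne_of_ne haa'.symm h2]
  rcases hmem with h | h
  · rw [h] at hb'; exact hb hb'
  · rw [h] at ha''; exact ha'' ha'

end Cfsg.Agent.S5904
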