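import Cfsg.Statements.S5908
import Cfsg.Agent.S0827

set_option autoImplicit false
open Cfsg

namespace Cfsg.Agent.S5908

/-- the centre `{1, a 2}` of `Q₈` -/
def Zc : Subgroup (QuaternionGroup 2) where
  carrier := {g | g = 1 ∨ g = QuaternionGroup.a 2}
  one_mem' := Or.inl rfl
  mul_mem' := by
    rintro a b (rfl | rfl) (rfl | rfl)
    · left; decide
    · right; decide
    · right; decide
    · left; decide
  inv_mem' := by
    rintro a (rfl | rfl)
    · left; decide
    · right; decide

theorem key : ∀ g : QuaternionGroup 2, g = 1 ∨ g = QuaternionGroup.a 2 ∨ g ^ 2 = QuaternionGroup.a 2 := by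
  decide

/-- a group with a quotient `Q₈` does not have a complemented subgroup lattice -/
theorem not_complemented_of_surj {G : Type*} [Group G] (π : G →* QuaternionGroup 2)
    (hπ : Function.Surjective π) : ¬ ComplementedLattice (Subgroup G) := by
  intro hc
  obtain ⟨H, hH⟩ : ∃ H : Subgroup G, H = Zc.comap π := ⟨_, rfl⟩
  have hmem : ∀ x, x ∈ H ↔ (π x = 1 ∨ π x = QuaternionGroup.a 2) := by
    intro x
    rw [hH]
    rfl
  obtain ⟨X, hX⟩ := hc.exists_isCompl H
  have hdisj : H ⊓ X = ⊥ := hX.inf_eq_bot
  have hsup : H ⊔ X = ⊤ := hX.sup_eq_top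
  by_cases h2 : ∃ x ∈ X, π x = QuaternionGroup.a 2
  · obtain ⟨x, hx, hπx⟩ := h2
    have hxH : x ∈ H := (hmem x).mpr (Or.inr hπx)
    have hx1 : x ∈ H ⊓ X := ⟨hxH, hx⟩
    rw [hdisj, Subgroup.mem_bot] at hx1
    rw [hx1, map_one] at hπx
    exact absurd hπx (by decide)
  · push Not at h2
    have hXH : X ≤ H := by
      intro x hx
      rw [hmem]
      left
      rcases key (π x) with h | h | h
      · exact h
      · exact absurd h (h2 x hx)
      · exact absurd (by rw [map_pow, h]) (h2 (x ^ 2) (X.pow_mem hx 2))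
    have hHtop : H = ⊤ := by
      rw [← hsup]
      exact (sup_eq_left.mpr hXH).symm
    obtain ⟨g, hg⟩ := hπ (QuaternionGroup.a 1)
    have hgH : g ∈ H := by rw [hHtop]; trivial
    rw [hmem, hg] at hgH
    rcases hgH with h | h <;> exact absurd h (by decide)

/-- The subgroup lattice of PSU₃(2) (the solvable group of order 72, realised over the field with 4 elements) is not complemented: some subgroup H has no subgroup X with H ⊔ X = ⊤ and H ⊓ X = ⊥. -/
theorem result {F : Type*} [Field F] [Fintype F] (hF : Fintype.card F = 4) :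
    ¬ ComplementedLattice (Subgroup (Cfsg.PSU 3 F 2)) := by
  obtain ⟨N, hN, -, -, ⟨e⟩⟩ := Cfsg.Agent.S0827.result hF
  exact not_complemented_of_surj (e.toMonoidHom.comp (QuotientGroup.mk' N))
    (e.surjective.comp (QuotientGroup.mk'_surjective N))

end Cfsg.Agent.S5908
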