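import Cfsg.Statements.S5909
import Cfsg.Agent.S5905

set_option autoImplicit false
open Cfsg

namespace Cfsg.Agent.S5909

open Cfsg.Agent.S5905 Equiv Equiv.Perm MulAction

open scoped Pointwise

variable {Ω : Type*} [Fintype Ω] [DecidableEq Ω] {a b : ℕ}

theorem isCoatom_subgroupOf {G : Type*} [Group G] {H A : Subgroup G} (hHA : H ≤ A)
    (hne : ¬ A ≤ H)
    (hmax : ∀ K : Subgroup G, H ≤ K → K ≤ A → ¬ K ≤ H → A ≤ K) :
    IsCoatom (H.subgroupOf A) := by
  constructor
  · rw [Ne, Subgroup.subgroupOf_eq_top]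
    exact hne
  · intro B hB
    obtain ⟨hle, y, hyB, hyH⟩ := SetLike.lt_iff_le_and_exists.1 hB
    have hK1 : H ≤ B.map A.subtype := by
      intro x hx
      exact ⟨⟨x, hHA hx⟩, hle (Subgroup.mem_subgroupOf.2 hx), rfl⟩
    have hK2 : B.map A.subtype ≤ A := by
      rintro _ ⟨z, _, rfl⟩
      exact z.2
    have hK3 : ¬ B.map A.subtype ≤ H := by
      intro h
      exact hyH (Subgroup.mem_subgroupOf.2 (h ⟨y, hyB, rfl⟩))
    have h4 := hmax _ hK1 hK2 hK3
    rw [eq_top_iff]
    intro z _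
    obtain ⟨z', hz'B, hz'⟩ := h4 z.2
    have e : z' = z := Subtype.ext hz'
    rw [← e]
    exact hz'B

theorem inv_ap (g : Perm Ω) (x : Ω) : g⁻¹ (g x) = x := g.symm_apply_apply x

theorem ap_inv (g : Perm Ω) (x : Ω) : g (g⁻¹ x) = x := g.apply_symm_apply x

theorem f_swap (f : Ω → Fin b) {x y : Ω} (h : f x = f y) (u : Ω) : f (swap x y u) = f u := by
  by_cases hx : u = x
  · subst hx
    rw [swap_apply_left]
    exact h.symm
  by_cases hy : u = y
  · subst hy
    rw [swap_apply_right]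
    exact h
  rw [swap_apply_of_ne_of_ne hx hy]

theorem dt_mem (f : Ω → Fin b) {x y p q : Ω} (hxy : x ≠ y) (hfxy : f x = f y) (hpq : p ≠ q)
    (hfpq : f p = f q) : swap x y * swap p q ∈ wr f ⊓ alternatingGroup Ω := by
  refine Subgroup.mem_inf.2 ⟨(wr f).mul_mem (swap_mem f x y hfxy) (swap_mem f p q hfpq), ?_⟩
  rw [mem_alternatingGroup, map_mul, sign_swap hxy, sign_swap hpq]
  rfl

theorem exists_even_lift (f : Ω → Fin b) (hf : ∀ i : Fin b, Nat.card {x : Ω // f x = i} = a)
    {p q : Ω} (hpq : p ≠ q) (hfpq : f p = f q) (σ : Perm (Fin b)) :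
    ∃ h ∈ wr f ⊓ alternatingGroup Ω, ∀ x, f (h x) = σ (f x) := by
  rcases Int.units_eq_one_or (sign (lift f hf σ)) with h1 | h1
  · exact ⟨lift f hf σ, Subgroup.mem_inf.2 ⟨lift_mem f hf σ, mem_alternatingGroup.2 h1⟩,
      f_lift f hf σ⟩
  · refine ⟨lift f hf σ * swap p q,
      Subgroup.mem_inf.2 ⟨(wr f).mul_mem (lift_mem f hf σ) (swap_mem f p q hfpq), ?_⟩, ?_⟩
    · rw [mem_alternatingGroup, map_mul, h1, sign_swap hpq]
      rfl
    · intro x
      rw [Perm.mul_apply, f_lift f hf, f_swap f hfpq]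

theorem exists_ne_fin (hb : 2 ≤ b) (i : Fin b) : ∃ j : Fin b, j ≠ i := by
  by_cases h : i = ⟨0, by omega⟩
  · exact ⟨⟨1, by omega⟩, by rw [h]; intro e; simp [Fin.ext_iff] at e⟩
  · exact ⟨⟨0, by omega⟩, fun e => h e.symm⟩

theorem fib_trans (f : Ω → Fin b)
    (hfib : ∀ i : Fin b, ∃ x y : Ω, x ≠ y ∧ f x = i ∧ f y = i) (hb : 2 ≤ b) (u v : Ω)
    (huv : f u = f v) : ∃ h ∈ wr f ⊓ alternatingGroup Ω, h u = v := by
  by_cases h : u = v
  · exact ⟨1, Subgroup.one_mem _, by rw [h]; rfl⟩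
  · obtain ⟨j, hj⟩ := exists_ne_fin hb (f u)
    obtain ⟨p, q, hpq, hp, hq⟩ := hfib j
    refine ⟨swap u v * swap p q, dt_mem f h huv hpq (by rw [hp, hq]), ?_⟩
    have hup : u ≠ p := fun e => hj (by rw [← hp, e])
    have huq : u ≠ q := fun e => hj (by rw [← hq, e])
    rw [Perm.mul_apply, swap_apply_of_ne_of_ne hup huq, swap_apply_left]

theorem H_trans (f : Ω → Fin b) (hf : ∀ i : Fin b, Nat.card {x : Ω // f x = i} = a)
    (hfib : ∀ i : Fin b, ∃ x y : Ω, x ≠ y ∧ f x = i ∧ f y = i) (hb : 2 ≤ b) (u v : Ω) :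
    ∃ h ∈ wr f ⊓ alternatingGroup Ω, h u = v := by
  obtain ⟨p, q, hpq, hp, hq⟩ := hfib (f u)
  obtain ⟨h₁, hh₁, hf₁⟩ := exists_even_lift f hf hpq (by rw [hp, hq]) (swap (f u) (f v))
  obtain ⟨h₂, hh₂, hf₂⟩ := fib_trans f hfib hb (h₁ u) v (by rw [hf₁, swap_apply_left])
  exact ⟨h₂ * h₁, Subgroup.mul_mem _ hh₂ hh₁, by rw [Perm.mul_apply, hf₂]⟩

theorem block_prop {K : Subgroup (Perm Ω)} {B : Set Ω} (hB : IsBlock K B) (k : Perm Ω)
    (hk : k ∈ K) {x : Ω} (hx : x ∈ B) (hkx : k x ∈ B) {y : Ω} (hy : y ∈ B) : k y ∈ B := by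
  have h1 := (isBlock_iff_smul_eq_of_mem.1 hB) (g := ⟨k, hk⟩) (a := x) hx hkx
  have h2 : (⟨k, hk⟩ : K) • y ∈ (⟨k, hk⟩ : K) • B := Set.smul_mem_smul_set hy
  rw [h1] at h2
  exact h2

theorem K_prim (f : Ω → Fin b) (hf : ∀ i : Fin b, Nat.card {x : Ω // f x = i} = a)
    (hfib : ∀ i : Fin b, ∃ x y : Ω, x ≠ y ∧ f x = i ∧ f y = i) (hb : 2 ≤ b)
    (hpair : ∀ x w : Ω, f x ≠ f w → ∃ p q, p ≠ q ∧ f p = f q ∧ p ≠ x ∧ q ≠ x ∧ f p ≠ f w)
    (K : Subgroup (Perm Ω)) (hHK : wr f ⊓ alternatingGroup Ω ≤ K) (hK : ¬ K ≤ wr f) :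
    IsPreprimitive K Ω := by
  have hpt : IsPretransitive K Ω := ⟨fun x y => by
    obtain ⟨h, hh, hxy⟩ := H_trans f hf hfib hb x y
    exact ⟨⟨h, hHK hh⟩, hxy⟩⟩
  refine ⟨?_⟩
  intro B hB
  rw [IsTrivialBlock, or_iff_not_imp_left]
  intro hns
  rw [Set.not_subsingleton_iff] at hns
  obtain ⟨x, hx, y, hy, hxy⟩ := hns
  have S1 : ∀ x y z, x ∈ B → y ∈ B → x ≠ y → f x = f y → f z = f x → z ∈ B := by
    intro x y z hx hy hxy hfxy hfz
    by_cases hzx : z = x
    · rw [hzx]
      exact hx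
    by_cases hzy : z = y
    · rw [hzy]
      exact hy
    obtain ⟨j, hj⟩ := exists_ne_fin hb (f x)
    obtain ⟨p, q, hpq, hp, hq⟩ := hfib j
    have hh := hHK (dt_mem f (Ne.symm hzy) (by rw [← hfxy, hfz]) hpq (by rw [hp, hq]))
    have hxp : x ≠ p := fun e => hj (by rw [← hp, e])
    have hxq : x ≠ q := fun e => hj (by rw [← hq, e])
    have hyp : y ≠ p := fun e => hj (by rw [← hp, ← e, hfxy])
    have hyq : y ≠ q := fun e => hj (by rw [← hq, ← e, hfxy])
    have e1 : (swap y z * swap p q) x = x := by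
      rw [Perm.mul_apply, swap_apply_of_ne_of_ne hxp hxq,
        swap_apply_of_ne_of_ne hxy (Ne.symm hzx)]
    have e2 : (swap y z * swap p q) y = z := by
      rw [Perm.mul_apply, swap_apply_of_ne_of_ne hyp hyq, swap_apply_left]
    have h3 := block_prop hB _ hh hx (by rw [e1]; exact hx) hy
    rw [e2] at h3
    exact h3
  have S2 : ∀ x w w', x ∈ B → w ∈ B → f x ≠ f w → f w' = f w → w' ∈ B := by
    intro x w w' hx hw hxw hfw'
    by_cases hww : w' = w
    · rw [hww]
      exact hw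
    obtain ⟨p, q, hpq, hfpq, hpx, hqx, hpw⟩ := hpair x w hxw
    have hh := hHK (dt_mem f (Ne.symm hww) hfw'.symm hpq hfpq)
    have hxw1 : x ≠ w := fun e => hxw (by rw [e])
    have hxw2 : x ≠ w' := fun e => hxw (by rw [e, hfw'])
    have hwp : w ≠ p := fun e => hpw (by rw [e])
    have hwq : w ≠ q := fun e => hpw (by rw [hfpq, e])
    have e1 : (swap w w' * swap p q) x = x := by
      rw [Perm.mul_apply, swap_apply_of_ne_of_ne (Ne.symm hpx) (Ne.symm hqx),
        swap_apply_of_ne_of_ne hxw1 hxw2]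
    have e2 : (swap w w' * swap p q) w = w' := by
      rw [Perm.mul_apply, swap_apply_of_ne_of_ne hwp hwq, swap_apply_left]
    have h3 := block_prop hB _ hh hx (by rw [e1]; exact hx) hw
    rw [e2] at h3
    exact h3
  have U : ∀ z ∈ B, ∀ z', f z' = f z → z' ∈ B := by
    intro z hz z' hz'
    obtain ⟨v, hv, hvz⟩ : ∃ v ∈ B, v ≠ z := by
      by_cases h : x = z
      · exact ⟨y, hy, fun e => hxy (by rw [h, e])⟩
      · exact ⟨x, hx, h⟩
    by_cases hfv : f v = f z
    · exact S1 z v z' hz hv (Ne.symm hvz) hfv.symm hz'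
    · exact S2 v z z' hv hz hfv hz'
  by_cases hcase : ∃ w ∈ B, f w ≠ f x
  · obtain ⟨w, hw, hwx⟩ := hcase
    by_contra hne
    obtain ⟨z, hz⟩ : ∃ z, z ∉ B := by
      by_contra h
      push Not at h
      exact hne (Set.eq_univ_of_forall h)
    have h1 : f z ≠ f x := fun e => hz (U x hx z e)
    have h2 : f z ≠ f w := fun e => hz (U w hw z e)
    obtain ⟨σ, hσ1, hσ2⟩ := exists_perm_two (f x) (f w) (f w) (f z) (Ne.symm hwx) (Ne.symm h2)
    obtain ⟨p, q, hpq, hp, hq⟩ := hfib (f x)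
    obtain ⟨h, hh, hfh⟩ := exists_even_lift f hf hpq (by rw [hp, hq]) σ
    have h3 : h x ∈ B := U w hw _ (by rw [hfh, hσ1])
    have h4 := block_prop hB h (hHK hh) hx h3 hw
    exact hz (U _ h4 z (by rw [hfh, hσ2]))
  · push Not at hcase
    exfalso
    apply hK
    have claim : ∀ g ∈ K, ∀ u v, f u = f v → f (g u) = f (g v) := by
      intro g hg u v huv
      obtain ⟨h, hh, hhx⟩ := H_trans f hf hfib hb x u
      obtain ⟨h', hh', hh'x⟩ := H_trans f hf hfib hb x (g u)
      have hm : h'⁻¹ * g * h ∈ K := K.mul_mem (K.mul_mem (K.inv_mem (hHK hh')) hg) (hHK hh)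
      have hmx : (h'⁻¹ * g * h) x = x := by
        rw [Perm.mul_apply, Perm.mul_apply, hhx, ← hh'x, inv_ap]
      have hv₀ : h⁻¹ v ∈ B := by
        apply U x hx
        rw [(Subgroup.mem_inf.1 hh).1 (h⁻¹ v) x, ap_inv, hhx, huv]
      have h5 := block_prop hB _ hm hx (by rw [hmx]; exact hx) hv₀
      have h6 := hcase _ h5
      rw [Perm.mul_apply, Perm.mul_apply, ap_inv] at h6
      have h7 : f (h'⁻¹ (g v)) = f (h'⁻¹ (g u)) := by
        rw [h6, ← hh'x, inv_ap]
      have h8 := ((Subgroup.mem_inf.1 hh').1 (h'⁻¹ (g v)) (h'⁻¹ (g u))).1 h7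
      rw [ap_inv, ap_inv] at h8
      exact h8.symm
    intro g hg u v
    constructor
    · exact claim g hg u v
    · intro h
      have h9 := claim g⁻¹ (K.inv_mem hg) (g u) (g v) h
      rwa [inv_ap, inv_ap] at h9

theorem fin_avoid (s : Finset (Fin b)) (h : s.card < b) : ∃ l, l ∉ s := by
  have h1 : s.card < (Finset.univ : Finset (Fin b)).card := by
    rw [Finset.card_univ, Fintype.card_fin]
    exact h
  obtain ⟨l, -, hl⟩ := Finset.exists_mem_notMem_of_card_lt_card h1
  exact ⟨l, hl⟩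

theorem fib_card (f : Ω → Fin b) (hf : ∀ i : Fin b, Nat.card {x : Ω // f x = i} = a) (i : Fin b) :
    (Finset.univ.filter (fun x => f x = i)).card = a := by
  rw [← hf i, Nat.card_eq_fintype_card, Fintype.card_subtype]

theorem hpair_a (f : Ω → Fin b) (hf : ∀ i : Fin b, Nat.card {x : Ω // f x = i} = a) (ha : 3 ≤ a)
    (x w : Ω) (hxw : f x ≠ f w) :
    ∃ p q, p ≠ q ∧ f p = f q ∧ p ≠ x ∧ q ≠ x ∧ f p ≠ f w := by
  have h1 : 1 < ((Finset.univ.filter (fun y => f y = f x)).erase x).card := by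
    rw [Finset.card_erase_of_mem (by simp), fib_card f hf]
    omega
  obtain ⟨p, hp, q, hq, hpq⟩ := Finset.one_lt_card.1 h1
  rw [Finset.mem_erase, Finset.mem_filter] at hp hq
  exact ⟨p, q, hpq, by rw [hp.2.2, hq.2.2], hp.1, hq.1, by rw [hp.2.2]; exact hxw⟩

theorem hpair_b (f : Ω → Fin b) (hfib : ∀ i : Fin b, ∃ x y : Ω, x ≠ y ∧ f x = i ∧ f y = i)
    (hb : 3 ≤ b) (x w : Ω) :
    ∃ p q, p ≠ q ∧ f p = f q ∧ p ≠ x ∧ q ≠ x ∧ f p ≠ f w := by
  obtain ⟨l, hl⟩ := fin_avoid ({f x, f w} : Finset (Fin b))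
    (lt_of_le_of_lt Finset.card_le_two (by omega))
  rw [Finset.mem_insert, Finset.mem_singleton, not_or] at hl
  obtain ⟨p, q, hpq, hp, hq⟩ := hfib l
  exact ⟨p, q, hpq, by rw [hp, hq], fun e => hl.1 (by rw [← hp, e]),
    fun e => hl.1 (by rw [← hq, e]), by rw [hp]; exact hl.2⟩

theorem three_cycle_ge (f : Ω → Fin b) (hf : ∀ i : Fin b, Nat.card {x : Ω // f x = i} = a)
    (ha : 3 ≤ a) (i : Fin b) : ∃ g ∈ wr f ⊓ alternatingGroup Ω, IsThreeCycle g := by
  have h1 : 2 < (Finset.univ.filter (fun y => f y = i)).card := by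
    rw [fib_card f hf]
    omega
  obtain ⟨x, y, z, hx, hy, hz, hxy, hxz, hyz⟩ := Finset.two_lt_card_iff.1 h1
  rw [Finset.mem_filter] at hx hy hz
  have h3 := isThreeCycle_swap_mul_swap_same hxy hxz hyz
  exact ⟨swap x y * swap x z, Subgroup.mem_inf.2
    ⟨(wr f).mul_mem (swap_mem f x y (by rw [hx.2, hy.2])) (swap_mem f x z (by rw [hx.2, hz.2])),
      h3.mem_alternatingGroup⟩, h3⟩

theorem fibswap_mem (f : Ω → Fin b) (m : Ω → Ω) (hm1 : ∀ x, m x ≠ x) (hm2 : ∀ x, f (m x) = f x)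
    (hm3 : ∀ x z, f z = f x → z = x ∨ z = m x) (p r : Ω) (hpr : f p ≠ f r) :
    swap p r * swap (m p) (m r) ∈ wr f ⊓ alternatingGroup Ω := by
  have hpr' : p ≠ r := fun e => hpr (by rw [e])
  have h1 : m p ≠ m r := fun e => hpr (by rw [← hm2 p, e, hm2])
  have h2 : p ≠ m r := fun e => hpr (by rw [e, hm2])
  have h3 : r ≠ m p := fun e => hpr (by rw [e, hm2])
  refine Subgroup.mem_inf.2 ⟨?_, ?_⟩
  · have key : ∀ u, f ((swap p r * swap (m p) (m r)) u) = swap (f p) (f r) (f u) := by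
      intro u
      rw [Perm.mul_apply]
      by_cases hu1 : u = p
      · rw [hu1, swap_apply_of_ne_of_ne (hm1 p).symm h2, swap_apply_left, swap_apply_left]
      by_cases hu2 : u = r
      · rw [hu2, swap_apply_of_ne_of_ne h3 (hm1 r).symm, swap_apply_right, swap_apply_right]
      by_cases hu3 : u = m p
      · rw [hu3, swap_apply_left, swap_apply_of_ne_of_ne h2.symm (hm1 r), hm2, hm2,
          swap_apply_left]
      by_cases hu4 : u = m r
      · rw [hu4, swap_apply_right, swap_apply_of_ne_of_ne (hm1 p) h3.symm, hm2, hm2,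
          swap_apply_right]
      rw [swap_apply_of_ne_of_ne hu3 hu4, swap_apply_of_ne_of_ne hu1 hu2]
      have h5 : f u ≠ f p := fun e => by
        rcases hm3 p u e with h | h
        · exact hu1 h
        · exact hu3 h
      have h6 : f u ≠ f r := fun e => by
        rcases hm3 r u e with h | h
        · exact hu2 h
        · exact hu4 h
      rw [swap_apply_of_ne_of_ne h5 h6]
    intro x y
    rw [key, key, (swap (f p) (f r)).injective.eq_iff]
  · rw [mem_alternatingGroup, map_mul, sign_swap hpr', sign_swap h1]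
    rfl

theorem exists_mate (f : Ω → Fin b) (hf : ∀ i : Fin b, Nat.card {x : Ω // f x = i} = 2) (x : Ω) :
    ∃ x', x' ≠ x ∧ f x' = f x ∧ ∀ z, f z = f x → z = x ∨ z = x' := by
  obtain ⟨⟨x', hx'⟩, hne, huniq⟩ := (Nat.card_eq_two_iff' (⟨x, rfl⟩ : {y : Ω // f y = f x})).1 (hf (f x))
  refine ⟨x', fun e => hne (Subtype.ext e), hx', fun z hz => ?_⟩
  by_cases hzx : z = x
  · exact Or.inl hzx
  · right
    have := huniq ⟨z, hz⟩ (fun e => hzx (congrArg Subtype.val e))
    exact congrArg Subtype.val this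

theorem three_cycle_two (f : Ω → Fin b) (hf : ∀ i : Fin b, Nat.card {x : Ω // f x = i} = 2)
    (hfib : ∀ i : Fin b, ∃ x y : Ω, x ≠ y ∧ f x = i ∧ f y = i) (hb3 : 3 ≤ b) (hb4 : b ≠ 4)
    (K : Subgroup (Perm Ω)) (hHK : wr f ⊓ alternatingGroup Ω ≤ K) (hK : ¬ K ≤ wr f) :
    ∃ g ∈ K, IsThreeCycle g := by
  choose m hm1 hm2 hm3 using exists_mate f hf
  have hex : ∃ k ∈ K, ∃ x y : Ω, f x = f y ∧ f (k x) ≠ f (k y) := by
    by_contra hcon
    push Not at hcon
    apply hK
    intro g hg x y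
    constructor
    · exact hcon g hg x y
    · intro h
      have := hcon g⁻¹ (K.inv_mem hg) (g x) (g y) h
      rwa [inv_ap, inv_ap] at this
  obtain ⟨k, hkK, x, y, hxy, hne⟩ := hex
  have hy : y = m x := by
    rcases hm3 x y hxy.symm with h | h
    · exact absurd (by rw [h]) hne
    · exact h
  subst hy
  obtain ⟨p, hp⟩ : ∃ p, p = k x := ⟨_, rfl⟩
  obtain ⟨r, hr⟩ : ∃ r, r = k (m x) := ⟨_, rfl⟩
  rw [← hp, ← hr] at hne
  have hpr : p ≠ r := fun e => hne (by rw [e])
  obtain ⟨l, hl⟩ := fin_avoid ({f x, f (k⁻¹ (m p))} : Finset (Fin b))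
    (lt_of_le_of_lt Finset.card_le_two (by omega))
  rw [Finset.mem_insert, Finset.mem_singleton, not_or] at hl
  obtain ⟨w, w', hww, hw, hw'⟩ := hfib l
  obtain ⟨c, hc⟩ : ∃ c, c = k w := ⟨_, rfl⟩
  obtain ⟨d, hd⟩ : ∃ d, d = k w' := ⟨_, rfl⟩
  have hwx : w ≠ x := fun e => hl.1 (by rw [← hw, e])
  have hwmx : w ≠ m x := fun e => hl.1 (by rw [← hw, e, hm2])
  have hw'x : w' ≠ x := fun e => hl.1 (by rw [← hw', e])
  have hw'mx : w' ≠ m x := fun e => hl.1 (by rw [← hw', e, hm2])
  have hcd : c ≠ d := by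
    rw [hc, hd]
    exact fun e => hww (k.injective e)
  have hcp : c ≠ p := by
    rw [hc, hp]
    exact fun e => hwx (k.injective e)
  have hcr : c ≠ r := by
    rw [hc, hr]
    exact fun e => hwmx (k.injective e)
  have hdp : d ≠ p := by
    rw [hd, hp]
    exact fun e => hw'x (k.injective e)
  have hdr : d ≠ r := by
    rw [hd, hr]
    exact fun e => hw'mx (k.injective e)
  have hcp' : c ≠ m p := by
    intro e
    apply hl.2
    rw [← e, hc, inv_ap, hw]
  have hdp' : d ≠ m p := by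
    intro e
    apply hl.2
    rw [← e, hd, inv_ap, hw']
  have hp'r : m p ≠ r := fun e => hne (by rw [← e, hm2])
  have hr'p : m r ≠ p := fun e => hne (by rw [← e, hm2])
  have hr'p' : m r ≠ m p := fun e => hne (by rw [← hm2 p, ← e, hm2])
  have hτ₁ : swap p r * swap c d ∈ K := by
    have e : swap p r * swap c d = k * (swap x (m x) * swap w w') * k⁻¹ := by
      rw [hp, hr, hc, hd, swap_apply_apply k x (m x), swap_apply_apply k w w']
      group
    rw [e]
    exact K.mul_mem (K.mul_mem hkK (hHK (dt_mem f (hm1 x).symm (hm2 x).symm hww (by rw [hw, hw']))))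
      (K.inv_mem hkK)
  have hτ₂ : swap c d * swap p r ∈ K := by
    have e : swap c d * swap p r = k * (swap w w' * swap x (m x)) * k⁻¹ := by
      rw [hp, hr, hc, hd, swap_apply_apply k x (m x), swap_apply_apply k w w']
      group
    rw [e]
    exact K.mul_mem (K.mul_mem hkK (hHK (dt_mem f hww (by rw [hw, hw']) (hm1 x).symm (hm2 x).symm)))
      (K.inv_mem hkK)
  by_cases hcase : m r = c ∨ m r = d
  · have hg₁ := hHK (fibswap_mem f m hm1 hm2 hm3 p r hne)
    have hprod : swap c d * swap p r * (swap p r * swap (m p) (m r)) =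
        swap c d * swap (m p) (m r) := by
      rw [mul_assoc, ← mul_assoc (swap p r), swap_mul_self, one_mul]
    refine ⟨_, K.mul_mem hτ₂ hg₁, ?_⟩
    rw [hprod]
    rcases hcase with h | h
    · rw [← h, swap_comm (m p) (m r)]
      exact isThreeCycle_swap_mul_swap_same (by rw [h]; exact hcd) hr'p' hdp'
    · rw [← h, swap_comm c (m r), swap_comm (m p) (m r)]
      exact isThreeCycle_swap_mul_swap_same (by rw [h]; exact hcd.symm) hr'p' hcp'
  · rw [not_or] at hcase
    by_cases hfcd : f c = f d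
    · have hh := hHK (dt_mem f hcd hfcd (hm1 p).symm (hm2 p).symm)
      have hprod : swap p r * swap c d * (swap c d * swap p (m p)) = swap p r * swap p (m p) := by
        rw [mul_assoc, ← mul_assoc (swap c d), swap_mul_self, one_mul]
      refine ⟨_, K.mul_mem hτ₁ hh, ?_⟩
      rw [hprod]
      exact isThreeCycle_swap_mul_swap_same hpr (hm1 p).symm hp'r.symm
    · have hfcp : f c ≠ f p := fun e => by
        rcases hm3 p c e with h | h
        · exact hcp h
        · exact hcp' h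
      have hfcr : f c ≠ f r := fun e => by
        rcases hm3 r c e with h | h
        · exact hcr h
        · exact hcase.1 h.symm
      have hfdp : f d ≠ f p := fun e => by
        rcases hm3 p d e with h | h
        · exact hdp h
        · exact hdp' h
      have hfdr : f d ≠ f r := fun e => by
        rcases hm3 r d e with h | h
        · exact hdr h
        · exact hcase.2 h.symm
      have hS : ({f p, f r, f c, f d} : Finset (Fin b)).card = 4 := by
        rw [Finset.card_insert_of_notMem, Finset.card_insert_of_notMem,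
          Finset.card_insert_of_notMem, Finset.card_singleton]
        · rw [Finset.mem_singleton]
          exact hfcd
        · rw [Finset.mem_insert, Finset.mem_singleton, not_or]
          exact ⟨hfcr.symm, hfdr.symm⟩
        · rw [Finset.mem_insert, Finset.mem_insert, Finset.mem_singleton, not_or, not_or]
          exact ⟨hne, hfcp.symm, hfdp.symm⟩
      have hb4' : 4 ≤ b := by
        have := Finset.card_le_univ ({f p, f r, f c, f d} : Finset (Fin b))
        rw [hS, Fintype.card_fin] at this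
        exact this
      obtain ⟨l', hl'⟩ := fin_avoid ({f p, f r, f c, f d} : Finset (Fin b)) (by rw [hS]; omega)
      rw [Finset.mem_insert, Finset.mem_insert, Finset.mem_insert, Finset.mem_singleton, not_or,
        not_or, not_or] at hl'
      obtain ⟨hl1, hl2, hl3, hl4⟩ := hl'
      obtain ⟨z, z', hzz, hz, hz'⟩ := hfib l'
      have hzp : z ≠ p := fun e => hl1 (by rw [← hz, e])
      have hzr : z ≠ r := fun e => hl2 (by rw [← hz, e])
      have hzc : z ≠ c := fun e => hl3 (by rw [← hz, e])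
      have hzd : z ≠ d := fun e => hl4 (by rw [← hz, e])
      have hzp' : z ≠ m p := fun e => hl1 (by rw [← hz, e, hm2])
      have hz'p : z' ≠ p := fun e => hl1 (by rw [← hz', e])
      have hz'r : z' ≠ r := fun e => hl2 (by rw [← hz', e])
      have hz'c : z' ≠ c := fun e => hl3 (by rw [← hz', e])
      have hz'd : z' ≠ d := fun e => hl4 (by rw [← hz', e])
      have hz'p' : z' ≠ m p := fun e => hl1 (by rw [← hz', e, hm2])
      obtain ⟨τ, hτ⟩ : ∃ τ, τ = swap p r * swap c d := ⟨_, rfl⟩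
      rw [← hτ] at hτ₁
      have hτp : τ p = r := by
        rw [hτ, Perm.mul_apply, swap_apply_of_ne_of_ne hcp.symm hdp.symm, swap_apply_left]
      have hτp' : τ (m p) = m p := by
        rw [hτ, Perm.mul_apply, swap_apply_of_ne_of_ne hcp'.symm hdp'.symm,
          swap_apply_of_ne_of_ne (hm1 p) hp'r]
      have hτz : τ z = z := by
        rw [hτ, Perm.mul_apply, swap_apply_of_ne_of_ne hzc hzd, swap_apply_of_ne_of_ne hzp hzr]
      have hτz' : τ z' = z' := by
        rw [hτ, Perm.mul_apply, swap_apply_of_ne_of_ne hz'c hz'd,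
          swap_apply_of_ne_of_ne hz'p hz'r]
      have hh := hHK (dt_mem f (hm1 p).symm (hm2 p).symm hzz (by rw [hz, hz']))
      have hh' := hHK (dt_mem f hzz (by rw [hz, hz']) (hm1 p).symm (hm2 p).symm)
      have e : swap r (m p) * swap z z' = τ * (swap p (m p) * swap z z') * τ⁻¹ := by
        have e1 := swap_apply_apply τ p (m p)
        have e2 := swap_apply_apply τ z z'
        rw [hτp, hτp'] at e1
        rw [hτz, hτz'] at e2
        have e3 : τ * (swap p (m p) * swap z z') * τ⁻¹ =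
            (τ * swap p (m p) * τ⁻¹) * (τ * swap z z' * τ⁻¹) := by group
        rw [e3, ← e1, ← e2]
      have hmem : swap r (m p) * swap z z' ∈ K := by
        rw [e]
        exact K.mul_mem (K.mul_mem hτ₁ hh) (K.inv_mem hτ₁)
      have hprod : swap r (m p) * swap z z' * (swap z z' * swap p (m p)) =
          swap (m p) r * swap (m p) p := by
        rw [mul_assoc, ← mul_assoc (swap z z'), swap_mul_self, one_mul, swap_comm r (m p),
          swap_comm p (m p)]
      refine ⟨_, K.mul_mem hmem hh', ?_⟩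
      rw [hprod]
      exact isThreeCycle_swap_mul_swap_same hp'r (hm1 p) hpr.symm

theorem case_four (f : Ω → Fin b) (hf : ∀ i : Fin b, Nat.card {x : Ω // f x = i} = a)
    (hfib : ∀ i : Fin b, ∃ x y : Ω, x ≠ y ∧ f x = i ∧ f y = i) (hb : 2 ≤ b)
    (hcard : Fintype.card Ω = 4)
    (K : Subgroup (Perm Ω)) (hHK : wr f ⊓ alternatingGroup Ω ≤ K) (hKA : K ≤ alternatingGroup Ω)
    (hKH : ¬ K ≤ wr f ⊓ alternatingGroup Ω) : alternatingGroup Ω ≤ K := by
  have hnt : Nontrivial Ω := Fintype.one_lt_card_iff_nontrivial.1 (by omega)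
  have hA : Nat.card (alternatingGroup Ω) = 12 := by
    rw [nat_card_alternatingGroup, Nat.card_eq_fintype_card, hcard]
    rfl
  obtain ⟨x₀⟩ : Nonempty Ω := inferInstance
  have hpt : IsPretransitive (↥(wr f ⊓ alternatingGroup Ω)) Ω := ⟨fun x y => by
    obtain ⟨h, hh, hxy⟩ := H_trans f hf hfib hb x y
    exact ⟨⟨h, hh⟩, hxy⟩⟩
  have h4 : 4 ∣ Nat.card (↥(wr f ⊓ alternatingGroup Ω)) := by
    have h1 := index_stabilizer_of_transitive (↥(wr f ⊓ alternatingGroup Ω)) x₀
    rw [Nat.card_eq_fintype_card, hcard] at h1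
    rw [← h1]
    exact Subgroup.index_dvd_card _
  have h5 : Nat.card (↥(wr f ⊓ alternatingGroup Ω)) ∣ Nat.card K := Subgroup.card_dvd_of_le hHK
  have h6 : Nat.card K ∣ 12 := by
    rw [← hA]
    exact Subgroup.card_dvd_of_le hKA
  have h7 : Nat.card (↥(wr f ⊓ alternatingGroup Ω)) < Nat.card K := by
    by_contra hle
    push Not at hle
    have := Subgroup.eq_of_le_of_card_ge hHK hle
    exact hKH (by rw [this])
  have h8 : Nat.card K = 12 := by
    have hK12 : Nat.card K ≤ 12 := Nat.le_of_dvd (by norm_num) h6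
    have hH : Nat.card (↥(wr f ⊓ alternatingGroup Ω)) ≤ 12 := by omega
    obtain ⟨u, hu⟩ : ∃ u, u = Nat.card (↥(wr f ⊓ alternatingGroup Ω)) := ⟨_, rfl⟩
    obtain ⟨v, hv⟩ : ∃ v, v = Nat.card K := ⟨_, rfl⟩
    rw [← hu] at h4 h5 h7 hH
    rw [← hv] at h5 h6 h7 hK12 ⊢
    interval_cases v <;> interval_cases u <;> omega
  have := Subgroup.eq_of_le_of_card_ge hKA (by rw [hA, h8])
  rw [this]

/-- Let Ω be a finite set whose size is not 8, and f : Ω → Fin b a labelling with b ≥ 2 whose fibres all have the same size a ≥ 2 (a partition into b blocks of size a). Then the even permutations preserving the partition — the intersection of the imprimitive wreath product S_a ≀ S_b with the alternating group — form a maximal subgroup of the alternating group on Ω. -/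
theorem result {Ω : Type*} [Fintype Ω] [DecidableEq Ω] (h8 : Fintype.card Ω ≠ 8) (a b : ℕ) (ha : 2 ≤ a) (hb : 2 ≤ b)
    (f : Ω → Fin b) (hf : ∀ i : Fin b, Nat.card {x : Ω // f x = i} = a) :
    IsCoatom ((Subgroup.closure {g : Equiv.Perm Ω | ∀ x y : Ω, f x = f y ↔ f (g x) = f (g y)} ⊓ alternatingGroup Ω).subgroupOf (alternatingGroup Ω)) := by
  rw [closure_eq_wr]
  have hfib : ∀ i : Fin b, ∃ x y : Ω, x ≠ y ∧ f x = i ∧ f y = i := by
    intro i
    have h1 : 1 < Nat.card {x : Ω // f x = i} := by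
      rw [hf i]
      omega
    rw [Finite.one_lt_card_iff_nontrivial] at h1
    obtain ⟨⟨x, hx⟩, ⟨y, hy⟩, hxy⟩ := h1
    exact ⟨x, y, fun e => hxy (Subtype.ext e), hx, hy⟩
  have hcard : Fintype.card Ω = b * a := by
    rw [Fintype.card_congr (coord f hf), Fintype.card_prod, Fintype.card_fin, Fintype.card_fin]
  apply isCoatom_subgroupOf inf_le_right
  · intro hle
    obtain ⟨x, y, hxy, hx, hy⟩ := hfib ⟨0, by omega⟩
    obtain ⟨z, _, _, hz, _⟩ := hfib ⟨1, by omega⟩
    have hne : f x ≠ f z := by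
      rw [hx, hz]
      intro e
      simp [Fin.ext_iff] at e
    have hxz : x ≠ z := fun e => hne (by rw [e])
    have hyz : y ≠ z := fun e => hne (by rw [hx, ← hy, e])
    have h3 := isThreeCycle_swap_mul_swap_same hxy hxz hyz
    have hmem := (Subgroup.mem_inf.1 (hle h3.mem_alternatingGroup)).1
    have h1 := (hmem x y).1 (by rw [hx, hy])
    rw [Perm.mul_apply, Perm.mul_apply, swap_apply_left, swap_apply_of_ne_of_ne hxz.symm hyz.symm,
      swap_apply_of_ne_of_ne hxy.symm hyz, swap_apply_right] at h1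
    exact hne h1.symm
  · intro K hHK hKA hKH
    have hK : ¬ K ≤ wr f := fun h => hKH (le_inf h hKA)
    by_cases h4 : a = 2 ∧ b = 2
    · exact case_four f hf hfib hb (by rw [hcard, h4.1, h4.2]) K hHK hKA hKH
    · have hpair : ∀ x w : Ω, f x ≠ f w →
          ∃ p q, p ≠ q ∧ f p = f q ∧ p ≠ x ∧ q ≠ x ∧ f p ≠ f w := by
        intro x w hxw
        by_cases ha3 : 3 ≤ a
        · exact hpair_a f hf ha3 x w hxw
        · exact hpair_b f hfib (by omega) x w
      have hprim := K_prim f hf hfib hb hpair K hHK hK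
      obtain ⟨g, hgK, hg3⟩ : ∃ g ∈ K, IsThreeCycle g := by
        by_cases ha3 : 3 ≤ a
        · obtain ⟨g, hg, hg3⟩ := three_cycle_ge f hf ha3 ⟨0, by omega⟩
          exact ⟨g, hHK hg, hg3⟩
        · have ha2 : a = 2 := by omega
          subst ha2
          refine three_cycle_two f hf hfib (by omega) ?_ K hHK hK
          intro hb4
          apply h8
          rw [hcard, hb4]
      exact alternatingGroup_le_of_isPreprimitive_of_isThreeCycle_mem hprim hg3 hgK

end Cfsg.Agent.S5909
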