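import Cfsg.Statements.S5938
import Cfsg.Agent.Lib.helper6.PSL2Max
import Cfsg.Agent.S0803

set_option autoImplicit false
open Cfsg

namespace Cfsg.Agent.S5938

/-- Let p be a prime with p ≡ ±1 (mod 8) and F a field with p elements. Then PSL_2(F) has a maximal subgroup isomorphic to the symmetric group S_4. -/
theorem result {F : Type*} [Field F] [Fintype F] (p : ℕ) [Fact p.Prime] (hF : Fintype.card F = p) (hp : p % 8 = 1 ∨ p % 8 = 7) : ∃ H : Subgroup (Matrix.ProjectiveSpecialLinearGroup (Fin 2) F), IsCoatom H ∧ Nonempty (H ≃* Equiv.Perm (Fin 4)) := by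
  classical
  haveI : CharP F p := charP_of_card_eq_prime hF
  have hpP : p.Prime := Fact.out
  have hp7 : 7 ≤ p := by
    rcases hp with h | h
    · have h1 : p ≠ 1 := hpP.one_lt.ne'
      omega
    · omega
  have hsq : p ^ 2 % 16 = 1 := by
    have h16 : p % 16 = 1 ∨ p % 16 = 7 ∨ p % 16 = 9 ∨ p % 16 = 15 := by omega
    rw [Nat.pow_mod]
    rcases h16 with h | h | h | h <;> rw [h]
  obtain ⟨H, ⟨e⟩⟩ := (Cfsg.Agent.S0803.result hF).mpr hsq
  have hH24 : Nat.card H = 24 := by
    rw [Nat.card_congr e.toEquiv, Nat.card_perm, Nat.card_eq_fintype_card, Fintype.card_fin]; rfl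
  have hcard := Cfsg.Agent.Lib.helper6.PSL2Index.card_PSL2_mul (F := F)
  rw [hF] at hcard
  have hd : Nat.gcd 2 (p - 1) ≤ 2 := Nat.le_of_dvd (by norm_num) (Nat.gcd_dvd_left 2 _)
  have hbig : 24 < Nat.card (Matrix.ProjectiveSpecialLinearGroup (Fin 2) F) := by
    by_contra hle
    push Not at hle
    have h1 : Nat.card (Matrix.ProjectiveSpecialLinearGroup (Fin 2) F) * Nat.gcd 2 (p - 1) ≤ 24 * 2 :=
      Nat.mul_le_mul hle hd
    rw [hcard, Cfsg.Agent.Lib.helper6.PSL2Index.sq_sub_one_eq p (by omega)] at h1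
    have h2 : 7 * (8 * 6) ≤ p * ((p + 1) * (p - 1)) :=
      Nat.mul_le_mul hp7 (Nat.mul_le_mul (by omega) (by omega))
    omega
  refine ⟨H, ⟨?_, ?_⟩, ⟨e⟩⟩
  · intro htop
    rw [htop, Subgroup.card_top] at hH24
    omega
  · intro M hHM
    obtain ⟨hlt, hdvd⟩ := Cfsg.Agent.Lib.helper6.PSL2Max.card_lt_of_lt hHM
    rw [hH24] at hlt hdvd
    have hnm : ¬ Cfsg.Agent.Lib.helper6.PSL2Max.Meta M := fun h =>
      Cfsg.Agent.Lib.helper6.PSL2Max.not_meta_S4
        (Cfsg.Agent.Lib.helper6.PSL2Max.Meta.of_equiv e.symm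
          (Cfsg.Agent.Lib.helper6.PSL2Max.Meta.subgroup hHM.le h))
    rcases Cfsg.Agent.S0799.result hF p M with h | h | h | h | h | h
    · obtain ⟨k, -, hk⟩ := h
      refine absurd (Cfsg.Agent.Lib.helper6.PSL2Max.meta_of_cyc_dih k ?_) hnm
      rcases hk with hk | hk
      · exact Or.inl hk.1
      · exact Or.inr hk
    · obtain ⟨P, K, hK, ⟨e'⟩⟩ := h
      exact absurd (Cfsg.Agent.Lib.helper6.PSL2Max.Meta.of_equiv e'
        (Cfsg.Agent.Lib.helper6.PSL2Max.psl_borel p P K hK).1) hnm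
    · obtain ⟨e'⟩ := h
      exfalso
      rw [Nat.card_congr e'.toEquiv, nat_card_alternatingGroup, Nat.card_eq_fintype_card,
        Fintype.card_fin] at hlt
      revert hlt
      decide
    · obtain ⟨e'⟩ := h
      exfalso
      rw [Nat.card_congr e'.toEquiv, Nat.card_perm, Nat.card_eq_fintype_card,
        Fintype.card_fin] at hlt
      revert hlt
      decide
    · obtain ⟨e'⟩ := h
      exfalso
      rw [Nat.card_congr e'.toEquiv, nat_card_alternatingGroup, Nat.card_eq_fintype_card,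
        Fintype.card_fin] at hdvd
      revert hdvd
      decide
    · obtain ⟨K, iK, iKf, m, hKm, hiso⟩ := h
      apply Cfsg.Agent.Lib.helper6.PSL2Max.eq_top_of_same_field (K := K) _ M hiso
      rw [hF]
      have hm : m ≠ 0 := by
        rintro rfl
        rw [pow_zero] at hKm
        omega
      have h1 : Fintype.card K ∣ p := by
        rw [← hKm]; exact dvd_pow_self _ hm
      rcases (Nat.dvd_prime hpP).mp h1 with h2 | h2
      · have : 1 < Fintype.card K := Fintype.one_lt_card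
        omega
      · exact h2

end Cfsg.Agent.S5938
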