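import Cfsg.Statements.S5939
import Cfsg.Agent.Lib.helper6.PSL2MaxB
import Cfsg.Agent.S0804

set_option autoImplicit false
open Cfsg

namespace Cfsg.Agent.S5939

/-- Let p be a prime and F a finite field of characteristic p such that either F has p elements and p ≡ ±1 (mod 10), or F has p² elements and p ≡ ±3 (mod 10). Then PSL_2(F) has a maximal subgroup isomorphic to the alternating group A_5. -/
theorem result {F : Type*} [Field F] [Fintype F] (p : ℕ) [Fact p.Prime] [CharP F p] (h : (Fintype.card F = p ∧ (p % 10 = 1 ∨ p % 10 = 9)) ∨ (Fintype.card F = p ^ 2 ∧ (p % 10 = 3 ∨ p % 10 = 7))) : ∃ H : Subgroup (Matrix.ProjectiveSpecialLinearGroup (Fin 2) F), IsCoatom H ∧ Nonempty (H ≃* alternatingGroup (Fin 5)) := by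
  classical
  have hpP : p.Prime := Fact.out
  have hpr5 : Nat.Prime 5 := by norm_num
  obtain ⟨q, hq⟩ : ∃ q, Fintype.card F = q := ⟨_, rfl⟩
  have hq9 : 9 ≤ q := by
    rcases h with ⟨h1, h2⟩ | ⟨h1, h2⟩
    · rw [← hq, h1]
      have : p ≠ 1 := hpP.one_lt.ne'
      have : p ≠ 9 := by rintro rfl; revert hpP; decide
      omega
    · rw [← hq, h1]
      have h3 : 3 ≤ p := by omega
      calc 9 = 3 ^ 2 := by norm_num
        _ ≤ p ^ 2 := Nat.pow_le_pow_left h3 2
  have h5q : 5 ∣ q * (q ^ 2 - 1) := by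
    rw [Cfsg.Agent.Lib.helper6.PSL2Index.sq_sub_one_eq q (by omega)]
    apply Dvd.dvd.mul_left
    rcases h with ⟨h1, h2⟩ | ⟨h1, h2⟩
    · rw [← hq, h1]
      have h5' : p % 5 = 1 ∨ p % 5 = 4 := by omega
      rcases h5' with h5' | h5'
      · exact Dvd.dvd.mul_left (by omega) _
      · exact Dvd.dvd.mul_right (by omega) _
    · rw [← hq, h1]
      have h5' : p % 5 = 2 ∨ p % 5 = 3 := by omega
      have h4 : p ^ 2 % 5 = 4 := by
        rw [Nat.pow_mod]
        rcases h5' with h5' | h5' <;> rw [h5']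
      exact Dvd.dvd.mul_right (by omega) _
  obtain ⟨H, ⟨e⟩⟩ := (Cfsg.Agent.S0804.result hq).mpr h5q
  have hH60 : Nat.card H = 60 := by
    rw [Nat.card_congr e.toEquiv, nat_card_alternatingGroup, Nat.card_eq_fintype_card,
      Fintype.card_fin]; rfl
  have hcard := Cfsg.Agent.Lib.helper6.PSL2Index.card_PSL2_mul (F := F)
  rw [hq] at hcard
  have hd : Nat.gcd 2 (q - 1) ≤ 2 := Nat.le_of_dvd (by norm_num) (Nat.gcd_dvd_left 2 _)
  have hbig : 60 < Nat.card (Matrix.ProjectiveSpecialLinearGroup (Fin 2) F) := by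
    by_contra hle
    push Not at hle
    have h1 : Nat.card (Matrix.ProjectiveSpecialLinearGroup (Fin 2) F) * Nat.gcd 2 (q - 1) ≤ 60 * 2 :=
      Nat.mul_le_mul hle hd
    rw [hcard, Cfsg.Agent.Lib.helper6.PSL2Index.sq_sub_one_eq q (by omega)] at h1
    have h2 : 9 * (10 * 8) ≤ q * ((q + 1) * (q - 1)) :=
      Nat.mul_le_mul hq9 (Nat.mul_le_mul (by omega) (by omega))
    omega
  refine ⟨H, ⟨?_, ?_⟩, ⟨e⟩⟩
  · intro htop
    rw [htop, Subgroup.card_top] at hH60
    omega
  · intro M hHM
    obtain ⟨hlt, hdvd⟩ := Cfsg.Agent.Lib.helper6.PSL2Max.card_lt_of_lt hHM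
    rw [hH60] at hlt hdvd
    have hnm : ¬ Cfsg.Agent.Lib.helper6.PSL2Max.Meta M := fun h =>
      Cfsg.Agent.Lib.helper6.PSL2Max.not_meta_A5
        (Cfsg.Agent.Lib.helper6.PSL2Max.Meta.of_equiv e.symm
          (Cfsg.Agent.Lib.helper6.PSL2Max.Meta.subgroup hHM.le h))
    rcases Cfsg.Agent.S0799.result hq p M with h' | h' | h' | h' | h' | h'
    · obtain ⟨k, -, hk⟩ := h'
      refine absurd (Cfsg.Agent.Lib.helper6.PSL2Max.meta_of_cyc_dih k ?_) hnm
      rcases hk with hk | hk
      · exact Or.inl hk.1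
      · exact Or.inr hk
    · obtain ⟨P, K, hK, ⟨e'⟩⟩ := h'
      exact absurd (Cfsg.Agent.Lib.helper6.PSL2Max.Meta.of_equiv e'
        (Cfsg.Agent.Lib.helper6.PSL2Max.psl_borel p P K hK).1) hnm
    · obtain ⟨e'⟩ := h'
      exfalso
      rw [Nat.card_congr e'.toEquiv, nat_card_alternatingGroup, Nat.card_eq_fintype_card,
        Fintype.card_fin] at hlt
      revert hlt
      decide
    · obtain ⟨e'⟩ := h'
      exfalso
      rw [Nat.card_congr e'.toEquiv, Nat.card_perm, Nat.card_eq_fintype_card,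
        Fintype.card_fin] at hlt
      revert hlt
      decide
    · obtain ⟨e'⟩ := h'
      exfalso
      rw [Nat.card_congr e'.toEquiv, nat_card_alternatingGroup, Nat.card_eq_fintype_card,
        Fintype.card_fin] at hlt
      revert hlt
      decide
    · obtain ⟨K, iK, iKf, m, hKm, hiso⟩ := h'
      have hm : m ≠ 0 := by
        rintro rfl
        rw [pow_zero] at hKm
        omega
      have hK2 : 1 < Fintype.card K := Fintype.one_lt_card
      have hKdvd : Fintype.card K ∣ q := by
        rw [← hKm]; exact dvd_pow_self _ hm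
      rcases h with ⟨h1, h2⟩ | ⟨h1, h2⟩
      · apply Cfsg.Agent.Lib.helper6.PSL2Max.eq_top_of_same_field (K := K) _ M hiso
        rw [hq]
        rw [← hq, h1] at hKdvd
        rcases (Nat.dvd_prime hpP).mp hKdvd with h3 | h3
        · omega
        · rw [h3, ← h1, hq]
      · rw [← hq, h1] at hKdvd
        obtain ⟨k, hk2, hk⟩ := (Nat.dvd_prime_pow hpP).mp hKdvd
        interval_cases k
        · rw [pow_zero] at hk; omega
        · -- |K| = p : impossible as 5 does not divide the order
          exfalso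
          rw [pow_one] at hk
          have hK1 := Cfsg.Agent.Lib.helper6.PSL2Index.card_PSL2_mul (F := K)
          have hK2' := Cfsg.Agent.Lib.helper6.PSL2Index.card_PGL2 (F := K)
          rw [hk] at hK1 hK2'
          have h5M : 5 ∣ Nat.card M := dvd_trans (by norm_num) hdvd
          have h5p : 5 ∣ p * (p ^ 2 - 1) := by
            rcases hiso with ⟨⟨e'⟩⟩ | ⟨⟨e'⟩⟩
            · rw [Nat.card_congr e'.toEquiv] at h5M
              rw [← hK1]
              exact Dvd.dvd.mul_right h5M _
            · rw [Nat.card_congr e'.toEquiv, hK2'] at h5M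
              exact h5M
          rw [Cfsg.Agent.Lib.helper6.PSL2Index.sq_sub_one_eq p (by omega)] at h5p
          rcases (hpr5.dvd_mul).mp h5p with h3 | h3
          · omega
          · rcases (hpr5.dvd_mul).mp h3 with h4 | h4 <;> omega
        · apply Cfsg.Agent.Lib.helper6.PSL2Max.eq_top_of_same_field (K := K) _ M hiso
          rw [hk, ← h1]

end Cfsg.Agent.S5939
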