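import Cfsg.Statements.S5940
import Cfsg.Agent.Lib.helper6.PSL2MaxB
import Cfsg.Agent.S0802
import Cfsg.Agent.S0803
import Cfsg.Agent.S0804

set_option autoImplicit false
open Cfsg

namespace Cfsg.Agent.S5940

/-- Let p ≥ 5 be a prime with p ≡ ±3 (mod 8) and p ≢ ±1 (mod 10), and F a field with p elements. Then PSL_2(F) has a maximal subgroup isomorphic to the alternating group A_4. -/
theorem result {F : Type*} [Field F] [Fintype F] (p : ℕ) [Fact p.Prime] (hF : Fintype.card F = p) (h5 : 5 ≤ p) (h8 : p % 8 = 3 ∨ p % 8 = 5) (h10 : p % 10 ≠ 1 ∧ p % 10 ≠ 9) : ∃ H : Subgroup (Matrix.ProjectiveSpecialLinearGroup (Fin 2) F), IsCoatom H ∧ Nonempty (H ≃* alternatingGroup (Fin 4)) := by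
  classical
  haveI : CharP F p := charP_of_card_eq_prime hF
  have hpP : p.Prime := Fact.out
  have hpodd : Odd p := by
    rcases hpP.eq_two_or_odd' with h | h
    · omega
    · exact h
  obtain ⟨H, ⟨e⟩⟩ := (Cfsg.Agent.S0802.result (F := F) p 1 (by rw [hF, pow_one])).mpr
    (fun h => by omega)
  have hH12 : Nat.card H = 12 := by
    rw [Nat.card_congr e.toEquiv, nat_card_alternatingGroup, Nat.card_eq_fintype_card,
      Fintype.card_fin]; rfl
  have hcard := Cfsg.Agent.Lib.helper6.PSL2Index.card_PSL2_mul (F := F)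
  rw [hF] at hcard
  have hd : Nat.gcd 2 (p - 1) ≤ 2 := Nat.le_of_dvd (by norm_num) (Nat.gcd_dvd_left 2 _)
  have hbig : 12 < Nat.card (Matrix.ProjectiveSpecialLinearGroup (Fin 2) F) := by
    by_contra hle
    push Not at hle
    have h1 : Nat.card (Matrix.ProjectiveSpecialLinearGroup (Fin 2) F) * Nat.gcd 2 (p - 1) ≤ 12 * 2 :=
      Nat.mul_le_mul hle hd
    rw [hcard, Cfsg.Agent.Lib.helper6.PSL2Index.sq_sub_one_eq p (by omega)] at h1
    have h2 : 5 * (6 * 4) ≤ p * ((p + 1) * (p - 1)) :=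
      Nat.mul_le_mul h5 (Nat.mul_le_mul (by omega) (by omega))
    omega
  refine ⟨H, ⟨?_, ?_⟩, ⟨e⟩⟩
  · intro htop
    rw [htop, Subgroup.card_top] at hH12
    omega
  · intro M hHM
    obtain ⟨hlt, hdvd⟩ := Cfsg.Agent.Lib.helper6.PSL2Max.card_lt_of_lt hHM
    rw [hH12] at hlt hdvd
    have hnc3 : ¬ Cfsg.Agent.Lib.helper6.PSL2Max.C3 M := fun h =>
      Cfsg.Agent.Lib.helper6.PSL2Max.not_c3_A4
        (Cfsg.Agent.Lib.helper6.PSL2Max.C3.of_equiv e.symm
          (Cfsg.Agent.Lib.helper6.PSL2Max.C3.subgroup hHM.le h))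
    have hncp : ¬ Cfsg.Agent.Lib.helper6.PSL2Max.CP M p := fun h =>
      Cfsg.Agent.Lib.helper6.PSL2Max.not_cp_A4 p hpodd
        (Cfsg.Agent.Lib.helper6.PSL2Max.CP.of_equiv e.symm
          (Cfsg.Agent.Lib.helper6.PSL2Max.CP.subgroup hHM.le h))
    rcases Cfsg.Agent.S0799.result hF p M with h | h | h | h | h | h
    · obtain ⟨k, -, hk⟩ := h
      refine absurd (Cfsg.Agent.Lib.helper6.PSL2Max.c3_of_cyc_dih k ?_) hnc3
      rcases hk with hk | hk
      · exact Or.inl hk.1
      · exact Or.inr hk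
    · obtain ⟨P, K, hK, ⟨e'⟩⟩ := h
      exact absurd (Cfsg.Agent.Lib.helper6.PSL2Max.CP.of_equiv e'
        (Cfsg.Agent.Lib.helper6.PSL2Max.psl_borel p P K hK).2) hncp
    · obtain ⟨e'⟩ := h
      exfalso
      rw [Nat.card_congr e'.toEquiv, nat_card_alternatingGroup, Nat.card_eq_fintype_card,
        Fintype.card_fin] at hlt
      revert hlt
      decide
    · exfalso
      have h1 := (Cfsg.Agent.S0803.result hF).mp ⟨M, h⟩
      have h16 : p % 16 = 3 ∨ p % 16 = 5 ∨ p % 16 = 11 ∨ p % 16 = 13 := by omega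
      rw [Nat.pow_mod] at h1
      rcases h16 with h | h | h | h <;> rw [h] at h1 <;> revert h1 <;> decide
    · have h1 := (Cfsg.Agent.S0804.result hF).mp ⟨M, h⟩
      have h5' : p % 5 = 0 ∨ p % 5 = 2 ∨ p % 5 = 3 := by omega
      rcases h5' with h0 | h23
      · -- p = 5
        have hp5 : p = 5 := by
          have : 5 ∣ p := Nat.dvd_of_mod_eq_zero h0
          exact ((Nat.prime_dvd_prime_iff_eq (by norm_num) hpP).mp this).symm
        obtain ⟨e'⟩ := h
        apply (Subgroup.card_eq_iff_eq_top M).mp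
        rw [Nat.card_congr e'.toEquiv, nat_card_alternatingGroup, Nat.card_eq_fintype_card,
          Fintype.card_fin]
        subst hp5
        have : Nat.gcd 2 (5 - 1) = 2 := by decide
        rw [this] at hcard
        have h120 : 5 * (5 ^ 2 - 1) = 120 := by norm_num
        rw [h120] at hcard
        have h60 : Nat.factorial 5 / 2 = 60 := by decide
        omega
      · exfalso
        rw [Cfsg.Agent.Lib.helper6.PSL2Index.sq_sub_one_eq p (by omega)] at h1
        have hpr5 : Nat.Prime 5 := by norm_num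
        rcases (hpr5.dvd_mul).mp h1 with h2 | h2
        · omega
        · rcases (hpr5.dvd_mul).mp h2 with h3 | h3 <;> omega
    · obtain ⟨K, iK, iKf, m, hKm, hiso⟩ := h
      apply Cfsg.Agent.Lib.helper6.PSL2Max.eq_top_of_same_field (K := K) _ M hiso
      rw [hF]
      have hm : m ≠ 0 := by
        rintro rfl
        rw [pow_zero] at hKm
        omega
      have h1 : Fintype.card K ∣ p := by
        rw [← hKm]; exact dvd_pow_self _ hm
      rcases (Nat.dvd_prime hpP).mp h1 with h2 | h2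
      · have : 1 < Fintype.card K := Fintype.one_lt_card
        omega
      · exact h2

end Cfsg.Agent.S5940
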