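import Cfsg.Statements.S5941
import Cfsg.Agent.Lib.Helper28.P2Pgl

set_option autoImplicit false

open Cfsg

namespace Cfsg.Agent.S5941

open Cfsg.Agent.Lib.Helper28.P2

/-- Let K and F be finite fields of odd characteristic with #F = (#K)². Then PSL_2(F) has a maximal subgroup isomorphic to PGL_2(K). -/
theorem result {F K : Type*} [Field F] [Fintype F] [Field K] [Fintype K] (q : ℕ) (hK : Fintype.card K = q) (hF : Fintype.card F = q ^ 2) (hq : Odd q) : ∃ H : Subgroup (Matrix.ProjectiveSpecialLinearGroup (Fin 2) F), IsCoatom H ∧ Nonempty (H ≃* Matrix.ProjGenLinGroup (Fin 2) K) := by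
  have hKF : Fintype.card K ^ 2 = Fintype.card F := by rw [hK, hF]
  obtain ⟨ι⟩ := Cfsg.Agent.S0805.exists_ringHom_of_card_pow (F := F) (K := K) 2 hKF
  have hFodd : Odd (Fintype.card F) := by rw [hF]; exact hq.pow
  obtain ⟨H, ⟨e⟩⟩ := Cfsg.Agent.S0805.exists_pgl_sub ι
    (fun d hd => Cfsg.Agent.S0805.exists_sqrt_of_even ι hFodd 1 (by rw [mul_one]; exact hKF)
      one_ne_zero d hd)
  obtain ⟨p, hp⟩ := CharP.exists F
  have : Fact p.Prime := ⟨CharP.char_is_prime F p⟩
  have hKp : CharP K p := RingHom.charP ι ι.injective p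
  have hp2 : p ≠ 2 := by
    intro h2
    subst h2
    have h3 : 2 ∣ Fintype.card K := char_dvd_card 2
    rw [hK] at h3
    rcases hq with ⟨t, ht⟩
    omega
  exact ⟨H, isCoatom_pgl2_subfield p hp2 hKF H e, ⟨e⟩⟩

end Cfsg.Agent.S5941
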