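import Cfsg.Statements.S5942
import Cfsg.Agent.Lib.Helper28.P2Max

set_option autoImplicit false

open Cfsg

namespace Cfsg.Agent.S5942

open Cfsg.Agent.Lib.Helper28.P2

/-- Let K and F be finite fields of odd characteristic with #F = (#K)^r for an odd prime r. Then PSL_2(F) has a maximal subgroup isomorphic to PSL_2(K). -/
theorem result {F K : Type*} [Field F] [Fintype F] [Field K] [Fintype K] (q r : ℕ) (hK : Fintype.card K = q) (hF : Fintype.card F = q ^ r) (hq : Odd q) (hr : r.Prime) (hr2 : r ≠ 2) : ∃ H : Subgroup (Matrix.ProjectiveSpecialLinearGroup (Fin 2) F), IsCoatom H ∧ Nonempty (H ≃* Matrix.ProjectiveSpecialLinearGroup (Fin 2) K) := by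
  have hKF : Fintype.card K ^ r = Fintype.card F := by rw [hK, hF]
  obtain ⟨ι⟩ := Cfsg.Agent.S0805.exists_ringHom_of_card_pow (F := F) (K := K) r hKF
  obtain ⟨H, ⟨e⟩⟩ := Cfsg.Agent.S0805.exists_psl_sub ι
  obtain ⟨p, hp⟩ := CharP.exists F
  have : Fact p.Prime := ⟨CharP.char_is_prime F p⟩
  have hKp : CharP K p := RingHom.charP ι ι.injective p
  have hp2 : p ≠ 2 := by
    intro h2
    subst h2
    have h3 : 2 ∣ Fintype.card K := char_dvd_card 2
    rw [hK] at h3
    rcases hq with ⟨t, ht⟩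
    omega
  exact ⟨H, isCoatom_psl2_subfield p r hr hKF (Or.inr ⟨hp2, hr2⟩) H e, ⟨e⟩⟩

end Cfsg.Agent.S5942
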