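import Cfsg.Statements.S5943
import Cfsg.Agent.Lib.Helper28.P2Max

set_option autoImplicit false

open Cfsg

namespace Cfsg.Agent.S5943

open Cfsg.Agent.Lib.Helper28.P2

/-- Let K and F be finite fields of characteristic 2 with #K = q > 2 and #F = q^r for a prime r. Then PSL_2(F) has a maximal subgroup isomorphic to PSL_2(K) (which equals PGL_2(K) in characteristic 2). -/
theorem result {F K : Type*} [Field F] [Fintype F] [Field K] [Fintype K] (q r : ℕ) (hK : Fintype.card K = q) (hF : Fintype.card F = q ^ r) (hq : Even q) (hq2 : q ≠ 2) (hr : r.Prime) : ∃ H : Subgroup (Matrix.ProjectiveSpecialLinearGroup (Fin 2) F), IsCoatom H ∧ Nonempty (H ≃* Matrix.ProjectiveSpecialLinearGroup (Fin 2) K) := by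
  have hKF : Fintype.card K ^ r = Fintype.card F := by rw [hK, hF]
  obtain ⟨ι⟩ := Cfsg.Agent.S0805.exists_ringHom_of_card_pow (F := F) (K := K) r hKF
  obtain ⟨H, ⟨e⟩⟩ := Cfsg.Agent.S0805.exists_psl_sub ι
  obtain ⟨p, hp⟩ := CharP.exists F
  have : Fact p.Prime := ⟨CharP.char_is_prime F p⟩
  have hKp : CharP K p := RingHom.charP ι ι.injective p
  have hp2 : p = 2 := by
    obtain ⟨a, ha1, ha⟩ : ∃ a, 1 ≤ a ∧ Fintype.card K = p ^ a :=
      card_eq_char_pow (F := K) p 1 one_ne_zero (pow_one _)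
    rw [hK] at ha
    rw [ha] at hq
    have h2 : 2 ∣ p ^ a := hq.two_dvd
    have h3 : 2 ∣ p := Nat.Prime.dvd_of_dvd_pow Nat.prime_two h2
    exact ((Nat.prime_dvd_prime_iff_eq Nat.prime_two (Fact.out : p.Prime)).mp h3).symm
  exact ⟨H, isCoatom_psl2_subfield p r hr hKF (Or.inl ⟨hp2, by rw [hK]; exact hq2⟩) H e, ⟨e⟩⟩

end Cfsg.Agent.S5943
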