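import Cfsg.Statements.S5949
import Cfsg.Agent.Lib.Helper24.ElH

set_option autoImplicit false
open scoped MatrixGroups
open Cfsg

namespace Cfsg.Agent.S5949

theorem result {F : Type*} [Field F] [Fintype F] {p : ℕ} [Fact p.Prime] [CharP F p] {q : ℕ} (hq : Fintype.card F = q)
    (n m : ℕ) (hn : 2 ≤ n) (hT : (n, q) ≠ (2, 2) ∧ (n, q) ≠ (2, 3)) (hm : 1 ≤ m) (hmn : 2 * m ≤ n)
    (r : ℕ) [Fact r.Prime] (hrΩ : r ∣ Nat.card {W : Submodule F (Fin n → F) // Module.finrank F ↥W = m}) :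
    (∀ x : Matrix.SpecialLinearGroup (Fin n) F,
      (∃ c : F, ((x ^ r : Matrix.SpecialLinearGroup (Fin n) F) : Matrix (Fin n) (Fin n) F) = c • (1 : Matrix (Fin n) (Fin n) F)) →
      (∀ c : F, (x : Matrix (Fin n) (Fin n) F) ≠ c • (1 : Matrix (Fin n) (Fin n) F)) →
      ∃ W : Submodule F (Fin n → F), Module.finrank F ↥W = m ∧ W.map (Matrix.toLin' (x : Matrix (Fin n) (Fin n) F)) ≤ W) ↔
    (r ≠ p ∧
      ((orderOf (q : ZMod r) = 1 ∧ (r ∣ m ∨ (padicValNat r n ≤ padicValNat r (q - 1) ∧ (r = 2 → Even n → q % 4 = 1)))) ∨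
       (2 ≤ orderOf (q : ZMod r) ∧ orderOf (q : ZMod r) ≤ m ∧ m % orderOf (q : ZMod r) ≤ n % orderOf (q : ZMod r)))) := by
  subst hq
  have hrp : r ≠ p := Lib.Helper24.el_ne_char n m (by omega) r hrΩ
  constructor
  · intro hall
    refine ⟨hrp, Lib.Helper24.el_nec n m hn hmn r hrp hrΩ ?_⟩
    intro x hdet hx hns
    obtain ⟨c, hc⟩ := hx
    have h := hall (⟨x, hdet⟩ : Matrix.SpecialLinearGroup (Fin n) F)
    exact h ⟨c, (Matrix.SpecialLinearGroup.coe_pow _ r).trans hc⟩ hns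
  · rintro ⟨_, hcond⟩ x ⟨c, hc⟩ _
    rw [Matrix.SpecialLinearGroup.coe_pow] at hc
    refine Lib.Helper24.el_suff n m hn (by omega) r hrp ?_ x.1 x.2 c hc
    rcases hcond with h | ⟨h1, _, h3⟩
    · exact Or.inl h
    · exact Or.inr ⟨h1, h3⟩

end Cfsg.Agent.S5949
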