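import Cfsg.Statements.S5950
import Cfsg.Agent.Lib.Helper24.ElS

set_option autoImplicit false
open scoped MatrixGroups
open Cfsg

namespace Cfsg.Agent.S5950

theorem result {F : Type*} [Field F] [Fintype F] {p : ℕ} [Fact p.Prime] [CharP F p] {q : ℕ} (hq : Fintype.card F = q)
    (n m : ℕ) (hn : 3 ≤ n) (hm : 1 ≤ m) (hmn : 2 * m < n)
    (r : ℕ) [Fact r.Prime]
    (hrΩ : r ∣ Nat.card {P : Submodule F (Fin n → F) × Submodule F (Fin n → F) // IsCompl P.1 P.2 ∧ Module.finrank F ↥P.1 = m}) :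
    (∀ x : Matrix.SpecialLinearGroup (Fin n) F,
      (∃ c : F, ((x ^ r : Matrix.SpecialLinearGroup (Fin n) F) : Matrix (Fin n) (Fin n) F) = c • (1 : Matrix (Fin n) (Fin n) F)) →
      (∀ c : F, (x : Matrix (Fin n) (Fin n) F) ≠ c • (1 : Matrix (Fin n) (Fin n) F)) →
      ∃ U W : Submodule F (Fin n → F), IsCompl U W ∧ Module.finrank F ↥U = m ∧
        U.map (Matrix.toLin' (x : Matrix (Fin n) (Fin n) F)) ≤ U ∧ W.map (Matrix.toLin' (x : Matrix (Fin n) (Fin n) F)) ≤ W) ↔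
    ((r = p ∧ 2 < p ∧ (∀ μ : Multiset ℕ, (∀ a ∈ μ, 0 < a ∧ a ≤ p) → μ.sum = n → ∃ ν : Multiset ℕ, ν ≤ μ ∧ ν.sum = m)) ∨
     (r = p ∧ p = 2 ∧ (Odd n ∨ Even m)) ∨
     (r ≠ p ∧
      ((orderOf (q : ZMod r) = 1 ∧ (r ∣ m ∨ (padicValNat r n ≤ padicValNat r (q - 1) ∧ (r = 2 → Even n → q % 4 = 1)))) ∨
       (2 ≤ orderOf (q : ZMod r) ∧ orderOf (q : ZMod r) ≤ m ∧ m % orderOf (q : ZMod r) ≤ n % orderOf (q : ZMod r))))) := by
  subst hq
  by_cases hrp : r = p
  · subst hrp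
    constructor
    · intro hall
      have hPC : ∀ μ : Multiset ℕ, (∀ a ∈ μ, 0 < a ∧ a ≤ r) → μ.sum = n →
          ∃ ν : Multiset ℕ, ν ≤ μ ∧ ν.sum = m := by
        intro μ hμ hsum
        by_cases hne : ∃ a ∈ μ, a ≠ 1
        · obtain ⟨x, hdet, hxp, hns, hinv⟩ := Lib.Helper24.el_unip_build (F := F) n μ hμ hsum hne
          have h := hall (⟨x, hdet⟩ : Matrix.SpecialLinearGroup (Fin n) F)
          obtain ⟨U, W, hUW, hUd, hU, hW⟩ :=
            h ⟨1, (Matrix.SpecialLinearGroup.coe_pow _ r).trans hxp⟩ hns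
          obtain ⟨ν, hν, hνs⟩ := hinv U W hUW hU hW
          exact ⟨ν, hν, hνs.trans hUd⟩
        · push Not at hne
          exact Lib.Helper24.el_pc_ones n m (by omega) μ hne hsum
      have h2 : 2 ≤ r := (Fact.out : r.Prime).two_le
      rcases Nat.lt_or_ge 2 r with h | h
      · exact Or.inl ⟨rfl, h, hPC⟩
      · have hr2 : r = 2 := by omega
        refine Or.inr (Or.inl ⟨rfl, hr2, ?_⟩)
        apply Lib.Helper24.el_pc_two_nec n m
        intro μ hμ hsum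
        exact hPC μ (fun a ha => by rw [hr2]; exact hμ a ha) hsum
    · intro hcond x ⟨c, hc⟩ _
      rw [Matrix.SpecialLinearGroup.coe_pow] at hc
      have hPC : ∀ μ : Multiset ℕ, (∀ a ∈ μ, 0 < a ∧ a ≤ r) → μ.sum = n →
          ∃ ν : Multiset ℕ, ν ≤ μ ∧ ν.sum = m := by
        rcases hcond with ⟨_, _, h⟩ | ⟨_, hr2, h⟩ | ⟨h, _⟩
        · exact h
        · intro μ hμ hsum
          exact Lib.Helper24.el_pc_two_suff n m (by omega) h μ
            (fun a ha => by rw [← hr2]; exact hμ a ha) hsum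
        · exact absurd rfl h
      exact Lib.Helper24.el_unip_suff n m hPC x.1 c hc
        (Lib.Helper24.el_scalar_ne_zero n (by omega) r x.1 x.2 c hc)
  · have hrΩ' := Lib.Helper24.el_pairs_dvd n m r hrp hrΩ
    constructor
    · intro hall
      refine Or.inr (Or.inr ⟨hrp, Lib.Helper24.el_nec n m (by omega) (by omega) r hrp hrΩ' ?_⟩)
      intro x hdet hx hns
      obtain ⟨c, hc⟩ := hx
      have h := hall (⟨x, hdet⟩ : Matrix.SpecialLinearGroup (Fin n) F)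
      obtain ⟨U, W, _, hUd, hU, _⟩ := h ⟨c, (Matrix.SpecialLinearGroup.coe_pow _ r).trans hc⟩ hns
      exact ⟨U, hUd, hU⟩
    · rintro (⟨h, _⟩ | ⟨h, _⟩ | ⟨_, hcond⟩)
      · exact absurd h hrp
      · exact absurd h hrp
      · intro x ⟨c, hc⟩ _
        rw [Matrix.SpecialLinearGroup.coe_pow] at hc
        refine Lib.Helper24.el_suff_pair n m (by omega) (by omega) r hrp ?_ x.1 x.2 c hc
        rcases hcond with h | ⟨h1, _, h3⟩
        · exact Or.inl h
        · exact Or.inr ⟨h1, h3⟩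

end Cfsg.Agent.S5950
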