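import Cfsg.Statements.S5952
-- import your own Cfsg.Agent.* helpers here

set_option autoImplicit false
open Cfsg

namespace Cfsg.Agent.S5952
open Module

variable {F V : Type*} [Field F] [AddCommGroup V] [Module F V] [FiniteDimensional F V]

/-- partial sums -/
def Vk {s : ℕ} (U : Fin s → Submodule F V) (C' : Submodule F V) (k : ℕ) : Submodule F V :=
  C' ⊔ ⨆ (j : Fin s) (_ : j.val < k), U j

theorem Vk_zero {s : ℕ} (U : Fin s → Submodule F V) (C' : Submodule F V) : Vk U C' 0 = C' := by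
  simp [Vk]

theorem Vk_succ {s : ℕ} (U : Fin s → Submodule F V) (C' : Submodule F V) (k : ℕ) (hk : k < s) :
    Vk U C' (k + 1) = Vk U C' k ⊔ U ⟨k, hk⟩ := by
  unfold Vk
  rw [sup_assoc]
  congr 1
  apply le_antisymm
  · apply iSup₂_le
    intro j hj
    rcases Nat.lt_succ_iff_lt_or_eq.mp hj with h | h
    · exact le_sup_of_le_left (le_iSup₂_of_le j h le_rfl)
    · have : j = ⟨k, hk⟩ := Fin.ext h
      rw [this]; exact le_sup_right
  · apply sup_le
    · apply iSup₂_le
      intro j hj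
      exact le_iSup₂_of_le j (Nat.lt_succ_of_lt hj) le_rfl
    · exact le_iSup₂_of_le ⟨k, hk⟩ (Nat.lt_succ_self k) le_rfl

theorem Vk_top {s : ℕ} (U : Fin s → Submodule F V) (C : Submodule F V)
    (htop : (⨆ o : Option (Fin s), o.elim C U) = ⊤) : Vk U C s = ⊤ := by
  rw [← htop, iSup_option]
  unfold Vk
  congr 1
  apply le_antisymm
  · apply iSup₂_le
    intro j _
    exact le_iSup (fun b => (some b).elim C U) j
  · apply iSup_le
    intro j
    exact le_iSup₂_of_le j j.isLt le_rfl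

theorem Vk_disjoint {s : ℕ} (U : Fin s → Submodule F V) (C C' : Submodule F V) (hC' : C' ≤ C)
    (hind : iSupIndep (fun o : Option (Fin s) => o.elim C U)) (k : ℕ) (hk : k < s) :
    Disjoint (Vk U C' k) (U ⟨k, hk⟩) := by
  have h1 := (hind (some ⟨k, hk⟩)).symm
  refine Disjoint.mono_left ?_ h1
  unfold Vk
  apply sup_le
  · exact le_iSup₂_of_le none (by simp) hC'
  · apply iSup₂_le
    intro j hj
    refine le_iSup₂_of_le (some j) ?_ le_rfl
    intro e
    have : j = ⟨k, hk⟩ := Option.some_injective _ e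
    rw [this] at hj
    exact lt_irrefl _ hj

theorem finrank_Vk {s a : ℕ} (U : Fin s → Submodule F V) (C C' : Submodule F V) (hC' : C' ≤ C)
    (hind : iSupIndep (fun o : Option (Fin s) => o.elim C U))
    (hUdim : ∀ j, finrank F ↥(U j) = a) (k : ℕ) (hk : k ≤ s) :
    finrank F ↥(Vk U C' k) = finrank F ↥C' + k * a := by
  induction k with
  | zero => rw [Vk_zero]; simp
  | succ k ih =>
    have hk' : k < s := hk
    rw [Vk_succ U C' k hk']
    have h1 := Submodule.finrank_sup_add_finrank_inf_eq (Vk U C' k) (U ⟨k, hk'⟩)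
    rw [(Vk_disjoint U C C' hC' hind k hk').eq_bot, finrank_bot, ih hk'.le, hUdim] at h1
    rw [add_zero] at h1
    rw [h1]; ring

theorem map_Vk_le {s : ℕ} (f : V →ₗ[F] V) (U : Fin s → Submodule F V) (C' : Submodule F V)
    (hC' : C'.map f ≤ C') (hUinv : ∀ j, (U j).map f ≤ U j) (k : ℕ) : (Vk U C' k).map f ≤ Vk U C' k := by
  unfold Vk
  rw [Submodule.map_sup]
  apply sup_le_sup hC'
  rw [Submodule.map_iSup]
  apply iSup_le
  intro j
  rw [Submodule.map_iSup]
  apply iSup_le
  intro hj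
  exact le_iSup₂_of_le j hj (hUinv j)

theorem forward_step {s a : ℕ} (f : V →ₗ[F] V) (U : Fin s → Submodule F V) (C : Submodule F V)
    (hCinv : C.map f ≤ C)
    (hind : iSupIndep (fun o : Option (Fin s) => o.elim C U))
    (hUinv : ∀ j, (U j).map f ≤ U j) (hUdim : ∀ j, finrank F ↥(U j) = a)
    (hUirr : ∀ j, ∀ W : Submodule F V, W ≤ U j → W.map f ≤ W → W = ⊥ ∨ W = U j)
    (W : Submodule F V) (hW : W.map f ≤ W) (k : ℕ) (hk : k < s) :
    finrank F ↥(W ⊓ Vk U C (k + 1)) = finrank F ↥(W ⊓ Vk U C k) ∨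
      finrank F ↥(W ⊓ Vk U C (k + 1)) = finrank F ↥(W ⊓ Vk U C k) + a := by
  set Vk0 := Vk U C k with hVk0
  set Vk1 := Vk U C (k + 1) with hVk1
  have hsucc : Vk1 = Vk0 ⊔ U ⟨k, hk⟩ := Vk_succ U C k hk
  have hle : Vk0 ≤ Vk1 := by rw [hsucc]; exact le_sup_left
  set X := (W ⊓ Vk1) ⊔ Vk0 with hX
  have hXle : X ≤ Vk1 := sup_le inf_le_right hle
  have hinv0 : Vk0.map f ≤ Vk0 := map_Vk_le f U C hCinv hUinv k
  have hinv1 : Vk1.map f ≤ Vk1 := map_Vk_le f U C hCinv hUinv (k + 1)
  have hWV1 : (W ⊓ Vk1).map f ≤ W ⊓ Vk1 :=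
    le_inf ((Submodule.map_mono inf_le_left).trans hW) ((Submodule.map_mono inf_le_right).trans hinv1)
  have hXinv : X.map f ≤ X := by
    rw [hX, Submodule.map_sup]
    exact sup_le_sup hWV1 hinv0
  have hXU : (X ⊓ U ⟨k, hk⟩).map f ≤ X ⊓ U ⟨k, hk⟩ :=
    le_inf ((Submodule.map_mono inf_le_left).trans hXinv) ((Submodule.map_mono inf_le_right).trans (hUinv _))
  -- modular law
  have hmod : X = Vk0 ⊔ (X ⊓ U ⟨k, hk⟩) := by
    have h0 : Vk0 ≤ X := le_sup_right
    have := (sup_inf_assoc_of_le (U ⟨k, hk⟩) h0)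
    -- (Vk0 ⊔ U) ⊓ X = Vk0 ⊔ U ⊓ X
    rw [← hsucc, inf_eq_right.mpr hXle] at this
    rw [inf_comm] at this
    exact this
  have hdisj : Disjoint Vk0 (U ⟨k, hk⟩) := Vk_disjoint U C C le_rfl hind k hk
  have hdim1 : finrank F ↥Vk1 = finrank F ↥Vk0 + a := by
    have h1 := Submodule.finrank_sup_add_finrank_inf_eq Vk0 (U ⟨k, hk⟩)
    rw [hdisj.eq_bot, finrank_bot, add_zero, hUdim, ← hsucc] at h1
    exact h1
  have hWk : (W ⊓ Vk1) ⊓ Vk0 = W ⊓ Vk0 := by
    rw [inf_assoc, inf_eq_right.mpr hle]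
  have hsum := Submodule.finrank_sup_add_finrank_inf_eq (W ⊓ Vk1) Vk0
  rw [hWk, ← hX] at hsum
  rcases hUirr ⟨k, hk⟩ _ inf_le_right hXU with h | h
  · left
    rw [h, sup_bot_eq] at hmod
    rw [hmod] at hsum
    omega
  · right
    rw [h, ← hsucc] at hmod
    rw [hmod, hdim1] at hsum
    omega

theorem forward {s a : ℕ} (f : V →ₗ[F] V) (U : Fin s → Submodule F V) (C : Submodule F V)
    (hCinv : C.map f ≤ C)
    (hind : iSupIndep (fun o : Option (Fin s) => o.elim C U))
    (hUinv : ∀ j, (U j).map f ≤ U j) (hUdim : ∀ j, finrank F ↥(U j) = a)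
    (hUirr : ∀ j, ∀ W : Submodule F V, W ≤ U j → W.map f ≤ W → W = ⊥ ∨ W = U j)
    (W : Submodule F V) (hW : W.map f ≤ W) (k : ℕ) (hk : k ≤ s) :
    ∃ n ≤ k, finrank F ↥(W ⊓ Vk U C k) = finrank F ↥(W ⊓ C) + n * a := by
  induction k with
  | zero => exact ⟨0, le_rfl, by rw [Vk_zero]; simp⟩
  | succ k ih =>
    obtain ⟨n, hn, hdim⟩ := ih (Nat.le_of_succ_le hk)
    rcases forward_step f U C hCinv hind hUinv hUdim hUirr W hW k hk with h | h
    · exact ⟨n, by omega, by rw [h, hdim]⟩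
    · exact ⟨n + 1, by omega, by rw [h, hdim]; ring⟩

theorem exists_sub_finrank (C : Submodule F V) (c' : ℕ) (hc : c' ≤ finrank F ↥C) :
    ∃ C' : Submodule F V, C' ≤ C ∧ finrank F ↥C' = c' := by
  obtain ⟨g, hg⟩ := exists_linearIndependent_of_le_finrank hc
  have hg' : LinearIndependent F (C.subtype ∘ g) :=
    hg.map' C.subtype (Submodule.ker_subtype C)
  refine ⟨Submodule.span F (Set.range (C.subtype ∘ g)), ?_, ?_⟩
  · rw [Submodule.span_le]
    rintro _ ⟨i, rfl⟩
    exact (g i).2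
  · rw [finrank_span_eq_card hg', Fintype.card_fin]


/-- Which dimensions of invariant subspaces a semisimple linear map has. Let `V` be a finite-dimensional vector space over a field `F` and `f` an invertible semisimple linear map of `V`. Suppose `V` is the internal direct sum of the fixed space `C_V(f)` (the eigenspace for 1) and subspaces `U_1, …, U_s`, each `f`-invariant of dimension `a ≥ 1` on which `f` acts irreducibly (no `f`-invariant subspaces other than 0 and `U_j`). Let `0 < m < dim V` and `ℓ = m mod a`. Then `f` leaves some `m`-dimensional subspace invariant if and only if `dim C_V(f) ≥ m`, or `a ≤ m` and `dim C_V(f) ≥ ℓ`. -/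
theorem result {F V : Type*} [Field F] [AddCommGroup V] [Module F V]
    [FiniteDimensional F V] (f : V →ₗ[F] V) (hf : Function.Bijective f) (hss : Module.End.IsSemisimple f)
    {s a : ℕ} (ha : 1 ≤ a) (U : Fin s → Submodule F V)
    (hUinv : ∀ j, (U j).map f ≤ U j) (hUdim : ∀ j, Module.finrank F ↥(U j) = a)
    (hUirr : ∀ j, ∀ W : Submodule F V, W ≤ U j → W.map f ≤ W → W = ⊥ ∨ W = U j)
    (hdec : DirectSum.IsInternal (fun o : Option (Fin s) => o.elim (Module.End.eigenspace f 1) U))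
    (m : ℕ) (hm : 0 < m) (hmV : m < Module.finrank F V) :
    (∃ W : Submodule F V, Module.finrank F ↥W = m ∧ W.map f ≤ W) ↔
    (m ≤ Module.finrank F ↥(Module.End.eigenspace f 1) ∨
      (a ≤ m ∧ m % a ≤ Module.finrank F ↥(Module.End.eigenspace f 1))) := by
  set C := Module.End.eigenspace f 1 with hC
  have hind : iSupIndep (fun o : Option (Fin s) => o.elim C U) := hdec.submodule_iSupIndep
  have htop : (⨆ o : Option (Fin s), o.elim C U) = ⊤ := hdec.submodule_iSup_eq_top
  have hsubinv : ∀ C' : Submodule F V, C' ≤ C → C'.map f ≤ C' := by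
    rintro C' hC' _ ⟨v, hv, rfl⟩
    have : f v = (1 : F) • v := Module.End.mem_eigenspace_iff.mp (hC' hv)
    rw [this, one_smul]; exact hv
  have hVdim : finrank F V = finrank F ↥C + s * a := by
    rw [← finrank_Vk U C C le_rfl hind hUdim s le_rfl, Vk_top U C htop, finrank_top]
  constructor
  · rintro ⟨W, hWdim, hWinv⟩
    obtain ⟨n, hn, hdim⟩ := forward f U C (hsubinv C le_rfl) hind hUinv hUdim hUirr W hWinv s le_rfl
    rw [Vk_top U C htop, inf_top_eq, hWdim] at hdim
    have hc' : finrank F ↥(W ⊓ C) ≤ finrank F ↥C := Submodule.finrank_mono inf_le_right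
    rcases Nat.eq_zero_or_pos n with h0 | hpos
    · left; rw [hdim, h0]; omega
    · right
      constructor
      · rw [hdim]
        calc a = 1 * a := (one_mul a).symm
          _ ≤ n * a := Nat.mul_le_mul_right a hpos
          _ ≤ _ := Nat.le_add_left _ _
      · rw [hdim, Nat.add_mul_mod_self_right]
        exact (Nat.mod_le _ _).trans hc'
  · intro h
    -- choose k', c'
    have hex : ∃ c' k', c' ≤ finrank F ↥C ∧ k' ≤ s ∧ m = c' + k' * a := by
      rcases h with h | ⟨h1, h2⟩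
      · exact ⟨m, 0, h, Nat.zero_le _, by simp⟩
      · by_cases hks : m / a ≤ s
        · exact ⟨m % a, m / a, h2, hks, by rw [mul_comm]; exact (Nat.mod_add_div m a).symm⟩
        · refine ⟨m - s * a, s, ?_, le_rfl, ?_⟩
          · omega
          · have : s * a ≤ m := by
              have h3 : s * a ≤ (m / a) * a := Nat.mul_le_mul_right a (by omega)
              exact h3.trans (Nat.div_mul_le_self m a)
            omega
    obtain ⟨c', k', hc', hk', hmeq⟩ := hex
    obtain ⟨C', hC'le, hC'dim⟩ := exists_sub_finrank C c' hc'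
    refine ⟨Vk U C' k', ?_, map_Vk_le f U C' (hsubinv C' hC'le) hUinv k'⟩
    rw [finrank_Vk U C C' hC'le hind hUdim k' hk', hC'dim, hmeq]

end Cfsg.Agent.S5952
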