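import Cfsg.Statements.S5954
import Cfsg.Agent.Lib.Helper19.S5954.DefsTop
import Cfsg.Agent.Lib.Helper20.S5954TPS
import Cfsg.Agent.Lib.Helper25.S5954TPN
import Cfsg.Agent.Lib.helper8.S5954TP2
import Cfsg.Agent.Lib.Helper5.S5954T2S
import Cfsg.Agent.Lib.Helper5.S5954T2N
import Cfsg.Agent.Lib.helper4.S5954TIS
import Cfsg.Agent.Lib.Helper24.S5954TIN
import Cfsg.Agent.Lib.helper4.S5954TOS
import Cfsg.Agent.Lib.Helper26.S5954TON

set_option autoImplicit false
open scoped MatrixGroups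
open Cfsg

namespace Cfsg.Agent.S5954

open Cfsg.Agent.Lib.Helper19.S5954 in
/-- Elements of prime order of PSU_n(q) with no fixed nondegenerate `m`-space (project S5954, designer helper19; the nine TOP rows
`top_p_suff`, `top_p_nec`, `pch_two`, `top_two_suff`, `top_two_nec`, `top_i2_suff`, `top_i2_nec`, `top_odd_suff`, `top_odd_nec`). -/
theorem result {F : Type*} [Field F] [Fintype F] {p : ℕ} [Fact p.Prime] [CharP F p] {q : ℕ} (hq : Fintype.card F = q ^ 2)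
    (n m : ℕ) (hn : 3 ≤ n) (hT : (n, q) ≠ (3, 2)) (hm : 1 ≤ m) (hmn : 2 * m < n)
    (r : ℕ) [Fact r.Prime]
    (hrΩ : r ∣ Nat.card {W : Submodule F (Fin n → F) // Module.finrank F ↥W = m ∧ (∀ u ∈ W, u ≠ 0 → ∃ v ∈ W, Cfsg.hermForm n F q u v ≠ 0)})
    (i b c : ℕ) (hi : i = orderOf (q : ZMod r)) (hb : b = if Even i then i / 2 else i)
    (hc : c = if i % 4 = 0 then i else if i % 4 = 2 then i / 2 else 2 * i) :
    (∀ x : Matrix.SpecialLinearGroup (Fin n) F, x ∈ Cfsg.SU n F q →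
      (∃ z : F, ((x ^ r : Matrix.SpecialLinearGroup (Fin n) F) : Matrix (Fin n) (Fin n) F) = z • (1 : Matrix (Fin n) (Fin n) F)) →
      (∀ z : F, (x : Matrix (Fin n) (Fin n) F) ≠ z • (1 : Matrix (Fin n) (Fin n) F)) →
      ∃ W : Submodule F (Fin n → F), Module.finrank F ↥W = m ∧ (∀ u ∈ W, u ≠ 0 → ∃ v ∈ W, Cfsg.hermForm n F q u v ≠ 0) ∧
        W.map (Matrix.toLin' (x : Matrix (Fin n) (Fin n) F)) ≤ W) ↔
    ((r = p ∧ 2 < p ∧ (∀ μ : Multiset ℕ, (∀ a ∈ μ, 0 < a ∧ a ≤ p) → μ.sum = n → ∃ ν : Multiset ℕ, ν ≤ μ ∧ ν.sum = m)) ∨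
     (r = p ∧ p = 2 ∧ (Odd n ∨ Even m)) ∨
     (r = 2 ∧ p ≠ 2 ∧ (Odd n ∨ Even m ∨ (padicValNat 2 n ≤ padicValNat 2 (q + 1) ∧ q % 4 = 3))) ∨
     (r ≠ p ∧ 2 < r ∧ ((i ≠ 2 ∧ c ≤ m ∧ m % c ≤ n % c) ∨ (i = 2 ∧ (r ∣ m ∨ padicValNat r n ≤ padicValNat r (q + 1)))))) := by
  have hpp : p.Prime := Fact.out
  have hrp : r.Prime := Fact.out
  have hmn' : m ≤ n := by omega
  have hcc : c = Cfsg.Agent.Lib.helper3.S5953.cc i := hc
  change AllFix F n m q r ↔ _
  by_cases hrp_eq : r = p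
  · subst hrp_eq
    by_cases hp2 : r = 2
    · -- r = p = 2
      subst hp2
      constructor
      · intro h
        have h1 := top_p_nec hq n m hn hm hmn h
        exact Or.inr (Or.inl ⟨rfl, rfl, (pch_two n m hmn').mp h1⟩)
      · rintro (⟨-, h2, -⟩ | ⟨-, -, h⟩ | ⟨-, h2, -⟩ | ⟨h2, -⟩)
        · omega
        · exact top_p_suff hq n m hn hm hmn ((pch_two n m hmn').mpr h)
        · exact absurd rfl h2
        · exact absurd rfl h2
    · have h2r : 2 < r := by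
        have := hrp.two_le
        omega
      constructor
      · intro h
        exact Or.inl ⟨rfl, h2r, top_p_nec hq n m hn hm hmn h⟩
      · rintro (⟨-, -, h⟩ | ⟨-, h2, -⟩ | ⟨h2, -⟩ | ⟨h2, -⟩)
        · exact top_p_suff hq n m hn hm hmn h
        · exact absurd h2 hp2
        · exact absurd h2 hp2
        · exact absurd rfl h2
  · by_cases hr2 : r = 2
    · subst hr2
      have hp2 : p ≠ 2 := fun h => hrp_eq h.symm
      constructor
      · intro h
        exact Or.inr (Or.inr (Or.inl ⟨rfl, hp2, top_two_nec hq hp2 n m hn hm hmn h⟩))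
      · rintro (⟨h2, -⟩ | ⟨h2, -⟩ | ⟨-, -, h⟩ | ⟨-, h2, -⟩)
        · exact absurd h2 hrp_eq
        · exact absurd h2 hrp_eq
        · exact top_two_suff hq hp2 n m hn hm hmn h
        · omega
    · have h2r : 2 < r := by
        have := hrp.two_le
        omega
      by_cases hi2 : i = 2
      · have hi' : orderOf (q : ZMod r) = 2 := by rw [← hi]; exact hi2
        constructor
        · intro h
          exact Or.inr (Or.inr (Or.inr ⟨hrp_eq, h2r, Or.inr ⟨hi2, top_i2_nec hq r hrp_eq h2r hi' n m hn hm hmn h⟩⟩))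
        · rintro (⟨h2, -⟩ | ⟨h2, -⟩ | ⟨h2, -⟩ | ⟨-, -, (⟨h2, -⟩ | ⟨-, h⟩)⟩)
          · exact absurd h2 hrp_eq
          · exact absurd h2 hrp_eq
          · exact absurd h2 hr2
          · exact absurd hi2 h2
          · exact top_i2_suff hq r hrp_eq h2r hi' n m hn hm hmn h
      · constructor
        · intro h
          have h1 := top_odd_nec hq r hrp_eq h2r i hi hi2 n m hn hm hmn hrΩ h
          rw [← hcc] at h1
          exact Or.inr (Or.inr (Or.inr ⟨hrp_eq, h2r, Or.inl ⟨hi2, h1⟩⟩))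
        · rintro (⟨h2, -⟩ | ⟨h2, -⟩ | ⟨h2, -⟩ | ⟨-, -, (⟨-, h1, h2⟩ | ⟨h2, -⟩)⟩)
          · exact absurd h2 hrp_eq
          · exact absurd h2 hrp_eq
          · exact absurd h2 hr2
          · rw [hcc] at h1 h2
            exact top_odd_suff hq r hrp_eq h2r i hi hi2 n m hn hm hmn h1 h2
          · exact absurd h2 hi2

end Cfsg.Agent.S5954
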