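import Cfsg.Statements.S5955
import Cfsg.Agent.Lib.Helper11.S5955C2
import Cfsg.Agent.Lib.Helper16.S5955R5
import Cfsg.Agent.Lib.Helper1.S5955X23
import Cfsg.Agent.Lib.Helper1.S5955N13
import Cfsg.Agent.Lib.Helper25.S5955R4
import Cfsg.Agent.Lib.Helper18.S5955T13

set_option autoImplicit false
open scoped MatrixGroups
open Cfsg

namespace Cfsg.Agent.S5955

open Cfsg.Agent.Lib.Helper13.S5955 Module

/-- Elements of prime order of PSp_n(q) with no fixed totally isotropic `m`-space. Here `T = PSp_n(q)` with `n = 2d ≥ 4`, `(n, q) ≠ (4, 2)`, realised through the symplectic matrices over the field `F` with `q` elements (preserving the standard alternating form); an element of `T` of prime order `r` is such a matrix `x` with `x^r` scalar and `x` not scalar. For `r ≠ p` let `i` be the multiplicative order of `q` modulo `r`, `c = i` for `i` even and `c = 2i` for `i` odd, and write `k = n mod c`, `ℓ = m mod i`, `ℓ' = m mod c`, `n' = ⌊n/i⌋`, `m' = ⌊m/i⌋`,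 `t = (r−1)/i`. Let `1 ≤ m ≤ n/2` and let `r` be a prime dividing the number of totally isotropic `m`-spaces. Then every element of `T` of order `r` fixes a totally isotropic `m`-space if and only if either (i) `r = 2 ≠ p` and (`m` is even or `q ≡ 1 (mod 4)`); or (ii) `r ≠ p`, `r > 2`, `i ≤ m`, `k ≥ 2ℓ`, and (`i` is odd or `n' − 2m' ≥ t`). -/
theorem result {F : Type*} [Field F] [Fintype F] {p : ℕ} [Fact p.Prime] [CharP F p] {q : ℕ} (hq : Fintype.card F = q)
    (d m : ℕ) (hd : 2 ≤ d) (hT : (d, q) ≠ (2, 2)) (hm : 1 ≤ m) (hmd : m ≤ d)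
    (r : ℕ) [Fact r.Prime]
    (hrΩ : r ∣ Nat.card {W : Submodule F (Fin d ⊕ Fin d → F) // Module.finrank F ↥W = m ∧ (∀ u ∈ W, ∀ v ∈ W, Cfsg.sympForm d F u v = 0)})
    (i c : ℕ) (hi : i = orderOf (q : ZMod r)) (hc : c = if Even i then i else 2 * i) :
    (∀ x : ↥(Matrix.symplecticGroup (Fin d) F),
      (∃ z : F, ((x ^ r : ↥(Matrix.symplecticGroup (Fin d) F)) : Matrix (Fin d ⊕ Fin d) (Fin d ⊕ Fin d) F) = z • (1 : Matrix (Fin d ⊕ Fin d) (Fin d ⊕ Fin d) F)) →
      (∀ z : F, (x : Matrix (Fin d ⊕ Fin d) (Fin d ⊕ Fin d) F) ≠ z • (1 : Matrix (Fin d ⊕ Fin d) (Fin d ⊕ Fin d) F)) →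
      ∃ W : Submodule F (Fin d ⊕ Fin d → F), Module.finrank F ↥W = m ∧ (∀ u ∈ W, ∀ v ∈ W, Cfsg.sympForm d F u v = 0) ∧
        W.map (Matrix.toLin' (x : Matrix (Fin d ⊕ Fin d) (Fin d ⊕ Fin d) F)) ≤ W) ↔
    ((r = 2 ∧ p ≠ 2 ∧ (Even m ∨ q % 4 = 1)) ∨
     (r ≠ p ∧ 2 < r ∧ i ≤ m ∧ 2 * (m % i) ≤ (2 * d) % c ∧ (Odd i ∨ (r - 1) / i + 2 * (m / i) ≤ (2 * d) / i))) := by
  subst hq
  have hrpr : r.Prime := Fact.out
  obtain ⟨hrp, hj⟩ := ti_count_dvd (F := F) (p := p) d m hmd r hrΩ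
  have hfr : finrank F (Fin d ⊕ Fin d → F) = 2 * d := by
    rw [Module.finrank_fintype_fun_eq_card, Fintype.card_sum, Fintype.card_fin]
    ring
  constructor
  · intro hall
    by_cases hr2 : r = 2
    · left
      have hp2 : p ≠ 2 := fun h => hrp (hr2.trans h.symm)
      refine ⟨hr2, hp2, ?_⟩
      by_contra hcon
      push Not at hcon
      obtain ⟨hmo, hq1⟩ := hcon
      have hmo' : Odd m := Nat.not_even_iff_odd.mp hmo
      have hqodd : Fintype.card F % 2 = 1 := FiniteField.odd_card_of_char_ne_two (by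
        rw [ringChar.eq F p]; exact hp2)
      have hq3 : Fintype.card F % 4 = 3 := by omega
      obtain ⟨x, hx2, hxns, hxno⟩ := two_nec (F := F) d m (by omega) hmo' hq3
      subst hr2
      obtain ⟨W, hWd, _, hWinv⟩ := hall x ⟨-1, hx2⟩ hxns
      exact hxno ⟨W, hWd, hWinv⟩
    · right
      have hr2' : 2 < r := lt_of_le_of_ne hrpr.two_le (Ne.symm hr2)
      have hodd : Odd r := hrpr.odd_of_ne_two hr2
      have hnec := nec_abs (F := F) (p := p) r hrp hr2 d m i c hi hc hm hmd hj (by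
        intro y hy hy1
        obtain ⟨x, hxy, hxr, hxns⟩ := realize d r hodd y hy hy1
        obtain ⟨W, hWd, hWti, hWinv⟩ := hall x ⟨1, hxr⟩ hxns
        refine ⟨W, ?_, ?_, hWd⟩
        · rw [hxy] at hWinv
          exact (Cfsg.Agent.Lib.Helper24.el_inv_iff y W).mp hWinv
        · intro u hu v hv
          rw [stdB_apply]
          exact hWti u hu v hv)
      exact ⟨hrp, hr2', hnec⟩
  · rintro (⟨rfl, hp2, hcond⟩ | ⟨_, hr2, _, h1, h2⟩) x ⟨z, hz⟩ _
    · have h2F : (2 : F) ≠ 0 := by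
        intro h0
        have : ((2 : ℕ) : F) = 0 := by exact_mod_cast h0
        rw [CharP.cast_eq_zero_iff F p 2] at this
        exact hp2 ((Nat.prime_dvd_prime_iff_eq Fact.out Nat.prime_two).mp this)
      exact two_suff h2F d m (by omega) hmd hcond x z hz
    · have hodd : Odd r := hrpr.odd_of_ne_two (by omega)
      obtain ⟨y, hy, hyinv⟩ := std_ctx_odd d (by omega) r hodd x z hz
      obtain ⟨W, hWinv, hWti, hWd⟩ := suff_abs (p := p) hrp hy d m hfr hmd i c hi hc h1 h2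
      refine ⟨W, hWd, ?_, hyinv W hWinv⟩
      intro u hu v hv
      rw [← stdB_apply]
      exact hWti u hu v hv

end Cfsg.Agent.S5955
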