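import Mathlib
import Cfsg.Statements.S5956
import Cfsg.Agent.Lib.Helper1.S5955X23
import Cfsg.Agent.Lib.Helper11.S5956C2
import Cfsg.Agent.Lib.Helper20.S5956O6
import Cfsg.Agent.Lib.Helper25.S5956O8
import Cfsg.Agent.Lib.Helper19.S5956T3core
import Cfsg.Agent.Lib.Helper27.S5956T1
import Cfsg.Agent.Lib.Helper27.S5956T2
import Cfsg.Agent.Lib.helper3.S5956E1
import Cfsg.Agent.Lib.helper3.S5956E3
import Cfsg.Agent.Lib.Helper11.S5956UNEC
import Cfsg.Agent.Lib.Helper11.S5956USUFFh11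

set_option autoImplicit false
open scoped MatrixGroups
open Cfsg

namespace Cfsg.Agent.S5956

open Cfsg.Agent.Lib.helper3.S5956 Cfsg.Agent.Lib.Helper13.S5955

/-- Elements of prime order of PSp_n(q) with no fixed nondegenerate `m`-space. Here `T = PSp_n(q)` with `n = 2d ≥ 4`, `(n, q) ≠ (4, 2)`, realised through the symplectic matrices over the field `F` with `q` elements (preserving the standard alternating form); an element of `T` of prime order `r` is such a matrix `x` with `x^r` scalar and `x` not scalar. For `r ≠ p` let `i` be the multiplicative order of `q` modulo `r`, `c = i` for `i` even and `c = 2i` for `i` odd, and write `k = n mod c`, `ℓ = m mod i`, `ℓ' = m mod c`, `n' = ⌊n/i⌋`, `m' = ⌊m/i⌋`, `t = (r−1)/i`. Let `m` be even with `2 ≤ m < n/2` and let `r` be a prime dividing the number of nondegenerate `m`-spaces. Then every element of `T` of order `r` fixes a nondegenerate `m`-space if and only if one of: (i) `r = p > 2`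 and every partition of `n` into parts of size at most `p` in which every odd part has even multiplicity contains (as a sub-multiset) a partition of `m` in which every odd part has even multiplicity; (ii) `r = p = 2` and (`n ≡ 2 (mod 4)` or `m ≡ 0 (mod 4)`); (iii) `r = 2 ≠ p`; (iv) `r ≠ p`, `r > 2`, `c ≤ m` and `k ≥ ℓ'`. -/
theorem result {F : Type*} [Field F] [Fintype F] {p : ℕ} [Fact p.Prime] [CharP F p] {q : ℕ} (hq : Fintype.card F = q)
    (d m : ℕ) (hd : 2 ≤ d) (hT : (d, q) ≠ (2, 2)) (hm : 2 ≤ m) (hme : Even m) (hmd : m < d)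
    (r : ℕ) [Fact r.Prime]
    (hrΩ : r ∣ Nat.card {W : Submodule F (Fin d ⊕ Fin d → F) // Module.finrank F ↥W = m ∧ (∀ u ∈ W, u ≠ 0 → ∃ v ∈ W, Cfsg.sympForm d F u v ≠ 0)})
    (i c : ℕ) (hi : i = orderOf (q : ZMod r)) (hc : c = if Even i then i else 2 * i) :
    (∀ x : ↥(Matrix.symplecticGroup (Fin d) F),
      (∃ z : F, ((x ^ r : ↥(Matrix.symplecticGroup (Fin d) F)) : Matrix (Fin d ⊕ Fin d) (Fin d ⊕ Fin d) F) = z • (1 : Matrix (Fin d ⊕ Fin d) (Fin d ⊕ Fin d) F)) →
      (∀ z : F, (x : Matrix (Fin d ⊕ Fin d) (Fin d ⊕ Fin d) F) ≠ z • (1 : Matrix (Fin d ⊕ Fin d) (Fin d ⊕ Fin d) F)) →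
      ∃ W : Submodule F (Fin d ⊕ Fin d → F), Module.finrank F ↥W = m ∧ (∀ u ∈ W, u ≠ 0 → ∃ v ∈ W, Cfsg.sympForm d F u v ≠ 0) ∧
        W.map (Matrix.toLin' (x : Matrix (Fin d ⊕ Fin d) (Fin d ⊕ Fin d) F)) ≤ W) ↔
    ((r = p ∧ 2 < p ∧ (∀ μ : Multiset ℕ, (∀ a ∈ μ, 0 < a ∧ a ≤ p) → (∀ a : ℕ, Odd a → Even (μ.count a)) → μ.sum = 2 * d →
        ∃ ν : Multiset ℕ, ν ≤ μ ∧ ν.sum = m ∧ ∀ a : ℕ, Odd a → Even (ν.count a))) ∨
     (r = p ∧ p = 2 ∧ ((2 * d) % 4 = 2 ∨ m % 4 = 0)) ∨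
     (r = 2 ∧ p ≠ 2) ∨
     (r ≠ p ∧ 2 < r ∧ c ≤ m ∧ m % c ≤ (2 * d) % c)) := by
  subst hq
  have hrpr : r.Prime := Fact.out
  have hppr : p.Prime := Fact.out
  have hfr : Module.finrank F (Fin d ⊕ Fin d → F) = 2 * d := by
    rw [Module.finrank_fintype_fun_eq_card, Fintype.card_sum, Fintype.card_fin]
    ring
  have hmd2 : m ≤ 2 * d := by omega
  -- transfer: an invariant nondegenerate subspace for an abstract isometry `y` whose invariant
  -- subspaces are invariant under `x`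
  have key : ∀ (x : ↥(Matrix.symplecticGroup (Fin d) F)) (y : Module.End F (Fin d ⊕ Fin d → F)),
      (∀ W : Submodule F (Fin d ⊕ Fin d → F), SInv y W →
        W.map (Matrix.toLin' (x : Matrix (Fin d ⊕ Fin d) (Fin d ⊕ Fin d) F)) ≤ W) →
      NDd (stdB d F) y m →
      ∃ W : Submodule F (Fin d ⊕ Fin d → F), Module.finrank F ↥W = m ∧
        (∀ u ∈ W, u ≠ 0 → ∃ v ∈ W, Cfsg.sympForm d F u v ≠ 0) ∧
        W.map (Matrix.toLin' (x : Matrix (Fin d ⊕ Fin d) (Fin d ⊕ Fin d) F)) ≤ W := by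
    intro x y hyinv hnd
    obtain ⟨W, hWinv, hWnd, hWd⟩ := hnd
    exact ⟨W, hWd, (nd_iff_snd d W).mpr hWnd, hyinv W hWinv⟩
  -- transfer: from "all x" to "all abstract isometries of odd order r"
  have key2 : (∀ x : ↥(Matrix.symplecticGroup (Fin d) F),
      (∃ z : F, ((x ^ r : ↥(Matrix.symplecticGroup (Fin d) F)) : Matrix (Fin d ⊕ Fin d) (Fin d ⊕ Fin d) F) = z • (1 : Matrix (Fin d ⊕ Fin d) (Fin d ⊕ Fin d) F)) →
      (∀ z : F, (x : Matrix (Fin d ⊕ Fin d) (Fin d ⊕ Fin d) F) ≠ z • (1 : Matrix (Fin d ⊕ Fin d) (Fin d ⊕ Fin d) F)) →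
      ∃ W : Submodule F (Fin d ⊕ Fin d → F), Module.finrank F ↥W = m ∧ (∀ u ∈ W, u ≠ 0 → ∃ v ∈ W, Cfsg.sympForm d F u v ≠ 0) ∧
        W.map (Matrix.toLin' (x : Matrix (Fin d ⊕ Fin d) (Fin d ⊕ Fin d) F)) ≤ W) →
      Odd r → ∀ y : Module.End F (Fin d ⊕ Fin d → F), SCtx r (stdB d F) y → y ≠ 1 →
        NDd (stdB d F) y m := by
    intro hall hodd y hy hy1
    obtain ⟨x, hxy, hxr, hxns⟩ := realize d r hodd y hy hy1
    obtain ⟨W, hWd, hWnd, hWinv⟩ := hall x ⟨1, hxr⟩ hxns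
    refine ⟨W, ?_, (nd_iff_snd d W).mp hWnd, hWd⟩
    rw [hxy] at hWinv
    exact (Cfsg.Agent.Lib.Helper24.el_inv_iff y W).mp hWinv
  constructor
  · intro hall
    by_cases hrp : r = p
    · by_cases hp2 : p = 2
      · right; left
        refine ⟨hrp, hp2, ?_⟩
        by_contra hcon
        push Not at hcon
        obtain ⟨h1, h2⟩ := hcon
        subst hp2
        obtain ⟨x, hx2, hxns, hxno⟩ := even_nec (F := F) d m (by omega) (by omega)
          (by obtain ⟨k, hk⟩ := hme; omega) hmd2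
        subst hrp
        obtain ⟨W, hW⟩ := hall x ⟨1, hx2⟩ hxns
        exact hxno ⟨W, hW⟩
      · left
        have hp2' : 2 < p := lt_of_le_of_ne hppr.two_le (Ne.symm hp2)
        refine ⟨hrp, hp2', ?_⟩
        subst hrp
        have hodd : Odd r := hrpr.odd_of_ne_two hp2
        exact Cfsg.Agent.Lib.Helper11.S5956U.unip_nec (F := F) hp2' d m hme hmd2 hall
    · by_cases hr2 : r = 2
      · right; right; left
        exact ⟨hr2, fun h => hrp (hr2.trans h.symm)⟩
      · right; right; right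
        have hr2' : 2 < r := lt_of_le_of_ne hrpr.two_le (Ne.symm hr2)
        have hodd : Odd r := hrpr.odd_of_ne_two hr2
        have hj := nd_count_prime (F := F) (p := p) d m hme hmd2 r hrΩ hrp
        have hnec := nec_odd (F := F) (p := p) r hrp hr2 d m i c hi hc hm hmd2 hj
          (key2 hall hodd)
        exact ⟨hrp, hr2', hnec⟩
  · rintro (⟨hrp, hp2, hPC⟩ | ⟨hrp, hp2, hcond⟩ | ⟨hr2, hp2⟩ | ⟨hrp, hr2, h1, h2⟩) x ⟨z, hz⟩ _
    · subst hrp
      exact Cfsg.Agent.Lib.Helper11.S5956U.s5956usuff_h11_unip_suff hp2 d m (by omega) hPC x z hz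
    · subst hrp
      subst hp2
      exact even_suff d m hme (by omega) hcond x z hz
    · subst hr2
      have h2F : (2 : F) ≠ 0 := by
        intro h0
        have : ((2 : ℕ) : F) = 0 := by exact_mod_cast h0
        rw [CharP.cast_eq_zero_iff F p 2] at this
        exact hp2 ((Nat.prime_dvd_prime_iff_eq Fact.out Nat.prime_two).mp this)
      exact s5956t3_core d m (by omega)
        (fun y hy => invol_nd h2F hy d m hfr hme hmd2)
        (fun y hy hyy => sqneg_nd h2F hy hyy d m hfr hme hmd2) x z hz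
    · have hodd : Odd r := hrpr.odd_of_ne_two (by omega)
      obtain ⟨y, hy, hyinv⟩ := std_ctx_odd d (by omega) r hodd x z hz
      exact key x y hyinv
        (suff_odd (p := p) hrp (by omega) hy d m hfr hme hmd2 i c hi hc h1 h2)

end Cfsg.Agent.S5956
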