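import Cfsg.Statements.S5958
import Cfsg.Agent.Lib.Helper24.ElZa
import Cfsg.Agent.Lib.Helper24.ElZg
import Cfsg.Agent.Lib.Helper24.ElZj

set_option autoImplicit false
open scoped MatrixGroups
open Cfsg

namespace Cfsg.Agent.S5958

theorem result {F : Type*} [Field F] [Fintype F] {p : ℕ} [Fact p.Prime] [CharP F p] {q : ℕ} (hq : Fintype.card F = q)
    (n a t : ℕ) (hn : 2 ≤ n) (hT : (n, q) ≠ (2, 2) ∧ (n, q) ≠ (2, 3)) (hat : n = a * t) (ha : 1 ≤ a) (ht : 2 ≤ t)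
    (r : ℕ) [Fact r.Prime] (hr2 : r ≠ 2) (hrp : r ≠ p) (hΩ : r ∣ Nat.card {D : Fin t → Submodule F (Fin n → F) // Cfsg.Geo.IsMDecomposition a D} / Nat.factorial t)
    (c : ℕ) (hc : c = orderOf (q : ZMod r)) :
    (∀ x : Matrix.SpecialLinearGroup (Fin n) F,
      (∃ z : F, ((x ^ r : Matrix.SpecialLinearGroup (Fin n) F) : Matrix (Fin n) (Fin n) F) = z • (1 : Matrix (Fin n) (Fin n) F)) →
      (∀ z : F, (x : Matrix (Fin n) (Fin n) F) ≠ z • (1 : Matrix (Fin n) (Fin n) F)) →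
      ∃ D : Fin t → Submodule F (Fin n → F), Cfsg.Geo.IsMDecomposition a D ∧
        ∃ σ : Equiv.Perm (Fin t), ∀ j, (D j).map (Matrix.toLin' (x : Matrix (Fin n) (Fin n) F)) = D (σ j)) ↔
    ((a = 1 ∧ 1 < c ∧ c = r - 1 ∧ n ≤ (n % c) * r) ∨ (c ≤ a ∧ n % c = t * (a % c))) := by
  subst hq
  subst hc
  constructor
  · intro hall
    have hcn := Lib.Helper24.el_ord_le n a t hat ha ht r hrp hΩ
    have hcpos := Lib.Helper24.el_ord_pos (F := F) r hrp
    by_cases hc1 : orderOf ((Fintype.card F : ℕ) : ZMod r) = 1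
    · right
      rw [hc1]
      refine ⟨ha, ?_⟩
      rw [Nat.mod_one, Nat.mod_one, mul_zero]
    · apply Lib.Helper24.el_nec_decomp n a t hat ha r hrp (by omega) hcn
      intro x hdet hx hns
      obtain ⟨z, hz⟩ := hx
      exact hall (⟨x, hdet⟩ : Matrix.SpecialLinearGroup (Fin n) F)
        ⟨z, (Matrix.SpecialLinearGroup.coe_pow _ r).trans hz⟩ hns
  · intro hcond x ⟨z, hz⟩ _
    rw [Matrix.SpecialLinearGroup.coe_pow] at hz
    exact Lib.Helper24.el_suff_decomp n a t hn hat ha ht r hrp hcond x.1 x.2 z hz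

end Cfsg.Agent.S5958
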