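import Cfsg.Statements.S5959
import Cfsg.Agent.Lib.helper14.JTa
import Cfsg.Agent.Lib.helper14.JTb
import Cfsg.Agent.Lib.helper14.JTc

set_option autoImplicit false
open scoped MatrixGroups
open Cfsg

namespace Cfsg.Agent.S5959

open Cfsg.Agent.Lib.helper14.JTa Cfsg.Agent.Lib.helper14.JTb Cfsg.Agent.Lib.helper14.JTc

section perm
variable {F : Type*} [Field F] {V : Type*} [AddCommGroup V] [Module F V]

theorem map_pow_D {t : ℕ} (D : Fin t → Submodule F V) (X : Module.End F V)
    (σ : Equiv.Perm (Fin t)) (hσ : ∀ j, (D j).map X = D (σ j)) (i : ℕ) (j : Fin t) :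
    (D j).map (X ^ i) = D ((σ ^ i) j) := by
  induction i with
  | zero =>
    rw [pow_zero, pow_zero, Module.End.one_eq_id, Submodule.map_id]
    rfl
  | succ i ih =>
    rw [pow_succ', Module.End.mul_eq_comp, Submodule.map_comp, ih, hσ, pow_succ',
      Equiv.Perm.mul_apply]

theorem neg_one_pow_mem (S : Submodule F V) (k : ℕ) (u : V) (hu : u ∈ S) :
    ((-1 : Module.End F V) ^ k) u ∈ S := by
  apply Module.End.pow_apply_mem_of_forall_mem k _ u hu
  intro x hx
  rw [LinearMap.neg_apply, Module.End.one_apply]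
  exact S.neg_mem hx

theorem pcycle_inj {t : ℕ} (D : Fin t → Submodule F V) (hD : iSupIndep D) (X : Module.End F V)
    (σ : Equiv.Perm (Fin t)) (hσ : ∀ j, (D j).map X = D (σ j)) (m : ℕ) (j : Fin t)
    (hj : ∀ i, 0 < i → i ≤ m → (σ ^ i) j ≠ j) (v : V) (hv : v ∈ D j)
    (h0 : ((X - 1) ^ m) v = 0) : v = 0 := by
  have hcomm : Commute X (-1 : Module.End F V) := (Commute.one_right X).neg_right
  have hexp : (X - 1) ^ m = ∑ i ∈ Finset.range (m + 1),
      X ^ i * (-1) ^ (m - i) * (m.choose i : Module.End F V) := by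
    rw [sub_eq_add_neg, hcomm.add_pow]
  rw [hexp, LinearMap.sum_apply, Finset.sum_range_succ'] at h0
  set W : Submodule F V := ⨆ k, ⨆ (_ : k ≠ j), D k with hW
  have hterm : ∀ i ∈ Finset.range m,
      (X ^ (i + 1) * (-1) ^ (m - (i + 1)) * (m.choose (i + 1) : Module.End F V)) v ∈ W := by
    intro i hi
    rw [Finset.mem_range] at hi
    rw [Module.End.mul_apply, Module.End.mul_apply]
    have h1 : ((m.choose (i + 1) : Module.End F V)) v ∈ D j := by
      rw [Module.End.natCast_apply]
      exact (D j).smul_of_tower_mem _ hv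
    have h2 := neg_one_pow_mem (D j) (m - (i + 1)) _ h1
    have h3 : (X ^ (i + 1)) (((-1 : Module.End F V) ^ (m - (i + 1)))
        (((m.choose (i + 1) : Module.End F V)) v)) ∈ (D j).map (X ^ (i + 1)) :=
      Submodule.mem_map_of_mem h2
    rw [map_pow_D D X σ hσ] at h3
    have hne := hj (i + 1) (by omega) (by omega)
    exact (le_iSup₂_of_le ((σ ^ (i + 1)) j) hne le_rfl : D ((σ ^ (i + 1)) j) ≤ W) h3
  have hw := Submodule.sum_mem W hterm
  set E : Module.End F V := (-1) ^ m with hE
  have hE0 : ((X ^ 0 * (-1) ^ (m - 0) * (m.choose 0 : Module.End F V) : Module.End F V)) v = E v := by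
    rw [pow_zero, one_mul, Nat.sub_zero, Nat.choose_zero_right, Nat.cast_one, mul_one]
  rw [hE0] at h0
  have hEv : E v ∈ W := by
    have : E v = -(∑ i ∈ Finset.range m,
        (X ^ (i + 1) * (-1) ^ (m - (i + 1)) * (m.choose (i + 1) : Module.End F V)) v) :=
      eq_neg_of_add_eq_zero_right h0
    rw [this]
    exact W.neg_mem hw
  have hEv' : E v ∈ D j := neg_one_pow_mem (D j) m v hv
  have hz : E v = 0 := Submodule.disjoint_def.mp (hD j) _ hEv' hEv
  have hEE : E * E = 1 := by
    rw [hE, ← pow_add, ← two_mul, pow_mul, neg_one_sq, one_pow]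
  have : v = (E * E) v := by rw [hEE, Module.End.one_apply]
  rw [this, Module.End.mul_apply, hz, map_zero]

theorem no_fix_of_prime {t : ℕ} (σ : Equiv.Perm (Fin t)) (p : ℕ) (hp : p.Prime) (j : Fin t)
    (hpj : (σ ^ p) j = j) (hj : σ j ≠ j) (i : ℕ) (hi0 : 0 < i) (hip : i < p) : (σ ^ i) j ≠ j := by
  intro hij
  have h1 : Function.IsPeriodicPt σ p j := by
    rw [Function.IsPeriodicPt, Function.IsFixedPt, Equiv.Perm.iterate_eq_pow]
    exact hpj
  have h2 : Function.IsPeriodicPt σ i j := by
    rw [Function.IsPeriodicPt, Function.IsFixedPt, Equiv.Perm.iterate_eq_pow]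
    exact hij
  have h3 := h2.gcd h1
  have hcop : Nat.gcd i p = 1 := by
    have : Nat.Coprime p i := (Nat.Prime.coprime_iff_not_dvd hp).mpr
      (Nat.not_dvd_of_pos_of_lt hi0 hip)
    exact Nat.Coprime.symm this
  rw [hcop] at h3
  exact hj h3

end perm

section sums

theorem sum_min_pred (μ : Multiset ℕ) (p : ℕ) (hp : 1 ≤ p) (h : ∀ b ∈ μ, b ≤ p) :
    (μ.map (fun b => min b (p - 1))).sum + μ.count p = μ.sum := by
  induction μ using Multiset.induction_on with
  | empty => simp
  | cons b μ ih =>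
    have hb : b ≤ p := h b (Multiset.mem_cons_self b μ)
    have ih' := ih (fun c hc => h c (Multiset.mem_cons_of_mem hc))
    rw [Multiset.map_cons, Multiset.sum_cons, Multiset.sum_cons, Multiset.count_cons, ← ih']
    by_cases hbp : p = b
    · rw [if_pos hbp]
      have : min b (p - 1) = b - 1 := by omega
      omega
    · rw [if_neg hbp]
      have : min b (p - 1) = b := by omega
      omega

theorem sum_min_self (μ : Multiset ℕ) (p : ℕ) (h : ∀ b ∈ μ, b ≤ p) :
    (μ.map (fun b => min b p)).sum = μ.sum := by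
  have : μ.map (fun b => min b p) = μ.map id := by
    apply Multiset.map_congr rfl
    intro b hb
    exact min_eq_left (h b hb)
  rw [this, Multiset.map_id]

theorem sum_min_one_lt (μ : Multiset ℕ) (h0 : ∀ b ∈ μ, 0 < b) (h2 : ∃ b ∈ μ, b ≠ 1) :
    (μ.map (fun b => min b 1)).sum < μ.sum := by
  have := Multiset.sum_lt_sum (s := μ) (f := fun b => min b 1) (g := id)
    (fun b _ => min_le_left b 1) (by
      obtain ⟨b, hb, hb1⟩ := h2
      have := h0 b hb
      refine ⟨b, hb, ?_⟩
      simp only [id]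
      omega)
  rwa [Multiset.map_id] at this

end sums

section core
variable {F : Type*} [Field F]

theorem core {n : ℕ} (p : ℕ) (hp : p.Prime) (N : Module.End F (Fin n → F)) (μ : Multiset ℕ)
    (hμ1 : ∀ b ∈ μ, 0 < b ∧ b ≤ p) (hμs : μ.sum = n)
    (hN : ∀ k, dk N k = (μ.map (fun b => min b k)).sum)
    (hXp : (1 + N) ^ p = 1)
    (a t : ℕ) (hcount : μ.count p < a)
    (D : Fin t → Submodule F (Fin n → F)) (hD : Cfsg.Geo.IsMDecomposition a D)
    (σ : Equiv.Perm (Fin t)) (hσ : ∀ j, (D j).map (1 + N) = D (σ j)) :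
    ∃ ν : Multiset ℕ, ν ≤ μ ∧ ν.sum = a := by
  have hNp : N ^ p = 0 := by
    apply pow_eq_zero_of_dk
    rw [hN p, sum_min_self μ p (fun b hb => (hμ1 b hb).2), Module.finrank_fin_fun, hμs]
  have hDne : ∀ j, D j ≠ ⊥ := by
    intro j hj
    have := hD.finrank_eq j
    rw [hj, finrank_bot] at this
    have := hD.pos
    omega
  have hDinj : Function.Injective D := hD.indep.injective hDne
  have hσp : ∀ j, (σ ^ p) j = j := by
    intro j
    apply hDinj
    rw [← map_pow_D D (1 + N) σ hσ p j, hXp, Module.End.one_eq_id, Submodule.map_id]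
  have hσ1 : ∀ j, σ j = j := by
    intro j
    by_contra hj
    have hcyc : ∀ i, 0 < i → i ≤ p - 1 → (σ ^ i) j ≠ j := fun i hi0 hi =>
      no_fix_of_prime σ p hp j (hσp j) hj i hi0 (by have := hp.two_le; omega)
    have hinj : ∀ v ∈ D j, (N ^ (p - 1)) v = 0 → v = 0 := by
      intro v hv h0
      have hN1 : N = (1 + N) - 1 := by abel
      rw [hN1] at h0
      exact pcycle_inj D hD.indep (1 + N) σ hσ (p - 1) j hcyc v hv h0
    have hdisj : D j ⊓ LinearMap.ker (N ^ (p - 1)) = ⊥ := by
      rw [eq_bot_iff]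
      intro v hv
      rw [Submodule.mem_bot]
      exact hinj v hv.1 (LinearMap.mem_ker.mp hv.2)
    have e1 := Submodule.finrank_sup_add_finrank_inf_eq (D j) (LinearMap.ker (N ^ (p - 1)))
    rw [hdisj, finrank_bot, hD.finrank_eq j] at e1
    have e2 := Submodule.finrank_le (D j ⊔ LinearMap.ker (N ^ (p - 1)))
    rw [Module.finrank_fin_fun] at e2
    have e3 : Module.finrank F (LinearMap.ker (N ^ (p - 1))) =
        (μ.map (fun b => min b (p - 1))).sum := hN (p - 1)
    have e4 := sum_min_pred μ p hp.one_lt.le (fun b hb => (hμ1 b hb).2)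
    omega
  have ht : 0 < t := by have := hD.two_le; omega
  let j0 : Fin t := ⟨0, ht⟩
  have hinv : ∀ j, ∀ v ∈ D j, N v ∈ D j := by
    intro j v hv
    have h1 : (1 + N) v ∈ (D j).map (1 + N) := Submodule.mem_map_of_mem hv
    rw [hσ j, hσ1 j] at h1
    have : N v = (1 + N) v - v := by
      rw [LinearMap.add_apply, Module.End.one_apply]; abel
    rw [this]
    exact (D j).sub_mem h1 hv
  set B : Submodule F (Fin n → F) := ⨆ k, ⨆ (_ : k ≠ j0), D k with hB
  have hAB : IsCompl (D j0) B := by
    constructor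
    · exact hD.indep j0
    · rw [codisjoint_iff, hB, ← iSup_split_single D j0, hD.iSup_eq_top]
  have hBinv : ∀ v ∈ B, N v ∈ B := by
    intro v hv
    have h1 : N v ∈ B.map N := Submodule.mem_map_of_mem hv
    rw [hB, Submodule.map_iSup] at h1
    refine (iSup_le (fun k => ?_) : _ ≤ B) h1
    rw [Submodule.map_iSup]
    refine iSup_le (fun hk => ?_)
    rintro _ ⟨u, hu, rfl⟩
    exact (le_iSup₂_of_le k hk le_rfl : D k ≤ B) (hinv k u hu)
  obtain ⟨ν, hν1, hν2⟩ := exists_sub_type N μ hN (D j0) B hAB (hinv j0) hBinv p hNp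
  exact ⟨ν, hν1, by rw [hν2, hD.finrank_eq j0]⟩

end core

/-- Elements of order `p` of PSL_n(q) and imprimitive subgroups: a necessary condition. Here `T = PSL_n(F)` for a field `F` with `q = p^f` elements (`n ≥ 2`, `(n, q) ≠ (2, 2), (2, 3)`), `n = a·t` with `t ≥ 2`, and Ω is the set of direct-sum decompositions of `F^n` into `t` subspaces of dimension `a` (unordered; their number is the number of ordered ones divided by `t!`), whose stabilizers are the imprimitive subgroups of type GL_a(q) ≀ S_t (maximal except in some small cases; maximality is not assumed); an element of `T` of prime order `r` (a matrix `x` of determinant 1 with `x^r` scalar, `x` not scalar) fixes a point of Ω when it permutes the summands of some such decomposition. Suppose `p > 2` divides the number of such decompositions. If every element of `T` of order `p` stabilizes such a decomposition, then every partition of `n` into parts of size at most `p` in which the part `p` occurs fewer than `a` times contains (as a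 sub-multiset) a partition of `a`. -/
theorem result {F : Type*} [Field F] [Fintype F] {p : ℕ} [Fact p.Prime] [CharP F p] {q : ℕ} (hq : Fintype.card F = q)
    (n a t : ℕ) (hn : 2 ≤ n) (hT : (n, q) ≠ (2, 2) ∧ (n, q) ≠ (2, 3)) (hat : n = a * t) (ha : 1 ≤ a) (ht : 2 ≤ t)
    (hp : 2 < p) (hΩ : p ∣ Nat.card {D : Fin t → Submodule F (Fin n → F) // Cfsg.Geo.IsMDecomposition a D} / Nat.factorial t)
    (h : ∀ x : Matrix.SpecialLinearGroup (Fin n) F,
      (∃ z : F, ((x ^ p : Matrix.SpecialLinearGroup (Fin n) F) : Matrix (Fin n) (Fin n) F) = z • (1 : Matrix (Fin n) (Fin n) F)) →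
      (∀ z : F, (x : Matrix (Fin n) (Fin n) F) ≠ z • (1 : Matrix (Fin n) (Fin n) F)) →
      ∃ D : Fin t → Submodule F (Fin n → F), Cfsg.Geo.IsMDecomposition a D ∧
        ∃ σ : Equiv.Perm (Fin t), ∀ j, (D j).map (Matrix.toLin' (x : Matrix (Fin n) (Fin n) F)) = D (σ j)) :
    (∀ μ : Multiset ℕ, (∀ b ∈ μ, 0 < b ∧ b ≤ p) → μ.sum = n → μ.count p < a → ∃ ν : Multiset ℕ, ν ≤ μ ∧ ν.sum = a) := by
  intro μ hμ1 hμs hcount
  have hpP : p.Prime := Fact.out
  by_cases hall : ∀ b ∈ μ, b = 1
  · have h1 : μ = Multiset.replicate (Multiset.card μ) 1 := Multiset.eq_replicate_card.mpr hall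
    have h2 : Multiset.card μ = n := by
      rw [h1] at hμs
      simpa using hμs
    refine ⟨Multiset.replicate a 1, ?_, by simp⟩
    rw [h1, h2, Multiset.replicate_le_replicate]
    rw [hat]
    nlinarith
  · push_neg at hall
    haveI : Nonempty (Fin n) := ⟨⟨0, by omega⟩⟩
    obtain ⟨N, hN⟩ := exists_model F μ n hμs
    have hNp : N ^ p = 0 := by
      apply pow_eq_zero_of_dk
      rw [hN p, sum_min_self μ p (fun b hb => (hμ1 b hb).2), Module.finrank_fin_fun, hμs]
    set Nm : Matrix (Fin n) (Fin n) F := LinearMap.toMatrix' N with hNm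
    have hNmN : Matrix.toLin' Nm = N := Matrix.toLin'_toMatrix' N
    have hNmp : Nm ^ p = 0 := by
      have : Matrix.toLin' (Nm ^ p) = 0 := by rw [Matrix.toLin'_pow, hNmN, hNp]
      exact (LinearEquiv.map_eq_zero_iff Matrix.toLin').mp this
    have hxp : (1 + Nm) ^ p = 1 := by
      rw [add_pow_char_of_commute p (Commute.one_left Nm), one_pow, hNmp, add_zero]
    have hdet : (1 + Nm).det = 1 := by
      have h1 : ((1 + Nm).det) ^ p = 1 := by rw [← Matrix.det_pow, hxp, Matrix.det_one]
      have h2 : ((1 + Nm).det) ^ p = 1 ^ p := by rw [h1, one_pow]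
      exact frobenius_inj F p h2
    let x : Matrix.SpecialLinearGroup (Fin n) F := ⟨1 + Nm, hdet⟩
    have hxc : (x : Matrix (Fin n) (Fin n) F) = 1 + Nm := rfl
    have hlin : Matrix.toLin' (1 + Nm) = 1 + N := by
      rw [map_add, Matrix.toLin'_one, hNmN, Module.End.one_eq_id]
    have hX1 : ∃ z : F, ((x ^ p : Matrix.SpecialLinearGroup (Fin n) F) : Matrix (Fin n) (Fin n) F)
        = z • (1 : Matrix (Fin n) (Fin n) F) := by
      refine ⟨1, ?_⟩
      rw [Matrix.SpecialLinearGroup.coe_pow, hxc, hxp, one_smul]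
    have hX2 : ∀ z : F, (x : Matrix (Fin n) (Fin n) F) ≠ z • (1 : Matrix (Fin n) (Fin n) F) := by
      intro z hz
      rw [hxc] at hz
      have hNz : Nm = (z - 1) • (1 : Matrix (Fin n) (Fin n) F) := by
        rw [sub_smul, one_smul, ← hz]; abel
      have hz1 : (z - 1) ^ p = 0 := by
        have h3 := hNmp
        rw [hNz, smul_pow, one_pow] at h3
        have h4 := congrFun (congrFun h3 ⟨0, by omega⟩) ⟨0, by omega⟩
        simpa using h4
      have hz2 : z - 1 = 0 := pow_eq_zero_iff (hpP.ne_zero) |>.mp hz1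
      rw [hz2, zero_smul] at hNz
      have hN0 : N = 0 := by rw [← hNmN, hNz, map_zero]
      have h5 := hN 1
      rw [hN0] at h5
      have h6 : dk (0 : Module.End F (Fin n → F)) 1 = n := by
        unfold dk
        rw [pow_one, LinearMap.ker_zero, finrank_top, Module.finrank_fin_fun]
      have h7 := sum_min_one_lt μ (fun b hb => (hμ1 b hb).1) hall
      omega
    obtain ⟨D, hD, σ, hσ⟩ := h x hX1 hX2
    rw [hxc, hlin] at hσ
    have hXp : (1 + N) ^ p = 1 := by
      rw [← hlin, ← Matrix.toLin'_pow, hxp, Matrix.toLin'_one, Module.End.one_eq_id]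
    exact core p hpP N μ hμ1 hμs hN hXp a t hcount D hD σ hσ

end Cfsg.Agent.S5959
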