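import Cfsg.Statements.S5961
import Cfsg.Agent.Lib.helper17.SPDARITH
import Cfsg.Agent.Lib.helper15.SPDODNE
import Cfsg.Agent.Lib.Helper18.SPDFACT
import Cfsg.Agent.Lib.Helper9.SPDOD
import Cfsg.Agent.Lib.Helper25.SPDODDVD
import Cfsg.Agent.Lib.Helper25.SPDORDER
import Cfsg.Agent.Lib.helper3.SPDNONSC
import Cfsg.Agent.Lib.helper3.SPDSIGN
import Cfsg.Agent.Lib.Helper24.SPDINVDIMh24
import Cfsg.Agent.Lib.Helper24.SPDSUMFIXh24
import Cfsg.Agent.Lib.Helper24.SPDDIAG
import Cfsg.Agent.Lib.Helper24.SPDCYCLE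
import Cfsg.Agent.Lib.Helper22.SPDSEMI
import Cfsg.Agent.Lib.helper15.SPDSTRUCT
import Cfsg.Agent.Lib.Helper22.SPDPEEL
import Cfsg.Agent.Lib.Helper16.SPDEXIST
import Cfsg.Agent.Lib.Helper1.SPDBLOCKODD
import Cfsg.Agent.Lib.Helper9.SPDBLOCKEVENcore
import Cfsg.Agent.Lib.Helper11.SPDKERFAC
import Cfsg.Agent.Lib.Helper11.SPDSELFDUAL
import Cfsg.Agent.Lib.Helper28.SPDPRIMND
import Cfsg.Agent.Lib.Helper28.SPDORTHINV
import Cfsg.Agent.Lib.Helper19.SPDPOLAR
import Cfsg.Agent.Lib.helper8.SPDCYCSPAN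
import Cfsg.Agent.Lib.Helper20.SPDK3

set_option autoImplicit false
open scoped MatrixGroups
open Cfsg

namespace Cfsg.Agent.S5961

open Cfsg.Agent.Lib.Helper19.SPD Cfsg.Agent.Lib.helper6 Cfsg.Agent.Lib.helper6.SB

theorem spdmain_toLin_pow {F : Type*} [Field F] {n : Type*} [Fintype n] [DecidableEq n]
    (M : Matrix n n F) (k : ℕ) : (Matrix.toLin' M) ^ k = Matrix.toLin' (M ^ k) := by
  induction k with
  | zero => rw [pow_zero, pow_zero, Matrix.toLin'_one]; rfl
  | succ k ih => rw [pow_succ, pow_succ, Matrix.toLin'_mul, ih]; rfl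

theorem spdmain_map_eq {F : Type*} [Field F] {d : ℕ} (r : ℕ) (hr : 0 < r)
    (y : (Fin d ⊕ Fin d → F) →ₗ[F] (Fin d ⊕ Fin d → F)) (hy : y ^ r = 1)
    (W : Submodule F (Fin d ⊕ Fin d → F)) (hW : Inv y W) : W.map y = W := by
  apply le_antisymm
  · rintro _ ⟨v, hv, rfl⟩
    exact hW v hv
  · intro v hv
    have hpow : ∀ k : ℕ, (y ^ k) v ∈ W := by
      intro k
      induction k with
      | zero => simpa using hv
      | succ k ih =>
        rw [pow_succ', Module.End.mul_apply]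
        exact hW _ ih
    refine ⟨(y ^ (r - 1)) v, hpow _, ?_⟩
    rw [← Module.End.mul_apply, ← pow_succ', Nat.sub_add_cancel hr, hy, Module.End.one_apply]

theorem spdmain_inv_of_map {F : Type*} [Field F] {d : ℕ}
    (y : (Fin d ⊕ Fin d → F) →ₗ[F] (Fin d ⊕ Fin d → F))
    (W : Submodule F (Fin d ⊕ Fin d → F)) (h : W.map y = W) : Inv y W := by
  intro v hv
  rw [← h]
  exact Submodule.mem_map_of_mem hv

theorem spdmain_nd {F : Type*} [Field F] {d : ℕ} (W : Submodule F (Fin d ⊕ Fin d → F))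
    (h : ∀ u ∈ W, u ≠ 0 → ∃ v ∈ W, Cfsg.sympForm d F u v ≠ 0) : ND W := by
  intro u hu hu0
  by_contra hne
  obtain ⟨v, hv, hvne⟩ := h u hu hne
  exact hvne (hu0 v hv)

theorem spdmain_block_even {F : Type*} [Field F] {d : ℕ} [Fintype F] {p q : ℕ} [Fact p.Prime] [CharP F p]
    (hq : Fintype.card F = q)
    (r : ℕ) [Fact r.Prime] (hr2 : r ≠ 2) (hrp : r ≠ p) (i : ℕ) (hi : i = orderOf (q : ZMod r)) (hie : Even i)
    (y : (Fin d ⊕ Fin d → F) →ₗ[F] (Fin d ⊕ Fin d → F)) (hiso : Isom y) (hy : y ^ r = 1)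
    (W : Submodule F (Fin d ⊕ Fin d → F)) (hW : Inv y W) (hnd : ND W) (hff : FF y W) (hne : W ≠ ⊥) :
    ∃ M ≤ W, Inv y M ∧ ND M ∧ Module.finrank F M = i := by
  have hrprime : r.Prime := Fact.out
  have hrodd : Odd r := hrprime.odd_of_ne_two hr2
  exact spdbe_core hq r hr2 hrp i hi hie y hiso hy
    (fun f hprod W hW hff hne => ker_fac r y hy f hprod W hW hff hne)
    (fun g v hv => selfdual_even hq r hrp i hi hie y hy g v hv)
    (fun hsd W hW hnd g h hgh hkill => prim_nd r hrprime.pos y hiso hy hsd W hW hnd g h hgh hkill)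
    (fun W hW hnd hff hne => polar_ne r hrodd y hiso hy W hW hnd hff hne)
    (fun g hg v hv => cyc_span y g hg v hv)
    (fun W hW hff => k3_dvd hq r y hy W hW hff)
    (fun W hW => orth_inv r hrprime.pos y hiso hy W hW)
    W hW hnd hff hne

theorem result {F : Type*} [Field F] [Fintype F] {p : ℕ} [Fact p.Prime] [CharP F p] {q : ℕ} (hq : Fintype.card F = q)
    (d : ℕ) (hd : 2 ≤ d) (hT : (d, q) ≠ (2, 2))
    (a t : ℕ) (hat : 2 * d = a * t) (ha : 2 ≤ a) (hae : Even a) (ht : 2 ≤ t)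
    (r : ℕ) [Fact r.Prime] (hr2 : r ≠ 2) (hrp : r ≠ p) (hΩ : r ∣ Nat.card {D : Fin t → Submodule F (Fin d ⊕ Fin d → F) // (Cfsg.Geo.IsMDecomposition a D ∧ (∀ j, ∀ u ∈ D j, u ≠ 0 → ∃ v ∈ D j, Cfsg.sympForm d F u v ≠ 0) ∧
          (∀ j j', j ≠ j' → ∀ u ∈ D j, ∀ v ∈ D j', Cfsg.sympForm d F u v = 0))} / Nat.factorial t)
    (i c : ℕ) (hi : i = orderOf (q : ZMod r)) (hc : c = if Even i then i else 2 * i) :
    (∀ x : ↥(Matrix.symplecticGroup (Fin d) F),
      (∃ z : F, ((x ^ r : ↥(Matrix.symplecticGroup (Fin d) F)) : Matrix (Fin d ⊕ Fin d) (Fin d ⊕ Fin d) F) = z • (1 : Matrix (Fin d ⊕ Fin d) (Fin d ⊕ Fin d) F)) →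
      (∀ z : F, (x : Matrix (Fin d ⊕ Fin d) (Fin d ⊕ Fin d) F) ≠ z • (1 : Matrix (Fin d ⊕ Fin d) (Fin d ⊕ Fin d) F)) →
      ∃ D : Fin t → Submodule F (Fin d ⊕ Fin d → F), (Cfsg.Geo.IsMDecomposition a D ∧ (∀ j, ∀ u ∈ D j, u ≠ 0 → ∃ v ∈ D j, Cfsg.sympForm d F u v ≠ 0) ∧
          (∀ j j', j ≠ j' → ∀ u ∈ D j, ∀ v ∈ D j', Cfsg.sympForm d F u v = 0)) ∧
        ∃ σ : Equiv.Perm (Fin t), ∀ j, (D j).map (Matrix.toLin' (x : Matrix (Fin d ⊕ Fin d) (Fin d ⊕ Fin d) F)) = D (σ j)) ↔
    (c ≤ a ∧ (2 * d) % c = t * (a % c)) := by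
  classical
  have hcc : c = cc i := hc
  subst hcc
  have hrprime : r.Prime := Fact.out
  have hrodd : Odd r := hrprime.odd_of_ne_two hr2
  have hr0 : 0 < r := hrprime.pos
  have hr3 : 3 ≤ r := by
    have := hrprime.two_le
    omega
  have hrF : (r : F) ≠ 0 := by
    intro h
    rw [CharP.cast_eq_zero_iff F p] at h
    exact hrp ((Nat.prime_dvd_prime_iff_eq Fact.out hrprime).mp h).symm
  obtain ⟨hi0, hce, hc2, hcr⟩ := cc_facts hq r hr2 hrp i hi
  have htop_nd : ND (⊤ : Submodule F (Fin d ⊕ Fin d → F)) := by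
    intro u _ hu
    by_contra hne
    obtain ⟨v, hv⟩ := sympForm_nondeg d u hne
    exact hv (hu v trivial)
  have hdimV : Module.finrank F (Fin d ⊕ Fin d → F) = 2 * d := by
    rw [Module.finrank_fintype_fun_eq_card, Fintype.card_sum, Fintype.card_fin]
    omega
  have hdimtop : Module.finrank F (⊤ : Submodule F (Fin d ⊕ Fin d → F)) = a * t := by
    rw [finrank_top, hdimV, hat]
  constructor
  · intro hall
    -- the count
    have hne := od_nonempty (F := F) (d := d) a t hat ha hae ht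
    have h1 : t.factorial ∣ Nat.card {D : Fin t → Submodule F (Fin d ⊕ Fin d → F) // IsOD a D} :=
      fact_dvd (fun D => IsOD a D) (fun D σ h => od_perm D σ h) (fun D h => od_inj D h)
    have h2 := card_od_dvd (F := F) (d := d) (a := a) (t := t) hne
    have hΩ' : r ∣ Nat.card {D : Fin t → Submodule F (Fin d ⊕ Fin d → F) // IsOD a D} / t.factorial := hΩ
    have h3 : r ∣ Nat.card ↥(Matrix.symplecticGroup (Fin d) F) := by
      obtain ⟨m, hm⟩ := h1
      rw [hm, Nat.mul_div_cancel_left _ (Nat.factorial_pos t)] at hΩ'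
      rw [hm] at h2
      exact (hΩ'.mul_left _).trans h2
    have hc2d : cc i ≤ 2 * d := ord_le hq r hrp i hi h3
    -- the test elements
    have key : ∀ j₀ : ℕ, 1 ≤ j₀ → cc i * j₀ ≤ 2 * d →
        ∃ (y : (Fin d ⊕ Fin d → F) →ₗ[F] (Fin d ⊕ Fin d → F))
          (D : Fin t → Submodule F (Fin d ⊕ Fin d → F)) (σ : Equiv.Perm (Fin t)),
          Isom y ∧ y ^ r = 1 ∧ Module.finrank F ↥(Fx y) = 2 * d - cc i * j₀ ∧ IsOD a D ∧
            ∀ j, (D j).map y = D (σ j) := by
      intro j₀ hj1 hj2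
      obtain ⟨x, hxr, hfx⟩ := exists_elt hq r hr2 hrp i hi j₀ hj2
      have hcj : 2 ≤ cc i * j₀ := by
        calc 2 ≤ cc i := hc2
          _ = cc i * 1 := (mul_one _).symm
          _ ≤ cc i * j₀ := Nat.mul_le_mul_left _ hj1
      have hns := nonscalar r hrodd (by omega) x hxr (by rw [hfx]; omega)
      obtain ⟨D, hD, σ, hσ⟩ := hall x ⟨1, by rw [hxr, one_smul]; rfl⟩ hns
      refine ⟨Matrix.toLin' (x : Matrix (Fin d ⊕ Fin d) (Fin d ⊕ Fin d) F), D, σ, ?_, ?_, hfx, hD, hσ⟩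
      · intro u v
        rw [Matrix.toLin'_apply, Matrix.toLin'_apply]
        exact (mem_symplecticGroup_iff_sympForm d _).mp x.2 u v
      · rw [spdmain_toLin_pow, ← SubmonoidClass.coe_pow, hxr]
        exact Matrix.toLin'_one
    by_contra hcon
    by_cases hca : cc i ≤ a
    · -- case B
      have hne2 : (2 * d) % cc i ≠ t * (a % cc i) := fun h => hcon ⟨hca, h⟩
      have hm : (2 * d) % cc i = (t * (a % cc i)) % cc i := by
        rw [hat, Nat.mul_mod, Nat.mul_comm t, Nat.mul_mod (a % cc i) t (cc i), Nat.mod_mod]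
      have hge : cc i ≤ t * (a % cc i) := by
        by_contra hlt
        push Not at hlt
        rw [Nat.mod_eq_of_lt hlt] at hm
        exact hne2 hm
      have hj1 : 1 ≤ 2 * d / cc i := Nat.div_pos hc2d (by omega)
      have hj2 : cc i * (2 * d / cc i) ≤ 2 * d := Nat.mul_div_le _ _
      obtain ⟨y, D, σ, hiso, hy, hfx, hD, hσ⟩ := key (2 * d / cc i) hj1 hj2
      have hdm := Nat.div_add_mod (2 * d) (cc i)
      have hml := Nat.mod_lt (2 * d) (show 0 < cc i by omega)
      have hfx' : Module.finrank F ↥(Fx y) < cc i := by rw [hfx]; omega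
      by_cases hσ1 : ∀ j, σ j = j
      · have hlow : ∀ j, a % cc i ≤ Module.finrank F ↥(D j ⊓ Fx y) := by
          intro j
          have hmapj : (D j).map y = D j := by rw [hσ j, hσ1 j]
          obtain ⟨m, hmm⟩ := spdinvdim_h24 hq r hrp i hi y hiso hy (D j) (spdmain_inv_of_map y _ hmapj)
            (spdmain_nd _ (hD.2.1 j))
          rw [hD.1.finrank_eq j] at hmm
          rw [hmm, Nat.add_mul_mod_self_left]
          exact Nat.mod_le _ _
        have hsum := spdsumfix_h24 y D hD.1.indep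
        have hsum2 : t * (a % cc i) ≤ ∑ j, Module.finrank F ↥(D j ⊓ Fx y) := by
          calc t * (a % cc i) = ∑ _j : Fin t, a % cc i := by
                rw [Finset.sum_const, Finset.card_univ, Fintype.card_fin, smul_eq_mul]
            _ ≤ _ := Finset.sum_le_sum (fun j _ => hlow j)
        omega
      · push Not at hσ1
        obtain ⟨j₁, hj₁⟩ := hσ1
        have := diag_le r y hy D hD.1.indep hD.1.iSup_eq_top a (by omega) hD.1.finrank_eq σ hσ j₁ hj₁
        omega
    · -- case A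
      push Not at hca
      have hj2 : cc i * 1 ≤ 2 * d := by rw [mul_one]; exact hc2d
      obtain ⟨y, D, σ, hiso, hy, hfx, hD, hσ⟩ := key 1 le_rfl hj2
      rw [mul_one] at hfx
      by_cases hσ1 : ∀ j, σ j = j
      · have hle : ∀ j, D j ≤ Fx y := by
          intro j
          have hmapj : (D j).map y = D j := by rw [hσ j, hσ1 j]
          obtain ⟨m, hmm⟩ := spdinvdim_h24 hq r hrp i hi y hiso hy (D j) (spdmain_inv_of_map y _ hmapj)
            (spdmain_nd _ (hD.2.1 j))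
          rw [hD.1.finrank_eq j] at hmm
          have hm0 : m = 0 := by
            by_contra hm0
            have : cc i * 1 ≤ cc i * m := Nat.mul_le_mul_left _ (by omega)
            omega
          rw [hm0, mul_zero, add_zero, ← hD.1.finrank_eq j] at hmm
          have heq : D j ⊓ Fx y = D j :=
            Submodule.eq_of_le_of_finrank_eq inf_le_left hmm.symm
          rw [← heq]
          exact inf_le_right
        have htop : Fx y = ⊤ := by
          rw [eq_top_iff, ← hD.1.iSup_eq_top]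
          exact iSup_le hle
        rw [htop, finrank_top, hdimV] at hfx
        omega
      · push Not at hσ1
        obtain ⟨j₁, hj₁⟩ := hσ1
        have h5 := cycle_le r y hy D hD.1.indep hD.1.iSup_eq_top a (by omega) hD.1.finrank_eq σ hσ j₁ hj₁
        have h6 := Submodule.finrank_add_eq_of_isCompl (semi_compl r hrF y hy)
        rw [hdimV] at h6
        have h7 : (r - 1) * 2 ≤ (r - 1) * a := Nat.mul_le_mul_left _ ha
        omega
  · rintro ⟨hca, hmod⟩ x ⟨z, hz⟩ _
    obtain ⟨y, hiso, hy, hmap⟩ := sign_fix r hrodd (by omega) x z hz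
    have hblock : ∀ W : Submodule F (Fin d ⊕ Fin d → F), Inv y W → ND W → FF y W → W ≠ ⊥ →
        ∃ M ≤ W, Inv y M ∧ ND M ∧ Module.finrank F M = cc i := by
      intro W hW hnd hff hne
      by_cases hie : Even i
      · have h := spdmain_block_even hq r hr2 hrp i hi hie y hiso hy W hW hnd hff hne
        have hci : cc i = i := by unfold cc; rw [if_pos hie]
        rw [hci]; exact h
      · have h := block_odd hq r hrp i hi (Nat.not_even_iff_odd.mp hie) y hiso hy W hW hnd hff hne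
        have hci : cc i = 2 * i := by unfold cc; rw [if_neg hie]
        rw [hci]; exact h
    have hstruct := struct_r r hrF hr0 (cc i) hce hc2 y hiso hy hblock
    have hlt : t * (a % cc i) < cc i := by
      rw [← hmod]
      exact Nat.mod_lt _ (by omega)
    obtain ⟨D, e1, e2, e3, e4, e5, e6⟩ := peel_r r hr0 (cc i) a hce hc2 hae hca y hiso hy hstruct t ⊤
      (fun _ _ => trivial) htop_nd hdimtop hlt
    refine ⟨D, ⟨⟨ht, by omega, e1, e4, e5⟩, ?_, ?_⟩, 1, ?_⟩
    · intro j u hu hu0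
      by_contra hcon
      push Not at hcon
      exact hu0 (e2 j u hu hcon)
    · intro j j' hjj u hu v hv
      exact e3 j j' hjj u hu v hv
    · intro j
      rw [← hmap (D j), Equiv.Perm.coe_one, id]
      exact spdmain_map_eq r hr0 y hy (D j) (e6 j)

end Cfsg.Agent.S5961
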