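import Cfsg.Statements.S5963
import Cfsg.Agent.Lib.helper14.PolA
import Cfsg.Agent.Lib.helper14.PolB
import Cfsg.Agent.Lib.helper14.PolC
import Cfsg.Agent.Lib.helper14.PolD

set_option autoImplicit false
open scoped MatrixGroups
open Cfsg

namespace Cfsg.Agent.S5963

open Cfsg.Agent.Lib.helper14 Cfsg.Agent.Lib.helper6 Cfsg.Agent.Lib.helper6.SB

theorem toLin'_pow' {F : Type*} [Field F] {n : Type*} [Fintype n] [DecidableEq n]
    (A : Matrix n n F) (m : ℕ) : Matrix.toLin' (A ^ m) = (Matrix.toLin' A) ^ m := by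
  induction m with
  | zero => rw [pow_zero, pow_zero, Matrix.toLin'_one]; rfl
  | succ m ih => rw [pow_succ, pow_succ, Matrix.toLin'_mul, ih]; rfl

theorem swap_imp_eq {F : Type*} [Field F] {V : Type*} [AddCommGroup V] [Module F V]
    (X : Module.End F V) (r : ℕ) (hodd : Odd r) (hXr : X ^ r = 1) (U W : Submodule F V)
    (h1 : U.map X = W) (h2 : W.map X = U) : U = W := by
  have key : ∀ n : ℕ, U.map (X ^ (2 * n)) = U := by
    intro n
    induction n with
    | zero =>
      rw [Nat.mul_zero, pow_zero, Module.End.one_eq_id, Submodule.map_id]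
    | succ n ih =>
      have e : X ^ (2 * (n + 1)) = X ^ (2 * n) * (X * X) := by
        rw [← pow_two, ← pow_add, Nat.mul_succ]
      rw [e, Module.End.mul_eq_comp, Module.End.mul_eq_comp, Submodule.map_comp,
        Submodule.map_comp, h1, h2, ih]
  obtain ⟨t, ht⟩ := hodd
  have e : X ^ (2 * (t + 1)) = X := by
    have : 2 * (t + 1) = r + 1 := by omega
    rw [this, pow_succ, hXr, one_mul]
  have := key (t + 1)
  rw [e, h1] at this
  exact this.symm


/-- Derangements of odd prime order of PSp_n(q), q odd, on pairs of complementary totally isotropic subspaces. Here `T = PSp_n(q)`, `n = 2d ≥ 4`, `q` odd, realised through the symplectic matrices over the field `F` with `q` elements; Ω is the set of unordered pairs `{U, W}` of complementary totally isotropic `d`-spaces (`F^n = U ⊕ W`), whose stabilizers are the subgroups of type GL_d(q).2 (maximal except in some small cases; maximality is not assumed); an element of `T` of prime order `r` (a symplectic matrix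 `x` with `x^r` scalar, `x` not scalar) fixes such a pair when it fixes or interchanges `U` and `W`. For every odd prime `r ≠ p` dividing the number of such pairs, some element of `T` of order `r` fixes no such pair (the action is never `r`-elusive for odd `r ≠ p`). -/
theorem result {F : Type*} [Field F] [Fintype F] {p : ℕ} [Fact p.Prime] [CharP F p] {q : ℕ} (hq : Fintype.card F = q)
    (d : ℕ) (hd : 2 ≤ d) (hT : (d, q) ≠ (2, 2)) (hodd : Odd q)
    (r : ℕ) [Fact r.Prime] (hr2 : r ≠ 2) (hrp : r ≠ p) (hΩ : r ∣ Nat.card {P : Submodule F (Fin d ⊕ Fin d → F) × Submodule F (Fin d ⊕ Fin d → F) // IsCompl P.1 P.2 ∧ (∀ u ∈ P.1, ∀ v ∈ P.1, Cfsg.sympForm d F u v = 0) ∧ (∀ u ∈ P.2, ∀ v ∈ P.2, Cfsg.sympForm d F u v = 0)} / 2) :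
    ∃ x : ↥(Matrix.symplecticGroup (Fin d) F),
      (∃ z : F, ((x ^ r : ↥(Matrix.symplecticGroup (Fin d) F)) : Matrix (Fin d ⊕ Fin d) (Fin d ⊕ Fin d) F) = z • (1 : Matrix (Fin d ⊕ Fin d) (Fin d ⊕ Fin d) F)) ∧
      (∀ z : F, (x : Matrix (Fin d ⊕ Fin d) (Fin d ⊕ Fin d) F) ≠ z • (1 : Matrix (Fin d ⊕ Fin d) (Fin d ⊕ Fin d) F)) ∧
      ¬ (∃ U W : Submodule F (Fin d ⊕ Fin d → F), IsCompl U W ∧ (∀ u ∈ U, ∀ v ∈ U, Cfsg.sympForm d F u v = 0) ∧ (∀ u ∈ W, ∀ v ∈ W, Cfsg.sympForm d F u v = 0) ∧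
        ((U.map (Matrix.toLin' (x : Matrix (Fin d ⊕ Fin d) (Fin d ⊕ Fin d) F)) = U ∧ W.map (Matrix.toLin' (x : Matrix (Fin d ⊕ Fin d) (Fin d ⊕ Fin d) F)) = W) ∨
         (U.map (Matrix.toLin' (x : Matrix (Fin d ⊕ Fin d) (Fin d ⊕ Fin d) F)) = W ∧ W.map (Matrix.toLin' (x : Matrix (Fin d ⊕ Fin d) (Fin d ⊕ Fin d) F)) = U))) := by
  classical
  have hd1 : 1 ≤ d := by omega
  have hN : r ∣ Nat.card (PolB.PP d F) := by
    obtain ⟨c, hc⟩ := PolD.even_card (F := F) d hd1
    have hc' : Nat.card (PolB.PP d F) / 2 = c := by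
      rw [hc]
      exact Nat.mul_div_cancel_left c (by norm_num)
    have h1 : r ∣ c := hc' ▸ hΩ
    rw [hc]
    exact dvd_mul_of_dvd_right h1 2
  have hex := PolD.exists_j hq d r hrp hN
  have hj := Nat.find_spec hex
  have hmin : ∀ i, 1 ≤ i → i < Nat.find hex → ¬ r ∣ q ^ i + 1 := by
    intro i hi hij hdiv
    exact Nat.find_min hex hij ⟨hi, by omega, hdiv⟩
  generalize Nat.find hex = j at hj hmin
  obtain ⟨hj1, hjd, hjdiv⟩ := hj
  obtain ⟨hdiv2, hnum⟩ := PolD.ord_facts q r j hr2 hj1 hjdiv hmin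
  have hrq : ¬ r ∣ q := PolD.not_dvd_q hq r hrp
  -- Cauchy in Sp_{2j}
  have hcard : r ∣ Nat.card (Matrix.symplecticGroup (Fin j) F) := by
    rw [Cfsg.Agent.S0245.result hq j]
    apply dvd_mul_of_dvd_right
    apply dvd_trans _ (Finset.dvd_prod_of_mem _ (Finset.mem_range.mpr (show j - 1 < j by omega)))
    have : 2 * (j - 1 + 1) = 2 * j := by omega
    rw [this]
    exact hdiv2
  obtain ⟨x₁, hx₁⟩ := exists_prime_orderOf_dvd_card' r hcard
  let a : Module.End F (Fin j ⊕ Fin j → F) :=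
    Matrix.toLin' (x₁ : Matrix (Fin j ⊕ Fin j) (Fin j ⊕ Fin j) F)
  have har : a ^ r = 1 := by
    have h1 : x₁ ^ r = 1 := hx₁ ▸ pow_orderOf_eq_one x₁
    have h2 : (x₁ : Matrix (Fin j ⊕ Fin j) (Fin j ⊕ Fin j) F) ^ r = 1 := by
      rw [← SubmonoidClass.coe_pow, h1]
      rfl
    show (Matrix.toLin' (x₁ : Matrix (Fin j ⊕ Fin j) (Fin j ⊕ Fin j) F)) ^ r = 1
    rw [← toLin'_pow', h2, Matrix.toLin'_one]
    rfl
  have ha1 : a ≠ 1 := by
    intro h
    have h1 : (x₁ : Matrix (Fin j ⊕ Fin j) (Fin j ⊕ Fin j) F) = 1 := by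
      apply Matrix.toLin'.injective
      rw [Matrix.toLin'_one]
      exact h
    have h2 : x₁ = 1 := Subtype.ext h1
    rw [h2, orderOf_one] at hx₁
    exact (Fact.out : r.Prime).one_lt.ne hx₁
  have hasymp : ∀ y y', Cfsg.sympForm j F (a y) (a y') = Cfsg.sympForm j F y y' := by
    intro y y'
    show Cfsg.sympForm j F (Matrix.toLin' _ y) (Matrix.toLin' _ y') = _
    rw [Matrix.toLin'_apply, Matrix.toLin'_apply]
    exact (mem_symplecticGroup_iff_sympForm j _).mp x₁.2 y y'
  have hcardF : Nat.card F = q := by rw [Nat.card_eq_fintype_card, hq]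
  have hfr : Module.finrank F (Fin j ⊕ Fin j → F) = 2 * j := by
    rw [Module.finrank_fintype_fun_eq_card, Fintype.card_sum, Fintype.card_fin]
    ring
  obtain ⟨hfix, hirr⟩ := PolA.irr_of_order a r har ha1 q (2 * j) hcardF hrq hfr hnum
  obtain ⟨k, rfl⟩ : ∃ k, d = j + k := Nat.exists_eq_add_of_le hjd
  let X : Module.End F (Fin (j + k) ⊕ Fin (j + k) → F) := PolC.emb j k a
  have hXr : X ^ r = 1 := by
    show PolC.emb j k a ^ r = 1
    rw [← PolC.emb_pow, har, PolC.emb_one]
  let M : Matrix (Fin (j + k) ⊕ Fin (j + k)) (Fin (j + k) ⊕ Fin (j + k)) F := LinearMap.toMatrix' X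
  have hM : Matrix.toLin' M = X := Matrix.toLin'_toMatrix' X
  have hMmem : M ∈ Matrix.symplecticGroup (Fin (j + k)) F := by
    rw [mem_symplecticGroup_iff_sympForm]
    intro u v
    rw [← Matrix.toLin'_apply, ← Matrix.toLin'_apply, hM]
    exact PolC.symp_emb j k a hasymp u v
  have hnofix : ∀ U W : Submodule F (Fin (j + k) ⊕ Fin (j + k) → F), IsCompl U W →
      (∀ u ∈ U, ∀ v ∈ U, Cfsg.sympForm (j + k) F u v = 0) →
      (∀ u ∈ W, ∀ v ∈ W, Cfsg.sympForm (j + k) F u v = 0) →
      U.map X = U → W.map X = W → False := by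
    intro U W hc hU hW h1 h2
    apply PolC.no_fixed_pair j k hj1 a hfix hirr U W hc hU hW
    · intro u hu
      rw [← h1]
      exact Submodule.mem_map_of_mem hu
    · intro w hw
      rw [← h2]
      exact Submodule.mem_map_of_mem hw
  refine ⟨⟨M, hMmem⟩, ⟨1, ?_⟩, ?_, ?_⟩
  · rw [SubmonoidClass.coe_pow, one_smul]
    show M ^ r = 1
    apply Matrix.toLin'.injective
    rw [toLin'_pow', hM, hXr, Matrix.toLin'_one]
    rfl
  · intro z hz
    have hz' : M = z • 1 := hz
    have hXz : ∀ v, X v = z • v := by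
      intro v
      rw [← hM, hz', Matrix.toLin'_apply, Matrix.smul_mulVec, Matrix.one_mulVec]
    have hmap : ∀ U : Submodule F (Fin (j + k) ⊕ Fin (j + k) → F), U.map X = U := by
      intro U
      have hz0 : z ≠ 0 := by
        intro h0
        have h1 : X ^ r = 0 := by
          obtain ⟨n, hn⟩ := Nat.exists_eq_succ_of_ne_zero (Fact.out : r.Prime).ne_zero
          rw [hn, pow_succ]
          apply LinearMap.ext
          intro v
          rw [Module.End.mul_apply, hXz, h0, zero_smul, map_zero]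
          rfl
        rw [hXr] at h1
        have h2 := LinearMap.congr_fun h1 (Pi.single (Sum.inl ⟨0, by omega⟩) 1)
        have h3 := congrFun h2 (Sum.inl ⟨0, by omega⟩)
        simp at h3
      apply le_antisymm
      · rintro _ ⟨u, hu, rfl⟩
        rw [hXz]
        exact U.smul_mem z hu
      · intro u hu
        refine ⟨z⁻¹ • u, U.smul_mem _ hu, ?_⟩
        rw [hXz, smul_smul, mul_inv_cancel₀ hz0, one_smul]
    exact hnofix (PolB.E1 (j + k)) (PolB.E2 (j + k)) (PolB.isCompl_E (j + k)) (PolB.ti_E1 (j + k))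
      (PolB.ti_E2 (j + k)) (hmap _) (hmap _)
  · rintro ⟨U, W, hc, hU, hW, h | h⟩
    · have h1 : U.map X = U := by rw [← hM]; exact h.1
      have h2 : W.map X = W := by rw [← hM]; exact h.2
      exact hnofix U W hc hU hW h1 h2
    · have h1 : U.map X = W := by rw [← hM]; exact h.1
      have h2 : W.map X = U := by rw [← hM]; exact h.2
      have hodd_r : Odd r := (Fact.out : r.Prime).odd_of_ne_two hr2
      have hUW := swap_imp_eq X r hodd_r hXr U W h1 h2
      subst hUW
      exact hnofix U U hc hU hU h1 h1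

end Cfsg.Agent.S5963
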