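import Cfsg.Statements.S5964
import Cfsg.Agent.Lib.helper14.SubA
import Cfsg.Agent.Lib.helper14.SubB
import Cfsg.Agent.Lib.helper14.SubC
import Cfsg.Agent.Lib.helper14.SubD
import Cfsg.Agent.Lib.helper14.InvE

set_option autoImplicit false
open scoped MatrixGroups
open Cfsg

namespace Cfsg.Agent.S5964

open Matrix Cfsg.Agent.Lib.helper14

/-- Involutions of PSL_n(q) and the subfield subgroups. Here `T = PSL_n(F)` for a field `F` with `q = q₀^k` elements, `k` prime, `n ≥ 2`, and `H` is the subgroup of matrices of determinant 1 in `GL_n(F₀)·F^×` for the subfield `F₀` with `q₀` elements — a maximal subgroup of type GL_n(q₀); Ω is the set of `T`-conjugates of `H` (cosets of `H`), so an element of `T` of prime order `r` (a matrix `x` of determinant 1 with `x^r` scalar, `x` not scalar) fixes a point of Ω when some conjugate of `x` by a matrix of determinant 1 lies in `H`. Suppose the index of `H` is even. Then every involution of `T` is conjugate in `T` into `H` if and only if `q` is even, or `k = 2` and `(n)_2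 ≤ (q − 1)_2`. -/
theorem result {F : Type*} [Field F] [Fintype F] {p : ℕ} [Fact p.Prime] [CharP F p] {q : ℕ} (hq : Fintype.card F = q)
    (n : ℕ) (hn : 2 ≤ n) (hT : (n, q) ≠ (2, 2) ∧ (n, q) ≠ (2, 3))
    (F₀ : Subfield F) (k q₀ : ℕ) (hk : k.Prime) (hF₀ : Nat.card ↥F₀ = q₀) (hqk : q = q₀ ^ k) (hC5 : ¬ (n = 2 ∧ q₀ = 2)) (hΩ : 2 ∣ ((Cfsg.Geo.subfieldSubgroup F₀ 1).comap (Matrix.SpecialLinearGroup.toGL : Matrix.SpecialLinearGroup (Fin n) F →* GL (Fin n) F)).index) :
    (∀ x : Matrix.SpecialLinearGroup (Fin n) F,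
      (∃ z : F, ((x ^ 2 : Matrix.SpecialLinearGroup (Fin n) F) : Matrix (Fin n) (Fin n) F) = z • (1 : Matrix (Fin n) (Fin n) F)) →
      (∀ z : F, (x : Matrix (Fin n) (Fin n) F) ≠ z • (1 : Matrix (Fin n) (Fin n) F)) →
      ∃ P : Matrix.SpecialLinearGroup (Fin n) F, P⁻¹ * x * P ∈ ((Cfsg.Geo.subfieldSubgroup F₀ 1).comap (Matrix.SpecialLinearGroup.toGL : Matrix.SpecialLinearGroup (Fin n) F →* GL (Fin n) F))) ↔
    (Odd q → (k = 2 ∧ padicValNat 2 n ≤ padicValNat 2 (q - 1))) := by
  classical
  have hn1 : 1 ≤ n := by omega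
  have hn0 : n ≠ 0 := by omega
  have hne : Nonempty (Fin n) := ⟨⟨0, by omega⟩⟩
  -- common facts about an `x` with scalar square
  have hcommon : ∀ (x : Matrix.SpecialLinearGroup (Fin n) F) (z : F),
      ((x ^ 2 : Matrix.SpecialLinearGroup (Fin n) F) : Matrix (Fin n) (Fin n) F) =
        z • (1 : Matrix (Fin n) (Fin n) F) →
      ((x : Matrix (Fin n) (Fin n) F) * (x : Matrix (Fin n) (Fin n) F) =
        z • (1 : Matrix (Fin n) (Fin n) F)) ∧ z ^ n = 1 := by
    intro x z hz
    have hxx : (x : Matrix (Fin n) (Fin n) F) * (x : Matrix (Fin n) (Fin n) F) =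
        z • (1 : Matrix (Fin n) (Fin n) F) := by
      rw [← hz, Matrix.SpecialLinearGroup.coe_pow, pow_two]
    refine ⟨hxx, ?_⟩
    have := congrArg Matrix.det hxx
    rw [Matrix.det_mul, x.det_coe, Matrix.det_smul, Matrix.det_one, Fintype.card_fin, mul_one,
      mul_one] at this
    exact this.symm
  by_cases hF : ringChar F = 2
  · -- characteristic 2
    have hqeven : ¬ Odd q := by
      have h0 := FiniteField.even_card_of_char_two hF
      rw [hq] at h0
      rw [Nat.odd_iff]
      omega
    have h2 : (2 : F) = 0 := by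
      have := ringChar.Nat.cast_ringChar (R := F)
      rw [hF] at this
      exact_mod_cast this
    constructor
    · intro _ ho
      exact absurd ho hqeven
    · intro _ x hx2 _
      obtain ⟨z, hz⟩ := hx2
      obtain ⟨hxx, hzn⟩ := hcommon x z hz
      have hz0 : z ≠ 0 := by
        rintro rfl
        rw [zero_pow hn0] at hzn
        exact zero_ne_one hzn
      obtain ⟨μ, hμz⟩ := FiniteField.isSquare_of_char_two hF z
      rw [hμz] at hxx hz0
      have hμ : μ ≠ 0 := fun h => hz0 (by rw [h, mul_zero])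
      exact SubC.conj_char_two F₀ x μ hμ h2 hn1
        (fun c => by
          obtain ⟨a, ha⟩ := FiniteField.isSquare_of_char_two hF c
          exact ⟨a, ha.symm⟩) hxx
  · have h2 : (2 : F) ≠ 0 := Ring.two_ne_zero hF
    have hqodd : Odd q := by
      rw [Nat.odd_iff, ← hq]
      exact FiniteField.odd_card_of_char_ne_two hF
    rcases hk.eq_two_or_odd' with hk2 | hkodd
    · subst hk2
      have hsqF₀ : ∀ a : F, a ∈ F₀ → ∃ b : F, b * b = a :=
        SubD.sq_of_mem_subfield F₀ q₀ hF₀ (by rw [hq, hqk]) hF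
      have hneg1 : ∃ i : F, i * i = -1 := hsqF₀ (-1) (F₀.neg_mem F₀.one_mem)
      constructor
      · intro H _
        refine ⟨rfl, ?_⟩
        by_contra hlt
        push Not at hlt
        have h2n : 2 ∣ n := dvd_of_one_le_padicValNat (by omega)
        obtain ⟨k₂, hk₂⟩ := h2n
        have hk₂0 : k₂ ≠ 0 := by omega
        obtain ⟨z, hzns, hzdet⟩ := SubD.exists_nonsquare hF q hq hneg1 n k₂ hk₂ hn0 hlt
        obtain ⟨x, hxx, hxns⟩ := SubD.exists_block_elt z n k₂ hk₂ hk₂0 hzdet
        have hx2 : ∃ z : F, ((x ^ 2 : Matrix.SpecialLinearGroup (Fin n) F) :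
            Matrix (Fin n) (Fin n) F) = z • (1 : Matrix (Fin n) (Fin n) F) :=
          ⟨z, by rw [Matrix.SpecialLinearGroup.coe_pow, pow_two, hxx]⟩
        obtain ⟨P, hP⟩ := H x hx2 hxns
        have hP' : P⁻¹ * x * P ∈ SubA.HS n F₀ := hP
        rw [SubA.mem_HS] at hP'
        obtain ⟨c, hc, hY⟩ := hP'
        set Y : Matrix (Fin n) (Fin n) F :=
          ((P⁻¹ * x * P : Matrix.SpecialLinearGroup (Fin n) F) : Matrix (Fin n) (Fin n) F) with hYdef
        have hYY : Y * Y = z • (1 : Matrix (Fin n) (Fin n) F) := by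
          have e : (P⁻¹ * x * P) * (P⁻¹ * x * P) = P⁻¹ * (x * x) * P := by group
          rw [hYdef, ← Matrix.SpecialLinearGroup.coe_mul, e, Matrix.SpecialLinearGroup.coe_mul,
            Matrix.SpecialLinearGroup.coe_mul, Matrix.SpecialLinearGroup.coe_mul, hxx,
            Matrix.mul_smul, Matrix.mul_one, Matrix.smul_mul, ← Matrix.SpecialLinearGroup.coe_mul,
            inv_mul_cancel, Matrix.SpecialLinearGroup.coe_one]
        have hmem : c⁻¹ * c⁻¹ * z ∈ F₀ := by
          have h00 := congrFun (congrFun hYY ⟨0, by omega⟩) ⟨0, by omega⟩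
          rw [Matrix.mul_apply, Matrix.smul_apply, Matrix.one_apply_eq, smul_eq_mul, mul_one] at h00
          have e : c⁻¹ * c⁻¹ * z = ∑ j, (c⁻¹ * Y ⟨0, by omega⟩ j) * (c⁻¹ * Y j ⟨0, by omega⟩) := by
            rw [← h00, Finset.mul_sum]
            apply Finset.sum_congr rfl
            intro j _
            ring
          rw [e]
          exact F₀.sum_mem (fun j _ => F₀.mul_mem (hY _ _) (hY _ _))
        obtain ⟨b, hb⟩ := hsqF₀ _ hmem
        apply hzns (c * b)
        have : c * c * (c⁻¹ * c⁻¹) = 1 := by field_simp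
        linear_combination (c * c) * hb + z * this
      · intro hR x hx2 _
        obtain ⟨-, hv⟩ := hR hqodd
        obtain ⟨z, hz⟩ := hx2
        obtain ⟨hxx, hzn⟩ := hcommon x z hz
        have hz0 : z ≠ 0 := by
          rintro rfl
          rw [zero_pow hn0] at hzn
          exact zero_ne_one hzn
        by_cases hsq : ∃ μ : F, μ * μ = z
        · obtain ⟨μ, rfl⟩ := hsq
          have hμ : μ ≠ 0 := fun h => hz0 (by rw [h, mul_zero])
          exact SubC.conj_eigen F₀ x μ hμ h2 hn1 hxx
        · exfalso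
          push Not at hsq
          -- `n` is even
          have hneven : Even n := by
            by_contra hodd
            rw [Nat.not_even_iff_odd] at hodd
            obtain ⟨m, hm⟩ := hodd
            apply hsq (z ^ (m + 1))
            rw [← pow_add]
            have : m + 1 + (m + 1) = n + 1 := by omega
            rw [this, pow_succ, hzn, one_mul]
          obtain ⟨k₂, hk₂⟩ := hneven
          have hk₂' : n = 2 * k₂ := by omega
          have hk₂0 : k₂ ≠ 0 := by omega
          obtain ⟨g, g', h1, h2', h3⟩ :=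
            InvE.planes_nonsquare (x : Matrix (Fin n) (Fin n) F) z k₂ hk₂' hxx hsq
          have hdet : (-z) ^ k₂ = 1 := by
            have := congrArg Matrix.det h3
            rw [x.det_coe, Matrix.det_conj_of_mul_eq_one h1 h2', Matrix.det_blockDiagonal] at this
            simp only [InvE.mNS_det, Finset.prod_const, Finset.card_univ, Fintype.card_fin] at this
            exact this.symm
          exact SubD.no_nonsquare hF q hq hneg1 z hsq n k₂ hk₂' hk₂0 hdet hv
    · exfalso
      exact SubB.index_odd F₀ q q₀ k hq hF₀ hqk hkodd hqodd hn1 hΩ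

end Cfsg.Agent.S5964
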