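import Cfsg.Statements.S5965
import Cfsg.Agent.Lib.helper8.SFOIDX
import Cfsg.Agent.Lib.helper8.SFODERBIG
import Cfsg.Agent.Lib.helper8.SFONECCNT
import Cfsg.Agent.Lib.Helper26.SFOORD
import Cfsg.Agent.Lib.Helper26.SFOLAM
import Cfsg.Agent.Lib.Helper26.SFONTHROOT
import Cfsg.Agent.Lib.Helper26.SFOCOMB1
import Cfsg.Agent.Lib.Helper26.SFOCOMB2
import Cfsg.Agent.Lib.Helper26.SFOCOMB4
import Cfsg.Agent.Lib.Helper26.SFOEXCARITH
import Cfsg.Agent.Lib.helper6.SFOFIN
import Cfsg.Agent.Lib.Helper26.SFOSUFK
import Cfsg.Agent.Lib.Helper26.SFOSUFEXC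

set_option autoImplicit false
open scoped MatrixGroups
open Cfsg

namespace Cfsg.Agent.S5965

open Cfsg.Agent.Lib.helper8.SFO Cfsg.Agent.Lib.helper14

/-- Elements of odd prime order r ≠ p of PSL_n(q) and subfield subgroups. Here `T = PSL_n(F)` for a field `F` with `q = p^f` elements (`n ≥ 2`, `(n, q) ≠ (2, 2), (2, 3)`), `F₀` is the subfield with `q₀` elements where `q = q₀^k` for a prime `k`, and `H` is the subgroup of matrices of determinant 1 lying in the subfield group of `F₀` (invertible matrices over `F₀` times scalars) — a maximal subgroup of type GL_n(q₀) (the case `n = 2`, `q₀ = 2` is excluded); Ω is the set of `T`-conjugates of `H` (cosets of `H`), so an element of `T` of prime order `r` (a matrix `x` of determinant 1 with `x^r` scalar, `x` not scalar) fixes a point of Ω when some conjugate of `x` by a matrix of determinant 1 lies in `H`. Let `r ≠ p` be an odd prime dividing the index of `H`, with `(n, r) ≠ (6, 3)` and, when `r = k` divides `q₀ − 1`, with `(n)_r ≤ (q − 1)_r`. Then every element of `T` of order `r` is conjugate in `T` into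 `H` if and only if `r = k`, or `k = 2`, `r = n ∈ {3, 5}` and `(q₀ + 1)_r = r`. The two excluded cases, `(n, r) = (6, 3)` and `r = k ∣ q₀ − 1` with `(n)_r > (q − 1)_r`, are ones where this criterion can fail, so they are left out. -/
theorem result {F : Type*} [Field F] [Fintype F] {p : ℕ} [Fact p.Prime] [CharP F p] {q : ℕ} (hq : Fintype.card F = q)
    (n : ℕ) (hn : 2 ≤ n) (hT : (n, q) ≠ (2, 2) ∧ (n, q) ≠ (2, 3))
    (F₀ : Subfield F) (k q₀ : ℕ) (hk : k.Prime) (hF₀ : Nat.card ↥F₀ = q₀) (hqk : q = q₀ ^ k) (hC5 : ¬ (n = 2 ∧ q₀ = 2)) (r : ℕ) [Fact r.Prime] (hr2 : r ≠ 2) (hrp : r ≠ p) (hgap : ¬ (n = 6 ∧ r = 3)) (hgapk : r = k → r ∣ q₀ - 1 → padicValNat r n ≤ padicValNat r (q - 1)) (hΩ : r ∣ ((Cfsg.Geo.subfieldSubgroup F₀ 1).comap (Matrix.SpecialLinearGroup.toGL : Matrix.SpecialLinearGroup (Fin n) F →* GL (Fin n) F)).index) :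
    (∀ x : Matrix.SpecialLinearGroup (Fin n) F,
      (∃ z : F, ((x ^ r : Matrix.SpecialLinearGroup (Fin n) F) : Matrix (Fin n) (Fin n) F) = z • (1 : Matrix (Fin n) (Fin n) F)) →
      (∀ z : F, (x : Matrix (Fin n) (Fin n) F) ≠ z • (1 : Matrix (Fin n) (Fin n) F)) →
      ∃ P : Matrix.SpecialLinearGroup (Fin n) F, P⁻¹ * x * P ∈ ((Cfsg.Geo.subfieldSubgroup F₀ 1).comap (Matrix.SpecialLinearGroup.toGL : Matrix.SpecialLinearGroup (Fin n) F →* GL (Fin n) F))) ↔
    (r = k ∨ (k = 2 ∧ r = n ∧ (n = 3 ∨ n = 5) ∧ padicValNat r (q₀ + 1) = 1)) := by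
  classical
  have hrpr : r.Prime := Fact.out
  have hrF : (r : F) ≠ 0 := by
    intro h
    have h1 := (CharP.cast_eq_zero_iff F p r).mp h
    exact hrp ((Nat.prime_dvd_prime_iff_eq (Fact.out : p.Prime) hrpr).mp h1).symm
  have hq02 : 2 ≤ q₀ := by
    rw [← hF₀]
    exact Finite.one_lt_card
  have hk1 : 1 ≤ k := hk.one_lt.le
  constructor
  · intro hall
    by_contra hcon
    obtain ⟨hrk, hexc⟩ := not_or.mp hcon
    obtain ⟨i, hi2, hin, hri, hri0⟩ := idx hq n hn F₀ k q₀ hk hF₀ hqk r hrp hrk hΩ
    obtain ⟨e, he1, hen, hre, hmin, hr0⟩ :=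
      ord_min q q₀ k n r hq02 hqk ⟨i, hi2, hin, hri, hri0⟩
    have hder : ∀ x : Matrix.SpecialLinearGroup (Fin n) F,
        (∃ z : F, ((x ^ r : Matrix.SpecialLinearGroup (Fin n) F) : Matrix (Fin n) (Fin n) F) =
          z • (1 : Matrix (Fin n) (Fin n) F)) →
        (∀ z : F, (x : Matrix (Fin n) (Fin n) F) ≠ z • (1 : Matrix (Fin n) (Fin n) F)) →
        (∀ P : Matrix.SpecialLinearGroup (Fin n) F, P⁻¹ * x * P ∉ SubA.HS n F₀) → False := by
      intro x h1 h2 h3
      obtain ⟨P, hP⟩ := hall x h1 h2
      exact h3 P hP
    rcases Nat.lt_or_ge e 2 with he | he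
    · -- e = 1
      obtain rfl : e = 1 := by omega
      rw [pow_one] at hre
      have hr01 : ¬ r ∣ q₀ - 1 := by
        have := hr0 1 le_rfl le_rfl
        rwa [pow_one] at this
      have hrq0 : ¬ r ∣ q₀ := by
        intro h
        have h2 : r ∣ q₀ ^ k := dvd_pow h (by omega)
        rw [← hqk] at h2
        have hq1 : 1 ≤ q := by rw [hqk]; exact Nat.one_le_pow _ _ (by omega)
        have h3 : r ∣ q - (q - 1) := Nat.dvd_sub h2 hre
        have h4 : q - (q - 1) = 1 := by omega
        rw [h4] at h3
        exact hrpr.one_lt.ne' (Nat.dvd_one.mp h3)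
      obtain ⟨l, hl, hl1⟩ := exists_lambda hq r hre
      have hl0 : l ≠ 0 := by
        rintro rfl
        rw [zero_pow hrpr.ne_zero] at hl
        exact zero_ne_one hl
      have hord : orderOf l = r := orderOf_eq_prime hl hl1
      have hdvd_of : ∀ m : ℕ, l ^ m = 1 → r ∣ m := fun m hm => hord ▸ orderOf_dvd_of_pow_eq_one hm
      have hlq : l ^ q₀ ≠ l := by
        intro h
        have h1 : l ^ (q₀ - 1) = 1 := by
          have : l ^ (q₀ - 1) * l = 1 * l := by
            rw [← pow_succ, Nat.sub_add_cancel (by omega), one_mul, h]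
          exact mul_right_cancel₀ hl0 this
        exact hr01 (hdvd_of _ h1)
      by_cases h6 : 6 ≤ n
      · -- diag(l, l, l^-2, 1, ...)
        have hn3 : r = 3 → 7 ≤ n := by
          intro h3
          by_contra h7
          exact hgap ⟨by omega, h3⟩
        obtain ⟨m, rfl⟩ := Nat.exists_eq_add_of_le (show 3 ≤ n by omega)
        obtain ⟨x, h1, h2, h3⟩ := der_diag F₀ q₀ hF₀ r
          (fun i : Fin (3 + m) => if i.val < 2 then l else if i.val = 2 then (l ^ 2)⁻¹ else 1) 1
          (by
            intro i
            show (if i.val < 2 then l else if i.val = 2 then (l ^ 2)⁻¹ else 1) ^ r = 1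
            split_ifs
            · exact hl
            · rw [inv_pow, ← pow_mul, mul_comm, pow_mul, hl, one_pow, inv_one]
            · exact one_pow _)
          (by
            rw [Fin.prod_univ_add, Fin.prod_univ_three]
            have h2 : ∏ i : Fin m, (if (Fin.natAdd 3 i).val < 2 then l else
                if (Fin.natAdd 3 i).val = 2 then (l ^ 2)⁻¹ else 1) = 1 := by
              apply Finset.prod_eq_one
              intro i _
              have : (Fin.natAdd 3 i).val = 3 + i.val := rfl
              rw [if_neg (by omega), if_neg (by omega)]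
            rw [h2, mul_one]
            simp only [Fin.val_castAdd]
            norm_num
            field_simp)
          ⟨⟨0, by omega⟩, ⟨3, by omega⟩, by
            show (if (0 : ℕ) < 2 then l else if (0 : ℕ) = 2 then (l ^ 2)⁻¹ else 1) ≠
              (if (3 : ℕ) < 2 then l else if (3 : ℕ) = 2 then (l ^ 2)⁻¹ else 1)
            norm_num
            exact hl1⟩
          (fun ν hν => comb_four (3 + m) q₀ r hr2 h6 hn3 l hl hl1 hlq ν hν)
        exact hder x h1 h2 h3
      · by_cases hv : padicValNat r n < padicValNat r (q - 1)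
        · by_cases h3 : 3 ≤ n
          · obtain ⟨ν₀, hν₀, hν₀n⟩ := exists_nth_root hq n r (by omega) hv l hl
            obtain ⟨m, rfl⟩ := Nat.exists_eq_add_of_le' (show 1 ≤ n by omega)
            obtain ⟨x, h1, h2, h3'⟩ := der_diag F₀ q₀ hF₀ r
              (fun i : Fin (m + 1) => if i.val = 0 then ν₀⁻¹ * l else ν₀⁻¹) (ν₀⁻¹ ^ r)
              (by
                intro i
                show (if i.val = 0 then ν₀⁻¹ * l else ν₀⁻¹) ^ r = ν₀⁻¹ ^ r
                split_ifs
                · rw [mul_pow, hl, mul_one]
                · rfl)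
              (by
                rw [Fin.prod_univ_succ]
                have h2 : ∏ i : Fin m, (if (Fin.succ i).val = 0 then ν₀⁻¹ * l else ν₀⁻¹) =
                    ν₀⁻¹ ^ m := by
                  rw [Finset.prod_congr rfl (fun i _ => if_neg (by simp))]
                  rw [Finset.prod_const, Finset.card_univ, Fintype.card_fin]
                rw [h2]
                simp only [Fin.val_zero, if_true]
                rw [mul_comm (ν₀⁻¹) l, mul_assoc, ← pow_succ', inv_pow, hν₀n, mul_inv_cancel₀ hl0])
              ⟨⟨0, by omega⟩, ⟨1, by omega⟩, by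
                show (if (0 : ℕ) = 0 then ν₀⁻¹ * l else ν₀⁻¹) ≠ (if (1 : ℕ) = 0 then ν₀⁻¹ * l else ν₀⁻¹)
                norm_num
                intro h
                apply hl1
                have h' : ν₀⁻¹ * l = ν₀⁻¹ * 1 := by rw [mul_one]; exact h
                exact mul_left_cancel₀ (inv_ne_zero hν₀) h'⟩
              (fun ν hν => comb_one (m + 1) q₀ h3 l hl1 hlq ν₀ hν₀ ν hν)
            exact hder x h1 h2 h3'
          · obtain rfl : n = 2 := by omega
            obtain rfl : i = 2 := by omega
            have hl2 : l ^ 2 ≠ 1 := by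
              intro h
              have := hdvd_of 2 h
              exact hr2 ((Nat.prime_dvd_prime_iff_eq hrpr Nat.prime_two).mp this)
            have hq0sq : q₀ ^ 2 - 1 = (q₀ - 1) * (q₀ + 1) := by
              have := Nat.sq_sub_sq q₀ 1
              rw [one_pow] at this
              rw [this, mul_comm]
            have hlq1 : l ^ (2 * q₀) ≠ 1 := by
              intro h
              rcases (Nat.Prime.dvd_mul hrpr).mp (hdvd_of _ h) with h' | h'
              · exact hr2 ((Nat.prime_dvd_prime_iff_eq hrpr Nat.prime_two).mp h')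
              · exact hrq0 h'
            have hlq2 : l ^ (2 * q₀) ≠ l ^ 2 ∧ l ^ (2 * q₀) ≠ (l ^ 2)⁻¹ := by
              constructor
              · intro h
                have h1 : l ^ (2 * (q₀ - 1)) = 1 := by
                  have : l ^ (2 * (q₀ - 1)) * l ^ 2 = 1 * l ^ 2 := by
                    rw [← pow_add, one_mul, ← h]
                    congr 1
                    omega
                  exact mul_right_cancel₀ (pow_ne_zero 2 hl0) this
                rcases (Nat.Prime.dvd_mul hrpr).mp (hdvd_of _ h1) with h' | h'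
                · exact hr2 ((Nat.prime_dvd_prime_iff_eq hrpr Nat.prime_two).mp h')
                · exact hr01 h'
              · intro h
                have h1 : l ^ (2 * (q₀ + 1)) = 1 := by
                  have : l ^ (2 * (q₀ + 1)) = l ^ (2 * q₀) * l ^ 2 := by
                    rw [← pow_add]
                    congr 1
                  rw [this, h, inv_mul_cancel₀ (pow_ne_zero 2 hl0)]
                rcases (Nat.Prime.dvd_mul hrpr).mp (hdvd_of _ h1) with h' | h'
                · exact hr2 ((Nat.prime_dvd_prime_iff_eq hrpr Nat.prime_two).mp h')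
                · apply hri0
                  rw [hq0sq]
                  exact dvd_mul_of_dvd_right h' _
            obtain ⟨x, h1, h2, h3'⟩ := der_diag F₀ q₀ hF₀ r
              (fun i : Fin 2 => if i.val = 0 then l else l⁻¹) 1
              (by
                intro i
                show (if i.val = 0 then l else l⁻¹) ^ r = 1
                split_ifs
                · exact hl
                · rw [inv_pow, hl, inv_one])
              (by
                rw [Fin.prod_univ_two]
                have e0 : ((0 : Fin 2) : ℕ) = 0 := rfl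
                have e1 : ((1 : Fin 2) : ℕ) ≠ 0 := by decide
                rw [if_pos e0, if_neg e1]
                exact mul_inv_cancel₀ hl0)
              ⟨0, 1, by
                show (if (0 : ℕ) = 0 then l else l⁻¹) ≠ (if (1 : ℕ) = 0 then l else l⁻¹)
                norm_num
                intro h
                apply hl2
                rw [pow_two]
                nth_rewrite 2 [h]
                exact mul_inv_cancel₀ hl0⟩
              (fun ν hν => comb_two q₀ l hl0 hlq1 hlq2 ν hν)
            exact hder x h1 h2 h3'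
        · -- exceptional
          have hq1 : 1 ≤ padicValNat r (q - 1) := by
            have hq2 : q - 1 ≠ 0 := by
              have : 2 ≤ q := by
                rw [← hq]
                exact Fintype.one_lt_card
              omega
            exact one_le_padicValNat_of_dvd hq2 hre
          have hrn : r ∣ n := dvd_of_one_le_padicValNat (by omega)
          have hr3 : 3 ≤ r := by
            have := hrpr.two_le
            omega
          have hnr : r = n := by
            obtain ⟨t, ht⟩ := hrn
            have ht1 : t = 1 := by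
              rcases Nat.lt_or_ge t 2 with h | h
              · rcases Nat.lt_or_ge t 1 with h0 | h0
                · have : t = 0 := by omega
                  subst this
                  omega
                · omega
              · have : 6 ≤ r * t := by nlinarith
                omega
            rw [ht, ht1, mul_one]
          have hn35 : n = 3 ∨ n = 5 := by
            subst hnr
            have h5 : r ≤ 5 := by omega
            interval_cases r
            · left; rfl
            · exfalso; exact absurd hrpr (by decide)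
            · right; rfl
          have hvn : padicValNat r n = 1 := by
            rw [← hnr]
            exact padicValNat_self
          have hr35 : r = 3 ∨ r = 5 := hnr ▸ hn35
          obtain ⟨hk2, hv1⟩ := exc_arith r k q₀ hr35 hk hq02 hr01 (hqk ▸ hre)
            (by rw [← hqk]; omega)
          exact hexc ⟨hk2, hnr, hn35, hv1⟩
    · obtain ⟨x, h1, h2, h3⟩ := der_big hq n F₀ q₀ k hF₀ hqk r e he hen hre hmin hr0
      exact hder x h1 h2 h3
  · rintro (hrk | ⟨hk2, hrn, hn35, hv⟩)
    · subst hrk
      rintro x ⟨z, hz⟩ -
      obtain ⟨ν, c₀, hν, hy, hc⟩ := suff_k hq n hn F₀ q₀ r hr2 hF₀ hqk (hgapk rfl) x z hz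
      exact finish (by omega) F₀ x r hrF ν hν hy c₀ hc
    · subst hk2
      rintro x ⟨z, hz⟩ -
      obtain ⟨ν, c₀, hν, hy, hc⟩ := suff_exc hq n F₀ q₀ r hF₀ hqk hrp hrn hn35 hv x z hz
      exact finish (by omega) F₀ x r hrF ν hν hy c₀ hc

end Cfsg.Agent.S5965
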