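import Cfsg.Statements.S5966
import Cfsg.Agent.Lib.helper14.SubA
import Cfsg.Agent.Lib.helper14.SubB
import Cfsg.Agent.Lib.helper14.SubD
import Cfsg.Agent.Lib.helper14.SubE
import Cfsg.Agent.Lib.helper14.SubG
import Cfsg.Agent.Lib.helper14.FldC

set_option autoImplicit false
open scoped MatrixGroups
open Cfsg

namespace Cfsg.Agent.S5966

open Matrix Cfsg.Agent.Lib.helper14

/-- Elements of order 3 of PSL_n(q) in characteristic 3 and subfield subgroups. Here `T = PSL_n(F)` for a field `F` with `q` elements, `q` a power of 3 (`n ≥ 2`, `(n, q) ≠ (2, 2), (2, 3)`), `F₀` is the subfield with `q₀` elements where `q = q₀^k` for a prime `k`, and `H` is the subgroup of matrices of determinant 1 lying in the subfield group of `F₀` (invertible matrices over `F₀` times scalars) — a maximal subgroup of type GL_n(q₀) (the case `n = 2`, `q₀ = 2` is excluded); Ω is the set of `T`-conjugates of `H` (cosets of `H`), so an element of `T` of prime order `r` (a matrix `x` of determinant 1 with `x^r` scalar, `x` not scalar)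 fixes a point of Ω when some conjugate of `x` by a matrix of determinant 1 lies in `H`. Suppose 3 divides the index of `H`. Then every element of `T` of order 3 is conjugate in `T` into `H` if and only if `n` is odd, or `n` is even and `k > 2`. -/
theorem result {F : Type*} [Field F] [Fintype F] [CharP F 3] {q : ℕ} (hq : Fintype.card F = q)
    (n : ℕ) (hn : 2 ≤ n) (hT : (n, q) ≠ (2, 3))
    (F₀ : Subfield F) (k q₀ : ℕ) (hk : k.Prime) (hF₀ : Nat.card ↥F₀ = q₀) (hqk : q = q₀ ^ k) (hC5 : ¬ (n = 2 ∧ q₀ = 2)) (hΩ : 3 ∣ ((Cfsg.Geo.subfieldSubgroup F₀ 1).comap (Matrix.SpecialLinearGroup.toGL : Matrix.SpecialLinearGroup (Fin n) F →* GL (Fin n) F)).index) :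
    (∀ x : Matrix.SpecialLinearGroup (Fin n) F,
      (∃ z : F, ((x ^ 3 : Matrix.SpecialLinearGroup (Fin n) F) : Matrix (Fin n) (Fin n) F) = z • (1 : Matrix (Fin n) (Fin n) F)) →
      (∀ z : F, (x : Matrix (Fin n) (Fin n) F) ≠ z • (1 : Matrix (Fin n) (Fin n) F)) →
      ∃ P : Matrix.SpecialLinearGroup (Fin n) F, P⁻¹ * x * P ∈ ((Cfsg.Geo.subfieldSubgroup F₀ 1).comap (Matrix.SpecialLinearGroup.toGL : Matrix.SpecialLinearGroup (Fin n) F →* GL (Fin n) F))) ↔
    (Odd n ∨ (Even n ∧ 2 < k)) := by
  classical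
  have hn1 : 1 ≤ n := by omega
  have hn0 : n ≠ 0 := by omega
  have hF : ringChar F = 3 := ringChar.eq F 3
  have hF2 : ringChar F ≠ 2 := by rw [hF]; norm_num
  have h2 : (2 : F) ≠ 0 := Ring.two_ne_zero hF2
  haveI : Fact (Nat.Prime 3) := ⟨Nat.prime_three⟩
  have hcube : ∀ c : F, ∃ a : F, a * a * a = c := by
    intro c
    have hinj : Function.Injective (frobenius F 3) := frobenius_inj F 3
    have hsurj : Function.Surjective (frobenius F 3) := Finite.injective_iff_surjective.mp hinj
    obtain ⟨a, ha⟩ := hsurj c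
    refine ⟨a, ?_⟩
    rw [frobenius_def] at ha
    rw [← ha]
    ring
  have hq2 : 2 ≤ q := by
    rw [← hq]
    exact Fintype.one_lt_card
  constructor
  · -- only if
    intro H
    by_contra hcon
    push Not at hcon
    obtain ⟨hodd, hk2⟩ := hcon
    rw [Nat.not_odd_iff_even] at hodd
    have hk2' : k = 2 := by
      have := hk.two_le
      have := hk2 hodd
      omega
    subst hk2'
    obtain ⟨m, hm⟩ := hodd
    have hm1 : 1 ≤ m := by omega
    have hsq : ∀ a : F, a ∈ F₀ → ∃ b : F, b * b = a :=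
      SubD.sq_of_mem_subfield F₀ q₀ hF₀ (by rw [hq, hqk]) hF2
    obtain ⟨c, hc⟩ := FiniteField.exists_nonsquare hF2
    have hc' : ∀ b : F, b * b ≠ c := fun b hb => hc ⟨b, hb.symm⟩
    obtain ⟨x, hx3, hxns, hbad⟩ := SubG.exists_bad F₀ m n hm1 hm hsq c hc'
    have hx3' : ∃ z : F, ((x ^ 3 : Matrix.SpecialLinearGroup (Fin n) F) :
        Matrix (Fin n) (Fin n) F) = z • (1 : Matrix (Fin n) (Fin n) F) := by
      refine ⟨1, ?_⟩
      rw [Matrix.SpecialLinearGroup.coe_pow, pow_succ, pow_two, hx3, one_smul]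
    obtain ⟨P, hP⟩ := H x hx3' hxns
    exact hbad P hP
  · -- if
    intro hR x hx3 _
    obtain ⟨z, hz⟩ := hx3
    show ∃ P : Matrix.SpecialLinearGroup (Fin n) F, P⁻¹ * x * P ∈ SubA.HS n F₀
    have hxxx : (x : Matrix (Fin n) (Fin n) F) * (x : Matrix (Fin n) (Fin n) F) *
        (x : Matrix (Fin n) (Fin n) F) = z • (1 : Matrix (Fin n) (Fin n) F) := by
      rw [← hz, Matrix.SpecialLinearGroup.coe_pow, pow_succ, pow_two]
    have hz0 : z ≠ 0 := by
      rintro rfl
      have := congrArg Matrix.det hxxx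
      rw [Matrix.det_mul, Matrix.det_mul, x.det_coe, zero_smul] at this
      have hne : Nonempty (Fin n) := ⟨⟨0, by omega⟩⟩
      rw [Matrix.det_zero] at this
      simp at this
    obtain ⟨μ, hμ⟩ := hcube z
    rw [← hμ] at hxxx hz0
    have hμ0 : μ ≠ 0 := by
      rintro rfl
      simp at hz0
    apply SubE.conj_char_three F₀ x μ hμ0 hn1 hcube hxxx
    intro heven
    have hk3 : 2 < k := by
      rcases hR with h | h
      · exact absurd heven (Nat.not_even_iff_odd.mpr h)
      · exact h.2
    have hkodd : Odd k := by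
      rcases hk.eq_two_or_odd' with h | h
      · omega
      · exact h
    -- a non-square of `F₀` which stays a non-square in `F`
    haveI : Fintype F₀ := Fintype.ofFinite F₀
    have hq₀c : Fintype.card F₀ = q₀ := by rw [← hF₀, Nat.card_eq_fintype_card]
    have hF₀char : ringChar F₀ ≠ 2 := by
      haveI : CharP F₀ 3 := by
        have : CharP F₀ (ringChar F) := by
          rw [hF]
          exact (RingHom.charP_iff F₀.subtype Subtype.val_injective 3).mpr inferInstance
        rwa [hF] at this
      rw [ringChar.eq F₀ 3]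
      norm_num
    obtain ⟨θ, hθ⟩ := FiniteField.exists_nonsquare hF₀char
    have hθ' : ∀ a : F₀, a * a ≠ θ := fun a ha => hθ ⟨a, ha.symm⟩
    have hpow := SubD.nonsquare_pow hF₀char θ hθ'
    rw [hq₀c] at hpow
    have hpowF : (θ : F) ^ (q₀ / 2) = -1 := by
      have := congrArg Subtype.val hpow
      simpa using this
    have hq₀2 : 2 ≤ q₀ := by
      rw [← hq₀c]
      exact Fintype.one_lt_card
    have hqodd : q % 2 = 1 := by
      rw [← hq]
      exact FiniteField.odd_card_of_char_ne_two hF2
    have hq₀odd : Odd q₀ := by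
      rw [hqk] at hqodd
      by_contra h
      rw [Nat.not_odd_iff_even] at h
      have hk0 : k ≠ 0 := by omega
      have := (h.pow_of_ne_zero hk0)
      rw [Nat.even_iff] at this
      omega
    have hgeom := SubB.geom_nat q₀ k (by omega)
    rw [← hqk] at hgeom
    have hGodd := SubB.geom_odd q₀ k hq₀odd hkodd
    set G := ∑ j ∈ Finset.range k, q₀ ^ j with hG
    have hhalf : q / 2 = q₀ / 2 * G := by
      obtain ⟨t, ht⟩ := hq₀odd
      have e1 : q₀ / 2 = t := by omega
      have e2 : q₀ - 1 = 2 * t := by omega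
      rw [e1]
      rw [e2] at hgeom
      have : q - 1 = 2 * (t * G) := by rw [hgeom]; ring
      omega
    have hθF : ∀ b : F, b * b ≠ (θ : F) := by
      intro b hb
      have hθ0 : (θ : F) ≠ 0 := by
        intro h0
        apply hθ' 0
        apply Subtype.ext
        simp [h0]
      have h1 := (FiniteField.isSquare_iff hF2 hθ0).mp ⟨b, hb.symm⟩
      rw [hq, hhalf, pow_mul, hpowF, hGodd.neg_one_pow] at h1
      apply h2
      linear_combination -h1
    refine ⟨(θ : F), θ.2, fun h0 => hθF 0 (by rw [mul_zero, h0]), ?_⟩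
    intro d hd
    by_cases hds : ∃ b : F, b * b = d
    · exact Or.inl hds
    · right
      push Not at hds
      obtain ⟨c, _, hc⟩ := FldC.exists_sqrt_ratio hF2 d (θ : F) hds hθF
      exact ⟨c, by rw [hc]; ring⟩

end Cfsg.Agent.S5966
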