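import Cfsg.Statements.S5967
import Cfsg.Agent.Lib.helper14.SpSLc
import Cfsg.Agent.Lib.helper14.InvB
import Cfsg.Agent.Lib.helper14.InvD
import Cfsg.Agent.Lib.helper14.InvE
import Cfsg.Agent.Lib.helper14.InvF

set_option autoImplicit false
open scoped MatrixGroups
open Cfsg

namespace Cfsg.Agent.S5967

open Matrix Cfsg.Agent.Lib.helper14

section aux
variable {F : Type*} [Field F]

/-- `diag(c,1)` commutes with scalar blocks -/
theorem diag_comm_scalar (c a : F) :
    (Matrix.diagonal ![c, 1] : Matrix (Fin 2) (Fin 2) F) * (a • (1 : Matrix (Fin 2) (Fin 2) F)) =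
      (a • (1 : Matrix (Fin 2) (Fin 2) F)) * Matrix.diagonal ![c, 1] := by
  rw [Matrix.mul_smul, Matrix.smul_mul, Matrix.mul_one, Matrix.one_mul]

theorem diag_det (c : F) : (Matrix.diagonal ![c, 1] : Matrix (Fin 2) (Fin 2) F).det = c := by
  rw [Matrix.det_diagonal, Fin.prod_univ_two]
  simp

theorem pow_ne_neg_one [Fintype F] (h2 : (2 : F) ≠ 0) (q n : ℕ) (hq : Fintype.card F = q)
    (hv : padicValNat 2 (q - 1) ≤ padicValNat 2 n) (hn : n ≠ 0) (μ : F) (hμ : μ ≠ 0) :
    μ ^ n ≠ -1 := by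
  intro hμn
  have hq2 : 2 ≤ q := by
    rw [← hq]
    exact Fintype.one_lt_card
  have hq1 : q - 1 ≠ 0 := by omega
  set t := padicValNat 2 (q - 1) with ht
  obtain ⟨m', hm'⟩ : 2 ^ t ∣ q - 1 := pow_padicValNat_dvd
  have hodd : Odd m' := by
    rw [← Nat.not_even_iff_odd]
    rintro ⟨m'', hm''⟩
    have hnd : ¬ 2 ^ (t + 1) ∣ q - 1 := pow_succ_padicValNat_not_dvd hq1
    apply hnd
    refine ⟨m'', ?_⟩
    calc q - 1 = 2 ^ t * m' := hm'
      _ = 2 ^ (t + 1) * m'' := by rw [hm'']; ring
  obtain ⟨n', hn'⟩ : 2 ^ t ∣ n := (pow_dvd_pow 2 hv).trans pow_padicValNat_dvd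
  have h1 : μ ^ (n * m') = -1 := by
    rw [pow_mul, hμn, hodd.neg_one_pow]
  have h3 : n * m' = (q - 1) * n' := by
    rw [hn', hm']
    ring
  have h4 : μ ^ (q - 1) = 1 := by
    rw [← hq]
    exact FiniteField.pow_card_sub_one_eq_one μ hμ
  rw [h3, pow_mul, h4, one_pow] at h1
  apply h2
  linear_combination h1

theorem exists_pow_eq_neg_one [Fintype F] (h2 : (2 : F) ≠ 0) (q n : ℕ) (hq : Fintype.card F = q)
    (hv : padicValNat 2 n < padicValNat 2 (q - 1)) (hn : n ≠ 0) :
    ∃ μ : F, μ ≠ 0 ∧ μ ^ n = -1 := by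
  classical
  set s := padicValNat 2 n with hs
  obtain ⟨n', hn'⟩ : 2 ^ s ∣ n := pow_padicValNat_dvd
  have hodd : Odd n' := by
    rw [← Nat.not_even_iff_odd]
    rintro ⟨n'', hn''⟩
    have hnd : ¬ 2 ^ (s + 1) ∣ n := pow_succ_padicValNat_not_dvd hn
    apply hnd
    refine ⟨n'', ?_⟩
    calc n = 2 ^ s * n' := hn'
      _ = 2 ^ (s + 1) * n'' := by rw [hn'']; ring
  have hdvd : 2 ^ (s + 1) ∣ Fintype.card Fˣ := by
    rw [Fintype.card_units, hq]
    exact (pow_dvd_pow 2 hv).trans pow_padicValNat_dvd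
  have hcard := IsCyclic.card_orderOf_eq_totient (α := Fˣ) hdvd
  have hpos : 0 < Nat.totient (2 ^ (s + 1)) := Nat.totient_pos.mpr (by positivity)
  rw [← hcard, Finset.card_pos] at hpos
  obtain ⟨ζ, hζ⟩ := hpos
  rw [Finset.mem_filter] at hζ
  have hζo : orderOf ζ = 2 ^ (s + 1) := hζ.2
  have hy2 : ((ζ : F) ^ 2 ^ s) * ((ζ : F) ^ 2 ^ s) = 1 := by
    rw [← pow_add, ← two_mul, ← pow_succ', ← hζo, ← Units.val_pow_eq_pow_val, pow_orderOf_eq_one,
      Units.val_one]
  have hy1 : (ζ : F) ^ 2 ^ s ≠ 1 := by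
    intro h
    have h' : ζ ^ 2 ^ s = 1 := by
      apply Units.ext
      rw [Units.val_pow_eq_pow_val, h, Units.val_one]
    have hlt : 2 ^ s < orderOf ζ := by
      rw [hζo]
      exact Nat.pow_lt_pow_right (by norm_num) (by omega)
    exact pow_ne_one_of_lt_orderOf (by positivity) hlt h'
  have hy : (ζ : F) ^ 2 ^ s = -1 := by
    have h0 : ((ζ : F) ^ 2 ^ s - 1) * ((ζ : F) ^ 2 ^ s + 1) = 0 := by linear_combination hy2
    rcases mul_eq_zero.mp h0 with h | h
    · exact absurd (sub_eq_zero.mp h) hy1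
    · exact eq_neg_of_add_eq_zero_left h
  refine ⟨(ζ : F), ζ.ne_zero, ?_⟩
  rw [hn', pow_mul, hy, hodd.neg_one_pow]

/-- the diagonal of the counterexample -/
def dvec (n : ℕ) (μ : F) : Fin n → F := fun i => if i.val = 0 then μ else -μ

theorem det_dvec (n : ℕ) (hn : Even n) (hn0 : n ≠ 0) (μ : F) (hμ : μ ^ n = -1) :
    (Matrix.diagonal (dvec n μ)).det = 1 := by
  obtain ⟨n', rfl⟩ := Nat.exists_eq_succ_of_ne_zero hn0
  have hodd : Odd n' := by
    rw [← Nat.not_even_iff_odd]
    intro h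
    exact (Nat.even_add_one.mp hn) h
  rw [Matrix.det_diagonal, Fin.prod_univ_succ]
  have h1 : dvec (n' + 1) μ 0 = μ := by
    simp [dvec]
  have h2 : ∀ i : Fin n', dvec (n' + 1) μ i.succ = -μ := by
    intro i
    simp [dvec]
  rw [h1, Finset.prod_congr rfl (fun i _ => h2 i), Finset.prod_const, Finset.card_univ,
    Fintype.card_fin, hodd.neg_pow]
  rw [Nat.succ_eq_add_one, pow_succ] at hμ
  linear_combination -hμ

theorem dvec_sq (n : ℕ) (μ : F) :
    Matrix.diagonal (dvec n μ) * Matrix.diagonal (dvec n μ) =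
      (μ * μ) • (1 : Matrix (Fin n) (Fin n) F) := by
  rw [Matrix.diagonal_mul_diagonal, Matrix.smul_one_eq_diagonal]
  congr 1
  funext i
  unfold dvec
  split_ifs
  · rfl
  · ring

end aux

/-- Involutions of PSL_n(q) and the symplectic-type subgroups. Here `T = PSL_n(F)` for a field `F` with `q` elements, `n ≥ 4` even, `f` is a nondegenerate alternating form on `F^n`, and `H` is the subgroup of matrices of determinant 1 preserving `f` up to a scalar — a maximal subgroup of type Sp_n(q); Ω is the set of `T`-conjugates of `H` (cosets of `H`), so an element of `T` of prime order `r` (a matrix `x` of determinant 1 with `x^r` scalar, `x` not scalar) fixes a point of Ω when some conjugate of `x` by a matrix of determinant 1 preserves `f` up to a scalar. Suppose the index of `H` is even. Then every involution of `T` is conjugate in `T` into `H` if and only if `(q − 1)_2 ≤ (n)_2`. -/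
theorem result {F : Type*} [Field F] [Fintype F] {p : ℕ} [Fact p.Prime] [CharP F p] {q : ℕ} (hq : Fintype.card F = q)
    (n : ℕ) (hn : 4 ≤ n) (he : Even n) (f : (Fin n → F) → (Fin n → F) → F) (hf : Cfsg.Geo.IsSymplecticForm f)
    (hΩ : 2 ∣ ((Cfsg.Geo.similarityGroup f).comap (Matrix.SpecialLinearGroup.toGL : Matrix.SpecialLinearGroup (Fin n) F →* GL (Fin n) F)).index) :
    (∀ x : Matrix.SpecialLinearGroup (Fin n) F,
      (∃ z : F, ((x ^ 2 : Matrix.SpecialLinearGroup (Fin n) F) : Matrix (Fin n) (Fin n) F) = z • (1 : Matrix (Fin n) (Fin n) F)) →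
      (∀ z : F, (x : Matrix (Fin n) (Fin n) F) ≠ z • (1 : Matrix (Fin n) (Fin n) F)) →
      ∃ P : Matrix.SpecialLinearGroup (Fin n) F, P⁻¹ * x * P ∈ ((Cfsg.Geo.similarityGroup f).comap (Matrix.SpecialLinearGroup.toGL : Matrix.SpecialLinearGroup (Fin n) F →* GL (Fin n) F))) ↔
    padicValNat 2 (q - 1) ≤ padicValNat 2 n := by
  classical
  have hn0 : n ≠ 0 := by omega
  obtain ⟨k, hk⟩ := id he
  have hnk : n = 2 * k := by omega
  have hk2 : 2 ≤ k := by omega
  have hq2 : 2 ≤ q := by
    rw [← hq]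
    exact Fintype.one_lt_card
  constructor
  · intro H
    by_contra hlt
    push Not at hlt
    have h2 : (2 : F) ≠ 0 := by
      by_cases hF : ringChar F = 2
      · exfalso
        have h0 := FiniteField.even_card_of_char_two hF
        rw [hq] at h0
        have hodd : ¬ 2 ∣ q - 1 := by omega
        have : padicValNat 2 (q - 1) = 0 := padicValNat.eq_zero_of_not_dvd hodd
        omega
      · exact Ring.two_ne_zero hF
    obtain ⟨μ, hμ0, hμn⟩ := exists_pow_eq_neg_one h2 q n hq hlt hn0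
    obtain ⟨x, hx⟩ : ∃ x : Matrix.SpecialLinearGroup (Fin n) F,
        (x : Matrix (Fin n) (Fin n) F) = Matrix.diagonal (dvec n μ) :=
      ⟨⟨_, det_dvec n he hn0 μ hμn⟩, rfl⟩
    have hx2 : ∃ z : F, ((x ^ 2 : Matrix.SpecialLinearGroup (Fin n) F) :
        Matrix (Fin n) (Fin n) F) = z • (1 : Matrix (Fin n) (Fin n) F) := by
      refine ⟨μ * μ, ?_⟩
      rw [Matrix.SpecialLinearGroup.coe_pow, pow_two, hx, dvec_sq]
    have hμμ : μ * μ ≠ -(μ * μ) := by
      intro h
      have : (2 : F) * (μ * μ) = 0 := by linear_combination h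
      rcases mul_eq_zero.mp this with h' | h'
      · exact h2 h'
      · exact hμ0 (mul_self_eq_zero.mp h')
    have hxns : ∀ z : F, (x : Matrix (Fin n) (Fin n) F) ≠ z • (1 : Matrix (Fin n) (Fin n) F) := by
      intro z hz
      rw [hx] at hz
      have h0 := congrFun (congrFun hz ⟨0, by omega⟩) ⟨0, by omega⟩
      have h1 := congrFun (congrFun hz ⟨1, by omega⟩) ⟨1, by omega⟩
      simp [dvec, Matrix.diagonal_apply, Matrix.smul_apply, Matrix.one_apply] at h0 h1
      have h3 : (2 : F) * μ = 0 := by linear_combination h0 - h1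
      rcases mul_eq_zero.mp h3 with h' | h'
      · exact h2 h'
      · exact hμ0 h'
    obtain ⟨P, hP⟩ := H x hx2 hxns
    obtain ⟨f', hf', ⟨c, hc⟩⟩ := SpSLc.transport f hf x P hP
    rw [hx] at hc
    have hd0 : dvec n μ ⟨0, by omega⟩ = μ := by simp [dvec]
    have hdj : ∀ j : Fin n, j ≠ ⟨0, by omega⟩ → dvec n μ j = -μ := by
      intro j hj
      have : j.val ≠ 0 := fun h => hj (Fin.ext h)
      simp [dvec, this]
    obtain ⟨j, hj, hcj⟩ := SpSLc.exists_partner (dvec n μ) f' hf' (c : F) hc ⟨0, by omega⟩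
    rw [hd0, hdj j hj] at hcj
    apply SpSLc.two_rows (dvec n μ) f' hf' (c : F) hc ⟨1, by omega⟩ ⟨2, by omega⟩ ⟨0, by omega⟩
      (by intro h; have := congrArg Fin.val h; simp at this)
    intro j hj
    rw [hdj j hj, hdj ⟨1, by omega⟩ (by intro h; have := congrArg Fin.val h; simp at this),
      hdj ⟨2, by omega⟩ (by intro h; have := congrArg Fin.val h; simp at this), ← hcj]
    constructor
    · intro h
      apply hμμ
      linear_combination h
    · intro h
      apply hμμ
      linear_combination h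
  · intro hv x hx2 _
    obtain ⟨z, hz⟩ := hx2
    show ∃ P : Matrix.SpecialLinearGroup (Fin n) F, P⁻¹ * x * P ∈ SpSLb.HH f
    have hxx : (x : Matrix (Fin n) (Fin n) F) * (x : Matrix (Fin n) (Fin n) F) =
        z • (1 : Matrix (Fin n) (Fin n) F) := by
      rw [← hz, Matrix.SpecialLinearGroup.coe_pow, pow_two]
    have hne : Nonempty (Fin n) := ⟨⟨0, by omega⟩⟩
    have hz0 : z ≠ 0 := by
      rintro rfl
      have := congrArg Matrix.det hxx
      rw [Matrix.det_mul, x.det_coe, zero_smul, Matrix.det_zero] at this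
      simp at this
    by_cases hF : ringChar F = 2
    · -- characteristic 2
      have h2 : (2 : F) = 0 := by
        have := ringChar.Nat.cast_ringChar (R := F)
        rw [hF] at this
        exact_mod_cast this
      obtain ⟨μ, hμz⟩ := FiniteField.isSquare_of_char_two hF z
      rw [hμz] at hxx hz0
      have hμ : μ ≠ 0 := fun h => hz0 (by rw [h, mul_zero])
      obtain ⟨r, d, g, g', hrd, h1, h2', h3⟩ :=
        InvF.planes_char_two (x : Matrix (Fin n) (Fin n) F) μ hμ h2 k hnk hxx
      apply InvB.finish_planes f hf x g g' h1 h2' (InvF.mU μ r d) h3 (μ * μ) hz0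
        (InvF.mU_det μ r d)
      intro c _
      have hne' : Nonempty (Fin r ⊕ Fin d) := by
        by_cases hr : 0 < r
        · exact ⟨Sum.inl ⟨0, hr⟩⟩
        · exact ⟨Sum.inr ⟨0, by omega⟩⟩
      obtain ⟨i₀⟩ := hne'
      obtain ⟨a, ha⟩ := FiniteField.isSquare_of_char_two hF c
      refine ⟨i₀, a • (1 : Matrix (Fin 2) (Fin 2) F), ?_, ?_⟩
      · rw [Matrix.smul_mul, Matrix.mul_smul, Matrix.one_mul, Matrix.mul_one]
      · rw [Matrix.det_smul, Fintype.card_fin, Matrix.det_one, ha]
        ring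
    · have h2 : (2 : F) ≠ 0 := Ring.two_ne_zero hF
      have hodd : Fintype.card F % 2 = 1 := FiniteField.odd_card_of_char_ne_two hF
      by_cases hsq : ∃ μ : F, μ * μ = z
      · obtain ⟨μ, rfl⟩ := hsq
        have hμ : μ ≠ 0 := fun h => hz0 (by rw [h, mul_zero])
        obtain ⟨a, b, B, hB1, hB2⟩ :=
          InvD.eigen_basis (x : Matrix (Fin n) (Fin n) F) μ hμ h2 hxx
        obtain ⟨hdet, hab⟩ := InvD.det_of_eigen (x : Matrix (Fin n) (Fin n) F) μ a b B hB1 hB2
        rw [x.det_coe] at hdet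
        have hb : Even b := by
          by_contra hb
          rw [Nat.not_even_iff_odd] at hb
          apply pow_ne_neg_one h2 q n hq hv hn0 μ hμ
          rw [hb.neg_pow] at hdet
          rw [← hab, pow_add]
          linear_combination hdet
        obtain ⟨b', hb'⟩ : ∃ b', b = 2 * b' := by
          obtain ⟨b', hb'⟩ := hb
          exact ⟨b', by omega⟩
        obtain ⟨a', ha'⟩ : ∃ a', a = 2 * a' := ⟨k - b', by omega⟩
        subst ha' hb'
        obtain ⟨g, g', h1, h2', h3⟩ :=
          InvD.planes_of_eigen (x : Matrix (Fin n) (Fin n) F) μ a' b' B hB1 hB2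
        apply InvB.finish_planes f hf x g g' h1 h2' (InvD.mEig μ a' b') h3 (μ * μ) hz0
        · intro i
          rcases i with i | i
          · show (μ • (1 : Matrix (Fin 2) (Fin 2) F)).det = μ * μ
            rw [Matrix.det_smul, Fintype.card_fin, Matrix.det_one]
            ring
          · show ((-μ) • (1 : Matrix (Fin 2) (Fin 2) F)).det = μ * μ
            rw [Matrix.det_smul, Fintype.card_fin, Matrix.det_one]
            ring
        · intro c _
          have hne' : Nonempty (Fin a' ⊕ Fin b') := by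
            by_cases hr : 0 < a'
            · exact ⟨Sum.inl ⟨0, hr⟩⟩
            · exact ⟨Sum.inr ⟨0, by omega⟩⟩
          obtain ⟨i₀⟩ := hne'
          refine ⟨i₀, Matrix.diagonal ![c, 1], ?_, diag_det c⟩
          rcases i₀ with i | i
          · exact diag_comm_scalar c μ
          · exact diag_comm_scalar c (-μ)
      · push Not at hsq
        obtain ⟨g, g', h1, h2', h3⟩ :=
          InvE.planes_nonsquare (x : Matrix (Fin n) (Fin n) F) z k hnk hxx hsq
        apply InvB.finish_planes f hf x g g' h1 h2' (fun _ : Fin k => InvE.mNS z) h3 (-z)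
          (neg_ne_zero.mpr hz0) (fun _ => InvE.mNS_det z)
        intro c _
        obtain ⟨m', hm1, hm2⟩ := InvE.centralizer_nonsquare hodd z hz0 c
        exact ⟨⟨0, by omega⟩, m', hm1, hm2⟩

end Cfsg.Agent.S5967
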