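import Cfsg.Statements.S5968
import Cfsg.Agent.Lib.helper14.PolA
import Cfsg.Agent.Lib.helper14.SpSLe

set_option autoImplicit false
open scoped MatrixGroups
open Cfsg

namespace Cfsg.Agent.S5968

open Cfsg.Agent.Lib.helper14 Matrix

theorem toLin'_pow' {F : Type*} [Field F] {n : Type*} [Fintype n] [DecidableEq n]
    (A : Matrix n n F) (m : ℕ) : Matrix.toLin' (A ^ m) = (Matrix.toLin' A) ^ m := by
  induction m with
  | zero => rw [pow_zero, pow_zero, Matrix.toLin'_one]; rfl
  | succ m ih => rw [pow_succ, pow_succ, Matrix.toLin'_mul, ih]; rfl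

/-- the case `r ∣ q - 1` -/
theorem case_diag {F : Type*} [Field F] [Fintype F] {q : ℕ} (hq : Fintype.card F = q)
    (n : ℕ) (hn : 4 ≤ n) (he : Even n) (r : ℕ) [hr : Fact r.Prime] (hr2 : r ≠ 2)
    (hgap : ¬ (n = 6 ∧ r = 3)) (hdiv : r ∣ q - 1) :
    ∃ x : Matrix.SpecialLinearGroup (Fin n) F, SpSLd.Good r x := by
  classical
  have hcardU : Nat.card Fˣ = q - 1 := by
    rw [Nat.card_units, Nat.card_eq_fintype_card, hq]
  obtain ⟨ζ, hζ⟩ := exists_prime_orderOf_dvd_card' r (hcardU ▸ hdiv)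
  set z : F := (ζ : F) with hz
  have hoz : orderOf z = r := by rw [hz, orderOf_units, hζ]
  have hzr : z ^ r = 1 := hoz ▸ pow_orderOf_eq_one z
  have hz0 : z ≠ 0 := ζ.ne_zero
  have hne : ∀ m, m ≠ 0 → m < r → z ^ m ≠ 1 := fun m hm0 hm =>
    pow_ne_one_of_lt_orderOf hm0 (hoz.symm ▸ hm)
  have hr3 : 3 ≤ r := by
    have := hr.out.two_le
    omega
  have hz1 : z ≠ 1 := by
    have := hne 1 one_ne_zero (by omega)
    rwa [pow_one] at this
  by_cases h3 : r = 3
  · subst h3
    have hn' : n = 4 ∨ 8 ≤ n := by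
      obtain ⟨t, ht⟩ := he
      have : n ≠ 6 := fun h => hgap ⟨h, rfl⟩
      omega
    rcases hn' with rfl | hn8
    · apply SpSLd.good_diag 3 (SpSLd.mu2 z) (SpSLd.mu2_prod z hzr)
      · intro i
        by_cases hi : i = 3
        · rw [hi]
          show (1 : F) ^ 3 = 1
          exact one_pow 3
        · rw [SpSLd.mu2_ne3 z i hi, hzr]
      · refine ⟨0, 3, ?_⟩
        show z ≠ 1
        exact hz1
      · intro f hf c hc
        exact SpSLd.p2_not z hz1 hz0 f hf c hc
    · obtain ⟨m, rfl⟩ : ∃ m, n = m + 2 + 5 := ⟨n - 7, by omega⟩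
      apply SpSLd.good_diag 3 (SpSLd.mu3 m z) (SpSLd.mu3_prod z hzr)
      · intro i
        by_cases hi : i = SpSLd.i4 m
        · rw [hi]
          show (z ^ 2) ^ 3 = 1
          rw [← pow_mul, mul_comm, pow_mul, hzr, one_pow]
        · rcases SpSLd.mu3_ne4 z i hi with h | h
          · rw [h, hzr]
          · rw [h, one_pow]
      · refine ⟨0, SpSLd.i5 m, ?_⟩
        show z ≠ 1
        exact hz1
      · intro f hf c hc
        exact SpSLd.p3_not z hzr hz1 f hf c hc
  · have hr5 : 5 ≤ r := by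
      rcases Nat.lt_or_ge r 5 with h | h
      · exfalso
        have h4 : r ≠ 4 := by
          intro h4
          rw [h4] at hr
          exact absurd hr.out (by norm_num)
        omega
      · exact h
    obtain ⟨m, rfl⟩ : ∃ m, n = m + 3 := ⟨n - 3, by omega⟩
    set η : F := z⁻¹ * z⁻¹ with hη
    have hprod : z * z * η = 1 := by
      rw [hη]
      field_simp
    have hηr : η ^ r = 1 := by
      rw [hη, mul_pow, inv_pow, hzr, inv_one, one_mul]
    apply SpSLd.good_diag r (SpSLd.mu1 m z η) (SpSLd.mu1_prod z η hprod)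
    · intro i
      rcases SpSLd.mu1_all z η i with h | h | h
      · rw [h, hzr]
      · rw [h, hηr]
      · rw [h, one_pow]
    · refine ⟨0, Fin.succ (Fin.succ (Fin.succ ⟨0, by omega⟩)), ?_⟩
      show z ≠ 1
      exact hz1
    · intro f hf c hc
      exact SpSLd.p1_not z η hprod hz1 (hne 2 (by norm_num) (by omega))
        (hne 3 (by norm_num) (by omega)) (hne 4 (by norm_num) (by omega)) f hf c hc

/-- the case of odd order `o ≥ 3` of `q` modulo `r` -/
theorem case_block {F : Type*} [Field F] [Fintype F] {q : ℕ} (hq : Fintype.card F = q)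
    (o k : ℕ) (ho : Odd o) (hk : 1 ≤ k) (r : ℕ) [hr : Fact r.Prime]
    (hrq : ¬ r ∣ q) (hrq1 : ¬ r ∣ q - 1) (hdiv : r ∣ q ^ o - 1)
    (hnum : ∀ m, 0 < m → m < o → ¬ r ∣ q ^ m - 1) :
    ∃ x : Matrix.SpecialLinearGroup (Fin (o + k)) F, SpSLd.Good r x := by
  classical
  have ho1 : 1 ≤ o := by
    obtain ⟨t, ht⟩ := ho
    omega
  have hq2 : 2 ≤ q := hq ▸ Fintype.one_lt_card
  have hcard : r ∣ Nat.card (GL (Fin o) F) := by
    rw [Matrix.card_GL_field, hq]
    apply dvd_trans _ (Finset.dvd_prod_of_mem _ (Finset.mem_univ (⟨0, ho1⟩ : Fin o)))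
    show r ∣ q ^ o - q ^ 0
    rw [pow_zero]
    exact hdiv
  obtain ⟨x₁, hx₁⟩ := exists_prime_orderOf_dvd_card' r hcard
  let a : Module.End F (Fin o → F) := Matrix.toLin' (x₁ : Matrix (Fin o) (Fin o) F)
  have har : a ^ r = 1 := by
    have h1 : x₁ ^ r = 1 := hx₁ ▸ pow_orderOf_eq_one x₁
    have h2 : (x₁ : Matrix (Fin o) (Fin o) F) ^ r = 1 := by
      rw [← Units.val_pow_eq_pow_val, h1, Units.val_one]
    show (Matrix.toLin' (x₁ : Matrix (Fin o) (Fin o) F)) ^ r = 1
    rw [← toLin'_pow', h2, Matrix.toLin'_one]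
    rfl
  have ha1 : a ≠ 1 := by
    intro h
    have h1 : (x₁ : Matrix (Fin o) (Fin o) F) = 1 := by
      apply Matrix.toLin'.injective
      rw [Matrix.toLin'_one]
      exact h
    have h2 : x₁ = 1 := Units.ext h1
    rw [h2, orderOf_one] at hx₁
    exact hr.out.one_lt.ne hx₁
  have hcardF : Nat.card F = q := by rw [Nat.card_eq_fintype_card, hq]
  have hfr : Module.finrank F (Fin o → F) = o := by
    rw [Module.finrank_fintype_fun_eq_card, Fintype.card_fin]
  obtain ⟨hfix, hirr⟩ := PolA.irr_of_order a r har ha1 q o hcardF hrq hfr hnum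
  have hmult : ∀ z : F, z ^ r = 1 → z = 1 := by
    intro z hz
    have hz0 : z ≠ 0 := by
      intro h0
      rw [h0, zero_pow hr.out.ne_zero] at hz
      exact zero_ne_one hz
    have h1 : z ^ (q - 1) = 1 := by
      rw [← hq]
      exact FiniteField.pow_card_sub_one_eq_one z hz0
    have h2 : orderOf z ∣ r := orderOf_dvd_of_pow_eq_one hz
    have h3 : orderOf z ∣ q - 1 := orderOf_dvd_of_pow_eq_one h1
    rcases (Nat.dvd_prime hr.out).mp h2 with h4 | h4
    · exact orderOf_eq_one_iff.mp h4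
    · rw [h4] at h3
      exact absurd h3 hrq1
  let X : Module.End F (Fin (o + k) → F) := SpSLe.emb o k a
  have hXr : X ^ r = 1 := by
    show SpSLe.emb o k a ^ r = 1
    rw [← SpSLe.emb_pow, har, SpSLe.emb_one]
  let M : Matrix (Fin (o + k)) (Fin (o + k)) F := LinearMap.toMatrix' X
  have hMr : M ^ r = 1 := by
    show LinearMap.toMatrix' X ^ r = 1
    rw [← SpSLe.toMatrix_pow, hXr]
    exact LinearMap.toMatrix'_id
  have hdet : M.det = 1 := by
    apply hmult
    rw [← Matrix.det_pow, hMr, Matrix.det_one]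
  have hMv : ∀ v, M *ᵥ v = X v := fun v => LinearMap.toMatrix'_mulVec X v
  let x : Matrix.SpecialLinearGroup (Fin (o + k)) F := ⟨M, hdet⟩
  refine ⟨x, ⟨1, ?_⟩, ?_, ?_⟩
  · rw [Matrix.SpecialLinearGroup.coe_pow, one_smul]
    exact hMr
  · intro z hz
    have hz' : M = z • (1 : Matrix (Fin (o + k)) (Fin (o + k)) F) := hz
    let v : Fin (o + k) → F := Pi.single (Fin.natAdd o ⟨0, hk⟩) 1
    have hprv : SpSLe.pr o k v = 0 := by
      funext s
      show v (Fin.castAdd k s) = 0
      have : Fin.castAdd k s ≠ Fin.natAdd o ⟨0, hk⟩ := by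
        intro h
        have := congrArg Fin.val h
        simp at this
        omega
      exact Pi.single_eq_of_ne this 1
    have h1 : X v = v := SpSLe.emb_fix o k a v hprv
    have h2 : X v = z • v := by
      rw [← hMv, hz', Matrix.smul_mulVec, Matrix.one_mulVec]
    have hz1 : z = 1 := by
      have h3 := congrFun (h1.symm.trans h2) (Fin.natAdd o ⟨0, hk⟩)
      simp [v] at h3
      exact h3.symm
    have hX1 : ∀ w, X w = w := by
      intro w
      rw [← hMv, hz', hz1, one_smul, Matrix.one_mulVec]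
    let y : Fin o → F := Pi.single ⟨0, ho1⟩ 1
    have hy : y = 0 := by
      apply hfix
      have h4 := hX1 (SpSLe.io o k y)
      have h5 : SpSLe.io o k (a y) = SpSLe.io o k y := by
        rw [← SpSLe.emb_io]
        exact h4
      have h6 := congrArg (SpSLe.pr o k) h5
      rwa [SpSLe.pr_io, SpSLe.pr_io] at h6
    have := congrFun hy ⟨0, ho1⟩
    simp [y] at this
  · intro f' hf'
    exact SpSLe.block_not_sim o k ho a r har hr.out.ne_zero hfix hirr hmult f' hf'


/-- Derangements of odd prime order of PSL_n(q) on the cosets of a symplectic-type subgroup. Here `T = PSL_n(F)` for a field `F` with `q` elements, `n ≥ 4` even, `f` is a nondegenerate alternating form on `F^n`, and `H` is the subgroup of matrices of determinant 1 preserving `f` up to a scalar — a maximal subgroup of type Sp_n(q); Ω is the set of `T`-conjugates of `H` (cosets of `H`), so an element of `T` of prime order `r` (a matrix `x` of determinant 1 with `x^r` scalar, `x` not scalar) fixes a point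 of Ω when some conjugate of `x` by a matrix of determinant 1 preserves `f` up to a scalar. For every odd prime `r` dividing the index of `H`, with `(n, r) ≠ (6, 3)`, there is an element of `T` of order `r` with no conjugate in `H`. (For `n = 6`, `r = 3` this can fail: when `(q − 1)_3 = 3` every element of order 3 is conjugate into `H`.) -/
theorem result {F : Type*} [Field F] [Fintype F] {p : ℕ} [Fact p.Prime] [CharP F p] {q : ℕ} (hq : Fintype.card F = q)
    (n : ℕ) (hn : 4 ≤ n) (he : Even n) (f : (Fin n → F) → (Fin n → F) → F) (hf : Cfsg.Geo.IsSymplecticForm f)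
    (r : ℕ) [Fact r.Prime] (hr2 : r ≠ 2) (hgap : ¬ (n = 6 ∧ r = 3)) (hΩ : r ∣ ((Cfsg.Geo.similarityGroup f).comap (Matrix.SpecialLinearGroup.toGL : Matrix.SpecialLinearGroup (Fin n) F →* GL (Fin n) F)).index) :
    ∃ x : Matrix.SpecialLinearGroup (Fin n) F,
      (∃ z : F, ((x ^ r : Matrix.SpecialLinearGroup (Fin n) F) : Matrix (Fin n) (Fin n) F) = z • (1 : Matrix (Fin n) (Fin n) F)) ∧
      (∀ z : F, (x : Matrix (Fin n) (Fin n) F) ≠ z • (1 : Matrix (Fin n) (Fin n) F)) ∧
      ∀ P : Matrix.SpecialLinearGroup (Fin n) F, P⁻¹ * x * P ∉ ((Cfsg.Geo.similarityGroup f).comap (Matrix.SpecialLinearGroup.toGL : Matrix.SpecialLinearGroup (Fin n) F →* GL (Fin n) F)) := by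
  classical
  suffices h : ∃ x : Matrix.SpecialLinearGroup (Fin n) F, SpSLd.Good r x by
    obtain ⟨x, hx1, hx2, hx3⟩ := h
    refine ⟨x, hx1, hx2, fun P hP => ?_⟩
    obtain ⟨f', hf', hsim⟩ := SpSLc.transport f hf x P hP
    exact hx3 f' hf' hsim
  have hq2 : 2 ≤ q := hq ▸ Fintype.one_lt_card
  rcases SpSLb.index_cases hq hn f hf r hΩ with hrp | ⟨i, hi1, hi2, hidiv⟩
  · subst hrp
    have hn3 : 3 ≤ n := by omega
    let x : Matrix.SpecialLinearGroup (Fin n) F := ⟨SpSLc.xU hn3, SpSLc.xU_det hn3 hr2⟩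
    refine ⟨x, ⟨1, ?_⟩, SpSLc.xU_not_scalar hn3, fun f' hf' => SpSLc.xU_not_sim hn3 hr2 f' hf'⟩
    rw [Matrix.SpecialLinearGroup.coe_pow, one_smul]
    exact SpSLc.xU_pow hn3 hr2
  · have hr' : Fact r.Prime := inferInstance
    have hrq : ¬ r ∣ q := by
      intro h
      have h1 : r ∣ q ^ (2 * i + 1) := dvd_pow h (by omega)
      have h2 : 1 ≤ q ^ (2 * i + 1) := Nat.one_le_pow _ _ (by omega)
      have h3 : r ∣ 1 := by
        have := Nat.dvd_sub h1 hidiv
        rwa [Nat.sub_sub_self h2] at this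
      exact hr'.out.one_lt.ne' (Nat.dvd_one.mp h3)
    set a : ZMod r := (q : ZMod r) with ha
    have cast_sub : ∀ m, ((q ^ m - 1 : ℕ) : ZMod r) = a ^ m - 1 := by
      intro m
      rw [Nat.cast_sub (Nat.one_le_pow _ _ (by omega)), Nat.cast_pow, Nat.cast_one]
    have hdvd_iff : ∀ m, r ∣ q ^ m - 1 ↔ a ^ m = 1 := by
      intro m
      rw [← ZMod.natCast_eq_zero_iff, cast_sub, sub_eq_zero]
    have hai : a ^ (2 * i + 1) = 1 := (hdvd_iff _).mp hidiv
    obtain ⟨o, hoeq⟩ : ∃ o, o = orderOf a := ⟨_, rfl⟩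
    have hodvd : o ∣ 2 * i + 1 := hoeq ▸ orderOf_dvd_of_pow_eq_one hai
    have hoodd : Odd o := Odd.of_dvd_nat ⟨i, rfl⟩ hodvd
    have hole : o ≤ 2 * i + 1 := Nat.le_of_dvd (by omega) hodvd
    have hao : a ^ o = 1 := hoeq ▸ pow_orderOf_eq_one a
    by_cases ho1 : o = 1
    · rw [ho1] at hao
      have hdiv : r ∣ q - 1 := by
        have := (hdvd_iff 1).mpr hao
        rwa [pow_one] at this
      exact case_diag hq n hn he r hr2 hgap hdiv
    · have hrq1 : ¬ r ∣ q - 1 := by
        intro h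
        have h1 : a ^ 1 = 1 := (hdvd_iff 1).mp (by rwa [pow_one])
        have h2 : orderOf a ∣ 1 := orderOf_dvd_of_pow_eq_one h1
        rw [← hoeq] at h2
        exact ho1 (Nat.dvd_one.mp h2)
      have hnum : ∀ m, 0 < m → m < o → ¬ r ∣ q ^ m - 1 := by
        intro m hm0 hm hdvd
        have h1 := (hdvd_iff m).mp hdvd
        exact pow_ne_one_of_lt_orderOf (by omega) (hoeq ▸ hm) h1
      obtain ⟨k, rfl⟩ : ∃ k, n = o + k := ⟨n - o, by omega⟩
      exact case_block hq o k hoodd (by omega) r hrq hrq1 ((hdvd_iff o).mpr hao) hnum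

end Cfsg.Agent.S5968
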