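import Cfsg.Statements.S5969
import Cfsg.Agent.S5967
import Cfsg.Agent.Lib.helper14.FldA
import Cfsg.Agent.Lib.helper14.FldB
import Cfsg.Agent.Lib.helper14.FldC
import Cfsg.Agent.Lib.helper14.FldD

set_option autoImplicit false
open scoped MatrixGroups
open Cfsg

namespace Cfsg.Agent.S5969

open Matrix Cfsg.Agent.Lib.helper14

/-- Involutions of PSL_n(q) and extension-field subgroups of degree 2. Here `T = PSL_n(F)` for a field `F` with `q = p^f` elements (`n ≥ 2`, `(n, q) ≠ (2, 2), (2, 3)`), `k` is a prime dividing `n`, `K` is a subalgebra of the `n × n` matrices that is a field of degree `k` over `F` (an extension-field structure F_{q^k} on `F^n`), and `H` is the subgroup of matrices of determinant 1 normalizing `K` — a subgroup of type GL_{n/k}(q^k) (maximal except in some small cases; maximality is not assumed); Ω is the set of cosets of `H` in `T`, so an element of `T` of prime order `r` (a matrix `x` of determinant 1 with `x^r` scalar, `x` not scalar) fixes a point of Ω when some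 conjugate of `x` by a matrix of determinant 1 normalizes `K`. Take `k = 2` and suppose the index of `H` is even. Then every involution of `T` is conjugate in `T` into `H` if and only if `n = 2`, or `q` is odd and `(q − 1)_2 ≤ (n)_2`. -/
theorem result {F : Type*} [Field F] [Fintype F] {p : ℕ} [Fact p.Prime] [CharP F p] {q : ℕ} (hq : Fintype.card F = q)
    (n : ℕ) (hn : 2 ≤ n) (hT : (n, q) ≠ (2, 2) ∧ (n, q) ≠ (2, 3))
    (k : ℕ) (hk : k.Prime) (hkn : k ∣ n) (K : Subalgebra F (Matrix (Fin n) (Fin n) F)) (hK : Cfsg.Geo.IsFieldSubalgebra k K) (hk2 : k = 2) (hΩ : 2 ∣ ((Cfsg.Geo.subalgebraNormalizer K).comap (Matrix.SpecialLinearGroup.toGL : Matrix.SpecialLinearGroup (Fin n) F →* GL (Fin n) F)).index) :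
    (∀ x : Matrix.SpecialLinearGroup (Fin n) F,
      (∃ z : F, ((x ^ 2 : Matrix.SpecialLinearGroup (Fin n) F) : Matrix (Fin n) (Fin n) F) = z • (1 : Matrix (Fin n) (Fin n) F)) →
      (∀ z : F, (x : Matrix (Fin n) (Fin n) F) ≠ z • (1 : Matrix (Fin n) (Fin n) F)) →
      ∃ P : Matrix.SpecialLinearGroup (Fin n) F, P⁻¹ * x * P ∈ ((Cfsg.Geo.subalgebraNormalizer K).comap (Matrix.SpecialLinearGroup.toGL : Matrix.SpecialLinearGroup (Fin n) F →* GL (Fin n) F))) ↔
    (n = 2 ∨ (Odd q ∧ padicValNat 2 (q - 1) ≤ padicValNat 2 n)) := by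
  classical
  subst hk2
  obtain ⟨k₂, hk₂⟩ := hkn
  have hk₂1 : 1 ≤ k₂ := by omega
  have hn1 : 1 ≤ n := by omega
  have hn0 : n ≠ 0 := by omega
  have he : Even n := ⟨k₂, by omega⟩
  have hq2 : 2 ≤ q := by
    rw [← hq]
    exact Fintype.one_lt_card
  -- common facts about an `x` with scalar square
  have hcommon : ∀ (x : Matrix.SpecialLinearGroup (Fin n) F) (z : F),
      ((x ^ 2 : Matrix.SpecialLinearGroup (Fin n) F) : Matrix (Fin n) (Fin n) F) =
        z • (1 : Matrix (Fin n) (Fin n) F) →
      ((x : Matrix (Fin n) (Fin n) F) * (x : Matrix (Fin n) (Fin n) F) =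
        z • (1 : Matrix (Fin n) (Fin n) F)) ∧ z ≠ 0 := by
    intro x z hz
    have hxx : (x : Matrix (Fin n) (Fin n) F) * (x : Matrix (Fin n) (Fin n) F) =
        z • (1 : Matrix (Fin n) (Fin n) F) := by
      rw [← hz, Matrix.SpecialLinearGroup.coe_pow, pow_two]
    refine ⟨hxx, ?_⟩
    have := congrArg Matrix.det hxx
    rw [Matrix.det_mul, x.det_coe, Matrix.det_smul, Matrix.det_one, Fintype.card_fin, mul_one,
      mul_one] at this
    rintro rfl
    rw [zero_pow hn0] at this
    exact one_ne_zero this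
  constructor
  · -- only if
    intro H
    by_contra hcon
    push Not at hcon
    obtain ⟨hn2, hcon2⟩ := hcon
    have hn4 : 4 ≤ n := by omega
    by_cases hF : ringChar F = 2
    · -- a transvection
      have h2 : (2 : F) = 0 := by
        have := ringChar.Nat.cast_ringChar (R := F)
        rw [hF] at this
        exact_mod_cast this
      have h01 : (⟨0, by omega⟩ : Fin n) ≠ ⟨1, by omega⟩ := by
        intro h
        have := congrArg Fin.val h
        simp at this
      obtain ⟨x, hx⟩ : ∃ x : Matrix.SpecialLinearGroup (Fin n) F,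
          (x : Matrix (Fin n) (Fin n) F) =
            Matrix.transvection (⟨0, by omega⟩ : Fin n) ⟨1, by omega⟩ (1 : F) :=
        ⟨⟨_, Matrix.det_transvection_of_ne _ _ h01 1⟩, rfl⟩
      have hx2 : ∃ z : F, ((x ^ 2 : Matrix.SpecialLinearGroup (Fin n) F) :
          Matrix (Fin n) (Fin n) F) = z • (1 : Matrix (Fin n) (Fin n) F) := by
        refine ⟨1, ?_⟩
        rw [Matrix.SpecialLinearGroup.coe_pow, pow_two, hx,
          Matrix.transvection_mul_transvection_same _ _ h01, one_smul]
        have : (1 : F) + 1 = 0 := by rw [one_add_one_eq_two, h2]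
        rw [this, Matrix.transvection_zero]
      have hxns : ∀ z : F, (x : Matrix (Fin n) (Fin n) F) ≠ z • (1 : Matrix (Fin n) (Fin n) F) := by
        intro z hz
        rw [hx] at hz
        have h1 := congrFun (congrFun hz ⟨0, by omega⟩) ⟨1, by omega⟩
        rw [Matrix.transvection, Matrix.add_apply, Matrix.one_apply_ne h01,
          Matrix.single_apply_same, Matrix.smul_apply, Matrix.one_apply_ne h01] at h1
        simp at h1
      obtain ⟨P, hP⟩ := H x hx2 hxns
      apply FldB.no_conj_rank_one (by omega) K hK x P 1 1 one_ne_zero one_ne_zero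
        ⟨0, by omega⟩ ⟨1, by omega⟩ _ hP
      intro w
      rw [hx, Matrix.transvection, Matrix.add_mulVec, Matrix.one_mulVec, Matrix.single_mulVec_eq,
        one_smul]
    · have h2 : (2 : F) ≠ 0 := Ring.two_ne_zero hF
      have hqodd : Odd q := by
        rw [Nat.odd_iff, ← hq]
        exact FiniteField.odd_card_of_char_ne_two hF
      have hlt := hcon2 hqodd
      obtain ⟨μ, hμ0, hμn⟩ := Cfsg.Agent.S5967.exists_pow_eq_neg_one h2 q n hq hlt hn0
      obtain ⟨x, hx⟩ : ∃ x : Matrix.SpecialLinearGroup (Fin n) F,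
          (x : Matrix (Fin n) (Fin n) F) = Matrix.diagonal (Cfsg.Agent.S5967.dvec n μ) :=
        ⟨⟨_, Cfsg.Agent.S5967.det_dvec n he hn0 μ hμn⟩, rfl⟩
      have hx2 : ∃ z : F, ((x ^ 2 : Matrix.SpecialLinearGroup (Fin n) F) :
          Matrix (Fin n) (Fin n) F) = z • (1 : Matrix (Fin n) (Fin n) F) := by
        refine ⟨μ * μ, ?_⟩
        rw [Matrix.SpecialLinearGroup.coe_pow, pow_two, hx, Cfsg.Agent.S5967.dvec_sq]
      have hxns : ∀ z : F, (x : Matrix (Fin n) (Fin n) F) ≠ z • (1 : Matrix (Fin n) (Fin n) F) := by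
        intro z hz
        rw [hx] at hz
        have h0 := congrFun (congrFun hz ⟨0, by omega⟩) ⟨0, by omega⟩
        have h1 := congrFun (congrFun hz ⟨1, by omega⟩) ⟨1, by omega⟩
        simp [Cfsg.Agent.S5967.dvec, Matrix.diagonal_apply, Matrix.smul_apply,
          Matrix.one_apply] at h0 h1
        have h3 : (2 : F) * μ = 0 := by linear_combination h0 - h1
        rcases mul_eq_zero.mp h3 with h' | h'
        · exact h2 h'
        · exact hμ0 h'
      obtain ⟨P, hP⟩ := H x hx2 hxns
      apply FldB.no_conj_rank_one (by omega) K hK x P (-μ) (2 * μ) (neg_ne_zero.mpr hμ0)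
        (mul_ne_zero h2 hμ0) ⟨0, by omega⟩ ⟨0, by omega⟩ _ hP
      intro w
      rw [hx]
      funext i
      rw [Matrix.mulVec_diagonal, Pi.add_apply, Pi.smul_apply, Pi.smul_apply, smul_eq_mul,
        smul_eq_mul]
      by_cases hi : i = ⟨0, by omega⟩
      · subst hi
        simp [Cfsg.Agent.S5967.dvec]
        ring
      · have hi' : i.val ≠ 0 := fun h => hi (Fin.ext h)
        rw [Pi.single_eq_of_ne hi]
        simp [Cfsg.Agent.S5967.dvec, hi']
  · -- if
    rintro (hn2 | ⟨hqodd, hv⟩)
    · subst hn2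
      intro x hx2 hxns
      obtain ⟨z, hz⟩ := hx2
      obtain ⟨hxx, hz0⟩ := hcommon x z hz
      show ∃ P : Matrix.SpecialLinearGroup (Fin 2) F, P⁻¹ * x * P ∈ FldA.NK K
      by_cases hF : ringChar F = 2
      · exact FldD.conj_two (fun c => by
          obtain ⟨a, ha⟩ := FiniteField.isSquare_of_char_two hF c
          exact ⟨a, ha.symm⟩) K hK x z hz0 hxx hxns
      · have h2 : (2 : F) ≠ 0 := Ring.two_ne_zero hF
        have hodd : Fintype.card F % 2 = 1 := FiniteField.odd_card_of_char_ne_two hF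
        obtain ⟨κ₀, z₀, _, hspan, hκ₀, hns⟩ := FldC.odd_gen (by norm_num) K hK h2
        obtain ⟨κ', hκ', hxκ'⟩ := FldC.exists_anticommuting_two hodd
          (x : Matrix (Fin 2) (Fin 2) F) z z₀ hz0 hxx hxns
        exact FldC.conj_anticommute hodd K κ₀ z₀ 1 (by norm_num) le_rfl hspan hκ₀ hns x κ' hκ' hxκ'
    · intro x hx2 _
      obtain ⟨z, hz⟩ := hx2
      obtain ⟨hxx, hz0⟩ := hcommon x z hz
      show ∃ P : Matrix.SpecialLinearGroup (Fin n) F, P⁻¹ * x * P ∈ FldA.NK K
      have hF : ringChar F ≠ 2 := by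
        intro hF
        have h0 := FiniteField.even_card_of_char_two hF
        rw [hq] at h0
        rw [Nat.odd_iff] at hqodd
        omega
      have h2 : (2 : F) ≠ 0 := Ring.two_ne_zero hF
      have hodd : Fintype.card F % 2 = 1 := FiniteField.odd_card_of_char_ne_two hF
      obtain ⟨κ₀, z₀, _, hspan, hκ₀, hns⟩ := FldC.odd_gen hn1 K hK h2
      by_cases hsq : ∃ μ : F, μ * μ = z
      · obtain ⟨μ, rfl⟩ := hsq
        have hμ : μ ≠ 0 := fun h => hz0 (by rw [h, mul_zero])
        obtain ⟨a, b, B, hB1, hB2⟩ :=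
          InvD.eigen_basis (x : Matrix (Fin n) (Fin n) F) μ hμ h2 hxx
        obtain ⟨hdet, hab⟩ := InvD.det_of_eigen (x : Matrix (Fin n) (Fin n) F) μ a b B hB1 hB2
        rw [x.det_coe] at hdet
        have hb : Even b := by
          by_contra hb
          rw [Nat.not_even_iff_odd] at hb
          apply Cfsg.Agent.S5967.pow_ne_neg_one h2 q n hq hv hn0 μ hμ
          rw [hb.neg_pow] at hdet
          rw [← hab, pow_add]
          linear_combination hdet
        obtain ⟨b', hb'⟩ : ∃ b', b = 2 * b' := by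
          obtain ⟨b', hb'⟩ := hb
          exact ⟨b', by omega⟩
        obtain ⟨a', ha'⟩ : ∃ a', a = 2 * a' := ⟨k₂ - b', by omega⟩
        subst ha' hb'
        obtain ⟨g, g', h1, h2', h3⟩ :=
          InvD.planes_of_eigen (x : Matrix (Fin n) (Fin n) F) μ a' b' B hB1 hB2
        obtain ⟨κ', hκ', hxκ'⟩ := FldC.exists_commuting_eigen (x : Matrix (Fin n) (Fin n) F)
          μ a' b' g g' h1 h2' h3 z₀
        exact FldC.conj_commute hodd K κ₀ z₀ k₂ hk₂ hk₂1 hspan hκ₀ hns x κ' hκ' hxκ'
      · push Not at hsq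
        obtain ⟨c, hc0, hc⟩ := FldC.exists_sqrt_ratio hF z z₀ hsq hns
        refine FldC.conj_commute hodd K κ₀ z₀ k₂ hk₂ hk₂1 hspan hκ₀ hns x
          (c⁻¹ • (x : Matrix (Fin n) (Fin n) F)) ?_ ?_
        · rw [Matrix.smul_mul, Matrix.mul_smul, hxx, smul_smul, smul_smul, hc]
          congr 1
          field_simp
        · rw [Matrix.smul_mul, Matrix.mul_smul]

end Cfsg.Agent.S5969
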