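import Cfsg.Statements.S5970

import Cfsg.Agent.Lib.helper15.SN5
set_option autoImplicit false
open scoped MatrixGroups
open Cfsg

namespace Cfsg.Agent.S5970

/-- Elements of order `n` of PSL_n(q), `n` prime, and the normalizer of a Singer cycle. Here `T = PSL_n(F)` for a field `F` with `q = p^f` elements (`n ≥ 2`, `(n, q) ≠ (2, 2), (2, 3)`), `k` is a prime dividing `n`, `K` is a subalgebra of the `n × n` matrices that is a field of degree `k` over `F` (an extension-field structure F_{q^k} on `F^n`), and `H` is the subgroup of matrices of determinant 1 normalizing `K` — a subgroup of type GL_{n/k}(q^k) (maximal except in some small cases; maximality is not assumed); Ω is the set of cosets of `H` in `T`, so an element of `T` of prime order `r` (a matrix `x` of determinant 1 with `x^r` scalar, `x` not scalar) fixes a point of Ω when some conjugate of `x` by a matrix of determinant 1 normalizes `K`. Take `k = n > 3` prime with `n ≠ p` (so `H` is the normalizer of a Singer cycle), and suppose `n` divides the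 index of `H`. Then every element of `T` of order `n` is conjugate in `T` into `H` if and only if the multiplicative order of `q` modulo `n` is `n − 1`. -/
theorem result {F : Type*} [Field F] [Fintype F] {p : ℕ} [Fact p.Prime] [CharP F p] {q : ℕ} (hq : Fintype.card F = q)
    (n : ℕ) (hn : 2 ≤ n) (hT : (n, q) ≠ (2, 2) ∧ (n, q) ≠ (2, 3))
    (k : ℕ) (hk : k.Prime) (hkn : k ∣ n) (K : Subalgebra F (Matrix (Fin n) (Fin n) F)) (hK : Cfsg.Geo.IsFieldSubalgebra k K) (hkn' : k = n) (hn3 : 3 < n) (hnp : n ≠ p) (hΩ : n ∣ ((Cfsg.Geo.subalgebraNormalizer K).comap (Matrix.SpecialLinearGroup.toGL : Matrix.SpecialLinearGroup (Fin n) F →* GL (Fin n) F)).index) :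
    (∀ x : Matrix.SpecialLinearGroup (Fin n) F,
      (∃ z : F, ((x ^ n : Matrix.SpecialLinearGroup (Fin n) F) : Matrix (Fin n) (Fin n) F) = z • (1 : Matrix (Fin n) (Fin n) F)) →
      (∀ z : F, (x : Matrix (Fin n) (Fin n) F) ≠ z • (1 : Matrix (Fin n) (Fin n) F)) →
      ∃ P : Matrix.SpecialLinearGroup (Fin n) F, P⁻¹ * x * P ∈ ((Cfsg.Geo.subalgebraNormalizer K).comap (Matrix.SpecialLinearGroup.toGL : Matrix.SpecialLinearGroup (Fin n) F →* GL (Fin n) F))) ↔
    orderOf (q : ZMod n) = n - 1 := by
  subst hkn'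
  subst hq
  have hkF : ((k : ℕ) : F) ≠ 0 := by
    intro h0
    have h1 := (CharP.cast_eq_zero_iff F p k).mp h0
    rcases (Nat.dvd_prime hk).mp h1 with h2 | h2
    · exact (Fact.out : p.Prime).one_lt.ne' h2
    · exact hnp h2.symm
  have : Fact k.Prime := ⟨hk⟩
  constructor
  · intro hall
    by_contra hne
    obtain ⟨f, hp, hcard⟩ := FiniteField.card F p
    have hqk : ((Fintype.card F : ℕ) : ZMod k) ≠ 0 := by
      intro h0
      have h1 := (ZMod.natCast_eq_zero_iff _ _).mp h0
      rw [hcard] at h1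
      have h2 := hk.dvd_of_dvd_pow h1
      rcases (Nat.dvd_prime hp).mp h2 with h3 | h3
      · exact hk.one_lt.ne' h3
      · exact hnp h3
    have hpow : ((Fintype.card F : ℕ) : ZMod k) ^ (k - 1) = 1 := ZMod.pow_card_sub_one_eq_one hqk
    set c := orderOf ((Fintype.card F : ℕ) : ZMod k) with hc
    have hcdvd : c ∣ k - 1 := orderOf_dvd_of_pow_eq_one hpow
    have hc1 : 1 ≤ c := by
      rcases Nat.eq_zero_or_pos c with h0 | h0
      · rw [h0, zero_dvd_iff] at hcdvd; omega
      · exact h0
    have hc3 : c + 3 ≤ k := by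
      obtain ⟨t, ht⟩ := hcdvd
      have ht2 : 2 ≤ t := by
        rcases t with _ | _ | t
        · omega
        · exfalso; apply hne; rw [ht]; simp
        · omega
      have : c * t ≥ c * 2 := Nat.mul_le_mul_left _ ht2
      omega
    have hdvd : k ∣ Fintype.card F ^ c - 1 := by
      have h1 : ((Fintype.card F : ℕ) : ZMod k) ^ c = 1 := pow_orderOf_eq_one _
      rw [← ZMod.natCast_eq_zero_iff, Nat.cast_sub (Nat.one_le_pow _ _ Fintype.card_pos), Nat.cast_pow,
        h1, Nat.cast_one, sub_self]
    obtain ⟨x, hxk, hx1, v, v', hv, hfv, hfv', hind⟩ :=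
      Cfsg.Agent.Lib.helper15.SN.exists_bad (F := F) (n := k) k c hc1 hc3 hdvd
    have hns : ∀ z : F, (x : Matrix (Fin k) (Fin k) F) ≠ z • (1 : Matrix (Fin k) (Fin k) F) := by
      intro z hz
      have h1 := hfv
      rw [hz, Matrix.smul_mulVec, Matrix.one_mulVec] at h1
      have h2 : (z - 1) • v = 0 := by rw [sub_smul, h1, one_smul, sub_self]
      have h3 : z = 1 := sub_eq_zero.mp ((smul_eq_zero.mp h2).resolve_right hv)
      apply hx1
      apply Subtype.ext
      rw [hz, h3, one_smul]; rfl
    obtain ⟨P, hP⟩ := hall x ⟨1, by rw [hxk, one_smul]; rfl⟩ hns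
    exact Cfsg.Agent.Lib.helper15.SN.not_conj_of_fixed hK hk x 1 v v' hv (by rw [hfv, one_smul])
      (by rw [hfv', one_smul]) hind (hns 1) P hP
  · intro hord x ⟨z, hz⟩ hns
    rw [Matrix.SpecialLinearGroup.coe_pow] at hz
    exact Cfsg.Agent.Lib.helper15.SN.all_conj hK hk (by omega) hkF hord x z hz hns

end Cfsg.Agent.S5970
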