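import Cfsg.Statements.S5971

import Cfsg.Agent.Lib.helper15.SN9
set_option autoImplicit false
open scoped MatrixGroups
open Cfsg

namespace Cfsg.Agent.S5971

/-- Elements of order 3 of PSL_3(q) and the normalizer of a Singer cycle. Here `T = PSL_n(F)` for a field `F` with `q = p^f` elements (`n ≥ 2`, `(n, q) ≠ (2, 2), (2, 3)`), `k` is a prime dividing `n`, `K` is a subalgebra of the `n × n` matrices that is a field of degree `k` over `F` (an extension-field structure F_{q^k} on `F^n`), and `H` is the subgroup of matrices of determinant 1 normalizing `K` — a subgroup of type GL_{n/k}(q^k) (maximal except in some small cases; maximality is not assumed); Ω is the set of cosets of `H` in `T`, so an element of `T` of prime order `r` (a matrix `x` of determinant 1 with `x^r` scalar, `x` not scalar) fixes a point of Ω when some conjugate of `x` by a matrix of determinant 1 normalizes `K`. Take `n = k = 3` and suppose 3 divides the index of `H`. Then every element of `T` of order 3 is conjugate in `T` into `H` if and only if `q ≡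 4, 7` or `8 (mod 9)`. -/
theorem result {F : Type*} [Field F] [Fintype F] {p : ℕ} [Fact p.Prime] [CharP F p] {q : ℕ} (hq : Fintype.card F = q)
    (n : ℕ) (hn : n = 3) (k : ℕ) (hk : k.Prime) (hkn : k ∣ n) (K : Subalgebra F (Matrix (Fin n) (Fin n) F)) (hK : Cfsg.Geo.IsFieldSubalgebra k K) (hk3 : k = 3) (hΩ : 3 ∣ ((Cfsg.Geo.subalgebraNormalizer K).comap (Matrix.SpecialLinearGroup.toGL : Matrix.SpecialLinearGroup (Fin n) F →* GL (Fin n) F)).index) :
    (∀ x : Matrix.SpecialLinearGroup (Fin n) F,
      (∃ z : F, ((x ^ 3 : Matrix.SpecialLinearGroup (Fin n) F) : Matrix (Fin n) (Fin n) F) = z • (1 : Matrix (Fin n) (Fin n) F)) →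
      (∀ z : F, (x : Matrix (Fin n) (Fin n) F) ≠ z • (1 : Matrix (Fin n) (Fin n) F)) →
      ∃ P : Matrix.SpecialLinearGroup (Fin n) F, P⁻¹ * x * P ∈ ((Cfsg.Geo.subalgebraNormalizer K).comap (Matrix.SpecialLinearGroup.toGL : Matrix.SpecialLinearGroup (Fin n) F →* GL (Fin n) F))) ↔
    (q % 9 = 4 ∨ q % 9 = 7 ∨ q % 9 = 8) := by
  classical
  subst hn
  subst hk3
  subst hq
  have hp : p.Prime := Fact.out
  obtain ⟨f, -, hcard⟩ := FiniteField.card F p
  have hq1 : 1 ≤ Fintype.card F := Fintype.card_pos
  have hnsfix : ∀ (x : Matrix.SpecialLinearGroup (Fin 3) F) (lam : F) (v : Fin 3 → F), v ≠ 0 →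
      Matrix.mulVec (x : Matrix (Fin 3) (Fin 3) F) v = lam • v →
      (x : Matrix (Fin 3) (Fin 3) F) ≠ lam • (1 : Matrix (Fin 3) (Fin 3) F) →
      ∀ z : F, (x : Matrix (Fin 3) (Fin 3) F) ≠ z • (1 : Matrix (Fin 3) (Fin 3) F) := by
    intro x lam v hv hfv hxl z hz
    have h1 := hfv
    rw [hz, Matrix.smul_mulVec, Matrix.one_mulVec] at h1
    have h2 : (z - lam) • v = 0 := by rw [sub_smul, h1, sub_self]
    have h3 : z = lam := sub_eq_zero.mp ((smul_eq_zero.mp h2).resolve_right hv)
    exact hxl (by rw [hz, h3])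
  by_cases h3 : (3 : F) = 0
  · have hp3 : p = 3 := by
      have h1 : ((3 : ℕ) : F) = 0 := by exact_mod_cast h3
      have h2 := (CharP.cast_eq_zero_iff F p 3).mp h1
      exact (Nat.prime_dvd_prime_iff_eq hp Nat.prime_three).mp h2
    have hdvd : 3 ∣ Fintype.card F := by
      rw [hcard, hp3]; exact dvd_pow_self 3 f.ne_zero
    constructor
    · intro hall
      exfalso
      obtain ⟨x, hx3, hx1, v, v', hv, hfv, hfv', hind⟩ :=
        Cfsg.Agent.Lib.helper15.SN.bad_transvection (F := F) h3
      have hx1' : (x : Matrix (Fin 3) (Fin 3) F) ≠ (1 : F) • (1 : Matrix (Fin 3) (Fin 3) F) := by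
        intro h
        apply hx1
        apply Subtype.ext
        rw [h, one_smul]; rfl
      have hns := hnsfix x 1 v hv (by rw [hfv, one_smul]) hx1'
      obtain ⟨P, hP⟩ := hall x ⟨1, by rw [hx3, one_smul]; rfl⟩ hns
      exact Cfsg.Agent.Lib.helper15.SN.not_conj_of_fixed hK Nat.prime_three x 1 v v' hv
        (by rw [hfv, one_smul]) (by rw [hfv', one_smul]) hind hx1' P hP
    · intro h9
      exfalso
      omega
  · have hndvd : ¬ 3 ∣ Fintype.card F := by
      intro hdvd
      rw [hcard] at hdvd
      have h1 := Nat.prime_three.dvd_of_dvd_pow hdvd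
      have h2 := (Nat.prime_dvd_prime_iff_eq Nat.prime_three hp).mp h1
      apply h3
      have := CharP.cast_eq_zero F p
      rw [← h2] at this
      exact_mod_cast this
    by_cases hmod : Fintype.card F % 3 = 1
    · have h3dvd : 3 ∣ Fintype.card Fˣ := by
        rw [Fintype.card_units]; omega
      have : Fact (Nat.Prime 3) := ⟨Nat.prime_three⟩
      obtain ⟨u, hu⟩ := exists_prime_orderOf_dvd_card 3 h3dvd
      have hu3 : (u : F) ^ 3 = 1 := by
        have h1 : u ^ 3 = 1 := by rw [← hu]; exact pow_orderOf_eq_one u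
        have := congrArg Units.val h1
        simpa using this
      have hu1 : (u : F) ≠ 1 := by
        intro h
        have h1 : u = 1 := Units.ext h
        rw [h1, orderOf_one] at hu
        omega
      have hw : (u : F) ^ 2 + (u : F) + 1 = 0 := by
        have h1 : ((u : F) - 1) * ((u : F) ^ 2 + (u : F) + 1) = 0 := by
          have : ((u : F) - 1) * ((u : F) ^ 2 + (u : F) + 1) = (u : F) ^ 3 - 1 := by ring
          rw [this, hu3, sub_self]
        exact (mul_eq_zero.mp h1).resolve_left (sub_ne_zero.mpr hu1)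
      by_cases h9 : 9 ∣ Fintype.card F - 1
      · constructor
        · intro hall
          exfalso
          obtain ⟨lam, hl9, hl3⟩ := Cfsg.Agent.Lib.helper15.SN.exists_orderOf_nine (F := F) h9
          obtain ⟨x, hx3, hxl, v, v', hv, hfv, hfv', hind⟩ :=
            Cfsg.Agent.Lib.helper15.SN.bad_diag lam hl9 hl3
          have hns := hnsfix x lam v hv hfv hxl
          obtain ⟨P, hP⟩ := hall x ⟨lam ^ 3, by
            rw [Matrix.SpecialLinearGroup.coe_pow]; exact hx3⟩ hns
          exact Cfsg.Agent.Lib.helper15.SN.not_conj_of_fixed hK Nat.prime_three x lam v v' hv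
            hfv hfv' hind hxl P hP
        · intro h
          exfalso
          omega
      · constructor
        · intro _
          omega
        · intro _ x ⟨z, hz⟩ hns
          rw [Matrix.SpecialLinearGroup.coe_pow] at hz
          exact Cfsg.Agent.Lib.helper15.SN.all_conj_three hK (u : F) hw h3 h9 x z hz hns
    · have hmod2 : Fintype.card F % 3 = 2 := by omega
      have hall : ∀ x : Matrix.SpecialLinearGroup (Fin 3) F,
          (∃ z : F, ((x ^ 3 : Matrix.SpecialLinearGroup (Fin 3) F) : Matrix (Fin 3) (Fin 3) F) =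
            z • (1 : Matrix (Fin 3) (Fin 3) F)) →
          (∀ z : F, (x : Matrix (Fin 3) (Fin 3) F) ≠ z • (1 : Matrix (Fin 3) (Fin 3) F)) →
          ∃ P : Matrix.SpecialLinearGroup (Fin 3) F, P⁻¹ * x * P ∈
            ((Cfsg.Geo.subalgebraNormalizer K).comap
              (Matrix.SpecialLinearGroup.toGL :
                Matrix.SpecialLinearGroup (Fin 3) F →* GL (Fin 3) F)) := by
        intro x ⟨z, hz⟩ hns
        rw [Matrix.SpecialLinearGroup.coe_pow] at hz
        have hord : orderOf ((Fintype.card F : ℕ) : ZMod 3) = 3 - 1 := by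
          have h2 : ((Fintype.card F : ℕ) : ZMod 3) = 2 := by
            rw [← ZMod.natCast_mod, hmod2]; rfl
          rw [h2]
          show orderOf (2 : ZMod 3) = 2
          exact orderOf_eq_prime (by decide) (by decide)
        have h3' : ((3 : ℕ) : F) ≠ 0 := by exact_mod_cast h3
        exact Cfsg.Agent.Lib.helper15.SN.all_conj hK Nat.prime_three (le_refl 3) h3' hord x z hz hns
      constructor
      · intro _
        by_contra hne
        have hq : Fintype.card F % 9 = 2 ∨ Fintype.card F % 9 = 5 := by omega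
        exact Cfsg.Agent.Lib.helper15.SN.index_contra hK hq hΩ
      · intro _
        exact hall

end Cfsg.Agent.S5971
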