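import Cfsg.Statements.S5972
import Cfsg.Agent.Lib.helper15.S5972STDO
import Cfsg.Agent.Lib.helper15.S5972STDCTX
import Cfsg.Agent.Lib.helper15.S5972INVLT
import Cfsg.Agent.Lib.Helper13.S5972NECABS
import Cfsg.Agent.Lib.Helper13.S5972SUFFABS
import Cfsg.Agent.Lib.Helper25.S5972OMEGAODD
import Cfsg.Agent.Lib.Helper24.S5972TWONEC
import Cfsg.Agent.Lib.Helper13.S5972COUNT
import Cfsg.Agent.Lib.helper2.S5972COUNTDVDcore
import Cfsg.Agent.Lib.helper14.S5972INVTOP

set_option autoImplicit false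
open scoped MatrixGroups
open Cfsg

namespace Cfsg.Agent.S5972

open Cfsg.Agent.Lib.helper15.S5972 Cfsg.Agent.Lib.Helper13.S5955 Module

theorem result {F : Type*} [Field F] [Fintype F] {p : ℕ} [Fact p.Prime] [CharP F p] {q : ℕ} (hq : Fintype.card F = q) (hqodd : Odd q)
    (d m : ℕ) (hd : 3 ≤ d) (hm : 1 ≤ m) (hmd : m ≤ d)
    (r : ℕ) [Fact r.Prime]
    (hrΩ : r ∣ Nat.card {W : Submodule F (Unit ⊕ (Fin d ⊕ Fin d) → F) // Module.finrank F ↥W = m ∧ (∀ w ∈ W, Cfsg.quadFormOdd d F w = 0)})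
    (i c : ℕ) (hi : i = orderOf (q : ZMod r)) (hc : c = if Even i then i else 2 * i) :
    (∀ x : GL (Unit ⊕ (Fin d ⊕ Fin d)) F, x ∈ Cfsg.Geo.omegaGL (Cfsg.quadFormOdd d F) → orderOf x = r →
      ∃ W : Submodule F (Unit ⊕ (Fin d ⊕ Fin d) → F), Module.finrank F ↥W = m ∧ (∀ w ∈ W, Cfsg.quadFormOdd d F w = 0) ∧
        W.map (Matrix.toLin' (x : Matrix (Unit ⊕ (Fin d ⊕ Fin d)) (Unit ⊕ (Fin d ⊕ Fin d)) F)) ≤ W) ↔
    ((r = 2 ∧ (m < d ∨ q % 4 = 1)) ∨
     (r ≠ p ∧ 2 < r ∧ i ≤ m ∧ 2 * (m % i) < (2 * d + 1) % c ∧ (Odd i ∨ (r - 1) / i + 2 * (m / i) ≤ (2 * d + 1) / i))) := by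
  subst hq
  have hrpr : r.Prime := Fact.out
  -- `p` is odd
  have hp2 : p ≠ 2 := by
    intro hp
    subst hp
    have h2F : (2 : F) = 0 := by
      have := CharP.cast_eq_zero F 2
      exact_mod_cast this
    have heven : Even (Fintype.card F) := by
      rw [Nat.even_iff]
      by_contra hne
      have h1 : Fintype.card F % 2 = 1 := by omega
      exact FiniteField.even_card_of_char_two (F := F) (by rw [ringChar.eq F 2]) |> fun h => by omega
    exact (Nat.not_even_iff_odd.mpr hqodd) heven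
  have h2F : (2 : F) ≠ 0 := by
    intro h
    have : (2 : ℕ) = p ∨ True := Or.inr trivial
    have h' : ((2 : ℕ) : F) = 0 := by exact_mod_cast h
    rw [CharP.cast_eq_zero_iff F p] at h'
    exact hp2 ((Nat.prime_dvd_prime_iff_eq Fact.out Nat.prime_two).mp h')
  obtain ⟨hsymm, hnd, hself, hsti⟩ := stdO_facts (F := F) h2F d
  obtain ⟨hrp, hj⟩ := s5972countdvd_core (F := F) (p := p) d m hmd (ts_count hqodd d m hmd) r hrΩ
  have hfr : finrank F (Unit ⊕ (Fin d ⊕ Fin d) → F) = 2 * d + 1 := by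
    rw [Module.finrank_fintype_fun_eq_card, Fintype.card_sum, Fintype.card_sum, Fintype.card_fin,
      Fintype.card_unit]
    ring
  -- from `TId` to the conclusion of the frozen statement
  have hback : ∀ (x : GL (Unit ⊕ (Fin d ⊕ Fin d)) F),
      TId (stdO d F) (Matrix.toLin' (x : Matrix (Unit ⊕ (Fin d ⊕ Fin d)) (Unit ⊕ (Fin d ⊕ Fin d)) F)) m →
      ∃ W : Submodule F (Unit ⊕ (Fin d ⊕ Fin d) → F), Module.finrank F ↥W = m ∧
        (∀ w ∈ W, Cfsg.quadFormOdd d F w = 0) ∧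
        W.map (Matrix.toLin' (x : Matrix (Unit ⊕ (Fin d ⊕ Fin d)) (Unit ⊕ (Fin d ⊕ Fin d)) F)) ≤ W := by
    rintro x ⟨W, hWinv, hWti, hWd⟩
    exact ⟨W, hWd, (hsti W).mp hWti, (Cfsg.Agent.Lib.Helper24.el_inv_iff _ W).mpr hWinv⟩
  constructor
  · intro hall
    by_cases hr2 : r = 2
    · left
      refine ⟨hr2, ?_⟩
      by_contra hcon
      push Not at hcon
      obtain ⟨hmd', hq1⟩ := hcon
      have hmd'' : m = d := by omega
      have hq3 : Fintype.card F % 4 = 3 := by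
        obtain ⟨k, hk⟩ := hqodd
        omega
      obtain ⟨x, hxΩ, hxo, hxno⟩ := o_two_nec (F := F) hq3 d (by omega)
      subst hr2
      obtain ⟨W, hWd, hWs, hWinv⟩ := hall x hxΩ hxo
      exact hxno ⟨W, by rw [hWd, hmd''], hWs, hWinv⟩
    · right
      have hr2' : 2 < r := lt_of_le_of_ne hrpr.two_le (Ne.symm hr2)
      have hodd : Odd r := hrpr.odd_of_ne_two hr2
      have hnec := o_nec_abs (F := F) (p := p) hp2 r hrp hr2 d m i c hi hc hm hmd hj (by
        intro y hy hy1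
        obtain ⟨x, hxiso, hxy, hxr⟩ := o_realize h2F d r y hy
        have hx1 : x ≠ 1 := by
          intro h1
          apply hy1
          rw [← hxy, h1]
          simp
          rfl
        have hxo : orderOf x = r := orderOf_eq_prime hxr hx1
        have hxΩ := omega_of_odd (F := F) hqodd d hd x hxiso (by rw [hxo]; exact hodd)
        obtain ⟨W, hWd, hWs, hWinv⟩ := hall x hxΩ hxo
        refine ⟨W, ?_, (hsti W).mpr hWs, hWd⟩
        rw [hxy] at hWinv
        exact (Cfsg.Agent.Lib.Helper24.el_inv_iff y W).mp hWinv)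
      exact ⟨hrp, hr2', hnec⟩
  · rintro (⟨hr2, hcond⟩ | ⟨hrp', hr2', him, h1, h2'⟩)
    · intro x hxΩ hxo
      subst hr2
      have hx2 : x ^ 2 = 1 := by rw [← hxo]; exact pow_orderOf_eq_one x
      by_cases hmd' : m < d
      · apply hback
        have hctx := std_octx h2F d 2 x (omegaGL_le d x hxΩ) hx2
        exact o_invol_lt (F := F) (p := p) hp2 hctx d m hfr hmd'
      · have hmd'' : m = d := by omega
        have hq1 : Fintype.card F % 4 = 1 := by
          rcases hcond with h | h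
          · exact absurd h hmd'
          · exact h
        obtain ⟨W, hWd, hWs, hWinv⟩ := o_invol_top (F := F) hq1 d (by omega) x hxΩ hx2
        exact ⟨W, by rw [hWd, hmd''], hWs, hWinv⟩
    · intro x hxΩ hxo
      apply hback
      have hxr : x ^ r = 1 := by rw [← hxo]; exact pow_orderOf_eq_one x
      have hctx := std_octx h2F d r x (omegaGL_le d x hxΩ) hxr
      have hr2 : r ≠ 2 := by omega
      exact o_suff_abs (F := F) (p := p) h2F hrp' hr2 hctx d m hfr hmd i c hi hc h1 h2'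

end Cfsg.Agent.S5972
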