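import Cfsg.Statements.S5973
import Cfsg.Agent.Lib.Helper13.OTS.Defs
import Cfsg.Agent.Lib.Helper13.OTSTSC
import Cfsg.Agent.Lib.helper4.OTSSTDP
import Cfsg.Agent.Lib.helper7.OTSODDSUFF
import Cfsg.Agent.Lib.helper7.OTSODDNEC
import Cfsg.Agent.Lib.helper7.OTSCOUNTDVD
import Cfsg.Agent.Lib.helper2.OTSTWOSUFFP
import Cfsg.Agent.Lib.Helper13.OTSTWONEC

set_option autoImplicit false
open scoped MatrixGroups
open Cfsg

namespace Cfsg.Agent.S5973

open Cfsg.Agent.Lib.Helper13.OTS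


/-- Elements of prime order of PΩ⁺_n(q), n = 2d ≥ 8, with no fixed totally singular `m`-space, `m < n/2`. Here `T = PΩ⁺_n(q)` is realised through `Ω⁺_n(q)`, the commutator subgroup of the isometry group of the quadratic form `Σ xᵢyᵢ` over the field `F` with `q` elements; an element of `T` of prime order `r` is an element `x` of `Ω⁺_n(q)` with `x^r` scalar and `x` not scalar. Let `1 ≤ m < d` and let `r` be a prime dividing the number of totally singular `m`-spaces. For `r ≠ p` let `i` be the multiplicative order of `q` modulo `r`, `c = i` for `i` even and `c = 2i` for `i` odd, and write `k = n mod c`, `ℓ = m mod i`, `n' = ⌊n/i⌋`, `m' = ⌊m/i⌋`, `t = (r−1)/i`. Then every element of `T` of order `r` fixes some totally singular `m`-space if and only if one of: (i) `r = 2 ≠ p` and either `q ≡ 1 (mod 4)`, or `q ≡ 3 (mod 4)`, `m ≤ n/2 − 2` and (`m` even or `n ≡ 2 (mod 4)`); (ii) `r ≠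 p` odd, `i` odd, `i ≤ m` and `k ≥ 2ℓ`; (iii) `r ≠ p` odd, `i` even, `i ≤ m`, `n' − 2m' ≥ t`, and one of: `i ≥ 2ℓ`, `k = 0`, `n/i` odd and `n' − 2m' > t`; or `k ≥ 2ℓ` and `n'` even; or `k > 2ℓ` and `n'` odd. -/
theorem result {F : Type*} [Field F] [Fintype F] {p : ℕ} [Fact p.Prime] [CharP F p] {q : ℕ} (hq : Fintype.card F = q)
    (d m : ℕ) (hd : 4 ≤ d) (hm : 1 ≤ m) (hmd : m < d)
    (r : ℕ) [Fact r.Prime]
    (hrΩ : r ∣ Nat.card {W : Submodule F (Fin d ⊕ Fin d → F) // Module.finrank F ↥W = m ∧ (∀ w ∈ W, Cfsg.quadFormPlus d F w = 0)})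
    (i c : ℕ) (hi : i = orderOf (q : ZMod r)) (hc : c = if Even i then i else 2 * i) :
    (∀ x : GL (Fin d ⊕ Fin d) F, x ∈ Cfsg.Geo.omegaGL (Cfsg.quadFormPlus d F) →
      (∃ z : F, ((x ^ r : GL (Fin d ⊕ Fin d) F) : Matrix (Fin d ⊕ Fin d) (Fin d ⊕ Fin d) F) = z • (1 : Matrix (Fin d ⊕ Fin d) (Fin d ⊕ Fin d) F)) →
      (∀ z : F, (x : Matrix (Fin d ⊕ Fin d) (Fin d ⊕ Fin d) F) ≠ z • (1 : Matrix (Fin d ⊕ Fin d) (Fin d ⊕ Fin d) F)) →
      ∃ W : Submodule F (Fin d ⊕ Fin d → F), Module.finrank F ↥W = m ∧ (∀ w ∈ W, Cfsg.quadFormPlus d F w = 0) ∧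
        W.map (Matrix.toLin' (x : Matrix (Fin d ⊕ Fin d) (Fin d ⊕ Fin d) F)) ≤ W) ↔
    ((r = 2 ∧ p ≠ 2 ∧ (q % 4 = 1 ∨ (q % 4 = 3 ∧ m + 2 ≤ d ∧ (Even m ∨ (2 * d) % 4 = 2)))) ∨
     (r ≠ p ∧ 2 < r ∧ Odd i ∧ i ≤ m ∧ 2 * (m % i) ≤ (2 * d) % c) ∨
     (r ≠ p ∧ 2 < r ∧ Even i ∧ i ≤ m ∧ (r - 1) / i + 2 * (m / i) ≤ (2 * d) / i ∧
       ((2 * (m % i) ≤ i ∧ (2 * d) % c = 0 ∧ Odd ((2 * d) / i) ∧ (r - 1) / i + 2 * (m / i) < (2 * d) / i) ∨
        (2 * (m % i) ≤ (2 * d) % c ∧ Even ((2 * d) / i)) ∨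
        (2 * (m % i) < (2 * d) % c ∧ Odd ((2 * d) / i))))) := by
  subst hq
  have hs : QStd (Cfsg.Agent.Lib.Helper16.qfPlus d F) d 1 := q_std_plus (F := F) d
  have hd1 : 1 ≤ d := by omega
  have hm' : m + 1 ≤ d := by omega
  have hrΩ' : r ∣ Nat.card (TSq (Cfsg.Agent.Lib.Helper16.qfPlus d F) m) := hrΩ
  obtain ⟨hrp, -⟩ := q_count_dvd (Cfsg.Agent.Lib.Helper16.qfPlus d F) d 1 hs m hm' r hrΩ'
  have hrpr : r.Prime := Fact.out
  by_cases hr2 : r = 2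
  · subst hr2
    have hp2 : p ≠ 2 := fun h => hrp h.symm
    constructor
    · intro hall
      exact Or.inl ⟨rfl, hp2, q_two_nec_plus_std hp2 d hd m hm hm' hall⟩
    · rintro (⟨-, -, hC⟩ | ⟨-, h2, -⟩ | ⟨-, h2, -⟩)
      · intro x hx hxr hns
        exact q_two_suff_plus hp2 (Cfsg.Agent.Lib.Helper16.qfPlus d F) d hs hd1 m hm' hC x hx hxr hns
      · omega
      · omega
  · have h2r : 2 < r := lt_of_le_of_ne hrpr.two_le (Ne.symm hr2)
    constructor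
    · intro hall
      obtain ⟨-, hT⟩ := q_odd_nec (Cfsg.Agent.Lib.Helper16.qfPlus d F) d 1 hs hd m hm hm' r hr2 hrΩ'
        i c hi hc hall
      rw [tsc_iff_73 i c d m r hc] at hT
      rcases hT with h | h
      · exact Or.inr (Or.inl ⟨hrp, h2r, h⟩)
      · exact Or.inr (Or.inr ⟨hrp, h2r, h⟩)
    · intro h x hx hxr hns
      have hT : TSC i c d m ((r - 1) / i) 1 := by
        rw [tsc_iff_73 i c d m r hc]
        rcases h with ⟨h2, -⟩ | ⟨-, -, h⟩ | ⟨-, -, h⟩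
        · exact absurd h2 hr2
        · exact Or.inl h
        · exact Or.inr h
      exact q_odd_suff (Cfsg.Agent.Lib.Helper16.qfPlus d F) d 1 hs hd1 m hm' r hrp hr2 i c hi hc hT
        x hx hxr hns

universe u
example : type_of% @result.{u} = type_of% @Cfsg.CfsgFrozen.S5973.{u} := rfl

end Cfsg.Agent.S5973
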