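import Cfsg.Statements.S5974
import Cfsg.Agent.Lib.Helper24.OPEFROZEN
import Cfsg.Agent.Lib.helper14.OPETWO74
import Cfsg.Agent.Lib.Helper25.OPEODDSUFF
import Cfsg.Agent.Lib.helper6.OPEODDNEC
import Cfsg.Agent.Lib.helper23.OPECNTP

set_option autoImplicit false
open scoped MatrixGroups
open Cfsg

namespace Cfsg.Agent.S5974

open Cfsg.Agent.Lib.Helper18.OPE

theorem result {F : Type*} [Field F] [Fintype F] {p : ℕ} [Fact p.Prime] [CharP F p] {q : ℕ} (hq : Fintype.card F = q)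
    (d m : ℕ) (hd : 4 ≤ d) (hm : 2 ≤ m) (hme : Even m) (hmd : m < d)
    (r : ℕ) [Fact r.Prime] (hr : r = 2 ∨ r ≠ p)
    (hrΩ : r ∣ Nat.card {W : Submodule F (Fin d ⊕ Fin d → F) // (Module.finrank F ↥W = m ∧ (∀ u ∈ W, u ≠ 0 → ∃ v ∈ W, QuadraticMap.polar (Cfsg.quadFormPlus d F) u v ≠ 0) ∧
          ∃ U : Submodule F (Fin d ⊕ Fin d → F), U ≤ W ∧ 2 * Module.finrank F ↥U = m ∧ ∀ u ∈ U, Cfsg.quadFormPlus d F u = 0)})
    (i c : ℕ) (hi : i = orderOf (q : ZMod r)) (hc : c = if Even i then i else 2 * i) :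
    (∀ x : GL (Fin d ⊕ Fin d) F, x ∈ Cfsg.Geo.omegaGL (Cfsg.quadFormPlus d F) →
      (∃ z : F, ((x ^ r : GL (Fin d ⊕ Fin d) F) : Matrix (Fin d ⊕ Fin d) (Fin d ⊕ Fin d) F) = z • (1 : Matrix (Fin d ⊕ Fin d) (Fin d ⊕ Fin d) F)) →
      (∀ z : F, (x : Matrix (Fin d ⊕ Fin d) (Fin d ⊕ Fin d) F) ≠ z • (1 : Matrix (Fin d ⊕ Fin d) (Fin d ⊕ Fin d) F)) →
      ∃ W : Submodule F (Fin d ⊕ Fin d → F), (Module.finrank F ↥W = m ∧ (∀ u ∈ W, u ≠ 0 → ∃ v ∈ W, QuadraticMap.polar (Cfsg.quadFormPlus d F) u v ≠ 0) ∧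
          ∃ U : Submodule F (Fin d ⊕ Fin d → F), U ≤ W ∧ 2 * Module.finrank F ↥U = m ∧ ∀ u ∈ U, Cfsg.quadFormPlus d F u = 0) ∧
        W.map (Matrix.toLin' (x : Matrix (Fin d ⊕ Fin d) (Fin d ⊕ Fin d) F)) ≤ W) ↔
    ((r = 2 ∧ ((2 * d) % 4 = 2 ∨ m % 4 = 0 ∨ q % 4 = 1)) ∨
     (r ≠ p ∧ 2 < r ∧ Odd i ∧ c ≤ m ∧ m % c ≤ (2 * d) % c) ∨
     (r ≠ p ∧ 2 < r ∧ Even i ∧
       (((2 * d) % c = 0 ∧ (Odd ((2 * d) / i) ∨ (m % c = 0 ∧ Even (m / i)))) ∨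
        (i ≤ m ∧ ((m % c < (2 * d) % c ∧ 0 < m % c) ∨
                  ((2 * d) % c = m % c ∧ 0 < m % c ∧ Even ((2 * d + m - 2 * ((2 * d) % c)) / i)) ∨
                  (0 < (2 * d) % c ∧ m % c = 0 ∧ Even (m / i))))))) := by
  subst hq
  have hL : (∀ x : GL (Fin d ⊕ Fin d) F, x ∈ Cfsg.Geo.omegaGL (Cfsg.quadFormPlus d F) →
      (∃ z : F, ((x ^ r : GL (Fin d ⊕ Fin d) F) : Matrix (Fin d ⊕ Fin d) (Fin d ⊕ Fin d) F) = z • (1 : Matrix (Fin d ⊕ Fin d) (Fin d ⊕ Fin d) F)) →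
      (∀ z : F, (x : Matrix (Fin d ⊕ Fin d) (Fin d ⊕ Fin d) F) ≠ z • (1 : Matrix (Fin d ⊕ Fin d) (Fin d ⊕ Fin d) F)) →
      ∃ W : Submodule F (Fin d ⊕ Fin d → F), (Module.finrank F ↥W = m ∧ (∀ u ∈ W, u ≠ 0 → ∃ v ∈ W, QuadraticMap.polar (Cfsg.quadFormPlus d F) u v ≠ 0) ∧
          ∃ U : Submodule F (Fin d ⊕ Fin d → F), U ≤ W ∧ 2 * Module.finrank F ↥U = m ∧ ∀ u ∈ U, Cfsg.quadFormPlus d F u = 0) ∧
        W.map (Matrix.toLin' (x : Matrix (Fin d ⊕ Fin d) (Fin d ⊕ Fin d) F)) ≤ W) ↔ AllFix F d m 1 r := by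
    unfold AllFix Cfsg.Agent.Lib.Helper18.OPE.Fix
    refine forall_congr' fun x => imp_congr_right fun _ => imp_congr_right fun _ =>
      imp_congr_right fun _ => exists_congr fun W => ?_
    rw [(frozen_iff d m hme W).1]
    simp only [and_assoc]
  rw [hL]
  have hrpr : r.Prime := Fact.out
  constructor
  · intro hall
    by_cases h2 : r = 2
    · subst h2
      exact Or.inl ⟨rfl, two_nec_74 d m hd hm hme hmd hall⟩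
    · have hrp : r ≠ p := hr.resolve_left h2
      have h2r : 2 < r := lt_of_le_of_ne hrpr.two_le (Ne.symm h2)
      have hCH : CH i d (m / 2) := hyp_count_ch d m hme hmd r hrp h2 i hi hrΩ
      have hRR := odd_nec d m hd hm hme hmd r hrp h2 i c hi hc 1 (Or.inl rfl)
        (Or.inl ⟨rfl, hCH⟩) hall
      rcases hRR with ⟨-, hR⟩ | ⟨h, -⟩
      · right
        rcases hR with ⟨h1, h2', h3⟩ | ⟨h1, h2'⟩
        · exact Or.inl ⟨hrp, h2r, h1, h2', h3⟩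
        · exact Or.inr ⟨hrp, h2r, h1, h2'⟩
      · norm_num at h
  · rintro (⟨rfl, hcond⟩ | ⟨hrp, h2r, h1, h2', h3⟩ | ⟨hrp, h2r, h1, h2'⟩)
    · exact two_suff_74 d m hd hm hme hmd hcond
    · exact odd_suff d m hd hm hme hmd r hrp (by omega) i c hi hc 1 (Or.inl rfl)
        (Or.inl ⟨rfl, Or.inl ⟨h1, h2', h3⟩⟩)
    · exact odd_suff d m hd hm hme hmd r hrp (by omega) i c hi hc 1 (Or.inl rfl)
        (Or.inl ⟨rfl, Or.inr ⟨h1, h2'⟩⟩)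

end Cfsg.Agent.S5974
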