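import Cfsg.Statements.S5977
import Cfsg.Agent.S0287
import Cfsg.Agent.Lib.helper4.OTSSTDP
import Cfsg.Agent.Lib.Helper10.C3Q.MainAbs

set_option autoImplicit false
open scoped MatrixGroups
open Cfsg

namespace Cfsg.Agent.S5977

theorem result {F : Type*} [Field F] [Fintype F] {p : ℕ} [Fact p.Prime] [CharP F p] {q : ℕ} (hq : Fintype.card F = q)
    (hodd : Odd q) (d : ℕ) (hd : 4 ≤ d)
    (K : Subalgebra F (Matrix (Fin d ⊕ Fin d) (Fin d ⊕ Fin d) F)) (hK : Cfsg.Geo.IsFieldSubalgebra 2 K)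
    (hKf : Cfsg.Geo.IsSelfAdjointFor (QuadraticMap.polar (Cfsg.quadFormPlus d F)) K)
    (r : ℕ) [Fact r.Prime]
    (hΩ : r ∣ (Cfsg.Geo.subalgebraNormalizer K).relIndex (Cfsg.Geo.omegaGL (Cfsg.quadFormPlus d F))) :
    (∀ x ∈ Cfsg.Geo.omegaGL (Cfsg.quadFormPlus d F), (∃ z : F, ((x ^ r : GL (Fin d ⊕ Fin d) F) : Matrix (Fin d ⊕ Fin d) (Fin d ⊕ Fin d) F) = z • (1 : Matrix (Fin d ⊕ Fin d) (Fin d ⊕ Fin d) F)) →
      (∀ z : F, (x : Matrix (Fin d ⊕ Fin d) (Fin d ⊕ Fin d) F) ≠ z • (1 : Matrix (Fin d ⊕ Fin d) (Fin d ⊕ Fin d) F)) →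
      ∃ g ∈ Cfsg.Geo.omegaGL (Cfsg.quadFormPlus d F), g⁻¹ * x * g ∈ Cfsg.Geo.subalgebraNormalizer K) ↔ r = 2 := by
  have hG : Nat.card ↥(Cfsg.isometryGroup F (⇑(Cfsg.Agent.Lib.Helper16.qfPlus d F)))
      = Cfsg.Agent.Lib.Helper10.C3Q.ordGO q d 1 := by
    rw [Cfsg.Agent.Lib.Helper16.qfPlus_coe, Cfsg.Agent.S0287.result hq d (by omega)]
    unfold Cfsg.Agent.Lib.Helper10.C3Q.ordGO
    rw [if_pos rfl]
  exact Cfsg.Agent.Lib.Helper10.C3Q.main_abs hq hodd (Cfsg.Agent.Lib.Helper16.qfPlus d F) d 1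
    (Cfsg.Agent.Lib.Helper13.OTS.q_std_plus d) hd hG K hK hKf r hΩ

end Cfsg.Agent.S5977
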