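import Cfsg.Statements.S5985
import Cfsg.Agent.S2597
import Cfsg.Agent.S0289
import Cfsg.Agent.Lib.helper15.Spec3

set_option autoImplicit false
open scoped MatrixGroups
open Cfsg

namespace Cfsg.Agent.S5985

open Cfsg.Agent.Lib.Lead Cfsg.Agent.Lib.Lead.OG
  Cfsg.Agent.Lib.helper14.OrthSp Cfsg.Agent.Lib.helper14.OrthInv Cfsg.Agent.Lib.helper14.OmegaInv
  Cfsg.Agent.Lib.Helper16 Matrix Module

section Points

variable {F : Type*} [Field F] [Fintype F] [CharP F 2] {d : ℕ}

local notation "VV" => (Fin d ⊕ Fin d → F)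

theorem exists_sqrt' (a : F) : ∃ s : F, s * s = a := C2.exists_sqrt a

theorem sq_eq_one (c : F) (h : c * c = 1) : c = 1 := by
  have h1 : (c + 1) * (c + 1) = 0 := by
    have h2 : c + c = 0 := CharTwo.add_self_eq_zero c
    linear_combination h + h2 + (CharTwo.two_eq_zero : (2 : F) = 0)
  have := mul_self_eq_zero.mp h1
  have h3 : c = -1 := eq_neg_of_add_eq_zero_left this
  rw [h3, CharTwo.neg_eq]

/-- a subspace of dimension one containing a nonzero vector is its span -/
theorem eq_span_of_finrank_one (W : Submodule F VV) (hW : finrank F W = 1) (w : VV) (hw : w ∈ W)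
    (hw0 : w ≠ 0) : W = Submodule.span F {w} := by
  symm
  apply Submodule.eq_of_le_of_finrank_eq
  · rw [Submodule.span_singleton_le_iff_mem]; exact hw
  · rw [finrank_span_singleton hw0, hW]

theorem quadP_ne_zero_ne {v : VV} (hv : Cfsg.quadFormPlus d F v ≠ 0) : v ≠ 0 := by
  rintro rfl
  apply hv
  unfold Cfsg.quadFormPlus
  simp

/-- nonsingular points correspond to vectors of norm one -/
theorem card_points :
    Nat.card {W : Submodule F VV // finrank F ↥W = 1 ∧ ∃ v ∈ W, Cfsg.quadFormPlus d F v ≠ 0} =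
      (Fintype.card F ^ d - 1) * Fintype.card F ^ (d - 1) := by
  classical
  have h := Cfsg.Agent.S0289.card_quadFormPlus (F := F) d 1
  rw [if_neg one_ne_zero, zero_add] at h
  rw [← h]
  symm
  apply Nat.card_congr
  refine Equiv.ofBijective
    (fun v : {v : VV // Cfsg.quadFormPlus d F v = 1} =>
      (⟨Submodule.span F {v.1}, by
        have hv0 : v.1 ≠ 0 := quadP_ne_zero_ne (by rw [v.2]; exact one_ne_zero)
        exact ⟨finrank_span_singleton hv0, v.1, Submodule.mem_span_singleton_self _,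
          by rw [v.2]; exact one_ne_zero⟩⟩ :
        {W : Submodule F VV // finrank F ↥W = 1 ∧ ∃ v ∈ W, Cfsg.quadFormPlus d F v ≠ 0})) ⟨?_, ?_⟩
  · rintro ⟨v, hv⟩ ⟨v', hv'⟩ h
    have h1 : Submodule.span F {v} = Submodule.span F {v'} := congrArg Subtype.val h
    have h2 : v' ∈ Submodule.span F {v} := by
      rw [h1]; exact Submodule.mem_span_singleton_self _
    obtain ⟨c, hc⟩ := Submodule.mem_span_singleton.mp h2
    apply Subtype.ext
    show v = v'
    have h3 : c * c = 1 := by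
      have := hv'
      rw [← hc, quadP_smul, hv, mul_one] at this
      exact this
    rw [← hc, sq_eq_one c h3, one_smul]
  · rintro ⟨W, hW, w, hwW, hw⟩
    have hw0 := quadP_ne_zero_ne hw
    obtain ⟨s, hs⟩ := exists_sqrt' (Cfsg.quadFormPlus d F w)⁻¹
    refine ⟨⟨s • w, by rw [quadP_smul, hs, inv_mul_cancel₀ hw]⟩, ?_⟩
    apply Subtype.ext
    show Submodule.span F {s • w} = W
    have hs0 : s ≠ 0 := by
      rintro rfl
      rw [mul_zero] at hs
      exact inv_ne_zero hw hs.symm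
    rw [eq_span_of_finrank_one W hW w hwW hw0]
    exact Submodule.span_singleton_smul_eq (IsUnit.mk0 s hs0) w

end Points

section Main

variable {F : Type*} [Field F] [Fintype F] [CharP F 2] {d : ℕ}

local notation "ι" => (Fin d ⊕ Fin d)
local notation "VV" => (Fin d ⊕ Fin d → F)
local notation "QQ" => qfPlus d F
local notation "M1" => Matrix (Fin d) (Fin d) F
local notation "MM" => Matrix (Fin d ⊕ Fin d) (Fin d ⊕ Fin d) F
set_option quotPrecheck false in
local notation "OO" => ↥(Cfsg.isometryGroup F ⇑(qfPlus d F))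

/-- a scalar with `Q(c v) = Q v` for a nonsingular `v` is one -/
theorem scalar_eq_one (c : F) (v : VV) (hv : Cfsg.quadFormPlus d F v ≠ 0)
    (h : Cfsg.quadFormPlus d F (c • v) = Cfsg.quadFormPlus d F v) : c = 1 := by
  rw [quadP_smul] at h
  apply sq_eq_one
  exact mul_right_cancel₀ hv (h.trans (one_mul _).symm)

theorem exists_nonsing_plus (hd : 1 ≤ d) : ∃ v : VV, Cfsg.quadFormPlus d F v ≠ 0 := by
  haveI : Nonempty ι := ⟨Sum.inl ⟨0, hd⟩⟩
  exact C2.exists_nonsing QQ (qfPlus_nondeg d F)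

theorem fixed_vec_of_fixed_point (t : OO) (W : Submodule F VV) (hW : finrank F W = 1) (w : VV)
    (hw : w ∈ W) (hQw : Cfsg.quadFormPlus d F w ≠ 0)
    (hfix : W.map (Matrix.toLin' (mat t)) ≤ W) : mat t *ᵥ w = w := by
  have hw0 := quadP_ne_zero_ne hQw
  have hWs := eq_span_of_finrank_one W hW w hw hw0
  have h1 : mat t *ᵥ w ∈ W := hfix ⟨w, hw, by rw [Matrix.toLin'_apply]⟩
  rw [hWs] at h1
  obtain ⟨c, hc⟩ := Submodule.mem_span_singleton.mp h1
  have hc1 : c = 1 := scalar_eq_one c w hQw (by rw [hc]; exact mat_Q t w)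
  rw [← hc, hc1, one_smul]

theorem fixed_point_of_fixed_vec (M : MM) (v : VV) (hv : Cfsg.quadFormPlus d F v ≠ 0)
    (hfix : M *ᵥ v = v) :
    ∃ W : Submodule F VV, (finrank F ↥W = 1 ∧ ∃ v ∈ W, Cfsg.quadFormPlus d F v ≠ 0) ∧
      W.map (Matrix.toLin' M) ≤ W := by
  refine ⟨Submodule.span F {v}, ⟨finrank_span_singleton (quadP_ne_zero_ne hv), v,
    Submodule.mem_span_singleton_self _, hv⟩, ?_⟩
  rw [Submodule.map_span_le]
  intro m hm
  rw [Set.mem_singleton_iff] at hm
  rw [hm, Matrix.toLin'_apply, hfix]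
  exact Submodule.mem_span_singleton_self _

theorem hk_plus (hd : 4 ≤ d) : KerHyp QQ (qfPlus_nondeg d F) := by
  apply kerHyp_of_small
  right
  rw [Cfsg.Agent.S2597.hcard]
  omega

theorem not_scalar (hd : 1 ≤ d) (t : OO) (ht1 : mat t ≠ 1) (z : F) : mat t ≠ z • (1 : MM) := by
  intro h
  obtain ⟨v₀, hv₀⟩ := exists_nonsing_plus (F := F) hd
  have h1 : z = 1 := by
    apply scalar_eq_one z v₀ hv₀
    have := mat_Q t v₀
    rw [h, Matrix.smul_mulVec, Matrix.one_mulVec] at this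
    exact this
  rw [h1, one_smul] at h
  exact ht1 h

/-- involutions of `Ω` fix a nonsingular vector when `d` is odd -/
theorem partA (hd : 4 ≤ d) (hodd : Odd d) (t : OO) (ht : t ∈ Cfsg.Omega F ⇑QQ) (z : F)
    (hz : mat t * mat t = z • (1 : MM)) : ∃ v : VV, QQ v ≠ 0 ∧ mat t *ᵥ v = v := by
  obtain ⟨v₀, hv₀⟩ := exists_nonsing_plus (F := F) (d := d) (by omega)
  have hz1 : z = 1 := by
    apply scalar_eq_one z v₀ hv₀
    have h1 := mat_Q t (mat t *ᵥ v₀)
    rw [Matrix.mulVec_mulVec, hz, Matrix.smul_mulVec, Matrix.one_mulVec, mat_Q t v₀] at h1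
    exact h1
  rw [hz1, one_smul] at hz
  apply Cfsg.Agent.S2597.exists_fixed_nonsing t hz
  rintro ⟨h1, _⟩
  have hev := (mem_omega_iff_even (hk_plus hd) t).mp ht
  rw [h1] at hev
  exact (Nat.not_even_iff_odd.mpr hodd) hev

/-- for `d` even there is an involution of `Ω` without fixed nonsingular vectors -/
theorem partB (hd : 4 ≤ d) (hev : Even d) :
    ∃ t : OO, t ∈ Cfsg.Omega F ⇑QQ ∧ mat t * mat t = 1 ∧ (∀ z : F, mat t ≠ z • (1 : MM)) ∧
      ∀ v : VV, QQ v ≠ 0 → mat t *ᵥ v ≠ v := by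
  have hmT : (d, true) ∈ Cfsg.Agent.S2593.tgt d := by
    rw [Cfsg.Agent.S2593.mem_tgt]
    exact ⟨⟨by omega, le_rfl⟩, fun _ => hev⟩
  obtain ⟨t, ht2, htr, hta⟩ := Cfsg.Agent.S2597.exists_rep (F := F) d true hmT
  have htalt : isAltT (polarP F d) t := hta.mpr rfl
  refine ⟨t, ?_, ht2, ?_, ?_⟩
  · rw [mem_omega_iff_even (hk_plus hd), htr]
    exact hev
  · apply not_scalar (by omega)
    intro h1
    have : rk t = 0 := by
      unfold rk
      rw [h1, sub_self, Matrix.rank_zero]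
    omega
  · intro v hv hfix
    apply hv
    -- the kernel of `t - 1` is its image
    have hle : LinearMap.range (Matrix.mulVecLin (mat t - 1)) ≤
        LinearMap.ker (Matrix.mulVecLin (mat t - 1)) := by
      rintro _ ⟨x, rfl⟩
      rw [LinearMap.mem_ker, Matrix.mulVecLin_apply, Matrix.mulVecLin_apply,
        Matrix.mulVec_mulVec, N_sq _ ht2, Matrix.zero_mulVec]
    have h2 : rk t + finrank F (LinearMap.ker (Matrix.mulVecLin (mat t - 1))) =
        Fintype.card ι := by
      have := LinearMap.finrank_range_add_finrank_ker (Matrix.mulVecLin (mat t - 1))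
      rw [Module.finrank_pi] at this
      exact this
    rw [Cfsg.Agent.S2597.hcard, htr] at h2
    have h3 : finrank F (LinearMap.range (Matrix.mulVecLin (mat t - 1))) = d := htr
    have heq := Submodule.eq_of_le_of_finrank_eq hle (by rw [h3]; omega)
    have hvk : v ∈ LinearMap.ker (Matrix.mulVecLin (mat t - 1)) := by
      rw [LinearMap.mem_ker, Matrix.mulVecLin_apply, Matrix.sub_mulVec, Matrix.one_mulVec, hfix,
        sub_self]
    rw [← heq] at hvk
    obtain ⟨u, rfl⟩ := hvk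
    exact (isAltT_iff Cfsg.Agent.S2597.hQP t).mp htalt u

/-- a matrix of order dividing `r` without fixed vectors, from a field extension of degree `d` -/
theorem exists_A (hd : 1 ≤ d) (r : ℕ) [Fact r.Prime] (hdvd : r ∣ Fintype.card F ^ d - 1) :
    ∃ A B : M1, A ^ r = 1 ∧ B * (A - 1) = 1 := by
  haveI : NeZero d := ⟨by omega⟩
  haveI : Fact (Nat.Prime 2) := ⟨Nat.prime_two⟩
  have hfr : finrank F (FiniteField.Extension F 2 d) = d := FiniteField.finrank_extension F 2 d
  obtain ⟨ζ, hζ⟩ := Cfsg.Agent.Lib.helper15.Spec3.exists_gen_ext (F := F)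
    (K := FiniteField.Extension F 2 d) d hfr
  obtain ⟨k, hk⟩ := hdvd
  have hrp : r.Prime := Fact.out
  have hpos : 0 < Fintype.card F ^ d - 1 := by
    have h2 : 2 ≤ Fintype.card F := Fintype.one_lt_card
    have : 2 ^ d ≤ Fintype.card F ^ d := Nat.pow_le_pow_left h2 d
    have : 2 ^ 1 ≤ 2 ^ d := Nat.pow_le_pow_right (by norm_num) hd
    omega
  have hk0 : k ≠ 0 := by
    rintro rfl
    rw [mul_zero] at hk
    omega
  have hy : orderOf (ζ ^ k) = r := by
    rw [orderOf_pow_of_dvd hk0 (by rw [hζ, hk]; exact dvd_mul_left k r), hζ, hk]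
    exact Nat.mul_div_cancel _ (Nat.pos_of_ne_zero hk0)
  have hyr : (ζ ^ k) ^ r = 1 := by rw [← hy]; exact pow_orderOf_eq_one _
  have hy1 : ((ζ ^ k : (FiniteField.Extension F 2 d)ˣ) : FiniteField.Extension F 2 d) - 1 ≠ 0 := by
    intro h
    have h1 : (ζ ^ k : (FiniteField.Extension F 2 d)ˣ) = 1 := by
      apply Units.ext
      rw [Units.val_one]
      exact sub_eq_zero.mp h
    rw [h1, orderOf_one] at hy
    exact hrp.one_lt.ne hy
  refine ⟨Algebra.leftMulMatrix (Module.finBasisOfFinrankEq F _ hfr)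
      ((ζ ^ k : (FiniteField.Extension F 2 d)ˣ) : FiniteField.Extension F 2 d),
    Algebra.leftMulMatrix (Module.finBasisOfFinrankEq F _ hfr)
      (((ζ ^ k : (FiniteField.Extension F 2 d)ˣ) : FiniteField.Extension F 2 d) - 1)⁻¹, ?_, ?_⟩
  · rw [← map_pow, ← Units.val_pow_eq_pow_val, hyr, Units.val_one, map_one]
  · have h1 : (1 : M1) = Algebra.leftMulMatrix (Module.finBasisOfFinrankEq F _ hfr)
        (1 : FiniteField.Extension F 2 d) := (map_one _).symm
    rw [h1, ← map_sub, ← map_mul, inv_mul_cancel₀ hy1]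

/-- the block diagonal matrix `diag(A, A'ᵀ)` -/
def bD (A A' : M1) : MM := Matrix.fromBlocks A 0 0 A'ᵀ

theorem bD_mul (A A' B B' : M1) : bD A A' * bD B B' = bD (A * B) (B' * A') := by
  unfold bD
  rw [Matrix.fromBlocks_multiply, Matrix.transpose_mul]
  simp only [Matrix.mul_zero, Matrix.zero_mul, add_zero, zero_add]

theorem bD_one : bD (1 : M1) 1 = 1 := by
  unfold bD
  rw [Matrix.transpose_one, Matrix.fromBlocks_one]

theorem bD_pow (A A' : M1) (n : ℕ) : bD A A' ^ n = bD (A ^ n) (A' ^ n) := by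
  induction n with
  | zero => rw [pow_zero, pow_zero, pow_zero, bD_one]
  | succ n ih => rw [pow_succ, ih, bD_mul, ← pow_succ, ← pow_succ']

theorem quadP_bD (A A' : M1) (h : A' * A = 1) (v : VV) :
    Cfsg.quadFormPlus d F (bD A A' *ᵥ v) = Cfsg.quadFormPlus d F v := by
  have key : ∀ w : VV, Cfsg.quadFormPlus d F w = (w ∘ Sum.inl) ⬝ᵥ (w ∘ Sum.inr) := fun w => rfl
  rw [key, key]
  unfold bD
  rw [Matrix.fromBlocks_mulVec, Sum.elim_comp_inl, Sum.elim_comp_inr, Matrix.zero_mulVec,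
    Matrix.zero_mulVec, add_zero, zero_add, Matrix.dotProduct_mulVec, Matrix.vecMul_transpose,
    Matrix.mulVec_mulVec, h, Matrix.one_mulVec]

/-- for odd `r` dividing `q^d - 1` there is an element of `Ω` of order `r` without fixed
nonsingular vectors -/
theorem partC (hd : 4 ≤ d) (r : ℕ) [Fact r.Prime] (hr2 : r ≠ 2)
    (hdvd : r ∣ Fintype.card F ^ d - 1) :
    ∃ t : OO, t ∈ Cfsg.Omega F ⇑QQ ∧ mat t ^ r = 1 ∧ (∀ z : F, mat t ≠ z • (1 : MM)) ∧
      ∀ v : VV, QQ v ≠ 0 → mat t *ᵥ v ≠ v := by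
  have hrp : r.Prime := Fact.out
  obtain ⟨A, B, hAr, hBA⟩ := exists_A (F := F) (d := d) (by omega) r hdvd
  have hr1 : r - 1 + 1 = r := Nat.sub_add_cancel hrp.one_lt.le
  have hA1 : A * A ^ (r - 1) = 1 := by rw [← pow_succ', hr1, hAr]
  have hA2 : A ^ (r - 1) * A = 1 := by rw [← pow_succ, hr1, hAr]
  have hfixA : ∀ u : Fin d → F, A *ᵥ u = u → u = 0 := by
    intro u hu
    have : (B * (A - 1)) *ᵥ u = 0 := by
      rw [← Matrix.mulVec_mulVec, Matrix.sub_mulVec, Matrix.one_mulVec, hu, sub_self,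
        Matrix.mulVec_zero]
    rw [hBA, Matrix.one_mulVec] at this
    exact this
  set t : OO := ⟨⟨bD A (A ^ (r - 1)), bD (A ^ (r - 1)) A,
    by rw [bD_mul, hA1, bD_one], by rw [bD_mul, hA2, bD_one]⟩,
    fun u _ => quadP_bD A (A ^ (r - 1)) hA2 u⟩ with ht
  have hmat : mat t = bD A (A ^ (r - 1)) := rfl
  have hpow : mat t ^ r = 1 := by
    rw [hmat, bD_pow, hAr, ← pow_mul, mul_comm, pow_mul, hAr, one_pow, bD_one]
  have hfix : ∀ v : VV, mat t *ᵥ v = v → Cfsg.quadFormPlus d F v = 0 := by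
    intro v hv
    have h1 : A *ᵥ (v ∘ Sum.inl) = v ∘ Sum.inl := by
      have := congrArg (fun w : VV => w ∘ Sum.inl) hv
      simp only [hmat] at this
      unfold bD at this
      rw [Matrix.fromBlocks_mulVec, Sum.elim_comp_inl, Matrix.zero_mulVec, add_zero] at this
      exact this
    have h2 := hfixA _ h1
    show (v ∘ Sum.inl) ⬝ᵥ (v ∘ Sum.inr) = 0
    rw [h2, zero_dotProduct]
  refine ⟨t, ?_, hpow, ?_, ?_⟩
  · rw [← hk_plus hd t]
    have htr : t ^ r = 1 := by
      apply mat_injective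
      show ((t ^ r : OO) : GL ι F).val = 1
      rw [Subgroup.coe_pow, Units.val_pow_eq_pow_val]
      exact hpow
    have h1 : (C2.dickson QQ (qfPlus_nondeg d F) t) ^ r = 1 := by
      rw [← map_pow, htr, map_one]
    rcases Int.units_eq_one_or (C2.dickson QQ (qfPlus_nondeg d F) t) with h | h
    · exact h
    · exfalso
      rw [h, Odd.neg_one_pow (hrp.odd_of_ne_two hr2)] at h1
      exact absurd h1 (by decide)
  · apply not_scalar (by omega)
    intro h1
    obtain ⟨v₀, hv₀⟩ := exists_nonsing_plus (F := F) (d := d) (by omega)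
    apply hv₀
    apply hfix
    rw [h1, Matrix.one_mulVec]
  · intro v hv hfv
    exact hv (hfix v hfv)

end Main

/-- Elements of prime order of Ω⁺_n(q), q even, with no fixed nonsingular 1-space. Here `T = PΩ⁺_n(F)`, `n = 2d ≥ 8`, realised through `Ω⁺_n(q)`, the commutator subgroup of the isometry group of `Q = Σ xᵢyᵢ` over the field `F` with `q` elements; an element of `T` of prime order `r` is an element `x` of `Ω⁺_n(q)` with `x^r` scalar and `x` not scalar; `q` is even (so the centre is trivial). Let Ω be the set of 1-dimensional subspaces spanned by a vector `v` with `Q(v) ≠ 0`, and let `r` be a prime dividing their number. Then every element of `T` of order `r` fixes some nonsingular 1-space if and only if `r = 2` and `n ≡ 2 (mod 4)` (that is, `d` is odd). -/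
theorem result {F : Type*} [Field F] [Fintype F] {p : ℕ} [Fact p.Prime] [CharP F p] {q : ℕ} (hq : Fintype.card F = q)
    (hp : p = 2) (d : ℕ) (hd : 4 ≤ d) (r : ℕ) [Fact r.Prime]
    (hrΩ : r ∣ Nat.card {W : Submodule F (Fin d ⊕ Fin d → F) // Module.finrank F ↥W = 1 ∧ ∃ v ∈ W, Cfsg.quadFormPlus d F v ≠ 0}) :
    (∀ x : GL (Fin d ⊕ Fin d) F, x ∈ Cfsg.Geo.omegaGL (Cfsg.quadFormPlus d F) →
      (∃ z : F, ((x ^ r : GL (Fin d ⊕ Fin d) F) : Matrix (Fin d ⊕ Fin d) (Fin d ⊕ Fin d) F) = z • (1 : Matrix (Fin d ⊕ Fin d) (Fin d ⊕ Fin d) F)) →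
      (∀ z : F, (x : Matrix (Fin d ⊕ Fin d) (Fin d ⊕ Fin d) F) ≠ z • (1 : Matrix (Fin d ⊕ Fin d) (Fin d ⊕ Fin d) F)) →
      ∃ W : Submodule F (Fin d ⊕ Fin d → F), (Module.finrank F ↥W = 1 ∧ ∃ v ∈ W, Cfsg.quadFormPlus d F v ≠ 0) ∧ W.map (Matrix.toLin' (x : Matrix (Fin d ⊕ Fin d) (Fin d ⊕ Fin d) F)) ≤ W) ↔ (r = 2 ∧ Odd d) := by
  subst hp
  have hrΩ' : r ∣ (Fintype.card F ^ d - 1) * Fintype.card F ^ (d - 1) := by
    rw [← card_points]
    exact hrΩ
  have hrp : r.Prime := Fact.out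
  constructor
  · intro H
    by_contra hcon
    by_cases hr2 : r = 2
    · have hev : Even d := by
        rw [← Nat.not_odd_iff_even]
        intro h
        exact hcon ⟨hr2, h⟩
      obtain ⟨t, htΩ, ht2, hns, hnf⟩ := partB (F := F) hd hev
      obtain ⟨W, ⟨hW1, w, hwW, hQw⟩, hfix⟩ := H (t : GL (Fin d ⊕ Fin d) F)
        (Subgroup.mem_map.mpr ⟨t, htΩ, rfl⟩)
        ⟨1, by
          rw [Units.val_pow_eq_pow_val, hr2, pow_two, one_smul]
          exact ht2⟩ hns
      exact hnf w hQw (fixed_vec_of_fixed_point t W hW1 w hwW hQw hfix)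
    · have hdvd : r ∣ Fintype.card F ^ d - 1 := by
        rcases (Nat.Prime.dvd_mul hrp).mp hrΩ' with h | h
        · exact h
        · exfalso
          have h1 := hrp.dvd_of_dvd_pow h
          obtain ⟨n, hn⟩ := FiniteField.card F 2
          rw [hn.2] at h1
          have h2 := hrp.dvd_of_dvd_pow h1
          exact hr2 ((Nat.prime_dvd_prime_iff_eq hrp Nat.prime_two).mp h2)
      obtain ⟨t, htΩ, htr, hns, hnf⟩ := partC (F := F) hd r hr2 hdvd
      obtain ⟨W, ⟨hW1, w, hwW, hQw⟩, hfix⟩ := H (t : GL (Fin d ⊕ Fin d) F)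
        (Subgroup.mem_map.mpr ⟨t, htΩ, rfl⟩)
        ⟨1, by
          rw [Units.val_pow_eq_pow_val, one_smul]
          exact htr⟩ hns
      exact hnf w hQw (fixed_vec_of_fixed_point t W hW1 w hwW hQw hfix)
  · rintro ⟨rfl, hodd⟩ x hx ⟨z, hz⟩ _
    obtain ⟨t, htΩ, rfl⟩ := Subgroup.mem_map.mp hx
    obtain ⟨v, hv, hfix⟩ := partA hd hodd t htΩ z (by
      rw [← hz, Units.val_pow_eq_pow_val, pow_two]
      rfl)
    exact fixed_point_of_fixed_vec (mat t) v hv hfix

end Cfsg.Agent.S5985
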