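import Cfsg.Statements.S5983
import Cfsg.Agent.S5985
import Cfsg.Agent.S2598
import Cfsg.Agent.S2166
import Cfsg.Agent.Lib.helper14.Singer2
import Cfsg.Agent.Lib.Helper16.SpReal3
import Cfsg.Agent.Lib.helper14.NSPoints
import Cfsg.Agent.Lib.helper14.ArfShift
import Cfsg.Agent.Lib.Helper16.OMinus
import Cfsg.Agent.Lib.Lead.WittIndex

set_option autoImplicit false
open scoped MatrixGroups
open Cfsg

namespace Cfsg.Agent.S5983

open Cfsg.Agent.Lib.Lead Cfsg.Agent.Lib.Lead.OG Cfsg.Agent.Lib.Lead.Bin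
  Cfsg.Agent.Lib.helper14.OrthSp Cfsg.Agent.Lib.helper14.OrthInv Cfsg.Agent.Lib.helper14.OmegaInv
  Cfsg.Agent.Lib.helper14.NSPoints Cfsg.Agent.Lib.helper14.ArfShift
  Cfsg.Agent.Lib.Helper16 Cfsg.Agent.Lib.helper6 Cfsg.Agent.Lib.helper6.SB Matrix Module

section Basic

variable {F : Type*} [Field F] [Fintype F] [CharP F 2] {d : ℕ}

local notation "ι" => (Fin d ⊕ Fin d)
local notation "VV" => (Fin d ⊕ Fin d → F)
local notation "MM" => Matrix (Fin d ⊕ Fin d) (Fin d ⊕ Fin d) F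

variable {Q : (Fin d ⊕ Fin d → F) → F}

theorem sympForm_symm (u v : VV) : Cfsg.sympForm d F u v = Cfsg.sympForm d F v u := by
  rw [sympForm_swap, CharTwo.neg_eq]

/-- the hypotheses of the statement give `IsQP` -/
theorem isQP_of (hs : ∀ (c : F) (v : VV), Q (c • v) = c ^ 2 * Q v)
    (hQf : ∀ u v, QuadraticMap.polar Q u v = Cfsg.sympForm d F u v) : IsQP Q (sB d F) where
  add x y := by
    have := hQf x y
    unfold QuadraticMap.polar at this
    rw [sB_apply, ← this]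
    ring
  smul c x := by rw [hs, pow_two]
  symm x y := by rw [one_mul, sB_apply, sB_apply, sympForm_symm]
  nondeg x hx := by
    obtain ⟨y, hy⟩ := sympForm_nondeg d x hx
    exact ⟨y, by rw [sB_apply]; exact hy⟩

/-- the quadratic form as a `QuadraticForm` -/
noncomputable def qf (Q : VV → F) (hs : ∀ (c : F) (v : VV), Q (c • v) = c ^ 2 * Q v)
    (hQf : ∀ u v, QuadraticMap.polar Q u v = Cfsg.sympForm d F u v) : QuadraticForm F VV :=
  QuadraticMap.ofPolar Q (fun a x => by rw [hs, pow_two, smul_eq_mul])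
    (fun x x' y => by rw [hQf, hQf, hQf, sympForm_add_left])
    (fun a x y => by rw [hQf, hQf, sympForm_smul_left, smul_eq_mul])

theorem qf_coe (hs : ∀ (c : F) (v : VV), Q (c • v) = c ^ 2 * Q v)
    (hQf : ∀ u v, QuadraticMap.polar Q u v = Cfsg.sympForm d F u v) : ⇑(qf Q hs hQf) = Q := rfl

theorem qf_nondeg (hs : ∀ (c : F) (v : VV), Q (c • v) = c ^ 2 * Q v)
    (hQf : ∀ u v, QuadraticMap.polar Q u v = Cfsg.sympForm d F u v) :
    (QuadraticMap.polarBilin (qf (F := F) (d := d) Q hs hQf)).Nondegenerate := by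
  have h : QuadraticMap.polarBilin (qf (F := F) (d := d) Q hs hQf) = sB d F := by
    apply LinearMap.ext₂
    intro u v
    rw [QuadraticMap.polarBilin_apply_apply, qf_coe, hQf, sB_apply]
  rw [h]
  exact Cfsg.Agent.S2166.sB_nondeg

theorem hcardι : Fintype.card ι = 2 * d := by
  rw [Fintype.card_sum, Fintype.card_fin]; ring

/-- the type of the quadratic form -/
theorem exists_type (hd : 1 ≤ d) (hs : ∀ (c : F) (v : VV), Q (c • v) = c ^ 2 * Q v)
    (hQf : ∀ u v, QuadraticMap.polar Q u v = Cfsg.sympForm d F u v) :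
    ∃ s : ℤ, (s = 1 ∨ s = -1) ∧ OSemi.IsType Q d s := by
  obtain ⟨κ, hκF, hκD, Q', s, Φ, hcard, hs', htype, hΦ, -⟩ :=
    OSemi.classify_pack hd hcardι (qf Q hs hQf) (qf_nondeg hs hQf)
  refine ⟨s, hs', ?_⟩
  exact (OSemi.isType_of_equiv (⇑(qf Q hs hQf)) (⇑Q') Φ hΦ d s).mpr htype

/-- a form of type `-1` has no totally singular subspace of half the dimension -/
theorem not_plus_of_minus (hd : 1 ≤ d) (hs : ∀ (c : F) (v : VV), Q (c • v) = c ^ 2 * Q v)
    (hQf : ∀ u v, QuadraticMap.polar Q u v = Cfsg.sympForm d F u v)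
    (htype : OSemi.IsType Q d (-1)) (U : Submodule F VV) (hU : ∀ u ∈ U, Q u = 0) :
    finrank F U ≤ d - 1 := by
  rcases OSemi.classify hd hcardι (qf Q hs hQf) (qf_nondeg hs hQf) with ⟨Φ, hΦ⟩ | ⟨ζ, hζ, Φ, hΦ⟩
  · exfalso
    have h1 := OSemi.isType_plus (F := F) d
    have h2 := (OSemi.isType_of_equiv (⇑(qf Q hs hQf)) _ Φ hΦ d 1).mpr h1
    exact OSemi.isType_unique _ d h2 htype
  · have hab : Aniso (1 : F) ζ := OSemi.aniso_of_irred ζ hζ
    have h1 := WI.minus_ts_le (k := d - 1) hab (U.comap Φ.toLinearMap) (by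
      intro u hu
      rw [← hΦ]
      exact hU _ hu)
    have h2 : finrank F (U.comap Φ.toLinearMap) = finrank F U := by
      have : U.comap Φ.toLinearMap = U.map Φ.symm.toLinearMap :=
        (Submodule.map_equiv_eq_comap_symm Φ.symm U).symm
      rw [this]
      exact LinearEquiv.finrank_map_eq Φ.symm U
    rw [← h2]
    exact h1

theorem mem_spGL_iff (x : GL ι F) : x ∈ Cfsg.spGL d F ↔
    ∀ u v, Cfsg.sympForm d F (x.1 *ᵥ u) (x.1 *ᵥ v) = Cfsg.sympForm d F u v := Iff.rfl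

theorem exists_sympForm_ne (hd : 1 ≤ d) : ∃ u v : VV, Cfsg.sympForm d F u v ≠ 0 := by
  have h1 : (Pi.single (Sum.inl ⟨0, hd⟩) 1 : VV) ≠ 0 := by
    intro h
    have := congrFun h (Sum.inl ⟨0, hd⟩)
    rw [Pi.single_eq_same, Pi.zero_apply] at this
    exact one_ne_zero this
  obtain ⟨y, hy⟩ := sympForm_nondeg d _ h1
  exact ⟨_, y, hy⟩

/-- inside `Sp`, similarities of `Q` are isometries -/
theorem quadSim_iff (hd : 1 ≤ d)
    (hQf : ∀ u v, QuadraticMap.polar Q u v = Cfsg.sympForm d F u v) (x : GL ι F)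
    (hx : x ∈ Cfsg.spGL d F) :
    x ∈ Cfsg.Geo.quadSimilarityGroup Q ↔ ∀ v, Q (x.1 *ᵥ v) = Q v := by
  constructor
  · rintro ⟨c, hc⟩
    obtain ⟨u, v, huv⟩ := exists_sympForm_ne (F := F) hd
    have h1 : Cfsg.sympForm d F (x.1 *ᵥ u) (x.1 *ᵥ v) = c * Cfsg.sympForm d F u v := by
      rw [← hQf, ← hQf]
      unfold QuadraticMap.polar
      rw [← Matrix.mulVec_add, hc, hc, hc]
      ring
    rw [(mem_spGL_iff x).mp hx u v] at h1
    have hc1 : (c : F) = 1 := by
      have h2 : (1 : F) * Cfsg.sympForm d F u v = c * Cfsg.sympForm d F u v := by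
        rw [one_mul]; exact h1
      exact (mul_right_cancel₀ huv h2).symm
    intro w
    rw [hc, hc1, one_mul]
  · intro h
    exact ⟨1, fun v => by rw [h, Units.val_one, one_mul]⟩

/-- the action of `GL` on functions on the natural module -/
@[reducible] def actFun : MulAction (GL ι F) (VV → F) where
  smul g φ := fun v => φ ((g⁻¹ : GL ι F).1 *ᵥ v)
  one_smul φ := by
    funext v
    show φ (((1 : GL ι F)⁻¹ : GL ι F).1 *ᵥ v) = φ v
    rw [inv_one, Units.val_one, Matrix.one_mulVec]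
  mul_smul g h φ := by
    funext v
    show φ (((g * h)⁻¹ : GL ι F).1 *ᵥ v) = φ ((h⁻¹ : GL ι F).1 *ᵥ ((g⁻¹ : GL ι F).1 *ᵥ v))
    rw [_root_.mul_inv_rev, Units.val_mul, Matrix.mulVec_mulVec]

theorem inv_mulVec_mulVec (g : GL ι F) (v : VV) : (g⁻¹ : GL ι F).1 *ᵥ (g.1 *ᵥ v) = v := by
  rw [Matrix.mulVec_mulVec, ← Units.val_mul, inv_mul_cancel, Units.val_one, Matrix.one_mulVec]

theorem mulVec_inv_mulVec (g : GL ι F) (v : VV) : g.1 *ᵥ ((g⁻¹ : GL ι F).1 *ᵥ v) = v := by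
  rw [Matrix.mulVec_mulVec, ← Units.val_mul, mul_inv_cancel, Units.val_one, Matrix.one_mulVec]

/-- the index of the stabiliser of `Q` in `Sp` is the number of `z` with `Q z ∈ ℘(F)` -/
theorem index_eq (hd : 1 ≤ d) (hs : ∀ (c : F) (v : VV), Q (c • v) = c ^ 2 * Q v)
    (hQf : ∀ u v, QuadraticMap.polar Q u v = Cfsg.sympForm d F u v) :
    (Cfsg.Geo.quadSimilarityGroup Q).relIndex (Cfsg.spGL d F) =
      Nat.card {z : VV // Q z ∈ (asRange : AddSubgroup F)} := by
  classical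
  letI := actFun (F := F) (d := d)
  have hQP := isQP_of hs hQf
  have hsmul : ∀ (g : ↥(Cfsg.spGL d F)) (φ : VV → F) (v : VV),
      (g • φ) v = φ (((g : GL ι F)⁻¹ : GL ι F).1 *ᵥ v) := fun g φ v => rfl
  have h1 := MulAction.index_stabilizer ↥(Cfsg.spGL d F) Q
  have h2 : MulAction.stabilizer ↥(Cfsg.spGL d F) Q =
      (Cfsg.Geo.quadSimilarityGroup Q).subgroupOf (Cfsg.spGL d F) := by
    ext g
    rw [MulAction.mem_stabilizer_iff, Subgroup.mem_subgroupOf, quadSim_iff hd hQf g.1 g.2]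
    constructor
    · intro h v
      have := congrFun h ((g : GL ι F).1 *ᵥ v)
      rw [hsmul, inv_mulVec_mulVec] at this
      exact this.symm
    · intro h
      funext v
      rw [hsmul]
      have := h (((g : GL ι F)⁻¹ : GL ι F).1 *ᵥ v)
      rw [mulVec_inv_mulVec] at this
      exact this.symm
  have h3 : MulAction.orbit ↥(Cfsg.spGL d F) Q =
      (fun (z : VV) (x : VV) => Q x + (sB d F z x) ^ 2) ''
        {z : VV | Q z ∈ (asRange : AddSubgroup F)} := by
    ext φ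
    constructor
    · rintro ⟨g, rfl⟩
      have hginv : ((g : GL ι F)⁻¹ : GL ι F) ∈ Cfsg.spGL d F := inv_mem g.2
      have hφ : IsQP (g • Q) (sB d F) := by
        refine ⟨fun x y => ?_, fun c x => ?_, hQP.symm, hQP.nondeg⟩
        · show (g • Q) (x + y) = (g • Q) x + (g • Q) y + _
          rw [hsmul, hsmul, hsmul, Matrix.mulVec_add, hQP.add, sB_apply, sB_apply,
            (mem_spGL_iff _).mp hginv]
        · show (g • Q) (c • x) = c * c * (g • Q) x
          rw [hsmul, hsmul, Matrix.mulVec_smul, hQP.smul]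
      obtain ⟨z, hz⟩ := diff_eq_sq hQP hφ
      refine ⟨z, ?_, ?_⟩
      · apply arf_of_bij hQP z (fun v => ((g : GL ι F)⁻¹ : GL ι F).1 *ᵥ v)
        · refine Function.bijective_iff_has_inverse.mpr ⟨fun v => (g : GL ι F).1 *ᵥ v, ?_, ?_⟩
          · intro v
            exact mulVec_inv_mulVec _ v
          · intro v
            exact inv_mulVec_mulVec _ v
        · intro x
          rw [← hz x, hsmul]
      · funext x
        exact (hz x).symm
    · rintro ⟨z, hz, rfl⟩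
      obtain ⟨τ, hτB, hτQ⟩ := exists_transvection hQP z hz
      obtain ⟨M, Mi, hMMi, hMiM, hMv, hMiv⟩ := OSemi.conj_data τ
      have hmem : (⟨Mi, M, hMiM, hMMi⟩ : GL ι F) ∈ Cfsg.spGL d F := by
        rw [mem_spGL_iff]
        intro u v
        show Cfsg.sympForm d F (Mi *ᵥ u) (Mi *ᵥ v) = _
        rw [hMiv, hMiv, ← sB_apply, ← sB_apply]
        have := hτB (τ.symm u) (τ.symm v)
        rw [LinearEquiv.apply_symm_apply, LinearEquiv.apply_symm_apply] at this
        exact this.symm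
      refine ⟨⟨⟨Mi, M, hMiM, hMMi⟩, hmem⟩, ?_⟩
      funext x
      show Q (M *ᵥ x) = _
      rw [hMv, hτQ]
  have hinj : Function.Injective (fun (z : VV) (x : VV) => Q x + (sB d F z x) ^ 2) := by
    intro z z' h
    exact shift_injective hQP z z' (fun x => congrFun h x)
  unfold Subgroup.relIndex
  rw [← h2, h1, h3, Set.ncard_image_of_injective _ hinj, ← Nat.card_coe_set_eq]
  rfl

theorem two_card_asRange : 2 * Nat.card (asRange : AddSubgroup F) = Fintype.card F := by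
  have := AddSubgroup.card_mul_index (asRange : AddSubgroup F)
  rw [asRange_index, Nat.card_eq_fintype_card (α := F)] at this
  rw [mul_comm]
  exact this

/-- the number of `z` with `Q z ∈ ℘(F)` -/
theorem count_X (hd : 1 ≤ d) (hs : ∀ (c : F) (v : VV), Q (c • v) = c ^ 2 * Q v)
    (hQf : ∀ u v, QuadraticMap.polar Q u v = Cfsg.sympForm d F u v) (s : ℤ)
    (htype : OSemi.IsType Q d s) :
    2 * (Fintype.card F : ℤ) * (Nat.card {z : VV // Q z ∈ (asRange : AddSubgroup F)} : ℤ) =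
      (Fintype.card F : ℤ) ^ (d + 1) * ((Fintype.card F : ℤ) ^ d + s) := by
  classical
  have hev : Even (Fintype.card ι) := by rw [hcardι]; exact even_two_mul d
  have h2 : 2 ≤ Fintype.card ι := by rw [hcardι]; omega
  have hN1 := OSemi.isType_N1 (qf Q hs hQf) (qf_nondeg hs hQf) d hd hcardι s htype
  rw [qf_coe] at hN1
  have hN0 : (Fintype.card F : ℤ) * (OSemi.cnt Q 0 : ℤ) = (Fintype.card F : ℤ) ^ (2 * d)
      + s * ((Fintype.card F : ℤ) ^ (d + 1) - (Fintype.card F : ℤ) ^ d) := htype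
  -- fibrewise count
  have hfib : Nat.card {z : VV // Q z ∈ (asRange : AddSubgroup F)} =
      ∑ c ∈ (Finset.univ.filter (fun c : F => c ∈ (asRange : AddSubgroup F))), OSemi.cnt Q c := by
    unfold OSemi.cnt
    simp only [Nat.card_eq_fintype_card, Fintype.card_subtype]
    rw [Finset.card_eq_sum_card_fiberwise (f := Q)
      (s := Finset.univ.filter (fun z : VV => Q z ∈ (asRange : AddSubgroup F)))
      (t := Finset.univ.filter (fun c : F => c ∈ (asRange : AddSubgroup F)))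
      (fun z hz => by
        rw [Finset.mem_coe, Finset.mem_filter] at hz ⊢
        exact ⟨Finset.mem_univ _, hz.2⟩)]
    apply Finset.sum_congr rfl
    intro c hc
    rw [Finset.mem_filter] at hc
    congr 1
    ext z
    simp only [Finset.mem_filter, Finset.mem_univ, true_and]
    constructor
    · intro h; exact h.2
    · intro h; exact ⟨by rw [h]; exact hc.2, h⟩
  have h0mem : (0 : F) ∈ (Finset.univ.filter (fun c : F => c ∈ (asRange : AddSubgroup F))) := by
    rw [Finset.mem_filter]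
    exact ⟨Finset.mem_univ _, zero_mem _⟩
  have hsum : ∑ c ∈ (Finset.univ.filter (fun c : F => c ∈ (asRange : AddSubgroup F))),
      OSemi.cnt Q c = OSemi.cnt Q 0 + (Nat.card (asRange : AddSubgroup F) - 1) * OSemi.cnt Q 1 := by
    rw [← Finset.add_sum_erase _ _ h0mem]
    congr 1
    have h3 : ∑ c ∈ (Finset.univ.filter (fun c : F => c ∈ (asRange : AddSubgroup F))).erase 0,
        OSemi.cnt Q c =
        ∑ c ∈ (Finset.univ.filter (fun c : F => c ∈ (asRange : AddSubgroup F))).erase 0,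
          OSemi.cnt Q 1 := by
      apply Finset.sum_congr rfl
      intro c hc
      have := OSemi.cnt_const (qf Q hs hQf) (qf_nondeg hs hQf) hev h2 c (Finset.ne_of_mem_erase hc)
      rw [qf_coe] at this
      exact this
    rw [h3, Finset.sum_const, Finset.card_erase_of_mem h0mem, smul_eq_mul]
    congr 2
    rw [Nat.card_eq_fintype_card, Fintype.card_subtype]
  have hA := two_card_asRange (F := F)
  have hA1 : 1 ≤ Nat.card (asRange : AddSubgroup F) := by
    have : 2 ≤ Fintype.card F := Fintype.one_lt_card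
    omega
  rw [hfib, hsum]
  push_cast [Nat.cast_sub hA1]
  have hA' : (2 : ℤ) * (Nat.card (asRange : AddSubgroup F) : ℤ) = (Fintype.card F : ℤ) := by
    exact_mod_cast hA
  have e1 : (Fintype.card F : ℤ) ^ (2 * d) = (Fintype.card F : ℤ) ^ d * (Fintype.card F : ℤ) ^ d := by
    rw [two_mul, pow_add]
  have e2 : (Fintype.card F : ℤ) ^ (d + 1) = (Fintype.card F : ℤ) ^ d * (Fintype.card F : ℤ) := by
    rw [pow_succ]
  rw [e1, e2] at hN0
  rw [e1] at hN1
  rw [e2]
  linear_combination 2 * hN0 + ((Fintype.card F : ℤ) - 2) * hN1 +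
    ((Fintype.card F : ℤ) * (OSemi.cnt Q 1 : ℤ)) * hA'

/-- an odd prime dividing the index divides `q^d + s` -/
theorem dvd_of_index (hd : 1 ≤ d) (hs : ∀ (c : F) (v : VV), Q (c • v) = c ^ 2 * Q v)
    (hQf : ∀ u v, QuadraticMap.polar Q u v = Cfsg.sympForm d F u v) (s : ℤ)
    (htype : OSemi.IsType Q d s) (r : ℕ) (hrp : r.Prime) (hr2 : r ≠ 2)
    (h : r ∣ (Cfsg.Geo.quadSimilarityGroup Q).relIndex (Cfsg.spGL d F)) :
    (r : ℤ) ∣ (Fintype.card F : ℤ) ^ d + s := by
  rw [index_eq hd hs hQf] at h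
  have h1 : (r : ℤ) ∣ (Fintype.card F : ℤ) ^ (d + 1) * ((Fintype.card F : ℤ) ^ d + s) := by
    rw [← count_X hd hs hQf s htype]
    exact Dvd.dvd.mul_left (Int.natCast_dvd_natCast.mpr h) _
  have hrpz : Prime (r : ℤ) := Nat.prime_iff_prime_int.mp hrp
  rcases hrpz.dvd_or_dvd h1 with h4 | h4
  · exfalso
    have h5 := hrpz.dvd_of_dvd_pow h4
    have h5' : r ∣ Fintype.card F := Int.natCast_dvd_natCast.mp h5
    obtain ⟨n, hn⟩ := FiniteField.card F 2
    rw [hn.2] at h5'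
    have h6 := hrp.dvd_of_dvd_pow h5'
    exact hr2 ((Nat.prime_dvd_prime_iff_eq hrp Nat.prime_two).mp h6)
  · exact h4

theorem polar_plus_eq (u v : VV) :
    QuadraticMap.polar (Cfsg.quadFormPlus d F) u v = Cfsg.sympForm d F u v := by
  rw [polar_plus, SB.sympForm_eq_sum]
  apply Finset.sum_congr rfl
  intro i _
  rw [sub_eq_add_neg, CharTwo.neg_eq]
  ring

/-- a matrix preserving `Σ xᵢyᵢ` is symplectic -/
theorem sp_of_plus (x : GL ι F)
    (h : ∀ v, Cfsg.quadFormPlus d F (x.1 *ᵥ v) = Cfsg.quadFormPlus d F v) :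
    x ∈ Cfsg.spGL d F := by
  rw [mem_spGL_iff]
  intro u v
  rw [← polar_plus_eq, ← polar_plus_eq]
  unfold QuadraticMap.polar
  rw [← Matrix.mulVec_add, h, h, h]

/-- an element of order `r ∣ q^d - 1` of `Sp` without fixed vectors -/
theorem exists_fpf_minus (hd : 1 ≤ d) (r : ℕ) [Fact r.Prime]
    (hdvd : r ∣ Fintype.card F ^ d - 1) :
    ∃ x : GL ι F, x ∈ Cfsg.spGL d F ∧ x.1 ^ r = 1 ∧ ∀ v, x.1 *ᵥ v = v → v = 0 := by
  have hrp : r.Prime := Fact.out
  obtain ⟨A, B, hAr, hBA⟩ := Cfsg.Agent.S5985.exists_A (F := F) (d := d) hd r hdvd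
  have hAB : (A - 1) * B = 1 := mul_eq_one_comm.mp hBA
  have hr1 : r - 1 + 1 = r := Nat.sub_add_cancel hrp.one_lt.le
  have hA1 : A * A ^ (r - 1) = 1 := by rw [← pow_succ', hr1, hAr]
  have hA2 : A ^ (r - 1) * A = 1 := by rw [← pow_succ, hr1, hAr]
  refine ⟨⟨Cfsg.Agent.S5985.bD A (A ^ (r - 1)), Cfsg.Agent.S5985.bD (A ^ (r - 1)) A,
    by rw [Cfsg.Agent.S5985.bD_mul, hA1, Cfsg.Agent.S5985.bD_one],
    by rw [Cfsg.Agent.S5985.bD_mul, hA2, Cfsg.Agent.S5985.bD_one]⟩, ?_, ?_, ?_⟩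
  · apply sp_of_plus
    intro v
    exact Cfsg.Agent.S5985.quadP_bD A (A ^ (r - 1)) hA2 v
  · show Cfsg.Agent.S5985.bD A (A ^ (r - 1)) ^ r = 1
    rw [Cfsg.Agent.S5985.bD_pow, hAr, ← pow_mul, mul_comm, pow_mul, hAr, one_pow,
      Cfsg.Agent.S5985.bD_one]
  · intro v hv
    have hv' : Matrix.fromBlocks A 0 0 (A ^ (r - 1))ᵀ *ᵥ v = v := hv
    rw [Matrix.fromBlocks_mulVec] at hv'
    have h1 : A *ᵥ (v ∘ Sum.inl) = v ∘ Sum.inl := by
      have := congrArg (fun w : VV => w ∘ Sum.inl) hv'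
      simp only [Sum.elim_comp_inl, Matrix.zero_mulVec, add_zero] at this
      exact this
    have h2 : (A ^ (r - 1))ᵀ *ᵥ (v ∘ Sum.inr) = v ∘ Sum.inr := by
      have := congrArg (fun w : VV => w ∘ Sum.inr) hv'
      simp only [Sum.elim_comp_inr, Matrix.zero_mulVec, zero_add] at this
      exact this
    have h3 : v ∘ Sum.inl = 0 := by
      have : (B * (A - 1)) *ᵥ (v ∘ Sum.inl) = 0 := by
        rw [← Matrix.mulVec_mulVec, Matrix.sub_mulVec, Matrix.one_mulVec, h1, sub_self,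
          Matrix.mulVec_zero]
      rw [hBA, Matrix.one_mulVec] at this
      exact this
    have h4 : v ∘ Sum.inr = 0 := by
      rw [Matrix.mulVec_transpose] at h2
      have h5 : (v ∘ Sum.inr) ᵥ* A = v ∘ Sum.inr := by
        have := congrArg (fun w => w ᵥ* A) h2
        simp only [Matrix.vecMul_vecMul, hA2, Matrix.vecMul_one] at this
        exact this.symm
      have h6 : (v ∘ Sum.inr) ᵥ* ((A - 1) * B) = 0 := by
        rw [← Matrix.vecMul_vecMul, Matrix.vecMul_sub, Matrix.vecMul_one, h5, sub_self,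
          Matrix.zero_vecMul]
      rw [hAB, Matrix.vecMul_one] at h6
      exact h6
    funext i
    rcases i with i | i
    · exact congrFun h3 i
    · exact congrFun h4 i

/-- an element of order `r ∣ q^d + 1` of `Sp` without fixed vectors -/
theorem exists_fpf_plus (hd : 1 ≤ d) (r : ℕ) [Fact r.Prime] (hr2 : r ≠ 2)
    (hdvd : r ∣ Fintype.card F ^ d + 1) :
    ∃ x : GL ι F, x ∈ Cfsg.spGL d F ∧ x.1 ^ r = 1 ∧ ∀ v, x.1 *ᵥ v = v → v = 0 := by
  have hrp : r.Prime := Fact.out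
  haveI : Fact (Nat.Prime 2) := ⟨Nat.prime_two⟩
  have hrodd : Odd r := hrp.odd_of_ne_two hr2
  have hrF : (r : F) ≠ 0 := by
    intro h
    rw [CharP.cast_eq_zero_iff F 2] at h
    exact hr2 ((Nat.prime_dvd_prime_iff_eq Nat.prime_two hrp).mp h).symm
  obtain ⟨G, P, hG, hP, hGP, hfpf⟩ :=
    Cfsg.Agent.Lib.helper14.Singer.exists_GP_sum (F := F) 2 d hd r hdvd
  obtain ⟨H, halt, hH, hHinv⟩ := SpSemi.exists_alt_invariant G P r hrodd hrF hG hP hGP
    (by rw [hcardι]; exact even_two_mul d)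
  obtain ⟨Q0, Bm, hQ0, hconj⟩ := SpSemi.exists_sp_conj G H halt hH hHinv
  obtain ⟨Q0i, hQ0i⟩ := hQ0.exists_right_inv
  have hQ0i' : Q0i * Q0 = 1 := mul_eq_one_comm.mp hQ0i
  have hpow : ∀ j : ℕ, Bm.1 ^ j * Q0 = Q0 * G ^ j := by
    intro j
    induction j with
    | zero => rw [pow_zero, pow_zero, one_mul, mul_one]
    | succ j ih => rw [pow_succ, mul_assoc, ← hconj, ← mul_assoc, ih, mul_assoc, ← pow_succ]
  have hBr : Bm.1 ^ r = 1 := by
    have h1 := hpow r
    rw [hG, mul_one] at h1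
    calc Bm.1 ^ r = Bm.1 ^ r * (Q0 * Q0i) := by rw [hQ0i, mul_one]
      _ = (Bm.1 ^ r * Q0) * Q0i := by rw [mul_assoc]
      _ = 1 := by rw [h1, hQ0i]
  have hr1 : r - 1 + 1 = r := Nat.sub_add_cancel hrp.one_lt.le
  refine ⟨⟨Bm.1, Bm.1 ^ (r - 1), by rw [← pow_succ', hr1, hBr],
    by rw [← pow_succ, hr1, hBr]⟩, ?_, hBr, ?_⟩
  · rw [mem_spGL_iff]
    exact (mem_symplecticGroup_iff_sympForm d Bm.1).mp Bm.2
  · intro v hv
    have hv' : Bm.1 *ᵥ v = v := hv
    have h1 : G *ᵥ (Q0i *ᵥ v) = Q0i *ᵥ v := by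
      have h2 : Q0 *ᵥ (G *ᵥ (Q0i *ᵥ v)) = v := by
        rw [Matrix.mulVec_mulVec, Matrix.mulVec_mulVec, hconj, mul_assoc, hQ0i, mul_one]
        exact hv'
      have := congrArg (fun w => Q0i *ᵥ w) h2
      simp only [Matrix.mulVec_mulVec] at this
      rw [← mul_assoc, ← mul_assoc, hQ0i', one_mul, ← Matrix.mulVec_mulVec] at this
      exact this
    have h3 := hfpf _ h1
    have := congrArg (fun w => Q0 *ᵥ w) h3
    simp only [Matrix.mulVec_mulVec, hQ0i, Matrix.one_mulVec, Matrix.mulVec_zero] at this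
    exact this

/-- isometries of `Q` are symplectic -/
theorem sp_of_iso (hQf : ∀ u v, QuadraticMap.polar Q u v = Cfsg.sympForm d F u v) (x : GL ι F)
    (h : ∀ v, Q (x.1 *ᵥ v) = Q v) : x ∈ Cfsg.spGL d F := by
  rw [mem_spGL_iff]
  intro u v
  rw [← hQf, ← hQf]
  unfold QuadraticMap.polar
  rw [← Matrix.mulVec_add, h, h, h]

/-- a scalar symplectic matrix is the identity -/
theorem scalar_sp (hd : 1 ≤ d) (X : MM)
    (hX : ∀ u v, Cfsg.sympForm d F (X *ᵥ u) (X *ᵥ v) = Cfsg.sympForm d F u v) (z : F)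
    (hz : X = z • (1 : MM)) : X = 1 := by
  obtain ⟨u, v, huv⟩ := exists_sympForm_ne (F := F) hd
  have h1 := hX u v
  rw [hz, Matrix.smul_mulVec, Matrix.smul_mulVec, Matrix.one_mulVec, Matrix.one_mulVec,
    sympForm_smul_left, sympForm_smul_right, ← mul_assoc] at h1
  have h2 : z * z = 1 := by
    have h3 : z * z * Cfsg.sympForm d F u v = 1 * Cfsg.sympForm d F u v := by rw [one_mul]; exact h1
    exact mul_right_cancel₀ huv h3
  rw [hz, sq_eq_one z h2, one_smul]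

theorem exists_ne_zero (hd : 1 ≤ d) : ∃ u : VV, u ≠ 0 := by
  refine ⟨Pi.single (Sum.inl ⟨0, hd⟩) 1, ?_⟩
  intro h
  have := congrFun h (Sum.inl ⟨0, hd⟩)
  rw [Pi.single_eq_same, Pi.zero_apply] at this
  exact one_ne_zero this

/-- for an odd prime `r` dividing the index some element of order `r` of `Sp` has no conjugate
preserving `Q` -/
theorem odd_case (hd : 1 ≤ d) (hs : ∀ (c : F) (v : VV), Q (c • v) = c ^ 2 * Q v)
    (hQf : ∀ u v, QuadraticMap.polar Q u v = Cfsg.sympForm d F u v) (r : ℕ) [Fact r.Prime]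
    (hr2 : r ≠ 2)
    (hdvd : r ∣ (Cfsg.Geo.quadSimilarityGroup Q).relIndex (Cfsg.spGL d F)) :
    ∃ x : GL ι F, x ∈ Cfsg.spGL d F ∧ x.1 ^ r = 1 ∧ (∀ z : F, x.1 ≠ z • (1 : MM)) ∧
      ∀ g ∈ Cfsg.spGL d F, g⁻¹ * x * g ∉ Cfsg.Geo.quadSimilarityGroup Q := by
  have hrp : r.Prime := Fact.out
  obtain ⟨s, hs1, htype⟩ := exists_type hd hs hQf
  have hdv := dvd_of_index hd hs hQf s htype r hrp hr2 hdvd
  have hq1 : 1 ≤ Fintype.card F ^ d := Nat.one_le_pow _ _ Fintype.card_pos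
  have hrq : ¬ r ∣ Fintype.card F := by
    intro h
    obtain ⟨n, hn⟩ := FiniteField.card F 2
    rw [hn.2] at h
    have h6 := hrp.dvd_of_dvd_pow h
    exact hr2 ((Nat.prime_dvd_prime_iff_eq hrp Nat.prime_two).mp h6)
  obtain ⟨x, hxsp, hxr, hxfpf⟩ : ∃ x : GL ι F, x ∈ Cfsg.spGL d F ∧ x.1 ^ r = 1 ∧
      ∀ v, x.1 *ᵥ v = v → v = 0 := by
    rcases hs1 with rfl | rfl
    · apply exists_fpf_plus hd r hr2
      have : ((Fintype.card F ^ d + 1 : ℕ) : ℤ) = (Fintype.card F : ℤ) ^ d + 1 := by push_cast; rfl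
      rw [← this] at hdv
      exact Int.natCast_dvd_natCast.mp hdv
    · apply exists_fpf_minus hd r
      have : ((Fintype.card F ^ d - 1 : ℕ) : ℤ) = (Fintype.card F : ℤ) ^ d + -1 := by
        rw [Nat.cast_sub hq1]; push_cast; ring
      rw [← this] at hdv
      exact Int.natCast_dvd_natCast.mp hdv
  refine ⟨x, hxsp, hxr, ?_, ?_⟩
  · intro z hz
    have h1 := scalar_sp hd x.1 ((mem_spGL_iff x).mp hxsp) z hz
    obtain ⟨u, hu⟩ := exists_ne_zero (F := F) hd
    exact hu (hxfpf u (by rw [h1, Matrix.one_mulVec]))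
  · intro g hg hmem
    have hysp : g⁻¹ * x * g ∈ Cfsg.spGL d F := mul_mem (mul_mem (inv_mem hg) hxsp) hg
    have hyQ := (quadSim_iff hd hQf _ hysp).mp hmem
    have hxr' : x ^ r = 1 := Units.ext (by rw [Units.val_pow_eq_pow_val, hxr, Units.val_one])
    have hyr : (g⁻¹ * x * g) ^ r = 1 := by
      have := conj_pow (a := g⁻¹) (b := x) (i := r)
      rw [inv_inv] at this
      rw [this, hxr', mul_one, inv_mul_cancel]
    have hyr' : (g⁻¹ * x * g).1 ^ r = 1 := by
      rw [← Units.val_pow_eq_pow_val, hyr, Units.val_one]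
    have hyfpf : ∀ v, (g⁻¹ * x * g).1 *ᵥ v = v → v = 0 := by
      intro v hv
      have h1 : x.1 *ᵥ (g.1 *ᵥ v) = g.1 *ᵥ v := by
        have := congrArg (fun w => g.1 *ᵥ w) hv
        simp only [Units.val_mul, ← Matrix.mulVec_mulVec] at this
        rw [mulVec_inv_mulVec] at this
        exact this
      have h2 := hxfpf _ h1
      have := congrArg (fun w => (g⁻¹ : GL ι F).1 *ᵥ w) h2
      simp only [inv_mulVec_mulVec, Matrix.mulVec_zero] at this
      exact this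
    have hkey := OSemi.type_of_fpf (qf Q hs hQf) (qf_nondeg hs hQf) d hd hcardι s htype
      (g⁻¹ * x * g).1 hyQ r hyr' hyfpf hrq
    have h3 : (((Fintype.card F : ℤ) ^ d + s : ℤ) : ZMod r) = 0 :=
      (ZMod.intCast_zmod_eq_zero_iff_dvd _ _).mpr hdv
    push_cast at h3
    rw [hkey] at h3
    have h4 : ((2 : ℕ) : ZMod r) = 0 := by
      rcases hs1 with rfl | rfl
      · push_cast at h3 ⊢
        rw [← h3]; norm_num
      · push_cast at h3 ⊢
        have : (2 : ZMod r) = -(-1 + -1) := by ring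
        rw [this, h3, neg_zero]
    have h5 := (ZMod.natCast_eq_zero_iff _ _).mp h4
    exact hr2 ((Nat.prime_dvd_prime_iff_eq hrp Nat.prime_two).mp h5)

theorem rank_conj (g : GL ι F) (A : MM) :
    (((g⁻¹ : GL ι F).1) * A * g.1).rank = A.rank := by
  have hdet : IsUnit g.1.det := by
    have h1 : g.1 * (g⁻¹ : GL ι F).1 = 1 := by
      rw [← Units.val_mul, mul_inv_cancel, Units.val_one]
    have := congrArg Matrix.det h1
    rw [Matrix.det_mul, Matrix.det_one] at this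
    exact IsUnit.of_mul_eq_one _ this
  have hdet' : IsUnit (g⁻¹ : GL ι F).1.det := by
    have h1 : (g⁻¹ : GL ι F).1 * g.1 = 1 := by
      rw [← Units.val_mul, inv_mul_cancel, Units.val_one]
    have := congrArg Matrix.det h1
    rw [Matrix.det_mul, Matrix.det_one] at this
    exact IsUnit.of_mul_eq_one _ this
  rw [Matrix.rank_mul_eq_left_of_isUnit_det _ _ hdet, Matrix.rank_mul_eq_right_of_isUnit_det _ _ hdet']

theorem conj_sub_one (g x : GL ι F) :
    (g⁻¹ * x * g).1 - 1 = (g⁻¹ : GL ι F).1 * (x.1 - 1) * g.1 := by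
  rw [Units.val_mul, Units.val_mul, mul_sub, sub_mul, mul_one, ← Units.val_mul g⁻¹ g,
    inv_mul_cancel, Units.val_one]

/-- for `d` even and `Q` not of plus type, some involution of `Sp` has no conjugate preserving
`Q` -/
theorem even_case (hd : 2 ≤ d) (hs : ∀ (c : F) (v : VV), Q (c • v) = c ^ 2 * Q v)
    (hQf : ∀ u v, QuadraticMap.polar Q u v = Cfsg.sympForm d F u v) (hev : Even d)
    (hnp : ¬ Cfsg.Geo.IsPlusTypeOn Q ⊤) :
    ∃ x : GL ι F, x ∈ Cfsg.spGL d F ∧ x.1 ^ 2 = 1 ∧ (∀ z : F, x.1 ≠ z • (1 : MM)) ∧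
      ∀ g ∈ Cfsg.spGL d F, g⁻¹ * x * g ∉ Cfsg.Geo.quadSimilarityGroup Q := by
  have hQP := isQP_of hs hQf
  obtain ⟨k, hk⟩ := hev
  obtain ⟨g₀, h2, hrank, halt⟩ := Cfsg.Agent.S2593.exists_alt (F := F) (m := d) k (by omega)
    (by omega)
  have hxsp : (⟨g₀.1, g₀.1, h2, h2⟩ : GL ι F) ∈ Cfsg.spGL d F := by
    rw [mem_spGL_iff]
    exact (mem_symplecticGroup_iff_sympForm d g₀.1).mp g₀.2
  refine ⟨⟨g₀.1, g₀.1, h2, h2⟩, hxsp, by rw [pow_two]; exact h2, ?_, ?_⟩
  · intro z hz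
    have h1 := scalar_sp (by omega) g₀.1 ((mem_symplecticGroup_iff_sympForm d g₀.1).mp g₀.2) z hz
    rw [h1, sub_self, Matrix.rank_zero] at hrank
    omega
  · intro g hg hmem
    apply hnp
    have hysp : g⁻¹ * (⟨g₀.1, g₀.1, h2, h2⟩ : GL ι F) * g ∈ Cfsg.spGL d F :=
      mul_mem (mul_mem (inv_mem hg) hxsp) hg
    have hyQ := (quadSim_iff (by omega) hQf _ hysp).mp hmem
    set t : ↥(Cfsg.isometryGroup F Q) :=
      ⟨g⁻¹ * (⟨g₀.1, g₀.1, h2, h2⟩ : GL ι F) * g, (Cfsg.Agent.Lib.Helper16.mem_iso_iff Q _).mpr hyQ⟩ with ht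
    have hmat : mat t = (g⁻¹ * (⟨g₀.1, g₀.1, h2, h2⟩ : GL ι F) * g).1 := rfl
    have hsub : mat t - 1 = (g⁻¹ : GL ι F).1 * (g₀.1 - 1) * g.1 := by
      rw [hmat, conj_sub_one]
    have hrk : (mat t - 1).rank = d := by
      rw [hsub, rank_conj, hrank]
      omega
    have haltT : isAltT (sB d F) t := by
      intro v
      rw [sB_apply, ← (mem_spGL_iff g).mp hg v (mat t *ᵥ v)]
      have h3 : g.1 *ᵥ (mat t *ᵥ v) = g₀.1 *ᵥ (g.1 *ᵥ v) := by
        rw [hmat, Units.val_mul, Units.val_mul, ← Matrix.mulVec_mulVec, ← Matrix.mulVec_mulVec,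
          mulVec_inv_mulVec]
      rw [h3]
      exact halt _
    have hTS := (isAltT_iff hQP t).mp haltT
    refine ⟨LinearMap.range (Matrix.mulVecLin (mat t - 1)), le_top, ?_, ?_⟩
    · rintro _ ⟨v, rfl⟩
      rw [Matrix.mulVecLin_apply]
      exact hTS v
    · rw [finrank_top, Module.finrank_fintype_fun_eq_card, hcardι]
      have : finrank F (LinearMap.range (Matrix.mulVecLin (mat t - 1))) = d := hrk
      rw [this]

/-- transport of an involution along an isometry of quadratic forms -/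
theorem transport (hs : ∀ (c : F) (v : VV), Q (c • v) = c ^ 2 * Q v)
    (hQf : ∀ u v, QuadraticMap.polar Q u v = Cfsg.sympForm d F u v)
    {κ : Type} [Fintype κ] [DecidableEq κ] (Q₀ : (κ → F) → F)
    (B₀ : LinearMap.BilinForm F (κ → F)) (hQ₀ : IsQP Q₀ B₀) (Φ : (κ → F) ≃ₗ[F] VV)
    (hΦ : ∀ v, Q (Φ v) = Q₀ v) (t₀ : ↥(Cfsg.isometryGroup F Q₀)) (h2 : mat t₀ * mat t₀ = 1) :
    ∃ t : ↥(Cfsg.isometryGroup F Q), mat t * mat t = 1 ∧ rk t = rk t₀ ∧
      (isAltT (sB d F) t ↔ isAltT B₀ t₀) := by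
  have hQP := isQP_of hs hQf
  obtain ⟨M, Mi, hMMi, hMiM, hMv, hMiv⟩ := OSemi.conj_data Φ
  have hT2 : (M * mat t₀ * Mi) * (M * mat t₀ * Mi) = 1 := by
    calc (M * mat t₀ * Mi) * (M * mat t₀ * Mi)
        = M * mat t₀ * (Mi * M) * mat t₀ * Mi := by simp only [Matrix.mul_assoc]
      _ = M * (mat t₀ * mat t₀) * Mi := by rw [hMiM, Matrix.mul_one]; simp only [Matrix.mul_assoc]
      _ = 1 := by rw [h2, Matrix.mul_one, hMMi]
  have hTv : ∀ v, (M * mat t₀ * Mi) *ᵥ v = Φ (mat t₀ *ᵥ Φ.symm v) := by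
    intro v
    rw [← Matrix.mulVec_mulVec, ← Matrix.mulVec_mulVec, hMiv, hMv]
  have hTQ : ∀ v, Q ((M * mat t₀ * Mi) *ᵥ v) = Q v := by
    intro v
    rw [hTv, hΦ, mat_Q t₀, ← hΦ, LinearEquiv.apply_symm_apply]
  have hΦB : ∀ u v, sB d F (Φ u) (Φ v) = B₀ u v := by
    intro u v
    rw [hQP.polar_eq_sub, hQ₀.polar_eq_sub, ← map_add, hΦ, hΦ, hΦ]
  refine ⟨ofSq (M * mat t₀ * Mi) hT2 hTQ, hT2, ?_, ?_⟩
  · unfold rk
    rw [mat_ofSq]
    have h1 : M * mat t₀ * Mi - 1 = M * (mat t₀ - 1) * Mi := by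
      rw [Matrix.mul_sub, Matrix.sub_mul, Matrix.mul_one, hMMi]
    have h3 : mat t₀ - 1 = Mi * (M * (mat t₀ - 1) * Mi) * M := by
      calc mat t₀ - 1 = (Mi * M) * (mat t₀ - 1) * (Mi * M) := by
            rw [hMiM, Matrix.one_mul, Matrix.mul_one]
        _ = Mi * (M * (mat t₀ - 1) * Mi) * M := by simp only [Matrix.mul_assoc]
    rw [h1]
    apply le_antisymm
    · exact (Matrix.rank_mul_le_left _ _).trans (Matrix.rank_mul_le_right _ _)
    · have h4 : (Mi * (M * (mat t₀ - 1) * Mi) * M).rank ≤ (M * (mat t₀ - 1) * Mi).rank :=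
        (Matrix.rank_mul_le_left _ _).trans (Matrix.rank_mul_le_right _ _)
      rw [← h3] at h4
      exact h4
  · constructor
    · intro h w
      have := h (Φ w)
      rw [mat_ofSq, hTv, LinearEquiv.symm_apply_apply, hΦB] at this
      exact this
    · intro h v
      rw [mat_ofSq, hTv]
      have := h (Φ.symm v)
      rw [← hΦB, LinearEquiv.apply_symm_apply] at this
      exact this

/-- every involution class of `Sp` meets the isometry group of `Q`, except possibly rank `d` of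
alternating type when `Q` is of type `-1` -/
theorem exists_iso_rep (hd : 1 ≤ d) (hs : ∀ (c : F) (v : VV), Q (c • v) = c ^ 2 * Q v)
    (hQf : ∀ u v, QuadraticMap.polar Q u v = Cfsg.sympForm d F u v) (s₀ : ℕ) (c : Bool)
    (h1 : 1 ≤ s₀) (h2 : s₀ ≤ d) (hc : c = true → Even s₀)
    (hexc : OSemi.IsType Q d (-1) → c = true → s₀ ≤ d - 1) :
    ∃ t : ↥(Cfsg.isometryGroup F Q), mat t * mat t = 1 ∧ rk t = s₀ ∧
      (isAltT (sB d F) t ↔ c = true) := by
  obtain ⟨s, hs1, htype⟩ := exists_type hd hs hQf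
  rcases hs1 with rfl | rfl
  · obtain ⟨Φ, hΦ⟩ := OSemi.to_std_plus (qf Q hs hQf) (qf_nondeg hs hQf) d hd hcardι htype
    obtain ⟨t₀, ht2, htr, hta⟩ := Cfsg.Agent.S2597.exists_rep (F := F) (m := d) s₀ c
      ((Cfsg.Agent.S2593.mem_tgt d s₀ c).mpr ⟨⟨h1, h2⟩, hc⟩)
    obtain ⟨t, ht, hrk, halt⟩ := transport hs hQf (Cfsg.quadFormPlus d F) (polarP F d)
      (isQP_plus d) Φ hΦ t₀ ht2
    exact ⟨t, ht, hrk.trans htr, halt.trans hta⟩
  · rcases OSemi.classify hd hcardι (qf Q hs hQf) (qf_nondeg hs hQf) with ⟨Φ, hΦ⟩ | ⟨ζ, hζ, Φ, hΦ⟩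
    · exfalso
      have h3 := OSemi.isType_plus (F := F) d
      have h4 := (OSemi.isType_of_equiv (⇑(qf Q hs hQf)) _ Φ hΦ d 1).mpr h3
      exact OSemi.isType_unique _ d h4 htype
    · have hab : Aniso (1 : F) ζ := OSemi.aniso_of_irred ζ hζ
      obtain ⟨t₀, ht2, htr, hta⟩ := Cfsg.Agent.S2598.exists_rep (F := F) (k := d - 1) hab s₀ c
        ((Cfsg.Agent.S2596.mem_tgtM (d - 1) s₀ c).mpr ⟨⟨h1, by omega⟩, fun h =>
          ⟨hc h, hexc htype h⟩⟩)
      obtain ⟨t, ht, hrk, halt⟩ := transport hs hQf (Cfsg.quadFormMinus (d - 1) F 1 ζ)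
        (polarM 1 ζ (d - 1)) (isQP_minus hab) Φ hΦ t₀ ht2
      exact ⟨t, ht, hrk.trans htr, halt.trans hta⟩

/-- if `Q` is of plus type or `d` is odd, every involution of `Sp` is conjugate into the
isometry group of `Q` -/
theorem conj_into (hd : 2 ≤ d) (hs : ∀ (c : F) (v : VV), Q (c • v) = c ^ 2 * Q v)
    (hQf : ∀ u v, QuadraticMap.polar Q u v = Cfsg.sympForm d F u v)
    (hcond : Cfsg.Geo.IsPlusTypeOn Q ⊤ ∨ Odd d) (x : GL ι F) (hx : x ∈ Cfsg.spGL d F) (z : F)
    (hz : x.1 ^ 2 = z • (1 : MM)) (hns : ∀ z : F, x.1 ≠ z • (1 : MM)) :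
    ∃ g ∈ Cfsg.spGL d F, g⁻¹ * x * g ∈ Cfsg.Geo.quadSimilarityGroup Q := by
  classical
  have hX := (mem_spGL_iff x).mp hx
  have hX2 : x.1 * x.1 = 1 := by
    apply scalar_sp (by omega) (x.1 * x.1) _ z (by rw [← pow_two]; exact hz)
    intro u v
    rw [← Matrix.mulVec_mulVec, ← Matrix.mulVec_mulVec, hX, hX]
  have hX1 : x.1 - 1 ≠ 0 := by
    intro h
    exact hns 1 (by rw [one_smul]; exact sub_eq_zero.mp h)
  have ha : x.1 ∈ Matrix.symplecticGroup (Fin d) F := (mem_symplecticGroup_iff_sympForm d x.1).mpr hX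
  have hr1 : 1 ≤ (x.1 - 1).rank := rank_pos_of_ne_zero _ hX1
  have hr2 : (x.1 - 1).rank ≤ d := by
    have := Matrix.rank_add_rank_le_card_of_mul_eq_zero (Cfsg.Agent.S2166.sq_zero x.1 hX2)
    rw [hcardι] at this
    omega
  have hc : decide (∀ v : VV, Cfsg.sympForm d F v (x.1 *ᵥ v) = 0) = true → Even (x.1 - 1).rank := by
    intro h
    exact Cfsg.Agent.S2167.part2 x.1 (of_decide_eq_true h)
  have hexc : OSemi.IsType Q d (-1) →
      decide (∀ v : VV, Cfsg.sympForm d F v (x.1 *ᵥ v) = 0) = true → (x.1 - 1).rank ≤ d - 1 := by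
    intro htype h
    by_contra hcon
    have hrd : (x.1 - 1).rank = d := by omega
    have hev : Even d := by rw [← hrd]; exact hc h
    rcases hcond with ⟨U, -, hU, hUd⟩ | hodd
    · rw [finrank_top, Module.finrank_fintype_fun_eq_card, hcardι] at hUd
      have := not_plus_of_minus (by omega) hs hQf htype U hU
      omega
    · exact (Nat.not_even_iff_odd.mpr hodd) hev
  obtain ⟨t, ht2, htr, hta⟩ := exists_iso_rep (by omega) hs hQf (x.1 - 1).rank
    (decide (∀ v : VV, Cfsg.sympForm d F v (x.1 *ᵥ v) = 0)) hr1 hr2 hc hexc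
  have htsp : (t : GL ι F) ∈ Cfsg.spGL d F := sp_of_iso hQf _ (mat_Q t)
  have hb : mat t ∈ Matrix.symplecticGroup (Fin d) F :=
    (mem_symplecticGroup_iff_sympForm d (mat t)).mpr ((mem_spGL_iff _).mp htsp)
  have hconj : IsConj (⟨x.1, ha⟩ : ↥(Matrix.symplecticGroup (Fin d) F)) ⟨mat t, hb⟩ := by
    have hrank : (x.1 - 1).rank = (mat t - 1).rank := htr.symm
    refine Cfsg.Agent.S2166.conj_of_invariants ⟨x.1, ha⟩ ⟨mat t, hb⟩ hX2 ht2 hrank ?_
    constructor
    · intro h v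
      have := (hta.mpr (decide_eq_true h)) v
      rw [sB_apply] at this
      exact this
    · intro h
      have : isAltT (sB d F) t := by
        intro v
        rw [sB_apply]
        exact h v
      exact of_decide_eq_true (hta.mp this)
  obtain ⟨cc, hcc⟩ := isConj_iff.mp hconj
  have h1 : cc.1 * (cc⁻¹ : ↥(Matrix.symplecticGroup (Fin d) F)).1 = 1 := by
    have : cc * cc⁻¹ = 1 := mul_inv_cancel cc
    exact congrArg Subtype.val this
  have h2 : (cc⁻¹ : ↥(Matrix.symplecticGroup (Fin d) F)).1 * cc.1 = 1 := by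
    have : cc⁻¹ * cc = 1 := inv_mul_cancel cc
    exact congrArg Subtype.val this
  have h3 : cc.1 * x.1 * (cc⁻¹ : ↥(Matrix.symplecticGroup (Fin d) F)).1 = mat t :=
    congrArg Subtype.val hcc
  refine ⟨⟨(cc⁻¹ : ↥(Matrix.symplecticGroup (Fin d) F)).1, cc.1, h2, h1⟩, ?_, ?_⟩
  · rw [mem_spGL_iff]
    exact (mem_symplecticGroup_iff_sympForm d _).mp (cc⁻¹).2
  · refine ⟨1, fun v => ?_⟩
    have h4 : ((⟨(cc⁻¹ : ↥(Matrix.symplecticGroup (Fin d) F)).1, cc.1, h2, h1⟩ : GL ι F)⁻¹ * x *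
        ⟨(cc⁻¹ : ↥(Matrix.symplecticGroup (Fin d) F)).1, cc.1, h2, h1⟩ : GL ι F).1 = mat t := h3
    rw [h4, mat_Q t v, Units.val_one, one_mul]

end Basic

/-- Elements of prime order of PSp_n(q), q even, and the subgroups of orthogonal type. Here `T = Sp_{2d}(F)` for a field `F` of characteristic 2 with `q` elements (`d ≥ 2`, `(d, q) ≠ (2, 2)`), realised as the invertible matrices preserving the standard alternating form; `Q` is a non-degenerate quadratic form on `F^{2d}` whose polar form is that alternating form, and `H` is the subgroup of `T` preserving `Q` up to a scalar (equivalently preserving `Q`) — a subgroup of type O^±_{2d}(q) (maximality is not assumed); `Q` is of plus type when `F^{2d}` contains a `d`-dimensional subspace on which `Q` vanishes, of minus type otherwise. Ω is the set of cosets of `H` in `T`, so an element of `T` of prime order `r` (`x ∈ T` with `x^r` scalar, `x` not scalar) fixes a point of Ω exactly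 when some `T`-conjugate of `x` preserves `Q`. Let `r` be a prime dividing the index of `H`. Then every element of `T` of order `r` fixes a point of Ω if and only if `r = 2` and either `Q` is of plus type or `d` is odd. -/
theorem result {F : Type*} [Field F] [Fintype F] {p : ℕ} [Fact p.Prime] [CharP F p] {q : ℕ} (hq : Fintype.card F = q)
    (hp : p = 2) (d : ℕ) (hd : 2 ≤ d) (hT : (d, q) ≠ (2, 2)) (Q : (Fin d ⊕ Fin d → F) → F) (hQ : Cfsg.Geo.IsNondegenerateQuadraticForm Q)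
    (hQf : ∀ u v, QuadraticMap.polar Q u v = Cfsg.sympForm d F u v)
    (r : ℕ) [Fact r.Prime]
    (hΩ : r ∣ (Cfsg.Geo.quadSimilarityGroup Q).relIndex (Cfsg.spGL d F)) :
    (∀ x ∈ Cfsg.spGL d F, (∃ z : F, ((x ^ r : GL (Fin d ⊕ Fin d) F) : Matrix (Fin d ⊕ Fin d) (Fin d ⊕ Fin d) F) = z • (1 : Matrix (Fin d ⊕ Fin d) (Fin d ⊕ Fin d) F)) →
      (∀ z : F, (x : Matrix (Fin d ⊕ Fin d) (Fin d ⊕ Fin d) F) ≠ z • (1 : Matrix (Fin d ⊕ Fin d) (Fin d ⊕ Fin d) F)) →
      ∃ g ∈ Cfsg.spGL d F, g⁻¹ * x * g ∈ Cfsg.Geo.quadSimilarityGroup Q) ↔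
    (r = 2 ∧ (Cfsg.Geo.IsPlusTypeOn Q ⊤ ∨ Odd d)) := by
  subst hp
  have hs := hQ.smul
  have hrp : r.Prime := Fact.out
  constructor
  · intro H
    by_cases hr2 : r = 2
    · refine ⟨hr2, ?_⟩
      by_contra hcon
      push Not at hcon
      obtain ⟨hnp, hnodd⟩ := hcon
      obtain ⟨x, hxsp, hx2, hns, hnot⟩ := even_case hd hs hQf (Nat.not_odd_iff_even.mp hnodd) hnp
      obtain ⟨g, hg, hmem⟩ := H x hxsp ⟨1, by
        rw [Units.val_pow_eq_pow_val, hr2, hx2, one_smul]⟩ hns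
      exact hnot g hg hmem
    · exfalso
      obtain ⟨x, hxsp, hxr, hns, hnot⟩ := odd_case (by omega) hs hQf r hr2 hΩ
      obtain ⟨g, hg, hmem⟩ := H x hxsp ⟨1, by
        rw [Units.val_pow_eq_pow_val, hxr, one_smul]⟩ hns
      exact hnot g hg hmem
  · rintro ⟨rfl, hcond⟩ x hx ⟨z, hz⟩ hns
    exact conj_into hd hs hQf hcond x hx z (by rw [← Units.val_pow_eq_pow_val]; exact hz) hns


end Cfsg.Agent.S5983
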