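import Cfsg.Statements.S5986
import Cfsg.Agent.S2598
import Cfsg.Agent.Lib.helper14.Singer
import Cfsg.Agent.Lib.helper14.NSPoints
import Cfsg.Agent.Lib.Helper16.OMinus

set_option autoImplicit false
open scoped MatrixGroups
open Cfsg

namespace Cfsg.Agent.S5986

open Cfsg.Agent.Lib.Lead Cfsg.Agent.Lib.Lead.OG Cfsg.Agent.Lib.Lead.Bin
  Cfsg.Agent.Lib.helper14.OrthSp Cfsg.Agent.Lib.helper14.OrthInv Cfsg.Agent.Lib.helper14.OmegaInv
  Cfsg.Agent.Lib.helper14.NSPoints Cfsg.Agent.Lib.Helper16 Matrix Module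

section Main

variable {F : Type*} [Field F] [Fintype F] [CharP F 2] {k : ℕ} {a b : F}

/-- the number of vectors of norm one of the minus type form -/
theorem cnt_one (hab : Aniso a b) :
    (Fintype.card F : ℤ) * (Nat.card {v : MI k → F // Cfsg.quadFormMinus k F a b v = 1} : ℤ) =
      (Fintype.card F : ℤ) ^ (2 * (k + 1)) + (Fintype.card F : ℤ) ^ (k + 1) := by
  have h := OSemi.isType_N1 (qfMinus k F a b) (OSemi.qfMinus_nondeg k a b hab) (k + 1) (by omega)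
    Cfsg.Agent.S2598.hcard (-1) (OSemi.isType_minus k a b hab)
  rw [neg_one_mul, sub_neg_eq_add] at h
  exact h

/-- a prime dividing the number of nonsingular points and not `2` divides `q^(k+1) + 1` -/
theorem dvd_of_dvd_points (hab : Aniso a b) (r : ℕ) (hrp : r.Prime) (hr2 : r ≠ 2)
    (h : r ∣ Nat.card {W : Submodule F (MI k → F) //
      finrank F ↥W = 1 ∧ ∃ v ∈ W, Cfsg.quadFormMinus k F a b v ≠ 0}) :
    r ∣ Fintype.card F ^ (k + 1) + 1 := by
  rw [card_points (isQP_minus hab)] at h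
  have h1 : r ∣ Fintype.card F ^ (k + 1) * (Fintype.card F ^ (k + 1) + 1) := by
    have h2 : (r : ℤ) ∣ (Fintype.card F : ℤ) ^ (2 * (k + 1)) + (Fintype.card F : ℤ) ^ (k + 1) := by
      rw [← cnt_one hab]
      exact Dvd.dvd.mul_left (Int.natCast_dvd_natCast.mpr h) _
    have h3 : ((Fintype.card F ^ (k + 1) * (Fintype.card F ^ (k + 1) + 1) : ℕ) : ℤ) =
        (Fintype.card F : ℤ) ^ (2 * (k + 1)) + (Fintype.card F : ℤ) ^ (k + 1) := by
      push_cast
      ring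
    rw [← h3] at h2
    exact Int.natCast_dvd_natCast.mp h2
  rcases (Nat.Prime.dvd_mul hrp).mp h1 with h4 | h4
  · exfalso
    have h5 := hrp.dvd_of_dvd_pow h4
    obtain ⟨n, hn⟩ := FiniteField.card F 2
    rw [hn.2] at h5
    have h6 := hrp.dvd_of_dvd_pow h5
    exact hr2 ((Nat.prime_dvd_prime_iff_eq hrp Nat.prime_two).mp h6)
  · exact h4

/-- for an odd prime `r` dividing `q^(k+1) + 1` there is an element of order `r` of `Ω⁻` without
nonzero fixed vectors -/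
theorem partC (hab : Aniso a b) (r : ℕ) [Fact r.Prime] (hr2 : r ≠ 2)
    (hdvd : r ∣ Fintype.card F ^ (k + 1) + 1) :
    ∃ t : ↥(Cfsg.isometryGroup F ⇑(qfMinus k F a b)), t ∈ Cfsg.Omega F ⇑(qfMinus k F a b) ∧
      mat t ^ r = 1 ∧ (∀ z : F, mat t ≠ z • (1 : Matrix (MI k) (MI k) F)) ∧
      ∀ v : MI k → F, Cfsg.quadFormMinus k F a b v ≠ 0 → mat t *ᵥ v ≠ v := by
  have hrp : r.Prime := Fact.out
  haveI : Fact (Nat.Prime 2) := ⟨Nat.prime_two⟩
  have hrodd : Odd r := hrp.odd_of_ne_two hr2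
  have hrq : ¬ r ∣ Fintype.card F := by
    intro h
    obtain ⟨n, hn⟩ := FiniteField.card F 2
    rw [hn.2] at h
    have h6 := hrp.dvd_of_dvd_pow h
    exact hr2 ((Nat.prime_dvd_prime_iff_eq hrp Nat.prime_two).mp h6)
  have hrF : (r : F) ≠ 0 := by
    intro h
    rw [CharP.cast_eq_zero_iff F 2] at h
    exact hr2 ((Nat.prime_dvd_prime_iff_eq Nat.prime_two hrp).mp h).symm
  obtain ⟨G, P, hG, hP, hGP, hfpf⟩ :=
    Cfsg.Agent.Lib.helper14.Singer.exists_GP (F := F) 2 (k + 1) (by omega) r hdvd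
  have hmin : (-1 : ZMod r) = ((Fintype.card F : ℕ) : ZMod r) ^ (k + 1) := by
    have h1 : ((Fintype.card F ^ (k + 1) + 1 : ℕ) : ZMod r) = 0 :=
      (ZMod.natCast_eq_zero_iff _ _).mpr hdvd
    push_cast at h1
    exact (eq_neg_of_add_eq_zero_left h1).symm ▸ rfl
  obtain ⟨B, hBr, ⟨J, hJinj, hJ⟩, -⟩ :=
    OSemi.realize_std r hr2 hrq hrF (n'' := 2 * (k + 1)) (m'' := k + 1) rfl (by omega) G P hG hP
      hGP hfpf 0 (k + 1) rfl (qfMinus k F a b) (-1) (Or.inr rfl)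
      (fun {ι} _ _ Qf hnd hcard' htype' =>
        OSemi.to_std_minus Qf hnd (k + 1) (by omega) hcard' htype' a b hab)
      (fun _ => ⟨a, b, hab⟩)
      (fun _ s' hs' hxs => by
        rcases hs' with rfl | rfl
        · exfalso
          rw [← hmin, Int.cast_one] at hxs
          have h2 : ((2 : ℕ) : ZMod r) = 0 := by
            push_cast
            have : (2 : ZMod r) = 1 + 1 := by norm_num
            rw [this]
            nth_rewrite 1 [← hxs]
            exact neg_add_cancel 1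
          have h3 := (ZMod.natCast_eq_zero_iff _ _).mp h2
          exact hr2 ((Nat.prime_dvd_prime_iff_eq hrp Nat.prime_two).mp h3)
        · rfl)
  have hJsurj : Function.Surjective J := by
    rw [← LinearMap.injective_iff_surjective_of_finrank_eq_finrank]
    · exact hJinj
    · rw [Module.finrank_fintype_fun_eq_card, Module.finrank_fintype_fun_eq_card,
        Fintype.card_fin, Cfsg.Agent.S2598.hcard]
  have hBfpf : ∀ v : MI k → F, mat B *ᵥ v = v → v = 0 := by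
    intro v hv
    obtain ⟨u, rfl⟩ := hJsurj v
    have h1 : J (G *ᵥ u) = J u := by rw [← hJ u]; exact hv
    rw [hfpf u (hJinj h1), map_zero]
  have hQP := isQP_minus (k := k) hab
  haveI : Nonempty (MI k) := ⟨Sum.inr 0⟩
  obtain ⟨v₀, hv₀⟩ := C2.exists_nonsing (qfMinus k F a b) (OSemi.qfMinus_nondeg k a b hab)
  refine ⟨B, mem_omega_of_odd (Cfsg.Agent.S2598.kerHyp_minus hab) B r hrodd hBr, ?_, ?_, ?_⟩
  · have h1 : mat (B ^ r) = mat B ^ r := by
      show ((B ^ r : ↥(Cfsg.isometryGroup F ⇑(qfMinus k F a b))) : GL (MI k) F).val = _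
      rw [Subgroup.coe_pow, Units.val_pow_eq_pow_val]
    rw [← h1, hBr]
    rfl
  · apply not_scalar hQP v₀ hv₀
    intro h1
    apply hv₀
    have := hBfpf v₀ (by rw [h1, Matrix.one_mulVec])
    rw [this]
    exact hQP.zero
  · intro v hv hfv
    apply hv
    rw [hBfpf v hfv]
    exact hQP.zero

end Main

/-- Elements of prime order of Ω⁻_n(q), q even, with no fixed nonsingular 1-space. Here `T = PΩ⁻_n(F)`, `n = 2d ≥ 8`, realised through `Ω⁻_n(q)`, the commutator subgroup of the isometry group of `Q = Σ_{i<d−1} xᵢyᵢ + z₁² + a z₁z₂ + b z₂²` with `z₁² + a z₁z₂ + b z₂²` anisotropic, over the field `F` with `q` elements; an element of `T` of prime order `r` is an element `x` of `Ω⁻_n(q)` with `x^r` scalar and `x` not scalar; `q` is even (so the centre is trivial). Let Ω be the set of 1-dimensional subspaces spanned by a vector `v` with `Q(v) ≠ 0`, and let `r` be a prime dividing their number. Then every element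 of `T` of order `r` fixes some nonsingular 1-space if and only if `r = 2`. -/
theorem result {F : Type*} [Field F] [Fintype F] {p : ℕ} [Fact p.Prime] [CharP F p] {q : ℕ} (hq : Fintype.card F = q)
    (hp : p = 2) (d : ℕ) (hd : 4 ≤ d) (a b : F) (hab : ∀ x y : F, x ^ 2 + a * x * y + b * y ^ 2 = 0 → x = 0 ∧ y = 0) (r : ℕ) [Fact r.Prime]
    (hrΩ : r ∣ Nat.card {W : Submodule F ((Fin (d - 1) ⊕ Fin (d - 1)) ⊕ Fin 2 → F) // Module.finrank F ↥W = 1 ∧ ∃ v ∈ W, Cfsg.quadFormMinus (d - 1) F a b v ≠ 0}) :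
    (∀ x : GL ((Fin (d - 1) ⊕ Fin (d - 1)) ⊕ Fin 2) F, x ∈ Cfsg.Geo.omegaGL (Cfsg.quadFormMinus (d - 1) F a b) →
      (∃ z : F, ((x ^ r : GL ((Fin (d - 1) ⊕ Fin (d - 1)) ⊕ Fin 2) F) : Matrix ((Fin (d - 1) ⊕ Fin (d - 1)) ⊕ Fin 2) ((Fin (d - 1) ⊕ Fin (d - 1)) ⊕ Fin 2) F) = z • (1 : Matrix ((Fin (d - 1) ⊕ Fin (d - 1)) ⊕ Fin 2) ((Fin (d - 1) ⊕ Fin (d - 1)) ⊕ Fin 2) F)) →
      (∀ z : F, (x : Matrix ((Fin (d - 1) ⊕ Fin (d - 1)) ⊕ Fin 2) ((Fin (d - 1) ⊕ Fin (d - 1)) ⊕ Fin 2) F) ≠ z • (1 : Matrix ((Fin (d - 1) ⊕ Fin (d - 1)) ⊕ Fin 2) ((Fin (d - 1) ⊕ Fin (d - 1)) ⊕ Fin 2) F)) →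
      ∃ W : Submodule F ((Fin (d - 1) ⊕ Fin (d - 1)) ⊕ Fin 2 → F), (Module.finrank F ↥W = 1 ∧ ∃ v ∈ W, Cfsg.quadFormMinus (d - 1) F a b v ≠ 0) ∧ W.map (Matrix.toLin' (x : Matrix ((Fin (d - 1) ⊕ Fin (d - 1)) ⊕ Fin 2) ((Fin (d - 1) ⊕ Fin (d - 1)) ⊕ Fin 2) F)) ≤ W) ↔ r = 2 := by
  subst hp
  have hab' : Aniso a b := hab
  have hrp : r.Prime := Fact.out
  have hQP := isQP_minus (k := d - 1) hab'
  haveI : Nonempty (MI (d - 1)) := ⟨Sum.inr 0⟩
  obtain ⟨v₀, hv₀⟩ := C2.exists_nonsing (qfMinus (d - 1) F a b)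
    (OSemi.qfMinus_nondeg (d - 1) a b hab')
  constructor
  · intro H
    by_contra hr2
    have hdvd := dvd_of_dvd_points hab' r hrp hr2 hrΩ
    obtain ⟨t, htΩ, htr, hns, hnf⟩ := partC (F := F) (k := d - 1) hab' r hr2 hdvd
    obtain ⟨W, ⟨hW1, w, hwW, hQw⟩, hfix⟩ := H (t : GL (MI (d - 1)) F)
      (Subgroup.mem_map.mpr ⟨t, htΩ, rfl⟩)
      ⟨1, by
        rw [Units.val_pow_eq_pow_val, one_smul]
        exact htr⟩ hns
    exact hnf w hQw (fixed_vec_of_fixed_point hQP t W hW1 w hwW hQw hfix)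
  · rintro rfl x hx ⟨z, hz⟩ _
    obtain ⟨t, htΩ, rfl⟩ := Subgroup.mem_map.mp hx
    have ht2 : mat t * mat t = 1 := sq_of_scalar_sq hQP v₀ hv₀ t z (by
      rw [← hz, Units.val_pow_eq_pow_val, pow_two]
      rfl)
    obtain ⟨v, hv, hfix⟩ := Cfsg.Agent.S2598.exists_fixed_nonsing hab' t ht2
    exact fixed_point_of_fixed_vec hQP (mat t) v hv hfix

end Cfsg.Agent.S5986
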