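import Cfsg.Statements.S5987
import Cfsg.Agent.Lib.Helper13.OTS.Defs
import Cfsg.Agent.Lib.Helper13.OTSTSC
import Cfsg.Agent.Lib.helper4.OTSSTDP
import Cfsg.Agent.Lib.helper7.OTSODDSUFF
import Cfsg.Agent.Lib.helper7.OTSODDNEC
import Cfsg.Agent.Lib.helper7.OTSCOUNTDVD
import Cfsg.Agent.Lib.helper2.OTSTWOSUFFM
import Cfsg.Agent.Lib.Helper26.OTSTWONECM

set_option autoImplicit false
open scoped MatrixGroups
open Cfsg

namespace Cfsg.Agent.S5987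

open Cfsg.Agent.Lib.Helper13.OTS


/-- Elements of prime order of PΩ⁻_n(q) with no fixed totally singular `m`-space. Here `T = PΩ⁻_n(F)`, `n = 2d ≥ 8`, realised through `Ω⁻_n(q)`, the commutator subgroup of the isometry group of `Q = Σ_{i<d−1} xᵢyᵢ + z₁² + a z₁z₂ + b z₂²` with `z₁² + a z₁z₂ + b z₂²` anisotropic, over the field `F` with `q` elements; an element of `T` of prime order `r` is an element `x` of `Ω⁻_n(q)` with `x^r` scalar and `x` not scalar. Let `1 ≤ m ≤ d − 1` and let `r` be a prime dividing the number of totally singular `m`-spaces (subspaces of dimension `m` on which `Q` vanishes); for `r ≠ p` let `i` be the multiplicative order of `q` modulo `r`, `c = i` for `i` even and `c = 2i` for `i` odd, and write `k = n mod c`, `ℓ = m mod i`, `n' = ⌊n/i⌋`, `m' = ⌊m/i⌋`, `t = (r−1)/i`. Then every element of `T` of order `r` fixes some totally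 singular `m`-space if and only if one of: (i) `r = 2 ≠ p` and (`n ≡ 0 (mod 4)`, or `m` is even, or `q ≢ 7 (mod 8)`); (ii) `r ≠ p` odd, `i` odd, `i ≤ m` and (`k = 0` or `k > 2ℓ`); (iii) `r ≠ p` odd, `i` even, `i ≤ m`, `n' − 2m' ≥ t`, and one of: (a) `i ≥ 2ℓ`, `k = 0`, `n/i` even and `n' − 2m' > t` (all four); (b) `k ≥ 2ℓ` and `n'` odd; (c) `k > 2ℓ` and `n'` even. -/
theorem result {F : Type*} [Field F] [Fintype F] {p : ℕ} [Fact p.Prime] [CharP F p] {q : ℕ} (hq : Fintype.card F = q)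
    (d m : ℕ) (hd : 4 ≤ d) (hm : 1 ≤ m) (hmd : m + 1 ≤ d) (a b : F) (hab : ∀ x y : F, x ^ 2 + a * x * y + b * y ^ 2 = 0 → x = 0 ∧ y = 0)
    (r : ℕ) [Fact r.Prime]
    (hrΩ : r ∣ Nat.card {W : Submodule F ((Fin (d - 1) ⊕ Fin (d - 1)) ⊕ Fin 2 → F) // Module.finrank F ↥W = m ∧ Cfsg.Geo.IsTotallySingularQuad (Cfsg.quadFormMinus (d - 1) F a b) W})
    (i c : ℕ) (hi : i = orderOf (q : ZMod r)) (hc : c = if Even i then i else 2 * i) :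
    (∀ x : GL ((Fin (d - 1) ⊕ Fin (d - 1)) ⊕ Fin 2) F, x ∈ Cfsg.Geo.omegaGL (Cfsg.quadFormMinus (d - 1) F a b) →
      (∃ z : F, ((x ^ r : GL ((Fin (d - 1) ⊕ Fin (d - 1)) ⊕ Fin 2) F) : Matrix ((Fin (d - 1) ⊕ Fin (d - 1)) ⊕ Fin 2) ((Fin (d - 1) ⊕ Fin (d - 1)) ⊕ Fin 2) F) = z • (1 : Matrix ((Fin (d - 1) ⊕ Fin (d - 1)) ⊕ Fin 2) ((Fin (d - 1) ⊕ Fin (d - 1)) ⊕ Fin 2) F)) →
      (∀ z : F, (x : Matrix ((Fin (d - 1) ⊕ Fin (d - 1)) ⊕ Fin 2) ((Fin (d - 1) ⊕ Fin (d - 1)) ⊕ Fin 2) F) ≠ z • (1 : Matrix ((Fin (d - 1) ⊕ Fin (d - 1)) ⊕ Fin 2) ((Fin (d - 1) ⊕ Fin (d - 1)) ⊕ Fin 2) F)) →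
      ∃ W : Submodule F ((Fin (d - 1) ⊕ Fin (d - 1)) ⊕ Fin 2 → F), (Module.finrank F ↥W = m ∧ Cfsg.Geo.IsTotallySingularQuad (Cfsg.quadFormMinus (d - 1) F a b) W) ∧ W.map (Matrix.toLin' (x : Matrix ((Fin (d - 1) ⊕ Fin (d - 1)) ⊕ Fin 2) ((Fin (d - 1) ⊕ Fin (d - 1)) ⊕ Fin 2) F)) ≤ W) ↔
    ((r = 2 ∧ p ≠ 2 ∧ (Even d ∨ Even m ∨ q % 8 ≠ 7)) ∨
     (r ≠ p ∧ 2 < r ∧ Odd i ∧ i ≤ m ∧ ((2 * d) % c = 0 ∨ 2 * (m % i) < (2 * d) % c)) ∨
     (r ≠ p ∧ 2 < r ∧ Even i ∧ i ≤ m ∧ (r - 1) / i + 2 * (m / i) ≤ (2 * d) / i ∧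
       ((2 * (m % i) ≤ i ∧ (2 * d) % c = 0 ∧ Even ((2 * d) / i) ∧ (r - 1) / i + 2 * (m / i) < (2 * d) / i) ∨
        (2 * (m % i) ≤ (2 * d) % c ∧ Odd ((2 * d) / i)) ∨
        (2 * (m % i) < (2 * d) % c ∧ Even ((2 * d) / i))))) := by
  subst hq
  have hd1 : 1 ≤ d := by omega
  have hs : QStd (Cfsg.Agent.Lib.Helper16.qfMinus (d - 1) F a b) d (-1) := q_std_minus (F := F) d hd1 a b hab
  have hrΩ' : r ∣ Nat.card (TSq (Cfsg.Agent.Lib.Helper16.qfMinus (d - 1) F a b) m) := hrΩ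
  obtain ⟨hrp, -⟩ := q_count_dvd (Cfsg.Agent.Lib.Helper16.qfMinus (d - 1) F a b) d (-1) hs m hmd r hrΩ'
  have hrpr : r.Prime := Fact.out
  -- reshape the conclusion `(A ∧ B) ∧ C` into `A ∧ B ∧ C`
  have hshape : ∀ x : GL ((Fin (d - 1) ⊕ Fin (d - 1)) ⊕ Fin 2) F,
      (∃ W : Submodule F ((Fin (d - 1) ⊕ Fin (d - 1)) ⊕ Fin 2 → F), (Module.finrank F ↥W = m ∧ Cfsg.Geo.IsTotallySingularQuad (Cfsg.quadFormMinus (d - 1) F a b) W) ∧ W.map (Matrix.toLin' (x : Matrix ((Fin (d - 1) ⊕ Fin (d - 1)) ⊕ Fin 2) ((Fin (d - 1) ⊕ Fin (d - 1)) ⊕ Fin 2) F)) ≤ W) ↔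
      (∃ W : Submodule F ((Fin (d - 1) ⊕ Fin (d - 1)) ⊕ Fin 2 → F), Module.finrank F ↥W = m ∧ (∀ w ∈ W, Cfsg.Agent.Lib.Helper16.qfMinus (d - 1) F a b w = 0) ∧ W.map (Matrix.toLin' (x : Matrix ((Fin (d - 1) ⊕ Fin (d - 1)) ⊕ Fin 2) ((Fin (d - 1) ⊕ Fin (d - 1)) ⊕ Fin 2) F)) ≤ W) := by
    intro x
    constructor
    · rintro ⟨W, ⟨h1, h2⟩, h3⟩
      exact ⟨W, h1, h2, h3⟩
    · rintro ⟨W, h1, h2, h3⟩
      exact ⟨W, ⟨h1, h2⟩, h3⟩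
  by_cases hr2 : r = 2
  · subst hr2
    have hp2 : p ≠ 2 := fun h => hrp h.symm
    constructor
    · intro hall
      refine Or.inl ⟨rfl, hp2, q_two_nec_minus_std d hd m a b hab ?_⟩
      intro x hx hxr hns
      exact (hshape x).1 (hall x hx hxr hns)
    · rintro (⟨-, -, hC⟩ | ⟨-, h2, -⟩ | ⟨-, h2, -⟩)
      · intro x hx hxr hns
        exact (hshape x).2 (q_two_suff_minus hp2 (Cfsg.Agent.Lib.Helper16.qfMinus (d - 1) F a b) d hs hd1 m hmd hC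
          x hx hxr hns)
      · omega
      · omega
  · have h2r : 2 < r := lt_of_le_of_ne hrpr.two_le (Ne.symm hr2)
    constructor
    · intro hall
      obtain ⟨-, hT⟩ := q_odd_nec (Cfsg.Agent.Lib.Helper16.qfMinus (d - 1) F a b) d (-1) hs hd m hm hmd r hr2 hrΩ'
        i c hi hc (fun x hx hxr hns => (hshape x).1 (hall x hx hxr hns))
      rw [tsc_iff_87 i c d m r hc] at hT
      rcases hT with h | h
      · exact Or.inr (Or.inl ⟨hrp, h2r, h⟩)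
      · exact Or.inr (Or.inr ⟨hrp, h2r, h⟩)
    · intro h x hx hxr hns
      have hT : TSC i c d m ((r - 1) / i) (-1) := by
        rw [tsc_iff_87 i c d m r hc]
        rcases h with ⟨h2, -⟩ | ⟨-, -, h⟩ | ⟨-, -, h⟩
        · exact absurd h2 hr2
        · exact Or.inl h
        · exact Or.inr h
      exact (hshape x).2 (q_odd_suff (Cfsg.Agent.Lib.Helper16.qfMinus (d - 1) F a b) d (-1) hs hd1 m hmd r hrp hr2
        i c hi hc hT x hx hxr hns)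

universe u
example : type_of% @result.{u} = type_of% @Cfsg.CfsgFrozen.S5987.{u} := rfl

end Cfsg.Agent.S5987
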