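import Cfsg.Statements.S5988
import Cfsg.Agent.Lib.Helper24.OPEFROZEN
import Cfsg.Agent.Lib.helper15.OPETWONEC88
import Cfsg.Agent.Lib.helper6.OPEPNEC88
import Cfsg.Agent.Lib.Helper25.OPEODDSUFF
import Cfsg.Agent.Lib.helper6.OPEODDNEC
import Cfsg.Agent.Lib.Helper26.OPECNTM

set_option autoImplicit false
open scoped MatrixGroups
open Cfsg

namespace Cfsg.Agent.S5988

open Cfsg.Agent.Lib.Helper18.OPE

theorem result {F : Type*} [Field F] [Fintype F] {p : ℕ} [Fact p.Prime] [CharP F p] {q : ℕ} (hq : Fintype.card F = q)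
    (d m : ℕ) (hd : 4 ≤ d) (hm : 2 ≤ m) (hme : Even m) (hmd : m < d)
    (r : ℕ) [Fact r.Prime]
    (hrΩ : r ∣ Nat.card {W : Submodule F (Fin d ⊕ Fin d → F) // Module.finrank F ↥W = m ∧ Cfsg.Geo.IsNondegenerateOn (QuadraticMap.polar (Cfsg.quadFormPlus d F)) W ∧ ¬ Cfsg.Geo.IsPlusTypeOn (Cfsg.quadFormPlus d F) W})
    (i c : ℕ) (hi : i = orderOf (q : ZMod r)) (hc : c = if Even i then i else 2 * i) :
    (∀ x : GL (Fin d ⊕ Fin d) F, x ∈ Cfsg.Geo.omegaGL (Cfsg.quadFormPlus d F) →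
      (∃ z : F, ((x ^ r : GL (Fin d ⊕ Fin d) F) : Matrix (Fin d ⊕ Fin d) (Fin d ⊕ Fin d) F) = z • (1 : Matrix (Fin d ⊕ Fin d) (Fin d ⊕ Fin d) F)) →
      (∀ z : F, (x : Matrix (Fin d ⊕ Fin d) (Fin d ⊕ Fin d) F) ≠ z • (1 : Matrix (Fin d ⊕ Fin d) (Fin d ⊕ Fin d) F)) →
      ∃ W : Submodule F (Fin d ⊕ Fin d → F), (Module.finrank F ↥W = m ∧ Cfsg.Geo.IsNondegenerateOn (QuadraticMap.polar (Cfsg.quadFormPlus d F)) W ∧ ¬ Cfsg.Geo.IsPlusTypeOn (Cfsg.quadFormPlus d F) W) ∧ W.map (Matrix.toLin' (x : Matrix (Fin d ⊕ Fin d) (Fin d ⊕ Fin d) F)) ≤ W) ↔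
    ((r = 2 ∧ p ≠ 2 ∧ ((Even d ∧ q % 4 = 3 ∧ m % 4 = 2) ∨ (Odd d ∧ q % 8 ≠ 1))) ∨
     (r ≠ p ∧ 2 < r ∧ Odd i ∧ c ≤ m ∧ 0 < m % c ∧ m % c < (2 * d) % c) ∨
     (r ≠ p ∧ 2 < r ∧ Even i ∧
       (((2 * d) % c = 0 ∧ (Odd ((2 * d) / i) ∨ (m % c = 0 ∧ Odd (m / i)))) ∨
        (i ≤ m ∧ ((0 < m % c ∧ m % c < (2 * d) % c) ∨
                  (0 < m % c ∧ m % c = (2 * d) % c ∧ Odd ((2 * d + m - 2 * ((2 * d) % c)) / i)) ∨
                  (m % c = 0 ∧ 0 < (2 * d) % c ∧ Odd (m / i))))))) := by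
  subst hq
  have hL : (∀ x : GL (Fin d ⊕ Fin d) F, x ∈ Cfsg.Geo.omegaGL (Cfsg.quadFormPlus d F) →
      (∃ z : F, ((x ^ r : GL (Fin d ⊕ Fin d) F) : Matrix (Fin d ⊕ Fin d) (Fin d ⊕ Fin d) F) = z • (1 : Matrix (Fin d ⊕ Fin d) (Fin d ⊕ Fin d) F)) →
      (∀ z : F, (x : Matrix (Fin d ⊕ Fin d) (Fin d ⊕ Fin d) F) ≠ z • (1 : Matrix (Fin d ⊕ Fin d) (Fin d ⊕ Fin d) F)) →
      ∃ W : Submodule F (Fin d ⊕ Fin d → F), (Module.finrank F ↥W = m ∧ Cfsg.Geo.IsNondegenerateOn (QuadraticMap.polar (Cfsg.quadFormPlus d F)) W ∧ ¬ Cfsg.Geo.IsPlusTypeOn (Cfsg.quadFormPlus d F) W) ∧ W.map (Matrix.toLin' (x : Matrix (Fin d ⊕ Fin d) (Fin d ⊕ Fin d) F)) ≤ W) ↔ AllFix F d m (-1) r := by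
    unfold AllFix Cfsg.Agent.Lib.Helper18.OPE.Fix
    refine forall_congr' fun x => imp_congr_right fun _ => imp_congr_right fun _ =>
      imp_congr_right fun _ => exists_congr fun W => ?_
    rw [(frozen_iff d m hme W).2]
    simp only [and_assoc]
  rw [hL]
  have hrpr : r.Prime := Fact.out
  constructor
  · intro hall
    by_cases hrp : r = p
    · subst hrp
      exact absurd hall (p_nec_88 d m hd hme)
    by_cases h2 : r = 2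
    · subst h2
      have hp2 : p ≠ 2 := fun h => hrp h.symm
      exact Or.inl ⟨rfl, hp2, two_nec_88 hp2 d m hd hm hme hmd hall⟩
    · have h2r : 2 < r := lt_of_le_of_ne hrpr.two_le (Ne.symm h2)
      have hCE : CE i d (m / 2) := ell_count_ce d m hm hme hmd r hrp h2 i hi hrΩ
      have hRR := odd_nec d m hd hm hme hmd r hrp h2 i c hi hc (-1) (Or.inr rfl)
        (Or.inr ⟨rfl, hCE⟩) hall
      rcases hRR with ⟨h, -⟩ | ⟨-, hR⟩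
      · norm_num at h
      · right
        rcases hR with ⟨h1, h2', h3, h4⟩ | ⟨h1, h2'⟩
        · exact Or.inl ⟨hrp, h2r, h1, h2', h3, h4⟩
        · exact Or.inr ⟨hrp, h2r, h1, h2'⟩
  · rintro (⟨rfl, hp2, hcond⟩ | ⟨hrp, h2r, h1, h2', h3, h4⟩ | ⟨hrp, h2r, h1, h2'⟩)
    · exact two_suff_88 hp2 d m hd hm hme hmd hcond
    · exact odd_suff d m hd hm hme hmd r hrp (by omega) i c hi hc (-1) (Or.inr rfl)
        (Or.inr ⟨rfl, Or.inl ⟨h1, h2', h3, h4⟩⟩)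
    · exact odd_suff d m hd hm hme hmd r hrp (by omega) i c hi hc (-1) (Or.inr rfl)
        (Or.inr ⟨rfl, Or.inr ⟨h1, h2'⟩⟩)
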