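import Cfsg.Statements.S5989
import Cfsg.Agent.Lib.Helper1.ODN.Defs
import Cfsg.Agent.Lib.helper14.ODNTWOSTD
import Cfsg.Agent.Lib.helper14.ODNEXPLUSEVEN
import Cfsg.Agent.Lib.helper14.ODNEXPLUSODD
import Cfsg.Agent.Lib.helper14.ODNTWONEC
import Cfsg.Agent.Lib.Helper1.ODNUNIPPLUS
import Cfsg.Agent.Lib.Helper24.ODNODC89
import Cfsg.Agent.Lib.Helper24.ODNSUFFSTD
import Cfsg.Agent.Lib.Helper1.ODNMAINNEC
import Cfsg.Agent.Lib.Helper16.SpinG
import Cfsg.Agent.Lib.Helper16.PlusFam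
import Cfsg.Agent.Lib.Helper16.OCnt2

set_option autoImplicit false
open scoped MatrixGroups
open Cfsg

namespace Cfsg.Agent.S5989

open Module Cfsg.Agent.Lib.Helper1.ODN Cfsg.Agent.Lib.Helper16.OSemi

theorem result {F : Type*} [Field F] [Fintype F] {p : ℕ} [Fact p.Prime] [CharP F p] {q : ℕ} (hq : Fintype.card F = q)
    (hodd : Odd q) (d m : ℕ) (hd : 4 ≤ d) (hm : Odd m) (hmd : m < d)
    (W₀ : Submodule F (Fin d ⊕ Fin d → F)) (hW₀ : Module.finrank F ↥W₀ = m ∧ Cfsg.Geo.IsNondegenerateOn (QuadraticMap.polar (Cfsg.quadFormPlus d F)) W₀)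
    (r : ℕ) [Fact r.Prime]
    (hrΩ : r ∣ Nat.card {W : Submodule F (Fin d ⊕ Fin d → F) // Module.finrank F ↥W = m ∧ Cfsg.Geo.IsNondegenerateOn (QuadraticMap.polar (Cfsg.quadFormPlus d F)) W ∧ Cfsg.Geo.AreIsometricFor (Cfsg.quadFormPlus d F) W W₀})
    (i c : ℕ) (hi : i = orderOf (q : ZMod r)) (hc : c = if Even i then i else 2 * i) :
    (∀ x : GL (Fin d ⊕ Fin d) F, x ∈ Cfsg.Geo.omegaGL (Cfsg.quadFormPlus d F) →
      (∃ z : F, ((x ^ r : GL (Fin d ⊕ Fin d) F) : Matrix (Fin d ⊕ Fin d) (Fin d ⊕ Fin d) F) = z • (1 : Matrix (Fin d ⊕ Fin d) (Fin d ⊕ Fin d) F)) →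
      (∀ z : F, (x : Matrix (Fin d ⊕ Fin d) (Fin d ⊕ Fin d) F) ≠ z • (1 : Matrix (Fin d ⊕ Fin d) (Fin d ⊕ Fin d) F)) →
      ∃ W : Submodule F (Fin d ⊕ Fin d → F), (Module.finrank F ↥W = m ∧ Cfsg.Geo.IsNondegenerateOn (QuadraticMap.polar (Cfsg.quadFormPlus d F)) W ∧ Cfsg.Geo.AreIsometricFor (Cfsg.quadFormPlus d F) W W₀) ∧ W.map (Matrix.toLin' (x : Matrix (Fin d ⊕ Fin d) (Fin d ⊕ Fin d) F)) ≤ W) ↔
    ((r = 2 ∧ Odd d ∧ q % 8 ≠ 1) ∨
     (r ≠ p ∧ 2 < r ∧ Odd i ∧ c ≤ m ∧ 0 < m % c ∧ m % c < (2 * d) % c) ∨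
     (r ≠ p ∧ 2 < r ∧ Even i ∧ (((2 * d) % c = 0 ∧ Odd ((2 * d) / i)) ∨ (i ≤ m ∧ 0 < m % c ∧ m % c < (2 * d) % c)))) := by
  classical
  subst hq
  have hp := (Fact.out : p.Prime)
  have hr := (Fact.out : r.Prime)
  have hpq : p ∣ Fintype.card F := by
    have h0 : ((Fintype.card F : ℕ) : F) = 0 := Nat.cast_card_eq_zero F
    exact (CharP.cast_eq_zero_iff F p _).mp h0
  have hp2 : p ≠ 2 := by
    rintro rfl
    obtain ⟨t, ht⟩ := hodd
    omega
  have h2 : (2 : F) ≠ 0 := by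
    intro h
    have h3 : ((2 : ℕ) : F) = 0 := by exact_mod_cast h
    have h4 := (CharP.cast_eq_zero_iff F p 2).mp h3
    have h5 := (Nat.prime_dvd_prime_iff_eq hp Nat.prime_two).mp h4
    exact hp2 h5
  have hcard : Fintype.card (Fin d ⊕ Fin d) = 2 * d := by
    simp
    omega
  set Q := Cfsg.Agent.Lib.Helper16.qfPlus d F with hQdef
  have hQcoe : ⇑Q = Cfsg.quadFormPlus d F := rfl
  have hQnd : (QuadraticMap.polarBilin Q).Nondegenerate := Cfsg.Agent.Lib.Helper16.qfPlus_nondeg d F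
  have htyQ : IsType (⇑Q) d 1 := isType_plus d
  by_cases hr2 : r = 2
  · subst hr2
    have htwo := odn_two_std hodd Q hQnd d m hd hcard hm hmd W₀ hW₀
    rw [hQcoe] at htwo
    rw [htwo]
    constructor
    · intro hno
      left
      refine ⟨rfl, ?_, ?_⟩
      · by_contra hde
        rw [Nat.not_odd_iff_even] at hde
        exact hno (odn_ex_plus_even h2 d hde)
      · intro h81
        exact hno (odn_ex_plus_odd h81 d)
    · rintro (⟨-, hdo, hq8⟩ | ⟨-, h22, -⟩ | ⟨-, h22, -⟩)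
      · intro hex
        rcases odn_two_nec hodd Q hQnd d (by omega) hcard 1 (Or.inl rfl) htyQ hex with ⟨-, hde | h81⟩ | ⟨h1, -⟩
        · exact (Nat.not_even_iff_odd.mpr hdo) hde
        · exact hq8 h81
        · norm_num at h1
      · omega
      · omega
  · have h2r : 2 < r := by
      have := hr.two_le
      omega
    by_cases hrp : r = p
    · subst hrp
      constructor
      · intro hall
        exfalso
        obtain ⟨x, hxΩ, hxp, hns, hno⟩ := odn_unip_plus (p := r) hodd d m hd hm hmd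
        obtain ⟨W, ⟨hWm, hWnd, -⟩, hxW⟩ := hall x hxΩ ⟨1, by rw [hxp]; simp⟩ hns
        exact hno W hWm hWnd hxW
      · rintro (⟨h, -⟩ | ⟨h, -⟩ | ⟨h, -⟩)
        · exact absurd h hr2
        · exact absurd rfl h
        · exact absurd rfl h
    · have hi' : i = orderOf ((Fintype.card F : ℕ) : ZMod r) := hi
      have hi1 : 1 ≤ i := by
        rw [hi']
        apply Nat.one_le_iff_ne_zero.mpr
        intro h0
        rw [orderOf_eq_zero_iff] at h0
        apply h0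
        have hcop : Nat.Coprime (Fintype.card F) r := by
          obtain ⟨⟨n, hn⟩, -, hn2⟩ := FiniteField.card F p
          rw [hn2]
          apply Nat.Coprime.pow_left
          exact (Nat.coprime_primes hp hr).mpr (Ne.symm hrp)
        exact (ZMod.unitOfCoprime _ hcop).isUnit.isOfFinOrder
      rw [← odc_iff_89 i c d m r p (Fintype.card F) hi1 hc h2r hrp hm]
      constructor
      · intro hall
        have h := odnmain_nec_std hodd Q hQnd d m hd hcard 1 (Or.inl rfl) htyQ hm hmd W₀ hW₀ r hrp hr2 i c hi' hc hrΩ hall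
        exact h
      · intro hODC x hxΩ hz hns
        exact odn_suff_std hodd Q hQnd d m hd hcard 1 (Or.inl rfl) htyQ hm hmd W₀ hW₀ r hrp hr2 i c hi' hc hODC x hxΩ hz hns

end Cfsg.Agent.S5989
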