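import Cfsg.Statements.S5991
import Cfsg.Agent.Lib.Helper1.ODN.Defs
import Cfsg.Agent.Lib.helper14.ODNTWOSTD
import Cfsg.Agent.Lib.helper14.ODNEXMINUS
import Cfsg.Agent.Lib.helper14.ODNTWONEC
import Cfsg.Agent.Lib.Helper1.ODNUNIPPLUS
import Cfsg.Agent.Lib.Helper1.ODNUNIPMINUSEVEN
import Cfsg.Agent.Lib.Helper24.ODNODC91
import Cfsg.Agent.Lib.Helper24.ODNSUFFSTD
import Cfsg.Agent.Lib.Helper1.ODNMAINNEC
import Cfsg.Agent.Lib.Helper16.SpinG2
import Cfsg.Agent.Lib.Helper16.OHelp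
import Cfsg.Agent.Lib.Helper16.OCnt2

set_option autoImplicit false
open scoped MatrixGroups
open Cfsg

namespace Cfsg.Agent.S5991

open Module Cfsg.Agent.Lib.Helper1.ODN Cfsg.Agent.Lib.Helper16.OSemi

theorem result {F : Type*} [Field F] [Fintype F] {p : ℕ} [Fact p.Prime] [CharP F p] {q : ℕ} (hq : Fintype.card F = q)
    (hodd : Odd q) (d m : ℕ) (hd : 4 ≤ d) (hm : Odd m) (hmd : m < d) (a b : F) (hab : ∀ x y : F, x ^ 2 + a * x * y + b * y ^ 2 = 0 → x = 0 ∧ y = 0)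
    (W₀ : Submodule F ((Fin (d - 1) ⊕ Fin (d - 1)) ⊕ Fin 2 → F)) (hW₀ : Module.finrank F ↥W₀ = m ∧ Cfsg.Geo.IsNondegenerateOn (QuadraticMap.polar (Cfsg.quadFormMinus (d - 1) F a b)) W₀)
    (r : ℕ) [Fact r.Prime]
    (hrΩ : r ∣ Nat.card {W : Submodule F ((Fin (d - 1) ⊕ Fin (d - 1)) ⊕ Fin 2 → F) // Module.finrank F ↥W = m ∧ Cfsg.Geo.IsNondegenerateOn (QuadraticMap.polar (Cfsg.quadFormMinus (d - 1) F a b)) W ∧ Cfsg.Geo.AreIsometricFor (Cfsg.quadFormMinus (d - 1) F a b) W W₀})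
    (i c : ℕ) (hi : i = orderOf (q : ZMod r)) (hc : c = if Even i then i else 2 * i) :
    (∀ x : GL ((Fin (d - 1) ⊕ Fin (d - 1)) ⊕ Fin 2) F, x ∈ Cfsg.Geo.omegaGL (Cfsg.quadFormMinus (d - 1) F a b) →
      (∃ z : F, ((x ^ r : GL ((Fin (d - 1) ⊕ Fin (d - 1)) ⊕ Fin 2) F) : Matrix ((Fin (d - 1) ⊕ Fin (d - 1)) ⊕ Fin 2) ((Fin (d - 1) ⊕ Fin (d - 1)) ⊕ Fin 2) F) = z • (1 : Matrix ((Fin (d - 1) ⊕ Fin (d - 1)) ⊕ Fin 2) ((Fin (d - 1) ⊕ Fin (d - 1)) ⊕ Fin 2) F)) →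
      (∀ z : F, (x : Matrix ((Fin (d - 1) ⊕ Fin (d - 1)) ⊕ Fin 2) ((Fin (d - 1) ⊕ Fin (d - 1)) ⊕ Fin 2) F) ≠ z • (1 : Matrix ((Fin (d - 1) ⊕ Fin (d - 1)) ⊕ Fin 2) ((Fin (d - 1) ⊕ Fin (d - 1)) ⊕ Fin 2) F)) →
      ∃ W : Submodule F ((Fin (d - 1) ⊕ Fin (d - 1)) ⊕ Fin 2 → F), (Module.finrank F ↥W = m ∧ Cfsg.Geo.IsNondegenerateOn (QuadraticMap.polar (Cfsg.quadFormMinus (d - 1) F a b)) W ∧ Cfsg.Geo.AreIsometricFor (Cfsg.quadFormMinus (d - 1) F a b) W W₀) ∧ W.map (Matrix.toLin' (x : Matrix ((Fin (d - 1) ⊕ Fin (d - 1)) ⊕ Fin 2) ((Fin (d - 1) ⊕ Fin (d - 1)) ⊕ Fin 2) F)) ≤ W) ↔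
    ((r = 2 ∧ (Even d ∨ q % 8 ≠ 7)) ∨
     (r ≠ p ∧ 2 < r ∧ Odd i ∧ ((2 * d) % c = 0 ∨ (c ≤ m ∧ 0 < m % c ∧ m % c < (2 * d) % c))) ∨
     (r ≠ p ∧ 2 < r ∧ Even i ∧ (((2 * d) % c = 0 ∧ Even ((2 * d) / i)) ∨ (0 < (2 * d) % c ∧ i ≤ m ∧ 0 < m % c ∧ m % c < (2 * d) % c)))) := by
  classical
  subst hq
  have hp := (Fact.out : p.Prime)
  have hr := (Fact.out : r.Prime)
  have hp2 : p ≠ 2 := by
    rintro rfl
    have hpq : 2 ∣ Fintype.card F := by
      have h0 : ((Fintype.card F : ℕ) : F) = 0 := Nat.cast_card_eq_zero F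
      exact (CharP.cast_eq_zero_iff F 2 _).mp h0
    obtain ⟨t, ht⟩ := hodd
    omega
  have h2 : (2 : F) ≠ 0 := by
    intro h
    have h3 : ((2 : ℕ) : F) = 0 := by exact_mod_cast h
    have h4 := (CharP.cast_eq_zero_iff F p 2).mp h3
    have h5 := (Nat.prime_dvd_prime_iff_eq hp Nat.prime_two).mp h4
    exact hp2 h5
  have hcard : Fintype.card ((Fin (d - 1) ⊕ Fin (d - 1)) ⊕ Fin 2) = 2 * d := by
    simp
    omega
  set Q := Cfsg.Agent.Lib.Helper16.qfMinus (d - 1) F a b with hQdef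
  have hQcoe : ⇑Q = Cfsg.quadFormMinus (d - 1) F a b := Cfsg.Agent.Lib.Helper16.qfMinus_coe (d - 1) F a b
  have hQnd : (QuadraticMap.polarBilin Q).Nondegenerate := Cfsg.Agent.Lib.Helper16.OSemi.qfMinus_nondeg (d - 1) a b hab
  have htyQ : IsType (⇑Q) d (-1) := by
    have h := isType_minus (d - 1) a b hab
    rw [show d - 1 + 1 = d by omega] at h
    rw [hQcoe]
    exact h
  by_cases hr2 : r = 2
  · subst hr2
    have htwo := odn_two_std hodd Q hQnd d m hd hcard hm hmd W₀ (by rw [hQcoe]; exact hW₀)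
    rw [hQcoe] at htwo
    rw [htwo]
    constructor
    · intro hno
      left
      refine ⟨rfl, ?_⟩
      by_contra hcon
      push Not at hcon
      obtain ⟨hdo, hq7⟩ := hcon
      rw [Nat.not_even_iff_odd] at hdo
      exact hno (odn_ex_minus hq7 d hdo a b hab)
    · rintro (⟨-, hcase⟩ | ⟨-, h22, -⟩ | ⟨-, h22, -⟩)
      · intro hex
        rw [← hQcoe] at hex
        rcases odn_two_nec hodd Q hQnd d (by omega) hcard (-1) (Or.inr rfl) htyQ hex with ⟨h1, -⟩ | ⟨-, hdo, hq7⟩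
        · norm_num at h1
        · rcases hcase with hde | hq
          · exact (Nat.not_even_iff_odd.mpr hdo) hde
          · exact hq hq7
      · omega
      · omega
  · have h2r : 2 < r := by
      have := hr.two_le
      omega
    by_cases hrp : r = p
    · subst hrp
      constructor
      · intro hall
        exfalso
        rcases Nat.even_or_odd d with hde | hdo
        · obtain ⟨x, hxΩ, hxp, hns, hno⟩ := odn_unip_minus_even (p := r) hodd d m hd hde hm hmd a b hab W₀ hW₀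
          obtain ⟨W, hW, hxW⟩ := hall x hxΩ ⟨1, by rw [hxp]; simp⟩ hns
          exact hno W hW hxW
        · obtain ⟨x, hxΩ, hxp, hns, hno⟩ := odn_unip_minus_odd (p := r) hodd d m hd hdo hm hmd a b hab
          obtain ⟨W, ⟨hWm, hWnd, -⟩, hxW⟩ := hall x hxΩ ⟨1, by rw [hxp]; simp⟩ hns
          exact hno W hWm hWnd hxW
      · rintro (⟨h, -⟩ | ⟨h, -⟩ | ⟨h, -⟩)
        · exact absurd h hr2
        · exact absurd rfl h
        · exact absurd rfl h
    · have hi' : i = orderOf ((Fintype.card F : ℕ) : ZMod r) := hi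
      have hi1 : 1 ≤ i := by
        rw [hi']
        apply Nat.one_le_iff_ne_zero.mpr
        intro h0
        rw [orderOf_eq_zero_iff] at h0
        apply h0
        have hcop : Nat.Coprime (Fintype.card F) r := by
          obtain ⟨⟨n, hn⟩, -, hn2⟩ := FiniteField.card F p
          rw [hn2]
          apply Nat.Coprime.pow_left
          exact (Nat.coprime_primes hp hr).mpr (Ne.symm hrp)
        exact (ZMod.unitOfCoprime _ hcop).isUnit.isOfFinOrder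
      rw [← odc_iff_91 i c d m r p (Fintype.card F) hi1 hc h2r hrp hm]
      have hW₀' : Module.finrank F ↥W₀ = m ∧ Cfsg.Geo.IsNondegenerateOn (QuadraticMap.polar (⇑Q)) W₀ := by
        rw [hQcoe]; exact hW₀
      constructor
      · intro hall
        exact odnmain_nec_std hodd Q hQnd d m hd hcard (-1) (Or.inr rfl) htyQ hm hmd W₀ hW₀' r hrp hr2 i c hi' hc
          (by rw [hQcoe]; exact hrΩ) (by rw [hQcoe]; exact hall)
      · intro hODC x hxΩ hz hns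
        have := odn_suff_std hodd Q hQnd d m hd hcard (-1) (Or.inr rfl) htyQ hm hmd W₀ hW₀' r hrp hr2 i c hi' hc hODC x
          (by rw [hQcoe]; exact hxΩ) hz hns
        rw [hQcoe] at this
        exact this

end Cfsg.Agent.S5991
example : type_of% @Cfsg.CfsgFrozen.S5991 := @Cfsg.Agent.S5991.result
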