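import Cfsg.Statements.S5993
import Cfsg.Agent.Lib.Helper18.ONE.Defs
import Cfsg.Agent.Lib.Helper11.ONETWOSTD
import Cfsg.Agent.Lib.Helper18.ONENECSTD
import Cfsg.Agent.Lib.Helper18.ONEMAINAUX
import Cfsg.Agent.Lib.helper23.ONEUC92
import Cfsg.Agent.Lib.helper23.ONECNTM
import Cfsg.Agent.Lib.helper4.ONEUNIPEX

set_option autoImplicit false
open scoped MatrixGroups
open Cfsg

namespace Cfsg.Agent.S5993

open Cfsg.Agent.Lib.Helper18.ONE

/-- Elements of prime order of Ω_n(q), nq odd, with no fixed elliptic `m`-space. Here `T = Ω_n(F)`, `n = 2d+1 ≥ 7`, `q` odd, realised as the commutator subgroup of the isometry group of `Q = x₀² + Σ xᵢyᵢ` over the field `F` with `q` elements (trivial centre, so its elements of prime order `r` are used directly); a nondegenerate `m`-space (even `m`) is a subspace on which the polar form of `Q` is nondegenerate; it is hyperbolic if it contains an `m/2`-dimensional subspace on which `Q` vanishes, elliptic otherwise. Let `m` be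 even with `2 ≤ m ≤ n − 1` (no restriction `m < n/2`) and let `r` be a prime dividing the number of elliptic `m`-spaces; for `r ≠ p` let `i` be the multiplicative order of `q` modulo `r`, `c = i` for `i` even and `c = 2i` for `i` odd, and write `k = n mod c`, `ℓ' = m mod c`. Then every element of `T` of order `r` fixes some elliptic `m`-space if and only if `r = 2`, or `r ≠ p` is odd and one of: (i) `i` odd, `c ≤ m` and `k > ℓ' > 0`; (ii) `i` even, `i ≤ m`, `k > ℓ'`, and `m/i` odd whenever `ℓ' = 0`. (For `r = p` there is always an element of order `p` fixing no elliptic `m`-space.) -/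
theorem result {F : Type*} [Field F] [Fintype F] {p : ℕ} [Fact p.Prime] [CharP F p] {q : ℕ} (hq : Fintype.card F = q) (hqodd : Odd q)
    (d m : ℕ) (hd : 3 ≤ d) (hm : 2 ≤ m) (hme : Even m) (hmn : m ≤ 2 * d)
    (r : ℕ) [Fact r.Prime]
    (hrΩ : r ∣ Nat.card {W : Submodule F (Unit ⊕ (Fin d ⊕ Fin d) → F) // Module.finrank F ↥W = m ∧ Cfsg.Geo.IsNondegenerateOn (QuadraticMap.polar (Cfsg.quadFormOdd d F)) W ∧ ¬ Cfsg.Geo.IsPlusTypeOn (Cfsg.quadFormOdd d F) W})
    (i c : ℕ) (hi : i = orderOf (q : ZMod r)) (hc : c = if Even i then i else 2 * i) :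
    (∀ x : GL (Unit ⊕ (Fin d ⊕ Fin d)) F, x ∈ Cfsg.Geo.omegaGL (Cfsg.quadFormOdd d F) → orderOf x = r →
      ∃ W : Submodule F (Unit ⊕ (Fin d ⊕ Fin d) → F), (Module.finrank F ↥W = m ∧ Cfsg.Geo.IsNondegenerateOn (QuadraticMap.polar (Cfsg.quadFormOdd d F)) W ∧ ¬ Cfsg.Geo.IsPlusTypeOn (Cfsg.quadFormOdd d F) W) ∧ W.map (Matrix.toLin' (x : Matrix (Unit ⊕ (Fin d ⊕ Fin d)) (Unit ⊕ (Fin d ⊕ Fin d)) F)) ≤ W) ↔
    (r = 2 ∨
     (r ≠ p ∧ 2 < r ∧ Odd i ∧ c ≤ m ∧ 0 < m % c ∧ m % c < (2 * d + 1) % c) ∨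
     (r ≠ p ∧ 2 < r ∧ Even i ∧ i ≤ m ∧ m % c < (2 * d + 1) % c ∧ (0 < m % c ∨ Odd (m / i)))) := by
  subst hq
  have hr : r.Prime := Fact.out
  have hfty : ∀ W : Submodule F (Unit ⊕ (Fin d ⊕ Fin d) → F),
      FTy d (-1) W ↔ ¬ Cfsg.Geo.IsPlusTypeOn (Cfsg.quadFormOdd d F) W := by
    intro W
    constructor
    · rintro (⟨h, _⟩ | ⟨_, h⟩)
      · exact absurd h (by norm_num)
      · exact h
    · intro h
      exact Or.inr ⟨rfl, h⟩
  by_cases hr2 : r = 2
  · constructor
    · intro _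
      exact Or.inl hr2
    · intro _ x hx hxr
      rw [hr2] at hxr
      obtain ⟨W, h1, h2, h3, h4⟩ :=
        one_two_std hqodd d m hd hm hme hmn (-1) (Or.inr rfl) x hx hxr
      exact ⟨W, ⟨h1, h2, (hfty W).mp h3⟩, h4⟩
  · have h2r : 2 < r := lt_of_le_of_ne hr.two_le (Ne.symm hr2)
    by_cases hrp : r = p
    · constructor
      · intro hall
        exfalso
        obtain ⟨x, hx, hxp, hxW⟩ := unip_ex (p := p) hqodd d hd
        obtain ⟨W, ⟨h1, h2, h3⟩, h4⟩ := hall x hx (by rw [hxp, hrp])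
        exact h3 (hxW W (by rw [h1]; exact hme) h2 h4)
      · rintro (h | ⟨h, _⟩ | ⟨h, _⟩)
        · exact absurd h hr2
        · exact absurd hrp h
        · exact absurd hrp h
    · have hi1 : 1 ≤ i := by
        rw [hi]
        apply orderOf_pos_iff.mpr
        have hu : IsUnit ((Fintype.card F : ℕ) : ZMod r) := by
          rw [ZMod.isUnit_iff_coprime]
          obtain ⟨k, hk⟩ := FiniteField.card F p
          rw [hk.2]
          apply Nat.Coprime.pow_left
          rw [Nat.coprime_primes (Fact.out : p.Prime) hr]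
          exact Ne.symm hrp
        exact hu.isOfFinOrder
      rw [← uc_iff_93 i c d m r p hi1 hc h2r hrp]
      constructor
      · intro hall
        refine one_nec_std hqodd d m hd hm hme hmn r hrp hr2 i c hi hc (-1) (Or.inr rfl)
          (ndm_count_dvd hqodd d m hm hme hmn r hrp hrΩ) ?_
        intro x hx hxr
        obtain ⟨W, ⟨h1, h2, h3⟩, h4⟩ := hall x hx hxr
        exact ⟨W, h1, h2, (hfty W).mpr h3, h4⟩
      · intro hUC x hx hxr
        obtain ⟨W, h1, h2, h3, h4⟩ :=
          onemainaux_suff_std hqodd d m hd hm hme hmn r hrp hr2 i c hi hc (-1) (Or.inr rfl) hUC x hx hxr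
        exact ⟨W, ⟨h1, h2, (hfty W).mp h3⟩, h4⟩

end Cfsg.Agent.S5993
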