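import Cfsg.Statements.S5994
import Cfsg.Agent.Lib.Helper1.OMOMAIN
import Cfsg.Agent.Lib.Helper11.OMONEC
import Cfsg.Agent.Lib.Helper1.OMOREALMINUS
import Cfsg.Agent.Lib.helper2.OMOALLEVEN
import Cfsg.Agent.Lib.Helper1.OMOCOMBEVENh1
import Cfsg.Agent.Lib.Helper19.OMOTYPE2
import Cfsg.Agent.Lib.Helper16.OHelp
import Cfsg.Agent.Lib.Helper16.SpinG2

set_option autoImplicit false
open scoped MatrixGroups
open Cfsg

namespace Cfsg.Agent.S5994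

open Module Cfsg.Agent.Lib.Helper1.OMO Cfsg.Agent.Lib.Helper9.OPH Cfsg.Agent.Lib.helper14.JTa

theorem result {F : Type*} [Field F] [Fintype F] {p : ℕ} [Fact p.Prime] [CharP F p] {q : ℕ} (hq : Fintype.card F = q) (hqodd : Odd q)
    (d m : ℕ) (hd : 4 ≤ d) (hm : 2 ≤ m) (hme : Even m) (hmn : m + 2 ≤ 2 * d) (a b : F) (hab : ∀ x y : F, x ^ 2 + a * x * y + b * y ^ 2 = 0 → x = 0 ∧ y = 0)
    (hpΩ : p ∣ Nat.card {W : Submodule F ((Fin (d - 1) ⊕ Fin (d - 1)) ⊕ Fin 2 → F) // Module.finrank F ↥W = m ∧ Cfsg.Geo.IsNondegenerateOn (QuadraticMap.polar (Cfsg.quadFormMinus (d - 1) F a b)) W ∧ ¬ Cfsg.Geo.IsPlusTypeOn (Cfsg.quadFormMinus (d - 1) F a b) W}) :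
    (∀ x : GL ((Fin (d - 1) ⊕ Fin (d - 1)) ⊕ Fin 2) F, x ∈ Cfsg.Geo.omegaGL (Cfsg.quadFormMinus (d - 1) F a b) →
      (∃ z : F, ((x ^ p : GL ((Fin (d - 1) ⊕ Fin (d - 1)) ⊕ Fin 2) F) : Matrix ((Fin (d - 1) ⊕ Fin (d - 1)) ⊕ Fin 2) ((Fin (d - 1) ⊕ Fin (d - 1)) ⊕ Fin 2) F) = z • (1 : Matrix ((Fin (d - 1) ⊕ Fin (d - 1)) ⊕ Fin 2) ((Fin (d - 1) ⊕ Fin (d - 1)) ⊕ Fin 2) F)) →
      (∀ z : F, (x : Matrix ((Fin (d - 1) ⊕ Fin (d - 1)) ⊕ Fin 2) ((Fin (d - 1) ⊕ Fin (d - 1)) ⊕ Fin 2) F) ≠ z • (1 : Matrix ((Fin (d - 1) ⊕ Fin (d - 1)) ⊕ Fin 2) ((Fin (d - 1) ⊕ Fin (d - 1)) ⊕ Fin 2) F)) →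
      ∃ W : Submodule F ((Fin (d - 1) ⊕ Fin (d - 1)) ⊕ Fin 2 → F), (Module.finrank F ↥W = m ∧ Cfsg.Geo.IsNondegenerateOn (QuadraticMap.polar (Cfsg.quadFormMinus (d - 1) F a b)) W ∧ ¬ Cfsg.Geo.IsPlusTypeOn (Cfsg.quadFormMinus (d - 1) F a b) W) ∧ W.map (Matrix.toLin' (x : Matrix ((Fin (d - 1) ⊕ Fin (d - 1)) ⊕ Fin 2) ((Fin (d - 1) ⊕ Fin (d - 1)) ⊕ Fin 2) F)) ≤ W) →
    ((2 * d) % 4 = m % 4 ∧ (∀ μ : Multiset ℕ, (∀ e ∈ μ, 0 < e ∧ e ≤ p) → (∀ e : ℕ, Even e → Even (μ.count e)) → μ.sum = 2 * d →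
        ∃ ν : Multiset ℕ, ν ≤ μ ∧ ν.sum = m ∧ ∀ e : ℕ, Even e → Even (ν.count e))) := by
  intro hall
  classical
  have hpq : p ∣ q := by
    rw [← hq]
    have h0 : ((Fintype.card F : ℕ) : F) = 0 := Nat.cast_card_eq_zero F
    exact (CharP.cast_eq_zero_iff F p _).mp h0
  have hp2 : p ≠ 2 := by
    rintro rfl
    obtain ⟨t, ht⟩ := hqodd
    omega
  have hp3 : 3 ≤ p := by
    have := (Fact.out : p.Prime).two_le
    omega
  have hpodd : Odd p := (Fact.out : p.Prime).odd_of_ne_two hp2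
  have h2 : (2 : F) ≠ 0 := by
    intro h
    have h3 : ((2 : ℕ) : F) = 0 := by exact_mod_cast h
    have h4 := (CharP.cast_eq_zero_iff F p 2).mp h3
    have h5 := (Nat.prime_dvd_prime_iff_eq (Fact.out : p.Prime) Nat.prime_two).mp h4
    exact hp2 h5
  have h4 : (4 : F) ≠ 0 := by
    have : (4 : F) = 2 * 2 := by norm_num
    rw [this]
    exact mul_ne_zero h2 h2
  have hdisc : b - a ^ 2 / 4 ≠ 0 := by
    intro h
    have hb : b = a ^ 2 / 4 := sub_eq_zero.mp h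
    have h5 := hab (-(a / 2)) 1 (by rw [hb]; field_simp; ring)
    exact one_ne_zero h5.2
  have hcard : Fintype.card ((Fin (d - 1) ⊕ Fin (d - 1)) ⊕ Fin 2) = 2 * d := by
    simp
    omega
  set Q := Cfsg.Agent.Lib.Helper16.qfMinus (d - 1) F a b with hQdef
  have hQcoe : ⇑Q = Cfsg.quadFormMinus (d - 1) F a b := Cfsg.Agent.Lib.Helper16.qfMinus_coe (d - 1) F a b
  have hQnd : (QuadraticMap.polarBilin Q).Nondegenerate := Cfsg.Agent.Lib.Helper16.OSemi.qfMinus_nondeg (d - 1) a b hab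
  have hmodel : ∀ μ : Multiset ℕ, (∀ e ∈ μ, 0 < e ∧ e ≤ p) → (∀ e : ℕ, Even e → Even (μ.count e)) → μ.sum = 2 * d → (∃ e ∈ μ, Odd e) →
      (¬ ∀ e ∈ μ, e = 1) →
      ∃ (x : GL ((Fin (d - 1) ⊕ Fin (d - 1)) ⊕ Fin 2) F) (W : Submodule F ((Fin (d - 1) ⊕ Fin (d - 1)) ⊕ Fin 2 → F)),
        IsUnit (x : Matrix ((Fin (d - 1) ⊕ Fin (d - 1)) ⊕ Fin 2) ((Fin (d - 1) ⊕ Fin (d - 1)) ⊕ Fin 2) F) ∧
        (∀ v, Q ((x : Matrix ((Fin (d - 1) ⊕ Fin (d - 1)) ⊕ Fin 2) ((Fin (d - 1) ⊕ Fin (d - 1)) ⊕ Fin 2) F).mulVec v) = Q v) ∧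
        ((x : Matrix ((Fin (d - 1) ⊕ Fin (d - 1)) ⊕ Fin 2) ((Fin (d - 1) ⊕ Fin (d - 1)) ⊕ Fin 2) F) - 1) ^ p = 0 ∧
        (∀ k, dk (Matrix.toLin' (x : Matrix ((Fin (d - 1) ⊕ Fin (d - 1)) ⊕ Fin 2) ((Fin (d - 1) ⊕ Fin (d - 1)) ⊕ Fin 2) F) - 1) k = ty μ k) ∧
        Module.finrank F ↥W = m ∧ Cfsg.Geo.IsNondegenerateOn (QuadraticMap.polar (⇑Q)) W ∧ ¬ Cfsg.Geo.IsPlusTypeOn (⇑Q) W ∧
        W.map (Matrix.toLin' (x : Matrix ((Fin (d - 1) ⊕ Fin (d - 1)) ⊕ Fin 2) ((Fin (d - 1) ⊕ Fin (d - 1)) ⊕ Fin 2) F)) ≤ W := by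
    intro μ hμp hμe hμs hodd hone
    have hreal : RealQ (⇑Q) μ := by
      rw [hQcoe]
      exact omo_real_minus h2 (d - 1) a b hdisc μ (fun e he => (hμp e he).1) hμe (by omega) hodd
    obtain ⟨x, hxΩ, hxp, hx1, hns, hxiso, hxK, hxty⟩ := omomain_key hp2 h2 Q hQnd (by rw [hcard]; omega) μ hμp
      (by rw [hcard]; exact hμs) hreal hone
    rw [hQcoe] at hxΩ
    obtain ⟨W, ⟨hWm, hWnd, hWplus⟩, hxW⟩ := hall x hxΩ ⟨1, by rw [hxp]; simp⟩ hns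
    refine ⟨x, W, ⟨x, rfl⟩, hxiso, hxK, hxty, hWm, ?_, ?_, hxW⟩
    · rw [hQcoe]; exact hWnd
    · rw [hQcoe]; exact hWplus
  have hkey : ∀ μ : Multiset ℕ, (∀ e ∈ μ, 0 < e ∧ e ≤ p) → (∀ e : ℕ, Even e → Even (μ.count e)) → μ.sum = 2 * d → (∃ e ∈ μ, Odd e) →
        ∃ ν : Multiset ℕ, ν ≤ μ ∧ ν.sum = m ∧ ∀ e : ℕ, Even e → Even (ν.count e) := by
    intro μ hμp hμe hμs hodd
    by_cases hone : ∀ e ∈ μ, e = 1
    · exact omomain_ones μ (2 * d) m hone hμs (by omega)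
    · obtain ⟨x, W, hxu, hxiso, hxK, hxty, hWm, hWnd, -, hxW⟩ := hmodel μ hμp hμe hμs hodd hone
      have hNW : ∀ v ∈ W, (Matrix.toLin' (x : Matrix ((Fin (d - 1) ⊕ Fin (d - 1)) ⊕ Fin 2) ((Fin (d - 1) ⊕ Fin (d - 1)) ⊕ Fin 2) F) - 1) v ∈ W := by
        intro v hv
        rw [LinearMap.sub_apply]
        exact W.sub_mem (hxW (Submodule.mem_map_of_mem hv)) hv
      obtain ⟨ν, hνμ, hνs, hνe, -⟩ := omo_nec h2 Q _ hxu hxiso p hxK μ (fun e he => (hμp e he).1) hxty W hWnd hxW hNW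
      exact ⟨ν, hνμ, by rw [hνs, hWm], hνe⟩
  refine ⟨?_, omo_all_even p (2 * d) m hpodd (by omega) hme hkey⟩
  rcases Nat.even_or_odd d with hde | hdo
  · have h5 := omocombeven_h1_comb_even p d m hp3 (by omega) hde hme hkey
    obtain ⟨t, ht⟩ := hde
    omega
  · obtain ⟨t, ht⟩ := hdo
    have hn : Even (d - 1) := ⟨t, by omega⟩
    have hμp : ∀ e ∈ (Multiset.replicate (d - 1) 2 + {1, 1} : Multiset ℕ), 0 < e ∧ e ≤ p := by
      intro e he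
      rw [Multiset.mem_add] at he
      rcases he with he | he
      · have := Multiset.eq_of_mem_replicate he
        omega
      · have : e = 1 := by simpa using he
        omega
    have hμe : ∀ e : ℕ, Even e → Even ((Multiset.replicate (d - 1) 2 + {1, 1} : Multiset ℕ).count e) := by
      intro e he
      rw [Multiset.count_add, Multiset.count_replicate]
      have h1 : e ≠ 1 := by rintro rfl; exact absurd he (by decide)
      have h6 : Multiset.count e ({1, 1} : Multiset ℕ) = 0 := by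
        rw [Multiset.count_eq_zero]
        intro hmem
        apply h1
        simpa using hmem
      rw [h6]
      split_ifs with h7
      · simpa using hn
      · exact ⟨0, rfl⟩
    have hμs : (Multiset.replicate (d - 1) 2 + {1, 1} : Multiset ℕ).sum = 2 * d := by
      rw [Multiset.sum_add, Multiset.sum_replicate]
      simp
      omega
    have hodd : ∃ e ∈ (Multiset.replicate (d - 1) 2 + {1, 1} : Multiset ℕ), Odd e := ⟨1, by simp, by decide⟩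
    have hone : ¬ ∀ e ∈ (Multiset.replicate (d - 1) 2 + {1, 1} : Multiset ℕ), e = 1 := by
      intro h
      have := h 2 (by
        rw [Multiset.mem_add]
        left
        rw [Multiset.mem_replicate]
        exact ⟨by omega, rfl⟩)
      omega
    obtain ⟨x, W, hxu, hxiso, hxK, hxty, hWm, hWnd, hWnot, hxW⟩ := hmodel _ hμp hμe hμs hodd hone
    have h8 := omo_type2 h2 Q _ hxu hxiso (d - 1) hn (by rw [hcard]; omega) hxty W hWnd hxW (by rw [hWm]; exact hme) hWnot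
    rw [hWm] at h8
    omega

end Cfsg.Agent.S5994
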