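import Cfsg.Statements.S5995
import Cfsg.Agent.Lib.Helper1.OMOMAIN
import Cfsg.Agent.Lib.Helper11.OMONEC
import Cfsg.Agent.Lib.Helper1.OMOREALODD
import Cfsg.Agent.Lib.Helper11.OMOCOMBODD
import Cfsg.Agent.Lib.Helper16.OA25

set_option autoImplicit false
open scoped MatrixGroups
open Cfsg

namespace Cfsg.Agent.S5995

open Module Cfsg.Agent.Lib.Helper1.OMO Cfsg.Agent.Lib.Helper9.OPH Cfsg.Agent.Lib.helper14.JTa

theorem result {F : Type*} [Field F] [Fintype F] {p : ℕ} [Fact p.Prime] [CharP F p] {q : ℕ} (hq : Fintype.card F = q) (hqodd : Odd q)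
    (d m : ℕ) (hd : 3 ≤ d) (hm : 2 ≤ m) (hme : Even m) (hmn : m ≤ 2 * d)
    (hpΩ : p ∣ Nat.card {W : Submodule F (Unit ⊕ (Fin d ⊕ Fin d) → F) // Module.finrank F ↥W = m ∧ Cfsg.Geo.IsNondegenerateOn (QuadraticMap.polar (Cfsg.quadFormOdd d F)) W ∧ Cfsg.Geo.IsPlusTypeOn (Cfsg.quadFormOdd d F) W}) :
    (∀ x : GL (Unit ⊕ (Fin d ⊕ Fin d)) F, x ∈ Cfsg.Geo.omegaGL (Cfsg.quadFormOdd d F) → orderOf x = p →
      ∃ W : Submodule F (Unit ⊕ (Fin d ⊕ Fin d) → F), (Module.finrank F ↥W = m ∧ Cfsg.Geo.IsNondegenerateOn (QuadraticMap.polar (Cfsg.quadFormOdd d F)) W ∧ Cfsg.Geo.IsPlusTypeOn (Cfsg.quadFormOdd d F) W) ∧ W.map (Matrix.toLin' (x : Matrix (Unit ⊕ (Fin d ⊕ Fin d)) (Unit ⊕ (Fin d ⊕ Fin d)) F)) ≤ W) →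
    (m % 4 = 0 ∧ (∀ μ : Multiset ℕ, (∀ e ∈ μ, 0 < e ∧ e ≤ p) → (∀ e : ℕ, Even e → Even (μ.count e)) → μ.sum = 2 * d + 1 →
        ∃ ν : Multiset ℕ, ν ≤ μ ∧ ν.sum = m ∧ ∀ e : ℕ, Even e → Even (ν.count e))) := by
  intro hall
  classical
  have hpq : p ∣ q := by
    rw [← hq]
    have h0 : ((Fintype.card F : ℕ) : F) = 0 := Nat.cast_card_eq_zero F
    exact (CharP.cast_eq_zero_iff F p _).mp h0
  have hp2 : p ≠ 2 := by
    rintro rfl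
    obtain ⟨t, ht⟩ := hqodd
    omega
  have hp3 : 3 ≤ p := by
    have := (Fact.out : p.Prime).two_le
    omega
  have h2 : (2 : F) ≠ 0 := by
    intro h
    have h3 : ((2 : ℕ) : F) = 0 := by exact_mod_cast h
    have h4 := (CharP.cast_eq_zero_iff F p 2).mp h3
    have h5 := (Nat.prime_dvd_prime_iff_eq (Fact.out : p.Prime) Nat.prime_two).mp h4
    exact hp2 h5
  have hcard : Fintype.card (Unit ⊕ (Fin d ⊕ Fin d)) = 2 * d + 1 := by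
    simp
    omega
  have hsecond : ∀ μ : Multiset ℕ, (∀ e ∈ μ, 0 < e ∧ e ≤ p) → (∀ e : ℕ, Even e → Even (μ.count e)) → μ.sum = 2 * d + 1 →
        ∃ ν : Multiset ℕ, ν ≤ μ ∧ ν.sum = m ∧ ∀ e : ℕ, Even e → Even (ν.count e) := by
    intro μ hμp hμe hμs
    by_cases hone : ∀ e ∈ μ, e = 1
    · exact omomain_ones μ (2 * d + 1) m hone hμs (by omega)
    · have hreal : RealQ (⇑(Cfsg.Agent.Lib.Helper16.qfOdd d F)) μ := by
        rw [Cfsg.Agent.Lib.Helper16.qfOdd_coe]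
        exact omo_real_odd h2 d μ (fun e he => (hμp e he).1) hμe hμs
      obtain ⟨x, hxΩ, hxp, hx1, hns, hxiso, hxK, hxty⟩ := omomain_key hp2 h2 (Cfsg.Agent.Lib.Helper16.qfOdd d F)
        (Cfsg.Agent.Lib.Helper16.OA.qfOdd_nondeg d h2) (by rw [hcard]; omega) μ hμp (by rw [hcard]; exact hμs) hreal hone
      have hord : orderOf x = p := orderOf_eq_prime hxp hx1
      rw [Cfsg.Agent.Lib.Helper16.qfOdd_coe] at hxΩ
      obtain ⟨W, ⟨hWm, hWnd, hWplus⟩, hxW⟩ := hall x hxΩ hord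
      have hNW : ∀ v ∈ W, (Matrix.toLin' (x : Matrix (Unit ⊕ (Fin d ⊕ Fin d)) (Unit ⊕ (Fin d ⊕ Fin d)) F) - 1) v ∈ W := by
        intro v hv
        rw [LinearMap.sub_apply]
        exact W.sub_mem (hxW (Submodule.mem_map_of_mem hv)) hv
      obtain ⟨ν, hνμ, hνs, hνe, -⟩ := omo_nec h2 (Cfsg.Agent.Lib.Helper16.qfOdd d F)
        (x : Matrix (Unit ⊕ (Fin d ⊕ Fin d)) (Unit ⊕ (Fin d ⊕ Fin d)) F) ⟨x, rfl⟩ hxiso p hxK μ (fun e he => (hμp e he).1) hxty W hWnd hxW hNW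
      exact ⟨ν, hνμ, by rw [hνs, hWm], hνe⟩
  exact ⟨omo_comb_odd p d m hp3 (by omega) hme hsecond, hsecond⟩

end Cfsg.Agent.S5995
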