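import Cfsg.Statements.S5996
import Cfsg.Agent.Lib.Helper9.OPHCONSTR
import Cfsg.Agent.Lib.Helper9.OPHSUBTYPE
import Cfsg.Agent.Lib.Helper10.OPHPARITY
import Cfsg.Agent.Lib.Lead.OPHCOMPL
import Cfsg.Agent.Lib.Helper16.SpinA

set_option autoImplicit false
open scoped MatrixGroups
open Cfsg

namespace Cfsg.Agent.S5996

open Module Cfsg.Agent.Lib.Helper9.OPH Cfsg.Agent.Lib.helper14.JTa

/-- `ty μ k ≤ μ.sum` -/
theorem ophmain_ty_le (μ : Multiset ℕ) (k : ℕ) : ty μ k ≤ μ.sum := by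
  unfold ty
  induction μ using Multiset.induction_on with
  | empty => simp
  | cons b μ ih =>
    rw [Multiset.map_cons, Multiset.sum_cons, Multiset.sum_cons]
    have : min b k ≤ b := min_le_left _ _
    omega

/-- if `ty μ 1 = μ.sum` and all parts are positive then all parts are `1` -/
theorem ophmain_all_one (μ : Multiset ℕ) (h0 : ∀ e ∈ μ, 0 < e) (h : ty μ 1 = μ.sum) : ∀ e ∈ μ, e = 1 := by
  intro e he
  by_contra hne
  obtain ⟨μ', rfl⟩ := Multiset.exists_cons_of_mem he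
  have h1 := ophmain_ty_le μ' 1
  unfold ty at h h1
  rw [Multiset.map_cons, Multiset.sum_cons, Multiset.sum_cons] at h
  have h3 : 0 < e := h0 e he
  have h4 : min e 1 = 1 := by omega
  omega

theorem result {F : Type*} [Field F] [Fintype F] {p : ℕ} [Fact p.Prime] [CharP F p] {q : ℕ} (hq : Fintype.card F = q) (hqodd : Odd q)
    (d m : ℕ) (hd : 4 ≤ d) (hm : 2 ≤ m) (hme : Even m) (hmd : m < d)
    (hpΩ : p ∣ Nat.card {W : Submodule F (Fin d ⊕ Fin d → F) // Module.finrank F ↥W = m ∧ Cfsg.Geo.IsNondegenerateOn (QuadraticMap.polar (Cfsg.quadFormPlus d F)) W ∧ Cfsg.Geo.IsPlusTypeOn (Cfsg.quadFormPlus d F) W}) :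
    (∀ x : GL (Fin d ⊕ Fin d) F, x ∈ Cfsg.Geo.omegaGL (Cfsg.quadFormPlus d F) →
      (∃ z : F, ((x ^ p : GL (Fin d ⊕ Fin d) F) : Matrix (Fin d ⊕ Fin d) (Fin d ⊕ Fin d) F) = z • (1 : Matrix (Fin d ⊕ Fin d) (Fin d ⊕ Fin d) F)) →
      (∀ z : F, (x : Matrix (Fin d ⊕ Fin d) (Fin d ⊕ Fin d) F) ≠ z • (1 : Matrix (Fin d ⊕ Fin d) (Fin d ⊕ Fin d) F)) →
      ∃ W : Submodule F (Fin d ⊕ Fin d → F), (Module.finrank F ↥W = m ∧ Cfsg.Geo.IsNondegenerateOn (QuadraticMap.polar (Cfsg.quadFormPlus d F)) W ∧ Cfsg.Geo.IsPlusTypeOn (Cfsg.quadFormPlus d F) W) ∧ W.map (Matrix.toLin' (x : Matrix (Fin d ⊕ Fin d) (Fin d ⊕ Fin d) F)) ≤ W) →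
    (∀ μ : Multiset ℕ, (∀ e ∈ μ, 0 < e ∧ e ≤ p) → (∀ e : ℕ, Even e → Even (μ.count e)) → μ.sum = 2 * d →
        ∃ ν : Multiset ℕ, ν ≤ μ ∧ ν.sum = m ∧ ∀ e : ℕ, Even e → Even (ν.count e)) := by
  intro hall μ hμp hμe hμs
  classical
  -- `p` is odd
  have hpq : p ∣ q := by
    rw [← hq]
    have h0 : ((Fintype.card F : ℕ) : F) = 0 := Nat.cast_card_eq_zero F
    exact (CharP.cast_eq_zero_iff F p _).mp h0
  have hp2 : p ≠ 2 := by
    rintro rfl
    obtain ⟨t, ht⟩ := hqodd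
    omega
  have h2 : (2 : F) ≠ 0 := by
    intro h
    have h3 : ((2 : ℕ) : F) = 0 := by exact_mod_cast h
    have h4 := (CharP.cast_eq_zero_iff F p 2).mp h3
    have h5 := (Nat.prime_dvd_prime_iff_eq (Fact.out : p.Prime) Nat.prime_two).mp h4
    exact hp2 h5
  by_cases hone : ∀ e ∈ μ, e = 1
  · -- the identity partition
    have hμ : μ = Multiset.replicate (Multiset.card μ) 1 := Multiset.eq_replicate_card.mpr hone
    have hcard : Multiset.card μ = 2 * d := by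
      rw [hμ] at hμs
      simpa using hμs
    refine ⟨Multiset.replicate m 1, ?_, ?_, ?_⟩
    · rw [hμ, hcard]
      exact (Multiset.replicate_le_replicate 1).mpr (by omega)
    · simp
    · intro e he
      rw [Multiset.count_replicate]
      split_ifs with h
      · subst h
        exact absurd he (by decide)
      · exact ⟨0, rfl⟩
  · obtain ⟨x, hxΩ, hxp, hxK, hxty⟩ := oph_constr (F := F) hp2 d (by omega) μ hμp hμe hμs
    -- `x` is an isometry
    have hxiso : ∀ v, Cfsg.quadFormPlus d F ((x : Matrix (Fin d ⊕ Fin d) (Fin d ⊕ Fin d) F).mulVec v) = Cfsg.quadFormPlus d F v := by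
      unfold Cfsg.Geo.omegaGL at hxΩ
      obtain ⟨g, -, rfl⟩ := hxΩ
      exact (Cfsg.Agent.Lib.Helper16.mem_iso_iff _ _).mp g.2
    -- `x` is not scalar
    have hns : ∀ z : F, (x : Matrix (Fin d ⊕ Fin d) (Fin d ⊕ Fin d) F) ≠ z • (1 : Matrix (Fin d ⊕ Fin d) (Fin d ⊕ Fin d) F) := by
      intro z hz
      apply hone
      apply ophmain_all_one μ (fun e he => (hμp e he).1)
      have hz1 : z = 1 := by
        rw [hz] at hxK
        have h3 : (z • (1 : Matrix (Fin d ⊕ Fin d) (Fin d ⊕ Fin d) F) - 1) = (z - 1) • (1 : Matrix (Fin d ⊕ Fin d) (Fin d ⊕ Fin d) F) := by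
          rw [sub_smul, one_smul]
        rw [h3, smul_pow, one_pow] at hxK
        have h4 := congrFun (congrFun hxK (Sum.inl ⟨0, by omega⟩)) (Sum.inl ⟨0, by omega⟩)
        rw [Matrix.smul_apply, Matrix.one_apply_eq, Matrix.zero_apply, smul_eq_mul, mul_one] at h4
        exact sub_eq_zero.mp (pow_eq_zero_iff (Fact.out : p.Prime).ne_zero |>.mp h4)
      have h5 := hxty 1
      rw [hz, hz1, one_smul, Matrix.toLin'_one] at h5
      have h6 : ((1 : Module.End F (Fin d ⊕ Fin d → F)) - 1) = 0 := sub_self _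
      rw [← h5, hμs]
      unfold dk
      have h7 : (LinearMap.id : (Fin d ⊕ Fin d → F) →ₗ[F] (Fin d ⊕ Fin d → F)) - 1 = 0 := sub_self _
      rw [h7, pow_one, LinearMap.ker_zero, finrank_top, Module.finrank_fintype_fun_eq_card]
      simp
      omega
    obtain ⟨W, ⟨hWm, hWnd, hWplus⟩, hxW⟩ := hall x hxΩ ⟨1, by rw [hxp]; simp⟩ hns
    obtain ⟨W', hcompl, hW'⟩ := oph_compl d (x : Matrix (Fin d ⊕ Fin d) (Fin d ⊕ Fin d) F)
      ⟨x, rfl⟩ hxiso W hWnd hxW
    have hNW : ∀ v ∈ W, (Matrix.toLin' (x : Matrix (Fin d ⊕ Fin d) (Fin d ⊕ Fin d) F) - 1) v ∈ W := by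
      intro v hv
      rw [LinearMap.sub_apply]
      exact W.sub_mem (hxW (Submodule.mem_map_of_mem hv)) hv
    have hNW' : ∀ v ∈ W', (Matrix.toLin' (x : Matrix (Fin d ⊕ Fin d) (Fin d ⊕ Fin d) F) - 1) v ∈ W' := by
      intro v hv
      rw [LinearMap.sub_apply]
      exact W'.sub_mem (hW' v hv) hv
    have hNK : (Matrix.toLin' (x : Matrix (Fin d ⊕ Fin d) (Fin d ⊕ Fin d) F) - 1) ^ p = 0 := by
      have h3 : Matrix.toLin' (x : Matrix (Fin d ⊕ Fin d) (Fin d ⊕ Fin d) F) - 1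
          = Matrix.toLin' ((x : Matrix (Fin d ⊕ Fin d) (Fin d ⊕ Fin d) F) - 1) := by
        rw [map_sub, Matrix.toLin'_one]
        rfl
      rw [h3, ← Matrix.toLin'_pow, hxK, map_zero]
    obtain ⟨ν, hνμ, hνs, hνc⟩ := oph_sub_type _ μ hxty W W' hcompl hNW hNW' p hNK
    refine ⟨ν, hνμ, by rw [hνs, hWm], ?_⟩
    intro e he
    rcases e with _ | k
    · have h3 : ν.count 0 ≤ μ.count 0 := Multiset.count_le_of_le 0 hνμ
      have h4 : μ.count 0 = 0 := Multiset.count_eq_zero.mpr (fun h => by have := (hμp 0 h).1; omega)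
      rw [show ν.count 0 = 0 by omega]
      exact ⟨0, rfl⟩
    · have hk : Odd k := by
        rcases Nat.even_or_odd k with h | h
        · exact absurd he (by rw [Nat.even_add_one]; exact not_not.mpr h)
        · exact h
      have hk2 : Odd (k + 2) := by
        obtain ⟨t, ht⟩ := hk
        exact ⟨t + 1, by omega⟩
      have p1 := oph_parity_sub h2 d _ hxiso W hWnd hNW p hxK k hk
      have p2 := oph_parity_sub h2 d _ hxiso W hWnd hNW p hxK (k + 2) hk2
      have hc := hνc k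
      obtain ⟨t1, ht1⟩ := p1
      obtain ⟨t2, ht2⟩ := p2
      exact ⟨(dk ((Matrix.toLin' (x : Matrix (Fin d ⊕ Fin d) (Fin d ⊕ Fin d) F) - 1).restrict hNW) (k + 1)) + finrank F W - t1 - t2, by omega⟩

end Cfsg.Agent.S5996
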