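import Mathlib
import Cfsg.Statements.S5997
import Cfsg.Agent.Lib.Helper19.Q8Norm5
-- import your own Cfsg.Agent.* helpers here

set_option autoImplicit false
open scoped MatrixGroups
open Cfsg

namespace Cfsg.Agent.S5997

/-- Elements of prime order of PSL_2(p) and the normalizer of a quaternion subgroup. Here `T = PSL_2(F)` for the field `F` with `p` elements, `p ≥ 5` prime; `R` is a subgroup of GL_2(F) isomorphic to the quaternion group of order 8 (an absolutely irreducible 2-group of symplectic type), and `H` is the subgroup of matrices of determinant 1 normalizing `R` — a subgroup of type 2^{1+2}.O₂⁻(2), isomorphic modulo scalars to A₄ or S₄ (maximality is not assumed). Ω is the set of cosets of `H` in `T`, so an element of `T` of prime order `r` (a matrix `x` of determinant 1 with `x^r` scalar, `x` not scalar) fixes a point of Ω exactly when some conjugate of `x` by a matrix of determinant 1 normalizes `R`. Let `r` be a prime dividing the index of `H`. Then every element of `T` of order `r` fixes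 a point of Ω if and only if `r = 2` or `r = 3`. -/
theorem result {F : Type*} [Field F] [Fintype F] {p : ℕ} [Fact p.Prime] [CharP F p] (hF : Fintype.card F = p) (hp : 5 ≤ p)
    (R : Subgroup (GL (Fin 2) F)) (hR : Nonempty (↥R ≃* QuaternionGroup 2))
    (r : ℕ) [Fact r.Prime]
    (hΩ : r ∣ (Cfsg.Geo.subgroupNormalizer R).relIndex (Cfsg.Geo.specialLinear (Fin 2) F)) :
    (∀ x ∈ Cfsg.Geo.specialLinear (Fin 2) F, (∃ z : F, ((x ^ r : GL (Fin 2) F) : Matrix (Fin 2) (Fin 2) F) = z • (1 : Matrix (Fin 2) (Fin 2) F)) →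
      (∀ z : F, (x : Matrix (Fin 2) (Fin 2) F) ≠ z • (1 : Matrix (Fin 2) (Fin 2) F)) →
      ∃ g ∈ Cfsg.Geo.specialLinear (Fin 2) F, g⁻¹ * x * g ∈ Cfsg.Geo.subgroupNormalizer R) ↔ (r = 2 ∨ r = 3) := by
  classical
  have hpp : p.Prime := Fact.out
  have h2 : (2 : F) ≠ 0 := by
    intro h
    have h' : ((2 : ℕ) : F) = 0 := by exact_mod_cast h
    have := (CharP.cast_eq_zero_iff F p 2).1 h'
    have := Nat.le_of_dvd (by norm_num) this
    omega
  have h3 : (3 : F) ≠ 0 := by
    intro h
    have h' : ((3 : ℕ) : F) = 0 := by exact_mod_cast h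
    have := (CharP.cast_eq_zero_iff F p 3).1 h'
    have := Nat.le_of_dvd (by norm_num) this
    omega
  have hodd : Fintype.card F % 2 = 1 := by
    rw [hF]
    rcases hpp.eq_two_or_odd with h | h
    · omega
    · exact h
  obtain ⟨q⟩ := Cfsg.Agent.Lib.Helper19.Q8Norm.exists_qpair h2 R hR
  have hrp : r.Prime := Fact.out
  constructor
  · intro hall
    by_contra hcon
    have hr2 : r ≠ 2 := fun h => hcon (Or.inl h)
    have hr3 : r ≠ 3 := fun h => hcon (Or.inr h)
    have hdvd : r ∣ Nat.card ↥(Cfsg.Geo.specialLinear (Fin 2) F) :=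
      hΩ.trans (Subgroup.relIndex_dvd_card _ _)
    obtain ⟨⟨x, hxS⟩, hxo⟩ := exists_prime_orderOf_dvd_card' r hdvd
    have hxo' : orderOf x = r := by
      rw [← hxo]
      exact (Subgroup.orderOf_mk x hxS).symm
    have hxr : x ^ r = 1 := by rw [← hxo']; exact pow_orderOf_eq_one x
    have hd := Cfsg.Agent.Lib.Helper19.Q8Norm.det_val_of_mem_ker x hxS
    have hns : ∀ z : F, (x : Matrix (Fin 2) (Fin 2) F) ≠ z • (1 : Matrix (Fin 2) (Fin 2) F) := by
      intro z hz
      have hzz : z * z = 1 := by
        rw [hz, Cfsg.Agent.Lib.Helper19.Q8Norm.det_smul2, Matrix.det_one, mul_one] at hd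
        exact hd
      have hx2 : x ^ 2 = 1 := by
        apply Units.ext
        rw [pow_two, Units.val_mul, hz, Matrix.smul_mul, Matrix.one_mul, smul_smul, hzz, one_smul, Units.val_one]
      have := orderOf_dvd_of_pow_eq_one hx2
      rw [hxo'] at this
      exact hr2 ((Nat.prime_dvd_prime_iff_eq hrp Nat.prime_two).1 this)
    obtain ⟨g, hgS, hg⟩ := hall x hxS ⟨1, by rw [hxr, one_smul, Units.val_one]⟩ hns
    have hyr : (g⁻¹ * x * g) ^ r = 1 := by
      have : g⁻¹ * x * g = g⁻¹ * x * g⁻¹⁻¹ := by rw [inv_inv]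
      rw [this, conj_pow, hxr, mul_one, inv_inv, inv_mul_cancel]
    obtain ⟨s, hs⟩ := q.scalar_of_prime_order h2 (g⁻¹ * x * g) hg r hyr hr2 hr3
    apply hns s
    have hx : x = g * (g⁻¹ * x * g) * g⁻¹ := by group
    rw [hx, Units.val_mul, Units.val_mul, hs, Matrix.mul_smul, Matrix.mul_one, Matrix.smul_mul, ← Units.val_mul,
      mul_inv_cancel, Units.val_one]
  · rintro (rfl | rfl)
    · intro x hx hsc hns
      exact q.fix_two h2 hodd x hx hsc hns
    · intro x hx hsc hns
      exact q.fix_three h2 h3 hodd x hx hsc hns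

end Cfsg.Agent.S5997
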