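import Cfsg.Statements.S5999

import Cfsg.Agent.Lib.helper15.ESU3
import Cfsg.Agent.Lib.helper15.ESU4
import Cfsg.Agent.Lib.helper15.ES8
import Cfsg.Agent.Lib.helper15.SN6
set_option autoImplicit false
open scoped MatrixGroups
open Cfsg

namespace Cfsg.Agent.S5999

/-- Elements of prime order of PSU_3(p), p ≡ 2 (mod 3), and the normalizer of an extraspecial subgroup of order 27. Here `T = PSU_3(p)` for a prime `p ≥ 5` with `p ≡ 2 (mod 3)`, realised through `SU_3(p)`, the matrices of determinant 1 over the field `F` with `p²` elements preserving the hermitian form `Σ uᵢvᵢ^p`; `R` is a non-abelian subgroup of order 27 and exponent 3 of the full unitary group of that form (an extraspecial group 3^{1+2}, acting absolutely irreducibly), and `H` is the subgroup of `SU_3(p)` normalizing `R` — a subgroup of type 3^{1+2}.Sp₂(3) (maximality is not assumed). Ω is the set of cosets of `H`, so an element of `T` of prime order `r` (`x ∈ SU_3(p)` with `x^r` scalar, `x`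 not scalar) fixes a point of Ω exactly when some `SU_3(p)`-conjugate of `x` normalizes `R`. Let `r` be a prime dividing the index of `H`. Then every element of `T` of order `r` fixes a point of Ω if and only if `r = 2`, or `r = 3` and `p ≡ 8 (mod 9)`. -/
theorem result {F : Type*} [Field F] [Fintype F] {p : ℕ} [Fact p.Prime] [CharP F p] (hF : Fintype.card F = p ^ 2) (hp : 5 ≤ p) (hp3 : p % 3 = 2)
    (R : Subgroup (GL (Fin 3) F)) (hRU : R ≤ Cfsg.GU 3 F p) (hR : Nat.card R = 27) (hRe : Monoid.exponent R = 3) (hRna : ¬ IsMulCommutative R)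
    (r : ℕ) [Fact r.Prime]
    (hΩ : r ∣ (Cfsg.Geo.subgroupNormalizer R).relIndex (Cfsg.GU 3 F p ⊓ Cfsg.Geo.specialLinear (Fin 3) F)) :
    (∀ x ∈ Cfsg.GU 3 F p ⊓ Cfsg.Geo.specialLinear (Fin 3) F, (∃ z : F, ((x ^ r : GL (Fin 3) F) : Matrix (Fin 3) (Fin 3) F) = z • (1 : Matrix (Fin 3) (Fin 3) F)) →
      (∀ z : F, (x : Matrix (Fin 3) (Fin 3) F) ≠ z • (1 : Matrix (Fin 3) (Fin 3) F)) →
      ∃ g ∈ Cfsg.GU 3 F p ⊓ Cfsg.Geo.specialLinear (Fin 3) F, g⁻¹ * x * g ∈ Cfsg.Geo.subgroupNormalizer R) ↔ (r = 2 ∨ (r = 3 ∧ p % 9 = 8)) := by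
  classical
  have hp' : p.Prime := Fact.out
  have hrp : r.Prime := Fact.out
  obtain ⟨σ, hσ⟩ := Cfsg.Agent.Lib.Lead.exists_frob hF
  have hσσ := Cfsg.Agent.Lib.Lead.frob_frob hF σ hσ
  have h3 : (3 : F) ≠ 0 := by
    intro h0
    have h1 : ((3 : ℕ) : F) = 0 := by exact_mod_cast h0
    have h2 := (CharP.cast_eq_zero_iff F p 3).mp h1
    have h4 := (Nat.prime_dvd_prime_iff_eq hp' Nat.prime_three).mp h2
    omega
  have h2 : (2 : F) ≠ 0 := by
    intro h0
    have h1 : ((2 : ℕ) : F) = 0 := by exact_mod_cast h0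
    have h2' := (CharP.cast_eq_zero_iff F p 2).mp h1
    have h4 := (Nat.prime_dvd_prime_iff_eq hp' Nat.prime_two).mp h2'
    omega
  have hp1 : 1 ≤ p := hp'.one_lt.le
  obtain ⟨k, hk⟩ : ∃ k, p = 3 * k + 2 := ⟨p / 3, by omega⟩
  have hσ3 : ∀ c : F, c ^ 3 = 1 → σ c = c ^ 2 := by
    intro c hc
    rw [hσ, hk, pow_add, pow_mul, hc, one_pow, one_mul]
  have hn3 : ∀ c : F, c ^ 3 = 1 → c * σ c = 1 := by
    intro c hc
    rw [hσ3 c hc, ← pow_succ', hc]
  obtain ⟨w, hw⟩ : ∃ w : F, w ^ 2 + w + 1 = 0 := by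
    have h3dvd : 3 ∣ Fintype.card Fˣ := by
      rw [Fintype.card_units, hF, hk]
      have : (3 * k + 2) ^ 2 - 1 = 3 * (3 * k ^ 2 + 4 * k + 1) := by
        apply Nat.sub_eq_of_eq_add
        ring
      rw [this]
      exact Dvd.intro _ rfl
    have : Fact (Nat.Prime 3) := ⟨Nat.prime_three⟩
    obtain ⟨u, hu⟩ := exists_prime_orderOf_dvd_card 3 h3dvd
    have hu3 : (u : F) ^ 3 = 1 := by
      have h1 : u ^ 3 = 1 := by rw [← hu]; exact pow_orderOf_eq_one u
      have := congrArg Units.val h1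
      simpa using this
    have hu1 : (u : F) ≠ 1 := by
      intro h
      have h1 : u = 1 := Units.ext h
      rw [h1, orderOf_one] at hu
      omega
    refine ⟨(u : F), ?_⟩
    have h1 : ((u : F) - 1) * ((u : F) ^ 2 + (u : F) + 1) = 0 := by
      have : ((u : F) - 1) * ((u : F) ^ 2 + (u : F) + 1) = (u : F) ^ 3 - 1 := by ring
      rw [this, hu3, sub_self]
    exact (mul_eq_zero.mp h1).resolve_left (sub_ne_zero.mpr hu1)
  obtain ⟨B, ω, gx, gy, hBU, hstd⟩ := Cfsg.Agent.Lib.helper15.ES.exists_std_U σ hF hσ hσσ w hw h3 hσ3 R hRU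
    hR hRe hRna
  obtain ⟨hω3, hω1, hω21, hω2ω, hω0⟩ := Cfsg.Agent.Lib.helper15.SN.omega_facts ω hstd.hω hstd.h3
  have hdet_of_mem : ∀ x : GL (Fin 3) F, x ∈ Cfsg.Geo.specialLinear (Fin 3) F →
      (x : Matrix (Fin 3) (Fin 3) F).det = 1 := by
    intro x hx
    have h1 : Matrix.GeneralLinearGroup.det x = 1 := hx
    have := congrArg Units.val h1
    rwa [Matrix.GeneralLinearGroup.val_det_apply, Units.val_one] at this
  have hmem_of_det : ∀ x : GL (Fin 3) F, (x : Matrix (Fin 3) (Fin 3) F).det = 1 →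
      x ∈ Cfsg.Geo.specialLinear (Fin 3) F := by
    intro x hx
    show Matrix.GeneralLinearGroup.det x = 1
    apply Units.ext
    rw [Matrix.GeneralLinearGroup.val_det_apply, Units.val_one]
    exact hx
  have hBdet : (B : Matrix (Fin 3) (Fin 3) F).det ≠ 0 :=
    ((Matrix.isUnit_iff_isUnit_det _).mp B.isUnit).ne_zero
  constructor
  · intro hall
    by_contra hne
    by_cases hr3 : r = 3
    · subst hr3
      have hq : p % 9 = 2 ∨ p % 9 = 5 := by
        have : ¬ p % 9 = 8 := fun h => hne (Or.inr ⟨rfl, h⟩)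
        omega
      have hRSL : R ≤ Cfsg.Geo.specialLinear (Fin 3) F := by
        intro g hg
        have h1 := hstd.det_eq_one _ (Subgroup.mem_map_of_mem (MulAut.conj B⁻¹).toMonoidHom hg)
        apply hmem_of_det
        have e : (MulAut.conj B⁻¹).toMonoidHom g = B⁻¹ * g * B := by simp
        rw [e, Units.val_mul, Units.val_mul, Matrix.det_mul, Matrix.det_mul] at h1
        have hBB : ((B⁻¹ : GL (Fin 3) F) : Matrix (Fin 3) (Fin 3) F).det *
            (B : Matrix (Fin 3) (Fin 3) F).det = 1 := by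
          rw [← Matrix.det_mul, ← Units.val_mul, inv_mul_cancel, Units.val_one, Matrix.det_one]
        have : (g : Matrix (Fin 3) (Fin 3) F).det *
            (((B⁻¹ : GL (Fin 3) F) : Matrix (Fin 3) (Fin 3) F).det * (B : Matrix (Fin 3) (Fin 3) F).det) = 1 := by
          rw [← h1]; ring
        rwa [hBB, mul_one] at this
      exact Cfsg.Agent.Lib.helper15.ES.index_contra3U hF R hR (le_inf hRU hRSL) hq hΩ
    · have hr2 : r ≠ 2 := fun h => hne (Or.inl h)
      have hdvd : r ∣ Nat.card (Cfsg.GU 3 F p ⊓ Cfsg.Geo.specialLinear (Fin 3) F :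
          Subgroup (GL (Fin 3) F)) :=
        dvd_trans hΩ (Subgroup.relIndex_dvd_card _ _)
      obtain ⟨x, hx⟩ := exists_prime_orderOf_dvd_card' r hdvd
      have hxr : ((x : GL (Fin 3) F)) ^ r = 1 := by
        have h1 : x ^ r = 1 := by rw [← hx]; exact pow_orderOf_eq_one x
        have := congrArg Subtype.val h1
        simpa using this
      have hxdet := hdet_of_mem (x : GL (Fin 3) F) x.2.2
      have hns : ∀ c : F, ((x : GL (Fin 3) F) : Matrix (Fin 3) (Fin 3) F) ≠
          c • (1 : Matrix (Fin 3) (Fin 3) F) := by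
        intro c hc
        have hc3 : c ^ 3 = 1 := by
          rw [hc, Matrix.det_smul, Matrix.det_one, mul_one, Fintype.card_fin] at hxdet
          exact hxdet
        have hcr : c ^ r = 1 := by
          have h1 := congrArg Units.val hxr
          rw [Units.val_pow_eq_pow_val, hc, smul_pow, one_pow, Units.val_one] at h1
          have h00 := congrFun (congrFun h1 0) 0
          simpa using h00
        have hc1 : c = 1 := by
          have hcop : Nat.Coprime 3 r := by
            rw [Nat.coprime_primes Nat.prime_three hrp]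
            exact fun h => hr3 h.symm
          have h1 : orderOf c ∣ 1 := by
            rw [← Nat.Coprime.gcd_eq_one hcop]
            exact Nat.dvd_gcd (orderOf_dvd_of_pow_eq_one hc3) (orderOf_dvd_of_pow_eq_one hcr)
          exact orderOf_eq_one_iff.mp (Nat.dvd_one.mp h1)
        have hx1 : x = 1 := by
          apply Subtype.ext
          apply Units.ext
          rw [hc, hc1, one_smul]; rfl
        rw [hx1, orderOf_one] at hx
        exact hrp.one_lt.ne hx
      obtain ⟨g, hgSL, hgN⟩ := hall (x : GL (Fin 3) F) x.2 ⟨1, by rw [hxr, one_smul]; rfl⟩ hns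
      set T : GL (Fin 3) F := g⁻¹ * (x : GL (Fin 3) F) * g with hT
      have hfT : (MulAut.conj B⁻¹).toMonoidHom T ∈ Subgroup.normalizer
          ((R.map (MulAut.conj B⁻¹).toMonoidHom : Subgroup (GL (Fin 3) F)) : Set (GL (Fin 3) F)) := by
        rw [← Subgroup.map_equiv_normalizer_eq]
        exact Subgroup.mem_map_of_mem _ hgN
      have hTr : T ^ r = 1 := by
        have e0 : g⁻¹ * (x : GL (Fin 3) F) * g = g⁻¹ * (x : GL (Fin 3) F) * (g⁻¹)⁻¹ := by rw [inv_inv]
        rw [hT, e0, conj_pow, hxr]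
        group
      have hfTr : (((MulAut.conj B⁻¹).toMonoidHom T ^ r : GL (Fin 3) F) : Matrix (Fin 3) (Fin 3) F) =
          (1 : F) • (1 : Matrix (Fin 3) (Fin 3) F) := by
        rw [← map_pow, hTr, map_one, one_smul]; rfl
      obtain ⟨c', hc'⟩ := Cfsg.Agent.Lib.helper15.ES.std_no_big_prime hstd r hr2 hr3 _ hfT 1 hfTr
      apply hns c'
      have e : (x : GL (Fin 3) F) = (g * B) * ((MulAut.conj B⁻¹).toMonoidHom T) * (g * B)⁻¹ := by
        have e1 : (MulAut.conj B⁻¹).toMonoidHom T = B⁻¹ * T * B := by simp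
        rw [e1, hT]
        group
      rw [e]
      exact Cfsg.Agent.Lib.helper15.ES.conj_scalar _ _ c' hc'
  · rintro (hr | ⟨hr, h9⟩)
    · subst hr
      intro x hxK ⟨z, hz⟩ hns
      have hx2 : (x : Matrix (Fin 3) (Fin 3) F) * (x : Matrix (Fin 3) (Fin 3) F) =
          z • (1 : Matrix (Fin 3) (Fin 3) F) := by
        rw [← hz, Units.val_pow_eq_pow_val, pow_two]
      obtain ⟨Q, s', c, hc3, hs'v, hs'N, hQ⟩ :=
        Cfsg.Agent.Lib.helper15.ES.std_r2' hstd h2 x (hdet_of_mem x hxK.2) z hx2 hns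
      have hs'U : s' ∈ Cfsg.GU 3 F p := by
        rw [Cfsg.Agent.Lib.helper15.ES.mem_GU_iff_isU σ hσ, hs'v]
        exact Cfsg.Agent.Lib.helper15.ES.isU_smul σ (Cfsg.Agent.Lib.helper15.ES.isU_J0 σ) c (hn3 c hc3)
      apply Cfsg.Agent.Lib.helper15.ES.finish σ hF hσ R B x s' Q hBU hxK.1 hs'U hs'N hQ
      intro t
      rw [hs'v, Matrix.smul_mul, Matrix.mul_smul, Cfsg.Agent.Lib.helper15.ES.comm_J0]
    · subst hr
      intro x hxK ⟨z, hz⟩ hns
      have hx3 : (x : Matrix (Fin 3) (Fin 3) F) ^ 3 = z • (1 : Matrix (Fin 3) (Fin 3) F) := by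
        rw [← hz, Units.val_pow_eq_pow_val]
      obtain ⟨j, hj⟩ : ∃ j, p = 9 * j + 8 := ⟨p / 9, by omega⟩
      have h9' : 9 ∣ Fintype.card F - 1 := by
        rw [hF, hj]
        have : (9 * j + 8) ^ 2 - 1 = 9 * (9 * j ^ 2 + 16 * j + 7) := by
          apply Nat.sub_eq_of_eq_add
          ring
        rw [this]
        exact Dvd.intro _ rfl
      obtain ⟨η, hη9, hη3⟩ := Cfsg.Agent.Lib.helper15.SN.exists_orderOf_nine (F := F) h9'
      have hn9 : ∀ c : F, c ^ 9 = 1 → c * σ c = 1 := by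
        intro c hc
        rw [hσ, ← pow_succ', hj]
        have : 9 * j + 8 + 1 = 9 * (j + 1) := by ring
        rw [this, pow_mul, hc, one_pow]
      obtain ⟨Q, s', c, M, hc9, hs'v, hM, hs'N, hQ⟩ :=
        Cfsg.Agent.Lib.helper15.ES.std_r3' hstd η hη9 hη3 x (hdet_of_mem x hxK.2) z hx3 hns
      have hωU : ω * σ ω = 1 := hn3 ω hω3
      have hMU : Cfsg.Agent.Lib.helper15.ES.IsU σ M := by
        rcases hM with rfl | rfl | rfl
        · exact Cfsg.Agent.Lib.helper15.ES.isU_X0 σ ω hωU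
        · exact Cfsg.Agent.Lib.helper15.ES.isU_D0 σ ω hωU
        · exact Cfsg.Agent.Lib.helper15.ES.isU_mul σ (Cfsg.Agent.Lib.helper15.ES.isU_D0 σ ω hωU)
            (Cfsg.Agent.Lib.helper15.ES.isU_D0 σ ω hωU)
      have hs'U : s' ∈ Cfsg.GU 3 F p := by
        rw [Cfsg.Agent.Lib.helper15.ES.mem_GU_iff_isU σ hσ, hs'v]
        exact Cfsg.Agent.Lib.helper15.ES.isU_smul σ hMU c (hn9 c hc9)
      apply Cfsg.Agent.Lib.helper15.ES.finish σ hF hσ R B x s' Q hBU hxK.1 hs'U hs'N hQ
      intro t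
      rw [hs'v, Matrix.smul_mul, Matrix.mul_smul]
      congr 1
      rcases hM with rfl | rfl | rfl
      · exact Cfsg.Agent.Lib.helper15.ES.comm_X0 ω t
      · exact Cfsg.Agent.Lib.helper15.ES.comm_D0 ω t
      · rw [Matrix.mul_assoc, Cfsg.Agent.Lib.helper15.ES.comm_D0, ← Matrix.mul_assoc,
          Cfsg.Agent.Lib.helper15.ES.comm_D0, Matrix.mul_assoc]

end Cfsg.Agent.S5999
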