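import Cfsg.Statements.S6000
import Cfsg.Agent.Lib.Helper10.C6P.Defs
import Cfsg.Agent.Lib.Helper29.C6PS9
import Cfsg.Agent.Lib.Helper29.C6PBSTD
import Cfsg.Agent.Lib.Lead.C6PBCTX
import Cfsg.Agent.Lib.Helper5.C6PGBIG
import Cfsg.Agent.Lib.Helper5.C6PG3
import Cfsg.Agent.Lib.Helper5.C6PG5A
import Cfsg.Agent.Lib.Helper5.C6PG5B
import Cfsg.Agent.Lib.Helper10.C6PSUFF

set_option autoImplicit false
open scoped MatrixGroups
open Cfsg

namespace Cfsg.Agent.S6000

theorem c6pmain_ord2 : orderOf (2 : ZMod 5) = 4 := by
  rw [orderOf_eq_iff (by norm_num)]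
  refine ⟨by decide, ?_⟩
  intro m hm hm0
  interval_cases m <;> decide

theorem c6pmain_ord3 : orderOf (3 : ZMod 5) = 4 := by
  rw [orderOf_eq_iff (by norm_num)]
  refine ⟨by decide, ?_⟩
  intro m hm hm0
  interval_cases m <;> decide


open Cfsg.Agent.Lib.Helper10.C6P in
/-- Elements of prime order of PSL_4(p), p ≡ 1 (mod 4), and the normalizer of a 2-group of symplectic type of order 2⁶. Here `T = PSL_4(F)` for the field `F` with `p` elements, `p` a prime with `p ≡ 1 (mod 4)`; `R` is an absolutely irreducible subgroup of GL_4(F) of order 2⁶ that is a 2-group of symplectic type of exponent 4 with centre of order 4 (the central product of the scalars of order 4 with an extraspecial group 2^{1+4}), and `H` is the subgroup of matrices of determinant 1 normalizing `R` — a subgroup of type 2⁴.Sp₄(2) (maximality is not assumed). Ω is the set of cosets of `H` in `T`, so an element of `T` of prime order `r` (a matrix `x` of determinant 1 with `x^r` scalar, `x` not scalar) fixes a point of Ω exactly when some conjugate of `x`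 by a matrix of determinant 1 normalizes `R`. Let `r` be a prime dividing the index of `H`. Then every element of `T` of order `r` fixes a point of Ω if and only if `r = 2`, or `r = 3` and `p ≡ 2 (mod 3)`, or `r = 5` and `p ≡ ±2 (mod 5)` (`p` has multiplicative order 4 modulo 5). -/
theorem result {F : Type*} [Field F] [Fintype F] {p : ℕ} [Fact p.Prime] [CharP F p] (hF : Fintype.card F = p) (hp4 : p % 4 = 1)
    (R : Subgroup (GL (Fin 4) F)) (hR : Cfsg.Geo.IsLinearSymplecticTypeData 2 R) (hR6 : Nat.card R = 2 ^ 6)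
    (r : ℕ) [Fact r.Prime]
    (hΩ : r ∣ (Cfsg.Geo.subgroupNormalizer R).relIndex (Cfsg.Geo.specialLinear (Fin 4) F)) :
    (∀ x ∈ Cfsg.Geo.specialLinear (Fin 4) F, (∃ z : F, ((x ^ r : GL (Fin 4) F) : Matrix (Fin 4) (Fin 4) F) = z • (1 : Matrix (Fin 4) (Fin 4) F)) →
      (∀ z : F, (x : Matrix (Fin 4) (Fin 4) F) ≠ z • (1 : Matrix (Fin 4) (Fin 4) F)) →
      ∃ g ∈ Cfsg.Geo.specialLinear (Fin 4) F, g⁻¹ * x * g ∈ Cfsg.Geo.subgroupNormalizer R) ↔ (r = 2 ∨ (r = 3 ∧ p % 3 = 2) ∨ (r = 5 ∧ orderOf (p : ZMod 5) = 4)) := by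
  classical
  have hp : p.Prime := Fact.out
  have hrp : r.Prime := Fact.out
  have hp5 : 5 ≤ p := by
    have h2 := hp.two_le
    by_contra hlt
    have : p = 2 ∨ p = 3 ∨ p = 4 := by omega
    rcases this with h | h | h <;> rw [h] at hp4 <;> omega
  have h2F : (2 : F) ≠ 0 := by
    intro h0
    have h1 : ((2 : ℕ) : F) = 0 := by exact_mod_cast h0
    have h2' := (CharP.cast_eq_zero_iff F p 2).mp h1
    have h4 := (Nat.prime_dvd_prime_iff_eq hp Nat.prime_two).mp h2'
    omega
  obtain ⟨i, P, hi, hP⟩ := c6p_std hF hp4 R hR hR6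
  have hctx : RCtx i R := rctx_of_std hF hp4 R hR hR6 i P hi hP
  have hstd : HasStd i R := has_std R i P hi hP
  have hdvd : r ∣ Nat.card (Cfsg.Geo.specialLinear (Fin 4) F) :=
    dvd_trans hΩ (Subgroup.relIndex_dvd_card _ _)
  show AllFix R r ↔ _
  constructor
  · intro hall
    by_contra hne
    push Not at hne
    obtain ⟨hr2, hr3', hr5'⟩ := hne
    by_cases hr3 : r = 3
    · subst hr3
      have hp3 : p % 3 = 1 := by
        have h3 : p % 3 ≠ 2 := hr3' rfl
        have h0 : p % 3 ≠ 0 := by
          intro h0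
          have hd : 3 ∣ p := Nat.dvd_of_mod_eq_zero h0
          have := (Nat.prime_dvd_prime_iff_eq Nat.prime_three hp).mp hd
          omega
        omega
      exact nec_three hF hp4 hp3 hctx hall
    · by_cases hr5 : r = 5
      · subst hr5
        have hord : orderOf (p : ZMod 5) ≠ 4 := hr5' rfl
        by_cases hpe : p = 5
        · exact nec_five_b hF hpe hctx hall
        · have hp5' : p % 5 = 1 ∨ p % 5 = 4 := by
            have h0 : p % 5 ≠ 0 := by
              intro h0
              have hd : 5 ∣ p := Nat.dvd_of_mod_eq_zero h0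
              have := (Nat.prime_dvd_prime_iff_eq (by norm_num : Nat.Prime 5) hp).mp hd
              omega
            by_contra hcon
            push Not at hcon
            apply hord
            have hcases : p % 5 = 2 ∨ p % 5 = 3 := by omega
            have hcast : ((p : ℕ) : ZMod 5) = ((p % 5 : ℕ) : ZMod 5) := by
              rw [ZMod.natCast_eq_natCast_iff']
              simp
            rw [hcast]
            rcases hcases with h | h <;> rw [h]
            · have : ((2 : ℕ) : ZMod 5) = 2 := by norm_num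
              rw [this]; exact c6pmain_ord2
            · have : ((3 : ℕ) : ZMod 5) = 3 := by norm_num
              rw [this]; exact c6pmain_ord3
          exact nec_five_a hF hp4 hp5' hctx hall
      · exact nec_big hF hctx r hr2 hr3 hr5 hdvd hall
  · rintro (hr | ⟨hr, h3⟩ | ⟨hr, h5⟩)
    · subst hr; exact c6pfin_suff_two hF hp4 hctx hstd
    · subst hr; exact c6pfin_suff_three hF hp4 h3 hctx hstd
    · subst hr; exact c6pfin_suff_five hF hp4 h5 hctx hstd

end Cfsg.Agent.S6000
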